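import Cfsg.Statements.S0142
import Cfsg.Agent.Lib.Helper6.RootAvg
import Cfsg.Agent.Lib.Helper6.DegreeDvd

set_option autoImplicit false
open Cfsg

namespace Cfsg.Agent.S0142

/-- If the degree of an irreducible complex representation of a finite group is coprime to the size of the conjugacy class of g, then the character at g is zero or has absolute value equal to the degree. -/
theorem result {G : Type*} [Group G] [Finite G] {V : Type*} [AddCommGroup V] [Module ℂ V] [FiniteDimensional ℂ V] (ρ : Representation ℂ G V) [ρ.IsIrreducible] (g : G) (hcop : Nat.Coprime (Module.finrank ℂ V) (Subgroup.centralizer ({g} : Set G)).index) : ρ.character g = 0 ∨ ‖ρ.character g‖ = (Module.finrank ℂ V : ℝ) := by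
  classical
  have : Fintype G := Fintype.ofFinite G
  obtain ⟨ι, _, b, μ, h, hμ⟩ := Cfsg.Agent.Lib.Helper6.exists_eigenbasis_rep ρ g
  have hcard : Module.finrank ℂ V = Fintype.card ι := Module.finrank_eq_card_basis b
  have hchar : ρ.character g = ∑ i, μ i := by
    unfold Representation.character
    rw [Cfsg.Agent.Lib.Helper6.trace_eq_sum_of_eigenbasis b μ _ h]
  set n := Module.finrank ℂ V with hn
  set c := (Subgroup.centralizer ({g} : Set G)).index with hc
  have hnt : Nontrivial V := by
    by_contra hV
    rw [not_nontrivial_iff_subsingleton] at hV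
    have : (⊥ : Subrepresentation ρ) = ⊤ := by
      apply Subrepresentation.toSubmodule_injective
      exact Subsingleton.elim _ _
    exact bot_ne_top this
  have hpos : n ≠ 0 := (Module.finrank_pos (R := ℂ) (M := V)).ne'
  have hposc : (n : ℂ) ≠ 0 := by exact_mod_cast hpos
  have h1 : IsIntegral ℤ ((c : ℂ) * ρ.character g / (n : ℂ)) :=
    Cfsg.Agent.Lib.Helper6.isIntegral_centralChar ρ g
  have h2 : IsIntegral ℤ (ρ.character g) := Cfsg.Agent.Lib.Helper6.isIntegral_character ρ g
  -- Bezout
  have hbez : (n : ℤ) * Nat.gcdA n c + (c : ℤ) * Nat.gcdB n c = 1 := by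
    have := Nat.gcd_eq_gcd_ab n c
    rw [Nat.Coprime] at hcop
    rw [hcop] at this
    exact_mod_cast this.symm
  have h3 : IsIntegral ℤ (ρ.character g / (n : ℂ)) := by
    have e : ρ.character g / (n : ℂ)
        = ((Nat.gcdA n c : ℤ) : ℂ) * ρ.character g
          + ((Nat.gcdB n c : ℤ) : ℂ) * ((c : ℂ) * ρ.character g / (n : ℂ)) := by
      have hb : ((n : ℂ)) * ((Nat.gcdA n c : ℤ) : ℂ) + (c : ℂ) * ((Nat.gcdB n c : ℤ) : ℂ) = 1 := by
        exact_mod_cast hbez
      field_simp
      linear_combination (-(ρ.character g)) * hb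
    rw [e]
    exact (isIntegral_algebraMap.mul h2).add (isIntegral_algebraMap.mul h1)
  rw [hchar, hcard] at h3
  have h4 := Cfsg.Agent.Lib.Helper6.avg_roots_of_unity μ (orderOf g) (orderOf_pos g) hμ h3
  rw [hchar]
  have hcc : (Fintype.card ι : ℂ) ≠ 0 := by rw [← hcard]; exact hposc
  rcases h4 with h4 | h4
  · left
    rw [div_eq_zero_iff] at h4
    rcases h4 with h4 | h4
    · exact h4
    · exact absurd h4 hcc
  · right
    rw [norm_div, Complex.norm_natCast] at h4
    have hcr : (Fintype.card ι : ℝ) ≠ 0 := by exact_mod_cast hcc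
    rw [div_eq_one_iff_eq hcr] at h4
    rw [h4, hcard]

end Cfsg.Agent.S0142
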