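import Cfsg.Statements.S0143
import Cfsg.Agent.S0142
import Cfsg.Agent.Lib.Helper6.SecondOrth
import Cfsg.Agent.Lib.Helper6.DegreeDvd
import Cfsg.Agent.Lib.Helper6.Mult

set_option autoImplicit false
open Cfsg

namespace Cfsg.Agent.S0143

open Cfsg.Agent.Lib.Helper6
open scoped ComplexConjugate

theorem prime_card_of_comm {G : Type*} [Group G] [Finite G] [IsSimpleGroup G]
    (hcomm : ∀ x y : G, x * y = y * x) : (Nat.card G).Prime := by
  let _ : CommGroup G := { ‹Group G› with mul_comm := hcomm }
  exact IsSimpleGroup.prime_card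

theorem comm_of_central {G : Type*} [Group G] [IsSimpleGroup G] (g : G) (hg : g ≠ 1)
    (hc : g ∈ Subgroup.center G) : ∀ x y : G, x * y = y * x := by
  rcases IsSimpleGroup.eq_bot_or_eq_top_of_normal (Subgroup.center G) inferInstance with h | h
  · rw [h, Subgroup.mem_bot] at hc
    exact absurd hc hg
  · intro x y
    have hy : y ∈ Subgroup.center G := by rw [h]; trivial
    exact (Subgroup.mem_center_iff.mp hy x)

theorem comm_of_scalar {G : Type*} [Group G] [Fintype G] [IsSimpleGroup G] (g : G) (hg : g ≠ 1)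
    {n : ℕ} (ρ : Representation ℂ G (Fin n → ℂ)) [ρ.IsIrreducible]
    (hne : ρ.character ≠ fun _ => (1 : ℂ)) (ω : ℂ)
    (hω : ρ g = ω • (LinearMap.id : (Fin n → ℂ) →ₗ[ℂ] (Fin n → ℂ))) :
    ∀ x y : G, x * y = y * x := by
  have hK := IsSimpleGroup.eq_bot_or_eq_top_of_normal (MonoidHom.ker (ρ : G →* _))
    (MonoidHom.normal_ker _)
  rcases hK with hK | hK
  · apply comm_of_central g hg
    rw [Subgroup.mem_center_iff]
    intro y
    have hmem : y * g * y⁻¹ * g⁻¹ ∈ MonoidHom.ker (ρ : G →* _) := by
      rw [MonoidHom.mem_ker, map_mul, map_mul, map_mul]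
      have hcomm : ρ y * ρ g = ρ g * ρ y := by
        rw [hω]
        ext v
        simp
      rw [hcomm, mul_assoc (ρ g), ← map_mul, mul_inv_cancel, map_one, mul_one, ← map_mul,
        mul_inv_cancel, map_one]
    rw [hK, Subgroup.mem_bot] at hmem
    have : y * g = g * y := by
      calc y * g = (y * g * y⁻¹ * g⁻¹) * (g * y) := by group
        _ = g * y := by rw [hmem, one_mul]
    exact this
  · exfalso
    have hall : ∀ x : G, ρ x = 1 := by
      intro x
      have : x ∈ MonoidHom.ker (ρ : G →* _) := by rw [hK]; trivial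
      exact MonoidHom.mem_ker.mp this
    have hchar : ∀ x : G, ρ.character x = (n : ℂ) := by
      intro x
      unfold Representation.character
      rw [hall x]
      simp
    have h1 := classInner_irr_self ρ
    unfold Cfsg.classInner at h1
    have hG := card_ne_zero_complex G
    have h2 : ∑ x : G, ρ.character x * conj (ρ.character x) = (Nat.card G : ℂ) * ((n : ℂ) * (n : ℂ)) := by
      rw [Finset.sum_congr rfl (fun x _ => by rw [hchar x])]
      simp [Nat.card_eq_fintype_card]
    rw [h2] at h1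
    have h3 : ((n : ℂ) * (n : ℂ)) = 1 := by
      field_simp at h1
      linear_combination h1
    have h4 : n * n = 1 := by exact_mod_cast h3
    have h5 : n = 1 := by
      rcases Nat.eq_zero_or_pos n with h | h
      · rw [h] at h4; simp at h4
      · nlinarith
    apply hne
    funext x
    rw [hchar x, h5]
    simp

/-- If a finite simple group has a non-identity element whose conjugacy class has prime-power size, then the group has prime order. -/
theorem result {G : Type*} [Group G] [Finite G] [IsSimpleGroup G] (p k : ℕ) (hp : p.Prime) (g : G) (hg : g ≠ 1) (hclass : (Subgroup.centralizer ({g} : Set G)).index = p ^ k) : (Nat.card G).Prime := by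
  classical
  have : Fintype G := Fintype.ofFinite G
  have : Fintype (Cfsg.IrrCharacter G) := Fintype.ofFinite _
  by_contra hnp
  have hnc : ¬ ∀ x y : G, x * y = y * x := fun h => hnp (prime_card_of_comm h)
  -- key vanishing
  have hvanish : ∀ χ : Cfsg.IrrCharacter G, (χ : G → ℂ) ≠ (fun _ => (1 : ℂ)) →
      ∃ s : ℂ, IsIntegral ℤ s ∧ (χ : G → ℂ) g * conj ((χ : G → ℂ) 1) = (p : ℂ) * s := by
    intro χ hχ
    obtain ⟨n, ρ, hirr, hchar⟩ := χ.2
    have h1 : (χ : G → ℂ) 1 = (n : ℂ) := by
      rw [← hchar, Representation.char_one]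
      simp
    rw [h1, Complex.conj_natCast]
    have hgint : IsIntegral ℤ ((χ : G → ℂ) g) := by
      rw [← hchar]; exact isIntegral_character ρ g
    by_cases hpn : p ∣ n
    · obtain ⟨m, rfl⟩ := hpn
      refine ⟨(χ : G → ℂ) g * (m : ℂ), hgint.mul (isIntegral_algebraMap (x := (m : ℤ)) |> fun h => by simpa using h), ?_⟩
      push_cast
      ring
    · refine ⟨0, isIntegral_zero, ?_⟩
      have hcop : Nat.Coprime (Module.finrank ℂ (Fin n → ℂ))
          (Subgroup.centralizer ({g} : Set G)).index := by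
        rw [hclass, Module.finrank_fin_fun]
        exact Nat.Coprime.pow_right k (Nat.Coprime.symm ((Nat.Prime.coprime_iff_not_dvd hp).mpr hpn))
      rcases Cfsg.Agent.S0142.result ρ g hcop with h0 | h0
      · rw [← hchar, h0]; simp
      · exfalso
        obtain ⟨ω, hω⟩ := (norm_character_eq_iff ρ g).mp h0
        apply hnc
        exact comm_of_scalar g hg ρ (by rw [hchar]; exact hχ) ω hω
  have hsum := (sum_irr_mul_conj g (1 : G)).2 (by
    intro hconj
    rw [isConj_comm, isConj_one_right] at hconj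
    exact hg hconj)
  let χ₀ : Cfsg.IrrCharacter G := ⟨fun _ => (1 : ℂ), isIrrCharacter_one⟩
  rw [← Finset.add_sum_erase Finset.univ _ (Finset.mem_univ χ₀)] at hsum
  have hne : ∀ χ ∈ (Finset.univ : Finset (Cfsg.IrrCharacter G)).erase χ₀,
      (χ : G → ℂ) ≠ (fun _ => (1 : ℂ)) := by
    intro χ hχ h
    have := Finset.ne_of_mem_erase hχ
    apply this
    apply Subtype.ext
    exact h
  have hS : ∃ S : ℂ, IsIntegral ℤ S ∧
      ∑ χ ∈ (Finset.univ : Finset (Cfsg.IrrCharacter G)).erase χ₀,
        (χ : G → ℂ) g * conj ((χ : G → ℂ) 1) = (p : ℂ) * S := by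
    choose! s hs using hvanish
    refine ⟨∑ χ ∈ (Finset.univ : Finset (Cfsg.IrrCharacter G)).erase χ₀, s χ, ?_, ?_⟩
    · apply IsIntegral.sum
      intro χ hχ
      exact (hs χ (hne χ hχ)).1
    · rw [Finset.mul_sum]
      apply Finset.sum_congr rfl
      intro χ hχ
      exact (hs χ (hne χ hχ)).2
  obtain ⟨S, hSint, hSeq⟩ := hS
  rw [hSeq] at hsum
  have hp0 : (p : ℂ) ≠ 0 := by exact_mod_cast hp.ne_zero
  have h1 : -S = ((1 : ℕ) : ℂ) / ((p : ℕ) : ℂ) := by
    have : (χ₀ : G → ℂ) g * conj ((χ₀ : G → ℂ) 1) = 1 := by simp [χ₀]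
    rw [this] at hsum
    field_simp
    push_cast
    linear_combination -hsum
  have h2 : IsIntegral ℤ (((1 : ℕ) : ℂ) / ((p : ℕ) : ℂ)) := by
    rw [← h1]; exact hSint.neg
  have h3 := nat_dvd_of_isIntegral_div hp.ne_zero h2
  exact hp.one_lt.ne' (Nat.dvd_one.mp h3)

end Cfsg.Agent.S0143
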