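import Cfsg.Statements.S0144
import Cfsg.Agent.S0143

set_option autoImplicit false
open Cfsg

namespace Cfsg.Agent.S0144

universe u

/-- divisors of `p ^ a * q ^ b` have the same shape -/
theorem shape_of_dvd {p q a b d : ℕ} (hp : p.Prime) (hq : q.Prime) (h : d ∣ p ^ a * q ^ b) :
    ∃ a' b', d = p ^ a' * q ^ b' := by
  obtain ⟨d1, d2, h1, h2, rfl⟩ := (Nat.dvd_mul).mp h
  obtain ⟨i, _, rfl⟩ := (Nat.dvd_prime_pow hp).mp h1
  obtain ⟨j, _, rfl⟩ := (Nat.dvd_prime_pow hq).mp h2
  exact ⟨i, j, rfl⟩

theorem simple_case {G : Type*} [Group G] [Finite G] [IsSimpleGroup G] (p q a b : ℕ)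
    (hp : p.Prime) (hq : q.Prime)
    (hcard : Nat.card G = p ^ a * q ^ b) (hdvd : q ∣ Nat.card G) : (Nat.card G).Prime := by
  have : Fact q.Prime := ⟨hq⟩
  let Q : Sylow q G := default
  have hQne : (Q : Subgroup G) ≠ ⊥ := Q.ne_bot_of_dvd_card hdvd
  have hQnt : Nontrivial (Q : Subgroup G) := (Subgroup.nontrivial_iff_ne_bot _).mpr hQne
  have hZ := IsPGroup.center_nontrivial Q.isPGroup'
  obtain ⟨⟨z, hz⟩, hz1⟩ := exists_ne (1 : Subgroup.center (Q : Subgroup G))
  have hzG : (z : G) ≠ 1 := by
    intro h
    apply hz1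
    apply Subtype.ext
    apply Subtype.ext
    exact h
  have hle : (Q : Subgroup G) ≤ Subgroup.centralizer {(z : G)} := by
    intro x hx
    rw [Subgroup.mem_centralizer_iff]
    intro y hy
    rw [Set.mem_singleton_iff] at hy
    subst hy
    have := Subgroup.mem_center_iff.mp hz ⟨x, hx⟩
    exact (congrArg Subtype.val this).symm
  have hidx : (Subgroup.centralizer {(z : G)}).index ∣ (Q : Subgroup G).index :=
    Subgroup.index_dvd_of_le hle
  have hQidx : ∃ k, (Q : Subgroup G).index = p ^ k := by
    have h1 : (Q : Subgroup G).index ∣ p ^ a * q ^ b := by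
      rw [← hcard]; exact Subgroup.index_dvd_card _
    have h2 : Nat.Coprime (Q : Subgroup G).index (q ^ b) :=
      Nat.Coprime.pow_right b ((Nat.Prime.coprime_iff_not_dvd hq).mpr Q.not_dvd_index).symm
    have h3 : (Q : Subgroup G).index ∣ p ^ a := Nat.Coprime.dvd_of_dvd_mul_right h2 h1
    obtain ⟨k, _, hk⟩ := (Nat.dvd_prime_pow hp).mp h3
    exact ⟨k, hk⟩
  obtain ⟨k, hk⟩ := hQidx
  rw [hk] at hidx
  obtain ⟨k', _, hk'⟩ := (Nat.dvd_prime_pow hp).mp hidx
  exact Cfsg.Agent.S0143.result p k' hp (z : G) hzG hk'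

theorem aux (p q : ℕ) (hp : p.Prime) (hq : q.Prime) : ∀ (n : ℕ) (G : Type u) [Group G] [Finite G],
    Nat.card G = n → (∃ a b, Nat.card G = p ^ a * q ^ b) → Group.IsSolvable G := by
  intro n
  induction n using Nat.strong_induction_on with
  | _ n ih =>
  intro G _ _ hn ⟨a, b, hab⟩
  by_cases hsub : Subsingleton G
  · infer_instance
  rw [not_subsingleton_iff_nontrivial] at hsub
  by_cases hsimple : IsSimpleGroup G
  · have hprime : (Nat.card G).Prime := by
      have h1 : 1 < Nat.card G := Finite.one_lt_card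
      by_cases hq' : q ∣ Nat.card G
      · exact simple_case p q a b hp hq hab hq'
      · have hp' : p ∣ Nat.card G := by
          rcases b with _ | b
          · rcases a with _ | a
            · simp at hab
              omega
            · rw [hab]
              simp [pow_succ]
          · exfalso
            apply hq'
            rw [hab]
            exact Dvd.dvd.mul_left (dvd_pow_self q (Nat.succ_ne_zero b)) _
        exact simple_case q p b a hq hp (by rw [hab, mul_comm]) hp'
    have := Fact.mk hprime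
    have hcyc : IsCyclic G := isCyclic_of_prime_card (p := Nat.card G) rfl
    let _ : CommGroup G := IsCyclic.commGroup
    exact Group.isSolvable_of_comm (fun x y => mul_comm x y)
  · have : ∃ N : Subgroup G, N.Normal ∧ N ≠ ⊥ ∧ N ≠ ⊤ := by
      by_contra hcon
      push Not at hcon
      apply hsimple
      exact ⟨fun N hN => by
        by_contra h
        push Not at h
        exact h.2 (hcon N hN h.1)⟩
    obtain ⟨N, hN, hbot, htop⟩ := this
    have hmul := N.card_mul_index
    have hidx1 : N.index ≠ 1 := fun h => htop (Subgroup.index_eq_one.mp h)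
    have hcard1 : Nat.card N ≠ 1 := fun h => hbot (Subgroup.card_eq_one.mp h)
    have hidx0 : N.index ≠ 0 := Subgroup.index_ne_zero_of_finite
    have hcard0 : Nat.card N ≠ 0 := Nat.card_pos.ne'
    rw [Group.isSolvable_iff_subgroup_quotient N]
    constructor
    · apply ih (Nat.card N) _ N rfl
        (shape_of_dvd hp hq (hab ▸ Subgroup.card_subgroup_dvd_card N))
      rw [← hn, ← hmul]
      have : 2 ≤ N.index := by omega
      nlinarith [Nat.pos_of_ne_zero hcard0]
    · apply ih (Nat.card (G ⧸ N)) _ (G ⧸ N) rfl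
      · rw [← Subgroup.index_eq_card]
        exact shape_of_dvd hp hq (hab ▸ Subgroup.index_dvd_card N)
      · rw [← Subgroup.index_eq_card, ← hn, ← hmul]
        have : 2 ≤ Nat.card N := by omega
        nlinarith [Nat.pos_of_ne_zero hidx0]

/-- The Burnside two-prime Theorem: a finite group of order p ^ a * q ^ b, for primes p and q, is solvable. -/
theorem result {G : Type*} [Group G] [Finite G] (p q a b : ℕ) (hp : p.Prime) (hq : q.Prime) (hcard : Nat.card G = p ^ a * q ^ b) : Group.IsSolvable G := by
  exact aux p q hp hq (Nat.card G) G rfl ⟨a, b, hcard⟩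

end Cfsg.Agent.S0144
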