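import Cfsg.Statements.S4204
import Cfsg.Agent.Lib.Helper2.Commutator

set_option autoImplicit false
open Cfsg

namespace Cfsg.Agent.S4204

open Cfsg.Agent.Lib.Helper2

/-- shifted lower central series: index 0 is the whole group -/
def sh {G : Type*} [Group G] (H : Subgroup G) : ℕ → Subgroup G
  | 0 => ⊤
  | (i + 1) => H.lowerCentralSeries i

theorem sh_normal {G : Type*} [Group G] (H : Subgroup G) [H.Normal] (i : ℕ) : (sh H i).Normal := by
  cases i with
  | zero => exact (inferInstance : (⊤ : Subgroup G).Normal)
  | succ i => exact lowerCentralSeries_normal H i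

theorem sh_comm_self {G : Type*} [Group G] (H : Subgroup G) [H.Normal] (i : ℕ) :
    ⁅sh H i, H⁆ ≤ sh H (i + 1) := by
  cases i with
  | zero => exact Subgroup.commutator_le_right _ _
  | succ i => exact le_of_eq rfl

theorem sh_comm_other {G : Type*} [Group G] (H K : Subgroup G) [H.Normal] (i : ℕ) :
    ⁅sh H i, K⁆ ≤ sh H i := by
  haveI := sh_normal H i
  exact Subgroup.commutator_le_left _ _

theorem sh_eq_bot {G : Type*} [Group G] (H : Subgroup G) (c i : ℕ)
    (hH : H.lowerCentralSeries c = ⊥) (hi : c + 1 ≤ i) : sh H i = ⊥ := by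
  obtain ⟨j, rfl⟩ : ∃ j, i = j + 1 := ⟨i - 1, by omega⟩
  rw [eq_bot_iff, ← hH]
  exact Subgroup.lowerCentralSeries_antitone H (by omega)

/-- the bounding subgroups -/
def M {G : Type*} [Group G] (H K : Subgroup G) (n : ℕ) : Subgroup G :=
  sSup {X | ∃ i j : ℕ, i + j = n + 1 ∧ X = sh H i ⊓ sh K j}

theorem M_normal {G : Type*} [Group G] (H K : Subgroup G) [H.Normal] [K.Normal] (n : ℕ) :
    (M H K n).Normal := by
  apply Subgroup.sSup_normal
  rintro X ⟨i, j, _, rfl⟩
  haveI := sh_normal H i
  haveI := sh_normal K j
  infer_instance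

theorem key {G : Type*} [Group G] (H K : Subgroup G) [H.Normal] [K.Normal] (n : ℕ) :
    (H ⊔ K).lowerCentralSeries n ≤ M H K n := by
  induction n with
  | zero =>
    rw [Subgroup.lowerCentralSeries_zero]
    apply sup_le
    · exact le_sSup_of_le ⟨1, 0, rfl, rfl⟩ (by simp [sh])
    · exact le_sSup_of_le ⟨0, 1, rfl, rfl⟩ (by simp [sh])
  | succ n ih =>
    rw [Subgroup.lowerCentralSeries_succ]
    refine (Subgroup.commutator_mono ih le_rfl).trans ?_
    haveI := M_normal H K (n + 1)
    apply commutator_sup_le'
    · apply commutator_sSup_le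
      rintro X ⟨i, j, hij, rfl⟩
      refine le_sSup_of_le ⟨i + 1, j, by omega, rfl⟩ ?_
      apply le_inf
      · exact (Subgroup.commutator_mono inf_le_left le_rfl).trans (sh_comm_self H i)
      · exact (Subgroup.commutator_mono inf_le_right le_rfl).trans (sh_comm_other K H j)
    · apply commutator_sSup_le
      rintro X ⟨i, j, hij, rfl⟩
      refine le_sSup_of_le ⟨i, j + 1, by omega, rfl⟩ ?_
      apply le_inf
      · exact (Subgroup.commutator_mono inf_le_left le_rfl).trans (sh_comm_other H K i)
      · exact (Subgroup.commutator_mono inf_le_right le_rfl).trans (sh_comm_self K j)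

/-- If `H` and `K` are normal subgroups of a finite group with `H` nilpotent of class at most `c` and `K` nilpotent of class at most `d` (the terms with index `c`, respectively `d`, of their lower central series are trivial, indices starting at `0`), then `HK` is nilpotent of class at most `c + d`. -/
theorem result {G : Type*} [Group G] [Finite G] (H K : Subgroup G) [H.Normal] [K.Normal] (c d : ℕ) (hH : H.lowerCentralSeries c = ⊥) (hK : K.lowerCentralSeries d = ⊥) : (H ⊔ K).lowerCentralSeries (c + d) = ⊥ := by
  rw [eq_bot_iff]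
  refine (key H K (c + d)).trans ?_
  apply sSup_le
  rintro X ⟨i, j, hij, rfl⟩
  by_cases hi : c + 1 ≤ i
  · rw [sh_eq_bot H c i hH hi]; exact inf_le_left
  · have hj : d + 1 ≤ j := by omega
    rw [sh_eq_bot K d j hK hj]; exact inf_le_right

end Cfsg.Agent.S4204
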