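import Cfsg.Statements.S4218
-- import your own Cfsg.Agent.* helpers here
import Mathlib
import Cfsg.Agent.Lib.Helper1.FrattiniAction
import Cfsg.Agent.Lib.Helper2.FrattiniSub
import Cfsg.Agent.Lib.Helper1.RelativeSZ
import Cfsg.Agent.Lib.Helper1.PCore
import Cfsg.Agent.Lib.Helper1.PLengthOne

set_option autoImplicit false
open Cfsg

namespace Cfsg.Agent.S4218

open Cfsg.Agent.Lib.Helper1 Cfsg.Agent.Lib.Helper2
open scoped commutatorElement


/-- The centralizer of `Q` modulo a normal subgroup `Φ`. -/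
theorem exists_centralizer_mod {X : Type*} [Group X] (Q Φ : Subgroup X) [Q.Normal] [Φ.Normal] :
    ∃ C : Subgroup X, C.Normal ∧ ∀ γ : X, γ ∈ C ↔ ∀ y ∈ Q, γ * y * γ⁻¹ * y⁻¹ ∈ Φ := by
  refine ⟨(Subgroup.centralizer ((Q.map (QuotientGroup.mk' Φ) : Subgroup (X ⧸ Φ)) :
      Set (X ⧸ Φ))).comap (QuotientGroup.mk' Φ), ?_, ?_⟩
  · haveI : (Q.map (QuotientGroup.mk' Φ)).Normal :=
      Subgroup.Normal.map inferInstance _ (QuotientGroup.mk'_surjective Φ)
    exact Subgroup.Normal.comap inferInstance _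
  · intro g
    rw [Subgroup.mem_comap, Subgroup.mem_centralizer_iff]
    constructor
    · intro hg h hh
      have := hg _ (Subgroup.mem_map_of_mem (QuotientGroup.mk' Φ) hh)
      apply (QuotientGroup.eq_one_iff _).1
      simp only [QuotientGroup.mk'_apply] at this
      simp only [QuotientGroup.mk_mul, QuotientGroup.mk_inv]
      rw [← this]
      group
    · intro hg y hy
      obtain ⟨h, hh, rfl⟩ := hy
      have := (QuotientGroup.eq_one_iff _).2 (hg h hh)
      simp only [QuotientGroup.mk_mul, QuotientGroup.mk_inv] at this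
      simp only [QuotientGroup.mk'_apply]
      have h4 : (g : X ⧸ Φ) * h = h * g := by
        calc (g : X ⧸ Φ) * h = ((g : X ⧸ Φ) * h * (g : X ⧸ Φ)⁻¹ * (h : X ⧸ Φ)⁻¹) * (h * g) := by
              group
          _ = h * g := by rw [this, one_mul]
      exact h4.symm


/-- An element of order prime to `p` of `Q × K` lies in `K`. -/
theorem mem_of_coprime_order {X : Type*} [Group X] [Finite X] (p : ℕ) [Fact p.Prime]
    (Q K : Subgroup X) (hQ : IsPGroup p Q) (hKQ : K ≤ Subgroup.centralizer (Q : Set X))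
    (z : X) (hz : z ∈ Q ⊔ K) (hzo : (orderOf z).Coprime p) : z ∈ K := by
  obtain ⟨a, ha⟩ := IsPGroup.iff_card.1 hQ
  -- z = y * k
  have hQn : Q ≤ Subgroup.normalizer (K : Set X) := by
    intro y hy
    apply Subgroup.mem_normalizer_iff.2
    intro k
    have hc : ∀ k ∈ K, y * k * y⁻¹ = k := by
      intro k hk
      have := Subgroup.mem_centralizer_iff.1 (hKQ hk) y hy
      rw [this, mul_inv_cancel_right]
    constructor
    · intro hk; rw [hc k hk]; exact hk
    · intro hk
      have h2 := hc _ hk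
      have : k = y * k * y⁻¹ := by
        have h3 : y⁻¹ * (y * (y * k * y⁻¹) * y⁻¹) * y = y⁻¹ * (y * k * y⁻¹) * y := by rw [h2]
        have e1 : y⁻¹ * (y * (y * k * y⁻¹) * y⁻¹) * y = y * k * y⁻¹ := by group
        have e2 : y⁻¹ * (y * k * y⁻¹) * y = k := by group
        rw [e1, e2] at h3
        exact h3.symm
      rw [this]; exact hk
  have hset := Subgroup.coe_mul_of_right_le_normalizer_left K Q hQn
  have hz' : z ∈ K ⊔ Q := by rw [sup_comm]; exact hz
  rw [← SetLike.mem_coe, hset, Set.mem_mul] at hz'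
  obtain ⟨k, hk, y, hy, rfl⟩ := hz'
  have hcomm : Commute k y := (Subgroup.mem_centralizer_iff.1 (hKQ hk) y hy).symm
  have hy1 : y ^ (p ^ a) = 1 := by
    have := pow_card_eq_one' (G := Q) (x := ⟨y, hy⟩)
    rw [ha] at this
    exact congrArg Subtype.val this
  have h1 : (k * y) ^ (p ^ a) ∈ K := by
    rw [hcomm.mul_pow, hy1, mul_one]
    exact K.pow_mem hk _
  have hcop : (orderOf (k * y)).Coprime (p ^ a) := Nat.Coprime.pow_right a hzo
  have h2 : Subgroup.zpowers ((k * y) ^ (p ^ a)) = Subgroup.zpowers (k * y) := by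
    apply Subgroup.eq_of_le_of_card_ge
    · rw [Subgroup.zpowers_le]
      exact Subgroup.pow_mem _ (Subgroup.mem_zpowers _) _
    · rw [Nat.card_zpowers, Nat.card_zpowers, hcop.orderOf_pow]
  have h3 : k * y ∈ Subgroup.zpowers ((k * y) ^ (p ^ a)) := by
    rw [h2]; exact Subgroup.mem_zpowers _
  exact (Subgroup.zpowers_le.2 h1) h3




/-- The step in the chain where `C` leaves `Q`. -/
theorem exists_step {X : Type*} [Group X] (n : ℕ) (H : Fin (n + 1) → Subgroup X)
    (C Q : Subgroup X) (h0 : H 0 = ⊥) (hlast : H (Fin.last n) = ⊤) (hCQ : ¬ C ≤ Q) :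
    ∃ i : Fin n, C ⊓ H i.castSucc ≤ Q ∧ ¬ C ⊓ H i.succ ≤ Q := by
  by_contra hcon
  push Not at hcon
  have key : ∀ i : Fin (n + 1), C ⊓ H i ≤ Q := by
    intro i
    induction i using Fin.induction with
    | zero => rw [h0, inf_bot_eq]; exact bot_le
    | succ i ih => exact hcon i ih
  apply hCQ
  have := key (Fin.last n)
  rwa [hlast, inf_top_eq] at this


/-- Hall–Higman: `G / O_p(G)` acts faithfully on `O_p(G) / Φ(O_p(G))` when `O_{p'}(G) = 1`. -/
theorem HH {X : Type*} [Group X] [Finite X] (p : ℕ) [Fact p.Prime]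
    (hX : Cfsg.IsPSolvable p X) (hcore : Cfsg.pPrimeCore p X = ⊥) (γ : X)
    (hγ : ∀ y ∈ Cfsg.pCore p X, γ * y * γ⁻¹ * y⁻¹ ∈
      (frattini (Cfsg.pCore p X)).map (Cfsg.pCore p X).subtype) :
    γ ∈ Cfsg.pCore p X := by
  have hp : p.Prime := Fact.out
  obtain ⟨Q, hQdef⟩ : ∃ Q : Subgroup X, Q = Cfsg.pCore p X := ⟨_, rfl⟩
  rw [← hQdef] at hγ ⊢
  haveI hQn : Q.Normal := hQdef ▸ (inferInstance : (Cfsg.pCore p X).Normal)
  have hQp : IsPGroup p Q := hQdef ▸ Cfsg.Agent.Lib.Helper1.pCore_isPGroup p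
  obtain ⟨Φ, hΦdef⟩ : ∃ Φ : Subgroup X, Φ = (frattini Q).map Q.subtype := ⟨_, rfl⟩
  rw [← hΦdef] at hγ
  haveI hΦn : Φ.Normal := by
    rw [← Subgroup.normalizer_eq_top_iff, eq_top_iff, hΦdef]
    refine le_trans ?_ (le_normalizer_map_frattini Q)
    rw [Subgroup.normalizer_eq_top_iff.2 hQn]
  obtain ⟨C, hCn, hCmem⟩ := exists_centralizer_mod Q Φ
  have hQC : Q ≤ C := by
    intro x hx
    rw [hCmem]
    intro y hy
    have h1 := commutator_le_map_frattini hQp (Subgroup.commutator_mem_commutator hx hy)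
    rw [← hΦdef, commutatorElement_def] at h1
    exact h1
  have hγC : γ ∈ C := (hCmem γ).2 hγ
  by_contra hγQ
  have hCQ : ¬ C ≤ Q := fun h => hγQ (h hγC)
  obtain ⟨n, H, h0, hlast, hmono, hnorm, hfac⟩ := hX
  obtain ⟨i, hi1, hi2⟩ := exists_step n H C Q h0 hlast hCQ
  haveI := hnorm i.castSucc
  haveI := hnorm i.succ
  -- the subgroup L
  obtain ⟨L, hLdef⟩ : ∃ L : Subgroup X, L = Q ⊔ (C ⊓ H i.succ) := ⟨_, rfl⟩
  have hLn : L.Normal := by rw [hLdef]; infer_instance
  have hQL : Q ≤ L := hLdef ▸ le_sup_left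
  have hLC : L ≤ C := by rw [hLdef]; exact sup_le hQC inf_le_left
  have hLQ : L ≠ Q := by
    intro h
    apply hi2
    rw [← h, hLdef]; exact le_sup_right
  -- its index over Q
  have hr : Q.relIndex L ∣ (H i.castSucc).relIndex (H i.succ) := by
    have e1 : Q.relIndex L = Q.relIndex (C ⊓ H i.succ) := by
      rw [hLdef, Subgroup.relIndex_sup_left]
    have e2 : Q.relIndex (C ⊓ H i.succ) ∣ (C ⊓ H i.castSucc).relIndex (C ⊓ H i.succ) := by
      rw [← Subgroup.inf_relIndex_right Q]
      apply Subgroup.relIndex_dvd_of_le_left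
      exact le_inf hi1 (inf_le_inf_left C (hmono (Fin.castSucc_le_succ i)))
    have e3 : (C ⊓ H i.castSucc).relIndex (C ⊓ H i.succ) =
        (H i.castSucc).relIndex (C ⊓ H i.succ) := by
      rw [← Subgroup.inf_relIndex_right (C ⊓ H i.castSucc), ← Subgroup.inf_relIndex_right (H i.castSucc)]
      congr 1
      apply le_antisymm
      · exact le_inf (inf_le_left.trans inf_le_right) inf_le_right
      · exact le_inf (le_inf (inf_le_right.trans inf_le_left) inf_le_left) inf_le_right
    have e4 : (H i.castSucc).relIndex (C ⊓ H i.succ) ∣ (H i.castSucc).relIndex (H i.succ) := by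
      rw [← Subgroup.relIndex_sup_left (K := H i.castSucc) (H := C ⊓ H i.succ)]
      have hle1 : H i.castSucc ≤ H i.castSucc ⊔ (C ⊓ H i.succ) := le_sup_left
      have hle2 : H i.castSucc ⊔ (C ⊓ H i.succ) ≤ H i.succ :=
        sup_le (hmono (Fin.castSucc_le_succ i)) inf_le_right
      exact Dvd.intro _ (Subgroup.relIndex_mul_relIndex _ _ _ hle1 hle2)
    rw [e1]
    exact e2.trans (e3 ▸ e4)
  have hcardL : Nat.card L = Q.relIndex L * Nat.card Q := by
    have h1 := Subgroup.relIndex_mul_relIndex ⊥ Q L bot_le hQL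
    rw [Subgroup.relIndex_bot_left, Subgroup.relIndex_bot_left] at h1
    rw [← h1, mul_comm]
  obtain ⟨a, ha⟩ := IsPGroup.iff_card.1 hQp
  rcases hfac i with ⟨k, hk⟩ | hcop
  · -- p-power index: L is a p-group
    rw [hk] at hr
    obtain ⟨j, -, hj⟩ := (Nat.dvd_prime_pow hp).1 hr
    have hLp : IsPGroup p L := by
      apply IsPGroup.of_card (n := j + a)
      rw [hcardL, hj, ha, pow_add]
    have := le_pCore hLn hLp
    rw [← hQdef] at this
    exact hLQ (le_antisymm this hQL)
  · -- index prime to p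
    have hrcop : (Q.relIndex L).Coprime p := Nat.Coprime.coprime_dvd_left hr hcop
    obtain ⟨K, hKL, hKQ, hQK, hKcard⟩ := exists_relative_complement Q L hQL
      (by rw [Subgroup.normalizer_eq_top_iff.2 hQn]; exact le_top)
      (by rw [ha]; exact (Nat.Coprime.pow_right a hrcop).symm)
    have hKcop : (Nat.card K).Coprime p := hKcard ▸ hrcop
    have hKcent : K ≤ Subgroup.centralizer (Q : Set X) := by
      apply centralizes_of_trivial_on_frattini_quotient K Q
      · rw [Subgroup.normalizer_eq_top_iff.2 hQn]; exact le_top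
      · obtain ⟨b, hb⟩ := IsPGroup.iff_card.1 (hQp.to_subgroup (frattini Q))
        rw [hb]
        exact Nat.Coprime.pow_right b hKcop
      · intro k hk y hy
        rw [← hΦdef]
        exact (hCmem k).1 (hLC (hKL hk)) y hy
    -- K is normal in X
    have hKn : K.Normal := by
      constructor
      intro k hk g
      apply mem_of_coprime_order p Q K hQp hKcent
      · rw [hQK]; exact hLn.conj_mem k (hKL hk) g
      · have h1 : orderOf (g * k * g⁻¹) = orderOf k := by
          have := orderOf_injective (MulAut.conj g).toMonoidHom (MulEquiv.injective _) k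
          simpa [MulAut.conj_apply] using this
        rw [h1]
        exact Nat.Coprime.coprime_dvd_left (Subgroup.orderOf_dvd_natCard K hk) hKcop
    have hKbot : K = ⊥ := by
      rw [eq_bot_iff, ← hcore]
      exact le_sSup ⟨hKn, hKcop⟩
    apply hLQ
    rw [← hQK, hKbot, sup_bot_eq]




/-- Quotients of `p`-solvable groups are `p`-solvable. -/
theorem isPSolvable_quotient {G : Type*} [Group G] [Finite G] (p : ℕ) [Fact p.Prime]
    (N : Subgroup G) [N.Normal] (hG : Cfsg.IsPSolvable p G) : Cfsg.IsPSolvable p (G ⧸ N) := by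
  have hp : p.Prime := Fact.out
  obtain ⟨n, H, h0, hlast, hmono, hnorm, hfac⟩ := hG
  have hsurj := QuotientGroup.mk'_surjective N
  refine ⟨n, fun i => (H i).map (QuotientGroup.mk' N), ?_, ?_, ?_, ?_, ?_⟩
  · simp only [h0, Subgroup.map_bot]
  · simp only [hlast]
    exact Subgroup.map_top_of_surjective _ hsurj
  · intro i j hij
    exact Subgroup.map_mono (hmono hij)
  · intro i
    exact (hnorm i).map _ hsurj
  · intro i
    haveI := hnorm i.castSucc
    have hdvd : ((H i.castSucc).map (QuotientGroup.mk' N)).relIndex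
        ((H i.succ).map (QuotientGroup.mk' N)) ∣ (H i.castSucc).relIndex (H i.succ) := by
      rw [Subgroup.relIndex_map_map, QuotientGroup.ker_mk']
      have hle : H i.castSucc ≤ H i.succ := hmono (Fin.castSucc_le_succ i)
      have e1 : H i.succ ⊔ N = (H i.castSucc ⊔ N) ⊔ H i.succ := by
        rw [sup_right_comm, sup_eq_right.2 hle]
      rw [e1, Subgroup.relIndex_sup_left]
      exact Subgroup.relIndex_dvd_of_le_left _ le_sup_left
    rcases hfac i with ⟨m, hm⟩ | hcop
    · left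
      rw [hm] at hdvd
      obtain ⟨j, -, hj⟩ := (Nat.dvd_prime_pow hp).1 hdvd
      exact ⟨j, hj⟩
    · right
      exact Nat.Coprime.coprime_dvd_left hdvd hcop




/-- The Frattini subgroup is preserved by isomorphisms. -/
theorem map_frattini_equiv {A B : Type*} [Group A] [Group B] (e : A ≃* B) :
    (frattini A).map e.toMonoidHom = frattini B := by
  have := OrderIso.map_radical e.mapSubgroup
  exact this


/-- Identification of the pulled-back Frattini subgroup. -/
theorem comap_frattini_eq {A B : Type*} [Group A] [Group B] (N' : Subgroup A) [N'.Normal]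
    (φ : A →* B) (hφ : Function.Surjective φ) (hker : N' = φ.ker) :
    (frattini (A ⧸ N')).comap (QuotientGroup.mk' N') = (frattini B).comap φ := by
  let e : A ⧸ N' ≃* B :=
    (QuotientGroup.quotientMulEquivOfEq hker).trans (QuotientGroup.quotientKerEquivOfSurjective φ hφ)
  have he : ∀ a : A, e (QuotientGroup.mk' N' a) = φ a := by
    intro a
    rfl
  have h1 : frattini B = (frattini (A ⧸ N')).map e.toMonoidHom := (map_frattini_equiv e).symm
  ext a
  rw [Subgroup.mem_comap, Subgroup.mem_comap, h1, ← he a]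
  constructor
  · intro h
    exact Subgroup.mem_map_of_mem _ h
  · rintro ⟨y, hy, hye⟩
    have : y = QuotientGroup.mk' N' a := e.injective hye
    rwa [← this]




/-- Abstract translation. -/
theorem translate {G : Type*} [Group G] (N : Subgroup G) [N.Normal] (Q : Subgroup (G ⧸ N))
    (x : G) :
    x ∈ ((frattini (↥(Q.comap (QuotientGroup.mk' N)) ⧸ N.subgroupOf (Q.comap (QuotientGroup.mk' N)))).comap
        (QuotientGroup.mk' (N.subgroupOf (Q.comap (QuotientGroup.mk' N))))).map
          (Q.comap (QuotientGroup.mk' N)).subtype ↔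
    (QuotientGroup.mk' N x) ∈ (frattini Q).map Q.subtype := by
  obtain ⟨P₁, hP₁⟩ : ∃ P₁ : Subgroup G, P₁ = Q.comap (QuotientGroup.mk' N) := ⟨_, rfl⟩
  rw [← hP₁]
  have hmem : ∀ y : P₁, QuotientGroup.mk' N (P₁.subtype y) ∈ Q := by
    intro y
    have h2 : (y : G) ∈ Q.comap (QuotientGroup.mk' N) := by rw [← hP₁]; exact y.2
    exact h2
  let φ : ↥P₁ →* ↥Q := ((QuotientGroup.mk' N).comp P₁.subtype).codRestrict Q hmem
  have hφv : ∀ y : P₁, ((φ y : Q) : G ⧸ N) = QuotientGroup.mk' N (y : G) := fun y => rfl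
  have hφs : Function.Surjective φ := by
    rintro ⟨q, hq⟩
    obtain ⟨a, rfl⟩ := QuotientGroup.mk'_surjective N q
    have ha : a ∈ P₁ := by rw [hP₁]; exact hq
    exact ⟨⟨a, ha⟩, Subtype.ext rfl⟩
  have hker : N.subgroupOf P₁ = φ.ker := by
    ext y
    rw [Subgroup.mem_subgroupOf, MonoidHom.mem_ker]
    constructor
    · intro hy
      apply Subtype.ext
      rw [hφv]
      exact (QuotientGroup.eq_one_iff _).2 hy
    · intro hy
      have := congrArg Subtype.val hy
      rw [hφv] at this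
      exact (QuotientGroup.eq_one_iff _).1 this
  rw [comap_frattini_eq (N.subgroupOf P₁) φ hφs hker]
  constructor
  · rintro ⟨y, hy, rfl⟩
    rw [SetLike.mem_coe, Subgroup.mem_comap] at hy
    exact ⟨φ y, hy, rfl⟩
  · rintro ⟨q, hq, hqx⟩
    have hx : x ∈ P₁ := by
      rw [hP₁, Subgroup.mem_comap, ← hqx]
      exact q.2
    refine ⟨⟨x, hx⟩, ?_, rfl⟩
    rw [SetLike.mem_coe, Subgroup.mem_comap]
    have : φ ⟨x, hx⟩ = q := Subtype.ext (by rw [hφv]; exact hqx.symm)
    rw [this]
    exact hq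


theorem main {G : Type*} [Group G] [Finite G] {p : ℕ} [Fact p.Prime] (hG : Cfsg.IsPSolvable p G) (g : G) : (∀ x ∈ Cfsg.pPrimePCore p G, g * x * g⁻¹ * x⁻¹ ∈ ((frattini (↥(Cfsg.pPrimePCore p G) ⧸ (Cfsg.pPrimeCore p G).subgroupOf (Cfsg.pPrimePCore p G))).comap (QuotientGroup.mk' ((Cfsg.pPrimeCore p G).subgroupOf (Cfsg.pPrimePCore p G)))).map (Cfsg.pPrimePCore p G).subtype) ↔ g ∈ Cfsg.pPrimePCore p G := by
  have hp : p.Prime := Fact.out
  have htr := translate (Cfsg.pPrimeCore p G) (Cfsg.pCore p (G ⧸ Cfsg.pPrimeCore p G))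
  change (∀ x ∈ Cfsg.pPrimePCore p G, g * x * g⁻¹ * x⁻¹ ∈ ((frattini (↥(Cfsg.pPrimePCore p G) ⧸ (Cfsg.pPrimeCore p G).subgroupOf (Cfsg.pPrimePCore p G))).comap (QuotientGroup.mk' ((Cfsg.pPrimeCore p G).subgroupOf (Cfsg.pPrimePCore p G)))).map (Cfsg.pPrimePCore p G).subtype) ↔ QuotientGroup.mk' (Cfsg.pPrimeCore p G) g ∈ Cfsg.pCore p (G ⧸ Cfsg.pPrimeCore p G)
  have hQp : IsPGroup p (Cfsg.pCore p (G ⧸ Cfsg.pPrimeCore p G)) := Cfsg.Agent.Lib.Helper1.pCore_isPGroup p
  constructor
  · intro h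
    apply HH p (isPSolvable_quotient p _ hG) (pPrimeCore_quotient_eq_bot p)
    intro y hy
    obtain ⟨a, rfl⟩ := QuotientGroup.mk'_surjective (Cfsg.pPrimeCore p G) y
    have ha : a ∈ Cfsg.pPrimePCore p G := hy
    have h1 := h a ha
    have h2 := (htr (g * a * g⁻¹ * a⁻¹)).1 h1
    simpa using h2
  · intro hg x hx
    refine (htr (g * x * g⁻¹ * x⁻¹)).2 ?_
    have hx' : QuotientGroup.mk' (Cfsg.pPrimeCore p G) x ∈ Cfsg.pCore p (G ⧸ Cfsg.pPrimeCore p G) := hx
    have h1 := commutator_le_map_frattini hQp (Subgroup.commutator_mem_commutator hg hx')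
    rw [commutatorElement_def] at h1
    simpa using h1




/-- Let `G` be a finite `p`-solvable group, `N₀ = O_{p'}(G)`, `P₁ = O_{p',p}(G)`, and let `F ≤ P₁` be the preimage of the Frattini subgroup of `P₁/N₀`. Then an element `g` of `G` induces the identity on `P₁/F` by conjugation (that is, `g x g⁻¹ x⁻¹ ∈ F` for all `x ∈ P₁`) if and only if `g ∈ P₁`: the group `G/P₁` acts faithfully on `P₁/F`. -/
theorem result {G : Type*} [Group G] [Finite G] {p : ℕ} [Fact p.Prime] (hG : Cfsg.IsPSolvable p G) (g : G) : (∀ x ∈ Cfsg.pPrimePCore p G, g * x * g⁻¹ * x⁻¹ ∈ ((frattini (↥(Cfsg.pPrimePCore p G) ⧸ (Cfsg.pPrimeCore p G).subgroupOf (Cfsg.pPrimePCore p G))).comap (QuotientGroup.mk' ((Cfsg.pPrimeCore p G).subgroupOf (Cfsg.pPrimePCore p G)))).map (Cfsg.pPrimePCore p G).subtype) ↔ g ∈ Cfsg.pPrimePCore p G := by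
  exact main hG g

end Cfsg.Agent.S4218
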