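import Mathlib
import Cfsg.Statements.S0209
import Cfsg.Agent.Lib.Lead.Dihedral

set_option autoImplicit false
open Cfsg
open Cfsg.Agent.Lib.Lead

namespace Cfsg.Agent.S0209

/-- If x, y are involutions whose product has even order n, the element (xy)^(n/2) is an involution that commutes with x and with y. -/
theorem result {G : Type*} [Group G] [Finite G] (x y : G) (hx : orderOf x = 2) (hy : orderOf y = 2) (heven : Even (orderOf (x * y))) : orderOf ((x * y) ^ (orderOf (x * y) / 2)) = 2 ∧ Commute ((x * y) ^ (orderOf (x * y) / 2)) x ∧ Commute ((x * y) ^ (orderOf (x * y) / 2)) y := by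
  set n := orderOf (x * y) with hn
  have hpos : 0 < n := orderOf_pos (x * y)
  obtain ⟨m, hm⟩ := heven
  have hm2 : n / 2 = m := by omega
  rw [hm2]
  have hw2 : (x * y) ^ m * (x * y) ^ m = 1 := by
    rw [← pow_add, ← hm, hn, pow_orderOf_eq_one]
  have hw1 : (x * y) ^ m ≠ 1 := by
    intro h
    have : n ∣ m := orderOf_dvd_of_pow_eq_one h
    have := Nat.le_of_dvd (by omega) this
    omega
  have hwi : ((x * y) ^ m)⁻¹ = (x * y) ^ m := inv_eq_of_mul_eq_one_right hw2
  have hcx : Commute ((x * y) ^ m) x := by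
    have h := invol_conj_mul_zpow hx hy (m : ℤ)
    rw [zpow_neg, zpow_natCast, hwi] at h
    exact (mul_inv_eq_iff_eq_mul.mp h).symm
  refine ⟨invol_of_mul_self hw1 hw2, hcx, ?_⟩
  have hy' : y = x * (x * y) := pair_y_eq hx
  have hcz : Commute ((x * y) ^ m) (x * y) := (Commute.refl (x * y)).pow_left m
  have := hcx.mul_right hcz
  rwa [← hy'] at this

end Cfsg.Agent.S0209
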