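import Mathlib
import Cfsg.Statements.S0211
import Cfsg.Agent.Lib.Lead.Dihedral
import Cfsg.Agent.S0209

set_option autoImplicit false
open Cfsg
open Cfsg.Agent.Lib.Lead

namespace Cfsg.Agent.S0211

theorem aux {G : Type*} [Group G] (x y : G) (m : ℕ) (hm : orderOf (x * y) = m + m)
    (hc : Commute ((x * y) ^ m) x)
    (j : ℤ) (h : (x * y) ^ (2 * j) * x = x * (x * y) ^ m) : 4 ∣ orderOf (x * y) := by
  have h1 : (x * y) ^ (2 * j) = (x * y) ^ (m : ℤ) := by
    rw [← hc.eq] at h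
    rw [zpow_natCast]
    exact mul_right_cancel h
  have h2 : (x * y) ^ (2 * j - m) = 1 := by
    rw [zpow_sub, h1, mul_inv_cancel]
  have h3 := orderOf_dvd_iff_zpow_eq_one.mpr h2
  rw [hm] at h3
  obtain ⟨c, hc⟩ := h3
  push_cast at hc
  have h4 : (m : ℤ) = 2 * (j - m * c) := by linarith
  have h5 : (2 : ℤ) ∣ (m : ℤ) := ⟨_, h4⟩
  have h6 : 2 ∣ m := by exact_mod_cast h5
  obtain ⟨q, hq⟩ := h6
  rw [hm, hq]
  exact ⟨q, by ring⟩

/-- Let x, y be involutions with xy of even order n and z = (xy)^(n/2). Then xz is conjugate to x by an element of the subgroup generated by x, y if and only if 4 divides n. -/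
theorem result {G : Type*} [Group G] [Finite G] (x y : G) (hx : orderOf x = 2) (hy : orderOf y = 2) (heven : Even (orderOf (x * y))) : (∃ d ∈ Subgroup.closure ({x, y} : Set G), d * x * d⁻¹ = x * (x * y) ^ (orderOf (x * y) / 2)) ↔ 4 ∣ orderOf (x * y) := by
  have hS := Cfsg.Agent.S0209.result x y hx hy heven
  obtain ⟨m, hm⟩ := heven
  have hm2 : orderOf (x * y) / 2 = m := by omega
  rw [hm2] at hS ⊢
  obtain ⟨-, hc, -⟩ := hS
  constructor
  · rintro ⟨d, hd, h⟩
    rcases mem_closure_pair hx hy hd with ⟨k, rfl⟩ | ⟨k, rfl⟩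
    · rw [rot_conj_x hx hy] at h
      exact aux x y m hm hc k h
    · rw [refl_conj_x hx hy] at h
      rw [show -(2 * k) = 2 * (-k) by ring] at h
      exact aux x y m hm hc (-k) h
  · rintro ⟨q, hq⟩
    refine ⟨(x * y) ^ (q : ℤ), zpow_mem_closure_pair x y q, ?_⟩
    rw [rot_conj_x hx hy, ← hc.eq]
    congr 1
    have : (2 * (q : ℤ)) = ((2 * q : ℕ) : ℤ) := by push_cast; ring
    rw [this, zpow_natCast]
    congr 1
    omega

end Cfsg.Agent.S0211
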