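import Mathlib
import Cfsg.Statements.S0210
import Cfsg.Agent.Lib.Lead.Dihedral

set_option autoImplicit false
open Cfsg
open Cfsg.Agent.Lib.Lead

namespace Cfsg.Agent.S0210

theorem aux {G : Type*} [Group G] (x y : G) (hx : orderOf x = 2) (hy : orderOf y = 2)
    (heven : Even (orderOf (x * y))) (j : ℤ) (h : (x * y) ^ (2 * j) * x = y) : False := by
  have h1 : (x * y) ^ (2 * j) = (x * y)⁻¹ := by
    have e : (x * y) ^ (2 * j) = y * x := by
      have : (x * y) ^ (2 * j) * x * x = y * x := by rw [h]
      rwa [mul_assoc, invol_mul_self hx, mul_one] at this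
    rw [e, mul_inv_rev, invol_inv hx, invol_inv hy]
  have h2 : (x * y) ^ (2 * j + 1) = 1 := by
    rw [zpow_add, zpow_one, h1, inv_mul_cancel]
  have h3 := orderOf_dvd_iff_zpow_eq_one.mpr h2
  obtain ⟨m, hm⟩ := heven
  rw [hm] at h3
  obtain ⟨c, hc⟩ := h3
  push_cast at hc
  have : 2 * j + 1 = 2 * ((m : ℤ) * c) := by rw [hc]; ring
  omega

/-- If x, y are involutions whose product has even order, no element of the subgroup generated by x and y conjugates x to y. -/
theorem result {G : Type*} [Group G] [Finite G] (x y : G) (hx : orderOf x = 2) (hy : orderOf y = 2) (heven : Even (orderOf (x * y))) (d : G) (hd : d ∈ Subgroup.closure ({x, y} : Set G)) : d * x * d⁻¹ ≠ y := by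
  intro h
  rcases mem_closure_pair hx hy hd with ⟨k, rfl⟩ | ⟨k, rfl⟩
  · rw [rot_conj_x hx hy] at h
    exact aux x y hx hy heven k h
  · rw [refl_conj_x hx hy] at h
    rw [show -(2 * k) = 2 * (-k) by ring] at h
    exact aux x y hx hy heven (-k) h

end Cfsg.Agent.S0210
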