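import Mathlib
import Cfsg.Statements.S0216
import Cfsg.Agent.Lib.Lead.Dihedral
import Cfsg.Agent.S0210

set_option autoImplicit false
open Cfsg
open Cfsg.Agent.Lib.Lead
open scoped Pointwise

namespace Cfsg.Agent.S0216

theorem mem_smul_sylow {G : Type*} [Group G] {p : ℕ} (P : Sylow p G) (g x : G) :
    x ∈ (g • P : Sylow p G) ↔ g⁻¹ * x * g ∈ P := by
  have : ((g • P : Sylow p G) : Subgroup G) = MulAut.conj g • (P : Subgroup G) := rfl
  change x ∈ ((g • P : Sylow p G) : Subgroup G) ↔ _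
  rw [this, Subgroup.mem_pointwise_smul_iff_inv_smul_mem]
  simp [MulAut.smul_def]
  rfl

/-- an isolated involution of `P` is isolated in every Sylow subgroup containing it -/
theorem isolated_transfer {G : Type*} [Group G] [Finite G] (P Q : Sylow 2 G) (u : G)
    (huP : u ∈ P) (hiso : ∀ g : G, g * u * g⁻¹ ∈ P → g * u * g⁻¹ = u) (huQ : u ∈ Q) :
    ∀ g : G, g * u * g⁻¹ ∈ Q → g * u * g⁻¹ = u := by
  haveI : Fact (Nat.Prime 2) := ⟨Nat.prime_two⟩
  obtain ⟨h, rfl⟩ := MulAction.exists_smul_eq G P Q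
  rw [mem_smul_sylow] at huQ
  have h1 : h⁻¹ * u * h = u := by
    have := hiso h⁻¹ (by rwa [inv_inv])
    rwa [inv_inv] at this
  intro g hg
  rw [mem_smul_sylow] at hg
  have h2 : h⁻¹ * (g * u * g⁻¹) * h = (h⁻¹ * g) * u * (h⁻¹ * g)⁻¹ := by group
  rw [h2] at hg
  have h3 := hiso _ hg
  rw [← h2] at h3
  calc g * u * g⁻¹ = h * (h⁻¹ * (g * u * g⁻¹) * h) * h⁻¹ := by group
    _ = h * u * h⁻¹ := by rw [h3]
    _ = h * (h⁻¹ * u * h) * h⁻¹ := by rw [h1]
    _ = u := by group

/-- For an involution u in a Sylow 2-subgroup P of a finite group G, the following are equivalent: no G-conjugate of u other than u lies in P; every commutator of u with an element of G has odd order. -/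
theorem result {G : Type*} [Group G] [Finite G] (P : Sylow 2 G) (u : G) (hu : orderOf u = 2) (huP : u ∈ P) : (∀ g : G, g * u * g⁻¹ ∈ P → g * u * g⁻¹ = u) ↔ (∀ g : G, Odd (orderOf (u * g * u⁻¹ * g⁻¹))) := by
  haveI : Fact (Nat.Prime 2) := ⟨Nat.prime_two⟩
  have hui := invol_inv hu
  have hcomm : ∀ g : G, u * g * u⁻¹ * g⁻¹ = u * (g * u * g⁻¹) := by
    intro g; rw [hui]; group
  constructor
  · intro hiso g
    rw [hcomm]
    set v := g * u * g⁻¹ with hv
    have hvo : orderOf v = 2 := by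
      rw [hv, ← hu]
      have hs : SemiconjBy g u (g * u * g⁻¹) := by
        unfold SemiconjBy; group
      exact (hs.orderOf_eq g).symm
    by_contra hne
    rw [Nat.not_odd_iff_even] at hne
    -- the dihedral group D
    set D := Subgroup.closure ({u, v} : Set G) with hD
    have huD : u ∈ D := x_mem_closure_pair u v
    have hvD : v ∈ D := y_mem_closure_pair u v
    have hpu : IsPGroup 2 (Subgroup.zpowers (⟨u, huD⟩ : D)) := by
      apply IsPGroup.of_card (n := 1)
      rw [Nat.card_zpowers, Subgroup.orderOf_mk, hu, pow_one]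
    have hpv : IsPGroup 2 (Subgroup.zpowers (⟨v, hvD⟩ : D)) := by
      apply IsPGroup.of_card (n := 1)
      rw [Nat.card_zpowers, Subgroup.orderOf_mk, hvo, pow_one]
    obtain ⟨S, hS⟩ := hpu.exists_le_sylow
    obtain ⟨S', hS'⟩ := hpv.exists_le_sylow
    obtain ⟨d, hd⟩ := MulAction.exists_smul_eq D S' S
    have huS : (⟨u, huD⟩ : D) ∈ S := hS (Subgroup.mem_zpowers _)
    have hvS' : (⟨v, hvD⟩ : D) ∈ S' := hS' (Subgroup.mem_zpowers _)
    have hwS : d * (⟨v, hvD⟩ : D) * d⁻¹ ∈ S := by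
      rw [← hd, mem_smul_sylow]
      have : d⁻¹ * (d * (⟨v, hvD⟩ : D) * d⁻¹) * d = ⟨v, hvD⟩ := by group
      rw [this]; exact hvS'
    -- embed S into a Sylow subgroup of G
    obtain ⟨Q, hQ⟩ := (S.2.map D.subtype).exists_le_sylow
    have huQ : u ∈ Q := hQ ⟨⟨u, huD⟩, huS, rfl⟩
    have hwQ : (d : G) * v * (d : G)⁻¹ ∈ Q := hQ ⟨d * (⟨v, hvD⟩ : D) * d⁻¹, hwS, rfl⟩
    have hisoQ := isolated_transfer P Q u huP hiso huQ
    have hw : (d : G) * v * (d : G)⁻¹ = ((d : G) * g) * u * ((d : G) * g)⁻¹ := by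
      rw [hv]; group
    rw [hw] at hwQ
    have hwu := hisoQ _ hwQ
    rw [← hw] at hwu
    -- so v is conjugate to u in D, contradiction
    have hconj : (d : G)⁻¹ * u * ((d : G)⁻¹)⁻¹ = v := by
      rw [← hwu]; group
    exact Cfsg.Agent.S0210.result u v hu hvo hne (d : G)⁻¹ (inv_mem d.2) hconj
  · intro hodd g hg
    have h1 := hodd g
    rw [hcomm] at h1
    have hmem : u * (g * u * g⁻¹) ∈ (P : Subgroup G) := mul_mem huP hg
    obtain ⟨k, hk⟩ := (IsPGroup.iff_orderOf.mp P.2) ⟨_, hmem⟩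
    rw [Subgroup.orderOf_mk] at hk
    have h2 : orderOf (u * (g * u * g⁻¹)) = 1 := by
      rcases Nat.eq_zero_or_pos k with rfl | hkpos
      · simpa using hk
      · exfalso
        rw [hk] at h1
        have : Even (2 ^ k) := (Nat.even_pow' hkpos.ne').mpr even_two
        exact (Nat.not_even_iff_odd.mpr h1) this
    have h3 : u * (g * u * g⁻¹) = 1 := orderOf_eq_one_iff.mp h2
    have h4 : g * u * g⁻¹ = u⁻¹ := (eq_inv_of_mul_eq_one_right h3)
    rw [h4, hui]

end Cfsg.Agent.S0216
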