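import Mathlib
import Cfsg.Statements.S0231
import Cfsg.Agent.Lib.Lead.Dihedral
import Cfsg.Agent.S0208
import Cfsg.Agent.S0209
import Cfsg.Agent.S0216

set_option autoImplicit false
open Cfsg
open Cfsg.Agent.Lib.Lead
open scoped Pointwise

namespace Cfsg.Agent.S0231

variable {G : Type*} [Group G]

theorem mem_conj_smul (H : Subgroup G) (g x : G) :
    x ∈ MulAut.conj g • H ↔ g⁻¹ * x * g ∈ H := by
  rw [Subgroup.mem_pointwise_smul_iff_inv_smul_mem]
  simp [MulAut.smul_def]

/-- the TI property for every pair of Sylow subgroups -/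
theorem ti_all [Finite G] (T : Sylow 2 G)
    (hTI : ∀ g : G, MulAut.conj g • (T : Subgroup G) ≠ T → MulAut.conj g • (T : Subgroup G) ⊓ T = ⊥)
    (A B : Sylow 2 G) (hAB : A ≠ B) (x : G) (hxA : x ∈ A) (hxB : x ∈ B) : x = 1 := by
  haveI : Fact (Nat.Prime 2) := ⟨Nat.prime_two⟩
  obtain ⟨a, rfl⟩ := MulAction.exists_smul_eq G T A
  obtain ⟨b, rfl⟩ := MulAction.exists_smul_eq G T B
  rw [Cfsg.Agent.S0216.mem_smul_sylow] at hxA hxB
  have hne : MulAut.conj (a⁻¹ * b) • (T : Subgroup G) ≠ T := by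
    intro h
    apply hAB
    have h1 : ((a⁻¹ * b) • T : Sylow 2 G) = T := Sylow.ext h
    rw [mul_smul] at h1
    calc a • T = a • (a⁻¹ • b • T) := by rw [h1]
      _ = b • T := smul_inv_smul a (b • T)
  have h2 := hTI _ hne
  have h3 : a⁻¹ * x * a ∈ MulAut.conj (a⁻¹ * b) • (T : Subgroup G) ⊓ T := by
    refine Subgroup.mem_inf.mpr ⟨?_, hxA⟩
    rw [mem_conj_smul]
    have : (a⁻¹ * b)⁻¹ * (a⁻¹ * x * a) * (a⁻¹ * b) = b⁻¹ * x * b := by group
    rw [this]; exact hxB
  rw [h2, Subgroup.mem_bot] at h3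
  have : x = a * (a⁻¹ * x * a) * a⁻¹ := by group
  rw [this, h3]; group

theorem invol_mem_sylow (s : G) (hs : orderOf s = 2) : ∃ A : Sylow 2 G, s ∈ A := by
  have hp : IsPGroup 2 (Subgroup.zpowers s) := by
    apply IsPGroup.of_card (n := 1)
    rw [Nat.card_zpowers, hs, pow_one]
  obtain ⟨A, hA⟩ := hp.exists_le_sylow
  exact ⟨A, hA (Subgroup.mem_zpowers s)⟩

theorem pair_mem_sylow (s z : G) (hs : orderOf s = 2) (hz : orderOf z = 2) (hc : Commute s z) :
    ∃ A : Sylow 2 G, s ∈ A ∧ z ∈ A := by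
  have hp : IsPGroup 2 (Subgroup.zpowers s) := by
    apply IsPGroup.of_card (n := 1)
    rw [Nat.card_zpowers, hs, pow_one]
  have hq : IsPGroup 2 (Subgroup.zpowers z) := by
    apply IsPGroup.of_card (n := 1)
    rw [Nat.card_zpowers, hz, pow_one]
  have hle : Subgroup.zpowers s ≤ Subgroup.normalizer (Subgroup.zpowers z : Set G) := by
    rw [Subgroup.zpowers_le]
    rw [Subgroup.mem_normalizer_iff]
    intro h
    have : s * h * s⁻¹ ∈ Subgroup.zpowers z ↔ h ∈ Subgroup.zpowers z := by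
      constructor
      · intro hm
        obtain ⟨k, hk⟩ := hm
        have hck : Commute s (z ^ k) := hc.zpow_right k
        have : h = s⁻¹ * (s * h * s⁻¹) * s := by group
        rw [this, ← hk]
        have : s⁻¹ * z ^ k * s = z ^ k := by
          rw [mul_assoc, ← hck.eq, inv_mul_cancel_left]
        rw [this]; exact Subgroup.zpow_mem_zpowers z k
      · rintro ⟨k, rfl⟩
        have hck : Commute s (z ^ k) := hc.zpow_right k
        simp only
        rw [hck.eq, mul_inv_cancel_right]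
        exact Subgroup.zpow_mem_zpowers z k
    exact this.symm
  have hsup := IsPGroup.to_sup_of_normal_right' hp hq hle
  obtain ⟨A, hA⟩ := hsup.exists_le_sylow
  exact ⟨A, hA (Subgroup.mem_sup_left (Subgroup.mem_zpowers s)),
    hA (Subgroup.mem_sup_right (Subgroup.mem_zpowers z))⟩

theorem commuting_mem [Finite G] (T : Sylow 2 G)
    (hTI : ∀ g : G, MulAut.conj g • (T : Subgroup G) ≠ T → MulAut.conj g • (T : Subgroup G) ⊓ T = ⊥)
    (s z : G) (hs : orderOf s = 2) (hz : orderOf z = 2) (hc : Commute s z)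
    (A : Sylow 2 G) (hsA : s ∈ A) : z ∈ A := by
  obtain ⟨A', hsA', hzA'⟩ := pair_mem_sylow s z hs hz hc
  by_cases h : A' = A
  · rw [← h]; exact hzA'
  · exact absurd (ti_all T hTI A' A h s hsA' hsA) (invol_ne_one hs)

theorem nonconj_mem [Finite G] (T : Sylow 2 G)
    (hTI : ∀ g : G, MulAut.conj g • (T : Subgroup G) ≠ T → MulAut.conj g • (T : Subgroup G) ⊓ T = ⊥)
    (s t : G) (hs : orderOf s = 2) (ht : orderOf t = 2) (hns : ¬ IsConj s t)
    (A : Sylow 2 G) (hsA : s ∈ A) : t ∈ A := by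
  have heven : Even (orderOf (s * t)) := by
    by_contra hne
    rw [Nat.not_even_iff_odd] at hne
    obtain ⟨d, -, hd⟩ := Cfsg.Agent.S0208.result s t hs ht hne
    exact hns (isConj_iff.mpr ⟨d, hd⟩)
  obtain ⟨hz2, hzs, hzt⟩ := Cfsg.Agent.S0209.result s t hs ht heven
  have hzA := commuting_mem T hTI s _ hs hz2 hzs.symm A hsA
  exact commuting_mem T hTI _ t hz2 ht hzt A hzA

/-- Let T be a Sylow 2-subgroup of the finite group G which is not normal and which intersects every other Sylow 2-subgroup trivially. Then G has a single conjugacy class of involutions. -/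
theorem result {G : Type*} [Group G] [Finite G] (T : Sylow 2 G) (hnn : ¬ (T : Subgroup G).Normal) (hTI : ∀ g : G, MulAut.conj g • (T : Subgroup G) ≠ T → MulAut.conj g • (T : Subgroup G) ⊓ T = ⊥) (s t : G) (hs : orderOf s = 2) (ht : orderOf t = 2) : IsConj s t := by
  haveI : Fact (Nat.Prime 2) := ⟨Nat.prime_two⟩
  by_contra hns
  obtain ⟨A, hsA⟩ := invol_mem_sylow s hs
  have htA := nonconj_mem T hTI s t hs ht hns A hsA
  -- another Sylow subgroup
  have hex : ∃ A' : Sylow 2 G, A' ≠ A := by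
    by_contra hall
    push Not at hall
    haveI : Subsingleton (Sylow 2 G) := ⟨fun X Y => (hall X).trans (hall Y).symm⟩
    exact hnn (Sylow.normal_of_subsingleton T)
  obtain ⟨A', hA'⟩ := hex
  -- an involution in A'
  have hcard : Nat.card (A' : Subgroup G) = Nat.card (A : Subgroup G) := by
    rw [Sylow.card_eq_multiplicity, Sylow.card_eq_multiplicity]
  have h2 : 2 ∣ Nat.card (A : Subgroup G) := by
    have h5 : orderOf (⟨s, hsA⟩ : (A : Subgroup G)) = 2 := by rw [Subgroup.orderOf_mk, hs]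
    have h6 := orderOf_dvd_natCard (⟨s, hsA⟩ : (A : Subgroup G))
    rwa [h5] at h6
  rw [← hcard] at h2
  obtain ⟨c, hc⟩ := exists_prime_orderOf_dvd_card' 2 h2
  have hcG : orderOf (c : G) = 2 := by rw [Subgroup.orderOf_coe, hc]
  have hcA : (c : G) ∉ A := fun h => invol_ne_one hcG (ti_all T hTI A' A hA' c c.2 h)
  have h1 : IsConj s (c : G) := by
    by_contra h
    exact hcA (nonconj_mem T hTI s c hs hcG h A hsA)
  have h3 : IsConj t (c : G) := by
    by_contra h
    exact hcA (nonconj_mem T hTI t c ht hcG h A htA)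
  exact hns (h1.trans h3.symm)

end Cfsg.Agent.S0231
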