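import Cfsg.Statements.S0146
import Cfsg.Agent.Lib.Helper6.IndFun

set_option autoImplicit false
open Cfsg

namespace Cfsg.Agent.S0146

open Cfsg.Agent.Lib.Helper6
open scoped ComplexConjugate

/-- Frobenius reciprocity for the induction map on functions: pairing the induced function with a class function of the big group equals pairing the original function with the restriction. -/
theorem result {G : Type*} [Group G] [Fintype G] (H : Subgroup G) [Fintype H] (θ : H → ℂ) (χ : G → ℂ) (hχ : Cfsg.IsClassFunction G χ) : Cfsg.classInner (Cfsg.indFun H θ) χ = Cfsg.classInner θ (fun h : H => χ h) := by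
  have hG : (Nat.card G : ℂ) ≠ 0 := card_ne_zero_complex G
  have hH : (Nat.card H : ℂ) ≠ 0 := card_ne_zero_complex H
  unfold Cfsg.classInner Cfsg.indFun
  -- LHS sum
  have key : ∑ g : G, ((Nat.card H : ℂ)⁻¹ * ∑ x : G, Cfsg.extendByZero H θ (x⁻¹ * g * x)) * conj (χ g)
      = (Nat.card H : ℂ)⁻¹ * ((Nat.card G : ℂ) * ∑ h : H, θ h * conj (χ h)) := by
    have h1 : ∀ g : G, ((Nat.card H : ℂ)⁻¹ * ∑ x : G, Cfsg.extendByZero H θ (x⁻¹ * g * x)) * conj (χ g)
        = (Nat.card H : ℂ)⁻¹ * ∑ x : G, Cfsg.extendByZero H θ (x⁻¹ * g * x) * conj (χ g) := by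
      intro g
      rw [mul_assoc, Finset.sum_mul]
    simp_rw [h1]
    rw [← Finset.mul_sum, Finset.sum_comm]
    congr 1
    have h2 : ∀ x : G, ∑ g : G, Cfsg.extendByZero H θ (x⁻¹ * g * x) * conj (χ g)
        = ∑ h : H, θ h * conj (χ h) := by
      intro x
      rw [← sum_extendByZero_mul H θ (fun g => conj (χ g))]
      refine Fintype.sum_equiv (MulAut.conj x⁻¹).toEquiv _ _ ?_
      intro g
      simp only [MulEquiv.toEquiv_eq_coe, EquivLike.coe_coe, MulAut.conj_apply, inv_inv]
      congr 2
      have := hχ g x⁻¹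
      simpa using this.symm
    simp_rw [h2]
    simp [Finset.sum_const, Finset.card_univ, Nat.card_eq_fintype_card]
  rw [key]
  field_simp

end Cfsg.Agent.S0146
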