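import Cfsg.Statements.S0174
import Cfsg.Agent.Lib.Helper6.Clifford
import Cfsg.Agent.Lib.Helper6.ClassFun

set_option autoImplicit false
open Cfsg

namespace Cfsg.Agent.S0174

/-- The Clifford Theorem for characters: if θ is an irreducible character of a finite group G, N is a normal subgroup and χ is an irreducible character of N occurring in the restriction of θ, then θ restricted to N equals e times the sum of the distinct G-conjugates of χ, where e is the inner product of the restriction with χ. -/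
theorem result {G : Type*} [Group G] [Fintype G] (N : Subgroup G) [Fintype N] (hN : N.Normal) (θ : G → ℂ) (hθ : Cfsg.IsIrrCharacter G θ) (χ : N → ℂ) (hχ : Cfsg.IsIrrCharacter N χ) (hconst : Cfsg.classInner (fun n : N => θ n) χ ≠ 0) : (fun n : N => θ n) = Cfsg.classInner (fun n : N => θ n) χ • ∑ᶠ ψ ∈ {ψ : N → ℂ | ∃ g : G, ψ = fun n : N => χ ⟨g * n * g⁻¹, hN.conj_mem n n.2 g⟩}, ψ := by
  classical
  have : Fintype (Cfsg.IrrCharacter N) := Fintype.ofFinite _
  have hNc := Cfsg.Agent.Lib.Helper6.card_ne_zero_complex N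
  set θN : N → ℂ := fun n : N => θ n with hθN
  set e := Cfsg.classInner θN χ with he
  have hθNchar : Cfsg.IsCharacter N θN :=
    Cfsg.Agent.Lib.Helper6.IsCharacter.restrict N (Cfsg.Agent.Lib.Helper6.IsIrrCharacter.isCharacter hθ)
  have hθcf := Cfsg.Agent.Lib.Helper6.IsIrrCharacter.isClassFunction hθ
  set O : Set (N → ℂ) :=
    {ψ : N → ℂ | ∃ g : G, ψ = fun n : N => χ ⟨g * n * g⁻¹, hN.conj_mem n n.2 g⟩} with hO
  have hOmem : ∀ ψ : N → ℂ, ψ ∈ O ↔ ∃ g : G, ψ = Cfsg.Agent.Lib.Helper6.conjFun N hN χ g := by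
    intro ψ
    rfl
  -- Step 1
  have step1 : ∀ ψ : Cfsg.IrrCharacter N,
      Cfsg.classInner θN (ψ : N → ℂ) = if (ψ : N → ℂ) ∈ O then e else 0 := by
    intro ψ
    split_ifs with hψ
    · obtain ⟨g, hg⟩ := (hOmem _).mp hψ
      rw [hg]
      have h1 := Cfsg.Agent.Lib.Helper6.classInner_conjFun_conjFun N hN θN χ g
      rw [Cfsg.Agent.Lib.Helper6.conjFun_restrict N hN hθcf g] at h1
      exact h1
    · -- the induced character
      have hA : Cfsg.IsCharacter G (Cfsg.indFun N χ) :=
        Cfsg.Agent.Lib.Helper6.IsCharacter.indFun N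
          (Cfsg.Agent.Lib.Helper6.IsIrrCharacter.isCharacter hχ)
      have hAθ : Cfsg.classInner (Cfsg.indFun N χ) θ ≠ 0 := by
        rw [Cfsg.Agent.S0146.result N χ θ hθcf]
        intro h0
        apply hconst
        rw [he, ← Cfsg.Agent.Lib.Helper6.classInner_conj_symm]
        have h0' : Cfsg.classInner χ θN = 0 := h0
        rw [h0', map_zero]
      obtain ⟨B, hB, hAB⟩ :=
        Cfsg.Agent.Lib.Helper6.IsCharacter.exists_eq_add_of_constituent hA hθ hAθ
      have hres : (fun n : N => Cfsg.indFun N χ n) = θN + (fun n : N => B n) := by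
        funext n
        rw [hAB]
        rfl
      have hzero : Cfsg.classInner (fun n : N => Cfsg.indFun N χ n) (ψ : N → ℂ) = 0 := by
        rw [Cfsg.Agent.Lib.Helper6.classInner_indFun_restrict_left N hN]
        have : ∀ x : G, Cfsg.classInner (Cfsg.Agent.Lib.Helper6.conjFun N hN χ x) (ψ : N → ℂ) = 0 := by
          intro x
          rw [Cfsg.Agent.Lib.Helper6.classInner_isIrrCharacter
            (Cfsg.Agent.Lib.Helper6.IsIrrCharacter.conjFun N hN hχ x) ψ.2, if_neg]
          intro h
          apply hψ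
          exact (hOmem _).mpr ⟨x, h.symm⟩
        simp [this]
      rw [hres, Cfsg.Agent.Lib.Helper6.classInner_add_left] at hzero
      obtain ⟨a, ha⟩ := Cfsg.Agent.Lib.Helper6.IsCharacter.classInner_irr_nat hθNchar ψ.2
      obtain ⟨b, hb⟩ := Cfsg.Agent.Lib.Helper6.IsCharacter.classInner_irr_nat
        (Cfsg.Agent.Lib.Helper6.IsCharacter.restrict N hB) ψ.2
      rw [ha, hb] at hzero
      have hab : a + b = 0 := by exact_mod_cast hzero
      have ha0 : a = 0 := by omega
      rw [ha, ha0]
      simp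
  -- Step 2
  have step2 := Cfsg.Agent.Lib.Helper6.classFunction_eq_sum θN
    (Cfsg.Agent.Lib.Helper6.IsCharacter.isClassFunction hθNchar)
  -- Step 3
  have step3 : ∑ᶠ ψ ∈ O, ψ
      = ∑ ψ ∈ (Finset.univ.filter (fun ψ : Cfsg.IrrCharacter N => (ψ : N → ℂ) ∈ O)),
        (ψ : N → ℂ) := by
    have hOimg : O = Subtype.val ''
        ((Finset.univ.filter (fun ψ : Cfsg.IrrCharacter N => (ψ : N → ℂ) ∈ O) :
          Finset (Cfsg.IrrCharacter N)) : Set (Cfsg.IrrCharacter N)) := by
      ext ψ
      constructor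
      · intro hψ
        obtain ⟨g, hg⟩ := (hOmem _).mp hψ
        have hirr : Cfsg.IsIrrCharacter N ψ := by
          rw [hg]; exact Cfsg.Agent.Lib.Helper6.IsIrrCharacter.conjFun N hN hχ g
        refine ⟨⟨ψ, hirr⟩, ?_, rfl⟩
        simp only [Finset.coe_filter, Finset.mem_univ, true_and, Set.mem_ofPred_eq]
        exact hψ
      · rintro ⟨ψ', hψ', rfl⟩
        simpa using hψ'
    conv_lhs => rw [hOimg]
    rw [finsum_mem_image Subtype.val_injective.injOn, finsum_mem_coe_finset]
  rw [step3, Finset.smul_sum, Finset.sum_filter]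
  conv_lhs => rw [step2]
  apply Finset.sum_congr rfl
  intro ψ _
  rw [step1 ψ]
  split_ifs with hψ
  · rfl
  · rw [zero_smul]

end Cfsg.Agent.S0174
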