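import Cfsg.Statements.S0932
import Mathlib
import Cfsg.Agent.Lib.Helper6.ConjSum
import Cfsg.Agent.Lib.Helper6.Constituent

set_option autoImplicit false
open Cfsg

namespace Cfsg.Agent.S0932

theorem finsum_mem_setOf_eq {α : Type*} [Fintype α] (P : α → Prop) [DecidablePred P] (f : α → ℂ) :
    ∑ᶠ p ∈ {p : α | P p}, f p = ∑ p ∈ Finset.univ.filter P, f p := by
  rw [← finsum_mem_coe_finset]
  congr 1
  ext p
  simp


/-- Let H be a subgroup of the finite group G and ξ a character of H. For every g ∈ G, the sum of ξ h / ξ 1 over the elements h ∈ H that are conjugate in G to g equals the central character at g of the character of G induced from ξ (class size times value divided by degree). -/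
theorem result {G : Type*} [Group G] [Fintype G] (H : Subgroup G) (ξ : H → ℂ) (hξ : Cfsg.IsCharacter H ξ) (g : G) : Cfsg.inducedCentralChar H ξ g = Cfsg.centralChar (Cfsg.indFun H ξ) g := by
  classical
  have _ := hξ
  have : Fintype H := Fintype.ofFinite H
  unfold Cfsg.inducedCentralChar Cfsg.centralChar
  rw [finsum_mem_setOf_eq, Cfsg.Agent.Lib.Helper6.indFun_one,
    Cfsg.Agent.Lib.Helper6.indFun_eq_sum_class]
  -- the sum over the class
  have hsum : ∑ y ∈ Finset.univ.filter (fun y : G => IsConj g y), Cfsg.extendByZero H ξ y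
      = ∑ h ∈ Finset.univ.filter (fun h : H => IsConj g (h : G)), ξ h := by
    symm
    apply Finset.sum_bij_ne_zero (fun (h : H) _ _ => (h : G))
    · intro h hh _
      simp only [Finset.mem_filter, Finset.mem_univ, true_and] at hh ⊢
      exact hh
    · intro h₁ _ _ h₂ _ _ heq
      exact Subtype.ext heq
    · intro y hy hne
      simp only [Finset.mem_filter, Finset.mem_univ, true_and] at hy
      have hm : y ∈ H := by
        by_contra hn
        exact hne (Cfsg.Agent.Lib.Helper6.extendByZero_of_not_mem H ξ hn)
      refine ⟨⟨y, hm⟩, ?_, ?_, rfl⟩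
      · simp only [Finset.mem_filter, Finset.mem_univ, true_and]
        exact hy
      · rw [Cfsg.Agent.Lib.Helper6.extendByZero_of_mem H ξ hm] at hne
        exact hne
    · intro h _ _
      exact (Cfsg.Agent.Lib.Helper6.extendByZero_coe H ξ h).symm
  rw [hsum, ← Finset.sum_div]
  have hH := Cfsg.Agent.Lib.Helper6.card_ne_zero_complex H
  have hC := Cfsg.Agent.Lib.Helper6.card_ne_zero_complex (Subgroup.centralizer ({g} : Set G))
  have hidx : (H.index : ℂ) ≠ 0 := by
    have : H.index ≠ 0 := Subgroup.index_ne_zero_of_finite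
    exact_mod_cast this
  have h1 : ((Subgroup.centralizer ({g} : Set G)).index : ℂ)
      * (Nat.card (Subgroup.centralizer ({g} : Set G)) : ℂ) = (H.index : ℂ) * (Nat.card H : ℂ) := by
    rw [← Nat.cast_mul, ← Nat.cast_mul, Subgroup.index_mul_card, Subgroup.index_mul_card]
  by_cases hξ1 : ξ 1 = 0
  · rw [hξ1]
    simp
  · field_simp
    linear_combination -(∑ h ∈ Finset.univ.filter (fun h : H => IsConj g (h : G)), ξ h) * h1


end Cfsg.Agent.S0932
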