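import Cfsg.Statements.S0963
import Mathlib
import Cfsg.Agent.Lib.Helper6.CentralChar
import Cfsg.Agent.Lib.Helper6.EquivOfChar
import Cfsg.Agent.Lib.Helper6.Clifford
import Cfsg.Agent.Lib.Helper6.Constituent
import Cfsg.Agent.S0932

set_option autoImplicit false
open Cfsg

namespace Cfsg.Agent.S0963

theorem finsum_mem_setOf_eq {α : Type*} [Fintype α] (P : α → Prop) [DecidablePred P] (f : α → ℂ) :
    ∑ᶠ p ∈ {p : α | P p}, f p = ∑ p ∈ Finset.univ.filter P, f p := by
  rw [← finsum_mem_coe_finset]
  congr 1
  ext p
  simp


/-- Let N be a normal subgroup of the finite group G, χ an irreducible character of G and θ an irreducible character of N. Then θ occurs in the restriction of χ to N if and only if, for every n ∈ N, the central character of χ at n (class size in G times χ n over χ 1) equals the sum of θ m / θ 1 over the elements m of N conjugate in G to n. -/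
theorem result {G : Type*} [Group G] [Fintype G] (N : Subgroup G) [N.Normal] [Fintype N] (χ : Cfsg.IrrCharacter G) (θ : Cfsg.IrrCharacter N) : Cfsg.classInner (fun n : N => (χ : G → ℂ) n) (θ : N → ℂ) ≠ 0 ↔ ∀ n : N, Cfsg.centralChar (χ : G → ℂ) (n : G) = Cfsg.inducedCentralChar N (θ : N → ℂ) (n : G) := by
  classical
  have hN : N.Normal := inferInstance
  obtain ⟨χf, hχ⟩ := χ
  obtain ⟨θf, hθ⟩ := θ
  simp only
  have hθ1 : θf 1 ≠ 0 := Cfsg.Agent.Lib.Helper6.IsIrrCharacter.apply_one_ne_zero hθ
  have hχ1 : χf 1 ≠ 0 := Cfsg.Agent.Lib.Helper6.IsIrrCharacter.apply_one_ne_zero hχ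
  have hθch := Cfsg.Agent.Lib.Helper6.IsIrrCharacter.isCharacter hθ
  constructor
  · -- a constituent gives equality of central characters
    intro hcon n
    have hχ' := hχ
    obtain ⟨k, ρ, hρirr, hρ⟩ := hχ
    obtain ⟨d, X, hXirr, hX⟩ := hθ
    let σ : Representation ℂ N (Fin k → ℂ) := ρ.comp N.subtype
    have hσ : σ.character = fun m : N => χf m := by rw [← hρ]; rfl
    obtain ⟨f, hf⟩ := Cfsg.Agent.Lib.Helper6.exists_injective_intertwining X σ
      (by rw [hσ, hX]; exact hcon)
    -- the class sum acts as a scalar
    have hcl := Cfsg.Agent.Lib.Helper6.classOp_eq_centralChar_smul ρ (n : G)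
    rw [Cfsg.Agent.Lib.Helper6.classOp_eq_sum, hρ] at hcl
    set c := Cfsg.centralChar χf (n : G) with hc
    -- transfer to the subgroup
    have hsum : ∑ x ∈ Finset.univ.filter (fun x : G => IsConj (n : G) x), ρ x
        = ∑ m ∈ Finset.univ.filter (fun m : N => IsConj (n : G) (m : G)), σ m := by
      symm
      apply Finset.sum_bij (fun (m : N) _ => (m : G))
      · intro m hm
        simp only [Finset.mem_filter, Finset.mem_univ, true_and] at hm ⊢
        exact hm
      · intro m₁ _ m₂ _ h
        exact Subtype.ext h
      · intro x hx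
        simp only [Finset.mem_filter, Finset.mem_univ, true_and] at hx
        obtain ⟨y, hy⟩ := isConj_iff.mp hx
        have hxN : x ∈ N := by rw [← hy]; exact hN.conj_mem _ n.2 y
        exact ⟨⟨x, hxN⟩, by simp only [Finset.mem_filter, Finset.mem_univ, true_and]; exact hx, rfl⟩
      · intro m _
        rfl
    rw [hsum] at hcl
    -- the same scalar on the space of θ
    have hXsum : ∑ m ∈ Finset.univ.filter (fun m : N => IsConj (n : G) (m : G)), X m
        = c • (LinearMap.id : (Fin d → ℂ) →ₗ[ℂ] (Fin d → ℂ)) := by
      apply LinearMap.ext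
      intro v
      apply hf
      have h1 : f ((∑ m ∈ Finset.univ.filter (fun m : N => IsConj (n : G) (m : G)), X m) v)
          = (∑ m ∈ Finset.univ.filter (fun m : N => IsConj (n : G) (m : G)), σ m) (f v) := by
        rw [LinearMap.sum_apply, LinearMap.sum_apply, map_sum]
        apply Finset.sum_congr rfl
        intro m _
        exact f.isIntertwining _ _ m v
      rw [h1, hcl]
      simp
    have htr := congrArg (LinearMap.trace ℂ (Fin d → ℂ)) hXsum
    rw [map_sum, map_smul, LinearMap.trace_id, smul_eq_mul] at htr
    have h2 : ∑ m ∈ Finset.univ.filter (fun m : N => IsConj (n : G) (m : G)), θf m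
        = c * θf 1 := by
      rw [← hX, Representation.char_one, ← htr]
      rfl
    unfold Cfsg.inducedCentralChar
    rw [finsum_mem_setOf_eq, ← Finset.sum_div, h2]
    field_simp
  · -- equality of central characters gives a constituent
    intro h
    have hS := fun n : N => Cfsg.Agent.S0932.result N θf hθch (n : G)
    have hind1 : Cfsg.indFun N θf 1 ≠ 0 := by
      rw [Cfsg.Agent.Lib.Helper6.indFun_one]
      apply mul_ne_zero
      · have : N.index ≠ 0 := Subgroup.index_ne_zero_of_finite
        exact_mod_cast this
      · exact hθ1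
    -- χ n / χ 1 = θ^G n / θ^G 1
    have hprop : ∀ n : N, χf n = (χf 1 / Cfsg.indFun N θf 1) * Cfsg.indFun N θf n := by
      intro n
      have h1 := h n
      rw [hS n] at h1
      unfold Cfsg.centralChar at h1
      have hidx : ((Subgroup.centralizer ({(n : G)} : Set G)).index : ℂ) ≠ 0 := by
        have : (Subgroup.centralizer ({(n : G)} : Set G)).index ≠ 0 :=
          Subgroup.index_ne_zero_of_finite
        exact_mod_cast this
      field_simp at h1 ⊢
      linear_combination h1
    have hres : (fun n : N => χf n)
        = (χf 1 / Cfsg.indFun N θf 1) • fun n : N => Cfsg.indFun N θf n := by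
      funext n
      rw [Pi.smul_apply, smul_eq_mul]
      exact hprop n
    rw [hres, Cfsg.Agent.Lib.Helper6.classInner_smul_left]
    apply mul_ne_zero (div_ne_zero hχ1 hind1)
    rw [Cfsg.Agent.Lib.Helper6.classInner_indFun_restrict_left N hN]
    apply mul_ne_zero (inv_ne_zero (Cfsg.Agent.Lib.Helper6.card_ne_zero_complex N))
    -- the sum of the inner products is a positive natural number
    have hterm : ∀ x : G, Cfsg.classInner (Cfsg.Agent.Lib.Helper6.conjFun N hN θf x) θf
        = if Cfsg.Agent.Lib.Helper6.conjFun N hN θf x = θf then 1 else 0 := by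
      intro x
      exact Cfsg.Agent.Lib.Helper6.classInner_isIrrCharacter
        (Cfsg.Agent.Lib.Helper6.IsIrrCharacter.conjFun N hN hθ x) hθ
    rw [Finset.sum_congr rfl (fun x _ => hterm x), Finset.sum_boole]
    have hpos : 0 < (Finset.univ.filter
        (fun x : G => Cfsg.Agent.Lib.Helper6.conjFun N hN θf x = θf)).card := by
      apply Finset.card_pos.mpr
      refine ⟨1, ?_⟩
      simp only [Finset.mem_filter, Finset.mem_univ, true_and]
      exact Cfsg.Agent.Lib.Helper6.conjFun_one N hN θf
    exact_mod_cast hpos.ne'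


end Cfsg.Agent.S0963
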