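import Cfsg.Statements.S0903
import Mathlib

set_option autoImplicit false
open Cfsg

namespace Cfsg.Agent.S0903

/-- Let P be a p-subgroup of the finite group G, let c centralize P and let g, h ∈ G. The number of pairs (x, y) with x conjugate to g, y conjugate to h and x * y = c is congruent modulo p to the number of such pairs in which x and y both centralize P. (This is why the Brauer map on class sums is multiplicative.) -/
theorem result {G : Type*} [Group G] [Finite G] (p : ℕ) [Fact p.Prime] (P : Subgroup G) (hP : IsPGroup p P) (c : G) (hc : c ∈ Subgroup.centralizer (P : Set G)) (g h : G) : Nat.card {xy : G × G // IsConj g xy.1 ∧ IsConj h xy.2 ∧ xy.1 * xy.2 = c} ≡ Nat.card {xy : G × G // IsConj g xy.1 ∧ IsConj h xy.2 ∧ xy.1 * xy.2 = c ∧ xy.1 ∈ Subgroup.centralizer (P : Set G) ∧ xy.2 ∈ Subgroup.centralizer (P : Set G)} [MOD p] := by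
  classical
  let X : Type _ := {xy : G × G // IsConj g xy.1 ∧ IsConj h xy.2 ∧ xy.1 * xy.2 = c}
  have hcP : ∀ a : P, (a : G) * c * (a : G)⁻¹ = c := by
    intro a
    have := Subgroup.mem_centralizer_iff.mp hc a a.2
    rw [this]; group
  let act : P → X → X := fun a xy =>
    ⟨((a : G) * xy.1.1 * (a : G)⁻¹, (a : G) * xy.1.2 * (a : G)⁻¹), by
      refine ⟨xy.2.1.trans (isConj_iff.mpr ⟨a, rfl⟩), xy.2.2.1.trans (isConj_iff.mpr ⟨a, rfl⟩), ?_⟩
      have h3 := xy.2.2.2
      calc (a : G) * xy.1.1 * (a : G)⁻¹ * ((a : G) * xy.1.2 * (a : G)⁻¹)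
          = (a : G) * (xy.1.1 * xy.1.2) * (a : G)⁻¹ := by group
        _ = c := by rw [h3]; exact hcP a⟩
  let _ : MulAction P X :=
    { smul := act
      one_smul := by
        intro xy
        apply Subtype.ext
        apply Prod.ext
        · change ((1 : P) : G) * xy.1.1 * ((1 : P) : G)⁻¹ = xy.1.1
          simp
        · change ((1 : P) : G) * xy.1.2 * ((1 : P) : G)⁻¹ = xy.1.2
          simp
      mul_smul := by
        intro a b xy
        apply Subtype.ext
        apply Prod.ext
        · change ((a * b : P) : G) * xy.1.1 * ((a * b : P) : G)⁻¹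
            = (a : G) * ((b : G) * xy.1.1 * (b : G)⁻¹) * (a : G)⁻¹
          simp [mul_assoc]
        · change ((a * b : P) : G) * xy.1.2 * ((a * b : P) : G)⁻¹
            = (a : G) * ((b : G) * xy.1.2 * (b : G)⁻¹) * (a : G)⁻¹
          simp [mul_assoc] }
  have hsmul : ∀ (a : P) (xy : X), (a • xy).1 = ((a : G) * xy.1.1 * (a : G)⁻¹, (a : G) * xy.1.2 * (a : G)⁻¹) :=
    fun _ _ => rfl
  have hmod := hP.card_modEq_card_fixedPoints X
  refine hmod.trans ?_
  have hcongr : Nat.card (MulAction.fixedPoints P X)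
      = Nat.card {xy : G × G // IsConj g xy.1 ∧ IsConj h xy.2 ∧ xy.1 * xy.2 = c ∧
          xy.1 ∈ Subgroup.centralizer (P : Set G) ∧ xy.2 ∈ Subgroup.centralizer (P : Set G)} := by
    apply Nat.card_congr
    refine
      { toFun := fun z => ⟨z.1.1, z.1.2.1, z.1.2.2.1, z.1.2.2.2, ?_, ?_⟩
        invFun := fun w => ⟨⟨w.1, w.2.1, w.2.2.1, w.2.2.2.1⟩, ?_⟩
        left_inv := fun z => rfl
        right_inv := fun w => rfl }
    · rw [Subgroup.mem_centralizer_iff]
      intro a ha
      have h1 := z.2 ⟨a, ha⟩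
      have h2 := congrArg (fun t : X => t.1.1) h1
      simp only [hsmul] at h2
      calc a * z.1.1.1 = (a * z.1.1.1 * a⁻¹) * a := by group
        _ = z.1.1.1 * a := by rw [h2]
    · rw [Subgroup.mem_centralizer_iff]
      intro a ha
      have h1 := z.2 ⟨a, ha⟩
      have h2 := congrArg (fun t : X => t.1.2) h1
      simp only [hsmul] at h2
      calc a * z.1.1.2 = (a * z.1.1.2 * a⁻¹) * a := by group
        _ = z.1.1.2 * a := by rw [h2]
    · intro a
      apply Subtype.ext
      rw [hsmul]
      have h1 := Subgroup.mem_centralizer_iff.mp w.2.2.2.2.1 a a.2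
      have h2 := Subgroup.mem_centralizer_iff.mp w.2.2.2.2.2 a a.2
      apply Prod.ext
      · change (a : G) * w.1.1 * (a : G)⁻¹ = w.1.1
        rw [h1]; group
      · change (a : G) * w.1.2 * (a : G)⁻¹ = w.1.2
        rw [h2]; group
  rw [hcongr]


end Cfsg.Agent.S0903
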