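import Cfsg.Statements.S0908
import Mathlib
import Cfsg.Agent.Lib.Helper6.BlkDefect
import Cfsg.Agent.Lib.Helper6.BlkMinMax2

set_option autoImplicit false
open Cfsg

namespace Cfsg.Agent.S0908

open Cfsg.Agent.Lib.Helper6

/-- Let B be a block of the finite group G relative to a maximal ideal M of the algebraic integers containing the prime p, and let D be a defect group of B. Then the order of D is p ^ d, where d is the exponent of p in the order of G minus the least exponent of p in the degrees of the members of B. -/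
theorem result {G : Type*} [Group G] [Finite G] (p : ℕ) [Fact p.Prime] (M : Ideal Cfsg.AlgInt) (hM : Cfsg.IsPModular p M) (B : Set (Cfsg.IrrCharacter G)) (hB : Cfsg.IsPBlock M B) (D : Subgroup G) (hD : Cfsg.IsDefectGroup p M B D) : Nat.card D = p ^ Cfsg.blockDefect p B := by
  classical
  have : Fintype G := Fintype.ofFinite G
  have hp : p.Prime := hM.1
  obtain ⟨χ₀, rfl⟩ := hB
  obtain ⟨g, hgdef, hP⟩ := hD
  obtain ⟨_, hg2, hg3⟩ := hgdef
  set C := Subgroup.centralizer ({g} : Set G) with hC
  obtain ⟨P, rfl⟩ := hP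
  set Bk := Cfsg.blockOf M (χ₀ : G → ℂ) with hBk
  have hχ₀B : χ₀ ∈ Bk := sameBlock_refl hM _
  set T : Set ℕ := (fun χ : Cfsg.IrrCharacter G => (Cfsg.charDegree (χ : G → ℂ)).factorization p) '' Bk
    with hT
  have hTne : T.Nonempty := ⟨_, χ₀, hχ₀B, rfl⟩
  set h₀ := sInf T with hh₀
  have hh₀mem : h₀ ∈ T := Nat.sInf_mem hTne
  -- card of D
  have hcardD : Nat.card ((P : Subgroup C).map C.subtype) = p ^ (Nat.card C).factorization p := by
    rw [Nat.card_congr ((P : Subgroup C).equivMapOfInjective C.subtype C.subtype_injective).symm.toEquiv]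
    exact P.card_eq_multiplicity
  set c := (Nat.card C).factorization p with hc
  set a := (Nat.card G).factorization p with ha
  set k := C.index.factorization p with hk
  have hak : a = c + k := by
    rw [ha, ← Subgroup.card_mul_index C, Nat.factorization_mul Nat.card_pos.ne'
      Subgroup.index_ne_zero_of_finite]
    rfl
  -- part A
  have hA : k ≤ h₀ := by
    obtain ⟨χ, hχB, hχ⟩ := hh₀mem
    rw [← hχ]
    exact factorization_index_le_of_centralChar hM χ.2 g (hg3 χ hχB)
  -- part B
  have hB' : c + h₀ ≤ a := by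
    apply card_pSubgroup_mul_le hM χ₀ g hg2 ((P : Subgroup C).map C.subtype)
      (sylow_map_isPGroup P) ?_ c hcardD h₀ ?_
    · intro w hw
      have hwC : w ∈ C := sylow_map_le P hw
      exact (Subgroup.mem_centralizer_iff.mp hwC g rfl)
    · intro χ hχB
      have h1 : h₀ ≤ (Cfsg.charDegree (χ : G → ℂ)).factorization p := Nat.sInf_le ⟨χ, hχB, rfl⟩
      exact (pow_dvd_pow p h1).trans (Nat.ordProj_dvd _ p)
  refine hcardD.trans ?_
  congr 1
  unfold Cfsg.blockDefect
  rw [← hT, ← hh₀, ← ha]
  omega

end Cfsg.Agent.S0908
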