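import Cfsg.Statements.S0147
import Cfsg.Agent.Lib.Helper6.IndFun

set_option autoImplicit false
open Cfsg

namespace Cfsg.Agent.S0147

open Cfsg.Agent.Lib.Helper6

/-- Transitivity of induction: inducing from H to K and then from K to G is the same as inducing from H to G. -/
theorem result {G : Type*} [Group G] [Fintype G] (H K : Subgroup G) [Fintype K] (hHK : H ≤ K) (θ : H → ℂ) : Cfsg.indFun K (Cfsg.indFun (H.subgroupOf K) (fun x => θ ⟨(x : K), Subgroup.mem_subgroupOf.mp x.2⟩)) = Cfsg.indFun H θ := by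
  classical
  have hK : (Nat.card K : ℂ) ≠ 0 := card_ne_zero_complex K
  have hH : (Nat.card H : ℂ) ≠ 0 := card_ne_zero_complex H
  have hcard : Nat.card (H.subgroupOf K) = Nat.card H :=
    Nat.card_congr (Subgroup.subgroupOfEquivOfLe hHK).toEquiv
  set θ' : H.subgroupOf K → ℂ := fun x => θ ⟨(x : K), Subgroup.mem_subgroupOf.mp x.2⟩ with hθ'
  -- extension by zero of θ' along K agrees with that of θ
  have hext : ∀ k : K, Cfsg.extendByZero (H.subgroupOf K) θ' k = Cfsg.extendByZero H θ (k : G) := by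
    intro k
    by_cases hk : (k : G) ∈ H
    · have hk' : k ∈ H.subgroupOf K := Subgroup.mem_subgroupOf.mpr hk
      rw [extendByZero_of_mem _ _ hk', extendByZero_of_mem _ _ hk]
    · have hk' : k ∉ H.subgroupOf K := fun h => hk (Subgroup.mem_subgroupOf.mp h)
      rw [extendByZero_of_not_mem _ _ hk', extendByZero_of_not_mem _ _ hk]
  -- value of the K-extension of the inner induced function
  have hinner : ∀ z : G, Cfsg.extendByZero K (Cfsg.indFun (H.subgroupOf K) θ') z
      = (Nat.card H : ℂ)⁻¹ * ∑ y : K, Cfsg.extendByZero H θ ((y : G)⁻¹ * z * (y : G)) := by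
    intro z
    by_cases hz : z ∈ K
    · rw [extendByZero_of_mem _ _ hz]
      unfold Cfsg.indFun
      rw [hcard]
      congr 1
      apply Finset.sum_congr rfl
      intro y _
      rw [hext]
      rfl
    · rw [extendByZero_of_not_mem _ _ hz]
      symm
      rw [Finset.sum_eq_zero, mul_zero]
      intro y _
      apply extendByZero_of_not_mem
      intro hmem
      apply hz
      have h1 : (y : G)⁻¹ * z * (y : G) ∈ K := hHK hmem
      have h2 : (y : G) * ((y : G)⁻¹ * z * (y : G)) * (y : G)⁻¹ ∈ K :=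
        K.mul_mem (K.mul_mem y.2 h1) (K.inv_mem y.2)
      simpa [mul_assoc] using h2
  funext g
  show (Nat.card K : ℂ)⁻¹ * ∑ x : G, Cfsg.extendByZero K (Cfsg.indFun (H.subgroupOf K) θ') (x⁻¹ * g * x)
    = (Nat.card H : ℂ)⁻¹ * ∑ x : G, Cfsg.extendByZero H θ (x⁻¹ * g * x)
  simp_rw [hinner]
  rw [← Finset.mul_sum, Finset.sum_comm]
  have h2 : ∀ y : K, ∑ x : G, Cfsg.extendByZero H θ ((y : G)⁻¹ * (x⁻¹ * g * x) * (y : G))
      = ∑ x : G, Cfsg.extendByZero H θ (x⁻¹ * g * x) := by
    intro y
    refine Fintype.sum_equiv (Equiv.mulRight (y : G)) _ _ ?_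
    intro x
    simp [mul_assoc]
  simp_rw [h2]
  simp only [Finset.sum_const, Finset.card_univ, nsmul_eq_mul, ← Nat.card_eq_fintype_card]
  field_simp

end Cfsg.Agent.S0147
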