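import Cfsg.Statements.S0854
import Cfsg.Agent.Lib.Helper6.CliffordCorr

set_option autoImplicit false
open Cfsg

namespace Cfsg.Agent.S0854

/-- Let H be a normal subgroup of the finite group G, ϑ an irreducible character of H, and T the inertia group of ϑ (the elements g with ϑ(g n g⁻¹) = ϑ(n) for all n in H). If χ is an irreducible character of G whose restriction to H has nonzero inner product with ϑ, then χ is induced from some irreducible character ψ of T, and the restrictions of ψ and of χ to H have the same inner product with ϑ. -/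
theorem result {G : Type*} [Group G] [Fintype G] (H : Subgroup G) [hN : H.Normal] [Fintype H] (ϑ : H → ℂ) (hϑ : Cfsg.IsIrrCharacter H ϑ) (T : Subgroup G) [Fintype T] (hT : ∀ g : G, g ∈ T ↔ ∀ n : H, ϑ ⟨g * n * g⁻¹, hN.conj_mem (n : G) n.2 g⟩ = ϑ n) (hHT : H ≤ T) (χ : G → ℂ) (hχ : Cfsg.IsIrrCharacter G χ) (hcon : Cfsg.classInner (fun n : H => χ n) ϑ ≠ 0) : ∃ ψ : T → ℂ, Cfsg.IsIrrCharacter T ψ ∧ Cfsg.indFun T ψ = χ ∧ Cfsg.classInner (fun n : H => ψ ⟨(n : G), hHT n.2⟩) ϑ = Cfsg.classInner (fun n : H => χ n) ϑ := by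
  classical
  have : Fintype (Cfsg.IrrCharacter G) := Fintype.ofFinite _
  have : Fintype (Cfsg.IrrCharacter T) := Fintype.ofFinite _
  have hχcf := Cfsg.Agent.Lib.Helper6.IsIrrCharacter.isClassFunction hχ
  have hχch := Cfsg.Agent.Lib.Helper6.IsIrrCharacter.isCharacter hχ
  have hϑcf := Cfsg.Agent.Lib.Helper6.IsIrrCharacter.isClassFunction hϑ
  -- invariance in `T`
  have hinvT : ∀ t ∈ T, Cfsg.Agent.Lib.Helper6.conjFun H hN ϑ t = ϑ := by
    intro t ht
    funext n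
    exact (hT t).mp ht n
  have hninv : ∀ g : G, g ∉ T → Cfsg.Agent.Lib.Helper6.conjFun H hN ϑ g ≠ ϑ := by
    intro g hg h
    apply hg
    rw [hT]
    intro n
    exact congrFun h n
  -- step 1: find ψ
  have hχT : Cfsg.IsCharacter T (fun t : T => χ t) :=
    Cfsg.Agent.Lib.Helper6.IsCharacter.restrict T hχch
  obtain ⟨μ, hμ, hμi⟩ := Cfsg.Agent.Lib.Helper6.IsCharacter.exists_mult hχT
  have hχH : (fun n : H => χ n)
      = ∑ ψ : Cfsg.IrrCharacter T, (μ ψ : ℂ) • (fun n : H => (ψ : T → ℂ) ⟨n, hHT n.2⟩) := by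
    funext n
    have h1 := congrFun hμ ⟨(n : G), hHT n.2⟩
    simp only [Finset.sum_apply, nsmul_eq_mul] at h1
    simp only [Finset.sum_apply, Pi.smul_apply, smul_eq_mul]
    exact h1
  have hex : ∃ ψ : Cfsg.IrrCharacter T, μ ψ ≠ 0 ∧
      Cfsg.classInner (fun n : H => (ψ : T → ℂ) ⟨n, hHT n.2⟩) ϑ ≠ 0 := by
    by_contra hno
    push Not at hno
    apply hcon
    rw [hχH, Cfsg.Agent.Lib.Helper6.classInner_sum_left]
    apply Finset.sum_eq_zero
    intro ψ _
    rw [Cfsg.Agent.Lib.Helper6.classInner_smul_left]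
    by_cases h0 : μ ψ = 0
    · rw [h0]; simp
    · rw [hno ψ h0, mul_zero]
  obtain ⟨⟨ψ, hψ⟩, hμψ, hψcon⟩ := hex
  have hψch := Cfsg.Agent.Lib.Helper6.IsIrrCharacter.isCharacter hψ
  have hψcon' : Cfsg.classInner (fun n : H => ψ ⟨n, hHT n.2⟩) ϑ ≠ 0 := hψcon
  refine ⟨ψ, hψ, ?_⟩
  -- step 2: ψ_H = f ϑ
  have hψH := Cfsg.Agent.Lib.Helper6.restrict_eq_smul_of_invariant_of_le H hN T hHT hψ hϑ hinvT hψcon'
  obtain ⟨f, hf⟩ := Cfsg.Agent.Lib.Helper6.IsCharacter.classInner_irr_nat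
    (Cfsg.Agent.Lib.Helper6.IsCharacter.comp (Subgroup.inclusion hHT) hψch) hϑ
  have hf' : Cfsg.classInner (fun n : H => ψ ⟨n, hHT n.2⟩) ϑ = (f : ℂ) := hf
  have hf0 : f ≠ 0 := by
    intro h0
    apply hψcon'
    rw [hf', h0]; simp
  rw [hf'] at hψH
  obtain ⟨e, he⟩ := Cfsg.Agent.Lib.Helper6.IsCharacter.classInner_irr_nat
    (Cfsg.Agent.Lib.Helper6.IsCharacter.restrict H hχch) hϑ
  -- step 3: e = f + b'
  have hχTψ : Cfsg.classInner (fun t : T => χ t) ψ ≠ 0 := by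
    rw [hμi ⟨ψ, hψ⟩]
    exact_mod_cast hμψ
  obtain ⟨b', hb'⟩ := Cfsg.Agent.Lib.Helper6.IsCharacter.classInner_comp_ge
    (Subgroup.inclusion hHT) hχT hψ hχTψ hϑ
  have hb'2 : Cfsg.classInner (fun n : H => χ n) ϑ
      = Cfsg.classInner (fun n : H => ψ ⟨n, hHT n.2⟩) ϑ + (b' : ℂ) := hb'
  -- step 4: Frobenius reciprocity
  have hind : Cfsg.IsCharacter G (Cfsg.indFun T ψ) :=
    Cfsg.Agent.Lib.Helper6.IsCharacter.indFun T hψch
  have hfrob : ∀ χ' : G → ℂ, Cfsg.IsIrrCharacter G χ' →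
      Cfsg.classInner (Cfsg.indFun T ψ) χ' = (starRingEnd ℂ) (Cfsg.classInner (fun t : T => χ' t) ψ) := by
    intro χ' hχ'
    rw [Cfsg.Agent.S0146.result T ψ χ' (Cfsg.Agent.Lib.Helper6.IsIrrCharacter.isClassFunction hχ'),
      Cfsg.Agent.Lib.Helper6.classInner_conj_symm]
  have hindχ : Cfsg.classInner (Cfsg.indFun T ψ) χ ≠ 0 := by
    rw [hfrob χ hχ]
    intro h0
    apply hχTψ
    exact (map_eq_zero _).mp h0
  -- step 5: [(ψ^G)_H, ϑ] = f
  have hindH : Cfsg.classInner (fun n : H => Cfsg.indFun T ψ n) ϑ = (f : ℂ) := by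
    rw [Cfsg.Agent.Lib.Helper6.indFun_restrict_of_le_normal H hN T hHT ψ, hψH,
      Cfsg.Agent.Lib.Helper6.classInner_smul_left, Cfsg.Agent.Lib.Helper6.classInner_sum_left]
    have h1 : ∀ x : G, Cfsg.classInner (Cfsg.Agent.Lib.Helper6.conjFun H hN ((f : ℂ) • ϑ) x) ϑ
        = (f : ℂ) * if x ∈ T then 1 else 0 := by
      intro x
      rw [Cfsg.Agent.Lib.Helper6.conjFun_smul, Cfsg.Agent.Lib.Helper6.classInner_smul_left,
        Cfsg.Agent.Lib.Helper6.classInner_isIrrCharacter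
          (Cfsg.Agent.Lib.Helper6.IsIrrCharacter.conjFun H hN hϑ x) hϑ]
      congr 1
      by_cases hx : x ∈ T
      · rw [if_pos hx, if_pos (hinvT x hx)]
      · rw [if_neg hx, if_neg (hninv x hx)]
    rw [Finset.sum_congr rfl (fun x _ => h1 x), ← Finset.mul_sum, Finset.sum_boole]
    have hcard : ((Finset.univ.filter (fun x : G => x ∈ T)).card : ℂ) = (Nat.card T : ℂ) := by
      congr 1
      rw [Nat.card_eq_fintype_card, Fintype.card_subtype]
    rw [hcard]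
    have hTc := Cfsg.Agent.Lib.Helper6.card_ne_zero_complex T
    field_simp
  -- step 6: f = e + b
  obtain ⟨b, hb⟩ := Cfsg.Agent.Lib.Helper6.IsCharacter.classInner_comp_ge
    H.subtype hind hχ hindχ hϑ
  have hb2 : Cfsg.classInner (fun n : H => Cfsg.indFun T ψ n) ϑ
      = Cfsg.classInner (fun n : H => χ n) ϑ + (b : ℂ) := hb
  have he' : Cfsg.classInner (fun n : H => χ n) ϑ = (e : ℂ) := he
  rw [hindH, he'] at hb2
  rw [he', hf'] at hb'2
  have hfe : f = e + b := by exact_mod_cast hb2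
  have hef : e = f + b' := by exact_mod_cast hb'2
  have hb0 : b = 0 := by omega
  have hef' : e = f := by omega
  refine ⟨?_, by rw [hf', he', hef']⟩
  -- step 7: ψ^G = χ
  obtain ⟨B, hB, hAB⟩ := Cfsg.Agent.Lib.Helper6.IsCharacter.exists_eq_add_of_constituent hind hχ hindχ
  obtain ⟨ν, hν, hνi⟩ := Cfsg.Agent.Lib.Helper6.IsCharacter.exists_mult hB
  have hν0 : ∀ χ' : Cfsg.IrrCharacter G, ν χ' = 0 := by
    intro χ'
    by_contra hne
    have hBχ' : Cfsg.classInner B (χ' : G → ℂ) ≠ 0 := by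
      rw [hνi χ']
      exact_mod_cast hne
    -- χ' is a constituent of ψ^G
    obtain ⟨k0, hk0⟩ := Cfsg.Agent.Lib.Helper6.IsCharacter.classInner_irr_nat hχch χ'.2
    have hindχ' : Cfsg.classInner (Cfsg.indFun T ψ) (χ' : G → ℂ) ≠ 0 := by
      rw [hAB, Cfsg.Agent.Lib.Helper6.classInner_add_left, hνi χ', hk0]
      have : k0 + ν χ' ≠ 0 := by omega
      exact_mod_cast this
    have hχ'Tψ : Cfsg.classInner (fun t : T => (χ' : G → ℂ) t) ψ ≠ 0 := by
      intro h0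
      apply hindχ'
      rw [hfrob _ χ'.2, h0, map_zero]
    obtain ⟨c1, hc1⟩ := Cfsg.Agent.Lib.Helper6.IsCharacter.classInner_comp_ge
      (Subgroup.inclusion hHT)
      (Cfsg.Agent.Lib.Helper6.IsCharacter.restrict T
        (Cfsg.Agent.Lib.Helper6.IsIrrCharacter.isCharacter χ'.2)) hψ hχ'Tψ hϑ
    have hc1' : Cfsg.classInner (fun n : H => (χ' : G → ℂ) n) ϑ
        = Cfsg.classInner (fun n : H => ψ ⟨n, hHT n.2⟩) ϑ + (c1 : ℂ) := hc1
    obtain ⟨c2, hc2⟩ := Cfsg.Agent.Lib.Helper6.IsCharacter.classInner_comp_ge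
      H.subtype hB χ'.2 hBχ' hϑ
    have hc2' : Cfsg.classInner (fun n : H => B n) ϑ
        = Cfsg.classInner (fun n : H => (χ' : G → ℂ) n) ϑ + (c2 : ℂ) := hc2
    -- [B_H, ϑ] = b
    have hBH : Cfsg.classInner (fun n : H => B n) ϑ = (b : ℂ) := by
      have h1 : (fun n : H => Cfsg.indFun T ψ n) = (fun n : H => χ n) + (fun n : H => B n) := by
        funext n
        rw [hAB]
        rfl
      have h2 := hindH
      rw [h1, Cfsg.Agent.Lib.Helper6.classInner_add_left, he', hfe] at h2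
      push_cast at h2
      exact add_left_cancel h2
    rw [hBH, hc1', hf'] at hc2'
    have : b = f + c1 + c2 := by exact_mod_cast hc2'
    omega
  rw [hAB, hν]
  simp [hν0]


end Cfsg.Agent.S0854
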