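import Cfsg.Statements.S0873
import Mathlib
import Cfsg.Agent.Lib.Helper6.Linear

set_option autoImplicit false
open Cfsg

namespace Cfsg.Agent.S0873

/-- Let C be a normal subgroup of the finite group G of order prime to p and P a p-subgroup with C ⊔ P = G. Let λ be a character of C of degree 1 invariant under conjugation by G and equal to 1 at every element of C centralized by P. Then λ is identically 1. -/
theorem result {G : Type*} [Group G] [Finite G] (p : ℕ) [Fact p.Prime] (C P : Subgroup G) [hC : C.Normal] (hP : IsPGroup p P) (hcop : Nat.Coprime (Nat.card C) p) (hCP : C ⊔ P = ⊤) (lam : C → ℂ) (hlam : Cfsg.IsCharacter C lam ∧ lam 1 = 1) (hinv : ∀ (g : G) (c : C), lam ⟨g * c * g⁻¹, hC.conj_mem (c : G) c.2 g⟩ = lam c) (hker : ∀ c : C, (c : G) ∈ Subgroup.centralizer (P : Set G) → lam c = 1) : lam = fun _ => 1 := by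
  classical
  have _ := hCP
  obtain ⟨hch, h1⟩ := hlam
  have hmul := Cfsg.Agent.Lib.Helper6.IsCharacter.mul_of_apply_one_eq_one hch h1
  funext c
  -- the fibre of `lam` through `c`, with the conjugation action of `P`
  let X : Type _ := {d : C // lam d = lam c}
  let act : P → X → X := fun x d =>
    ⟨⟨(x : G) * (d.1 : G) * (x : G)⁻¹, hC.conj_mem (d.1 : G) d.1.2 x⟩,
      (hinv (x : G) d.1).trans d.2⟩
  let _ : MulAction P X :=
    { smul := act
      one_smul := by
        intro d
        apply Subtype.ext
        apply Subtype.ext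
        change ((1 : P) : G) * (d.1 : G) * ((1 : P) : G)⁻¹ = (d.1 : G)
        simp
      mul_smul := by
        intro x y d
        apply Subtype.ext
        apply Subtype.ext
        change ((x * y : P) : G) * (d.1 : G) * ((x * y : P) : G)⁻¹
          = (x : G) * ((y : G) * (d.1 : G) * (y : G)⁻¹) * (x : G)⁻¹
        simp [mul_assoc] }
  -- the fibre is in bijection with the kernel
  let K : Subgroup C := (Cfsg.Agent.Lib.Helper6.linearCharHom hch h1).ker
  have hK : ∀ d : C, d ∈ K ↔ lam d = 1 := by
    intro d
    rw [MonoidHom.mem_ker]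
    constructor
    · intro h
      have := congrArg (fun u : ℂˣ => (u : ℂ)) h
      simpa [Cfsg.Agent.Lib.Helper6.linearCharHom_apply] using this
    · intro h
      apply Units.ext
      rw [Cfsg.Agent.Lib.Helper6.linearCharHom_apply, h]
      rfl
  have hc0 : lam c ≠ 0 := by
    intro h0
    have := hmul c c⁻¹
    rw [mul_inv_cancel, h1, h0, zero_mul] at this
    exact one_ne_zero this
  let e : K ≃ X :=
    { toFun := fun k => ⟨c * k.1, by rw [hmul, (hK k.1).mp k.2, mul_one]⟩
      invFun := fun d => ⟨c⁻¹ * d.1, by
        rw [hK, hmul, d.2]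
        have := hmul c⁻¹ c
        rw [inv_mul_cancel, h1] at this
        exact this.symm⟩
      left_inv := by
        intro k
        apply Subtype.ext
        simp
      right_inv := by
        intro d
        apply Subtype.ext
        simp }
  have hcard : Nat.card X = Nat.card K := (Nat.card_congr e).symm
  have hndvd : ¬ p ∣ Nat.card X := by
    rw [hcard]
    intro hdvd
    have h2 : p ∣ Nat.card C := dvd_trans hdvd (Subgroup.card_subgroup_dvd_card K)
    have hp : p.Prime := Fact.out
    have := Nat.Coprime.eq_one_of_dvd hcop.symm h2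
    exact hp.one_lt.ne' this
  obtain ⟨d, hd⟩ := hP.nonempty_fixed_point_of_prime_not_dvd_card X hndvd
  rw [← d.2]
  apply hker
  rw [Subgroup.mem_centralizer_iff]
  intro x hx
  have h3 := hd ⟨x, hx⟩
  have h4 : (x : G) * (d.1 : G) * (x : G)⁻¹ = (d.1 : G) := by
    have := congrArg (fun y : X => ((y.1 : C) : G)) h3
    exact this
  calc x * ((d.1 : C) : G) = (x * ((d.1 : C) : G) * x⁻¹) * x := by group
    _ = ((d.1 : C) : G) * x := by rw [h4]


end Cfsg.Agent.S0873
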