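import Cfsg.Statements.S0870
import Mathlib
import Cfsg.Agent.Lib.Helper6.PermProd

set_option autoImplicit false
open Cfsg

namespace Cfsg.Agent.S0870

open Cfsg.Agent.Lib.Helper6

/-- For subgroups H and K of a finite group G, the pointwise product of the functions induced from the constant function 1 on H and on K is a sum, over subgroups U of H with natural-number coefficients, of the functions induced from the constant function 1 on U. -/
theorem result {G : Type*} [Group G] [Fintype G] (H K : Subgroup G) : ∃ a : Subgroup G → ℕ, (∀ U, a U ≠ 0 → U ≤ H) ∧ Cfsg.indFun H (fun _ => 1) * Cfsg.indFun K (fun _ => 1) = ∑ U : Subgroup G, (a U : ℂ) • Cfsg.indFun U (fun _ => 1) := by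
  classical
  let _ := dosetAction H K
  have : Fintype (MulAction.orbitRel.Quotient (H × K) G) := Fintype.ofFinite _
  have hprod := indFun_one_mul_indFun_one_eq_sum_orbits H K
  let φ : MulAction.orbitRel.Quotient (H × K) G → Subgroup G := fun ω => H ⊓ conjSub ω.out K
  refine ⟨fun U => (Finset.univ.filter (fun ω => φ ω = U)).card, ?_, ?_⟩
  · intro U hU
    obtain ⟨ω, hω⟩ := Finset.card_pos.mp (Nat.pos_of_ne_zero hU)
    have h1 : φ ω = U := (Finset.mem_filter.mp hω).2
    rw [← h1]
    exact inf_le_left
  · rw [hprod]
    have h1 := Finset.sum_fiberwise' (Finset.univ : Finset (MulAction.orbitRel.Quotient (H × K) G)) φ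
      (fun U : Subgroup G => Cfsg.indFun U (fun _ => (1 : ℂ)))
    change ∑ ω, Cfsg.indFun (φ ω) (fun _ => (1 : ℂ)) = _
    rw [← h1]
    apply Finset.sum_congr rfl
    intro U _
    rw [Finset.sum_const, Nat.cast_smul_eq_nsmul]

end Cfsg.Agent.S0870
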