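import Cfsg.Statements.S0869
import Mathlib

set_option autoImplicit false
open Cfsg

namespace Cfsg.Agent.S0869

/-- Let S be a nonempty finite type and R an additive subgroup of the integer-valued functions on S that is closed under pointwise multiplication. If the constant function 1 is not in R, then there exist a point x of S and a prime p such that p divides f x for every f in R. -/
theorem result {S : Type*} [Finite S] [Nonempty S] (R : AddSubgroup (S → ℤ)) (hmul : ∀ f ∈ R, ∀ g ∈ R, f * g ∈ R) (h1 : (1 : S → ℤ) ∉ R) : ∃ (x : S) (p : ℕ), p.Prime ∧ ∀ f ∈ R, (p : ℤ) ∣ f x := by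
  classical
  have : Fintype S := Fintype.ofFinite S
  by_contra hcon
  push Not at hcon
  have key : ∀ x : S, ∃ f ∈ R, f x = 1 := by
    intro x
    obtain ⟨a, ha⟩ := Int.subgroup_cyclic (R.map (Pi.evalAddMonoidHom (fun _ : S => ℤ) x))
    have hdvd : ∀ f ∈ R, a ∣ f x := by
      intro f hf
      have h1 : f x ∈ R.map (Pi.evalAddMonoidHom (fun _ : S => ℤ) x) :=
        AddSubgroup.mem_map.mpr ⟨f, hf, rfl⟩
      rw [ha, ← AddSubgroup.zmultiples_eq_closure, Int.mem_zmultiples_iff] at h1
      exact h1
    by_cases ha1 : a.natAbs = 1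
    · have h1 : (1 : ℤ) ∈ R.map (Pi.evalAddMonoidHom (fun _ : S => ℤ) x) := by
        rw [ha, ← AddSubgroup.zmultiples_eq_closure, Int.mem_zmultiples_iff]
        exact Int.natAbs_dvd_natAbs.mp (by rw [ha1]; exact one_dvd _)
      obtain ⟨f, hf, hfx⟩ := AddSubgroup.mem_map.mp h1
      exact ⟨f, hf, hfx⟩
    · exfalso
      obtain ⟨p, hp, hpa⟩ := Nat.exists_prime_and_dvd ha1
      obtain ⟨f, hf, hnd⟩ := hcon x p hp
      apply hnd
      have h2 : (p : ℤ) ∣ a := Int.natCast_dvd.mpr hpa
      exact dvd_trans h2 (hdvd f hf)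
  choose F hFR hFx using key
  have hprod : ∀ s : Finset S, (∏ x ∈ s, (1 - F x)) - 1 ∈ R := by
    intro s
    induction s using Finset.induction_on with
    | empty => simp [R.zero_mem]
    | insert a s ha ih =>
      rw [Finset.prod_insert ha]
      have h1 : (1 - F a) * ∏ x ∈ s, (1 - F x) - 1
          = ((∏ x ∈ s, (1 - F x)) - 1) - F a - F a * ((∏ x ∈ s, (1 - F x)) - 1) := by ring
      rw [h1]
      exact R.sub_mem (R.sub_mem ih (hFR a)) (hmul _ (hFR a) _ ih)
  have hzero : (∏ x : S, (1 - F x)) = 0 := by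
    funext y
    rw [Finset.prod_apply]
    apply Finset.prod_eq_zero (Finset.mem_univ y)
    simp [hFx y]
  have h2 := hprod Finset.univ
  rw [hzero, zero_sub] at h2
  exact h1 (by simpa using R.neg_mem h2)


end Cfsg.Agent.S0869
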