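import Cfsg.Statements.S0912
import Mathlib
import Cfsg.Agent.Lib.Helper6.BlkQuot

set_option autoImplicit false
open Cfsg

namespace Cfsg.Agent.S0912

open Cfsg.Agent.Lib.Helper6

/-- Let B be a block of the finite group G relative to a maximal ideal M of the algebraic integers containing the prime p. Every defect group of B contains the largest normal p-subgroup O_p(G). -/
theorem result {G : Type*} [Group G] [Finite G] (p : ℕ) [Fact p.Prime] (M : Ideal Cfsg.AlgInt) (hM : Cfsg.IsPModular p M) (B : Set (Cfsg.IrrCharacter G)) (hB : Cfsg.IsPBlock M B) (D : Subgroup G) (hD : Cfsg.IsDefectGroup p M B D) : Cfsg.pCore p G ≤ D := by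
  classical
  have : Fintype G := Fintype.ofFinite G
  have hp : p.Prime := hM.1
  obtain ⟨χ₀, rfl⟩ := hB
  obtain ⟨g, hgdef, hP⟩ := hD
  obtain ⟨_, _, hg3⟩ := hgdef
  have hPn : (Cfsg.pCore p G).Normal := Subgroup.sSup_normal _ (fun _ h => h.1)
  have hPp : IsPGroup p (Cfsg.pCore p G) :=
    Sylow.sSup_of_normal _ (fun _ h => h.2) (fun _ h => h.1)
  have hχ₀B : χ₀ ∈ Cfsg.blockOf M (χ₀ : G → ℂ) := sameBlock_refl hM _
  -- some conjugate of g centralizes the core
  have hex : ∃ y : G, IsConj g y ∧ y ∈ Subgroup.centralizer (Cfsg.pCore p G : Set G) := by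
    by_contra hne
    push Not at hne
    exact hg3 χ₀ hχ₀B (centralChar_memLocalIdeal_of_not_centralizer hM (Cfsg.pCore p G) hPp g hne χ₀)
  obtain ⟨y, hy, hyc⟩ := hex
  obtain ⟨c, hc⟩ := isConj_iff.mp hy
  -- hence g itself does
  have hgc : ∀ u ∈ Cfsg.pCore p G, u * g = g * u := by
    intro u hu
    have h1 : c * u * c⁻¹ ∈ Cfsg.pCore p G := hPn.conj_mem u hu c
    have h2 := Subgroup.mem_centralizer_iff.mp hyc (c * u * c⁻¹) h1
    rw [← hc] at h2
    have h3 : c * (u * g) * c⁻¹ = c * (g * u) * c⁻¹ := by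
      calc c * (u * g) * c⁻¹ = c * u * c⁻¹ * (c * g * c⁻¹) := by group
        _ = c * g * c⁻¹ * (c * u * c⁻¹) := h2
        _ = c * (g * u) * c⁻¹ := by group
    exact mul_left_cancel (mul_right_cancel h3)
  set C := Subgroup.centralizer ({g} : Set G) with hC
  obtain ⟨Q, rfl⟩ := hP
  have hle : Cfsg.pCore p G ≤ C := by
    intro u hu
    rw [hC, Subgroup.mem_centralizer_iff]
    intro z hz
    rw [Set.mem_singleton_iff.mp hz]
    exact (hgc u hu).symm
  have hsubn : ((Cfsg.pCore p G).subgroupOf C).Normal := hPn.subgroupOf C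
  have hsubp : IsPGroup p ((Cfsg.pCore p G).subgroupOf C) := by
    rw [← Subgroup.comap_subtype]
    exact hPp.comap_subtype
  have hleQ : (Cfsg.pCore p G).subgroupOf C ≤ Q := hsubp.le_sylow_of_normal Q
  intro u hu
  exact ⟨⟨u, hle hu⟩, hleQ (by rw [Subgroup.mem_subgroupOf]; exact hu), rfl⟩

end Cfsg.Agent.S0912
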