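import Cfsg.Statements.S0958
import Mathlib
import Cfsg.Agent.Lib.Helper6.BlkNil
import Cfsg.Agent.Lib.Helper6.BlkDefConj
import Cfsg.Agent.Lib.Helper6.SylowMap
import Cfsg.Agent.S0912
import Cfsg.Agent.S0917

set_option autoImplicit false
open Cfsg

namespace Cfsg.Agent.S0958

open Cfsg.Agent.Lib.Helper6

/-- Let P be a p-subgroup of the finite group G and H a subgroup with P ⊔ C_G(P) ≤ H ≤ N_G(P); fix a maximal ideal M of the algebraic integers containing p. Then a block B of G is induced by some block of H if and only if some conjugate of P is contained in a defect group of B. -/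
theorem result {G : Type*} [Group G] [Finite G] (p : ℕ) [Fact p.Prime] (M : Ideal Cfsg.AlgInt) (hM : Cfsg.IsPModular p M) (P H : Subgroup G) (hP : IsPGroup p P) (hPH : P ⊔ Subgroup.centralizer (P : Set G) ≤ H) (hHN : H ≤ Subgroup.normalizer (P : Set G)) (B : Set (Cfsg.IrrCharacter G)) (hB : Cfsg.IsPBlock M B) : (∃ b : Set (Cfsg.IrrCharacter H), Cfsg.IsInducedBlock M H b B) ↔ ∃ D : Subgroup G, Cfsg.IsDefectGroup p M B D ∧ ∃ x : G, P.map (MulAut.conj x).toMonoidHom ≤ D := by
  classical
  have : Fintype G := Fintype.ofFinite G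
  have hPleH : P ≤ H := le_sup_left.trans hPH
  have hCH : Subgroup.centralizer (P : Set G) ≤ H := le_sup_right.trans hPH
  obtain ⟨χ₀, rfl⟩ := hB
  constructor
  · rintro ⟨b, hind⟩
    obtain ⟨ξ₀, hb⟩ := hind.1
    obtain ⟨g, hg⟩ := exists_isDefectClass hM ξ₀
    have Q : Sylow p (Subgroup.centralizer ({g} : Set H)) := default
    have hDb : Cfsg.IsDefectGroup p M b ((Q : Subgroup (Subgroup.centralizer ({g} : Set H))).map
        (Subgroup.centralizer ({g} : Set H)).subtype) := by
      rw [hb]; exact ⟨g, hg, Q, rfl⟩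
    have hcore := Cfsg.Agent.S0912.result p M hM b hind.1 _ hDb
    obtain ⟨E, hE, hle⟩ := Cfsg.Agent.S0917.result p M hM H b hind.1 _ hind.2.1 hind _ hDb
    refine ⟨E, hE, 1, ?_⟩
    rw [map_conj_one]
    have hPn : (P.subgroupOf H).Normal := by
      constructor
      intro n hn k
      rw [Subgroup.mem_subgroupOf] at hn ⊢
      have := (Subgroup.mem_normalizer_iff.mp (hHN k.2) (n : G)).mp hn
      simpa using this
    have hPp : IsPGroup p (P.subgroupOf H) := by
      rw [← Subgroup.comap_subtype]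
      exact hP.comap_subtype
    have h1 : P.subgroupOf H ≤ Cfsg.pCore p H := le_sSup ⟨hPn, hPp⟩
    intro y hy
    apply hle
    exact ⟨⟨y, hPleH hy⟩, hcore (h1 (by rw [Subgroup.mem_subgroupOf]; exact hy)), rfl⟩
  · rintro ⟨D, hD, x, hx⟩
    have hD' := IsDefectGroup.map_conj hM χ₀ D hD x⁻¹
    have hPD' : P ≤ D.map (MulAut.conj x⁻¹).toMonoidHom := by
      intro y hy
      refine ⟨x * y * x⁻¹, hx ⟨y, hy, by simp [MulAut.conj_apply]⟩, ?_⟩
      simp [MulAut.conj_apply, mul_assoc]
    obtain ⟨g₀, hg₀, Q, hQ⟩ := hD'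
    have hPg₀ : P ≤ Subgroup.centralizer ({g₀} : Set G) := by
      intro y hy
      have := hPD' hy
      rw [hQ] at this
      exact sylow_map_le Q this
    have hg₀C : g₀ ∈ Subgroup.centralizer (P : Set G) := by
      rw [Subgroup.mem_centralizer_iff]
      intro y hy
      exact (mem_centralizer_singleton_iff.mp (hPg₀ hy)).symm
    apply exists_isInducedBlock_of_brMat_blockMat P H hM hP hPleH hCH hHN χ₀
    intro hmm
    have h1 := hmm ⟨g₀, hCH hg₀C⟩ 1
    rw [brMat_apply_one, brFun_of_mem P H _ (by exact hg₀C)] at h1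
    apply hg₀.2.1
    have h2 : blockMat (Cfsg.blockOf M (χ₀ : G → ℂ)) g₀ 1
        = Cfsg.blockCoeff (Cfsg.blockOf M (χ₀ : G → ℂ)) g₀ := by
      unfold blockMat
      rw [regMat_apply, inv_one, mul_one]
    rw [← h2]
    exact h1

end Cfsg.Agent.S0958
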