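import Cfsg.Statements.S0961
import Mathlib
import Cfsg.Agent.Lib.Helper6.BrauerGlobal
import Cfsg.Agent.Lib.Helper6.PComplement

set_option autoImplicit false
open Cfsg

namespace Cfsg.Agent.S0961

open Cfsg.Agent.Lib.Helper6

/-- Let χ be an irreducible character of the finite group G and let p ^ a be the largest power of the prime p dividing the order of G. Then the function equal to p ^ a * χ x at elements x of order prime to p and to 0 elsewhere is a generalized character (a difference of characters). -/
theorem result {G : Type*} [Group G] [Finite G] (p : ℕ) [Fact p.Prime] (χ : Cfsg.IrrCharacter G) : Cfsg.IsGeneralizedCharacter G (fun x : G => if p ∣ orderOf x then 0 else ((p ^ (Nat.card G).factorization p : ℕ) : ℂ) * (χ : G → ℂ) x) := by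
  classical
  have : Fintype G := Fintype.ofFinite G
  have hp := (Fact.out : p.Prime)
  have hχch := IsIrrCharacter.isCharacter χ.2
  have hχcf := IsCharacter.isClassFunction hχch
  set a := (Nat.card G).factorization p with ha
  apply isGeneralizedCharacter_of_restrict
  · intro g h
    have h1 : orderOf (h * g * h⁻¹) = orderOf g := by
      have := (MulAut.conj h).orderOf_eq g
      rwa [MulAut.conj_apply] at this
    simp only [h1, hχcf g h]
  · rintro E ⟨q, hq, hEq⟩
    have : Fintype E := Fintype.ofFinite E
    have hnil : Group.IsNilpotent E := IsElementary.isNilpotent hq hEq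
    obtain ⟨K, hKn, hKcop, hKidx⟩ := exists_normal_pcomplement_of_nilpotent (E := E) p
    set j := (Nat.card E).factorization p with hj
    have hE0 : Nat.card E ≠ 0 := Nat.card_pos.ne'
    have hG0 : Nat.card G ≠ 0 := Nat.card_pos.ne'
    have hja : j ≤ a := (Nat.factorization_le_iff_dvd hE0 hG0).mpr (Subgroup.card_subgroup_dvd_card E) p
    have hχE : Cfsg.IsCharacter E (fun e : E => (χ : G → ℂ) e) := IsCharacter.restrict E hχch
    have hχEcf := IsCharacter.isClassFunction hχE
    have heq : (fun e : E => if p ∣ orderOf (e : G) then 0
          else ((p ^ a : ℕ) : ℂ) * (χ : G → ℂ) e)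
        = ((p ^ (a - j) : ℕ) : ℂ) • Cfsg.indFun K (fun k : K => (χ : G → ℂ) ((k : E) : G)) := by
      funext x
      rw [Pi.smul_apply, indFun_restrict_normal_eq K hχEcf x, smul_eq_mul]
      have hmem := mem_pcomplement_iff hKn hKcop hKidx x
      rw [← Subgroup.orderOf_coe] at hmem
      by_cases hx : p ∣ orderOf (x : G)
      · rw [if_pos hx, if_neg (fun h => hmem.mp h hx), mul_zero]
      · rw [if_neg hx, if_pos (hmem.mpr hx), hKidx, ← mul_assoc]
        congr 1
        rw [← Nat.cast_mul, ← pow_add, Nat.sub_add_cancel hja]
    rw [heq]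
    apply IsGeneralizedCharacter.natCast_smul
    exact IsCharacter.isGeneralizedCharacter (IsCharacter.indFun K (IsCharacter.restrict K hχE))

end Cfsg.Agent.S0961
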