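import Cfsg.Statements.S4425
import Mathlib
import Cfsg.Agent.Lib.Helper6.PRegPart
import Cfsg.Agent.Lib.Helper6.Multiplicity
import Cfsg.Agent.Lib.Helper6.Mult

set_option autoImplicit false
open Cfsg

namespace Cfsg.Agent.S4425

open Cfsg.Agent.Lib.Helper6

/-- Let χ be an irreducible character of the finite group G, p a prime, p^a the p-part of the order of G and p^b the p-part of the degree χ(1). Let χ̃ be the class function equal to p^a · χ on p-regular elements and zero on p-singular elements. Then p^(−b) · χ̃ is a generalized character of G, while p^(−(b+1)) · χ̃ is not. -/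
theorem result {G : Type*} [Group G] [Finite G] (p : ℕ) [Fact p.Prime] (χ : Cfsg.IrrCharacter G) : Cfsg.IsGeneralizedCharacter G (fun x : G => if p ∣ orderOf x then (0 : ℂ) else ((p ^ ((Nat.card G).factorization p - (Cfsg.charDegree (χ : G → ℂ)).factorization p) : ℕ) : ℂ) * (χ : G → ℂ) x) ∧ ¬ Cfsg.IsGeneralizedCharacter G (fun x : G => if p ∣ orderOf x then (0 : ℂ) else ((p ^ (Nat.card G).factorization p : ℕ) : ℂ) / ((p ^ ((Cfsg.charDegree (χ : G → ℂ)).factorization p + 1) : ℕ) : ℂ) * (χ : G → ℂ) x) := by
  classical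
  have : Fintype G := Fintype.ofFinite G
  have hp := (Fact.out : p.Prime)
  have hG0 : Nat.card G ≠ 0 := Nat.card_pos.ne'
  have hχ1 := IsCharacter.apply_one_eq_charDegree (IsIrrCharacter.isCharacter χ.2)
  have hχ1ne := IsIrrCharacter.apply_one_ne_zero χ.2
  have hd0 : Cfsg.charDegree (χ : G → ℂ) ≠ 0 := by
    intro h
    apply hχ1ne
    rw [hχ1, h, Nat.cast_zero]
  have hdvd := IsIrrCharacter.charDegree_dvd_card χ.2
  have hba : (Cfsg.charDegree (χ : G → ℂ)).factorization p ≤ (Nat.card G).factorization p :=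
    (Nat.factorization_le_iff_dvd hd0 hG0).mpr hdvd p
  constructor
  · obtain ⟨χf, m, ρ, hirr, rfl⟩ := χ
    have := hirr
    have h1 := pRegPart_isGeneralizedCharacter ρ p
      ((Cfsg.charDegree ρ.character).factorization p) hp hba
      (by rw [← charDegree_character ρ]; exact Nat.ordProj_dvd _ _)
    exact h1
  · intro hgen
    obtain ⟨P⟩ := (inferInstance : Nonempty (Sylow p G))
    have : Fintype (P : Subgroup G) := Fintype.ofFinite _
    have : Fintype (Cfsg.IrrCharacter (P : Subgroup G)) := Fintype.ofFinite _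
    have hres := IsGeneralizedCharacter.restrict (P : Subgroup G) hgen
    obtain ⟨c, -, hci⟩ := IsGeneralizedCharacter.exists_int_coeff hres
    have h1 := hci ⟨fun _ => (1 : ℂ), isIrrCharacter_one⟩
    unfold Cfsg.classInner at h1
    have hPcard : Nat.card (P : Subgroup G) = p ^ (Nat.card G).factorization p :=
      Sylow.card_eq_multiplicity P
    rw [Finset.sum_eq_single (1 : (P : Subgroup G))] at h1
    · simp only [OneMemClass.coe_one, orderOf_one, map_one, mul_one] at h1
      rw [if_neg hp.not_dvd_one] at h1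
      rw [hPcard, hχ1] at h1
      set a := (Nat.card G).factorization p
      set b := (Cfsg.charDegree (χ : G → ℂ)).factorization p
      set d := Cfsg.charDegree (χ : G → ℂ)
      set n := c ⟨fun _ => (1 : ℂ), isIrrCharacter_one⟩
      have hpa : ((p ^ a : ℕ) : ℂ) ≠ 0 := by exact_mod_cast (pow_pos hp.pos a).ne'
      have hpb : ((p ^ (b + 1) : ℕ) : ℂ) ≠ 0 := by exact_mod_cast (pow_pos hp.pos (b + 1)).ne'
      have h2 : (d : ℂ) = ((p ^ (b + 1) : ℕ) : ℂ) * (n : ℂ) := by
        rw [← h1]
        field_simp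
      have h3 : (d : ℤ) = ((p ^ (b + 1) : ℕ) : ℤ) * n := by exact_mod_cast h2
      have h4 : ((p ^ (b + 1) : ℕ) : ℤ) ∣ (d : ℤ) := ⟨n, h3⟩
      have h5 : p ^ (b + 1) ∣ d := Int.natCast_dvd_natCast.mp h4
      exact Nat.pow_succ_factorization_not_dvd hd0 hp h5
    · intro u _ hu
      have hup : p ∣ orderOf ((u : (P : Subgroup G)) : G) := by
        rw [Subgroup.orderOf_coe]
        obtain ⟨k, hk⟩ := IsPGroup.iff_orderOf.mp (P.isPGroup') u
        have hk0 : k ≠ 0 := by
          rintro rfl
          rw [pow_zero, orderOf_eq_one_iff] at hk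
          exact hu hk
        rw [hk]
        exact dvd_pow_self p hk0
      simp only
      rw [if_pos hup, zero_mul]
    · intro h; exact absurd (Finset.mem_univ _) h


end Cfsg.Agent.S4425
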