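import Cfsg.Statements.S0935
import Mathlib
import Cfsg.Agent.Lib.Helper6.BlkTildeInd

set_option autoImplicit false
open Cfsg

namespace Cfsg.Agent.S0935

open Cfsg.Agent.Lib.Helper6

/-- Let H be a subgroup of the finite group G and χ an irreducible character of G whose restriction to H is irreducible; fix a maximal ideal M of the algebraic integers containing the prime p and suppose χ and its restriction have height zero in their blocks B and b. If e is a block of H whose induced block is defined, then e induces B if and only if e = b. -/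
theorem result {G : Type*} [Group G] [Finite G] (p : ℕ) [Fact p.Prime] (M : Ideal Cfsg.AlgInt) (hM : Cfsg.IsPModular p M) (H : Subgroup G) (χ : Cfsg.IrrCharacter G) (hres : Cfsg.IsIrrCharacter H (fun h : H => (χ : G → ℂ) h)) (hχ0 : Cfsg.blockHeight p (Cfsg.blockOf M (χ : G → ℂ)) (χ : G → ℂ) = 0) (hψ0 : Cfsg.blockHeight p (Cfsg.blockOf M (fun h : H => (χ : G → ℂ) h)) (fun h : H => (χ : G → ℂ) h) = 0) (e : Set (Cfsg.IrrCharacter H)) (he : Cfsg.InducedBlockDefined M H e) : Cfsg.IsInducedBlock M H e (Cfsg.blockOf M (χ : G → ℂ)) ↔ e = Cfsg.blockOf M (fun h : H => (χ : G → ℂ) h) := by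
  classical
  have : Fintype G := Fintype.ofFinite G
  have : Fintype H := Fintype.ofFinite H
  have : Fintype (Cfsg.IrrCharacter H) := Fintype.ofFinite _
  obtain ⟨ψ, hψdef⟩ : ∃ ψ : Cfsg.IrrCharacter H, ψ = ⟨fun h : H => (χ : G → ℂ) h, hres⟩ := ⟨_, rfl⟩
  have hψfun : (ψ : H → ℂ) = fun h : H => (χ : G → ℂ) h := by rw [hψdef]
  have hres' : resFun H (χ : G → ℂ) = (ψ : H → ℂ) := by rw [hψfun]; rfl
  rw [← hψfun] at hψ0 ⊢
  obtain ⟨B', hind⟩ := he
  obtain ⟨ψ₀, he⟩ := hind.1
  have hψ₀e : ψ₀ ∈ e := by rw [he]; exact sameBlock_refl hM _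
  have hψself : ψ ∈ Cfsg.blockOf M (ψ : H → ℂ) := sameBlock_refl hM _
  have hunitH := (blockHeight_eq_zero_iff_tilde hM ψ ψ hψself).mp hψ0
  constructor
  · intro hindB
    have h1 := (tilde_induced_criterion H hM hindB χ ψ₀ hψ₀e).2 (sameBlock_refl hM _) hχ0
    rw [hres'] at h1
    obtain ⟨c, -, hci, hc0⟩ := tildeFun_int_coeff hM ψ
    have hmem : ψ₀ ∈ Cfsg.blockOf M (ψ : H → ℂ) := by
      by_contra hnot
      apply h1
      rw [hci ψ₀, hc0 ψ₀ hnot]
      simp only [Int.cast_zero, zero_div]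
      exact memLocalIdeal_zero hM
    rw [he]
    exact (blockOf_eq_of_mem hM hmem).symm
  · intro heq
    have hψe : ψ ∈ e := by rw [heq]; exact hψself
    have hχB' : χ ∈ B' := by
      by_contra hnot
      have h1 := (tilde_induced_criterion H hM hind χ ψ hψe).1 hnot
      rw [hres'] at h1
      exact hunitH h1
    obtain ⟨χ₁, hB'⟩ := hind.2.1
    have : B' = Cfsg.blockOf M (χ : G → ℂ) := by
      rw [hB'] at hχB' ⊢
      exact blockOf_eq_of_mem hM hχB'
    rw [← this]
    exact hind


end Cfsg.Agent.S0935
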