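import Cfsg.Statements.S0936
import Mathlib
import Cfsg.Agent.S0935
import Cfsg.Agent.Lib.Helper6.BlkPrincipal

set_option autoImplicit false
open Cfsg

namespace Cfsg.Agent.S0936

open Cfsg.Agent.Lib.Helper6

/-- Brauer's Third Main Theorem. Let H be a subgroup of the finite group G and b a block of H (relative to a maximal ideal M of the algebraic integers containing the prime p) whose induced block in G is defined. Then b induces the principal block of G if and only if b is the principal block of H. -/
theorem result {G : Type*} [Group G] [Finite G] (p : ℕ) [Fact p.Prime] (M : Ideal Cfsg.AlgInt) (hM : Cfsg.IsPModular p M) (H : Subgroup G) (b : Set (Cfsg.IrrCharacter H)) (hdef : Cfsg.InducedBlockDefined M H b) : Cfsg.IsInducedBlock M H b (Cfsg.principalBlock M G) ↔ b = Cfsg.principalBlock M H := by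
  classical
  have h0 : ∀ (K : Type _) [Group K], Cfsg.blockHeight p (Cfsg.blockOf M (fun _ : K => (1 : ℂ)))
      (fun _ : K => (1 : ℂ)) = 0 := by
    intro K _
    unfold Cfsg.blockHeight
    have : Cfsg.charDegree (fun _ : K => (1 : ℂ)) = 1 := by
      unfold Cfsg.charDegree
      simp
    rw [this]
    simp
  have hres : Cfsg.IsIrrCharacter H (fun h : H => ((oneIrr G : Cfsg.IrrCharacter G) : G → ℂ) h) :=
    isIrrCharacter_one
  have key := Cfsg.Agent.S0935.result p M hM H (oneIrr G) hres (h0 G) (h0 H) b hdef
  exact key


end Cfsg.Agent.S0936
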