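import Cfsg.Statements.S0916
import Mathlib
import Cfsg.Agent.Lib.Helper6.SylowMap

set_option autoImplicit false
open Cfsg

namespace Cfsg.Agent.S0916

open Cfsg.Agent.Lib.Helper6

/-- Let P be a p-subgroup of the finite group G, C its centralizer and N its normalizer. Say that a conjugacy class (of G, or of N) has defect group P when P is a Sylow p-subgroup of the centralizer (in G, respectively in N) of some element of the class. Then: (i) if the class of g in G has defect group P, the elements of that class lying in C form a single N-class, again with defect group P; (ii) every N-class with defect group P arises this way from exactly one G-class with defect group P. -/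
theorem result {G : Type*} [Group G] [Finite G] (p : ℕ) [Fact p.Prime] (P : Subgroup G) (hP : IsPGroup p P) : (∀ g : G, (∃ S : Sylow p (Subgroup.centralizer ({g} : Set G)), (S : Subgroup (Subgroup.centralizer ({g} : Set G))).map (Subgroup.centralizer ({g} : Set G)).subtype = P) → (∃ c : G, IsConj g c ∧ c ∈ Subgroup.centralizer (P : Set G)) ∧ (∀ c₁ c₂ : G, IsConj g c₁ → IsConj g c₂ → c₁ ∈ Subgroup.centralizer (P : Set G) → c₂ ∈ Subgroup.centralizer (P : Set G) → ∃ n ∈ Subgroup.normalizer (P : Set G), n * c₁ * n⁻¹ = c₂)) ∧ (∀ c : G, c ∈ Subgroup.centralizer (P : Set G) → (∃ S : Sylow p (Subgroup.centralizer ({c} : Set G) ⊓ Subgroup.normalizer (P : Set G) : Subgroup G), (S : Subgroup ↥(Subgroup.centralizer ({c} : Set G) ⊓ Subgroup.normalizer (P : Set G))).map (Subgroup.centralizer ({c} : Set G) ⊓ Subgroup.normalizer (P : Set G)).subtype = P) → ∃ S : Sylow p (Subgroup.centralizer ({c} : Set G)), (S : Subgroup (Subgroup.centralizer ({c} : Set G))).map (Subgroup.centralizer ({c} : Set G)).subtype = P) := by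
  classical
  constructor
  · rintro g ⟨S, hS⟩
    have hPg : P ≤ Subgroup.centralizer ({g} : Set G) := by rw [← hS]; exact sylow_map_le S
    have key : ∀ c : G, IsConj g c → c ∈ Subgroup.centralizer (P : Set G) →
        ∃ n ∈ Subgroup.normalizer (P : Set G), n * g * n⁻¹ = c := by
      intro c hgc hc
      obtain ⟨a, ha⟩ := isConj_iff.mp hgc
      have hP' : P.map (MulAut.conj a⁻¹).toMonoidHom ≤ Subgroup.centralizer ({g} : Set G) := by
        rintro _ ⟨y, hy, rfl⟩
        rw [mem_centralizer_singleton_iff]
        have h1 := Subgroup.mem_centralizer_iff.mp hc y hy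
        have hg : g = a⁻¹ * c * a := by rw [← ha]; group
        simp only [MulEquiv.coe_toMonoidHom, MulAut.conj_apply, inv_inv]
        rw [hg]
        calc a⁻¹ * c * a * (a⁻¹ * y * a) = a⁻¹ * (c * y) * a := by group
          _ = a⁻¹ * (y * c) * a := by rw [h1]
          _ = a⁻¹ * y * a * (a⁻¹ * c * a) := by group
      obtain ⟨Q, hQ⟩ := exists_sylow_map_ge (hP.map (MulAut.conj a⁻¹).toMonoidHom) hP'
      have heq : P.map (MulAut.conj a⁻¹).toMonoidHom
          = (Q : Subgroup (Subgroup.centralizer ({g} : Set G))).map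
            (Subgroup.centralizer ({g} : Set G)).subtype := by
        apply Subgroup.eq_of_le_of_card_ge hQ
        rw [card_map_conj', ← hS, card_sylow_map, card_sylow_map]
      obtain ⟨z, hz, hzQ⟩ := sylow_map_conj S Q
      rw [hS] at hzQ
      refine ⟨a * z, ?_, ?_⟩
      · apply mem_normalizer_of_map_conj_eq
        rw [← map_conj_map_conj, ← hzQ, ← heq, map_conj_map_conj, mul_inv_cancel, map_conj_one]
      · rw [mem_centralizer_singleton_iff] at hz
        rw [← ha]
        calc a * z * g * (a * z)⁻¹ = a * (z * g) * z⁻¹ * a⁻¹ := by group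
          _ = a * (g * z) * z⁻¹ * a⁻¹ := by rw [hz]
          _ = a * g * a⁻¹ := by group
    constructor
    · refine ⟨g, IsConj.refl g, ?_⟩
      rw [Subgroup.mem_centralizer_iff]
      intro y hy
      exact (mem_centralizer_singleton_iff.mp (hPg hy)).symm
    · intro c₁ c₂ h1 h2 hc1 hc2
      obtain ⟨n₁, hn₁, e₁⟩ := key c₁ h1 hc1
      obtain ⟨n₂, hn₂, e₂⟩ := key c₂ h2 hc2
      refine ⟨n₂ * n₁⁻¹, Subgroup.mul_mem _ hn₂ (Subgroup.inv_mem _ hn₁), ?_⟩
      rw [← e₁, ← e₂]
      group
  · rintro c hc ⟨S, hS⟩
    have hPc : P ≤ Subgroup.centralizer ({c} : Set G) := by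
      intro y hy
      rw [mem_centralizer_singleton_iff]
      exact (Subgroup.mem_centralizer_iff.mp hc y hy).symm
    obtain ⟨Q, hQ⟩ := exists_sylow_map_ge hP hPc
    refine ⟨Q, ?_⟩
    by_contra hne
    have hlt : P < (Q : Subgroup (Subgroup.centralizer ({c} : Set G))).map
        (Subgroup.centralizer ({c} : Set G)).subtype := lt_of_le_of_ne hQ (fun h => hne h.symm)
    obtain ⟨x, hxQ, hxN, hxP⟩ := exists_mem_normalizer_not_mem (sylow_map_isPGroup Q) hlt
    -- the subgroup R = P ⊔ ⟨x⟩ inside Q
    have hRle : P ⊔ Subgroup.zpowers x ≤ (Q : Subgroup (Subgroup.centralizer ({c} : Set G))).map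
        (Subgroup.centralizer ({c} : Set G)).subtype := by
      apply sup_le hQ
      rw [Subgroup.zpowers_le]; exact hxQ
    have hRp : IsPGroup p (P ⊔ Subgroup.zpowers x : Subgroup G) :=
      (sylow_map_isPGroup Q).to_le hRle
    have hRK : P ⊔ Subgroup.zpowers x ≤
        (Subgroup.centralizer ({c} : Set G) ⊓ Subgroup.normalizer (P : Set G) : Subgroup G) := by
      apply le_inf
      · exact hRle.trans (sylow_map_le Q)
      · apply sup_le Subgroup.le_normalizer
        rw [Subgroup.zpowers_le]; exact hxN
    have h3 := eq_sylow_map_of_ge hRp hRK S (by rw [hS]; exact le_sup_left)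
    rw [hS] at h3
    apply hxP
    rw [← h3]
    exact (le_sup_right : Subgroup.zpowers x ≤ P ⊔ Subgroup.zpowers x) (Subgroup.mem_zpowers x)

end Cfsg.Agent.S0916
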