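import Cfsg.Statements.S0965
import Mathlib
import Cfsg.Agent.Lib.Helper6.BlkCover3

set_option autoImplicit false
open Cfsg

namespace Cfsg.Agent.S0965

open Cfsg.Agent.Lib.Helper6

/-- Let N be a normal subgroup of the finite group G and let B, b be blocks of G and of N relative to a maximal ideal M of the algebraic integers containing the prime p. Then some χ ∈ B has a constituent in b on restriction to N if and only if, for all χ ∈ B, θ ∈ b and n ∈ N, the central character of χ at n is congruent modulo the local ideal at M to the sum of θ m / θ 1 over the elements m ∈ N conjugate in G to n. -/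
theorem result {G : Type*} [Group G] [Fintype G] (p : ℕ) [Fact p.Prime] (M : Ideal Cfsg.AlgInt) (hM : Cfsg.IsPModular p M) (N : Subgroup G) [N.Normal] [Fintype N] (B : Set (Cfsg.IrrCharacter G)) (hB : Cfsg.IsPBlock M B) (b : Set (Cfsg.IrrCharacter N)) (hb : Cfsg.IsPBlock M b) : (∃ χ ∈ B, ∃ θ ∈ b, Cfsg.classInner (fun n : N => (χ : G → ℂ) n) (θ : N → ℂ) ≠ 0) ↔ ∀ χ ∈ B, ∀ θ ∈ b, ∀ n : N, Cfsg.MemLocalIdeal M (Cfsg.centralChar (χ : G → ℂ) (n : G) - Cfsg.inducedCentralChar N (θ : N → ℂ) (n : G)) := by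
  classical
  have hN : N.Normal := inferInstance
  obtain ⟨χ₁, rfl⟩ := hB
  obtain ⟨θ₁, rfl⟩ := hb
  constructor
  · rintro ⟨χ₀, hχ₀, θ₀, hθ₀, hcon⟩ χ hχ θ hθ n
    have e1 := (Cfsg.Agent.S0963.result N χ₀ θ₀).mp hcon n
    have hsb1 : Cfsg.SameBlock M (χ : G → ℂ) (χ₀ : G → ℂ) :=
      SameBlock.trans' hM (SameBlock.symm' hχ) hχ₀
    have hsb2 : Cfsg.SameBlock M (θ₀ : N → ℂ) (θ : N → ℂ) :=
      SameBlock.trans' hM (SameBlock.symm' hθ₀) hθ
    have h1 := hsb1 (n : G)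
    have h2 := inducedCentralChar_sub_memLocalIdeal N hM θ₀.2 θ.2 hsb2 (n : G)
    rw [← e1] at h2
    have h3 := MemLocalIdeal.add hM h1 h2
    convert h3 using 1
    ring
  · intro h
    have hχ₁ : χ₁ ∈ Cfsg.blockOf M (χ₁ : G → ℂ) := sameBlock_refl hM _
    have hθ₁ : θ₁ ∈ Cfsg.blockOf M (θ₁ : N → ℂ) := sameBlock_refl hM _
    obtain ⟨ψ, hψ⟩ := exists_constituent_restrict N χ₁.2
    have e1 := (Cfsg.Agent.S0963.result N χ₁ ψ).mp hψ
    have h1 : ∀ n : N, Cfsg.MemLocalIdeal M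
        (Cfsg.inducedCentralChar N (ψ : N → ℂ) (n : G)
          - Cfsg.inducedCentralChar N (θ₁ : N → ℂ) (n : G)) := by
      intro n
      rw [← e1 n]
      exact h χ₁ hχ₁ θ₁ hθ₁ n
    obtain ⟨g, hg⟩ := exists_conj_mem_of_inducedCentralChar_congr N hM θ₁ ψ θ₁ hθ₁ h1
    refine ⟨χ₁, hχ₁, irrConj N hN g ψ, hg, ?_⟩
    rw [irrConj_coe, classInner_restrict_conjFun N hN (IsIrrCharacter.isClassFunction χ₁.2)]
    exact hψ

end Cfsg.Agent.S0965
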