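import Cfsg.Statements.S0971
import Mathlib
import Cfsg.Agent.Lib.Helper6.BlkBrauer
import Cfsg.Agent.S0965

set_option autoImplicit false
open Cfsg

namespace Cfsg.Agent.S0971

open Cfsg.Agent.Lib.Helper6

/-- Let Q be a normal p-subgroup of the finite group G, let N = Q ⊔ C_G(Q) (a normal subgroup) and let b be a block of N relative to a maximal ideal M of the algebraic integers containing p. Then b induces some block of G, and every block B of G containing a character whose restriction to N has a constituent in b is induced by b. -/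
theorem result {G : Type*} [Group G] [Fintype G] (p : ℕ) [Fact p.Prime] (M : Ideal Cfsg.AlgInt) (hM : Cfsg.IsPModular p M) (Q : Subgroup G) [Q.Normal] (hQ : IsPGroup p Q) [Fintype ↥(Q ⊔ Subgroup.centralizer (Q : Set G))] (b : Set (Cfsg.IrrCharacter ↥(Q ⊔ Subgroup.centralizer (Q : Set G)))) (hb : Cfsg.IsPBlock M b) : Cfsg.InducedBlockDefined M (Q ⊔ Subgroup.centralizer (Q : Set G)) b ∧ ∀ B : Set (Cfsg.IrrCharacter G), Cfsg.IsPBlock M B → (∃ χ ∈ B, ∃ θ ∈ b, Cfsg.classInner (fun n : ↥(Q ⊔ Subgroup.centralizer (Q : Set G)) => (χ : G → ℂ) n) (θ : ↥(Q ⊔ Subgroup.centralizer (Q : Set G)) → ℂ) ≠ 0) → Cfsg.IsInducedBlock M (Q ⊔ Subgroup.centralizer (Q : Set G)) b B := by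
  classical
  have hp : p.Prime := hM.1
  have hCn : (Subgroup.centralizer (Q : Set G)).Normal := Subgroup.normal_centralizer
  have hNn : (Q ⊔ Subgroup.centralizer (Q : Set G)).Normal := inferInstance
  have hQN : Q ≤ (Q ⊔ Subgroup.centralizer (Q : Set G)) := le_sup_left
  have hCN : Subgroup.centralizer (Q : Set G) ≤ (Q ⊔ Subgroup.centralizer (Q : Set G)) := le_sup_right
  have hNnorm : (Q ⊔ Subgroup.centralizer (Q : Set G)) ≤ Subgroup.normalizer (Q : Set G) := by
    rw [Subgroup.normalizer_eq_top]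
    exact le_top
  refine ⟨inducedBlockDefined_of_centralizer_le Q (Q ⊔ Subgroup.centralizer (Q : Set G)) hM hQ hQN hCN hNnorm b hb, ?_⟩
  intro B hB hcov
  refine ⟨hb, hB, ?_⟩
  intro θ hθ χ hχ g
  by_cases hg : g ∈ (Q ⊔ Subgroup.centralizer (Q : Set G))
  · have h1 := (Cfsg.Agent.S0965.result p M hM (Q ⊔ Subgroup.centralizer (Q : Set G)) B hB b hb).mp hcov χ hχ θ hθ ⟨g, hg⟩
    have h2 := MemLocalIdeal.neg h1
    rw [neg_sub] at h2
    exact h2
  · -- no conjugate of g lies in N
    have h0 : Cfsg.inducedCentralChar (Q ⊔ Subgroup.centralizer (Q : Set G)) (θ : ↥(Q ⊔ Subgroup.centralizer (Q : Set G)) → ℂ) g = 0 := by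
      unfold Cfsg.inducedCentralChar
      have : {h : ↥(Q ⊔ Subgroup.centralizer (Q : Set G)) | IsConj g (h : G)} = ∅ := by
        ext h
        simp only [Set.mem_ofPred_eq, Set.mem_empty_iff_false, iff_false]
        intro hc
        apply hg
        obtain ⟨c, hc⟩ := isConj_iff.mp hc.symm
        rw [← hc]
        exact hNn.conj_mem _ h.2 c
      rw [this]
      simp
    rw [h0, zero_sub]
    apply MemLocalIdeal.neg
    apply centralChar_memLocalIdeal_of_not_centralizer hM Q hQ g _ χ
    intro y hy hyc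
    apply hg
    obtain ⟨c, hc⟩ := isConj_iff.mp hy.symm
    rw [← hc]
    exact hNn.conj_mem _ (hCN hyc) c

end Cfsg.Agent.S0971
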