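import Cfsg.Statements.S0929
import Mathlib
import Cfsg.Agent.Lib.Helper6.BlkFirstMain
import Cfsg.Agent.Lib.Helper6.BlkNormalDef

set_option autoImplicit false
open Cfsg

namespace Cfsg.Agent.S0929

open Cfsg.Agent.Lib.Helper6

/-- Let B be a block of the finite group G with defect group P (relative to a maximal ideal M of the algebraic integers containing p), and let g be an element at which the central character of some member of B is not in the local ideal at M. Then some conjugate x of g centralizes P and has its p-part in the centre of P. -/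
theorem result {G : Type*} [Group G] [Finite G] (p : ℕ) [Fact p.Prime] (M : Ideal Cfsg.AlgInt) (hM : Cfsg.IsPModular p M) (B : Set (Cfsg.IrrCharacter G)) (hB : Cfsg.IsPBlock M B) (P : Subgroup G) (hP : Cfsg.IsDefectGroup p M B P) (g : G) (hg : ∃ χ ∈ B, ¬ Cfsg.MemLocalIdeal M (Cfsg.centralChar (χ : G → ℂ) g)) : ∃ x : G, IsConj g x ∧ x ∈ Subgroup.centralizer (P : Set G) ∧ ∀ z : G, Cfsg.IsPPart p x z → z ∈ P ∧ ∀ w ∈ P, z * w = w * z := by
  classical
  have : Fintype G := Fintype.ofFinite G
  have : Fintype (Subgroup.normalizer (P : Set G)) := Fintype.ofFinite _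
  have : Fintype (ConjClasses (Subgroup.normalizer (P : Set G))) := Fintype.ofFinite _
  have hp : p.Prime := hM.1
  have hPp : IsPGroup p P := by
    obtain ⟨χ₀, rfl⟩ := hB
    exact IsDefectGroup.isPGroup hP
  obtain ⟨b, hb, hDb, hind⟩ := firstMain_exists hM P hPp B hB hP
  obtain ⟨χ, hχ, hχg⟩ := hg
  obtain ⟨ξ₀, hbξ⟩ := hb
  have hξ₀ : ξ₀ ∈ b := by rw [hbξ]; exact sameBlock_refl hM _
  have h1 := hind.2.2 ξ₀ hξ₀ χ hχ g
  have h2 := inducedCentralChar_sub_brauerCentralChar P (Subgroup.normalizer (P : Set G)) hM hPp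
    Subgroup.le_normalizer le_rfl ξ₀ g
  have h3 : ¬ Cfsg.MemLocalIdeal M
      (Cfsg.brauerCentralChar P (Subgroup.normalizer (P : Set G)) (ξ₀ : _ → ℂ) g) := by
    intro h
    apply hχg
    have := MemLocalIdeal.sub hM (MemLocalIdeal.add hM h2 h) h1
    convert this using 1
    ring
  have hXc : regMat (classInd g) ∈ centerAlg G := regMat_mem_centerAlg (classInd_isClassFunction g)
  rw [brauerCentralChar_eq_cOmega, cOmega_eq_sum_classes (IsIrrCharacter.isClassFunction ξ₀.2)
    (brMat_mem_centerAlg P _ le_rfl hXc)] at h3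
  have hex : ∃ c : ConjClasses (Subgroup.normalizer (P : Set G)), ¬ Cfsg.MemLocalIdeal M
      (brMat P (Subgroup.normalizer (P : Set G)) (regMat (classInd g)) (Quotient.out c) 1
        * Cfsg.centralChar (ξ₀ : _ → ℂ) (Quotient.out c)) := by
    by_contra hall
    push Not at hall
    exact h3 (MemLocalIdeal.sum hM _ _ (fun c _ => hall c))
  obtain ⟨c, hc⟩ := hex
  obtain ⟨k, hk⟩ : ∃ k : Subgroup.normalizer (P : Set G), k = Quotient.out c := ⟨_, rfl⟩
  rw [← hk] at hc
  have hkC : (k : G) ∈ Subgroup.centralizer (P : Set G) := by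
    by_contra hnot
    apply hc
    rw [brMat_apply_one, brFun_of_not_mem P _ _ hnot, zero_mul]
    exact memLocalIdeal_zero hM
  have hgk : IsConj g (k : G) := by
    by_contra hnot
    apply hc
    rw [brMat_apply_one, brFun_of_mem P _ _ hkC]
    simp only [regMat_apply, inv_one, mul_one]
    unfold classInd
    rw [if_neg hnot, zero_mul]
    exact memLocalIdeal_zero hM
  have hωk : ¬ Cfsg.MemLocalIdeal M (Cfsg.centralChar (ξ₀ : _ → ℂ) k) := by
    intro h
    apply hc
    apply MemLocalIdeal.mul_left hM _ h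
    exact brMat_mem_sMat P _ hM (classInd_mem_sMat hM g) _ _
  have hPn := subgroupOf_normalizer_normal P
  rw [hbξ] at hDb
  have hreg := pRegular_mk_of_centralChar hM (P.subgroupOf (Subgroup.normalizer (P : Set G))) ξ₀
    hDb k hωk
  refine ⟨(k : G), hgk, hkC, ?_⟩
  intro z hz
  obtain ⟨hzN, hz'⟩ := IsPPart.subgroup hp (Subgroup.normalizer (P : Set G)) hz
  have hzP := ppart_mem_of_pRegular_mk hp (P.subgroupOf (Subgroup.normalizer (P : Set G))) k
    ⟨z, hzN⟩ hreg hz'
  rw [Subgroup.mem_subgroupOf] at hzP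
  refine ⟨hzP, ?_⟩
  intro w hw
  have hzpow := IsPPart.mem_zpowers hp hz
  have hle : Subgroup.zpowers (k : G) ≤ Subgroup.centralizer (P : Set G) := by
    rw [Subgroup.zpowers_le]; exact hkC
  exact (Subgroup.mem_centralizer_iff.mp (hle hzpow) w hw).symm

end Cfsg.Agent.S0929
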