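import Cfsg.Statements.S4672
import Mathlib
import Cfsg.Agent.Lib.Helper6.BlkCoverDefect
import Cfsg.Agent.Lib.Helper6.BlkCover3

set_option autoImplicit false
open Cfsg

namespace Cfsg.Agent.S4672

open Cfsg.Agent.Lib.Helper6

theorem eq_of_blockCoeff_eq {G : Type*} [Group G] [Fintype G] [DecidableEq G]
    (B B' : Set (Cfsg.IrrCharacter G)) (h : ∀ g : G, Cfsg.blockCoeff B g = Cfsg.blockCoeff B' g) :
    B = B' := by
  classical
  have hmat : blockMat B = blockMat B' := by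
    unfold blockMat
    congr 1
    funext g
    exact h g
  ext ψ
  have h1 := cOmega_blockMat B ψ
  have h2 := cOmega_blockMat B' ψ
  rw [hmat] at h1
  rw [h1] at h2
  by_cases hB : ψ ∈ B <;> by_cases hB' : ψ ∈ B' <;> simp [hB, hB'] at h2 ⊢

/-- Fix a prime p and a maximal ideal M of the algebraic integers containing p. Let N be a normal subgroup of the finite group G of p-power index and c a p-block of N stable under conjugation by G. Then the idempotent of c is a block idempotent of G: there is a p-block B of G whose idempotent coefficients agree with those of c on N and vanish off N; and for every defect group P of such a block B, G = NP and P ∩ N is a defect group of c. -/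
theorem result {G : Type*} [Group G] [Fintype G] (p : ℕ) [Fact p.Prime] (M : Ideal Cfsg.AlgInt) (hM : Cfsg.IsPModular p M) (N : Subgroup G) [N.Normal] (hN : ∃ k : ℕ, N.index = p ^ k) (c : Set (Cfsg.IrrCharacter N)) (hc : Cfsg.IsPBlock M c) (hst : ∀ x : G, Cfsg.StabilizesBlock N c x) : (∃ B : Set (Cfsg.IrrCharacter G), Cfsg.IsPBlock M B ∧ ∀ g : G, Cfsg.blockCoeff B g = Cfsg.subgroupBlockCoeff N c g) ∧ ∀ B : Set (Cfsg.IrrCharacter G), Cfsg.IsPBlock M B → (∀ g : G, Cfsg.blockCoeff B g = Cfsg.subgroupBlockCoeff N c g) → ∀ P : Subgroup G, Cfsg.IsDefectGroup p M B P → N ⊔ P = ⊤ ∧ Cfsg.IsDefectGroup p M c ((P ⊓ N).subgroupOf N) := by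

  classical
  have hNn : N.Normal := inferInstance
  haveI : Fintype N := Fintype.ofFinite _
  have hp : p.Prime := hM.1
  obtain ⟨θ₀, rfl⟩ := hc
  have hstG : GStable N hNn (Cfsg.blockOf M (θ₀ : N → ℂ)) := by
    intro ψ hψ g
    obtain ⟨_, h2⟩ := hst g⁻¹
    obtain ⟨χ', hχ', hconj⟩ := h2 ψ hψ
    have : irrConj N hNn g ψ = χ' := by
      apply Subtype.ext
      funext n
      rw [irrConj_coe, conjFun_apply]
      exact (hconj ⟨g * n * g⁻¹, hNn.conj_mem n n.2 g⟩ n (by simp [mul_assoc])).symm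
    rw [this]
    exact hχ'
  obtain ⟨χ₀, hχ₀⟩ := exists_irr_over N θ₀
  have hover : overSet N (Cfsg.blockOf M (θ₀ : N → ℂ)) = Cfsg.blockOf M (χ₀ : G → ℂ) := by
    ext χ
    constructor
    · rintro ⟨θ, hθ, hc⟩
      exact sameBlock_of_cover_of_index N hM hN χ₀ χ θ₀ θ hθ hχ₀ hc
    · intro hχ
      exact overSet_union_blocks N hNn hM θ₀ hstG χ₀ ⟨θ₀, sameBlock_refl hM _, hχ₀⟩ χ hχ
  have hcoef : ∀ g : G, Cfsg.blockCoeff (Cfsg.blockOf M (χ₀ : G → ℂ)) g
      = Cfsg.subgroupBlockCoeff N (Cfsg.blockOf M (θ₀ : N → ℂ)) g := by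
    intro g
    rw [← hover, blockCoeff_overSet_eq N hNn hstG]
    unfold Cfsg.subgroupBlockCoeff
    by_cases hg : g ∈ N
    · rw [extendByZero_of_mem N _ hg, dif_pos hg]
    · rw [extendByZero_of_not_mem N _ hg, dif_neg hg]
  refine ⟨⟨_, ⟨χ₀, rfl⟩, hcoef⟩, ?_⟩
  intro B hB hBcoef P hP
  have hBeq : B = Cfsg.blockOf M (χ₀ : G → ℂ) := by
    apply eq_of_blockCoeff_eq
    intro g
    rw [hBcoef, hcoef]
  rw [hBeq] at hP
  have hmax : ∀ χ' ∈ overSet N (Cfsg.blockOf M (θ₀ : N → ℂ)),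
      Cfsg.blockDefect p (Cfsg.blockOf M (χ' : G → ℂ))
        ≤ Cfsg.blockDefect p (Cfsg.blockOf M (χ₀ : G → ℂ)) := by
    intro χ' hχ'
    rw [hover] at hχ'
    rw [blockOf_eq_of_mem hM hχ']
  obtain ⟨h1, h2, _⟩ := fong_cover N hNn hM θ₀ hstG χ₀ ⟨θ₀, sameBlock_refl hM _, hχ₀⟩ hmax P hP
  refine ⟨?_, h2⟩
  obtain ⟨k, hk⟩ := hN
  have hdvd : (P ⊔ N).index ∣ p ^ k := by
    rw [← hk]
    exact Subgroup.index_dvd_of_le le_sup_right
  obtain ⟨j, _, hj⟩ := (Nat.dvd_prime_pow hp).mp hdvd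
  have hj0 : j = 0 := by
    by_contra hne
    apply h1
    rw [hj]
    exact dvd_pow_self p hne
  rw [hj0, pow_zero, Subgroup.index_eq_one] at hj
  rw [sup_comm]
  exact hj


end Cfsg.Agent.S4672
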