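import Cfsg.Statements.S0959
import Mathlib
import Cfsg.Agent.Lib.Helper6.BlkDefConj

set_option autoImplicit false
open Cfsg

namespace Cfsg.Agent.S0959

open Cfsg.Agent.Lib.Helper6

/-- Let B be a block of the finite group G with defect group D (relative to a maximal ideal M of the algebraic integers containing the prime p), and let P be a p-subgroup. Then there is an element g whose idempotent coefficient for B is a local integer outside the local ideal at M and which has a conjugate centralizing P, if and only if some conjugate of P is contained in D. -/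
theorem result {G : Type*} [Group G] [Finite G] (p : ℕ) [Fact p.Prime] (M : Ideal Cfsg.AlgInt) (hM : Cfsg.IsPModular p M) (B : Set (Cfsg.IrrCharacter G)) (hB : Cfsg.IsPBlock M B) (D : Subgroup G) (hD : Cfsg.IsDefectGroup p M B D) (P : Subgroup G) (hP : IsPGroup p P) : (∃ g : G, Cfsg.MemLocalRing M (Cfsg.blockCoeff B g) ∧ ¬ Cfsg.MemLocalIdeal M (Cfsg.blockCoeff B g) ∧ ∃ c : G, IsConj g c ∧ c ∈ Subgroup.centralizer (P : Set G)) ↔ ∃ x : G, P.map (MulAut.conj x).toMonoidHom ≤ D := by
  classical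
  have : Fintype G := Fintype.ofFinite G
  obtain ⟨χ₀, rfl⟩ := hB
  constructor
  · rintro ⟨g, hg1, hg2, c, hgc, hc⟩
    have hc2 : ¬ Cfsg.MemLocalIdeal M (Cfsg.blockCoeff (Cfsg.blockOf M (χ₀ : G → ℂ)) c) := by
      rw [← blockCoeff_eq_of_isConj _ hgc.symm]; exact hg2
    have hPc : P ≤ Subgroup.centralizer ({c} : Set G) := by
      intro y hy
      rw [mem_centralizer_singleton_iff]
      exact (Subgroup.mem_centralizer_iff.mp hc y hy).symm
    obtain ⟨E, hE, hPE⟩ := exists_defectGroup_ge_of_blockCoeff hM χ₀ c hc2 P hP hPc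
    obtain ⟨x, hx⟩ := isDefectGroup_conj hM χ₀ E D hE hD
    refine ⟨x, ?_⟩
    rw [hx]
    exact Subgroup.map_mono hPE
  · rintro ⟨x, hx⟩
    obtain ⟨g₀, hg₀, Q, rfl⟩ := hD
    refine ⟨g₀, hg₀.1, hg₀.2.1, x⁻¹ * g₀ * x, ?_, ?_⟩
    · exact isConj_iff.mpr ⟨x⁻¹, by simp⟩
    · rw [Subgroup.mem_centralizer_iff]
      intro y hy
      have h1 : x * y * x⁻¹ ∈ Subgroup.centralizer ({g₀} : Set G) :=
        sylow_map_le Q (hx ⟨y, hy, by simp [MulAut.conj_apply]⟩)
      rw [mem_centralizer_singleton_iff] at h1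
      calc y * (x⁻¹ * g₀ * x) = x⁻¹ * ((x * y * x⁻¹) * g₀) * x := by group
        _ = x⁻¹ * (g₀ * (x * y * x⁻¹)) * x := by rw [h1]
        _ = x⁻¹ * g₀ * x * y := by group

end Cfsg.Agent.S0959
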