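import Mathlib
import Cfsg.Statements.S1182
import Cfsg.Agent.Lib.Lead.Isolated

set_option autoImplicit false
open Cfsg
open Cfsg.Agent.Lib.Lead

namespace Cfsg.Agent.S1182

/-- Let z be an isolated involution of the finite group G and H a subgroup normalized by z. If x, y ∈ H both commute with z and y = h x h⁻¹ for some h ∈ H, then y = c x c⁻¹ for some c ∈ H commuting with z. -/
theorem result {G : Type*} [Group G] [Finite G] (z : G) (hz : Cfsg.IsIsolatedInvolution z) (H : Subgroup G) (hzH : z ∈ Subgroup.normalizer (H : Set G)) (x y : G) (hx : x ∈ H) (hy : y ∈ H) (hxz : Commute x z) (hyz : Commute y z) (h : G) (hh : h ∈ H) (hconj : h * x * h⁻¹ = y) : ∃ c ∈ H, Commute c z ∧ c * x * c⁻¹ = y := by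
  have hzi := invol_inv hz.1
  obtain ⟨m, -, -, hm⟩ := isolated_rep hz h⁻¹
  rw [inv_inv] at hm
  set v := h⁻¹ * z * h with hv
  set k := (z * v) ^ m with hk
  -- v commutes with x
  have hvx : Commute v x := by
    have h1 : y * z = z * y := hyz.eq
    rw [← hconj] at h1
    unfold Commute SemiconjBy
    calc v * x = h⁻¹ * (z * (h * x * h⁻¹)) * h := by rw [hv]; group
      _ = h⁻¹ * ((h * x * h⁻¹) * z) * h := by rw [h1]
      _ = x * v := by rw [hv]; group
  have hkx : Commute k x := (hxz.symm.mul_left hvx).pow_left m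
  -- z * v lies in H
  have hzv : z * v ∈ H := by
    have h1 : z * h⁻¹ * z⁻¹ ∈ H := (Subgroup.mem_normalizer_iff.mp hzH h⁻¹).mp (H.inv_mem hh)
    have h2 : z * v = (z * h⁻¹ * z⁻¹) * h := by rw [hv, hzi]; group
    rw [h2]; exact H.mul_mem h1 hh
  have hkH : k ∈ H := pow_mem hzv m
  refine ⟨h * k, H.mul_mem hh hkH, ?_, ?_⟩
  · have h1 : h * k * z * (h * k)⁻¹ = z := by
      calc h * k * z * (h * k)⁻¹ = h * (k * z * k⁻¹) * h⁻¹ := by group
        _ = h * v * h⁻¹ := by rw [hm]
        _ = z := by rw [hv]; group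
    exact mul_inv_eq_iff_eq_mul.mp h1
  · calc h * k * x * (h * k)⁻¹ = h * (k * x) * k⁻¹ * h⁻¹ := by group
      _ = h * (x * k) * k⁻¹ * h⁻¹ := by rw [hkx.eq]
      _ = h * x * h⁻¹ := by group
      _ = y := hconj

end Cfsg.Agent.S1182
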