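import Mathlib
import Cfsg.Statements.S1181
import Cfsg.Agent.Lib.Lead.Isolated

set_option autoImplicit false
open Cfsg
open Cfsg.Agent.Lib.Lead

namespace Cfsg.Agent.S1181

/-- Let z be an isolated involution of the finite group G and N a normal subgroup with z ∉ N. Then the centralizer of zN in G/N is the image of C_G(z), and zN is an isolated involution of G/N. -/
theorem result {G : Type*} [Group G] [Finite G] (z : G) (hz : Cfsg.IsIsolatedInvolution z) (N : Subgroup G) [N.Normal] (hzN : z ∉ N) : Subgroup.centralizer ({(QuotientGroup.mk z : G ⧸ N)} : Set (G ⧸ N)) = (Subgroup.centralizer ({z} : Set G)).map (QuotientGroup.mk' N) ∧ Cfsg.IsIsolatedInvolution (QuotientGroup.mk z : G ⧸ N) := by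
  have hzi := invol_inv hz.1
  constructor
  · apply le_antisymm
    · intro q hq
      induction q using QuotientGroup.induction_on with
      | H g =>
        rw [Subgroup.mem_centralizer_singleton_iff] at hq
        -- the commutator lies in N
        have hw : z * (g * z * g⁻¹) ∈ N := by
          have h1 : ((g * z : G) : G ⧸ N) = ((z * g : G) : G ⧸ N) := hq
          rw [QuotientGroup.eq] at h1
          have h2 : (g * z)⁻¹ * (z * g) = z⁻¹ * (g⁻¹ * z * g) := by group
          rw [h2, hzi] at h1
          -- conjugate by g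
          have h3 := ‹N.Normal›.conj_mem _ h1 g
          have h4 : g * (z * (g⁻¹ * z * g)) * g⁻¹ = (g * z * g⁻¹) * z := by group
          rw [h4] at h3
          have h5 := N.inv_mem h3
          rw [mul_inv_rev, hzi, mul_inv_rev, mul_inv_rev, inv_inv, hzi] at h5
          have h6 : z * (g * z * g⁻¹) = z * (g * (z * g⁻¹)) := by group
          rw [h6]; exact h5
        obtain ⟨m, -, -, hm⟩ := isolated_rep hz g
        set k := (z * (g * z * g⁻¹)) ^ m with hk
        have hkN : k ∈ N := pow_mem hw m
        refine ⟨k⁻¹ * g, ?_, ?_⟩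
        · rw [SetLike.mem_coe, Subgroup.mem_centralizer_singleton_iff]
          have h1 : g * z = k * z * k⁻¹ * g := by rw [hm]; group
          calc k⁻¹ * g * z = k⁻¹ * (g * z) := by group
            _ = k⁻¹ * (k * z * k⁻¹ * g) := by rw [h1]
            _ = z * (k⁻¹ * g) := by group
        · rw [QuotientGroup.mk'_apply, QuotientGroup.eq]
          have : (k⁻¹ * g)⁻¹ * g = g⁻¹ * k * g := by group
          rw [this]
          have := ‹N.Normal›.conj_mem _ hkN g⁻¹
          rwa [inv_inv] at this
    · rintro _ ⟨c, hc, rfl⟩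
      rw [SetLike.mem_coe, Subgroup.mem_centralizer_singleton_iff] at hc
      rw [Subgroup.mem_centralizer_singleton_iff, QuotientGroup.mk'_apply]
      rw [← QuotientGroup.mk_mul, ← QuotientGroup.mk_mul, hc]
  · have hz2 : orderOf (QuotientGroup.mk z : G ⧸ N) = 2 := by
      apply invol_of_mul_self
      · intro h
        exact hzN ((QuotientGroup.eq_one_iff z).mp h)
      · rw [← QuotientGroup.mk_mul, invol_mul_self hz.1]; rfl
    refine ⟨hz2, ?_⟩
    intro q hq
    induction q using QuotientGroup.induction_on with
    | H g =>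
      set v := g * z * g⁻¹ with hv
      have hvq : (g : G ⧸ N) * (z : G ⧸ N) * (g : G ⧸ N)⁻¹ = ((v : G) : G ⧸ N) := by
        rw [hv]; simp
      rw [hvq] at hq ⊢
      have hvo : orderOf ((v : G) : G ⧸ N) = 2 := by
        have hsc : SemiconjBy ((g : G) : G ⧸ N) ((z : G) : G ⧸ N) ((v : G) : G ⧸ N) := by
          unfold SemiconjBy; rw [← hvq]; group
        rw [← hsc.orderOf_eq]; exact hz2
      have hodd := isolated_odd hz g
      have hd : orderOf (((z * v : G) : G) : G ⧸ N) ∣ orderOf (z * v) :=
        orderOf_map_dvd (QuotientGroup.mk' N) (z * v)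
      have hodd' : Odd (orderOf (((z * v : G) : G) : G ⧸ N)) := hodd.of_dvd_nat hd
      have hsq : (((z * v : G) : G) : G ⧸ N) ^ 2 = 1 := by
        rw [QuotientGroup.mk_mul, hq.mul_pow, ← hz2, pow_orderOf_eq_one, hz2, ← hvo,
          pow_orderOf_eq_one, one_mul]
      have h2 : orderOf (((z * v : G) : G) : G ⧸ N) ∣ 2 := orderOf_dvd_of_pow_eq_one hsq
      have h1 : orderOf (((z * v : G) : G) : G ⧸ N) = 1 := by
        rcases (Nat.dvd_prime Nat.prime_two).mp h2 with h | h
        · exact h
        · rw [h] at hodd'; exact absurd hodd' (by decide)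
      rw [orderOf_eq_one_iff, QuotientGroup.mk_mul] at h1
      have := eq_inv_of_mul_eq_one_right h1
      rw [this, invol_inv hz2]

end Cfsg.Agent.S1181
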