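import Cfsg.Statements.S0954
import Mathlib
import Cfsg.Agent.Lib.Helper6.BlkCover
import Cfsg.Agent.Lib.Helper6.BlkPReg
import Cfsg.Agent.S0963

set_option autoImplicit false
open Cfsg

namespace Cfsg.Agent.S0954

open Cfsg.Agent.Lib.Helper6

/-- Let N be a normal subgroup of the finite group G of order prime to p and of p-power index (a normal p-complement), and fix a maximal ideal M of the algebraic integers containing p. Then two irreducible characters χ, ψ of G lie in the same block if and only if some irreducible character of N has nonzero inner product with both the restriction of χ and the restriction of ψ. -/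
theorem result {G : Type*} [Group G] [Fintype G] (p : ℕ) [Fact p.Prime] (M : Ideal Cfsg.AlgInt) (hM : Cfsg.IsPModular p M) (N : Subgroup G) [N.Normal] [Fintype N] (hN : ¬ p ∣ Nat.card N) (hidx : ∃ k : ℕ, N.index = p ^ k) (χ ψ : Cfsg.IrrCharacter G) : Cfsg.SameBlock M (χ : G → ℂ) (ψ : G → ℂ) ↔ ∃ θ : Cfsg.IrrCharacter N, Cfsg.classInner (fun n : N => (χ : G → ℂ) n) (θ : N → ℂ) ≠ 0 ∧ Cfsg.classInner (fun n : N => (ψ : G → ℂ) n) (θ : N → ℂ) ≠ 0 := by
  classical
  have hp : p.Prime := hM.1
  have hNn : N.Normal := inferInstance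
  constructor
  · intro h
    obtain ⟨θ, hθ⟩ := exists_constituent_restrict N χ.2
    exact ⟨θ, hθ, constituent_of_sameBlock_of_coprime N hNn hM hN χ ψ h θ hθ⟩
  · rintro ⟨θ, hθχ, hθψ⟩
    apply sameBlock_of_forall_pRegular hM
    intro g hg
    obtain ⟨k, hk⟩ := hidx
    have h1 : g ^ (p ^ k) ∈ N := by
      rw [← hk]
      exact Subgroup.pow_index_mem _ g
    have h2 : g ∈ Subgroup.zpowers (g ^ (p ^ k)) := by
      rw [mem_zpowers_pow_iff]
      exact Nat.Coprime.pow_left k ((hp.coprime_iff_not_dvd).mpr hg)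
    have hgN : g ∈ N := (Subgroup.zpowers_le.mpr h1) h2
    have e1 := (Cfsg.Agent.S0963.result N χ θ).mp hθχ ⟨g, hgN⟩
    have e2 := (Cfsg.Agent.S0963.result N ψ θ).mp hθψ ⟨g, hgN⟩
    simp only at e1 e2
    rw [e1, e2, sub_self]
    exact memLocalIdeal_zero hM

end Cfsg.Agent.S0954
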