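import Cfsg.Statements.S0939
import Mathlib
import Cfsg.Agent.Lib.Helper6.BlkCover
import Cfsg.Agent.S0954

set_option autoImplicit false
open Cfsg

namespace Cfsg.Agent.S0939

open Cfsg.Agent.Lib.Helper6

/-- Let G be a finite group with a normal p-complement (the largest normal subgroup O_p'(G) of order prime to p has p-power index). Then, relative to any maximal ideal M of the algebraic integers containing p, the principal block of G is the set of irreducible characters χ with χ n = χ 1 for every n ∈ O_p'(G). -/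
theorem result {G : Type*} [Group G] [Finite G] (p : ℕ) [Fact p.Prime] (M : Ideal Cfsg.AlgInt) (hM : Cfsg.IsPModular p M) (hnc : ∃ k : ℕ, (Cfsg.pPrimeCore p G).index = p ^ k) : Cfsg.principalBlock M G = {χ : Cfsg.IrrCharacter G | ∀ n ∈ Cfsg.pPrimeCore p G, (χ : G → ℂ) n = (χ : G → ℂ) 1} := by
  classical
  have : Fintype G := Fintype.ofFinite G
  have hp : p.Prime := hM.1
  obtain ⟨hNn, hNc⟩ := pPrimeCore_normal_and_coprime (G := G) p
  set N := Cfsg.pPrimeCore p G with hNdef
  have : Fintype N := Fintype.ofFinite N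
  have hNp : ¬ p ∣ Nat.card N := by
    intro hdvd
    have := Nat.Coprime.eq_one_of_dvd hNc.symm hdvd
    exact hp.one_lt.ne' this
  have hN0 : (Nat.card N : ℂ) ≠ 0 := card_ne_zero_complex N
  let one : Cfsg.IrrCharacter G := ⟨fun _ => 1, isIrrCharacter_one⟩
  let oneN : Cfsg.IrrCharacter N := ⟨fun _ => 1, isIrrCharacter_one⟩
  have hone : Cfsg.classInner (fun n : N => (one : G → ℂ) n) (oneN : N → ℂ) ≠ 0 := by
    have := classInner_irrCharacter oneN oneN
    rw [if_pos rfl] at this
    change Cfsg.classInner (oneN : N → ℂ) (oneN : N → ℂ) ≠ 0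
    rw [this]
    exact one_ne_zero
  ext χ
  simp only [Set.mem_ofPred_eq]
  constructor
  · intro hχ
    have hsb : Cfsg.SameBlock M (one : G → ℂ) (χ : G → ℂ) := hχ
    have h1 := constituent_of_sameBlock_of_coprime N hNn hM hNp one χ hsb oneN hone
    have hsum : ∑ n : N, (χ : G → ℂ) n ≠ 0 := by
      intro h0
      apply h1
      unfold Cfsg.classInner
      have : ∀ n : N, (χ : G → ℂ) n * (starRingEnd ℂ) ((oneN : N → ℂ) n) = (χ : G → ℂ) n := by
        intro n
        change (χ : G → ℂ) n * (starRingEnd ℂ) (1 : ℂ) = _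
        rw [map_one, mul_one]
      rw [Finset.sum_congr rfl (fun n _ => this n), h0, mul_zero]
    intro n hn
    exact IsIrrCharacter.const_on_normal_of_sum_ne_zero N χ.2 hsum ⟨n, hn⟩
  · intro hχ
    have hχ1 := IsIrrCharacter.apply_one_ne_zero χ.2
    have hcon : Cfsg.classInner (fun n : N => (χ : G → ℂ) n) (oneN : N → ℂ) ≠ 0 := by
      unfold Cfsg.classInner
      have : ∀ n : N, (χ : G → ℂ) n * (starRingEnd ℂ) ((oneN : N → ℂ) n) = (χ : G → ℂ) 1 := by
        intro n
        change (χ : G → ℂ) n * (starRingEnd ℂ) (1 : ℂ) = _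
        rw [map_one, mul_one, hχ n n.2]
      rw [Finset.sum_congr rfl (fun n _ => this n), Finset.sum_const, Finset.card_univ,
        ← Nat.card_eq_fintype_card, nsmul_eq_mul, ← mul_assoc, inv_mul_cancel₀ hN0, one_mul]
      exact hχ1
    exact (Cfsg.Agent.S0954.result p M hM N hNp hnc one χ).mpr ⟨oneN, hone, hcon⟩

end Cfsg.Agent.S0939
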