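import Cfsg.Statements.S0947
import Mathlib
import Cfsg.Agent.Lib.Helper6.BlkPrincipalSum
import Cfsg.Agent.Lib.Helper6.BlkPrincipal
import Cfsg.Agent.Lib.Helper6.BlkBrauer
import Cfsg.Agent.Lib.Helper6.BlkCover
import Cfsg.Agent.S0936
import Cfsg.Agent.S0939

set_option autoImplicit false
open Cfsg

namespace Cfsg.Agent.S0947

open Cfsg.Agent.Lib.Helper6

theorem finsum_mem_eq_sum_filter_aux {α N : Type*} [Fintype α] [AddCommMonoid N] (s : Set α)
    [DecidablePred (· ∈ s)] (f : α → N) :
    ∑ᶠ a ∈ s, f a = ∑ a ∈ Finset.univ.filter (· ∈ s), f a := by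
  rw [← finsum_mem_coe_finset]
  congr 1
  ext a
  simp

/-- Let z ≠ 1 be a p-element of the finite group G with centralizer H, and fix a maximal ideal M of the algebraic integers containing p. (i) For every y ∈ H of order prime to p, the sum over ζ in the principal block of G of |ζ (z * y)|² equals the sum over χ in the principal block of H of |χ y|². (ii) If moreover H has a normal p-complement (its largest normal subgroup of order prime to p has p-power index), that common value is the largest power of p dividing the order of H. -/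
theorem result {G : Type*} [Group G] [Finite G] (p : ℕ) [Fact p.Prime] (M : Ideal Cfsg.AlgInt) (hM : Cfsg.IsPModular p M) (z : G) (hz : ∃ k : ℕ, orderOf z = p ^ k) (hz1 : z ≠ 1) (y : Subgroup.centralizer ({z} : Set G)) (hy : ¬ p ∣ orderOf y) : (∑ᶠ ζ ∈ Cfsg.principalBlock M G, ‖(ζ : G → ℂ) (z * (y : G))‖ ^ 2 = ∑ᶠ χ ∈ Cfsg.principalBlock M (Subgroup.centralizer ({z} : Set G)), ‖(χ : Subgroup.centralizer ({z} : Set G) → ℂ) y‖ ^ 2) ∧ ((∃ k : ℕ, (Cfsg.pPrimeCore p (Subgroup.centralizer ({z} : Set G))).index = p ^ k) → ∑ᶠ ζ ∈ Cfsg.principalBlock M G, ‖(ζ : G → ℂ) (z * (y : G))‖ ^ 2 = ((p ^ (Nat.card (Subgroup.centralizer ({z} : Set G))).factorization p : ℕ) : ℝ)) := by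
  classical
  have : Fintype G := Fintype.ofFinite G
  have hp : p.Prime := hM.1
  have : Fintype (Subgroup.centralizer ({z} : Set G)) := Fintype.ofFinite _
  have : Fintype (Cfsg.IrrCharacter G) := Fintype.ofFinite _
  have : Fintype (Cfsg.IrrCharacter (Subgroup.centralizer ({z} : Set G))) := Fintype.ofFinite _
  -- the induced block of the principal block of `H` is the principal block
  have hzC : z ∈ Subgroup.centralizer ({z} : Set G) := by rw [mem_centralizer_singleton_iff]
  have hP : IsPGroup p (Subgroup.zpowers z) := by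
    obtain ⟨k, hk⟩ := hz
    apply IsPGroup.of_card (n := k)
    rw [Nat.card_zpowers, hk]
  have hPH : Subgroup.zpowers z ≤ Subgroup.centralizer ({z} : Set G) := by
    rw [Subgroup.zpowers_le]; exact hzC
  have hCH : Subgroup.centralizer (Subgroup.zpowers z : Set G)
      ≤ Subgroup.centralizer ({z} : Set G) := by
    apply Subgroup.centralizer_le
    intro g hg
    rw [Set.mem_singleton_iff] at hg
    rw [hg]
    exact Subgroup.mem_zpowers z
  have hHN : Subgroup.centralizer ({z} : Set G)
      ≤ Subgroup.normalizer (Subgroup.zpowers z : Set G) :=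
    centralizer_singleton_le_normalizer_zpowers z
  have hdef : ∀ b : Set (Cfsg.IrrCharacter (Subgroup.centralizer ({z} : Set G))),
      Cfsg.IsPBlock M b → Cfsg.InducedBlockDefined M (Subgroup.centralizer ({z} : Set G)) b :=
    fun b hb => inducedBlockDefined_of_centralizer_le (Subgroup.zpowers z) _ hM hP hPH hCH hHN b hb
  have hind : Cfsg.IsInducedBlock M (Subgroup.centralizer ({z} : Set G))
      (Cfsg.blockOf M ((oneIrr (Subgroup.centralizer ({z} : Set G)) :
        Cfsg.IrrCharacter (Subgroup.centralizer ({z} : Set G))) :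
          Subgroup.centralizer ({z} : Set G) → ℂ)) (Cfsg.principalBlock M G) :=
    (Cfsg.Agent.S0936.result p M hM _ _ (hdef _ ⟨_, rfl⟩)).mpr rfl
  have huniq : ∀ ψ₀ : Cfsg.IrrCharacter (Subgroup.centralizer ({z} : Set G)),
      Cfsg.IsInducedBlock M (Subgroup.centralizer ({z} : Set G))
        (Cfsg.blockOf M (ψ₀ : Subgroup.centralizer ({z} : Set G) → ℂ)) (Cfsg.principalBlock M G) →
      Cfsg.blockOf M (ψ₀ : Subgroup.centralizer ({z} : Set G) → ℂ)
        = Cfsg.blockOf M ((oneIrr (Subgroup.centralizer ({z} : Set G)) :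
        Cfsg.IrrCharacter (Subgroup.centralizer ({z} : Set G))) :
          Subgroup.centralizer ({z} : Set G) → ℂ) := by
    intro ψ₀ h
    exact (Cfsg.Agent.S0936.result p M hM _ _ ⟨_, h⟩).mp h
  -- the complex identity
  have hmain : ∑ ζ ∈ Finset.univ.filter (· ∈ Cfsg.principalBlock M G),
        (ζ : G → ℂ) (z * (y : G)) * (starRingEnd ℂ) ((ζ : G → ℂ) (z * (y : G)))
      = ∑ χ ∈ Finset.univ.filter (· ∈ Cfsg.principalBlock M (Subgroup.centralizer ({z} : Set G))),
        (χ : Subgroup.centralizer ({z} : Set G) → ℂ) y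
          * (starRingEnd ℂ) ((χ : Subgroup.centralizer ({z} : Set G) → ℂ) y) := by
    have h1 := sum_blockPart_shift_sq hM z hz (Subgroup.centralizer ({z} : Set G)) rfl
      (oneIrr (Subgroup.centralizer ({z} : Set G))) y hy
    have h2 : ∀ ζ : Cfsg.IrrCharacter G, Cfsg.blockPart
        (Cfsg.blockOf M ((oneIrr (Subgroup.centralizer ({z} : Set G)) :
        Cfsg.IrrCharacter (Subgroup.centralizer ({z} : Set G))) :
          Subgroup.centralizer ({z} : Set G) → ℂ))
        (fun c : Subgroup.centralizer ({z} : Set G) => (ζ : G → ℂ) (z * (c : G))) y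
        = if ζ ∈ Cfsg.principalBlock M G then (ζ : G → ℂ) (z * (y : G)) else 0 := fun ζ =>
      blockPart_shift_of_unique_induced hM z hz _ rfl _ _ hind huniq ζ y hy
    simp_rw [h2] at h1
    rw [Finset.sum_filter]
    rw [← principalBlock_eq] at h1
    rw [← h1]
    apply Finset.sum_congr rfl
    intro ζ _
    split_ifs
    · rfl
    · simp
  have hreal : ∑ᶠ ζ ∈ Cfsg.principalBlock M G, ‖(ζ : G → ℂ) (z * (y : G))‖ ^ 2
      = ∑ᶠ χ ∈ Cfsg.principalBlock M (Subgroup.centralizer ({z} : Set G)),
        ‖(χ : Subgroup.centralizer ({z} : Set G) → ℂ) y‖ ^ 2 := by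
    rw [finsum_mem_eq_sum_filter_aux, finsum_mem_eq_sum_filter_aux]
    apply Complex.ofReal_injective
    push_cast
    simp_rw [← Complex.mul_conj']
    exact hmain
  refine ⟨hreal, ?_⟩
  rintro ⟨k, hk⟩
  rw [hreal]
  obtain ⟨hNn, hNc⟩ := pPrimeCore_normal_and_coprime (G := Subgroup.centralizer ({z} : Set G)) p
  have hb0 := Cfsg.Agent.S0939.result (G := Subgroup.centralizer ({z} : Set G)) p M hM ⟨k, hk⟩
  have hyK : y ∈ Cfsg.pPrimeCore p (Subgroup.centralizer ({z} : Set G)) :=
    mem_of_index_eq_pow_of_pRegular hp _ hk y hy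
  have : Fintype (Cfsg.pPrimeCore p (Subgroup.centralizer ({z} : Set G))) := Fintype.ofFinite _
  have hsum := sum_sq_degree_of_kernel_ge
    (Cfsg.pPrimeCore p (Subgroup.centralizer ({z} : Set G)))
  rw [finsum_mem_eq_sum_filter_aux]
  apply Complex.ofReal_injective
  push_cast
  simp_rw [← Complex.mul_conj']
  -- exponent
  have hfac : (Nat.card (Subgroup.centralizer ({z} : Set G))).factorization p = k := by
    have h1 := (Cfsg.pPrimeCore p (Subgroup.centralizer ({z} : Set G))).index_mul_card
    rw [hk] at h1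
    rw [← h1]
    have hc0 : Nat.card (Cfsg.pPrimeCore p (Subgroup.centralizer ({z} : Set G))) ≠ 0 :=
      Nat.card_pos.ne'
    rw [Nat.factorization_mul (pow_ne_zero k hp.ne_zero) hc0]
    simp only [Finsupp.coe_add, Pi.add_apply]
    rw [Nat.Prime.factorization_pow hp]
    simp only [Finsupp.single_eq_same]
    have : (Nat.card (Cfsg.pPrimeCore p (Subgroup.centralizer ({z} : Set G)))).factorization p
        = 0 := by
      apply Nat.factorization_eq_zero_of_not_dvd
      intro hdvd
      have := Nat.Coprime.eq_one_of_dvd hNc.symm hdvd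
      exact hp.one_lt.ne' this
    rw [this, add_zero]
  have hidx : ((Cfsg.pPrimeCore p (Subgroup.centralizer ({z} : Set G))).index : ℂ) = (p : ℂ) ^ k := by
    rw [hk]; push_cast; rfl
  rw [hfac, ← hidx, ← hsum]
  apply Finset.sum_congr
  · ext χ
    simp only [Finset.mem_filter, Finset.mem_univ, true_and]
    rw [hb0]
    rfl
  · intro χ hχ
    simp only [Finset.mem_filter, Finset.mem_univ, true_and] at hχ
    have h1 : (χ : Subgroup.centralizer ({z} : Set G) → ℂ) y
        = (χ : Subgroup.centralizer ({z} : Set G) → ℂ) 1 := hχ y hyK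
    rw [h1, IsIrrCharacter.conj_apply_one χ.2]


end Cfsg.Agent.S0947
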