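import Cfsg.Statements.S3803
import Cfsg.Agent.Lib.Helper2.OmegaTwoAut
import Cfsg.Agent.Lib.Helper2.CyclicAut
import Cfsg.Agent.Lib.Helper1.FrattiniAction
import Cfsg.Agent.Lib.Helper1.FrattiniP

set_option autoImplicit false
open Cfsg

namespace Cfsg.Agent.S3803

open Cfsg.Agent.Lib.Helper1 Cfsg.Agent.Lib.Helper2

variable {X : Type*} [Group X] [Finite X]

/-- In a `2`-group, subgroups of all intermediate orders exist. -/
theorem exists_between {P H : Subgroup X} (hP : IsPGroup 2 P) (hHP : H ≤ P) {n m : ℕ}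
    (hH : Nat.card H = 2 ^ n) (hnm : n ≤ m) (hm : 2 ^ m ≤ Nat.card P) :
    ∃ K : Subgroup X, H ≤ K ∧ K ≤ P ∧ Nat.card K = 2 ^ m := by
  haveI : Fact (Nat.Prime 2) := ⟨Nat.prime_two⟩
  obtain ⟨N, hN⟩ := IsPGroup.iff_card.mp hP
  have hmN : m ≤ N := by
    rw [hN] at hm
    exact (Nat.pow_le_pow_iff_right (by norm_num)).1 hm
  have hdvd : 2 ^ m ∣ Nat.card P := by rw [hN]; exact pow_dvd_pow 2 hmN
  have hH' : Nat.card (H.subgroupOf P) = 2 ^ n := by
    rw [Nat.card_congr (Subgroup.subgroupOfEquivOfLe hHP).toEquiv, hH]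
  obtain ⟨K, hK, hHK⟩ := Sylow.exists_subgroup_card_pow_prime_le 2 hdvd (H.subgroupOf P) hH' hnm
  refine ⟨K.map P.subtype, ?_, Subgroup.map_subtype_le _, ?_⟩
  · intro x hx
    exact ⟨⟨x, hHP hx⟩, hHK (Subgroup.mem_subgroupOf.2 hx), rfl⟩
  · rw [Subgroup.card_map_of_injective P.subtype_injective, hK]

/-- An odd-order element normalizing a cyclic subgroup centralizes its elements of order
dividing `4`. -/
theorem cyclic_case {E : Subgroup X} (hE : IsCyclic E) {a : X}
    (haE : a ∈ Subgroup.normalizer (E : Set X)) (hodd : Odd (orderOf a)) {x : X} (hx : x ∈ E)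
    (hx4 : x ^ 4 = 1) : a * x * a⁻¹ = x := by
  obtain ⟨⟨e, heE⟩, he⟩ := hE.exists_generator
  have hgen : ∀ y ∈ E, y ∈ Subgroup.zpowers e := by
    intro y hy
    obtain ⟨i, hi⟩ := Subgroup.mem_zpowers_iff.1 (he ⟨y, hy⟩)
    refine Subgroup.mem_zpowers_iff.2 ⟨i, ?_⟩
    have := congrArg Subtype.val hi
    simpa using this
  have h1 : a * e * a⁻¹ ∈ E := (Subgroup.mem_normalizer_iff.mp haE e).mp heE
  have h2 : a * e * a⁻¹ ∈ Submonoid.powers e :=
    (mem_powers_iff_mem_zpowers).2 (hgen _ h1)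
  obtain ⟨u, hu⟩ := h2
  have hu : e ^ u = a * e * a⁻¹ := hu
  obtain ⟨i, hi⟩ := Subgroup.mem_zpowers_iff.1 (hgen x hx)
  -- `a x a⁻¹ = x ^ u`
  have h3 : a * x * a⁻¹ = x ^ u := by
    have e1 : a * x * a⁻¹ = (a * e * a⁻¹) ^ i := by
      rw [← hi]
      have := map_zpow (MulAut.conj a).toMonoidHom e i
      simpa [MulAut.conj_apply] using this
    rw [e1, ← hu, ← hi, ← zpow_natCast, ← zpow_natCast, ← zpow_mul, ← zpow_mul, mul_comm]
  -- `a ^ 2` centralizes `x`
  have h4 := conj_pow_eq_pow_pow h3 2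
  have h5 : a ^ 2 * x * (a ^ 2)⁻¹ = x := by
    rw [h4]
    rcases Nat.even_or_odd u with hev | hod
    · obtain ⟨v, hv⟩ := hev
      -- then `x = 1`
      have h6 : x ^ (u ^ 2) = 1 := by
        have : u ^ 2 = 4 * v ^ 2 := by rw [hv]; ring
        rw [this, pow_mul, hx4, one_pow]
      rw [h6]
      rw [h6] at h4
      have : x = (a ^ 2)⁻¹ * (a ^ 2 * x * (a ^ 2)⁻¹) * a ^ 2 := by group
      rw [this, h4]; group
    · have h6 : u ^ 2 % 4 = 1 := by
        obtain ⟨v, hv⟩ := hod
        rw [hv]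
        have : (2 * v + 1) ^ 2 = 4 * (v * (v + 1)) + 1 := by ring
        rw [this]; omega
      have h7 : x ^ (u ^ 2) = x ^ (u ^ 2 % 4) := by
        conv_lhs => rw [← Nat.div_add_mod (u ^ 2) 4, pow_add, pow_mul, hx4, one_pow, one_mul]
      rw [h7, h6, pow_one]
  -- `a` is a power of `a ^ 2`
  obtain ⟨t, ht⟩ := hodd
  have h8 : a = (a ^ 2) ^ (t + 1) := by
    rw [← pow_mul]
    have : 2 * (t + 1) = orderOf a + 1 := by omega
    rw [this, pow_succ, pow_orderOf_eq_one, one_mul]
  have h9 : Commute (a ^ 2) x := by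
    show a ^ 2 * x = x * a ^ 2
    calc a ^ 2 * x = (a ^ 2 * x * (a ^ 2)⁻¹) * a ^ 2 := by group
      _ = x * a ^ 2 := by rw [h5]
  have h10 : Commute a x := by
    rw [h8]; exact h9.pow_left _
  calc a * x * a⁻¹ = x * a * a⁻¹ := by rw [h10.eq]
    _ = x := by group

theorem mem_normalizer_sup {E E' : Subgroup X} {a : X}
    (h1 : a ∈ Subgroup.normalizer (E : Set X)) (h2 : a ∈ Subgroup.normalizer (E' : Set X)) :
    a ∈ Subgroup.normalizer ((E ⊔ E' : Subgroup X) : Set X) := by
  rw [Subgroup.mem_normalizer_iff_map_conj_eq] at h1 h2 ⊢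
  rw [Subgroup.map_sup, h1, h2]

/-- The noncyclic case: Burnside's argument on a subgroup `F` of order `2^(k+1)`. -/
theorem noncyclic_case {P A E F : Subgroup X} (hP : IsPGroup 2 P) (hA : Odd (Nat.card A))
    {k : ℕ} (hinv : ∀ E : Subgroup X, E ≤ P → Nat.card E = 2 ^ k →
      A ≤ Subgroup.normalizer (E : Set X))
    (hEF : E ≤ F) (hFP : F ≤ P) (hE : Nat.card E = 2 ^ k) (hF : Nat.card F = 2 ^ (k + 1))
    (hnc : ¬ IsCyclic E) : A ≤ Subgroup.centralizer (F : Set X) := by
  haveI : Fact (Nat.Prime 2) := ⟨Nat.prime_two⟩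
  have hFp : IsPGroup 2 F := hP.to_le hFP
  -- an element of `F` outside `E`
  have hlt : E < F := by
    refine lt_of_le_of_ne hEF ?_
    rintro rfl
    rw [hE] at hF
    have : k = k + 1 := Nat.pow_right_injective (le_refl 2) hF
    omega
  obtain ⟨g, hgF, hgE⟩ := SetLike.exists_of_lt hlt
  -- `F` is not cyclic
  have hFnc : ¬ IsCyclic F := by
    intro hc
    apply hnc
    haveI := hc
    have h1 : IsCyclic (E.subgroupOf F) := inferInstance
    exact isCyclic_of_surjective (Subgroup.subgroupOfEquivOfLe hEF).toMonoidHom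
      (Subgroup.subgroupOfEquivOfLe hEF).surjective
  -- `⟨g⟩` has order at most `2^k`
  have hzF : Subgroup.zpowers g ≤ F := by
    rw [Subgroup.zpowers_le]; exact hgF
  obtain ⟨j, hj⟩ := IsPGroup.iff_card.mp (hFp.to_le hzF)
  have hjk : j ≤ k := by
    by_contra hcon
    push Not at hcon
    have h1 : Nat.card (Subgroup.zpowers g) ∣ Nat.card F := Subgroup.card_dvd_of_le hzF
    have h2 : Nat.card F ≤ Nat.card (Subgroup.zpowers g) := by
      rw [hF, hj]
      exact Nat.pow_le_pow_right (by norm_num) hcon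
    have h3 : Subgroup.zpowers g = F := Subgroup.eq_of_le_of_card_ge hzF h2
    apply hFnc
    rw [← h3]
    infer_instance
  obtain ⟨E', hgE', hE'F, hE'⟩ := exists_between hFp hzF hj hjk (by rw [hF]; exact Nat.pow_le_pow_right (by norm_num) (Nat.le_succ k))
  have hgE'' : g ∈ E' := hgE' (Subgroup.mem_zpowers g)
  -- `E ⊔ E' = F`
  have hsup : E ⊔ E' = F := by
    apply Subgroup.eq_of_le_of_card_ge (sup_le hEF hE'F)
    obtain ⟨i, hi⟩ := IsPGroup.iff_card.mp (hFp.to_le (sup_le hEF hE'F))
    have hki : k < i := by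
      by_contra hcon
      push Not at hcon
      have h1 : Nat.card (E ⊔ E' : Subgroup X) ≤ Nat.card E := by
        rw [hi, hE]; exact Nat.pow_le_pow_right (by norm_num) hcon
      have h2 : E = E ⊔ E' := Subgroup.eq_of_le_of_card_ge le_sup_left h1
      apply hgE
      rw [h2]
      exact Subgroup.mem_sup_right hgE''
    rw [hF, hi]
    exact Nat.pow_le_pow_right (by norm_num) hki
  have hAF : A ≤ Subgroup.normalizer (F : Set X) := by
    intro a ha
    rw [← hsup]
    exact mem_normalizer_sup (hinv E (hEF.trans hFP) hE ha) (hinv E' (hE'F.trans hFP) hE' ha)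
  apply centralizes_of_trivial_on_frattini_quotient A F hAF
  · have h1 : Nat.card (frattini F) ∣ 2 ^ (k + 1) := by
      rw [← hF]; exact Subgroup.card_subgroup_dvd_card _
    obtain ⟨i, -, hi⟩ := (Nat.dvd_prime_pow Nat.prime_two).1 h1
    rw [hi]
    exact Nat.Coprime.pow_right i (Nat.coprime_two_right.2 hA)
  · intro a ha f hf
    have haf : a * f * a⁻¹ ∈ F := (Subgroup.mem_normalizer_iff.mp (hAF ha) f).mp hf
    suffices hmem : ((⟨a * f * a⁻¹, haf⟩ : ↥F) * (⟨f, hf⟩ : ↥F)⁻¹) ∈ frattini ↥F from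
      ⟨_, hmem, rfl⟩
    unfold frattini Order.radical
    rw [Subgroup.mem_iInf]
    intro M
    rw [Subgroup.mem_iInf]
    intro hM
    have hidx : M.index = 2 := index_eq_prime_of_isCoatom 2 (hFp) M hM
    have hMcard : Nat.card (M.map F.subtype) = 2 ^ k := by
      rw [Subgroup.card_map_of_injective F.subtype_injective]
      have := M.card_mul_index
      rw [hidx, hF, pow_succ] at this
      exact Nat.eq_of_mul_eq_mul_right (by norm_num) this
    have hMn := hinv (M.map F.subtype) ((Subgroup.map_subtype_le _).trans hFP) hMcard ha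
    rw [Subgroup.mul_mem_iff_of_index_two hidx, inv_mem_iff]
    have key := Subgroup.mem_normalizer_iff.mp hMn f
    constructor
    · intro h1
      have h2 : a * f * a⁻¹ ∈ M.map F.subtype := ⟨_, h1, rfl⟩
      obtain ⟨y, hy, hyf⟩ := key.mpr h2
      have : y = ⟨f, hf⟩ := Subtype.ext hyf
      rw [← this]; exact hy
    · intro h1
      have h2 : f ∈ M.map F.subtype := ⟨_, h1, rfl⟩
      obtain ⟨y, hy, hyf⟩ := key.mp h2
      have : y = ⟨a * f * a⁻¹, haf⟩ := Subtype.ext hyf
      rw [← this]; exact hy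

theorem conjEquiv_pow_apply (P : Subgroup X) (a : X) (ha : a ∈ Subgroup.normalizer (P : Set X))
    (m : ℕ) (y : ↥P) :
    ((((conjEquivOfMemNormalizer P a ha : MulAut ↥P) ^ m) y : ↥P) : X) = a ^ m * y * (a ^ m)⁻¹ := by
  induction m generalizing y with
  | zero => simp
  | succ m ih =>
    rw [pow_succ, MulAut.mul_apply, ih]
    show a ^ m * (a * (y : X) * a⁻¹) * (a ^ m)⁻¹ = a ^ (m + 1) * y * (a ^ (m + 1))⁻¹
    rw [pow_succ]; group

/-- Let P be a 2-subgroup and A a subgroup of odd order of a finite group, with A normalizing P. Let D ≤ P with 1 < |D| < |P|. If every subgroup of P of order |D|, and also every subgroup of P of order 4 in case |D| = 2, is normalized by A, then A centralizes P. -/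
theorem result {X : Type*} [Group X] [Finite X] (P A D : Subgroup X) (hP : IsPGroup 2 P) (hA : Odd (Nat.card A))
    (hAP : A ≤ Subgroup.normalizer (P : Set X)) (hDP : D ≤ P) (hD1 : 1 < Nat.card D) (hD2 : Nat.card D < Nat.card P)
    (hinv : ∀ E : Subgroup X, E ≤ P → (Nat.card E = Nat.card D ∨ (Nat.card D = 2 ∧ Nat.card E = 4)) → A ≤ Subgroup.normalizer (E : Set X)) :
    A ≤ Subgroup.centralizer (P : Set X) := by
  classical
  haveI : Fact (Nat.Prime 2) := ⟨Nat.prime_two⟩
  obtain ⟨k, hk⟩ := IsPGroup.iff_card.mp (hP.to_le hDP)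
  have hk1 : 1 ≤ k := by
    rcases Nat.eq_zero_or_pos k with h0 | h0
    · rw [h0, pow_zero] at hk; omega
    · exact h0
  have hodd : ∀ a ∈ A, Odd (orderOf a) := by
    intro a ha
    have h1 : orderOf a ∣ Nat.card A := by
      have := orderOf_dvd_natCard (⟨a, ha⟩ : ↥A)
      rwa [Subgroup.orderOf_mk] at this
    exact Odd.of_dvd_nat hA h1
  -- every element of order dividing 4 is centralized
  have hfix : ∀ a ∈ A, ∀ x ∈ P, x ^ 4 = 1 → a * x * a⁻¹ = x := by
    intro a ha x hx hx4
    have hzP : Subgroup.zpowers x ≤ P := by rw [Subgroup.zpowers_le]; exact hx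
    obtain ⟨j, hj⟩ := IsPGroup.iff_card.mp (hP.to_le hzP)
    have hj2 : j ≤ 2 := by
      have h1 : Nat.card (Subgroup.zpowers x) ∣ 4 := by
        rw [Nat.card_zpowers]; exact orderOf_dvd_of_pow_eq_one hx4
      rw [hj] at h1
      have h2 : 2 ^ j ≤ 2 ^ 2 := Nat.le_of_dvd (by norm_num) h1
      exact (Nat.pow_le_pow_iff_right (by norm_num)).1 h2
    by_cases hk' : k = 1
    · -- the subgroup `⟨x⟩` itself is invariant
      rcases Nat.eq_zero_or_pos j with h0 | h0
      · -- x = 1
        rw [h0, pow_zero, Subgroup.card_eq_one, Subgroup.zpowers_eq_bot] at hj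
        rw [hj]; group
      · have hcase : Nat.card (Subgroup.zpowers x) = Nat.card D ∨
            (Nat.card D = 2 ∧ Nat.card (Subgroup.zpowers x) = 4) := by
          rw [hk, hk', hj]
          have : j = 1 ∨ j = 2 := by omega
          rcases this with h | h
          · left; rw [h]
          · right; rw [h]; norm_num
        have hn := hinv (Subgroup.zpowers x) hzP hcase ha
        exact cyclic_case (E := Subgroup.zpowers x) inferInstance hn (hodd a ha)
          (Subgroup.mem_zpowers x) hx4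
    · have hk2 : 2 ≤ k := by omega
      obtain ⟨E, hxE, hEP, hE⟩ := exists_between hP hzP hj (hj2.trans hk2) (by rw [← hk]; exact hD2.le)
      have hxE' : x ∈ E := hxE (Subgroup.mem_zpowers x)
      have hEn := hinv E hEP (Or.inl (by rw [hE, hk]))
      by_cases hc : IsCyclic E
      · exact cyclic_case hc (hEn ha) (hodd a ha) hxE' hx4
      · obtain ⟨N, hN⟩ := IsPGroup.iff_card.mp hP
        have hkN : k < N := by
          rw [hk, hN] at hD2
          exact (Nat.pow_lt_pow_iff_right (by norm_num)).1 hD2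
        obtain ⟨F, hEF, hFP, hF⟩ := exists_between hP hEP hE (Nat.le_succ k)
          (by rw [hN]; exact Nat.pow_le_pow_right (by norm_num) hkN)
        have hAF := noncyclic_case hP hA (k := k)
          (fun E' hE'P hE' => hinv E' hE'P (Or.inl (by rw [hE', hk]))) hEF hFP hE hF hc
        have := Subgroup.mem_centralizer_iff.1 (hAF ha) x (hEF hxE')
        rw [← this]; group
  intro a ha
  rw [Subgroup.mem_centralizer_iff]
  intro x hx
  set α : MulAut ↥P := conjEquivOfMemNormalizer P a (hAP ha) with hα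
  have hα1 : α = 1 := by
    apply coprime_aut_trivial_of_fix_omega_two hP α
    · have h1 : orderOf α ∣ orderOf a := by
        apply orderOf_dvd_of_pow_eq_one
        ext y
        rw [conjEquiv_pow_apply, pow_orderOf_eq_one]
        simp
      exact Nat.Coprime.coprime_dvd_left h1 (Nat.coprime_two_right.2 (hodd a ha))
    · intro y hy
      apply Subtype.ext
      have hy' : (y : X) ^ 4 = 1 := by
        have := congrArg Subtype.val hy
        simpa using this
      exact hfix a ha y y.2 hy'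
  have h2 : (α ⟨x, hx⟩ : X) = a * x * a⁻¹ := rfl
  rw [hα1] at h2
  have h3 : x = a * x * a⁻¹ := h2
  calc x * a = (a * x * a⁻¹) * a := by rw [← h3]
    _ = a * x := by group

end Cfsg.Agent.S3803
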