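import Cfsg.Statements.S3864
import Cfsg.Agent.Lib.Helper1.ThompsonTransfer
import Cfsg.Agent.Lib.Helper1.NormalPComplement
import Cfsg.Agent.Lib.Helper2.OmegaTwoAut
import Cfsg.Agent.Lib.Helper2.SylowNormal
import Cfsg.Agent.Lib.Helper2.PGroup
import Cfsg.Agent.Lib.Helper2.Cores
import Cfsg.Agent.Lib.Helper2.CyclicAut
import Cfsg.Agent.S3803

set_option autoImplicit false
open Cfsg

namespace Cfsg.Agent.S3864

open DihedralGroup

section Dihedral

variable {m : ℕ} (hm : 2 ∣ m)

/-- parity of the index -/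
def par : ZMod m →+* ZMod 2 := ZMod.castHom hm (ZMod 2)

/-- the character with kernel the rotations -/
def chi0 : DihedralGroup m →* Multiplicative (ZMod 2) where
  toFun g := match g with
    | r _ => Multiplicative.ofAdd 0
    | sr _ => Multiplicative.ofAdd 1
  map_one' := rfl
  map_mul' := by
    rintro (i | i) (j | j)
    · show Multiplicative.ofAdd (0 : ZMod 2) = Multiplicative.ofAdd 0 * Multiplicative.ofAdd 0
      rw [← ofAdd_add]; rfl
    · show Multiplicative.ofAdd (1 : ZMod 2) = Multiplicative.ofAdd 0 * Multiplicative.ofAdd 1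
      rw [← ofAdd_add]; rfl
    · show Multiplicative.ofAdd (1 : ZMod 2) = Multiplicative.ofAdd 1 * Multiplicative.ofAdd 0
      rw [← ofAdd_add]; rfl
    · show Multiplicative.ofAdd (0 : ZMod 2) = Multiplicative.ofAdd 1 * Multiplicative.ofAdd 1
      rw [← ofAdd_add]; rfl

/-- the character recording the parity of the index -/
def chi1 : DihedralGroup m →* Multiplicative (ZMod 2) where
  toFun g := match g with
    | r i => Multiplicative.ofAdd (par hm i)
    | sr i => Multiplicative.ofAdd (par hm i)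
  map_one' := by
    show Multiplicative.ofAdd (par hm 0) = 1
    rw [map_zero]; rfl
  map_mul' := by
    have h2 : ∀ a : ZMod 2, -a = a := by decide
    rintro (i | i) (j | j)
    · show Multiplicative.ofAdd (par hm (i + j)) = Multiplicative.ofAdd (par hm i) * Multiplicative.ofAdd (par hm j)
      rw [← ofAdd_add, map_add]
    · show Multiplicative.ofAdd (par hm (j - i)) = Multiplicative.ofAdd (par hm i) * Multiplicative.ofAdd (par hm j)
      rw [← ofAdd_add, map_sub, sub_eq_add_neg, h2, add_comm]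
    · show Multiplicative.ofAdd (par hm (i + j)) = Multiplicative.ofAdd (par hm i) * Multiplicative.ofAdd (par hm j)
      rw [← ofAdd_add, map_add]
    · show Multiplicative.ofAdd (par hm (j - i)) = Multiplicative.ofAdd (par hm i) * Multiplicative.ofAdd (par hm j)
      rw [← ofAdd_add, map_sub, sub_eq_add_neg, h2, add_comm]

theorem chi0_r (i : ZMod m) : chi0 (r i : DihedralGroup m) = 1 := rfl
theorem chi0_sr (i : ZMod m) : chi0 (sr i : DihedralGroup m) = Multiplicative.ofAdd 1 := rfl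
theorem chi1_r (i : ZMod m) : chi1 hm (r i : DihedralGroup m) = Multiplicative.ofAdd (par hm i) := rfl
theorem chi1_sr (i : ZMod m) : chi1 hm (sr i : DihedralGroup m) = Multiplicative.ofAdd (par hm i) := rfl

theorem ofAdd_one_ne_one : (Multiplicative.ofAdd (1 : ZMod 2)) ≠ 1 := by decide

theorem mult_zmod2_cases (a : Multiplicative (ZMod 2)) : a = 1 ∨ a = Multiplicative.ofAdd 1 := by
  revert a; decide

/-- In an index-two kernel: a product of two non-members is a member. -/
theorem chi_mul_of_ne {H : Type*} [Group H] (f : H →* Multiplicative (ZMod 2)) {a b : H}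
    (ha : f a ≠ 1) (hb : f b ≠ 1) : f (a * b) = 1 := by
  rw [map_mul]
  rcases mult_zmod2_cases (f a) with h | h
  · exact absurd h ha
  · rcases mult_zmod2_cases (f b) with h' | h'
    · exact absurd h' hb
    · rw [h, h']; decide

variable {k : ℕ} (hmk : m = 2 * k) (hk0 : k ≠ 0)

include hmk hk0 in
/-- The only rotation of order two is `r k`. -/
theorem rot_involution {i : ZMod m} (h : orderOf (r i : DihedralGroup m) = 2) : i = (k : ZMod m) := by
  haveI : NeZero m := ⟨by omega⟩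
  have h1 : (r i : DihedralGroup m) ^ 2 = 1 := by rw [← h]; exact pow_orderOf_eq_one _
  rw [r_pow, one_def] at h1
  have h2 : i * ((2 : ℕ) : ZMod m) = 0 := by
    have := r.inj h1
    exact_mod_cast this
  have hne : i ≠ 0 := by
    rintro rfl
    rw [r_zero, orderOf_one] at h
    omega
  have h3 : ((i.val * 2 : ℕ) : ZMod m) = 0 := by
    rw [Nat.cast_mul, ZMod.natCast_zmod_val]; exact h2
  rw [ZMod.natCast_eq_zero_iff] at h3
  have hlt : i.val < m := ZMod.val_lt i
  have hv0 : i.val ≠ 0 := by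
    intro h0
    apply hne
    rw [← ZMod.natCast_zmod_val i, h0, Nat.cast_zero]
  have hkdvd : k ∣ i.val := by
    obtain ⟨c, hc⟩ := h3
    have h4 : i.val * 2 = 2 * k * c := by rw [hc, hmk]
    exact ⟨c, by nlinarith⟩
  obtain ⟨c, hc⟩ := hkdvd
  have hlt' : i.val < 2 * k := by omega
  have hc1 : c = 1 := by
    have : c < 2 := by
      by_contra hcon
      push Not at hcon
      nlinarith
    have : c ≠ 0 := by
      rintro rfl
      apply hv0; rw [hc, mul_zero]
    omega
  rw [← ZMod.natCast_zmod_val i, hc, hc1, mul_one]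

/-- A reflection is conjugate by a rotation to `sr 0` or `sr 1` according to parity. -/
theorem sr_conj (i : ZMod m) [NeZero m] :
    ∃ t : ZMod m, (par hm i = 0 → r t * sr i * (r t)⁻¹ = (sr 0 : DihedralGroup m)) ∧
      (par hm i = 1 → r t * sr i * (r t)⁻¹ = (sr 1 : DihedralGroup m)) := by
  refine ⟨((i.val / 2 : ℕ) : ZMod m), ?_, ?_⟩
  · intro h0
    rw [inv_r, r_mul_sr, sr_mul_r]
    congr 1
    have hev : i.val % 2 = 0 := by
      have : par hm i = ((i.val : ℕ) : ZMod 2) := by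
        unfold par
        rw [← ZMod.natCast_zmod_val i, map_natCast, ZMod.natCast_zmod_val]
      rw [this, ZMod.natCast_eq_zero_iff] at h0
      omega
    have hi : i = ((i.val / 2 : ℕ) : ZMod m) + ((i.val / 2 : ℕ) : ZMod m) := by
      rw [← Nat.cast_add]
      have : i.val / 2 + i.val / 2 = i.val := by omega
      rw [this, ZMod.natCast_zmod_val]
    linear_combination hi
  · intro h1
    rw [inv_r, r_mul_sr, sr_mul_r]
    congr 1
    have hodd : i.val % 2 = 1 := by
      have : par hm i = ((i.val : ℕ) : ZMod 2) := by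
        unfold par
        rw [← ZMod.natCast_zmod_val i, map_natCast, ZMod.natCast_zmod_val]
      rw [this] at h1
      have h2 : ((i.val : ℕ) : ZMod 2) = ((1 : ℕ) : ZMod 2) := by rw [h1]; rfl
      rw [ZMod.natCast_eq_natCast_iff'] at h2
      omega
    have hi : i = ((i.val / 2 : ℕ) : ZMod m) + ((i.val / 2 : ℕ) : ZMod m) + 1 := by
      have : i.val / 2 + i.val / 2 + 1 = i.val := by omega
      have h3 : ((i.val / 2 + i.val / 2 + 1 : ℕ) : ZMod m) = i := by
        rw [this, ZMod.natCast_zmod_val]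
      push_cast at h3
      exact h3.symm
    linear_combination hi

end Dihedral

/-- Data of a dihedral subgroup `P` of order `2 m = 4 k` with `k` even. -/
structure DihData {G : Type*} [Group G] (P : Subgroup G) (m k : ℕ) where
  e : DihedralGroup m →* G
  inj : Function.Injective e
  mem_iff : ∀ g : G, g ∈ P ↔ ∃ d, e d = g
  hmk : m = 2 * k
  hk2 : 2 ∣ k
  hk0 : k ≠ 0

namespace DihData

variable {G : Type*} [Group G] {P : Subgroup G} {m k : ℕ} (D : DihData P m k)

include D in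
theorem hm : 2 ∣ m := ⟨k, D.hmk⟩

include D in
theorem neZero : NeZero m := ⟨by have := D.hmk; have := D.hk0; omega⟩

/-- generating rotation -/
def x : G := D.e (r 1)
/-- reflection of even type -/
def y : G := D.e (sr 0)
/-- reflection of odd type -/
def y' : G := D.e (sr 1)
/-- central involution -/
def z : G := D.e (r (k : ZMod m))

theorem e_mem (d : DihedralGroup m) : D.e d ∈ P := (D.mem_iff _).2 ⟨d, rfl⟩

theorem exists_of_mem {g : G} (hg : g ∈ P) : ∃ d, D.e d = g := (D.mem_iff g).1 hg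

theorem x_mem : D.x ∈ P := D.e_mem _
theorem y_mem : D.y ∈ P := D.e_mem _
theorem y'_mem : D.y' ∈ P := D.e_mem _
theorem z_mem : D.z ∈ P := D.e_mem _

theorem orderOf_e (d : DihedralGroup m) : orderOf (D.e d) = orderOf d :=
  orderOf_injective D.e D.inj d

theorem orderOf_y : orderOf D.y = 2 := by
  unfold y; rw [D.orderOf_e]; exact orderOf_sr 0

theorem orderOf_y' : orderOf D.y' = 2 := by
  unfold y'; rw [D.orderOf_e]; exact orderOf_sr 1

theorem orderOf_z : orderOf D.z = 2 := by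
  haveI := D.neZero
  unfold z; rw [D.orderOf_e, orderOf_r]
  have h1 : ((k : ZMod m)).val = k := by
    apply ZMod.val_natCast_of_lt
    have := D.hmk; have := D.hk0; omega
  rw [h1, D.hmk]
  have : Nat.gcd (2 * k) k = k := Nat.gcd_eq_right ⟨2, by ring⟩
  rw [this]
  exact Nat.mul_div_cancel _ (Nat.pos_of_ne_zero D.hk0)

theorem y'_eq : D.y' = D.y * D.x := by
  unfold y' y x
  rw [← map_mul, sr_mul_r, zero_add]

theorem x_eq : D.x = D.y * D.y' := by
  unfold y' y x
  rw [← map_mul, sr_mul_sr, sub_zero]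

theorem e_r (i : ℕ) : D.e (r (i : ZMod m)) = D.x ^ i := by
  unfold x
  rw [← map_pow, r_pow, one_mul]

theorem e_sr (i : ℕ) : D.e (sr (i : ZMod m)) = D.y * D.x ^ i := by
  unfold y
  rw [← e_r, ← map_mul, sr_mul_r, zero_add]

theorem z_eq : D.z = D.x ^ k := by
  unfold z; exact D.e_r k

/-- classification of the involutions of `P` up to `P`-conjugacy -/
theorem involution_cases {u : G} (hu : u ∈ P) (hu2 : orderOf u = 2) :
    u = D.z ∨ (∃ s ∈ P, s * u * s⁻¹ = D.y) ∨ (∃ s ∈ P, s * u * s⁻¹ = D.y') := by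
  haveI := D.neZero
  obtain ⟨d, rfl⟩ := D.exists_of_mem hu
  rw [D.orderOf_e] at hu2
  rcases d with i | i
  · left
    unfold z
    rw [rot_involution D.hmk D.hk0 hu2]
  · right
    obtain ⟨t, ht0, ht1⟩ := sr_conj D.hm i
    have hcases : par D.hm i = 0 ∨ par D.hm i = 1 := by
      generalize par D.hm i = a
      revert a; decide
    rcases hcases with h | h
    · left
      refine ⟨D.e (r t), D.e_mem _, ?_⟩
      unfold y
      rw [← map_inv, ← map_mul, ← map_mul, ht0 h]
    · right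
      refine ⟨D.e (r t), D.e_mem _, ?_⟩
      unfold y'
      rw [← map_inv, ← map_mul, ← map_mul, ht1 h]

/-- `y` and `y'` are not conjugate in `P`. -/
theorem not_conj_y_y' {s : G} (hs : s ∈ P) : s * D.y * s⁻¹ ≠ D.y' := by
  intro h
  obtain ⟨d, rfl⟩ := D.exists_of_mem hs
  unfold y y' at h
  rw [← map_inv, ← map_mul, ← map_mul] at h
  have h1 := D.inj h
  have h2 := congrArg (chi1 D.hm) h1
  rw [map_mul, map_mul, map_inv, mul_comm, ← mul_assoc, inv_mul_cancel, one_mul, chi1_sr,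
    chi1_sr, map_zero, map_one] at h2
  exact ofAdd_one_ne_one h2.symm

theorem mem_cases {g : G} (hg : g ∈ P) : ∃ i : ℕ, g = D.x ^ i ∨ g = D.y * D.x ^ i := by
  haveI := D.neZero
  obtain ⟨d, rfl⟩ := D.exists_of_mem hg
  rcases d with i | i
  · exact ⟨i.val, Or.inl (by rw [← D.e_r, ZMod.natCast_zmod_val])⟩
  · exact ⟨i.val, Or.inr (by rw [← D.e_sr, ZMod.natCast_zmod_val])⟩

theorem conj_x : D.y * D.x * D.y⁻¹ = D.x⁻¹ := by
  unfold y x
  rw [← map_inv, ← map_mul, ← map_mul, ← map_inv, inv_sr, sr_mul_r, sr_mul_sr, inv_r]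
  congr 2
  ring

/-- `x²` is a commutator. -/
theorem x_sq_eq : D.x ^ 2 = D.x * D.y * D.x⁻¹ * D.y⁻¹ := by
  have h := D.conj_x
  have h1 : D.y * D.x⁻¹ * D.y⁻¹ = D.x := by
    have : D.y * D.x⁻¹ * D.y⁻¹ = (D.y * D.x * D.y⁻¹)⁻¹ := by group
    rw [this, h, inv_inv]
  calc D.x ^ 2 = D.x * (D.y * D.x⁻¹ * D.y⁻¹) := by rw [h1, pow_two]
    _ = D.x * D.y * D.x⁻¹ * D.y⁻¹ := by group

/-- the index-two subgroup of `P` cut out by a character -/
def sub (f : DihedralGroup m →* Multiplicative (ZMod 2)) : Subgroup G := f.ker.map D.e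

theorem sub_le (f : DihedralGroup m →* Multiplicative (ZMod 2)) : D.sub f ≤ P := by
  rintro _ ⟨d, _, rfl⟩
  exact D.e_mem d

theorem e_mem_sub (f : DihedralGroup m →* Multiplicative (ZMod 2)) (d : DihedralGroup m) :
    D.e d ∈ D.sub f ↔ f d = 1 := by
  constructor
  · rintro ⟨d', hd', h⟩
    rw [← D.inj h]; exact hd'
  · intro h
    exact ⟨d, h, rfl⟩

include D in
theorem card_P : Nat.card P = 2 * m := by
  rw [← DihedralGroup.nat_card (n := m)]
  symm
  apply Nat.card_congr
  exact Equiv.ofBijective (fun d => (⟨D.e d, D.e_mem d⟩ : ↥P))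
    ⟨fun a b h => D.inj (congrArg Subtype.val h), fun g => by
      obtain ⟨d, hd⟩ := D.exists_of_mem g.2
      exact ⟨d, Subtype.ext hd⟩⟩

theorem relIndex_sub (f : DihedralGroup m →* Multiplicative (ZMod 2))
    (hf : Function.Surjective f) : (D.sub f).relIndex P = 2 := by
  haveI := D.neZero
  have h1 : f.ker.index = 2 := by
    rw [Subgroup.index_ker, MonoidHom.range_eq_top.2 hf, Subgroup.card_top]
    rw [Nat.card_eq_fintype_card]
    rfl
  have h2 : Nat.card f.ker * 2 = 2 * m := by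
    have := f.ker.card_mul_index
    rw [h1, DihedralGroup.nat_card] at this
    exact this
  have h3 : Nat.card (D.sub f) = Nat.card f.ker := by
    unfold sub
    exact Subgroup.card_map_of_injective D.inj
  have h4 := Cfsg.Agent.Lib.Helper2.card_mul_relIndex (D.sub_le f)
  rw [h3, D.card_P] at h4
  have hpos : 0 < Nat.card f.ker := Nat.card_pos
  have : Nat.card f.ker * (D.sub f).relIndex P = Nat.card f.ker * 2 := by rw [h4, h2]
  exact Nat.eq_of_mul_eq_mul_left hpos this

theorem chi0_surj : Function.Surjective (chi0 : DihedralGroup m →* Multiplicative (ZMod 2)) := by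
  intro a
  rcases mult_zmod2_cases a with rfl | rfl
  · exact ⟨r 0, rfl⟩
  · exact ⟨sr 0, rfl⟩

include D in
theorem chi1_surj : Function.Surjective (chi1 D.hm) := by
  intro a
  rcases mult_zmod2_cases a with rfl | rfl
  · exact ⟨r 0, by rw [chi1_r, map_zero]; rfl⟩
  · exact ⟨r 1, by rw [chi1_r, map_one]⟩

include D in
theorem chi2_surj : Function.Surjective
    ((chi0 : DihedralGroup m →* Multiplicative (ZMod 2)) * chi1 D.hm) := by
  intro a
  rcases mult_zmod2_cases a with rfl | rfl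
  · exact ⟨r 0, by rw [MonoidHom.mul_apply, chi0_r, chi1_r, map_zero]; rfl⟩
  · exact ⟨r 1, by rw [MonoidHom.mul_apply, chi0_r, chi1_r, map_one, one_mul]⟩

include D in
theorem par_k : par D.hm (k : ZMod m) = 0 := by
  unfold par
  rw [map_natCast]
  obtain ⟨j, hj⟩ := D.hk2
  rw [hj]; push_cast
  have : (2 : ZMod 2) = 0 := by decide
  rw [this, zero_mul]

end DihData

section General

variable {G : Type*} [Group G] [Finite G]

open Cfsg.Agent.Lib.Helper1 Cfsg.Agent.Lib.Helper2

/-- With a normal `2`-complement, the Sylow `2`-subgroup controls fusion. -/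
theorem fusion_control (P : Sylow 2 G) (h : HasNormalPComplement 2 G) {u v g : G}
    (hu : u ∈ (P : Subgroup G)) (hv : v ∈ (P : Subgroup G)) (hg : g * u * g⁻¹ = v) :
    ∃ s ∈ (P : Subgroup G), s * u * s⁻¹ = v := by
  haveI : Fact (Nat.Prime 2) := ⟨Nat.prime_two⟩
  obtain ⟨N, hNn, hN⟩ := (hasNormalPComplement_iff P).1 h
  obtain ⟨⟨n, s⟩, hns⟩ := hN.2 g
  have hns : (n : G) * (s : G) = g := hns
  refine ⟨s, s.2, ?_⟩
  set w := (s : G) * u * (s : G)⁻¹ with hw
  have hwP : w ∈ (P : Subgroup G) :=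
    Subgroup.mul_mem _ (Subgroup.mul_mem _ s.2 hu) (Subgroup.inv_mem _ s.2)
  have h1 : (n : G) * w * (n : G)⁻¹ = v := by
    rw [← hg, ← hns, hw]; group
  have h2 : (n : G) * w * (n : G)⁻¹ * w⁻¹ ∈ N ⊓ (P : Subgroup G) := by
    refine Subgroup.mem_inf.mpr ⟨?_, ?_⟩
    · have : (n : G) * w * (n : G)⁻¹ * w⁻¹ = (n : G) * (w * (n : G)⁻¹ * w⁻¹) := by group
      rw [this]
      exact N.mul_mem n.2 (hNn.conj_mem _ (N.inv_mem n.2) w)
    · rw [h1]; exact Subgroup.mul_mem _ hv (Subgroup.inv_mem _ hwP)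
  rw [hN.disjoint.eq_bot, Subgroup.mem_bot] at h2
  rw [← h1]
  exact (mul_inv_eq_one.mp h2).symm

/-- A cyclic Sylow `2`-subgroup is central in its normalizer. -/
theorem normalizer_le_centralizer_of_cyclic {H : Type*} [Group H] [Finite H] (Q : Sylow 2 H)
    (hc : IsCyclic ↥(Q : Subgroup H)) :
    Subgroup.normalizer ((Q : Subgroup H) : Set H) ≤ Subgroup.centralizer ((Q : Subgroup H) : Set H) := by
  haveI : Fact (Nat.Prime 2) := ⟨Nat.prime_two⟩
  intro g hg
  obtain ⟨a, b, hb, hab⟩ := Nat.exists_eq_two_pow_mul_odd (orderOf_pos g).ne'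
  -- the 2-part
  have h2 : g ^ b ∈ Subgroup.centralizer ((Q : Subgroup H) : Set H) := by
    have h3 : (g ^ b) ^ 2 ^ a = 1 := by
      rw [← pow_mul, mul_comm, ← hab, pow_orderOf_eq_one]
    obtain ⟨j, -, hj⟩ := (Nat.dvd_prime_pow Nat.prime_two).1 (orderOf_dvd_of_pow_eq_one h3)
    have h4 : g ^ b ∈ (Q : Subgroup H) :=
      mem_sylow_of_mem_normalizer Q (Subgroup.pow_mem _ hg b) hj
    rw [Subgroup.mem_centralizer_iff]
    intro q hq
    haveI := hc
    have hcomm : ∀ u v : ↥(Q : Subgroup H), u * v = v * u := fun u v => by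
      haveI : IsCyclic ↥(Q : Subgroup H) := hc
      exact (IsCyclic.commGroup (α := ↥(Q : Subgroup H))).mul_comm u v
    exact congrArg Subtype.val (hcomm ⟨q, hq⟩ ⟨g ^ b, h4⟩)
  -- the odd part
  have h2' : g ^ 2 ^ a ∈ Subgroup.centralizer ((Q : Subgroup H) : Set H) := by
    set c := g ^ 2 ^ a with hcdef
    have hcN : c ∈ Subgroup.normalizer ((Q : Subgroup H) : Set H) := Subgroup.pow_mem _ hg _
    have hcodd : Odd (orderOf c) := by
      have h3 : c ^ b = 1 := by
        rw [hcdef, ← pow_mul, ← hab, pow_orderOf_eq_one]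
      exact Odd.of_dvd_nat hb (orderOf_dvd_of_pow_eq_one h3)
    set α : MulAut ↥(Q : Subgroup H) := conjEquivOfMemNormalizer (Q : Subgroup H) c hcN with hα
    have hα1 : α = 1 := by
      apply coprime_aut_trivial_of_fix_omega_two Q.2 α
      · have h1 : orderOf α ∣ orderOf c := by
          apply orderOf_dvd_of_pow_eq_one
          ext y
          rw [Cfsg.Agent.S3803.conjEquiv_pow_apply, pow_orderOf_eq_one]
          simp
        exact Nat.Coprime.coprime_dvd_left h1 (Nat.coprime_two_right.2 hcodd)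
      · intro y hy
        apply Subtype.ext
        have hy' : (y : H) ^ 4 = 1 := by
          have := congrArg Subtype.val hy
          simpa using this
        exact Cfsg.Agent.S3803.cyclic_case hc hcN hcodd y.2 hy'
    rw [Subgroup.mem_centralizer_iff]
    intro q hq
    have h5 : (α ⟨q, hq⟩ : H) = c * q * c⁻¹ := rfl
    rw [hα1] at h5
    have h6 : q = c * q * c⁻¹ := h5
    calc q * c = (c * q * c⁻¹) * c := by rw [← h6]
      _ = c * q := by group
  -- combine by Bezout
  have hcop : Nat.Coprime (2 ^ a) b := Nat.Coprime.pow_left a (Nat.coprime_two_left.2 hb)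
  have hbez := Int.gcd_eq_gcd_ab (2 ^ a : ℕ) b
  rw [show Int.gcd ((2 ^ a : ℕ) : ℤ) (b : ℤ) = Nat.gcd (2 ^ a) b from Int.gcd_natCast_natCast _ _,
    hcop] at hbez
  have hg' : g = (g ^ 2 ^ a) ^ (Int.gcdA (2 ^ a : ℕ) b) * (g ^ b) ^ (Int.gcdB (2 ^ a : ℕ) b) := by
    rw [← zpow_natCast g (2 ^ a), ← zpow_natCast g b, ← zpow_mul, ← zpow_mul, ← zpow_add]
    have : ((1 : ℕ) : ℤ) = ((2 ^ a : ℕ) : ℤ) * Int.gcdA (2 ^ a : ℕ) b + (b : ℤ) * Int.gcdB (2 ^ a : ℕ) b :=
      hbez
    rw [← this]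
    simp
  rw [hg']
  exact Subgroup.mul_mem _ (Subgroup.zpow_mem _ h2' _) (Subgroup.zpow_mem _ h2 _)

/-- If `L ⊴ G`, `P ∩ L` is cyclic and `P L = G` then `G` has a normal `2`-complement. -/
theorem hasNormalPComplement_of_cyclic_inf (P : Sylow 2 G) (L : Subgroup G) [hL : L.Normal]
    (hc : IsCyclic ↥((P : Subgroup G) ⊓ L)) (hsup : (P : Subgroup G) ⊔ L = ⊤) :
    HasNormalPComplement 2 G := by
  haveI : Fact (Nat.Prime 2) := ⟨Nat.prime_two⟩
  obtain ⟨Q, hQ⟩ := exists_sylow_eq_inf_normal P L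
  have hQc : IsCyclic ↥(Q : Subgroup ↥L) := by
    rw [hQ]
    haveI := hc
    exact isCyclic_of_surjective (Subgroup.subgroupOfEquivOfLe (inf_le_right : (P : Subgroup G) ⊓ L ≤ L)).symm.toMonoidHom
      (Subgroup.subgroupOfEquivOfLe (inf_le_right : (P : Subgroup G) ⊓ L ≤ L)).symm.surjective
  have hLc : HasNormalPComplement 2 ↥L :=
    hasNormalPComplement_of_normalizer_le_centralizer Q (normalizer_le_centralizer_of_cyclic Q hQc)
  obtain ⟨K₀, hK₀n, hK₀⟩ := (hasNormalPComplement_iff Q).1 hLc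
  haveI := hK₀n
  have hmem : ∀ x : ↥L, x ∈ K₀ ↔ Nat.Coprime (orderOf x) 2 :=
    mem_normal_complement_iff Q K₀ hK₀
  set K := K₀.map L.subtype with hK
  have hKn : K.Normal := by
    constructor
    rintro _ ⟨k, hk, rfl⟩ g
    have hmemL : g * (k : G) * g⁻¹ ∈ L := hL.conj_mem _ k.2 g
    refine ⟨⟨g * (k : G) * g⁻¹, hmemL⟩, ?_, rfl⟩
    have hk := (hmem k).1 hk
    show (⟨g * (k : G) * g⁻¹, hmemL⟩ : ↥L) ∈ K₀
    rw [hmem]
    have e1 : orderOf (⟨g * (k : G) * g⁻¹, hmemL⟩ : ↥L) = orderOf (g * (k : G) * g⁻¹) :=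
      Subgroup.orderOf_mk _ _
    have e2 : orderOf (g * (k : G) * g⁻¹) = orderOf (k : G) := by
      have := orderOf_injective (MulAut.conj g).toMonoidHom (MulAut.conj g).injective (k : G)
      simpa [MulAut.conj_apply] using this
    rw [e1, e2, Subgroup.orderOf_coe]
    exact hk
  refine (hasNormalPComplement_iff P).2 ⟨K, hKn, ?_⟩
  have hcardK : Nat.card K = Nat.card K₀ := Subgroup.card_map_of_injective L.subtype_injective
  have hcardQ : Nat.card (Q : Subgroup ↥L) = Nat.card ((P : Subgroup G) ⊓ L : Subgroup G) := by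
    rw [hQ]
    exact Nat.card_congr (Subgroup.subgroupOfEquivOfLe (inf_le_right : (P : Subgroup G) ⊓ L ≤ L)).toEquiv
  have h1 : Nat.card K₀ * Nat.card (Q : Subgroup ↥L) = Nat.card ↥L := hK₀.card_mul_card
  have h2 := card_sup_mul_card_inf (P : Subgroup G) L
  rw [hsup, Subgroup.card_top] at h2
  have hpos : 0 < Nat.card ((P : Subgroup G) ⊓ L : Subgroup G) := Nat.card_pos
  have h3 : Nat.card K * Nat.card (P : Subgroup G) = Nat.card G := by
    rw [hcardK]
    have : Nat.card G * Nat.card ((P : Subgroup G) ⊓ L : Subgroup G)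
        = (Nat.card K₀ * Nat.card (P : Subgroup G)) * Nat.card ((P : Subgroup G) ⊓ L : Subgroup G) := by
      rw [h2, ← h1, hcardQ]; ring
    exact (Nat.eq_of_mul_eq_mul_right hpos this).symm
  apply Subgroup.isComplement'_of_coprime h3
  -- coprimality
  have hodd : (Nat.card K₀).Coprime 2 := by
    have : Nat.card K₀ = (Q : Subgroup ↥L).index := by
      have h4 := (Q : Subgroup ↥L).card_mul_index
      rw [← h1] at h4
      have hposQ : 0 < Nat.card (Q : Subgroup ↥L) := Nat.card_pos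
      have : Nat.card (Q : Subgroup ↥L) * (Q : Subgroup ↥L).index
          = Nat.card (Q : Subgroup ↥L) * Nat.card K₀ := by rw [h4]; ring
      exact (Nat.eq_of_mul_eq_mul_left hposQ this).symm
    rw [this]
    exact (Nat.Prime.coprime_iff_not_dvd Nat.prime_two).2 Q.not_dvd_index |>.symm
  obtain ⟨n, hn⟩ := IsPGroup.iff_card.mp P.2
  rw [hcardK, hn]
  exact Nat.Coprime.pow_right n hodd

theorem orderOf_conj' (g u : G) : orderOf (g * u * g⁻¹) = orderOf u := by
  have := orderOf_injective (MulAut.conj g).toMonoidHom (MulAut.conj g).injective u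
  simpa [MulAut.conj_apply] using this

end General

section Main

open Cfsg.Agent.Lib.Helper1 Cfsg.Agent.Lib.Helper2

variable {G : Type*} [Group G] [Finite G] (P : Sylow 2 G) {m k : ℕ}
  (D : DihData (P : Subgroup G) m k)

/-- Every involution of `G` is conjugate to `z`, `y` or `y'`. -/
theorem invol_cases {g : G} (hg : orderOf g = 2) :
    IsConj g D.z ∨ IsConj g D.y ∨ IsConj g D.y' := by
  haveI : Fact (Nat.Prime 2) := ⟨Nat.prime_two⟩
  have hz : IsPGroup 2 ↥(Subgroup.zpowers g) :=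
    IsPGroup.of_card (n := 1) (by rw [Nat.card_zpowers, hg, pow_one])
  obtain ⟨h, hh⟩ := exists_conj_le_of_not_dvd_index hz P.not_dvd_index
  have hu := hh g (Subgroup.mem_zpowers g)
  have hu2 : orderOf (h⁻¹ * g * h) = 2 := by
    have := orderOf_conj' h⁻¹ g
    rw [inv_inv] at this
    rw [this, hg]
  rcases D.involution_cases hu hu2 with h1 | ⟨s, hs, h1⟩ | ⟨s, hs, h1⟩
  · left; rw [isConj_iff]; exact ⟨h⁻¹, by rw [inv_inv]; exact h1⟩
  · right; left; rw [isConj_iff]; exact ⟨s * h⁻¹, by rw [← h1]; group⟩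
  · right; right; rw [isConj_iff]; exact ⟨s * h⁻¹, by rw [← h1]; group⟩

/-- The set of involution classes. -/
theorem invol_classes_eq :
    {C : ConjClasses G | ∃ g : G, ConjClasses.mk g = C ∧ orderOf g = 2}
      = {ConjClasses.mk D.z, ConjClasses.mk D.y, ConjClasses.mk D.y'} := by
  ext C
  simp only [Set.mem_ofPred_eq, Set.mem_insert_iff, Set.mem_singleton_iff]
  constructor
  · rintro ⟨g, rfl, hg⟩
    rcases invol_cases P D hg with h | h | h
    · left; exact ConjClasses.mk_eq_mk_iff_isConj.2 h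
    · right; left; exact ConjClasses.mk_eq_mk_iff_isConj.2 h
    · right; right; exact ConjClasses.mk_eq_mk_iff_isConj.2 h
  · rintro (rfl | rfl | rfl)
    · exact ⟨D.z, rfl, D.orderOf_z⟩
    · exact ⟨D.y, rfl, D.orderOf_y⟩
    · exact ⟨D.y', rfl, D.orderOf_y'⟩

theorem card_invol_classes :
    Nat.card {C : ConjClasses G // ∃ g : G, ConjClasses.mk g = C ∧ orderOf g = 2}
      = ({ConjClasses.mk D.z, ConjClasses.mk D.y, ConjClasses.mk D.y'} :
          Set (ConjClasses G)).ncard := by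
  rw [← invol_classes_eq P D]
  exact Nat.card_coe_set_eq _

/-- `D.sub f` is normalized by `P`. -/
theorem sub_conj_mem (f : DihedralGroup m →* Multiplicative (ZMod 2)) {s v : G}
    (hs : s ∈ (P : Subgroup G)) (hv : v ∈ D.sub f) : s * v * s⁻¹ ∈ D.sub f := by
  obtain ⟨ds, rfl⟩ := D.exists_of_mem hs
  obtain ⟨dv, hdv, rfl⟩ := hv
  rw [← map_inv, ← map_mul, ← map_mul, D.e_mem_sub]
  have hdv' : f dv = 1 := hdv
  rw [map_mul, map_mul, hdv', mul_one, map_inv, mul_inv_cancel]

/-- Thompson transfer applied to the index-two subgroup `D.sub f`. -/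
theorem thompson_apply (f : DihedralGroup m →* Multiplicative (ZMod 2))
    (hf : Function.Surjective f) {u : G} (hu : orderOf u = 2)
    (hz : D.z ∈ D.sub f → ¬ IsConj u D.z) (hy : D.y ∈ D.sub f → ¬ IsConj u D.y)
    (hy' : D.y' ∈ D.sub f → ¬ IsConj u D.y') :
    ∃ M : Subgroup G, M.Normal ∧ M.index = 2 ∧ u ∉ M := by
  apply thompson_transfer P (D.sub f) (D.sub_le f) (D.relIndex_sub f hf) u hu
  intro g hv
  have hvP := D.sub_le f hv
  have hv2 : orderOf (g * u * g⁻¹) = 2 := by rw [orderOf_conj', hu]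
  rcases D.involution_cases hvP hv2 with h1 | ⟨s, hs, h1⟩ | ⟨s, hs, h1⟩
  · rw [h1] at hv
    exact hz hv (isConj_iff.2 ⟨g, h1⟩)
  · have h2 := sub_conj_mem P D f hs hv
    rw [h1] at h2
    exact hy h2 (isConj_iff.2 ⟨s * g, by rw [← h1]; group⟩)
  · have h2 := sub_conj_mem P D f hs hv
    rw [h1] at h2
    exact hy' h2 (isConj_iff.2 ⟨s * g, by rw [← h1]; group⟩)

theorem y_not_mem_sub_chi0 : D.y ∉ D.sub chi0 := by
  unfold DihData.y
  rw [D.e_mem_sub, chi0_sr]
  exact ofAdd_one_ne_one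

theorem y'_not_mem_sub_chi0 : D.y' ∉ D.sub chi0 := by
  unfold DihData.y'
  rw [D.e_mem_sub, chi0_sr]
  exact ofAdd_one_ne_one

theorem y'_not_mem_sub_chi1 : D.y' ∉ D.sub (chi1 D.hm) := by
  unfold DihData.y'
  rw [D.e_mem_sub, chi1_sr, map_one]
  exact ofAdd_one_ne_one

theorem y_not_mem_sub_chi2 : D.y ∉ D.sub (chi0 * chi1 D.hm) := by
  unfold DihData.y
  rw [D.e_mem_sub, MonoidHom.mul_apply, chi0_sr, chi1_sr, map_zero]
  decide

/-- If `P ≤ N` then `N` has odd index. -/
theorem not_le_of_index_even {N : Subgroup G} (hN : 2 ∣ N.index) : ¬ (P : Subgroup G) ≤ N := by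
  haveI : Fact (Nat.Prime 2) := ⟨Nat.prime_two⟩
  intro hle
  exact P.not_dvd_index (dvd_trans hN (Subgroup.index_dvd_of_le hle))

/-- `P` is generated by `x` and `y`. -/
theorem le_of_x_y_mem {N : Subgroup G} (hx : D.x ∈ N) (hy : D.y ∈ N) : (P : Subgroup G) ≤ N := by
  intro g hg
  obtain ⟨i, rfl | rfl⟩ := D.mem_cases hg
  · exact N.pow_mem hx i
  · exact N.mul_mem hy (N.pow_mem hx i)

theorem z_eq_sq : D.z = (D.x ^ 2) ^ (k / 2) := by
  rw [D.z_eq, ← pow_mul]
  congr 1
  obtain ⟨j, hj⟩ := D.hk2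
  omega

/-- one class: no normal subgroup of index two -/
theorem no_index_two (hzy : IsConj D.z D.y) (hzy' : IsConj D.z D.y') (N : Subgroup G)
    (hN : N.Normal) : N.index ≠ 2 := by
  intro h2
  have hzN : D.z ∈ N := by
    rw [z_eq_sq P D]
    exact N.pow_mem (Subgroup.sq_mem_of_index_two h2 _) _
  obtain ⟨g, hg⟩ := isConj_iff.1 hzy
  obtain ⟨g', hg'⟩ := isConj_iff.1 hzy'
  have hyN : D.y ∈ N := hg ▸ hN.conj_mem _ hzN g
  have hy'N : D.y' ∈ N := hg' ▸ hN.conj_mem _ hzN g'
  have hxN : D.x ∈ N := by rw [D.x_eq]; exact N.mul_mem hyN hy'N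
  exact not_le_of_index_even P (by rw [h2]) (le_of_x_y_mem P D hxN hyN)

theorem par_eq_val (hm : 2 ∣ m) [NeZero m] (i : ZMod m) : par hm i = ((i.val : ℕ) : ZMod 2) := by
  unfold par
  rw [← ZMod.natCast_zmod_val i, map_natCast, ZMod.natCast_zmod_val]

theorem even_of_par_eq_zero (hm : 2 ∣ m) [NeZero m] {i : ZMod m} (h : par hm i = 0) :
    ∃ j, i.val = 2 * j := by
  rw [par_eq_val, ZMod.natCast_eq_zero_iff] at h
  exact h

theorem odd_of_par_ne_zero (hm : 2 ∣ m) [NeZero m] {i : ZMod m} (h : par hm i ≠ 0) :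
    ∃ j, i.val = 2 * j + 1 := by
  rw [par_eq_val, Ne, ZMod.natCast_eq_zero_iff] at h
  exact ⟨i.val / 2, by omega⟩

theorem sub_chi1_le {K : Subgroup G} (hx : D.x ^ 2 ∈ K) (hy : D.y ∈ K) :
    D.sub (chi1 D.hm) ≤ K := by
  haveI := D.neZero
  rintro _ ⟨d, hd, rfl⟩
  have hd' : chi1 D.hm d = 1 := hd
  rcases d with i | i
  · rw [chi1_r] at hd'
    have h0 : par D.hm i = 0 := hd'
    obtain ⟨j, hj⟩ := even_of_par_eq_zero D.hm h0
    have : D.e (r i) = (D.x ^ 2) ^ j := by
      rw [← ZMod.natCast_zmod_val i, D.e_r, hj, pow_mul]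
    rw [this]
    exact K.pow_mem hx j
  · rw [chi1_sr] at hd'
    have h0 : par D.hm i = 0 := hd'
    obtain ⟨j, hj⟩ := even_of_par_eq_zero D.hm h0
    have : D.e (sr i) = D.y * (D.x ^ 2) ^ j := by
      rw [← ZMod.natCast_zmod_val i, D.e_sr, hj, pow_mul]
    rw [this]
    exact K.mul_mem hy (K.pow_mem hx j)

theorem sub_chi2_le {K : Subgroup G} (hx : D.x ^ 2 ∈ K) (hy' : D.y' ∈ K) :
    D.sub (chi0 * chi1 D.hm) ≤ K := by
  haveI := D.neZero
  rintro _ ⟨d, hd, rfl⟩
  have hd' : ((chi0 : DihedralGroup m →* Multiplicative (ZMod 2)) * chi1 D.hm) d = 1 := hd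
  rw [MonoidHom.mul_apply] at hd'
  rcases d with i | i
  · rw [chi0_r, chi1_r, one_mul] at hd'
    have h0 : par D.hm i = 0 := hd'
    obtain ⟨j, hj⟩ := even_of_par_eq_zero D.hm h0
    have : D.e (r i) = (D.x ^ 2) ^ j := by
      rw [← ZMod.natCast_zmod_val i, D.e_r, hj, pow_mul]
    rw [this]
    exact K.pow_mem hx j
  · rw [chi0_sr, chi1_sr] at hd'
    have h0 : par D.hm i ≠ 0 := by
      intro h0
      rw [h0] at hd'
      revert hd'; decide
    obtain ⟨j, hj⟩ := odd_of_par_ne_zero D.hm h0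
    have : D.e (sr i) = D.y' * (D.x ^ 2) ^ j := by
      rw [← ZMod.natCast_zmod_val i, D.e_sr, hj, D.y'_eq, ← pow_mul, pow_succ']
      group
    rw [this]
    exact K.mul_mem hy' (K.pow_mem hx j)

/-- A normal subgroup of index four contains `x²`. -/
theorem x_sq_mem_of_index_four {K : Subgroup G} (hK : K.Normal) (h4 : K.index = 4) :
    D.x ^ 2 ∈ K := by
  haveI := hK
  haveI : Fact (Nat.Prime 2) := ⟨Nat.prime_two⟩
  have hcard : Nat.card (G ⧸ K) = 2 ^ 2 := by rw [← Subgroup.index_eq_card, h4]; norm_num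
  have hcomm := (IsPGroup.isMulCommutative_of_card_eq_prime_sq hcard).is_comm.comm
  rw [D.x_sq_eq, ← QuotientGroup.eq_one_iff]
  simp only [QuotientGroup.mk_mul, QuotientGroup.mk_inv]
  rw [hcomm (D.x : G ⧸ K) (D.y : G ⧸ K)]
  group

/-- No normal subgroup of index four contains an index-two subgroup of `P`. -/
theorem false_of_sub_le (f : DihedralGroup m →* Multiplicative (ZMod 2))
    (hf : Function.Surjective f) {K : Subgroup G} (hK : K.Normal) (h4 : K.index = 4)
    (hle : D.sub f ≤ K) : False := by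
  haveI := hK
  haveI : Fact (Nat.Prime 2) := ⟨Nat.prime_two⟩
  have h1 : K.relIndex (P : Subgroup G) ∣ 2 := by
    have h0 := Subgroup.relIndex_dvd_of_le_left (P : Subgroup G) hle
    rwa [D.relIndex_sub f hf] at h0
  have h2 : K.relIndex (K ⊔ (P : Subgroup G)) = K.relIndex (P : Subgroup G) :=
    Subgroup.relIndex_sup_left (P : Subgroup G) K
  have h3 := Subgroup.relIndex_mul_index (le_sup_left : K ≤ K ⊔ (P : Subgroup G))
  rw [h2, h4] at h3
  have h5 : (K ⊔ (P : Subgroup G)).index ∣ (P : Subgroup G).index :=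
    Subgroup.index_dvd_of_le le_sup_right
  have h6 : ¬ 2 ∣ (K ⊔ (P : Subgroup G)).index := fun h => P.not_dvd_index (dvd_trans h h5)
  rcases (Nat.dvd_prime Nat.prime_two).1 h1 with h7 | h7
  · rw [h7, one_mul] at h3
    rw [h3] at h6; exact h6 (by norm_num)
  · rw [h7] at h3
    have : (K ⊔ (P : Subgroup G)).index = 2 := by omega
    rw [this] at h6; exact h6 (dvd_refl 2)

/-- If `y, y' ∉ M` for a normal subgroup of index two, `G` has a normal 2-complement. -/
theorem npc_of_both_not_mem {M : Subgroup G} (hM : M.Normal) (h2 : M.index = 2)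
    (hy : D.y ∉ M) (hy' : D.y' ∉ M) : HasNormalPComplement 2 G := by
  haveI := hM
  have hxM : D.x ∈ M := by
    rw [D.x_eq, Subgroup.mul_mem_iff_of_index_two h2]
    exact ⟨fun h => absurd h hy, fun h => absurd h hy'⟩
  have hinf : (P : Subgroup G) ⊓ M = Subgroup.zpowers D.x := by
    apply le_antisymm
    · rintro g ⟨hgP, hgM⟩
      obtain ⟨i, rfl | rfl⟩ := D.mem_cases hgP
      · exact Subgroup.pow_mem _ (Subgroup.mem_zpowers _) i
      · exfalso
        apply hy
        have : D.y = (D.y * D.x ^ i) * (D.x ^ i)⁻¹ := by group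
        rw [this]
        exact M.mul_mem hgM (M.inv_mem (M.pow_mem hxM i))
    · rw [Subgroup.zpowers_le]
      exact ⟨D.x_mem, hxM⟩
  apply hasNormalPComplement_of_cyclic_inf P M
  · rw [hinf]; infer_instance
  · rw [sup_comm]
    exact sup_eq_top_of_index_prime Nat.prime_two h2 (fun hle => hy (hle D.y_mem))

/-- powers of an element outside an index-two subgroup -/
theorem pow_mem_iff_even {M : Subgroup G} (h2 : M.index = 2) {a : G} (ha : a ∉ M) (i : ℕ) :
    a ^ i ∈ M ↔ Even i := by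
  have hsq : a ^ 2 ∈ M := Subgroup.sq_mem_of_index_two h2 _
  constructor
  · intro h
    by_contra hodd
    rw [Nat.not_even_iff_odd] at hodd
    obtain ⟨j, rfl⟩ := hodd
    apply ha
    have : a = a ^ (2 * j + 1) * ((a ^ 2) ^ j)⁻¹ := by
      rw [← pow_mul, pow_succ]; group
    rw [this]; exact M.mul_mem h (M.inv_mem (M.pow_mem hsq j))
  · rintro ⟨j, rfl⟩
    rw [← two_mul, pow_mul]; exact M.pow_mem hsq j

/-- the case `y' ∈ M₁`, `y ∈ M₂` -/
theorem npc_of_cross {M₁ M₂ : Subgroup G} (hM₁ : M₁.Normal) (hM₂ : M₂.Normal)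
    (h1 : M₁.index = 2) (h2 : M₂.index = 2)
    (hy1 : D.y ∉ M₁) (hy'1 : D.y' ∈ M₁) (hy2 : D.y ∈ M₂) (hy'2 : D.y' ∉ M₂) :
    HasNormalPComplement 2 G := by
  haveI := hM₁; haveI := hM₂
  have hx1 : D.x ∉ M₁ := by
    rw [D.x_eq, Subgroup.mul_mem_iff_of_index_two h1]
    intro h; exact hy1 (h.2 hy'1)
  have hx2 : D.x ∉ M₂ := by
    rw [D.x_eq, Subgroup.mul_mem_iff_of_index_two h2]
    intro h; exact hy'2 (h.1 hy2)
  have hsq1 : D.x ^ 2 ∈ M₁ := Subgroup.sq_mem_of_index_two h1 _
  have hsq2 : D.x ^ 2 ∈ M₂ := Subgroup.sq_mem_of_index_two h2 _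
  have hinf : (P : Subgroup G) ⊓ (M₁ ⊓ M₂) = Subgroup.zpowers (D.x ^ 2) := by
    apply le_antisymm
    · rintro g ⟨hgP, hg1, hg2⟩
      obtain ⟨i, rfl | rfl⟩ := D.mem_cases hgP
      · obtain ⟨j, rfl⟩ := (pow_mem_iff_even h1 hx1 i).1 hg1
        rw [← two_mul, pow_mul]; exact Subgroup.pow_mem _ (Subgroup.mem_zpowers _) j
      · exfalso
        have ha : D.x ^ i ∉ M₁ := by
          have := (Subgroup.mul_mem_iff_of_index_two h1 (a := D.y) (b := D.x ^ i)).1 hg1
          intro h; exact hy1 (this.2 h)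
        have hb : D.x ^ i ∈ M₂ := by
          have := (Subgroup.mul_mem_iff_of_index_two h2 (a := D.y) (b := D.x ^ i)).1 hg2
          exact this.1 hy2
        exact ha ((pow_mem_iff_even h1 hx1 i).2 ((pow_mem_iff_even h2 hx2 i).1 hb))
    · rw [Subgroup.zpowers_le]
      exact ⟨Subgroup.pow_mem _ D.x_mem 2, hsq1, hsq2⟩
  apply hasNormalPComplement_of_cyclic_inf P (M₁ ⊓ M₂)
  · rw [hinf]; infer_instance
  · rw [eq_top_iff]
    intro g _
    have key : ∀ t ∈ (P : Subgroup G), t⁻¹ * g ∈ M₁ ⊓ M₂ →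
        g ∈ (P : Subgroup G) ⊔ (M₁ ⊓ M₂) := by
      intro t ht h
      have : g = t * (t⁻¹ * g) := by group
      rw [this]
      exact Subgroup.mul_mem_sup ht h
    by_cases hg1 : g ∈ M₁ <;> by_cases hg2 : g ∈ M₂
    · exact Subgroup.mem_sup_right ⟨hg1, hg2⟩
    · apply key D.y' D.y'_mem
      refine Subgroup.mem_inf.2 ⟨M₁.mul_mem (M₁.inv_mem hy'1) hg1, ?_⟩
      rw [Subgroup.mul_mem_iff_of_index_two h2, inv_mem_iff]
      exact ⟨fun h => absurd h hy'2, fun h => absurd h hg2⟩
    · apply key D.y D.y_mem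
      refine Subgroup.mem_inf.2 ⟨?_, M₂.mul_mem (M₂.inv_mem hy2) hg2⟩
      rw [Subgroup.mul_mem_iff_of_index_two h1, inv_mem_iff]
      exact ⟨fun h => absurd h hy1, fun h => absurd h hg1⟩
    · apply key D.x D.x_mem
      refine Subgroup.mem_inf.2 ⟨?_, ?_⟩
      · rw [Subgroup.mul_mem_iff_of_index_two h1, inv_mem_iff]
        exact ⟨fun h => absurd h hx1, fun h => absurd h hg1⟩
      · rw [Subgroup.mul_mem_iff_of_index_two h2, inv_mem_iff]
        exact ⟨fun h => absurd h hx2, fun h => absurd h hg2⟩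

include P D in
/-- The trichotomy for a group with dihedral Sylow 2-subgroup given by `D`. -/
theorem trichotomy :
    (Nat.card {C : ConjClasses G // ∃ g : G, ConjClasses.mk g = C ∧ orderOf g = 2} = 1 ∧
        ∀ N : Subgroup G, N.Normal → N.index ≠ 2) ∨
    (Nat.card {C : ConjClasses G // ∃ g : G, ConjClasses.mk g = C ∧ orderOf g = 2} = 2 ∧
        (∃ N : Subgroup G, N.Normal ∧ N.index = 2) ∧ ∀ N : Subgroup G, N.Normal → N.index ≠ 4) ∨
    (Nat.card {C : ConjClasses G // ∃ g : G, ConjClasses.mk g = C ∧ orderOf g = 2} = 3 ∧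
        Cfsg.HasNormalPComplement 2 G) := by
  rw [card_invol_classes P D]
  by_cases ha : IsConj D.z D.y <;> by_cases hb : IsConj D.z D.y'
  · -- one class
    left
    refine ⟨?_, no_index_two P D ha hb⟩
    rw [← ConjClasses.mk_eq_mk_iff_isConj.2 ha, ← ConjClasses.mk_eq_mk_iff_isConj.2 hb]
    simp
  · -- two classes: z ~ y
    right; left
    refine ⟨?_, ?_, ?_⟩
    · rw [← ConjClasses.mk_eq_mk_iff_isConj.2 ha]
      rw [Set.insert_eq_of_mem (Set.mem_insert _ _)]
      apply Set.ncard_pair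
      intro h; exact hb (ConjClasses.mk_eq_mk_iff_isConj.1 h)
    · obtain ⟨M, hM, hM2, -⟩ := thompson_apply P D (chi1 D.hm) D.chi1_surj D.orderOf_y'
        (fun _ h => hb h.symm) (fun _ h => hb (ha.trans h.symm))
        (fun h => absurd h (y'_not_mem_sub_chi1 P D))
      exact ⟨M, hM, hM2⟩
    · intro K hK h4
      have hx := x_sq_mem_of_index_four P D hK h4
      have hzK : D.z ∈ K := by rw [z_eq_sq P D]; exact K.pow_mem hx _
      obtain ⟨g, hg⟩ := isConj_iff.1 ha
      have hyK : D.y ∈ K := hg ▸ hK.conj_mem _ hzK g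
      exact false_of_sub_le P D _ D.chi1_surj hK h4 (sub_chi1_le P D hx hyK)
  · -- two classes: z ~ y'
    right; left
    refine ⟨?_, ?_, ?_⟩
    · rw [← ConjClasses.mk_eq_mk_iff_isConj.2 hb]
      rw [Set.pair_comm (ConjClasses.mk D.y) (ConjClasses.mk D.z),
        Set.insert_eq_of_mem (Set.mem_insert _ _)]
      apply Set.ncard_pair
      intro h; exact ha (ConjClasses.mk_eq_mk_iff_isConj.1 h)
    · obtain ⟨M, hM, hM2, -⟩ := thompson_apply P D (chi0 * chi1 D.hm) D.chi2_surj D.orderOf_y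
        (fun _ h => ha h.symm) (fun h => absurd h (y_not_mem_sub_chi2 P D))
        (fun _ h => ha (hb.trans h.symm))
      exact ⟨M, hM, hM2⟩
    · intro K hK h4
      have hx := x_sq_mem_of_index_four P D hK h4
      have hzK : D.z ∈ K := by rw [z_eq_sq P D]; exact K.pow_mem hx _
      obtain ⟨g, hg⟩ := isConj_iff.1 hb
      have hyK : D.y' ∈ K := hg ▸ hK.conj_mem _ hzK g
      exact false_of_sub_le P D _ D.chi2_surj hK h4 (sub_chi2_le P D hx hyK)
  · -- z isolated
    obtain ⟨M₁, hM₁, h1, hy1⟩ := thompson_apply P D chi0 DihData.chi0_surj D.orderOf_y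
      (fun _ h => ha h.symm) (fun h => absurd h (y_not_mem_sub_chi0 P D))
      (fun h => absurd h (y'_not_mem_sub_chi0 P D))
    obtain ⟨M₂, hM₂, h2, hy'2⟩ := thompson_apply P D chi0 DihData.chi0_surj D.orderOf_y'
      (fun _ h => hb h.symm) (fun h => absurd h (y_not_mem_sub_chi0 P D))
      (fun h => absurd h (y'_not_mem_sub_chi0 P D))
    have hnpc : HasNormalPComplement 2 G := by
      by_cases hy'1 : D.y' ∈ M₁
      · by_cases hy2 : D.y ∈ M₂
        · exact npc_of_cross P D hM₁ hM₂ h1 h2 hy1 hy'1 hy2 hy'2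
        · exact npc_of_both_not_mem P D hM₂ h2 hy2 hy'2
      · exact npc_of_both_not_mem P D hM₁ h1 hy1 hy'1
    have hc : ¬ IsConj D.y D.y' := by
      intro hc
      obtain ⟨g, hg⟩ := isConj_iff.1 hc
      obtain ⟨s, hs, hs'⟩ := fusion_control P hnpc D.y_mem D.y'_mem hg
      exact D.not_conj_y_y' hs hs'
    right; right
    refine ⟨?_, hnpc⟩
    rw [Set.ncard_eq_three]
    refine ⟨_, _, _, ?_, ?_, ?_, rfl⟩
    · intro h; exact ha (ConjClasses.mk_eq_mk_iff_isConj.1 h)
    · intro h; exact hb (ConjClasses.mk_eq_mk_iff_isConj.1 h)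
    · intro h; exact hc (ConjClasses.mk_eq_mk_iff_isConj.1 h)

end Main

/-- S3864 -/
theorem result {G : Type*} [Group G] [Finite G] (P : Sylow 2 G) (n : ℕ) (hn : 3 ≤ n) (hdih : Nonempty (↥(P : Subgroup G) ≃* DihedralGroup (2 ^ (n - 1)))) : (Nat.card {C : ConjClasses G // ∃ g : G, ConjClasses.mk g = C ∧ orderOf g = 2} = 1 ∧ ∀ N : Subgroup G, N.Normal → N.index ≠ 2) ∨ (Nat.card {C : ConjClasses G // ∃ g : G, ConjClasses.mk g = C ∧ orderOf g = 2} = 2 ∧ (∃ N : Subgroup G, N.Normal ∧ N.index = 2) ∧ ∀ N : Subgroup G, N.Normal → N.index ≠ 4) ∨ (Nat.card {C : ConjClasses G // ∃ g : G, ConjClasses.mk g = C ∧ orderOf g = 2} = 3 ∧ Cfsg.HasNormalPComplement 2 G) := by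
  obtain ⟨φ⟩ := hdih
  have D : DihData (P : Subgroup G) (2 ^ (n - 1)) (2 ^ (n - 2)) :=
    { e := (P : Subgroup G).subtype.comp φ.symm.toMonoidHom
      inj := fun a b h => φ.symm.injective (Subtype.ext h)
      mem_iff := fun g => ⟨fun hg => ⟨φ ⟨g, hg⟩, by simp⟩, by rintro ⟨d, rfl⟩; exact (φ.symm d).2⟩
      hmk := by
        have : n - 1 = (n - 2) + 1 := by omega
        rw [this, pow_succ']
      hk2 := by
        have : n - 2 = (n - 3) + 1 := by omega
        rw [this, pow_succ']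
        exact Dvd.intro _ rfl
      hk0 := by positivity }
  exact trichotomy P D

end Cfsg.Agent.S3864
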