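import Mathlib
import Cfsg.Statements.S0987
import Cfsg.Agent.Lib.Lead.SylowCount

namespace Cfsg.Agent.S0987

open Cfsg.Agent.Lib.Lead.SylowCount

theorem result {G : Type*} [Group G] [Finite G] (p q r : ℕ) (hp : p.Prime) (hq : q.Prime) [Fact r.Prime] (hpq : p < q) (hqr : q < r) (hG : Nat.card G = p * q * r) (R : Sylow r G) : (R : Subgroup G).Normal := by
  have hr : r.Prime := Fact.out
  haveI : Fact q.Prime := ⟨hq⟩
  have hpr : p < r := lt_trans hpq hqr
  -- |R| = r
  have hRcard : Nat.card R = r := by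
    apply card_sylow_of_card_eq r (p * q) (by rw [hG]; ring)
    intro h
    rcases (Nat.Prime.dvd_mul hr).mp h with h | h
    · exact absurd (Nat.le_of_dvd hp.pos h) (not_le.mpr hpr)
    · exact absurd (Nat.le_of_dvd hq.pos h) (not_le.mpr hqr)
  have hmod : Nat.card (Sylow r G) ≡ 1 [MOD r] := card_sylow_modEq_one r G
  have hnN := card_sylow_mul_card_normalizer r R
  have hdvd : Nat.card (Sylow r G) ∣ p * q := by
    exact card_sylow_dvd_of_card R hRcard (by rw [hG]; ring) hr.pos
  by_contra hnot
  have hne1 : Nat.card (Sylow r G) ≠ 1 := fun h => hnot (normal_of_card_sylow_eq_one r h R)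
  obtain ⟨a, b, ha, hb, hab⟩ := (Nat.dvd_mul).mp hdvd
  have hcase : Nat.card (Sylow r G) = p * q := by
    rcases (Nat.dvd_prime hp).mp ha with ha | ha <;> rcases (Nat.dvd_prime hq).mp hb with hb | hb
    · subst ha hb; exact absurd hab.symm (by simpa using hne1)
    · subst ha hb
      rw [one_mul] at hab
      exact absurd (eq_one_of_dvd_prime_of_modEq hq hqr (dvd_refl _) (hab ▸ hmod)) hq.one_lt.ne'
    · subst ha hb
      rw [mul_one] at hab
      exact absurd (eq_one_of_dvd_prime_of_modEq hp hpr (dvd_refl _) (hab ▸ hmod)) hp.one_lt.ne'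
    · subst ha hb; exact hab.symm
  -- |N(R)| = r
  have hNcard : Nat.card (Subgroup.normalizer (R : Set G)) = r := by
    rw [hcase, hG] at hnN
    exact Nat.eq_of_mul_eq_mul_left (Nat.mul_pos hp.pos hq.pos) hnN
  have hNeq : Subgroup.normalizer (R : Set G) = R := by
    symm
    apply Subgroup.eq_of_le_of_card_ge Subgroup.le_normalizer
    exact le_of_eq (hNcard.trans hRcard.symm)
  obtain ⟨K, hKn, hKcard, hKR⟩ := exists_normal_complement_of_normalizer_eq R hRcard hNeq
  have hKcard' : Nat.card K = p * q := by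
    rw [hG] at hKcard
    exact Nat.eq_of_mul_eq_mul_right hr.pos hKcard
  -- Sylow q of K
  haveI : Finite K := inferInstance
  obtain ⟨Q₀⟩ : Nonempty (Sylow q K) := inferInstance
  have hQ₀card : Nat.card Q₀ = q := by
    apply card_sylow_of_card_eq q p (by rw [hKcard', mul_comm])
    intro h
    exact absurd (Nat.le_of_dvd hp.pos h) (not_le.mpr hpq)
  have hQ₀n : (Q₀ : Subgroup K).Normal := by
    apply normal_of_card_sylow_eq_one
    apply eq_one_of_dvd_prime_of_modEq hp hpq _ (card_sylow_modEq_one q K)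
    exact card_sylow_dvd_of_card Q₀ hQ₀card (by rw [hKcard', mul_comm]) hq.pos
  haveI : (Q₀ : Subgroup K).Characteristic := Sylow.characteristic_of_normal Q₀ hQ₀n
  haveI hQn : ((Q₀ : Subgroup K).map K.subtype).Normal := ConjAct.normal_of_characteristic_of_normal
  set Q : Subgroup G := (Q₀ : Subgroup K).map K.subtype with hQdef
  have hQcard : Nat.card Q = q := by
    rw [hQdef, Subgroup.card_map_of_injective K.subtype_injective, hQ₀card]
  -- Q ⊓ R = ⊥
  have hQK : Q ≤ K := Subgroup.map_subtype_le _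
  have hdisj : (R : Subgroup G) ⊓ Q = ⊥ := by
    rw [eq_bot_iff, ← hKR]
    exact le_inf (inf_le_right.trans hQK) inf_le_left
  have hMcard := card_sup_of_normal_disjoint (R : Subgroup G) Q hdisj
  rw [hRcard, hQcard] at hMcard
  set M : Subgroup G := (R : Subgroup G) ⊔ Q with hMdef
  have hRM : (R : Subgroup G) ≤ M := le_sup_left
  -- R is normal in M
  have hRMn : ((R.subtype hRM : Sylow r M) : Subgroup M).Normal := by
    apply normal_of_card_sylow_eq_one
    apply eq_one_of_dvd_prime_of_modEq hq hqr _ (card_sylow_modEq_one r M)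
    have hc : Nat.card ((R.subtype hRM : Sylow r M) : Subgroup M) = r := by
      rw [Sylow.coe_subtype]
      exact (Nat.card_congr (Subgroup.subgroupOfEquivOfLe hRM).toEquiv).trans hRcard
    exact card_sylow_dvd_of_card (R.subtype hRM) hc hMcard hr.pos
  rw [Sylow.coe_subtype, Subgroup.normal_subgroupOf_iff_le_normalizer hRM] at hRMn
  have hQR : Q ≤ (R : Subgroup G) := by
    rw [← hNeq]; exact le_trans le_sup_right hRMn
  have : Q ≤ (R : Subgroup G) ⊓ Q := le_inf hQR le_rfl
  rw [hdisj] at this
  have hQbot : Q = ⊥ := eq_bot_iff.mpr this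
  rw [hQbot] at hQcard
  simp at hQcard
  exact hq.one_lt.ne hQcard
end Cfsg.Agent.S0987
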