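import Cfsg.Statements.S3377
import Mathlib

set_option autoImplicit false
set_option linter.style.haveILetI false
set_option linter.unusedSimpArgs false
set_option linter.style.longLine false
open Cfsg

namespace Cfsg.Agent.S3377

/-- the free group on two generators -/
abbrev F2 := FreeGroup (Fin 2)
/-- first generator -/
def fx : F2 := FreeGroup.of 0
/-- second generator -/
def fy : F2 := FreeGroup.of 1

/-- the relators -/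
abbrev rels : Set F2 := ({FreeGroup.of (0 : Fin 2) ^ 3, FreeGroup.of (1 : Fin 2) ^ 5,
        (FreeGroup.of (0 : Fin 2) * FreeGroup.of 1) ^ 2} : Set (FreeGroup (Fin 2)))

/-- the relators as a list -/
def rl : List F2 := [fx ^ 3, fy ^ 5, (fx * fy) ^ 2]

theorem rl_sub : ∀ r ∈ rl, r ∈ rels := by
  intro r hr
  simp only [rl, List.mem_cons, List.not_mem_nil, or_false] at hr
  rcases hr with rfl | rfl | rfl
  · exact Or.inl rfl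
  · exact Or.inr (Or.inl rfl)
  · exact Or.inr (Or.inr rfl)

theorem cert_mem (l : List (F2 × F2 × Bool)) (hl : ∀ p ∈ l, p.2.1 ∈ rl) :
    (l.map (fun p => p.1 * (if p.2.2 then p.2.1 else p.2.1⁻¹) * p.1⁻¹)).prod ∈
      Subgroup.normalClosure rels := by
  induction l with
  | nil => simp
  | cons p l ih =>
    rw [List.map_cons, List.prod_cons]
    apply mul_mem
    · have hp : p.2.1 ∈ Subgroup.normalClosure rels :=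
        Subgroup.subset_normalClosure (rl_sub _ (hl p (List.mem_cons_self)))
      apply Subgroup.normalClosure_normal.conj_mem
      split_ifs
      · exact hp
      · exact inv_mem hp
    · exact ih (fun q hq => hl q (List.mem_cons_of_mem _ hq))

theorem cert_eq (u v : F2) (l : List (F2 × F2 × Bool)) (hl : ∀ p ∈ l, p.2.1 ∈ rl)
    (h : u⁻¹ * v = (l.map (fun p => p.1 * (if p.2.2 then p.2.1 else p.2.1⁻¹) * p.1⁻¹)).prod) :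
    (PresentedGroup.mk rels u) = PresentedGroup.mk rels v := by
  change (QuotientGroup.mk u : F2 ⧸ Subgroup.normalClosure rels) = QuotientGroup.mk v
  rw [QuotientGroup.eq, h]
  exact cert_mem l hl

def kx : Fin 12 → ℕ := ![0, 0, 0, 0, 0, 0, 0, 1, 4, 0, 0, 0]
def jx : Fin 12 → Fin 12 := ![1, 2, 0, 4, 6, 7, 3, 8, 5, 10, 11, 9]
def ky : Fin 12 → ℕ := ![1, 4, 0, 0, 0, 1, 0, 0, 0, 1, 4, 4]
def jy : Fin 12 → Fin 12 := ![0, 2, 3, 5, 1, 4, 8, 6, 9, 10, 7, 11]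
def wF : Fin 12 → F2 := ![1, fx, fx * fx, fx * fx * fy, fx * fx * fy * fx, fx * fx * fy * fy, fx * fx * fy * fx * fx, fx * fx * fy * fy * fx, fx * fx * fy * fx * fx * fy, fx * fx * fy * fx * fx * fy * fy, fx * fx * fy * fx * fx * fy * fy * fx, fx * fx * fy * fx * fx * fy * fy * fx * fx]
def certx : Fin 12 → List (F2 × F2 × Bool) := ![
  [],
  [],
  [((fx⁻¹ * fx⁻¹ * fx⁻¹) * (1) * (1), fx ^ 3, false)],
  [],
  [],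
  [],
  [((fx⁻¹ * fx⁻¹ * fx⁻¹ * fy⁻¹ * fx⁻¹ * fx⁻¹) * (fx * fx * fy) * (1), fx ^ 3, false)],
  [((fx⁻¹ * fx⁻¹ * fy⁻¹ * fy⁻¹ * fx⁻¹ * fx⁻¹) * (fy * fx * fx * fy * fx) * (1), fy ^ 5, false), ((fx⁻¹ * fx⁻¹ * fy⁻¹ * fy⁻¹ * fx⁻¹ * fx⁻¹) * (fy * fx) * (1), (fx * fy) ^ 2, true), ((fx⁻¹ * fx⁻¹ * fy⁻¹ * fy⁻¹ * fx⁻¹ * fx⁻¹) * (fy * fx * fy * fy * fy) * (1), fx ^ 3, false), ((fx⁻¹ * fx⁻¹ * fy⁻¹ * fy⁻¹ * fx⁻¹ * fx⁻¹) * (fy * fx * fy * fy * fy * fx * fx) * (1), (fx * fy) ^ 2, true), ((fx⁻¹ * fx⁻¹ * fy⁻¹ * fy⁻¹ * fx⁻¹ * fx⁻¹) * (1) * (1), fx ^ 3, false), ((fx⁻¹ * fx⁻¹ * fy⁻¹ * fy⁻¹ * fx⁻¹ * fx⁻¹) * (fx * fx) * (1), (fx * fy) ^ 2, true)],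
  [((fx⁻¹ * fy⁻¹ * fx⁻¹ * fx⁻¹ * fy⁻¹ * fx⁻¹ * fx⁻¹) * (fy * fy * fy * fy) * (fx⁻¹), (fx * fy) ^ 2, false), ((fx⁻¹ * fy⁻¹ * fx⁻¹ * fx⁻¹ * fy⁻¹ * fx⁻¹ * fx⁻¹) * (1) * (1), fy ^ 5, true), ((fx⁻¹ * fy⁻¹ * fx⁻¹ * fx⁻¹ * fy⁻¹ * fx⁻¹ * fx⁻¹) * (fx * fy) * (1), fx ^ 3, true), ((fx⁻¹ * fy⁻¹ * fx⁻¹ * fx⁻¹ * fy⁻¹ * fx⁻¹ * fx⁻¹) * (fx * fy * fy * fy) * (fx⁻¹), (fx * fy) ^ 2, false), ((fx⁻¹ * fy⁻¹ * fx⁻¹ * fx⁻¹ * fy⁻¹ * fx⁻¹ * fx⁻¹) * (fx * fy * fy * fy * fy) * (fx⁻¹), (fx * fy) ^ 2, false), ((fx⁻¹ * fy⁻¹ * fx⁻¹ * fx⁻¹ * fy⁻¹ * fx⁻¹ * fx⁻¹) * (fx) * (1), fy ^ 5, true)],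
  [],
  [],
  [((fx⁻¹ * fx⁻¹ * fx⁻¹ * fy⁻¹ * fy⁻¹ * fx⁻¹ * fx⁻¹ * fy⁻¹ * fx⁻¹ * fx⁻¹) * (fx * fx * fy * fx * fx * fy * fy) * (1), fx ^ 3, false)]
]
def certy : Fin 12 → List (F2 × F2 × Bool) := ![
  [],
  [((fy⁻¹ * fx⁻¹) * (fy * fy * fy * fy) * (fx⁻¹), (fx * fy) ^ 2, false), ((fy⁻¹ * fx⁻¹) * (1) * (1), fy ^ 5, true), ((fy⁻¹ * fx⁻¹) * (fx * fy) * (1), fx ^ 3, true)],
  [],
  [],
  [((fy⁻¹ * fx⁻¹ * fy⁻¹ * fx⁻¹ * fx⁻¹) * (fx) * (1), (fx * fy) ^ 2, false)],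
  [((fy⁻¹ * fy⁻¹ * fy⁻¹ * fx⁻¹ * fx⁻¹) * (fy * fx * fx * fy * fx) * (1), fy ^ 5, false), ((fy⁻¹ * fy⁻¹ * fy⁻¹ * fx⁻¹ * fx⁻¹) * (fy * fx) * (1), (fx * fy) ^ 2, true), ((fy⁻¹ * fy⁻¹ * fy⁻¹ * fx⁻¹ * fx⁻¹) * (1) * (1), fx ^ 3, false), ((fy⁻¹ * fy⁻¹ * fy⁻¹ * fx⁻¹ * fx⁻¹) * (fx * fx) * (1), (fx * fy) ^ 2, true)],
  [],
  [((fy⁻¹ * fx⁻¹ * fy⁻¹ * fy⁻¹ * fx⁻¹ * fx⁻¹) * (fx * fx * fy * fx * fx) * (1), (fx * fy) ^ 2, false), ((fy⁻¹ * fx⁻¹ * fy⁻¹ * fy⁻¹ * fx⁻¹ * fx⁻¹) * (fx * fx * fy) * (1), fx ^ 3, true)],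
  [],
  [((fy⁻¹ * fy⁻¹ * fy⁻¹ * fx⁻¹ * fx⁻¹ * fy⁻¹ * fx⁻¹ * fx⁻¹) * (fy * fx * fx * fy * fx) * (1), fy ^ 5, false), ((fy⁻¹ * fy⁻¹ * fy⁻¹ * fx⁻¹ * fx⁻¹ * fy⁻¹ * fx⁻¹ * fx⁻¹) * (fy * fx) * (1), (fx * fy) ^ 2, true), ((fy⁻¹ * fy⁻¹ * fy⁻¹ * fx⁻¹ * fx⁻¹ * fy⁻¹ * fx⁻¹ * fx⁻¹) * (fy * fx * fy * fy * fy) * (1), fx ^ 3, false), ((fy⁻¹ * fy⁻¹ * fy⁻¹ * fx⁻¹ * fx⁻¹ * fy⁻¹ * fx⁻¹ * fx⁻¹) * (fy * fx * fy * fy * fy * fx * fx) * (1), (fx * fy) ^ 2, true), ((fy⁻¹ * fy⁻¹ * fy⁻¹ * fx⁻¹ * fx⁻¹ * fy⁻¹ * fx⁻¹ * fx⁻¹) * (fy * fx * fy * fy * fy * fx * fx * fy * fx) * (1), fy ^ 5, false), ((fy⁻¹ * fy⁻¹ * fy⁻¹ * fx⁻¹ * fx⁻¹ * fy⁻¹ * fx⁻¹ * fx⁻¹) * (fy * fx * fy * fy * fy * fx) * (1), (fx * fy) ^ 2, true), ((fy⁻¹ * fy⁻¹ * fy⁻¹ * fx⁻¹ * fx⁻¹ * fy⁻¹ * fx⁻¹ * fx⁻¹) * (fy * fx * fy * fy) * (1), fx ^ 3, false), ((fy⁻¹ * fy⁻¹ * fy⁻¹ * fx⁻¹ * fx⁻¹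 * fy⁻¹ * fx⁻¹ * fx⁻¹) * (fy * fx * fy * fy * fx * fx) * (1), (fx * fy) ^ 2, true), ((fy⁻¹ * fy⁻¹ * fy⁻¹ * fx⁻¹ * fx⁻¹ * fy⁻¹ * fx⁻¹ * fx⁻¹) * (1) * (1), fx ^ 3, false), ((fy⁻¹ * fy⁻¹ * fy⁻¹ * fx⁻¹ * fx⁻¹ * fy⁻¹ * fx⁻¹ * fx⁻¹) * (fx * fx) * (1), (fx * fy) ^ 2, true)],
  [((fy⁻¹ * fx⁻¹ * fy⁻¹ * fy⁻¹ * fx⁻¹ * fx⁻¹ * fy⁻¹ * fx⁻¹ * fx⁻¹) * (fy * fy * fy * fy) * (fx⁻¹), (fx * fy) ^ 2, false), ((fy⁻¹ * fx⁻¹ * fy⁻¹ * fy⁻¹ * fx⁻¹ * fx⁻¹ * fy⁻¹ * fx⁻¹ * fx⁻¹) * (1) * (1), fy ^ 5, true), ((fy⁻¹ * fx⁻¹ * fy⁻¹ * fy⁻¹ * fx⁻¹ * fx⁻¹ * fy⁻¹ * fx⁻¹ * fx⁻¹) * (fx * fy) * (1), fx ^ 3, true), ((fy⁻¹ * fx⁻¹ * fy⁻¹ * fy⁻¹ * fx⁻¹ * fx⁻¹ * fy⁻¹ * fx⁻¹ * fx⁻¹) * (fx * fy * fy * fy) * (fx⁻¹), (fx * fy) ^ 2, false), ((fy⁻¹ * fx⁻¹ * fy⁻¹ * fy⁻¹ * fx⁻¹ * fx⁻¹ * fy⁻¹ * fx⁻¹ * fx⁻¹) * (fx * fy * fy * fy * fy) * (fx⁻¹), (fx * fy) ^ 2, false),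 ((fy⁻¹ * fx⁻¹ * fy⁻¹ * fy⁻¹ * fx⁻¹ * fx⁻¹ * fy⁻¹ * fx⁻¹ * fx⁻¹) * (fx) * (1), fy ^ 5, true), ((fy⁻¹ * fx⁻¹ * fy⁻¹ * fy⁻¹ * fx⁻¹ * fx⁻¹ * fy⁻¹ * fx⁻¹ * fx⁻¹) * (fx * fx * fy * fx * fx * fy * fx * fx) * (1), (fx * fy) ^ 2, false), ((fy⁻¹ * fx⁻¹ * fy⁻¹ * fy⁻¹ * fx⁻¹ * fx⁻¹ * fy⁻¹ * fx⁻¹ * fx⁻¹) * (fx * fx * fy * fx * fx * fy) * (1), fx ^ 3, true)],
  [((fy⁻¹ * fx⁻¹ * fx⁻¹ * fy⁻¹ * fy⁻¹ * fx⁻¹ * fx⁻¹ * fy⁻¹ * fx⁻¹ * fx⁻¹) * (fy * fy * fy * fy) * (fx⁻¹), (fx * fy) ^ 2, false), ((fy⁻¹ * fx⁻¹ * fx⁻¹ * fy⁻¹ * fy⁻¹ * fx⁻¹ * fx⁻¹ * fy⁻¹ * fx⁻¹ * fx⁻¹) * (1) * (1), fy ^ 5, true), ((fy⁻¹ * fx⁻¹ * fx⁻¹ * fy⁻¹ * fy⁻¹ * fx⁻¹ * fx⁻¹ * fy⁻¹ * fx⁻¹ * fx⁻¹) * (fx * fy * fx * fx * fx * fy * fx * fx * fy * fy * fx * fx) * (1), (fx * fy) ^ 2, false), ((fy⁻¹ * fx⁻¹ * fx⁻¹ * fy⁻¹ * fy⁻¹ * fx⁻¹ * fx⁻¹ * fy⁻¹ * fx⁻¹ * fx⁻¹) * (fx * fy *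 fx * fx * fx * fy * fx * fx * fy * fy) * (1), fx ^ 3, true), ((fy⁻¹ * fx⁻¹ * fx⁻¹ * fy⁻¹ * fy⁻¹ * fx⁻¹ * fx⁻¹ * fy⁻¹ * fx⁻¹ * fx⁻¹) * (fx * fy * fx * fx * fx * fy * fx * fx) * (1), (fx * fy) ^ 2, false), ((fy⁻¹ * fx⁻¹ * fx⁻¹ * fy⁻¹ * fy⁻¹ * fx⁻¹ * fx⁻¹ * fy⁻¹ * fx⁻¹ * fx⁻¹) * (fx * fy * fx * fx * fx * fy) * (1), fx ^ 3, true), ((fy⁻¹ * fx⁻¹ * fx⁻¹ * fy⁻¹ * fy⁻¹ * fx⁻¹ * fx⁻¹ * fy⁻¹ * fx⁻¹ * fx⁻¹) * (fx * fy) * (1), fx ^ 3, true), ((fy⁻¹ * fx⁻¹ * fx⁻¹ * fy⁻¹ * fy⁻¹ * fx⁻¹ * fx⁻¹ * fy⁻¹ * fx⁻¹ * fx⁻¹) * (fx * fy * fy * fy * fx * fy * fy * fy * fy) * (fx⁻¹), (fx * fy) ^ 2, false), ((fy⁻¹ * fx⁻¹ * fx⁻¹ * fy⁻¹ * fy⁻¹ * fx⁻¹ * fx⁻¹ * fy⁻¹ * fx⁻¹ * fx⁻¹) * (fx * fy * fy * fy * fx) * (1), fy ^ 5, true), ((fy⁻¹ * fx⁻¹ * fx⁻¹ * fy⁻¹ * fy⁻¹ * fx⁻¹ * fx⁻¹ * fy⁻¹ * fx⁻¹ * fx⁻¹) * (fx * fy * fy * fy * fx * fx) * (1), (fx * fy)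 ^ 2, false), ((fy⁻¹ * fx⁻¹ * fx⁻¹ * fy⁻¹ * fy⁻¹ * fx⁻¹ * fx⁻¹ * fy⁻¹ * fx⁻¹ * fx⁻¹) * (fx * fy * fy * fy) * (1), fx ^ 3, true), ((fy⁻¹ * fx⁻¹ * fx⁻¹ * fy⁻¹ * fy⁻¹ * fx⁻¹ * fx⁻¹ * fy⁻¹ * fx⁻¹ * fx⁻¹) * (fx * fy * fy * fy * fy) * (fx⁻¹), (fx * fy) ^ 2, false), ((fy⁻¹ * fx⁻¹ * fx⁻¹ * fy⁻¹ * fy⁻¹ * fx⁻¹ * fx⁻¹ * fy⁻¹ * fx⁻¹ * fx⁻¹) * (fx) * (1), fy ^ 5, true)]
]

theorem tab_x (i : Fin 12) :
    PresentedGroup.mk rels (wF i * fx) = PresentedGroup.mk rels (fy ^ kx i * wF (jx i)) := by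
  apply cert_eq _ _ (certx i)
  · revert i; decide
  · revert i; decide

theorem tab_y (i : Fin 12) :
    PresentedGroup.mk rels (wF i * fy) = PresentedGroup.mk rels (fy ^ ky i * wF (jy i)) := by
  apply cert_eq _ _ (certy i)
  · revert i; decide
  · revert i; decide

/-- the presented group -/
abbrev P := PresentedGroup rels

/-- generator `x` -/
def X : P := PresentedGroup.mk rels fx
/-- generator `y` -/
def Y : P := PresentedGroup.mk rels fy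

/-- coset representatives -/
def wP (i : Fin 12) : P := PresentedGroup.mk rels (wF i)

theorem Y_pow_five : Y ^ 5 = 1 := by
  change PresentedGroup.mk rels fy ^ 5 = 1
  rw [← map_pow]
  exact (QuotientGroup.eq_one_iff _).mpr (Subgroup.subset_normalClosure (Or.inr (Or.inl rfl)))

theorem X_pow_three : X ^ 3 = 1 := by
  change PresentedGroup.mk rels fx ^ 3 = 1
  rw [← map_pow]
  exact (QuotientGroup.eq_one_iff _).mpr (Subgroup.subset_normalClosure (Or.inl rfl))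

theorem wP_mul_X (i : Fin 12) : wP i * X = Y ^ kx i * wP (jx i) := by
  have := tab_x i
  rw [map_mul, map_mul, map_pow] at this
  exact this

theorem wP_mul_Y (i : Fin 12) : wP i * Y = Y ^ ky i * wP (jy i) := by
  have := tab_y i
  rw [map_mul, map_mul, map_pow] at this
  exact this

/-- the enumerating map -/
def enum (p : Fin 5 × Fin 12) : P := Y ^ (p.1 : ℕ) * wP p.2

theorem Y_pow_mod (n : ℕ) : Y ^ n = Y ^ (n % 5) := by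
  conv_lhs => rw [← Nat.div_add_mod n 5, pow_add, pow_mul, Y_pow_five, one_pow, one_mul]

theorem range_mul_X (g : P) (hg : g ∈ Set.range enum) : g * X ∈ Set.range enum := by
  obtain ⟨⟨a, i⟩, rfl⟩ := hg
  refine ⟨(⟨((a : ℕ) + kx i) % 5, Nat.mod_lt _ (by norm_num)⟩, jx i), ?_⟩
  simp only [enum]
  rw [mul_assoc, wP_mul_X, ← mul_assoc, ← pow_add, ← Y_pow_mod]

theorem range_mul_Y (g : P) (hg : g ∈ Set.range enum) : g * Y ∈ Set.range enum := by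
  obtain ⟨⟨a, i⟩, rfl⟩ := hg
  refine ⟨(⟨((a : ℕ) + ky i) % 5, Nat.mod_lt _ (by norm_num)⟩, jy i), ?_⟩
  simp only [enum]
  rw [mul_assoc, wP_mul_Y, ← mul_assoc, ← pow_add, ← Y_pow_mod]

theorem one_mem_range : (1 : P) ∈ Set.range enum := by
  refine ⟨(0, 0), ?_⟩
  simp only [enum, wP]
  have : wF 0 = 1 := rfl
  rw [this, map_one]
  simp

theorem X_inv : X⁻¹ = X * X := by
  have h := X_pow_three
  rw [pow_succ, pow_two] at h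
  exact inv_eq_of_mul_eq_one_left h

theorem Y_inv : Y⁻¹ = Y * Y * Y * Y := by
  have h := Y_pow_five
  rw [pow_succ, pow_succ, pow_succ, pow_two] at h
  exact inv_eq_of_mul_eq_one_left h

theorem enum_surjective : Function.Surjective enum := by
  have key : ∀ p : P, (∀ g ∈ Set.range enum, g * p ∈ Set.range enum) ∧
      (∀ g ∈ Set.range enum, g * p⁻¹ ∈ Set.range enum) := by
    intro p
    have hp : p ∈ Subgroup.closure (Set.range (PresentedGroup.of (rels := rels))) := by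
      rw [PresentedGroup.closure_range_of]; trivial
    induction hp using Subgroup.closure_induction with
    | mem x hx =>
      obtain ⟨i, rfl⟩ := hx
      fin_cases i
      · refine ⟨range_mul_X, fun g hg => ?_⟩
        change g * X⁻¹ ∈ Set.range enum
        rw [X_inv, ← mul_assoc]
        exact range_mul_X _ (range_mul_X _ hg)
      · refine ⟨range_mul_Y, fun g hg => ?_⟩
        change g * Y⁻¹ ∈ Set.range enum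
        rw [Y_inv, ← mul_assoc, ← mul_assoc, ← mul_assoc]
        exact range_mul_Y _ (range_mul_Y _ (range_mul_Y _ (range_mul_Y _ hg)))
    | one => exact ⟨fun g hg => by simpa using hg, fun g hg => by simpa using hg⟩
    | mul x y _ _ hx hy =>
      refine ⟨fun g hg => ?_, fun g hg => ?_⟩
      · rw [← mul_assoc]
        exact hy.1 _ (hx.1 _ hg)
      · rw [mul_inv_rev, ← mul_assoc]
        exact hx.2 _ (hy.2 _ hg)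
    | inv x _ hx =>
      refine ⟨hx.2, fun g hg => ?_⟩
      rw [inv_inv]
      exact hx.1 g hg
  intro p
  have := (key p).1 1 one_mem_range
  rwa [one_mul] at this

instance : Finite P := Finite.of_surjective enum enum_surjective

theorem card_le : Nat.card P ≤ 60 := by
  have := Nat.card_le_card_of_surjective enum enum_surjective
  simpa using this

/-- image of `x` -/
def gx : alternatingGroup (Fin 5) :=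
  ⟨Equiv.swap (1 : Fin 5) 4 * Equiv.swap 4 2, by
    rw [Equiv.Perm.mem_alternatingGroup]; decide⟩

/-- image of `y` -/
def gy : alternatingGroup (Fin 5) :=
  ⟨Equiv.swap (0 : Fin 5) 1 * Equiv.swap 1 2 * Equiv.swap 2 3 * Equiv.swap 3 4, by
    rw [Equiv.Perm.mem_alternatingGroup]; decide⟩

/-- images of the generators -/
def gens : Fin 2 → alternatingGroup (Fin 5) := ![gx, gy]

theorem gens_rel : ∀ r ∈ rels, FreeGroup.lift gens r = 1 := by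
  intro r hr
  rcases hr with rfl | rfl | rfl
  · simp only [map_pow, FreeGroup.lift_apply_of]
    decide
  · simp only [map_pow, FreeGroup.lift_apply_of]
    decide
  · simp only [map_pow, map_mul, FreeGroup.lift_apply_of]
    decide

/-- the homomorphism onto `A₅` -/
def φ : P →* alternatingGroup (Fin 5) := PresentedGroup.toGroup gens_rel

theorem φ_X : φ X = gx := by
  change PresentedGroup.toGroup gens_rel (PresentedGroup.of 0) = gx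
  rw [PresentedGroup.toGroup.of]; rfl

theorem φ_Y : φ Y = gy := by
  change PresentedGroup.toGroup gens_rel (PresentedGroup.of 1) = gy
  rw [PresentedGroup.toGroup.of]; rfl

theorem card_A5 : Nat.card (alternatingGroup (Fin 5)) = 60 := by
  rw [nat_card_alternatingGroup, Nat.card_fin]
  rfl

theorem φ_surjective : Function.Surjective φ := by
  rw [← MonoidHom.range_eq_top]
  have h3 : orderOf gx = 3 := by
    haveI : Fact (Nat.Prime 3) := ⟨Nat.prime_three⟩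
    exact orderOf_eq_prime (by decide) (by decide)
  have h5 : orderOf gy = 5 := by
    haveI : Fact (Nat.Prime 5) := ⟨Nat.prime_five⟩
    exact orderOf_eq_prime (by decide) (by decide)
  have h2 : orderOf (gx * gy) = 2 := by
    haveI : Fact (Nat.Prime 2) := ⟨Nat.prime_two⟩
    exact orderOf_eq_prime (by decide) (by decide)
  have mx : gx ∈ φ.range := ⟨X, φ_X⟩
  have my : gy ∈ φ.range := ⟨Y, φ_Y⟩
  have mxy : gx * gy ∈ φ.range := mul_mem mx my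
  have d3 : 3 ∣ Nat.card φ.range := by
    have := orderOf_dvd_natCard (⟨gx, mx⟩ : φ.range)
    rwa [Subgroup.orderOf_mk, h3] at this
  have d5 : 5 ∣ Nat.card φ.range := by
    have := orderOf_dvd_natCard (⟨gy, my⟩ : φ.range)
    rwa [Subgroup.orderOf_mk, h5] at this
  have d2 : 2 ∣ Nat.card φ.range := by
    have := orderOf_dvd_natCard (⟨gx * gy, mxy⟩ : φ.range)
    rwa [Subgroup.orderOf_mk, h2] at this
  have d30 : 30 ∣ Nat.card φ.range := by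
    have h6 : 6 ∣ Nat.card φ.range :=
      Nat.Coprime.mul_dvd_of_dvd_of_dvd (by norm_num : Nat.Coprime 2 3) d2 d3
    exact Nat.Coprime.mul_dvd_of_dvd_of_dvd (by norm_num : Nat.Coprime 6 5) h6 d5
  have hidx : φ.range.index * Nat.card φ.range = 60 := by
    rw [mul_comm, Subgroup.card_mul_index, card_A5]
  have hidx2 : φ.range.index = 1 ∨ φ.range.index = 2 := by
    obtain ⟨k, hk⟩ := d30
    rw [hk] at hidx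
    have hk0 : k ≠ 0 := by rintro rfl; simp at hidx
    have : φ.range.index * k = 2 := by
      have : 30 * (φ.range.index * k) = 30 * 2 := by
        rw [show 30 * (φ.range.index * k) = φ.range.index * (30 * k) by ring, hidx]
      exact Nat.eq_of_mul_eq_mul_left (by norm_num) this
    have hdvd : φ.range.index ∣ 2 := Dvd.intro _ this
    rcases (Nat.dvd_prime Nat.prime_two).mp hdvd with h | h
    · exact Or.inl h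
    · exact Or.inr h
  rcases hidx2 with h | h
  · exact Subgroup.index_eq_one.mp h
  · exfalso
    haveI := Subgroup.normal_of_index_eq_two h
    haveI : IsSimpleGroup (alternatingGroup (Fin 5)) := alternatingGroup.isSimpleGroup (by simp)
    rcases (Subgroup.normal_of_index_eq_two h).eq_bot_or_eq_top with hb | ht
    · rw [hb] at mx
      have : gx = 1 := Subgroup.mem_bot.mp mx
      rw [this, orderOf_one] at h3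
      norm_num at h3
    · rw [ht, Subgroup.index_top] at h
      norm_num at h

/-- The alternating group of degree 5 has the presentation ⟨x, y | x³ = 1, y⁵ = 1, (xy)² = 1⟩: the group so presented is isomorphic to Alt(5). -/
theorem result :
    Nonempty (PresentedGroup ({FreeGroup.of (0 : Fin 2) ^ 3, FreeGroup.of (1 : Fin 2) ^ 5,
        (FreeGroup.of (0 : Fin 2) * FreeGroup.of 1) ^ 2} : Set (FreeGroup (Fin 2))) ≃* alternatingGroup (Fin 5)) := by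
  have hbij : Function.Bijective φ :=
    φ_surjective.bijective_of_nat_card_le (by rw [card_A5]; exact card_le)
  exact ⟨MulEquiv.ofBijective φ hbij⟩

end Cfsg.Agent.S3377
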