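import Cfsg.Statements.S2005
import Cfsg.Agent.Lib.Helper7.ThompsonFunctor3

set_option autoImplicit false
universe u
open Cfsg

namespace Cfsg.Agent.S2005

open Cfsg.Agent.Lib.Helper7

/-- Thompson's normal p-complement criterion in functor form. Let p be a prime, G a finite group with Sylow p-subgroup S, and W an isomorphism-invariant p-group functor (W assigns to every group Q a subgroup W(Q), nontrivial whenever Q is a nontrivial finite p-group, and every isomorphism from a finite p-group Q onto a group R carries W(Q) onto W(R)). Suppose N_G(W(S)) has a normal p-complement, and that W(S*) is normal in G* whenever G* = K/R is a section of G with C_{G*}(O_p(G*)) ≤ O_p(G*) such that G*/O_p(G*) has a normal p-complement, and S* is a Sylow p-subgroup of G* that is a maximal subgroup of G*. Then G has a normal p-complement. -/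
theorem result {G : Type u} [Group G] [Finite G] {p : ℕ} [Fact p.Prime] (W : ∀ (Q : Type u) [Group Q], Subgroup Q) (hW : Cfsg.IsCharPFunctor.{u} p W) (S : Sylow p G) (hN : Cfsg.HasNormalPComplement p ↥(Subgroup.normalizer ((Cfsg.inducedFunctor (G := G) W (S : Subgroup G) : Subgroup G) : Set G))) (hloc : ∀ (K R : Subgroup G) [hR : (R.subgroupOf K).Normal], Subgroup.centralizer ((Cfsg.pCore p (↥K ⧸ R.subgroupOf K) : Subgroup (↥K ⧸ R.subgroupOf K)) : Set (↥K ⧸ R.subgroupOf K)) ≤ Cfsg.pCore p (↥K ⧸ R.subgroupOf K) → Cfsg.HasNormalPComplement p ((↥K ⧸ R.subgroupOf K) ⧸ Cfsg.pCore p (↥K ⧸ R.subgroupOf K)) → ∀ T : Sylow p (↥K ⧸ R.subgroupOf K), IsCoatom (T : Subgroup (↥K ⧸ R.subgroupOf K)) → (Cfsg.inducedFunctor (G := (↥K ⧸ R.subgroupOf K)) W ((T : Subgroup (↥K ⧸ R.subgroupOf K)))).Normal) : Cfsg.HasNormalPComplement p G := by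

  have hyp : SectionProp (MaxSylowNormal W p) G := by
    intro K R hR hfin hcon hnil T hTp hTidx hTco
    have := hloc K R hcon hnil (hTp.toSylow hTidx) (by rw [IsPGroup.toSylow_coe]; exact hTco)
    rw [IsPGroup.toSylow_coe] at this
    exact this
  have hWc : IsConjugacyFunctor p (inducedFunctor (G := G) W) :=
    isConjugacyFunctor_inducedFunctor hW
  have h0 : PN p (Subgroup.normalizer
      ((inducedFunctor (G := G) W (S : Subgroup G) : Subgroup G) : Set G)) := (pn_iff _).mpr hN
  have ha : ∀ S' : Sylow p G, PN p (Subgroup.normalizer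
      ((inducedFunctor (G := G) W (S' : Subgroup G) : Subgroup G) : Set G)) := by
    intro S'
    obtain ⟨g, rfl⟩ := MulAction.exists_smul_eq G S S'
    rw [sylow_smul_coe_eq_map, (hWc _ S.isPGroup').2.2 g, ← Subgroup.map_equiv_normalizer_eq]
    exact (pn_map_of_injective _ (MulAut.conj g).injective _).mpr h0
  exact pn_top_iff.mp (pn_top_of_maxSylowNormal hW (Nat.card G) G rfl hyp ha)


end Cfsg.Agent.S2005
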