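import Cfsg.Statements.S3962
import Mathlib

set_option autoImplicit false
open Cfsg

namespace Cfsg.Agent.S3962

/-- In a perfect group, an element all of whose commutators are central is central. -/
theorem mem_center_of_comm_mem_center {G : Type*} [Group G] (hG : Group.IsPerfect G) (x : G)
    (hx : ∀ g : G, x * g * x⁻¹ * g⁻¹ ∈ Subgroup.center G) : x ∈ Subgroup.center G := by
  let φ : G →* Subgroup.center G :=
    { toFun := fun g => ⟨x * g * x⁻¹ * g⁻¹, hx g⟩
      map_one' := by apply Subtype.ext; simp
      map_mul' := by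
        intro g h
        apply Subtype.ext
        have hc := hx h
        rw [Subgroup.mem_center_iff] at hc
        simp only [Subgroup.coe_mul, mul_inv_rev]
        calc x * (g * h) * x⁻¹ * (h⁻¹ * g⁻¹)
            = x * g * x⁻¹ * ((x * h * x⁻¹ * h⁻¹) * g⁻¹) := by group
          _ = x * g * x⁻¹ * (g⁻¹ * (g * (x * h * x⁻¹ * h⁻¹)) * g⁻¹) := by group
          _ = x * g * x⁻¹ * (g⁻¹ * ((x * h * x⁻¹ * h⁻¹) * g) * g⁻¹) := by rw [hc g]
          _ = x * g * x⁻¹ * g⁻¹ * (x * h * x⁻¹ * h⁻¹) := by group }
  have hker : φ.ker = ⊤ := by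
    have h1 : (⁅(⊤ : Subgroup G), ⊤⁆ : Subgroup G) ≤ φ.ker := by
      rw [Subgroup.commutator_le]
      intro g₁ _ g₂ _
      rw [MonoidHom.mem_ker, map_commutatorElement, commutatorElement_eq_one_iff_mul_comm]
      apply Subtype.ext
      have := (φ g₂).2
      rw [Subgroup.mem_center_iff] at this
      rw [Subgroup.coe_mul, Subgroup.coe_mul]
      exact this (φ g₁)
    have h2 : (⁅(⊤ : Subgroup G), ⊤⁆ : Subgroup G) = ⊤ := hG.commutator_eq_top
    rw [h2] at h1
    exact top_le_iff.1 h1
  rw [Subgroup.mem_center_iff]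
  intro g
  have : g ∈ φ.ker := by rw [hker]; trivial
  rw [MonoidHom.mem_ker] at this
  have h2 := congrArg Subtype.val this
  simp only [φ, MonoidHom.coe_mk, OneHom.coe_mk, Subgroup.coe_one] at h2
  have h3 : x * g * x⁻¹ = g := by rw [← mul_inv_eq_one]; exact h2
  exact (mul_inv_eq_iff_eq_mul.1 h3).symm

/-- Let `G` be a perfect group and `π : G →* Q` a surjective homomorphism whose kernel is central. Then `π` maps the centre of `G` onto the centre of `Q`. Taking `π` to be the map to `G ⧸ Z(G)` shows that the central quotient of a perfect group has trivial centre. -/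
theorem result {G Q : Type*} [Group G] [Group Q] (hG : Group.IsPerfect G) (π : G →* Q) (hπ : Function.Surjective π) (hker : π.ker ≤ Subgroup.center G) : (Subgroup.center G).map π = Subgroup.center Q := by
  apply le_antisymm
  · rintro _ ⟨z, hz, rfl⟩
    rw [Subgroup.mem_center_iff]
    intro q
    obtain ⟨g, rfl⟩ := hπ q
    rw [SetLike.mem_coe, Subgroup.mem_center_iff] at hz
    rw [← map_mul, ← map_mul, hz g]
  · intro q hq
    obtain ⟨x, rfl⟩ := hπ q
    refine ⟨x, ?_, rfl⟩
    apply mem_center_of_comm_mem_center hG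
    intro g
    apply hker
    rw [MonoidHom.mem_ker]
    rw [Subgroup.mem_center_iff] at hq
    simp only [map_mul, map_inv]
    rw [← hq (π g)]
    group

end Cfsg.Agent.S3962
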