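import Mathlib
import Cfsg.Statements.S0683
import Cfsg.Agent.Lib.Lead.Sharp2

namespace Cfsg.Agent.S0683

open Cfsg.Agent.Lib.Lead

theorem result {α : Type*} [Fintype α] [DecidableEq α] (H : Subgroup (Equiv.Perm α)) [MulAction.IsMultiplyPretransitive H α 2] (hsharp : ∀ x : Fin 2 ↪ α, MulAction.stabilizer H x = ⊥) (h2 : 2 ≤ Fintype.card α) : ∃ _ : Cfsg.NearField α, ∀ σ : Equiv.Perm α, σ ∈ H ↔ ∃ a b : α, a ≠ 0 ∧ ∀ x : α, σ x = x * a + b := by
  classical
  have h2t : MulAction.IsMultiplyPretransitive H α 2 := inferInstance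
  obtain ⟨N, hNmem, hNn, -, hNcard, -⟩ := Sharp2.exists_kernel h2t hsharp h2
  obtain ⟨o, e, hoe⟩ := Fintype.exists_pair_of_one_lt_card (α := α) (by omega)
  -- translations
  have htr : ∀ x : α, ∃ g : H, g ∈ N ∧ g • o = x := fun x => by
    obtain ⟨g, hg, hgx⟩ := Sharp2.kernel_transitive N (fun g hg => (hNmem g).1 hg) hNcard o x
    exact ⟨g, hg, hgx⟩
  choose τ hτN hτo using htr
  have hτuniq : ∀ g : H, g ∈ N → ∀ x, g • o = x → g = τ x := by
    intro g hg x hgx
    have h1 : ((τ x)⁻¹ * g) • o = o := by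
      rw [mul_smul, hgx, inv_smul_eq_iff, hτo x]
    have h3 : (τ x)⁻¹ * g = 1 := by
      rcases (hNmem _).1 (N.mul_mem (N.inv_mem (hτN x)) hg) with h | h
      · exact h
      · exact absurd h1 (h o)
    have := congrArg (τ x * ·) h3
    simpa using this
  -- multiplications
  have hmu : ∀ a : α, ∃ k : H, a ≠ o → (k • o = o ∧ k • e = a) := fun a => by
    by_cases ha : a = o
    · exact ⟨1, fun h => absurd ha h⟩
    · obtain ⟨k, hk1, hk2⟩ := Sharp2.exists_map2 h2t hoe (Ne.symm ha)
      exact ⟨k, fun _ => ⟨hk1, hk2⟩⟩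
  choose μ hμ using hmu
  have hμuniq : ∀ k : H, ∀ a, a ≠ o → k • o = o → k • e = a → k = μ a := by
    intro k a ha hk1 hk2
    obtain ⟨h1, h2'⟩ := hμ a ha
    have h3 : (μ a)⁻¹ * k = 1 := by
      apply Sharp2.eq_one_of_fix2 hsharp hoe
      · rw [mul_smul, hk1, inv_smul_eq_iff, h1]
      · rw [mul_smul, hk2, inv_smul_eq_iff, h2']
    have := congrArg (μ a * ·) h3
    simpa using this
  have hA1 : ∀ y z : α, τ (τ z • y) = τ z * τ y := by
    intro y z
    symm
    apply hτuniq _ (N.mul_mem (hτN z) (hτN y))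
    rw [mul_smul, hτo y]
  have hA2 : τ o = 1 := by
    symm
    apply hτuniq _ N.one_mem
    rw [one_smul]
  have hM0 : ∀ a b : α, a ≠ o → b ≠ o → μ b • a ≠ o := by
    intro a b ha hb h
    apply ha
    have := (hμ b hb).1
    rw [← this] at h
    exact MulAction.injective (μ b) h
  have hM1 : ∀ a b : α, a ≠ o → b ≠ o → μ (μ b • a) = μ b * μ a := by
    intro a b ha hb
    symm
    apply hμuniq _ _ (hM0 a b ha hb)
    · rw [mul_smul, (hμ a ha).1, (hμ b hb).1]
    · rw [mul_smul, (hμ a ha).2]
  have hM2 : μ e = 1 := by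
    symm
    apply hμuniq _ _ (Ne.symm hoe)
    · rw [one_smul]
    · rw [one_smul]
  have hD : ∀ b c : α, c ≠ o → μ c * τ b * (μ c)⁻¹ = τ (μ c • b) := by
    intro b c hc
    apply hτuniq _ (hNn.conj_mem _ (hτN b) _)
    rw [mul_smul, mul_smul]
    have h1 : (μ c)⁻¹ • o = o := by
      rw [inv_smul_eq_iff, (hμ c hc).1]
    rw [h1, hτo b]
  let add : α → α → α := fun x y => τ y • x
  let mul : α → α → α := fun x a => if a = o then o else μ a • x
  have hmul_ne : ∀ x a, a ≠ o → mul x a = μ a • x := fun x a ha => by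
    simp only [mul, if_neg ha]
  have hmul_o : ∀ x, mul x o = o := fun x => by simp only [mul, if_pos rfl]
  have hmul_o' : ∀ a, mul o a = o := fun a => by
    by_cases ha : a = o
    · rw [ha, hmul_o]
    · rw [hmul_ne _ _ ha, (hμ a ha).1]
  have hmul_ne0 : ∀ x a, x ≠ o → a ≠ o → mul x a ≠ o := fun x a hx ha => by
    rw [hmul_ne _ _ ha]
    exact hM0 x a hx ha
  let AG : AddGroup α :=
    letI iAdd : Add α := ⟨add⟩
    letI iZero : Zero α := ⟨o⟩
    letI iNeg : Neg α := ⟨fun x => (τ x)⁻¹ • o⟩
    AddGroup.ofLeftAxioms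
      (by
        intro x y z
        show τ z • (τ y • x) = τ (τ z • y) • x
        rw [hA1, mul_smul])
      (by
        intro x
        show τ x • o = x
        exact hτo x)
      (by
        intro x
        show τ x • ((τ x)⁻¹ • o) = o
        rw [smul_inv_smul])
  let MG : Monoid α :=
    { mul := mul
      mul_assoc := by
        intro x a b
        show mul (mul x a) b = mul x (mul a b)
        by_cases hb : b = o
        · rw [hb, hmul_o, hmul_o, hmul_o]
        by_cases ha : a = o
        · rw [ha, hmul_o, hmul_o', hmul_o]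
        rw [hmul_ne _ _ hb, hmul_ne _ _ ha, hmul_ne _ _ (hmul_ne0 a b ha hb), hmul_ne _ _ hb,
          hM1 a b ha hb, mul_smul]
      one := e
      one_mul := by
        intro a
        show mul e a = a
        by_cases ha : a = o
        · rw [ha, hmul_o]
        · rw [hmul_ne _ _ ha, (hμ a ha).2]
      mul_one := by
        intro a
        show mul a e = a
        rw [hmul_ne _ _ (Ne.symm hoe), hM2, one_smul] }
  let NF : Cfsg.NearField α :=
    { toAddGroup := AG
      toMonoid := MG
      right_distrib := by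
        intro a b c
        show mul (add a b) c = add (mul a c) (mul b c)
        by_cases hc : c = o
        · rw [hc, hmul_o, hmul_o, hmul_o]
          show o = τ o • o
          rw [hA2, one_smul]
        · rw [hmul_ne _ _ hc, hmul_ne _ _ hc, hmul_ne _ _ hc]
          show μ c • (τ b • a) = τ (μ c • b) • (μ c • a)
          rw [← hD b c hc, mul_smul, mul_smul, inv_smul_smul]
      mul_zero := by
        intro a
        show mul a o = o
        exact hmul_o a
      zero_ne_one := by
        show o ≠ e
        exact hoe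
      exists_inv := by
        intro a ha
        have ha' : a ≠ o := ha
        have hb : (μ a)⁻¹ • e ≠ o := by
          intro h
          apply hoe
          have h1 : (μ a)⁻¹ • o = o := by
            rw [inv_smul_eq_iff, (hμ a ha').1]
          rw [← h1] at h
          exact (MulAction.injective _ h).symm
        have hμb : μ ((μ a)⁻¹ • e) = (μ a)⁻¹ := by
          symm
          apply hμuniq _ _ hb
          · rw [inv_smul_eq_iff, (hμ a ha').1]
          · rfl
        refine ⟨(μ a)⁻¹ • e, ?_, ?_⟩
        · show mul a ((μ a)⁻¹ • e) = e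
          rw [hmul_ne _ _ hb, hμb, inv_smul_eq_iff, (hμ a ha').2]
        · show mul ((μ a)⁻¹ • e) a = e
          rw [hmul_ne _ _ ha', smul_inv_smul] }
  refine ⟨NF, ?_⟩
  intro σ
  constructor
  · intro hσ
    let s : H := ⟨σ, hσ⟩
    set b : α := σ o with hb
    set k : H := (τ b)⁻¹ * s with hk
    have hko : k • o = o := by
      rw [hk, mul_smul]
      have : s • o = b := rfl
      rw [this, inv_smul_eq_iff, hτo b]
    have hae : k • e ≠ o := by
      intro h
      apply hoe
      rw [← hko] at h
      exact (MulAction.injective _ h).symm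
    have hkμ : k = μ (k • e) := hμuniq k _ hae hko rfl
    refine ⟨k • e, b, hae, ?_⟩
    intro x
    show σ x = add (mul x (k • e)) b
    rw [hmul_ne _ _ hae, ← hkμ]
    show σ x = τ b • (k • x)
    rw [hk, mul_smul, smul_inv_smul]
    rfl
  · rintro ⟨a, b, ha, hab⟩
    have ha' : a ≠ o := ha
    have : σ = (τ b * μ a).1 := by
      ext x
      rw [hab x]
      show add (mul x a) b = _
      rw [hmul_ne _ _ ha']
      rfl
    rw [this]
    exact (τ b * μ a).2
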