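import Mathlib
import Cfsg.Statements.S0680
import Cfsg.Agent.Lib.Lead.Sharp2

set_option autoImplicit false
open Cfsg

namespace Cfsg.Agent.S0680

open Cfsg.Agent.Lib.Lead.Sharp2

/-- A finite sharply doubly transitive permutation group has degree a prime power `p ^ j`; a Sylow `p`-subgroup is normal, elementary abelian and regular, and consists of the identity together with the elements without fixed points. (Frobenius' Theorem is not needed.) -/
theorem result {α : Type*} [Fintype α] [DecidableEq α] (G : Subgroup (Equiv.Perm α)) [MulAction.IsMultiplyPretransitive G α 2] (hsharp : ∀ x : Fin 2 ↪ α, MulAction.stabilizer G x = ⊥) (h2 : 2 ≤ Fintype.card α) : ∃ p j : ℕ, p.Prime ∧ 1 ≤ j ∧ Fintype.card α = p ^ j ∧ ∀ (hp : Fact p.Prime) (P : Sylow p G), (P : Subgroup G).Normal ∧ IsMulCommutative (P : Subgroup G) ∧ (∀ x ∈ (P : Subgroup G), x ^ p = 1) ∧ MulAction.IsPretransitive (P : Subgroup G) α ∧ (∀ a : α, MulAction.stabilizer (P : Subgroup G) a = ⊥) ∧ ∀ g : G, g ∈ (P : Subgroup G) ↔ g = 1 ∨ ∀ a : α, g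 • a ≠ a := by
  have h2t : MulAction.IsMultiplyPretransitive G α 2 := inferInstance
  obtain ⟨N, hmem, hnormal, hcomm, hcard, p, hpp, hexp⟩ := exists_kernel h2t hsharp h2
  haveI : Fact p.Prime := ⟨hpp⟩
  have hNp : IsPGroup p N := by
    intro x
    refine ⟨1, ?_⟩
    apply Subtype.ext
    rw [pow_one]
    exact hexp x.1 x.2
  obtain ⟨j, hj⟩ := IsPGroup.iff_card.mp hNp
  have hj1 : 1 ≤ j := by
    rcases Nat.eq_zero_or_pos j with h0 | h0
    · rw [h0, pow_zero, hcard] at hj; omega
    · exact h0
  have hn : Fintype.card α = p ^ j := by rw [← hcard, hj]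
  refine ⟨p, j, hpp, hj1, hn, ?_⟩
  intro hp P
  -- P = N
  have hPN : (P : Subgroup G) = N := by
    apply le_antisymm
    · intro x hx
      rw [hmem]
      by_contra hcon
      push Not at hcon
      obtain ⟨hx1, a, ha⟩ := hcon
      -- x is a p-element in the stabilizer of a, which has order p^j - 1
      obtain ⟨k, hk⟩ := (IsPGroup.iff_orderOf.mp P.2) ⟨x, hx⟩
      rw [Subgroup.orderOf_mk] at hk
      have hxs : x ∈ MulAction.stabilizer G a := ha
      have hdvd : orderOf x ∣ Nat.card (MulAction.stabilizer G a) := by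
        have := orderOf_dvd_natCard (⟨x, hxs⟩ : MulAction.stabilizer G a)
        rwa [Subgroup.orderOf_mk] at this
      rw [card_stabilizer h2t hsharp h2, hn, hk] at hdvd
      have hk0 : k = 0 := by
        by_contra hk0
        have h3 : p ∣ p ^ k := dvd_pow_self p hk0
        have h4 : p ∣ p ^ j - 1 := h3.trans hdvd
        have h5 : p ∣ p ^ j := dvd_pow_self p (by omega)
        have h6 : 0 < p ^ j := pow_pos hpp.pos j
        have h7 : p ∣ 1 := by
          have := (Nat.dvd_sub h5 h4)
          rwa [Nat.sub_sub_self (by omega)] at this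
        exact hpp.one_lt.ne' (Nat.dvd_one.mp h7)
      rw [hk0, pow_zero] at hk
      exact hx1 (orderOf_eq_one_iff.mp hk)
    · haveI := hnormal
      have h3 := IsPGroup.to_sup_of_normal_right P.2 hNp
      have h4 := P.3 h3 le_sup_left
      rw [← h4]
      exact le_sup_right
  rw [hPN]
  refine ⟨hnormal, ⟨⟨fun a b => Subtype.ext (hcomm a.1 a.2 b.1 b.2)⟩⟩, hexp, ?_, ?_, hmem⟩
  · constructor
    intro a b
    obtain ⟨g, hg, hgab⟩ := kernel_transitive N (fun g hg => (hmem g).mp hg) hcard a b
    exact ⟨⟨g, hg⟩, hgab⟩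
  · intro a
    rw [eq_bot_iff]
    intro g hg
    rw [Subgroup.mem_bot]
    rcases (hmem g.1).mp g.2 with h | h
    · exact Subtype.ext h
    · exact absurd (MulAction.mem_stabilizer_iff.mp hg) (h a)

end Cfsg.Agent.S0680
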