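import Mathlib
import Cfsg.Statements.S1226
import Cfsg.Agent.Lib.Lead.KleinSylow
import Cfsg.Agent.Lib.Lead.StronglyEmbedded
import Cfsg.Agent.Lib.Lead.CjMore

set_option autoImplicit false
open Cfsg

namespace Cfsg.Agent.S1226

open Cfsg.Agent.Lib.Lead Cfsg.Agent.Lib.Lead.BaerSuzuki

/-- under the hypothesis, the Sylow 2-subgroup is the centralizer of each of its involutions -/
theorem centralizer_eq_sylow {G : Type*} [Group G] [Finite G] (T : Sylow 2 G)
    (hnc : ¬ IsCyclic (T : Subgroup G))
    (hC : ∀ t : G, orderOf t = 2 → IsMulCommutative (Subgroup.centralizer ({t} : Set G)) ∧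
      ∀ c ∈ Subgroup.centralizer ({t} : Set G), c ^ 2 = 1)
    (s : G) (hs : orderOf s = 2) (hsT : s ∈ T) :
    Subgroup.centralizer ({s} : Set G) = T := by
  haveI : Fact (Nat.Prime 2) := ⟨Nat.prime_two⟩
  have h2grp : ∀ t : G, orderOf t = 2 → IsPGroup 2 (Subgroup.centralizer ({t} : Set G)) := by
    intro t ht c
    refine ⟨1, ?_⟩
    apply Subtype.ext
    have := (hC t ht).2 c.1 c.2
    simpa using this
  -- T is nontrivial
  have hTne : (T : Subgroup G) ≠ ⊥ := by
    intro h
    apply hnc
    rw [h]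
    infer_instance
  haveI : Nontrivial (T : Subgroup G) := (Subgroup.nontrivial_iff_ne_bot _).mpr hTne
  -- a central involution of T
  have hcen : Nontrivial (Subgroup.center (T : Subgroup G)) := T.2.center_nontrivial
  have hcen2 : 2 ∣ Nat.card (Subgroup.center (T : Subgroup G)) := by
    rcases (T.2.to_subgroup (Subgroup.center (T : Subgroup G))).card_eq_or_dvd with h | h
    · exfalso
      have := (Subgroup.nontrivial_iff_ne_bot _).mp hcen
      exact this (Subgroup.card_eq_one.mp h)
    · exact h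
  obtain ⟨z, hz⟩ := exists_prime_orderOf_dvd_card' 2 hcen2
  have hzG : orderOf ((z : (T : Subgroup G)) : G) = 2 := by
    rw [Subgroup.orderOf_coe, Subgroup.orderOf_coe]; exact hz
  have hTz : (T : Subgroup G) ≤ Subgroup.centralizer ({((z : (T : Subgroup G)) : G)} : Set G) := by
    intro x hx
    rw [Subgroup.mem_centralizer_singleton_iff]
    have := (Subgroup.mem_center_iff.mp z.2) ⟨x, hx⟩
    exact congrArg Subtype.val this
  have hCz : Subgroup.centralizer ({((z : (T : Subgroup G)) : G)} : Set G) = T :=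
    T.3 (h2grp _ hzG) hTz
  -- T is commutative
  have hcomm : ∀ x ∈ (T : Subgroup G), ∀ y ∈ (T : Subgroup G), x * y = y * x := by
    intro x hx y hy
    have hc := (hC _ hzG).1
    rw [← hCz] at hx hy
    have := hc.is_comm.comm ⟨x, hx⟩ ⟨y, hy⟩
    exact congrArg Subtype.val this
  have hTs : (T : Subgroup G) ≤ Subgroup.centralizer ({s} : Set G) := by
    intro x hx
    rw [Subgroup.mem_centralizer_singleton_iff]
    exact hcomm x hx s hsT
  exact T.3 (h2grp s hs) hTs

/-- Let G be a finite group with a Sylow 2-subgroup T that is neither cyclic nor normal, such that the centralizer of every involution is an elementary abelian 2-group. Then N_G(T) is a strongly embedded subgroup of G. -/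
theorem result {G : Type*} [Group G] [Finite G] (T : Sylow 2 G) (hnc : ¬ IsCyclic (T : Subgroup G)) (hnn : ¬ (T : Subgroup G).Normal) (hC : ∀ t : G, orderOf t = 2 → IsMulCommutative (Subgroup.centralizer ({t} : Set G)) ∧ ∀ c ∈ Subgroup.centralizer ({t} : Set G), c ^ 2 = 1) : Cfsg.IsStronglyEmbedded (Subgroup.normalizer ((T : Subgroup G) : Set G)) := by
  haveI : Fact (Nat.Prime 2) := ⟨Nat.prime_two⟩
  set H := Subgroup.normalizer ((T : Subgroup G) : Set G) with hH
  have hHtop : H ≠ ⊤ := by
    intro h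
    apply hnn
    exact Subgroup.normalizer_eq_top_iff.mp h
  have hTne : (T : Subgroup G) ≠ ⊥ := by
    intro h
    apply hnc
    rw [h]
    infer_instance
  have hev : Even (Nat.card H) := by
    rcases T.2.card_eq_or_dvd with h | h
    · exact absurd (Subgroup.card_eq_one.mp h) hTne
    · exact even_iff_two_dvd.mpr (h.trans (Subgroup.card_dvd_of_le Subgroup.le_normalizer))
  rw [stronglyEmbedded_iff H hHtop hev]
  intro g hg s hs hsH hconj
  apply hg
  have hs' : orderOf (g⁻¹ * s * g) = 2 := by
    have := (MulAut.conj g⁻¹).orderOf_eq s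
    simp only [MulAut.conj_apply, inv_inv] at this
    rw [this, hs]
  have hsT : s ∈ T := KleinSylow.mem_of_two_elt_normalizer T s hsH 1 (by rw [hs]; norm_num)
  have hsT' : g⁻¹ * s * g ∈ T :=
    KleinSylow.mem_of_two_elt_normalizer T _ hconj 1 (by rw [hs']; norm_num)
  have h1 := centralizer_eq_sylow T hnc hC s hs hsT
  have h2 := centralizer_eq_sylow T hnc hC _ hs' hsT'
  -- g⁻¹ T g = T
  have h3 : cj (T : Subgroup G) g⁻¹ = T := by
    ext x
    rw [mem_cj, inv_inv]
    have e1 : g * x * g⁻¹ ∈ (T : Subgroup G) ↔ g * x * g⁻¹ ∈ Subgroup.centralizer ({s} : Set G) := by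
      rw [h1]
    have e2 : x ∈ (T : Subgroup G) ↔ x ∈ Subgroup.centralizer ({g⁻¹ * s * g} : Set G) := by
      rw [h2]
    rw [e1, e2, Subgroup.mem_centralizer_singleton_iff, Subgroup.mem_centralizer_singleton_iff]
    constructor
    · intro h
      calc x * (g⁻¹ * s * g) = g⁻¹ * ((g * x * g⁻¹) * s) * g := by group
        _ = g⁻¹ * (s * (g * x * g⁻¹)) * g := by rw [h]
        _ = g⁻¹ * s * g * x := by group
    · intro h
      calc g * x * g⁻¹ * s = g * (x * (g⁻¹ * s * g)) * g⁻¹ := by group
        _ = g * ((g⁻¹ * s * g) * x) * g⁻¹ := by rw [h]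
        _ = s * (g * x * g⁻¹) := by group
  have h4 := mem_normalizer_of_cj_eq (T : Subgroup G) g⁻¹ h3
  have := H.inv_mem h4
  rwa [inv_inv] at this

end Cfsg.Agent.S1226
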