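import Mathlib
import Cfsg.Statements.S1229
import Cfsg.Agent.Lib.Lead.SEElem2

set_option autoImplicit false
open Cfsg

namespace Cfsg.Agent.S1229

open Cfsg.Agent.Lib.Lead Cfsg.Agent.Lib.Lead.SE

theorem exists_to_base {G : Type*} [Group G] (H : Subgroup G) (x : G ⧸ H) :
    ∃ k : G, k • x = ((1 : G) : G ⧸ H) := by
  induction x using QuotientGroup.induction_on with
  | H a =>
  refine ⟨a⁻¹, ?_⟩
  show ((a⁻¹ * a : G) : G ⧸ H) = ((1 : G) : G ⧸ H)
  rw [inv_mul_cancel]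

/-- Let G be a finite group with a Sylow 2-subgroup T that is neither cyclic nor normal, such that the centralizer of every involution is an elementary abelian 2-group; put H = N_G(T) and X = G/H. Then G is triply transitive on X, an element fixing three distinct points of X is the identity, and T acts regularly on X minus the point H. -/
theorem result {G : Type*} [Group G] [Finite G] (T : Sylow 2 G) (hnc : ¬ IsCyclic (T : Subgroup G)) (hnn : ¬ (T : Subgroup G).Normal) (hC : ∀ t : G, orderOf t = 2 → IsMulCommutative (Subgroup.centralizer ({t} : Set G)) ∧ ∀ c ∈ Subgroup.centralizer ({t} : Set G), c ^ 2 = 1) : (∀ x₁ x₂ x₃ y₁ y₂ y₃ : G ⧸ Subgroup.normalizer ((T : Subgroup G) : Set G), x₁ ≠ x₂ → x₁ ≠ x₃ → x₂ ≠ x₃ → y₁ ≠ y₂ → y₁ ≠ y₃ → y₂ ≠ y₃ → ∃ g : G, g • x₁ = y₁ ∧ g • x₂ = y₂ ∧ g • x₃ = y₃) ∧ (∀ g : G, ∀ x₁ x₂ x₃ : G ⧸ Subgroup.normalizer ((T : Subgroup G) : Set G), x₁ ≠ x₂ → x₁ ≠ x₃ → x₂ ≠ x₃ → g • x₁ = x₁ → g •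 x₂ = x₂ → g • x₃ = x₃ → g = 1) ∧ (∀ x y : G ⧸ Subgroup.normalizer ((T : Subgroup G) : Set G), x ≠ QuotientGroup.mk 1 → y ≠ QuotientGroup.mk 1 → ∃! t : G, t ∈ T ∧ t • x = y) := by
  have h : ElemHyp T := ⟨hnc, hnn, hC⟩
  set H := Subgroup.normalizer ((T : Subgroup G) : Set G) with hH
  set b : G ⧸ H := ((1 : G) : G ⧸ H) with hb
  have hHb : ∀ g ∈ H, g • b = b := by
    intro g hg
    have : g ∈ MulAction.stabilizer G b := by rw [hb, MulAction.stabilizer_quotient]; exact hg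
    exact MulAction.mem_stabilizer_iff.mp this
  refine ⟨?_, ?_, ?_⟩
  · intro x₁ x₂ x₃ y₁ y₂ y₃ hx12 hx13 hx23 hy12 hy13 hy23
    obtain ⟨g₁, hg₁⟩ : ∃ k : G, k • x₁ = b := exists_to_base H x₁
    obtain ⟨g₂, hg₂⟩ : ∃ k : G, k • y₁ = b := exists_to_base H y₁
    have e1 : b ≠ g₁ • x₂ := by
      rw [← hg₁]; exact fun he => hx12 (smul_left_cancel g₁ he)
    have e2 : b ≠ g₂ • y₂ := by
      rw [← hg₂]; exact fun he => hy12 (smul_left_cancel g₂ he)
    obtain ⟨h₁, hh₁, hh₁x⟩ := h.transitive_base e1 e2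
    have e3 : b ≠ (h₁ * g₁) • x₃ := by
      intro he
      rw [mul_smul] at he
      have : h₁ • b = h₁ • (g₁ • x₃) := by rw [hHb h₁ hh₁]; exact he
      have := smul_left_cancel h₁ this
      rw [← hg₁] at this
      exact hx13 (smul_left_cancel g₁ this)
    have e4 : g₂ • y₂ ≠ (h₁ * g₁) • x₃ := by
      intro he
      rw [mul_smul, ← hh₁x] at he
      exact hx23 (smul_left_cancel g₁ (smul_left_cancel h₁ he))
    have e5 : b ≠ g₂ • y₃ := by
      rw [← hg₂]; exact fun he => hy13 (smul_left_cancel g₂ he)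
    have e6 : g₂ • y₂ ≠ g₂ • y₃ := fun he => hy23 (smul_left_cancel g₂ he)
    obtain ⟨d, hd, hdz⟩ := h.transitive_two_point e2 e3 e4 e5 e6
    have hdb : d • b = b := MulAction.mem_stabilizer_iff.mp (Subgroup.mem_inf.mp hd).2
    have hdy : d • (g₂ • y₂) = g₂ • y₂ := MulAction.mem_stabilizer_iff.mp (Subgroup.mem_inf.mp hd).1
    refine ⟨g₂⁻¹ * d * h₁ * g₁, ?_, ?_, ?_⟩
    · rw [mul_smul, hg₁, mul_smul, hHb h₁ hh₁, mul_smul, hdb, ← hg₂, ← mul_smul, inv_mul_cancel, one_smul]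
    · rw [mul_smul, mul_smul, hh₁x, mul_smul, hdy, ← mul_smul, inv_mul_cancel, one_smul]
    · have : (g₂⁻¹ * d * h₁ * g₁) • x₃ = g₂⁻¹ • (d • ((h₁ * g₁) • x₃)) := by
        simp only [mul_smul]
      rw [this, hdz, ← mul_smul, inv_mul_cancel, one_smul]
  · intro g x₁ x₂ x₃ hx12 hx13 hx23 hg1 hg2 hg3
    obtain ⟨k, hk⟩ : ∃ k : G, k • x₁ = b := exists_to_base H x₁
    have e1 : b ≠ k • x₂ := by
      rw [← hk]; exact fun he => hx12 (smul_left_cancel k he)
    have e2 : b ≠ k • x₃ := by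
      rw [← hk]; exact fun he => hx13 (smul_left_cancel k he)
    have e3 : k • x₂ ≠ k • x₃ := fun he => hx23 (smul_left_cancel k he)
    have f1 : (k * g * k⁻¹) • b = b := by
      rw [← hk, ← mul_smul, inv_mul_cancel_right, mul_smul, hg1]
    have f2 : (k * g * k⁻¹) • (k • x₂) = k • x₂ := by
      rw [← mul_smul, inv_mul_cancel_right, mul_smul, hg2]
    have f3 : (k * g * k⁻¹) • (k • x₃) = k • x₃ := by
      rw [← mul_smul, inv_mul_cancel_right, mul_smul, hg3]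
    have := h.three_point_base e1 e2 e3 f1 f2 f3
    have h2 : g = k⁻¹ * (k * g * k⁻¹) * k := by group
    rw [h2, this]; group
  · intro x y hx hy
    exact h.regular_T hx.symm hy.symm

end Cfsg.Agent.S1229
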