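import Mathlib
import Cfsg.Statements.S1230
import Cfsg.Agent.Lib.Lead.S3B
import Cfsg.Agent.Lib.Lead.SEElem2
import Cfsg.Agent.S1229

set_option autoImplicit false

open Cfsg

namespace Cfsg.Agent.S1230

theorem result {G : Type*} [Group G] [Finite G] (T : Sylow 2 G) (hnc : ¬ IsCyclic (T : Subgroup G)) (hnn : ¬ (T : Subgroup G).Normal) (hC : ∀ t : G, orderOf t = 2 → IsMulCommutative (Subgroup.centralizer ({t} : Set G)) ∧ ∀ c ∈ Subgroup.centralizer ({t} : Set G), c ^ 2 = 1) : ∃ (F : Type) (_ : Field F) (_ : Fintype F), Fintype.card F = Nat.card T ∧ Nonempty (G ≃* Matrix.ProjectiveSpecialLinearGroup (Fin 2) F) := by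
  classical
  have h : Cfsg.Agent.Lib.Lead.SE.ElemHyp T := ⟨hnc, hnn, hC⟩
  obtain ⟨h3t, hsh, -⟩ := Cfsg.Agent.S1229.result T hnc hnn hC
  haveI : Fintype (G ⧸ Subgroup.normalizer ((T : Subgroup G) : Set G)) := Fintype.ofFinite _
  haveI : Fact (Nat.Prime 2) := ⟨Nat.prime_two⟩
  obtain ⟨f, hf⟩ := IsPGroup.iff_card.mp T.isPGroup'
  have hfT : Nat.card T = 2 ^ f := hf
  have hf1 : 1 ≤ f := by
    rcases Nat.eq_zero_or_pos f with h0 | h0
    · exfalso
      rw [h0, pow_zero] at hfT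
      exact h.card_ne_one hfT
    · exact h0
  have hcX : Fintype.card (G ⧸ Subgroup.normalizer ((T : Subgroup G) : Set G)) = 2 ^ f + 1 := by
    rw [← Nat.card_eq_fintype_card, h.card_points, hfT]
  have h2f : 1 < 2 ^ f := Nat.one_lt_two_pow (by omega)
  obtain ⟨x0⟩ : Nonempty (Fin 3 ↪ G ⧸ Subgroup.normalizer ((T : Subgroup G) : Set G)) := by
    apply Function.Embedding.nonempty_of_card_le
    rw [Fintype.card_fin, hcX]
    omega
  have hne : ∀ (x : Fin 3 ↪ G ⧸ Subgroup.normalizer ((T : Subgroup G) : Set G)),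
      x 0 ≠ x 1 ∧ x 0 ≠ x 2 ∧ x 1 ≠ x 2 := fun x =>
    ⟨fun e => absurd (x.injective e) (by decide), fun e => absurd (x.injective e) (by decide),
      fun e => absurd (x.injective e) (by decide)⟩
  let φ : G →* Equiv.Perm (G ⧸ Subgroup.normalizer ((T : Subgroup G) : Set G)) :=
    MulAction.toPermHom G _
  have hφ : ∀ g x, φ g x = g • x := fun g x => rfl
  have hinj : Function.Injective φ := by
    rw [injective_iff_map_eq_one]
    intro g hg
    have hfix : ∀ x, g • x = x := fun x => by rw [← hφ, hg]; rfl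
    exact hsh g (x0 0) (x0 1) (x0 2) (hne x0).1 (hne x0).2.1 (hne x0).2.2 (hfix _) (hfix _) (hfix _)
  have h3 : MulAction.IsMultiplyPretransitive φ.range
      (G ⧸ Subgroup.normalizer ((T : Subgroup G) : Set G)) 3 := by
    rw [MulAction.isMultiplyPretransitive_iff]
    intro x y
    obtain ⟨g, hg0, hg1, hg2⟩ := h3t (x 0) (x 1) (x 2) (y 0) (y 1) (y 2) (hne x).1 (hne x).2.1
      (hne x).2.2 (hne y).1 (hne y).2.1 (hne y).2.2
    refine ⟨⟨φ g, g, rfl⟩, ?_⟩
    ext i : 1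
    rw [Function.Embedding.smul_apply]
    change g • x i = y i
    fin_cases i
    · exact hg0
    · exact hg1
    · exact hg2
  have hsharp : ∀ x : Fin 3 ↪ G ⧸ Subgroup.normalizer ((T : Subgroup G) : Set G),
      MulAction.stabilizer φ.range x = ⊥ := by
    intro x
    rw [eq_bot_iff]
    rintro ⟨_, g, rfl⟩ hst
    rw [Subgroup.mem_bot]
    rw [MulAction.mem_stabilizer_iff] at hst
    have hgx : ∀ i, g • x i = x i := fun i => by
      have := DFunLike.congr_fun hst i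
      exact this
    have hg1 : g = 1 := hsh g (x 0) (x 1) (x 2) (hne x).1 (hne x).2.1 (hne x).2.2
      (hgx 0) (hgx 1) (hgx 2)
    apply Subtype.ext
    change φ g = 1
    rw [hg1, map_one]
  obtain ⟨F, fld, ft, hcF, ⟨e⟩⟩ := Cfsg.Agent.Lib.Lead.S3.sharp3_pgl φ.range h3 hsharp hf1 hcX
  have h2 : ringChar F = 2 := Cfsg.Agent.Lib.Lead.S3.ringChar_two_of_card hcF
  exact ⟨F, fld, ft, hcF.trans hfT.symm,
    ⟨(MonoidHom.ofInjective hinj).trans
      (e.trans (Cfsg.Agent.Lib.Lead.S3.pslEquivPgl F h2).symm)⟩⟩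

end Cfsg.Agent.S1230
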