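import Cfsg.Statements.S3779
import Cfsg.Agent.Lib.Helper9.HkkG
import Cfsg.Agent.Lib.Helper1.ThompsonFPF5

set_option autoImplicit false
open Cfsg

namespace Cfsg.Agent.S3779

/-- Let G be a finite group with an automorphism of prime order p fixing only the identity. Then G is nilpotent; if p = 2 then G is abelian, if p = 3 then G has class at most 2, and in general the class of G is at most ξ = 1 + (p−1) + (p−1)² + ⋯ + (p−1)^(n−1) with n = 2^(p−1) − 1 (the Higman–Kreknin–Kostrikin bound). -/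
theorem result {G : Type*} [Group G] [Finite G] {p : ℕ} (hp : p.Prime) (α : MulAut G) (hα : orderOf α = p) (hfpf : ∀ g : G, α g = g → g = 1) : (p = 2 → (⊤ : Subgroup G).lowerCentralSeries 1 = ⊥) ∧ (p = 3 → (⊤ : Subgroup G).lowerCentralSeries 2 = ⊥) ∧ (⊤ : Subgroup G).lowerCentralSeries (Finset.sum (Finset.range (2 ^ (p - 1) - 1)) (fun i => (p - 1) ^ i)) = ⊥ := by
  haveI : Fact p.Prime := ⟨hp⟩
  have hff : MonoidHom.FixedPointFree ((α : G ≃* G) : G →* G) := fun g hg => hfpf g hg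
  have hnil : Group.IsNilpotent G :=
    Cfsg.Agent.Lib.Helper1.ThompsonFPF.thompson_fpf α hff p hp hα
  refine ⟨?_, ?_, ?_⟩
  · intro h2
    subst h2
    refine Cfsg.Agent.Lib.Helper9.Hkk.hkk_group_aux α hα hfpf hnil 1 (fun F hF => ?_)
    have := Cfsg.Agent.Lib.Helper9.Hkk.hkk_family hF
    have e : Cfsg.Agent.Lib.Helper9.Hkk.hkkBound 2 (2 ^ (2 - 1) - 1) = 1 := by
      simp [Cfsg.Agent.Lib.Helper9.Hkk.hkkBound]
    rwa [e] at this
  · intro h3
    subst h3
    exact Cfsg.Agent.Lib.Helper9.Hkk.hkk_group_aux α hα hfpf hnil 2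
      (fun F hF => Cfsg.Agent.Lib.Helper9.Hkk.nil_three hF)
  · exact Cfsg.Agent.Lib.Helper9.Hkk.hkk_group_aux α hα hfpf hnil _
      (fun F hF => Cfsg.Agent.Lib.Helper9.Hkk.hkk_family hF)

end Cfsg.Agent.S3779
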