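import Cfsg.Statements.S3780
import Cfsg.Agent.Lib.Helper2.FrattiniRank
import Cfsg.Agent.Lib.Helper1.FrattiniP

set_option autoImplicit false
open Cfsg

namespace Cfsg.Agent.S3780

open Cfsg.Agent.Lib.Helper2

variable {V : Type*} [CommGroup V]

/-- the endomorphism `v ↦ α v * v⁻¹` -/
def DD (α : MulAut V) : V →* V where
  toFun v := α v * v⁻¹
  map_one' := by simp
  map_mul' x y := by rw [map_mul, mul_inv]; exact mul_mul_mul_comm _ _ _ _

theorem DD_apply (α : MulAut V) (v : V) : DD α v = α v * v⁻¹ := rfl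

/-- iterates of `DD` as honest homomorphisms -/
def Dp (α : MulAut V) : ℕ → (V →* V)
  | 0 => MonoidHom.id V
  | j + 1 => (DD α).comp (Dp α j)

theorem Dp_zero (α : MulAut V) (v : V) : Dp α 0 v = v := rfl

theorem Dp_succ (α : MulAut V) (j : ℕ) (v : V) : Dp α (j + 1) v = DD α (Dp α j v) := rfl

theorem Dp_succ' (α : MulAut V) (j : ℕ) (v : V) : Dp α (j + 1) v = Dp α j (DD α v) := by
  induction j with
  | zero => rfl
  | succ j ih => rw [Dp_succ, ih, ← Dp_succ]

/-- the additive version of `α` -/
def aa (α : MulAut V) : AddMonoid.End (Additive V) := MonoidHom.toAdditive α.toMonoidHom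

theorem aa_apply (α : MulAut V) (x : Additive V) : aa α x = Additive.ofMul (α (Additive.toMul x)) := rfl

theorem aa_pow (α : MulAut V) (j : ℕ) (x : Additive V) :
    (aa α ^ j) x = Additive.ofMul ((α ^ j) (Additive.toMul x)) := by
  induction j generalizing x with
  | zero => simp
  | succ j ih =>
    rw [pow_succ', pow_succ']
    show aa α ((aa α ^ j) x) = _
    rw [ih, aa_apply]
    rfl

theorem dd_pow (α : MulAut V) (j : ℕ) (v : V) :
    Additive.ofMul (Dp α j v) = ((aa α - 1) ^ j) (Additive.ofMul v) := by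
  induction j generalizing v with
  | zero => simp [Dp_zero]
  | succ j ih =>
    rw [pow_succ', Dp_succ]
    show Additive.ofMul (DD α (Dp α j v)) = (aa α - 1) (((aa α - 1) ^ j) (Additive.ofMul v))
    rw [← ih, DD_apply, ← div_eq_mul_inv]
    rfl

/-- evaluation at a point -/
def evalHom {A : Type*} [AddCommGroup A] (x : A) : AddMonoid.End A →+ A where
  toFun f := f x
  map_zero' := rfl
  map_add' _ _ := rfl

/-- the binomial argument -/
theorem DD_pow_prime (α : MulAut V) {p : ℕ} (hp : p.Prime) (hα : α ^ p = 1) (v : V) :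
    ∃ w : V, Dp α p v = w ^ p := by
  set a := aa α with ha
  set d := a - 1 with hd
  have hap : a ^ p = 1 := by
    ext x
    rw [aa_pow, hα]
    rfl
  have hbin : (d + 1) ^ p = ∑ m ∈ Finset.range (p + 1), d ^ m * 1 ^ (p - m) * (p.choose m : AddMonoid.End (Additive V)) :=
    Commute.add_pow (Commute.one_right d) p
  have hda : d + 1 = a := sub_add_cancel a 1
  rw [hda, hap] at hbin
  obtain ⟨q, rfl⟩ : ∃ q, p = q + 1 := ⟨p - 1, by have := hp.pos; omega⟩
  set x := Additive.ofMul v with hx
  have h1 := congrArg (evalHom x) hbin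
  rw [map_sum, Finset.sum_range_succ, Finset.sum_range_succ'] at h1
  simp only [one_pow, mul_one, pow_zero, Nat.choose_zero_right, Nat.cast_one, Nat.choose_self] at h1
  -- the middle terms are multiples of `p`
  have hmid : ∀ m ∈ Finset.range q, ∃ y : Additive V,
      evalHom x (d ^ (m + 1) * ((q + 1).choose (m + 1) : AddMonoid.End (Additive V))) = (q + 1) • y := by
    intro m hm
    have hdvd : (q + 1) ∣ (q + 1).choose (m + 1) :=
      hp.dvd_choose_self (by omega) (by have := Finset.mem_range.mp hm; omega)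
    obtain ⟨c, hc⟩ := hdvd
    refine ⟨c • (d ^ (m + 1)) x, ?_⟩
    show (d ^ (m + 1)) ((((q + 1).choose (m + 1) : ℕ) : AddMonoid.End (Additive V)) x) = _
    rw [AddMonoid.End.natCast_apply, map_nsmul, hc, mul_smul]
  have hsum : ∃ y : Additive V, ∑ m ∈ Finset.range q,
      evalHom x (d ^ (m + 1) * ((q + 1).choose (m + 1) : AddMonoid.End (Additive V))) = (q + 1) • y := by
    choose! f hf using hmid
    refine ⟨∑ m ∈ Finset.range q, f m, ?_⟩
    rw [Finset.smul_sum]
    exact Finset.sum_congr rfl hf
  obtain ⟨y, hy⟩ := hsum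
  rw [hy] at h1
  have h2 : (d ^ (q + 1)) x = (q + 1) • (-y) := by
    have e1 : evalHom x (1 : AddMonoid.End (Additive V)) = x := rfl
    have e2 : evalHom x (d ^ (q + 1)) = (d ^ (q + 1)) x := rfl
    rw [e1, e2] at h1
    have h5 : 0 + x = ((q + 1) • y + (d ^ (q + 1)) x) + x := by
      rw [zero_add]
      conv_lhs => rw [h1]
      abel
    have h6 : 0 = (q + 1) • y + (d ^ (q + 1)) x := add_right_cancel h5
    rw [smul_neg]
    exact (neg_eq_of_add_eq_zero_right h6.symm).symm
  refine ⟨Additive.toMul (-y), ?_⟩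
  have h3 := dd_pow α (q + 1) v
  rw [h2] at h3
  exact h3

/-- the chain `Φ(V) · Dʲ(V)` -/
def U (α : MulAut V) (j : ℕ) : Subgroup V := frattini V ⊔ (Dp α j).range

theorem range_pow_succ_le (α : MulAut V) (j : ℕ) :
    (Dp α (j + 1)).range ≤ (Dp α j).range := by
  rintro _ ⟨v, rfl⟩
  exact ⟨DD α v, (Dp_succ' α j v).symm⟩

theorem U_succ_le (α : MulAut V) (j : ℕ) : U α (j + 1) ≤ U α j :=
  sup_le_sup_left (range_pow_succ_le α j) _

theorem relIndex_U_le [Finite V] (α : MulAut V) (j : ℕ) :
    (U α (j + 1)).relIndex (U α j) ≤ Nat.card {v : V // α v = v} := by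
  set N := U α (j + 1) with hN
  set f : V →* V ⧸ N := (QuotientGroup.mk' N).comp (Dp α j) with hf
  have hΦN : frattini V ≤ N := le_sup_left
  have h1 : (U α j).map (QuotientGroup.mk' N) = f.range := by
    rw [U, Subgroup.map_sup, MonoidHom.map_range, hf]
    have : (frattini V).map (QuotientGroup.mk' N) = ⊥ := by
      rw [Subgroup.map_eq_bot_iff, QuotientGroup.ker_mk']
      exact hΦN
    rw [this, bot_sup_eq]
  have h2 : N.relIndex (U α j) = Nat.card f.range := by
    have h3 := Subgroup.relIndex_comap (H := (⊥ : Subgroup (V ⧸ N))) (QuotientGroup.mk' N) (U α j)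
    rw [MonoidHom.comap_bot, QuotientGroup.ker_mk', Subgroup.relIndex_bot_left, h1] at h3
    exact h3
  rw [h2, ← Subgroup.index_ker]
  have h4 : (DD α).range ≤ f.ker := by
    rintro _ ⟨v, rfl⟩
    rw [MonoidHom.mem_ker, hf, MonoidHom.comp_apply, QuotientGroup.mk'_apply,
      QuotientGroup.eq_one_iff]
    apply Subgroup.mem_sup_right
    exact ⟨v, Dp_succ' α j v⟩
  have h5 : f.ker.index ≤ (DD α).range.index :=
    Nat.le_of_dvd (Nat.pos_of_ne_zero Subgroup.index_ne_zero_of_finite)
      (Subgroup.index_dvd_of_le h4)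
  refine h5.trans (le_of_eq ?_)
  have h6 := (DD α).ker.card_mul_index
  have h7 := (DD α).range.card_mul_index
  rw [Subgroup.index_ker] at h6
  rw [← h6, mul_comm] at h7
  have h8 := Nat.eq_of_mul_eq_mul_right Nat.card_pos h7
  rw [h8]
  apply Nat.card_congr
  exact
    { toFun := fun v => ⟨v.1, by
        have := MonoidHom.mem_ker.mp v.2
        rw [DD_apply, mul_inv_eq_one] at this
        exact this⟩
      invFun := fun v => ⟨v.1, by
        rw [MonoidHom.mem_ker, DD_apply, mul_inv_eq_one]
        exact v.2⟩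
      left_inv := fun v => rfl
      right_inv := fun v => rfl }

theorem index_frattini_le [Finite V] {p : ℕ} [Fact p.Prime] (hV : IsPGroup p V) (α : MulAut V)
    (hα : α ^ p = 1) (n : ℕ) (hfix : Nat.card {v : V // α v = v} = p ^ n) :
    (frattini V).index ≤ p ^ (p * n) := by
  have hp : p.Prime := Fact.out
  have hidx : ∀ j : ℕ, (U α j).index ≤ p ^ (n * j) := by
    intro j
    induction j with
    | zero =>
      have : U α 0 = ⊤ := by
        rw [U, eq_top_iff]
        intro v _
        exact Subgroup.mem_sup_right ⟨v, rfl⟩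
      rw [this, Subgroup.index_top, mul_zero, pow_zero]
    | succ j ih =>
      rw [← Subgroup.relIndex_mul_index (U_succ_le α j), mul_add, mul_one, pow_add, mul_comm]
      exact Nat.mul_le_mul ih (hfix ▸ relIndex_U_le α j)
  have hUp : U α p = frattini V := by
    rw [U, sup_eq_left]
    rintro _ ⟨v, rfl⟩
    obtain ⟨w, hw⟩ := DD_pow_prime α hp hα v
    rw [hw]
    exact Cfsg.Agent.Lib.Helper1.pow_prime_mem_frattini_of_isPGroup p hV w
  rw [← hUp, mul_comm]
  exact hidx p

/-- Let V be a finite abelian p-group and α an automorphism of V of order p whose fixed-point subgroup has order p^n. Then V can be generated by pn elements: some subset of V with at most pn elements generates V. -/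
theorem result {V : Type*} [CommGroup V] [Finite V] {p : ℕ} [Fact p.Prime] (hV : IsPGroup p V) (α : MulAut V) (hα : orderOf α = p) (n : ℕ) (hfix : Nat.card {v : V // α v = v} = p ^ n) : ∃ S : Finset V, S.card ≤ p * n ∧ Subgroup.closure (S : Set V) = ⊤ := by
  have hαp : α ^ p = 1 := by rw [← hα, pow_orderOf_eq_one]
  exact exists_generators_of_index_frattini_le hV (index_frattini_le hV α hαp n hfix)

end Cfsg.Agent.S3780
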