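import Mathlib
import Cfsg.Statements.S1024

set_option autoImplicit false
open Cfsg

namespace Cfsg.Agent.S1024

open Cfsg.Lie

/-- The table fact: `-r` is in range and differs from `r`. -/
def NegOK (D : ChevalleyDatum) : Prop :=
  ∀ r < D.nroots, D.negIdx.getD r 0 < D.nroots ∧ D.negIdx.getD r 0 ≠ r

instance (D : ChevalleyDatum) : Decidable (NegOK D) := by unfold NegOK; infer_instance

set_option maxRecDepth 100000 in
theorem negOK_G2 : NegOK chevG2 := by decide
set_option maxRecDepth 100000 in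
theorem negOK_B2 : NegOK chevB2 := by decide
set_option maxRecDepth 100000 in
theorem negOK_D4 : NegOK chevD4 := by decide
set_option maxRecDepth 100000 in
theorem negOK_F4 : NegOK chevF4 := by decide
set_option maxRecDepth 100000 in
theorem negOK_E6 : NegOK chevE6 := by decide
set_option maxRecDepth 100000 in
theorem negOK_E7 : NegOK chevE7 := by decide
set_option maxRecDepth 100000 in
theorem negOK_E8 : NegOK chevE8 := by decide

theorem chainCoeff_pos (D : ChevalleyDatum) (r s u : ℕ) (km : ℕ × ℤ) (h : km ∈ D.chainCoeff r s u) :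
    km.1 ≠ 0 := by
  unfold ChevalleyDatum.chainCoeff at h
  rw [List.mem_flatMap] at h
  obtain ⟨e, _, he⟩ := h
  rw [List.mem_map] at he
  obtain ⟨q, _, rfl⟩ := he
  exact Nat.succ_ne_zero _

theorem chain_sum_zero {F : Type*} [Field F] (D : ChevalleyDatum) (r s u : ℕ) :
    ((D.chainCoeff r s u).map fun km => ((km.2 : ℤ) : F) * (0 : F) ^ km.1).sum = 0 := by
  apply List.sum_eq_zero
  intro x hx
  rw [List.mem_map] at hx
  obtain ⟨km, hkm, rfl⟩ := hx
  rw [zero_pow (chainCoeff_pos D r s u km hkm), mul_zero]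

theorem xMat_zero {F : Type*} [Field F] (D : ChevalleyDatum) (r : Fin D.nroots) :
    D.xMat F r 0 = 1 := by
  ext row col
  unfold ChevalleyDatum.xMat
  rcases col with i | s <;> rcases row with i' | u
  · simp [Matrix.one_apply]
  · simp [Matrix.one_apply]
  · simp only [Matrix.of_apply]
    split_ifs <;> simp [Matrix.one_apply]
  · simp only [Matrix.of_apply]
    split_ifs
    all_goals first
      | (simp [*, Matrix.one_apply, chain_sum_zero]; done)
      | (subst_vars; simp [*, Matrix.one_apply, chain_sum_zero]; done)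

/-- `x_r(0) = 1`, and `x_r(t) = 1` forces `t = 0`: the map `t ↦ x_r(t)` is injective. -/
theorem result {F : Type*} [Field F] (D : Cfsg.Lie.ChevalleyDatum) (hD : D ∈ [Cfsg.Lie.chevG2, Cfsg.Lie.chevB2, Cfsg.Lie.chevD4, Cfsg.Lie.chevF4, Cfsg.Lie.chevE6, Cfsg.Lie.chevE7, Cfsg.Lie.chevE8]) (r : ℕ) (hr : r < D.nroots) (t : F) :
    D.x F r t = 1 ↔ t = 0 := by
  have hneg : NegOK D := by
    simp only [List.mem_cons, List.mem_nil_iff, or_false] at hD
    rcases hD with rfl | rfl | rfl | rfl | rfl | rfl | rfl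
    · exact negOK_G2
    · exact negOK_B2
    · exact negOK_D4
    · exact negOK_F4
    · exact negOK_E6
    · exact negOK_E7
    · exact negOK_E8
  obtain ⟨hlt, hne⟩ := hneg r hr
  unfold ChevalleyDatum.x
  rw [dif_pos hr]
  constructor
  · intro h
    obtain ⟨n, hn⟩ : ∃ n, n = D.negIdx.getD r 0 := ⟨_, rfl⟩
    rw [← hn] at hlt hne
    have hne' : (⟨n, hlt⟩ : Fin D.nroots) ≠ ⟨r, hr⟩ := by
      intro h; exact hne (Fin.mk.inj_iff.mp h)
    have := congrFun (congrFun h (Sum.inr ⟨r, hr⟩)) (Sum.inr ⟨n, hlt⟩)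
    rw [Matrix.one_apply_ne (by intro h; exact hne'.symm (Sum.inr.inj h))] at this
    unfold ChevalleyDatum.xMat at this
    simp only [Matrix.of_apply] at this
    rw [← hn] at this
    simpa [hne, Ne.symm hne] using this
  · rintro rfl
    exact xMat_zero D ⟨r, hr⟩

end Cfsg.Agent.S1024
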