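import Mathlib
import Cfsg.Statements.S0308

set_option autoImplicit false
open Cfsg

namespace Cfsg.Agent.S0308

/-- The union of the double cosets `B n B`. -/
def bnb {G : Type*} [Group G] (P : Cfsg.BNPair G) : Set G :=
  {g | ∃ n ∈ P.N, g ∈ DoubleCoset.doubleCoset n (P.B : Set G) P.B}

theorem mem_bnb {G : Type*} [Group G] (P : Cfsg.BNPair G) (g : G) :
    g ∈ bnb P ↔ ∃ n ∈ P.N, ∃ b ∈ P.B, ∃ b' ∈ P.B, g = b * n * b' := by
  unfold bnb
  simp only [Set.mem_ofPred_eq, DoubleCoset.mem_doubleCoset, SetLike.mem_coe]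

/-- The stabiliser of `bnb` under left multiplication. -/
def stab {G : Type*} [Group G] (P : Cfsg.BNPair G) : Subgroup G where
  carrier := {g | (∀ x ∈ bnb P, g * x ∈ bnb P) ∧ (∀ x ∈ bnb P, g⁻¹ * x ∈ bnb P)}
  one_mem' := by
    constructor <;> intro x hx <;> simpa using hx
  mul_mem' := by
    rintro a b ⟨ha1, ha2⟩ ⟨hb1, hb2⟩
    constructor
    · intro x hx
      rw [mul_assoc]
      exact ha1 _ (hb1 _ hx)
    · intro x hx
      rw [mul_inv_rev, mul_assoc]
      exact hb2 _ (ha2 _ hx)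
  inv_mem' := by
    rintro a ⟨ha1, ha2⟩
    refine ⟨ha2, ?_⟩
    intro x hx
    rw [inv_inv]
    exact ha1 x hx

theorem B_le_stab {G : Type*} [Group G] (P : Cfsg.BNPair G) : P.B ≤ stab P := by
  have key : ∀ b ∈ P.B, ∀ x ∈ bnb P, b * x ∈ bnb P := by
    intro b hb x hx
    rw [mem_bnb] at hx ⊢
    obtain ⟨n, hn, b1, hb1, b2, hb2, rfl⟩ := hx
    exact ⟨n, hn, b * b1, P.B.mul_mem hb hb1, b2, hb2, by group⟩
  intro b hb
  exact ⟨key b hb, key b⁻¹ (P.B.inv_mem hb)⟩

theorem S_sub_stab {G : Type*} [Group G] (P : Cfsg.BNPair G) : P.S ⊆ (stab P : Set G) := by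
  have key : ∀ s ∈ P.S, ∀ x ∈ bnb P, s * x ∈ bnb P := by
    intro s hs x hx
    rw [mem_bnb] at hx
    obtain ⟨n, hn, b1, hb1, b2, hb2, rfl⟩ := hx
    have h := P.mul_mem_union s hs n hn b1 hb1
    rw [mem_bnb]
    rcases h with h | h
    · rw [DoubleCoset.mem_doubleCoset] at h
      obtain ⟨c1, hc1, c2, hc2, h⟩ := h
      refine ⟨s * n, P.N.mul_mem (P.subset hs) hn, c1, hc1, c2 * b2, P.B.mul_mem hc2 hb2, ?_⟩
      calc s * (b1 * n * b2) = (s * b1 * n) * b2 := by group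
        _ = (c1 * (s * n) * c2) * b2 := by rw [h]
        _ = _ := by group
    · rw [DoubleCoset.mem_doubleCoset] at h
      obtain ⟨c1, hc1, c2, hc2, h⟩ := h
      refine ⟨n, hn, c1, hc1, c2 * b2, P.B.mul_mem hc2 hb2, ?_⟩
      calc s * (b1 * n * b2) = (s * b1 * n) * b2 := by group
        _ = (c1 * n * c2) * b2 := by rw [h]
        _ = _ := by group
  intro s hs
  refine ⟨key s hs, ?_⟩
  intro x hx
  have h1 : s⁻¹ = (s * s)⁻¹ * s := by group
  rw [h1, mul_assoc]
  exact (B_le_stab P (P.B.inv_mem (P.sq_mem s hs))).1 _ (key s hs x hx)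

theorem stab_eq_top {G : Type*} [Group G] (P : Cfsg.BNPair G) : stab P = ⊤ := by
  rw [eq_top_iff, ← P.sup_eq_top, sup_le_iff]
  refine ⟨B_le_stab P, ?_⟩
  rw [← P.closure_sup, sup_le_iff]
  refine ⟨(Subgroup.closure_le _).mpr (S_sub_stab P), ?_⟩
  exact inf_le_left.trans (B_le_stab P)

/-- Bruhat decomposition, existence part: every element of a group with a (B,N)-pair lies in some double
coset `B n B` with `n ∈ N`. -/
theorem result {G : Type*} [Group G] (P : Cfsg.BNPair G) (g : G) :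
    ∃ n ∈ P.N, g ∈ DoubleCoset.doubleCoset n (P.B : Set G) P.B := by
  have hg : g ∈ stab P := by rw [stab_eq_top]; trivial
  have h1 : (1 : G) ∈ bnb P := by
    rw [mem_bnb]
    exact ⟨1, P.N.one_mem, 1, P.B.one_mem, 1, P.B.one_mem, by group⟩
  have := hg.1 1 h1
  rw [mul_one] at this
  exact this

end Cfsg.Agent.S0308
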