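import Cfsg.Statements.S0309
import Cfsg.Agent.Lib.Helper4.BNPair2

set_option autoImplicit false
open Cfsg

namespace Cfsg.Agent.S0309

open Cfsg.Agent.Lib.Helper4.BNPair Cfsg.Agent.Lib.Helper4.BNAbstract

theorem result {G : Type*} [Group G] (P : Cfsg.BNPair G) {n n' : G}
    (hn : n ∈ P.N) (hn' : n' ∈ P.N) :
    DoubleCoset.doubleCoset n (P.B : Set G) P.B = DoubleCoset.doubleCoset n' (P.B : Set G) P.B ↔ n⁻¹ * n' ∈ P.B := by
  constructor
  · intro h
    have h1 : n' ∈ C P n := by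
      show n' ∈ DoubleCoset.doubleCoset n (P.B : Set G) P.B
      rw [h]; exact DoubleCoset.mem_doubleCoset_self _ _ _
    have h2 : π P n = π P n' := Cw_inj (by rw [Cw_π hn]; exact h1) (mem_Cw_π hn')
    exact (π_eq_iff hn hn').1 h2
  · intro h
    exact C_eq_of_π_eq hn hn' ((π_eq_iff hn hn').2 h)

end Cfsg.Agent.S0309
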