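import Mathlib
import Cfsg.Statements.S2160
import Cfsg.Agent.Lib.Helper5.ChevSimpleGen

set_option autoImplicit false
open Cfsg

namespace Cfsg.Agent.S2160

/-- In a Chevalley group of type G₂, B₂, D₄, F₄, E₆, E₇ or E₈ over a finite field, every field automorphism commutes with every graph automorphism. -/
theorem result {F : Type*} [Field F] [Finite F] (D : Cfsg.Lie.ChevalleyDatum) (hD : D ∈ [Cfsg.Lie.chevG2, Cfsg.Lie.chevB2, Cfsg.Lie.chevD4, Cfsg.Lie.chevF4, Cfsg.Lie.chevE6, Cfsg.Lie.chevE7, Cfsg.Lie.chevE8]) (f g : ↥(D.group F) ≃* ↥(D.group F))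
    (hf : D.IsFieldAut f) (hg : D.IsGraphAut g) (y : ↥(D.group F)) : f (g y) = g (f y) := by
  obtain ⟨σ, hσ⟩ := hf
  obtain ⟨π, _, hπ⟩ := hg
  have hsl : ∀ i : Fin D.rank, D.simple i < D.nroots := fun i =>
    (Cfsg.Agent.Lib.Helper5.ChevStruct.x_mem_simpleGen (F := F) D hD _
      ((Cfsg.Agent.Lib.Helper5.ChevSym.checkRows_spec D
        (Cfsg.Agent.Lib.Helper5.ChevSym.checkRows_all D hD) i i.2).2.1)).1
  have hnl : ∀ i : Fin D.rank, D.neg (D.simple i) < D.nroots := fun i =>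
    (Cfsg.Agent.Lib.Helper5.ChevStruct.neg_lt D hD _ (hsl i)).1
  have key := Cfsg.Agent.Lib.Helper5.ChevStruct.hom_ext_simple D hD
    ((f.toMonoidHom).comp g.toMonoidHom) ((g.toMonoidHom).comp f.toMonoidHom) ?_ y
  · exact key
  · intro z i t hi hz
    show f (g z) = g (f z)
    apply Subtype.ext
    apply Units.ext
    rcases hz with hz | hz
    · have h1 := (hπ z ⟨i, hi⟩ t).1 hz
      have h2 := hσ (g z) _ _ (hsl (π ⟨i, hi⟩)) h1
      have h3 := hσ z _ _ (hsl ⟨i, hi⟩) hz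
      have h4 := (hπ (f z) ⟨i, hi⟩ (σ t)).1 h3
      rw [h2, h4, map_pow]
    · have h1 := (hπ z ⟨i, hi⟩ t).2 hz
      have h2 := hσ (g z) _ _ (hnl (π ⟨i, hi⟩)) h1
      have h3 := hσ z _ _ (hnl ⟨i, hi⟩) hz
      have h4 := (hπ (f z) ⟨i, hi⟩ (σ t)).2 h3
      rw [h2, h4, map_pow]

end Cfsg.Agent.S2160
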