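import Mathlib
import Cfsg.Statements.S1460
import Cfsg.Agent.Lib.Lead.CommNormal
import Cfsg.Agent.Lib.Helper1.TransferFocal
import Cfsg.Agent.Lib.Helper1.Coprime
import Cfsg.Agent.Lib.Helper1.SZHelpers
import Cfsg.Agent.Lib.Helper3.SZRel

set_option autoImplicit false
open Cfsg

namespace Cfsg.Agent.S1460

open scoped commutatorElement
open Pointwise
open Cfsg.Agent.Lib.Lead Cfsg.Agent.Lib.Helper1 Cfsg.Agent.Lib.Helper3

theorem part3 {G : Type*} [Group G] [Finite G] [Group.IsSolvable G] (K U H : Subgroup G) [K.Normal]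
    (hKU : K ⊔ U = ⊤) (hH : H ≤ U) (hcop : (Nat.card H).Coprime (Nat.card K)) :
    ∀ g : G, H.map (MulAut.conj g).toMonoidHom ≤ U →
      ∃ u ∈ U, ∃ c ∈ K ⊓ Subgroup.centralizer (H : Set G), g = u * c := by
  intro g hg
  have hgtop : g ∈ U ⊔ K := by rw [sup_comm, hKU]; trivial
  rw [Subgroup.mem_sup_of_normal_right] at hgtop
  obtain ⟨u, hu, k, hk, rfl⟩ := hgtop
  -- H₁ = k H k⁻¹ ≤ U
  set H₁ : Subgroup G := MulAut.conj k • H with hH₁
  have hH₁U : H₁ ≤ U := by
    rintro _ ⟨h, hh, rfl⟩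
    have h1 : (u * k) * h * (u * k)⁻¹ ∈ U := hg ⟨h, hh, rfl⟩
    have e : (MulAut.conj k).toMonoidHom h = u⁻¹ * ((u * k) * h * (u * k)⁻¹) * u := by
      simp [MulAut.conj_apply]; group
    show (MulAut.conj k).toMonoidHom h ∈ U
    rw [e]
    exact U.mul_mem (U.mul_mem (U.inv_mem hu) h1) hu
  -- SZ conjugacy inside U
  have hcop' : (Nat.card (K.subgroupOf U)).Coprime (Nat.card (H.subgroupOf U)) := by
    rw [card_subgroupOf_of_le hH]
    exact (Nat.Coprime.coprime_dvd_left (card_subgroupOf_dvd K U) hcop.symm)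
  have hle : H₁.subgroupOf U ≤ H.subgroupOf U ⊔ K.subgroupOf U := by
    intro y hy
    rw [Subgroup.mem_subgroupOf] at hy
    obtain ⟨h, hh, hy'⟩ := hy
    have hyv : (y : G) = k * h * k⁻¹ := by rw [← hy']; simp [MulAut.conj_apply]
    have hkU : k * h * k⁻¹ * h⁻¹ ∈ U := by
      rw [← hyv]; exact U.mul_mem y.2 (U.inv_mem (hH hh))
    have hkK : k * h * k⁻¹ * h⁻¹ ∈ K := by
      have : k * h * k⁻¹ * h⁻¹ = k * (h * k⁻¹ * h⁻¹) := by group
      rw [this]
      exact K.mul_mem hk (Subgroup.Normal.conj_mem inferInstance _ (K.inv_mem hk) h)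
    have e : y = (⟨k * h * k⁻¹ * h⁻¹, hkU⟩ : U) * (⟨h, hH hh⟩ : U) := by
      apply Subtype.ext
      show (y : G) = k * h * k⁻¹ * h⁻¹ * h
      rw [hyv]; group
    rw [e, sup_comm]
    exact Subgroup.mul_mem_sup (Subgroup.mem_subgroupOf.mpr hkK) (Subgroup.mem_subgroupOf.mpr hh)
  have hcard : Nat.card (H₁.subgroupOf U) = Nat.card (H.subgroupOf U) := by
    rw [card_subgroupOf_of_le hH₁U, card_subgroupOf_of_le hH, hH₁, card_conj_smul]
  obtain ⟨n, hn, hconj⟩ := sz_conj_rel (K.subgroupOf U) (H.subgroupOf U) (H₁.subgroupOf U)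
    hcop' hle hcard (Or.inl inferInstance)
  have hconjG : MulAut.conj (n : G) • H = H₁ := conj_smul_of_subgroupOf hH hH₁U n hconj
  have hnK : (n : G) ∈ K := Subgroup.mem_subgroupOf.mp hn
  set c : G := (n : G)⁻¹ * k with hc
  have hcK : c ∈ K := K.mul_mem (K.inv_mem hnK) hk
  have hcH : MulAut.conj c • H = H := by
    rw [hc, map_mul, mul_smul, ← hH₁, ← hconjG, ← mul_smul, ← map_mul, inv_mul_cancel, map_one,
      one_smul]
  have hcC : c ∈ Subgroup.centralizer (H : Set G) := by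
    apply mem_centralizer_of_conj_smul_eq (A := H) (K := K) _ _ hcK hcH
    · rw [Subgroup.normalizer_eq_top_iff.mpr inferInstance]; exact le_top
    · exact Subgroup.disjoint_of_coprime_natCard hcop
  refine ⟨u * n, U.mul_mem hu n.2, c, ⟨hcK, hcC⟩, ?_⟩
  rw [hc]; group


theorem part1 {G : Type*} [Group G] [Finite G] (K U H : Subgroup G) [K.Normal]
    (hKU : K ⊔ U = ⊤) (hH : H ≤ U) (hcop : (Nat.card H).Coprime (Nat.card K)) :
    H ⊓ commutator G = H ⊓ ⁅U, U⁆ := by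
  apply le_antisymm
  · rintro x ⟨hxH, hxG⟩
    refine ⟨hxH, ?_⟩
    haveI := CommNormal.sup_commutator_normal K U hKU
    have hGX : commutator G ≤ K ⊔ ⁅U, U⁆ := by
      apply commutator_le_of_sup_eq_top (K ⊔ ⁅U, U⁆) U
      · rw [eq_top_iff, ← hKU]
        exact sup_le (le_sup_left.trans le_sup_left) le_sup_right
      · exact le_sup_right
    have hx := hGX hxG
    rw [Subgroup.mem_sup_of_normal_left] at hx
    obtain ⟨k, hk, c, hc, hkc⟩ := hx
    have hcU : c ∈ U := (Subgroup.commutator_le_self U) hc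
    have hkU : k ∈ U := by
      have : k = x * c⁻¹ := by rw [← hkc]; group
      rw [this]; exact U.mul_mem (hH hxH) (U.inv_mem hcU)
    -- work in U / U'
    let π := QuotientGroup.mk' (commutator U)
    have hcc : (⟨c, hcU⟩ : U) ∈ commutator U := by
      rw [← Subgroup.map_subtype_commutator] at hc
      obtain ⟨c', hc', hcc'⟩ := hc
      have : c' = ⟨c, hcU⟩ := Subtype.ext hcc'
      rw [← this]; exact hc'
    have e1 : π ⟨x, hH hxH⟩ = π ⟨k, hkU⟩ := by
      have : (⟨x, hH hxH⟩ : U) = ⟨k, hkU⟩ * ⟨c, hcU⟩ := Subtype.ext hkc.symm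
      rw [this, map_mul]
      have h1 : π ⟨c, hcU⟩ = 1 := (QuotientGroup.eq_one_iff _).mpr hcc
      rw [h1, mul_one]
    have o1 : orderOf (π ⟨x, hH hxH⟩) ∣ Nat.card H := by
      have h1 : orderOf (π ⟨x, hH hxH⟩) ∣ orderOf (⟨x, hH hxH⟩ : U) := orderOf_map_dvd π _
      have h2 : orderOf (⟨x, hH hxH⟩ : U) = orderOf (⟨x, hxH⟩ : H) := by
        rw [← Subgroup.orderOf_coe, ← Subgroup.orderOf_coe (⟨x, hxH⟩ : H)]
      exact h1.trans (h2 ▸ orderOf_dvd_natCard _)
    have o2 : orderOf (π ⟨x, hH hxH⟩) ∣ Nat.card K := by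
      rw [e1]
      have h1 : orderOf (π ⟨k, hkU⟩) ∣ orderOf (⟨k, hkU⟩ : U) := orderOf_map_dvd π _
      have h2 : orderOf (⟨k, hkU⟩ : U) = orderOf (⟨k, hk⟩ : K) := by
        rw [← Subgroup.orderOf_coe, ← Subgroup.orderOf_coe (⟨k, hk⟩ : K)]
      exact h1.trans (h2 ▸ orderOf_dvd_natCard _)
    have o3 : orderOf (π ⟨x, hH hxH⟩) = 1 := Nat.eq_one_of_dvd_coprimes hcop o1 o2
    have hxc : (⟨x, hH hxH⟩ : U) ∈ commutator U :=
      (QuotientGroup.eq_one_iff _).mp (orderOf_eq_one_iff.mp o3)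
    rw [← Subgroup.map_subtype_commutator]
    exact ⟨_, hxc, rfl⟩
  · rintro x ⟨hxH, hxU⟩
    refine ⟨hxH, ?_⟩
    rw [commutator_def]
    exact Subgroup.commutator_mono le_top le_top hxU

theorem result {G : Type*} [Group G] [Finite G] [Group.IsSolvable G] (K U H : Subgroup G) [K.Normal] (hKU : K ⊔ U = ⊤) (hH : H ≤ U) (hcop : (Nat.card H).Coprime (Nat.card K)) :
    H ⊓ commutator G = H ⊓ ⁅U, U⁆ ∧
      Subgroup.normalizer (H : Set G) = (K ⊓ Subgroup.centralizer (H : Set G)) ⊔ (U ⊓ Subgroup.normalizer (H : Set G)) ∧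
      ∀ g : G, H.map (MulAut.conj g).toMonoidHom ≤ U → ∃ u ∈ U, ∃ c ∈ K ⊓ Subgroup.centralizer (H : Set G), g = u * c := by
  have h3 := part3 K U H hKU hH hcop
  refine ⟨part1 K U H hKU hH hcop, ?_, h3⟩
  apply le_antisymm
  · intro g hg
    have hgH : H.map (MulAut.conj g).toMonoidHom ≤ U := by
      rintro _ ⟨h, hh, rfl⟩
      exact hH ((Subgroup.mem_normalizer_iff.mp hg h).mp hh)
    obtain ⟨u, hu, c, hc, rfl⟩ := h3 g hgH
    have hcN : c ∈ Subgroup.normalizer (H : Set G) := Subgroup.centralizer_le_normalizer _ hc.2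
    have huN : u ∈ Subgroup.normalizer (H : Set G) := by
      have : u = (u * c) * c⁻¹ := by group
      rw [this]
      exact Subgroup.mul_mem _ hg (Subgroup.inv_mem _ hcN)
    rw [sup_comm]
    exact Subgroup.mul_mem_sup ⟨hu, huN⟩ hc
  · apply sup_le
    · exact inf_le_right.trans (Subgroup.centralizer_le_normalizer _)
    · exact inf_le_right

end Cfsg.Agent.S1460
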