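import Mathlib
import Cfsg.Statements.S1442
import Cfsg.Agent.Lib.Lead.Stability

namespace Cfsg.Agent.S1442

open Cfsg.Agent.Lib.Lead.Stability

/-- normalizers grow in nilpotent subgroups, relative form. -/
theorem lt_inf_normalizer_of_nilpotent {G : Type*} [Group G]
    {X D : Subgroup G} (hX : Group.IsNilpotent X) (h : D < X) :
    D < X ⊓ Subgroup.normalizer (D : Set G) := by
  have nc := Group.normalizerCondition_of_isNilpotent (G := X)
  have h1 : D.subgroupOf X < ⊤ := lt_top_iff_ne_top.mpr (fun e => by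
    rw [Subgroup.subgroupOf_eq_top] at e; exact not_le_of_gt h e)
  have h2 := nc _ h1
  rw [← Subgroup.subgroupOf_normalizer_eq h.le] at h2
  obtain ⟨⟨x, hxX⟩, hxN, hxD⟩ := SetLike.exists_of_lt h2
  refine lt_of_le_of_ne (le_inf h.le Subgroup.le_normalizer) ?_
  intro e
  apply hxD
  rw [Subgroup.mem_subgroupOf, e]
  exact Subgroup.mem_inf.mpr ⟨hxX, hxN⟩

theorem result {G : Type*} [Group G] [Finite G] (H A : Subgroup G) (hH : Group.IsNilpotent H) (hA : (A ≤ Subgroup.normalizer (H : Set G))) (hcop : (Nat.card A).Coprime (Nat.card H))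
    (hC : H ⊓ Subgroup.centralizer (((H ⊓ Subgroup.centralizer (A : Set G)) : Subgroup G) : Set G) ≤ (H ⊓ Subgroup.centralizer (A : Set G))) :
    A ≤ Subgroup.centralizer (H : Set G) := by
  set C := H ⊓ Subgroup.centralizer (A : Set G) with hCdef
  have hCH : C ≤ H := inf_le_left
  suffices hEq : C = H by
    rw [Subgroup.le_centralizer_iff]
    rw [← hEq]
    exact inf_le_right
  by_contra hne
  have hlt : C < H := lt_of_le_of_ne hCH hne
  have hgrow := lt_inf_normalizer_of_nilpotent hH hlt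
  have hNC : H ⊓ Subgroup.normalizer (C : Set G) ≤ C := by
    intro n hn
    obtain ⟨hnH, hnN⟩ := Subgroup.mem_inf.mp hn
    refine Subgroup.mem_inf.mpr ⟨hnH, ?_⟩
    rw [Subgroup.mem_centralizer_iff]
    intro a ha
    -- a * n * a⁻¹ = n
    have haN : a ∈ Subgroup.normalizer (H : Set G) := hA ha
    have hconjH : a * n * a⁻¹ ∈ H := (Subgroup.mem_normalizer_iff.mp haN n).mp hnH
    have hcH : n⁻¹ * (a * n * a⁻¹) ∈ H := H.mul_mem (H.inv_mem hnH) hconjH
    have hcomA : ∀ d ∈ C, ∀ b ∈ A, b * d = d * b := by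
      intro d hd b hb
      have := (Subgroup.mem_inf.mp hd).2
      rw [Subgroup.mem_centralizer_iff] at this
      exact this b hb
    have hcC : n⁻¹ * (a * n * a⁻¹) ∈ C := by
      apply hC
      refine Subgroup.mem_inf.mpr ⟨hcH, ?_⟩
      rw [Subgroup.mem_centralizer_iff]
      intro d hd
      have h1 : a⁻¹ * d * a = d := by
        have := hcomA d hd a ha
        calc a⁻¹ * d * a = a⁻¹ * (d * a) := by group
          _ = a⁻¹ * (a * d) := by rw [this]
          _ = d := by group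
      have hndn : n * d * n⁻¹ ∈ C := (Subgroup.mem_normalizer_iff.mp hnN d).mp hd
      have h2 : a * (n * d * n⁻¹) * a⁻¹ = n * d * n⁻¹ := by
        have := hcomA _ hndn a ha
        calc a * (n * d * n⁻¹) * a⁻¹ = (a * (n * d * n⁻¹)) * a⁻¹ := by group
          _ = ((n * d * n⁻¹) * a) * a⁻¹ := by rw [this]
          _ = n * d * n⁻¹ := by group
      -- c d c⁻¹ = d
      have h3 : (n⁻¹ * (a * n * a⁻¹)) * d * (n⁻¹ * (a * n * a⁻¹))⁻¹ = d := by
        calc (n⁻¹ * (a * n * a⁻¹)) * d * (n⁻¹ * (a * n * a⁻¹))⁻¹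
            = n⁻¹ * (a * (n * (a⁻¹ * d * a) * n⁻¹) * a⁻¹) * n := by group
          _ = n⁻¹ * (a * (n * d * n⁻¹) * a⁻¹) * n := by rw [h1]
          _ = n⁻¹ * (n * d * n⁻¹) * n := by rw [h2]
          _ = d := by group
      calc d * (n⁻¹ * (a * n * a⁻¹))
          = ((n⁻¹ * (a * n * a⁻¹)) * d * (n⁻¹ * (a * n * a⁻¹))⁻¹) * (n⁻¹ * (a * n * a⁻¹)) := by
            rw [h3]
        _ = (n⁻¹ * (a * n * a⁻¹)) * d := by group
    have hfix : a * n * a⁻¹ = n := by
      apply conj_eq_of_commutator_fixed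
      · exact hcomA _ hcC a ha
      · have h1 : orderOf a ∣ Nat.card A := by
          have := orderOf_dvd_natCard (⟨a, ha⟩ : A)
          rwa [Subgroup.orderOf_mk] at this
        have h2 : orderOf (n⁻¹ * (a * n * a⁻¹)) ∣ Nat.card H := by
          have := orderOf_dvd_natCard (⟨_, hcH⟩ : H)
          rwa [Subgroup.orderOf_mk] at this
        exact Nat.Coprime.coprime_dvd_left h1 (Nat.Coprime.coprime_dvd_right h2 hcop)
    calc a * n = (a * n * a⁻¹) * a := by group
      _ = n * a := by rw [hfix]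
  exact not_le_of_gt hgrow hNC

end Cfsg.Agent.S1442
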