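import Mathlib
import Cfsg.Statements.S1463
import Cfsg.Agent.Lib.Lead.KleinInvariantSylow

set_option autoImplicit false
open Cfsg

namespace Cfsg.Agent.S1463

open Matrix
open Cfsg.Agent.Lib.Lead

variable {F : Type*} [Field F]

/-- An element of `p`-power order in `GL₂(F)`, `char F = p`, has trace `2` and determinant `1`. -/
theorem trace_det_of_pow (p : ℕ) [Fact p.Prime] [CharP F p] (g : GL (Fin 2) F) (k : ℕ)
    (hg : g ^ p ^ k = 1) :
    (g : Matrix (Fin 2) (Fin 2) F).trace = 2 ∧ (g : Matrix (Fin 2) (Fin 2) F).det = 1 := by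
  set M : Matrix (Fin 2) (Fin 2) F := (g : Matrix (Fin 2) (Fin 2) F) with hM
  have hMp : M ^ p ^ k = 1 := by
    have := congrArg (fun x : GL (Fin 2) F => (x : Matrix (Fin 2) (Fin 2) F)) hg
    simpa using this
  constructor
  · have h1 : (M - 1) ^ p ^ k = 0 := by
      rw [sub_pow_char_pow_of_commute p k (Commute.one_right M), hMp, one_pow, sub_self]
    have h2 : IsNilpotent (M - 1) := ⟨p ^ k, h1⟩
    have h3 := Matrix.isNilpotent_trace_of_isNilpotent h2
    have h4 : (M - 1).trace = 0 := by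
      obtain ⟨n, hn⟩ := h3
      exact pow_eq_zero_iff (n := n) (by
        rintro rfl
        simp at hn) |>.mp hn
    rw [Matrix.trace_sub, Matrix.trace_one] at h4
    simp at h4
    linear_combination h4
  · have h1 : M.det ^ p ^ k = 1 := by rw [← Matrix.det_pow, hMp, Matrix.det_one]
    have h2 : (M.det - 1) ^ p ^ k = 0 := by
      rw [sub_pow_char_pow, h1, one_pow, sub_self]
    have h3 : M.det - 1 = 0 := by
      rcases Nat.eq_zero_or_pos (p ^ k) with h | h
      · exact absurd h (pow_pos (Fact.out : p.Prime).pos k).ne'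
      · exact (pow_eq_zero_iff h.ne').mp h2
    linear_combination h3


/-- upper unitriangular -/
noncomputable def uM (a : F) : GL (Fin 2) F :=
  Matrix.GeneralLinearGroup.mkOfDetNeZero !![1, a; 0, 1] (by simp [Matrix.det_fin_two])

/-- lower unitriangular -/
noncomputable def vM (b : F) : GL (Fin 2) F :=
  Matrix.GeneralLinearGroup.mkOfDetNeZero !![1, 0; b, 1] (by simp [Matrix.det_fin_two])

noncomputable def iotaM : GL (Fin 2) F :=
  Matrix.GeneralLinearGroup.mkOfDetNeZero !![1, 0; 0, -1] (by simp [Matrix.det_fin_two])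

noncomputable def wM (a b : F) (ha : a ≠ 0) (hb : b ≠ 0) : GL (Fin 2) F :=
  Matrix.GeneralLinearGroup.mkOfDetNeZero !![0, a; b, 0] (by simp [Matrix.det_fin_two, ha, hb])

noncomputable def scM (c : F) (hc : c ≠ 0) : GL (Fin 2) F :=
  Matrix.GeneralLinearGroup.mkOfDetNeZero !![c, 0; 0, c] (by simp [Matrix.det_fin_two, hc])

@[simp] theorem uM_coe (a : F) : ((uM a : GL (Fin 2) F) : Matrix (Fin 2) (Fin 2) F) = !![1, a; 0, 1] := rfl
@[simp] theorem vM_coe (b : F) : ((vM b : GL (Fin 2) F) : Matrix (Fin 2) (Fin 2) F) = !![1, 0; b, 1] := rfl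
@[simp] theorem iotaM_coe : ((iotaM : GL (Fin 2) F) : Matrix (Fin 2) (Fin 2) F) = !![1, 0; 0, -1] := rfl
@[simp] theorem wM_coe (a b : F) (ha : a ≠ 0) (hb : b ≠ 0) :
    ((wM a b ha hb : GL (Fin 2) F) : Matrix (Fin 2) (Fin 2) F) = !![0, a; b, 0] := rfl
@[simp] theorem scM_coe (c : F) (hc : c ≠ 0) :
    ((scM c hc : GL (Fin 2) F) : Matrix (Fin 2) (Fin 2) F) = !![c, 0; 0, c] := rfl

theorem gl_ext {g h : GL (Fin 2) F}
    (e : (g : Matrix (Fin 2) (Fin 2) F) = (h : Matrix (Fin 2) (Fin 2) F)) : g = h := Units.ext e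

theorem uM_mul (a b : F) : uM a * uM b = uM (a + b) := by
  apply gl_ext
  simp [Matrix.mul_fin_two, add_comm]

theorem uM_zero : uM (0 : F) = 1 := by
  apply gl_ext
  simp [Matrix.one_fin_two]

theorem uM_inv (a : F) : (uM a)⁻¹ = uM (-a) := by
  apply inv_eq_of_mul_eq_one_right
  rw [uM_mul, add_neg_cancel, uM_zero]

theorem vM_mul (a b : F) : vM a * vM b = vM (a + b) := by
  apply gl_ext
  simp [Matrix.mul_fin_two, add_comm]

theorem vM_zero : vM (0 : F) = 1 := by
  apply gl_ext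
  simp [Matrix.one_fin_two]

theorem vM_inv (a : F) : (vM a)⁻¹ = vM (-a) := by
  apply inv_eq_of_mul_eq_one_right
  rw [vM_mul, add_neg_cancel, vM_zero]

theorem iota_mul_self : (iotaM : GL (Fin 2) F) * iotaM = 1 := by
  apply gl_ext
  simp [Matrix.mul_fin_two, Matrix.one_fin_two]

theorem iota_inv : (iotaM : GL (Fin 2) F)⁻¹ = iotaM := inv_eq_of_mul_eq_one_right iota_mul_self

theorem iota_conj_u (a : F) : iotaM * uM a * iotaM⁻¹ = (uM a)⁻¹ := by
  rw [iota_inv, uM_inv]
  apply gl_ext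
  simp [Matrix.mul_fin_two]

theorem iota_conj_v (a : F) : iotaM * vM a * iotaM⁻¹ = (vM a)⁻¹ := by
  rw [iota_inv, vM_inv]
  apply gl_ext
  simp [Matrix.mul_fin_two]

theorem w_mul_self (a b : F) (ha : a ≠ 0) (hb : b ≠ 0) :
    wM a b ha hb * wM a b ha hb = scM (a * b) (mul_ne_zero ha hb) := by
  apply gl_ext
  simp [Matrix.mul_fin_two, mul_comm]

theorem w_conj_u (a b : F) (ha : a ≠ 0) (hb : b ≠ 0) :
    wM a b ha hb * uM a * (wM a b ha hb)⁻¹ = vM b := by
  rw [mul_inv_eq_iff_eq_mul]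
  apply gl_ext
  simp [Matrix.mul_fin_two, mul_comm]

theorem w_conj_v (a b : F) (ha : a ≠ 0) (hb : b ≠ 0) :
    wM a b ha hb * vM b * (wM a b ha hb)⁻¹ = uM a := by
  rw [mul_inv_eq_iff_eq_mul]
  apply gl_ext
  simp [Matrix.mul_fin_two, mul_comm]

theorem sc_comm (c : F) (hc : c ≠ 0) (g : GL (Fin 2) F) : scM c hc * g = g * scM c hc := by
  apply gl_ext
  rw [Matrix.GeneralLinearGroup.coe_mul, Matrix.GeneralLinearGroup.coe_mul, scM_coe]
  rw [Matrix.eta_fin_two (g : Matrix (Fin 2) (Fin 2) F)]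
  simp [Matrix.mul_fin_two, mul_comm]

theorem iota_w (a b : F) (ha : a ≠ 0) (hb : b ≠ 0) :
    iotaM * wM a b ha hb = scM (-1) (by simp) * (wM a b ha hb * iotaM) := by
  apply gl_ext
  simp [Matrix.mul_fin_two]


theorem entries_of_commute {A B : GL (Fin 2) F} (h : A * B = B * A) (i j : Fin 2) :
    ((A : Matrix (Fin 2) (Fin 2) F) * (B : Matrix (Fin 2) (Fin 2) F)) i j =
      ((B : Matrix (Fin 2) (Fin 2) F) * (A : Matrix (Fin 2) (Fin 2) F)) i j := by
  have := congrArg (fun x : GL (Fin 2) F => (x : Matrix (Fin 2) (Fin 2) F) i j) h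
  simpa using this

theorem eq_one_of_entries (g : GL (Fin 2) F) (h00 : (g : Matrix (Fin 2) (Fin 2) F) 0 0 = 1)
    (h01 : (g : Matrix (Fin 2) (Fin 2) F) 0 1 = 0) (h10 : (g : Matrix (Fin 2) (Fin 2) F) 1 0 = 0)
    (h11 : (g : Matrix (Fin 2) (Fin 2) F) 1 1 = 1) : g = 1 := by
  apply gl_ext
  ext i j
  fin_cases i <;> fin_cases j <;> simp [h00, h01, h10, h11]

theorem eq_one_of_commute_iota (h2 : (2 : F) ≠ 0) (g : GL (Fin 2) F)
    (htr : (g : Matrix (Fin 2) (Fin 2) F).trace = 2) (hdet : (g : Matrix (Fin 2) (Fin 2) F).det = 1)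
    (hc : iotaM * g = g * iotaM) : g = 1 := by
  have e01 := entries_of_commute hc 0 1
  have e10 := entries_of_commute hc 1 0
  rw [Matrix.trace_fin_two] at htr
  rw [Matrix.det_fin_two] at hdet
  simp [Matrix.mul_apply, Fin.sum_univ_two] at e01 e10
  set α := (g : Matrix (Fin 2) (Fin 2) F) 0 0
  set β := (g : Matrix (Fin 2) (Fin 2) F) 0 1
  set γ := (g : Matrix (Fin 2) (Fin 2) F) 1 0
  set δ := (g : Matrix (Fin 2) (Fin 2) F) 1 1
  have hβ : β = 0 := by
    have : 2 * β = 0 := by linear_combination e01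
    exact (mul_eq_zero.mp this).resolve_left h2
  have hγ : γ = 0 := by
    have : 2 * γ = 0 := by linear_combination -e10
    exact (mul_eq_zero.mp this).resolve_left h2
  have hα : (α - 1) ^ 2 = 0 := by
    rw [hβ, hγ] at hdet
    linear_combination α * htr - hdet
  have hα1 : α = 1 := by
    have := pow_eq_zero_iff (two_ne_zero) |>.mp hα
    linear_combination this
  have hδ1 : δ = 1 := by linear_combination htr - hα1
  exact eq_one_of_entries g hα1 hβ hγ hδ1

theorem eq_one_of_commute_antidiag (h2' : (2 : F) ≠ 0) (a b : F) (ha : a ≠ 0) (hb : b ≠ 0) (g : GL (Fin 2) F)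
    (htr : (g : Matrix (Fin 2) (Fin 2) F).trace = 2) (hdet : (g : Matrix (Fin 2) (Fin 2) F).det = 1)
    (hc : wM a b ha hb * g = g * wM a b ha hb) : g = 1 := by
  have e00 := entries_of_commute hc 0 0
  have e01 := entries_of_commute hc 0 1
  rw [Matrix.trace_fin_two] at htr
  rw [Matrix.det_fin_two] at hdet
  simp [Matrix.mul_apply, Fin.sum_univ_two] at e00 e01
  set α := (g : Matrix (Fin 2) (Fin 2) F) 0 0
  set β := (g : Matrix (Fin 2) (Fin 2) F) 0 1
  set γ := (g : Matrix (Fin 2) (Fin 2) F) 1 0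
  set δ := (g : Matrix (Fin 2) (Fin 2) F) 1 1
  -- e00 : a * γ = β * b ; e01 : a * δ = α * a
  have hδα : δ = α := by
    have : a * (δ - α) = 0 := by linear_combination e01
    have := (mul_eq_zero.mp this).resolve_left ha
    linear_combination this
  have h2 : (2 : F) ≠ 0 := h2'
  have hα1 : α = 1 := by
    rw [hδα] at htr
    have : 2 * (α - 1) = 0 := by linear_combination htr
    have := (mul_eq_zero.mp this).resolve_left h2
    linear_combination this
  have hδ1 : δ = 1 := by rw [hδα, hα1]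
  have hβγ : β * γ = 0 := by
    rw [hα1, hδ1] at hdet
    linear_combination -hdet
  have hβ : β = 0 := by
    rcases mul_eq_zero.mp hβγ with h | h
    · exact h
    · rw [h, mul_zero] at e00
      exact ((mul_eq_zero.mp e00.symm).resolve_right hb)
  have hγ : γ = 0 := by
    rw [hβ, zero_mul] at e00
    exact (mul_eq_zero.mp e00).resolve_left ha
  exact eq_one_of_entries g hα1 hβ hγ hδ1


theorem uM_pow (a : F) (n : ℕ) : (uM a) ^ n = uM (n * a) := by
  induction n with
  | zero => simp [uM_zero]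
  | succ n ih =>
    rw [pow_succ, ih, uM_mul]
    congr 1
    push_cast; ring

theorem iota_w_eq (a b : F) (ha : a ≠ 0) (hb : b ≠ 0) :
    iotaM * wM a b ha hb = wM a (-b) ha (neg_ne_zero.mpr hb) := by
  apply gl_ext
  simp

theorem core (p : ℕ) [Fact p.Prime] [CharP F p] (hp : p ≠ 2) (K : Subgroup (GL (Fin 2) F))
    [Finite K] (hodd : Odd (Nat.card K)) (a b : F) (ha : a ≠ 0) (hb : b ≠ 0)
    (hx : uM a ∈ K) (hy : vM b ∈ K) : False := by
  have h2 : (2 : F) ≠ 0 := by
    intro h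
    have h' : ((2 : ℕ) : F) = 0 := by exact_mod_cast h
    rw [CharP.cast_eq_zero_iff F p 2] at h'
    exact hp ((Nat.prime_dvd_prime_iff_eq Fact.out Nat.prime_two).mp h')
  set x := uM a with hxdef
  set y := vM b with hydef
  set L : Subgroup (GL (Fin 2) F) := Subgroup.closure {x, y} with hL
  have hLK : L ≤ K := by
    rw [hL, Subgroup.closure_le]
    rintro z (rfl | rfl)
    · exact hx
    · exact hy
  haveI : Finite L := Finite.of_injective _ (Subgroup.inclusion_injective hLK)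
  have hLodd : Odd (Nat.card L) := Odd.of_dvd_nat hodd (Subgroup.card_dvd_of_le hLK)
  have hxL : x ∈ L := Subgroup.subset_closure (by simp)
  have hyL : y ∈ L := Subgroup.subset_closure (by simp)
  have hinvcl : Subgroup.closure ({x⁻¹, y⁻¹} : Set (GL (Fin 2) F)) = L := by
    apply le_antisymm
    · rw [Subgroup.closure_le]
      rintro z (rfl | rfl)
      · exact L.inv_mem hxL
      · exact L.inv_mem hyL
    · rw [hL, Subgroup.closure_le]
      rintro z (rfl | rfl)
      · have : x⁻¹ ∈ Subgroup.closure ({x⁻¹, y⁻¹} : Set (GL (Fin 2) F)) :=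
          Subgroup.subset_closure (by simp)
        simpa using Subgroup.inv_mem _ this
      · have : y⁻¹ ∈ Subgroup.closure ({x⁻¹, y⁻¹} : Set (GL (Fin 2) F)) :=
          Subgroup.subset_closure (by simp)
        simpa using Subgroup.inv_mem _ this
  set ι : GL (Fin 2) F := iotaM with hι
  set w : GL (Fin 2) F := wM a b ha hb with hw
  have hιN : ι ∈ Subgroup.normalizer (L : Set (GL (Fin 2) F)) := by
    rw [Subgroup.mem_normalizer_iff_map_conj_eq]
    conv_lhs => rw [hL]
    rw [MonoidHom.map_closure, Set.image_pair]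
    have e1 : (MulAut.conj ι : GL (Fin 2) F →* GL (Fin 2) F) x = x⁻¹ := iota_conj_u a
    have e2 : (MulAut.conj ι : GL (Fin 2) F →* GL (Fin 2) F) y = y⁻¹ := iota_conj_v b
    rw [e1, e2, hinvcl]
  have hwN : w ∈ Subgroup.normalizer (L : Set (GL (Fin 2) F)) := by
    rw [Subgroup.mem_normalizer_iff_map_conj_eq]
    conv_lhs => rw [hL]
    rw [MonoidHom.map_closure, Set.image_pair]
    have e1 : (MulAut.conj w : GL (Fin 2) F →* GL (Fin 2) F) x = y := w_conj_u a b ha hb
    have e2 : (MulAut.conj w : GL (Fin 2) F →* GL (Fin 2) F) y = x := w_conj_v a b ha hb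
    rw [e1, e2, Set.pair_comm]
  have hs2 : ∀ g : GL (Fin 2) F, ι * (ι * g * ι⁻¹) * ι⁻¹ = g := by
    intro g
    rw [hι, iota_inv]
    calc iotaM * (iotaM * g * iotaM) * iotaM = (iotaM * iotaM) * g * (iotaM * iotaM) := by group
      _ = g := by rw [iota_mul_self, one_mul, mul_one]
  have ht2 : ∀ g : GL (Fin 2) F, w * (w * g * w⁻¹) * w⁻¹ = g := by
    intro g
    calc w * (w * g * w⁻¹) * w⁻¹ = (w * w) * g * (w * w)⁻¹ := by group
      _ = g := by rw [hw, w_mul_self, sc_comm, mul_inv_cancel_right]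
  have hst : ∀ g : GL (Fin 2) F, ι * (w * g * w⁻¹) * ι⁻¹ = w * (ι * g * ι⁻¹) * w⁻¹ := by
    intro g
    calc ι * (w * g * w⁻¹) * ι⁻¹ = (ι * w) * g * (ι * w)⁻¹ := by group
      _ = (scM (-1) (by simp) * (w * ι)) * g * (scM (-1) (by simp) * (w * ι))⁻¹ := by
        rw [hι, hw, iota_w]
      _ = scM (-1) (by simp) * ((w * ι) * g * (w * ι)⁻¹) * (scM (-1) (by simp))⁻¹ := by group
      _ = (w * ι) * g * (w * ι)⁻¹ := by rw [sc_comm, mul_inv_cancel_right]
      _ = w * (ι * g * ι⁻¹) * w⁻¹ := by group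
  obtain ⟨P, hPL, hPcard, hιP, hwP⟩ := KleinInvariantSylow.exists_invariant_sylow L hLodd p ι w
    hιN hwN (fun g _ => hs2 g) (fun g _ => ht2 g) (fun g _ => hst g)
  haveI : Finite P := Finite.of_injective _ (Subgroup.inclusion_injective hPL)
  -- p divides |L|
  have hxne : x ≠ 1 := by
    intro h
    have := congrArg (fun z : GL (Fin 2) F => (z : Matrix (Fin 2) (Fin 2) F) 0 1) h
    simp [hxdef] at this
    exact ha this
  have hxp : x ^ p = 1 := by
    rw [hxdef, uM_pow, CharP.cast_eq_zero F p, zero_mul, uM_zero]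
  have hord : orderOf x = p := orderOf_eq_prime hxp hxne
  have hpL : p ∣ Nat.card L := by
    have := orderOf_dvd_natCard (⟨x, hxL⟩ : L)
    rwa [Subgroup.orderOf_mk, hord] at this
  have hk : 0 < (Nat.card L).factorization p :=
    (Fact.out : p.Prime).factorization_pos_of_dvd Nat.card_pos.ne' hpL
  have hPne : P ≠ ⊥ := by
    intro h
    rw [h, Subgroup.card_bot] at hPcard
    have : 1 < p ^ (Nat.card L).factorization p :=
      Nat.one_lt_pow hk.ne' (Fact.out : p.Prime).one_lt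
    omega
  obtain ⟨g, hgP, hgne, hcases⟩ := KleinInvariantSylow.exists_ne_one_commute P hPne ι w hιP hwP
    (fun g _ => hs2 g) (fun g _ => ht2 g)
  have hgpow : g ^ p ^ (Nat.card L).factorization p = 1 := by
    have h1 : (⟨g, hgP⟩ : P) ^ Nat.card P = 1 := pow_card_eq_one'
    rw [hPcard] at h1
    exact congrArg Subtype.val h1
  obtain ⟨htr, hdet⟩ := trace_det_of_pow p g _ hgpow
  apply hgne
  rcases hcases with h | h | h
  · exact eq_one_of_commute_iota h2 g htr hdet (mul_inv_eq_iff_eq_mul.mp h)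
  · exact eq_one_of_commute_antidiag h2 a b ha hb g htr hdet (mul_inv_eq_iff_eq_mul.mp h)
  · rw [hι, hw, iota_w_eq] at h
    exact eq_one_of_commute_antidiag h2 a (-b) ha (neg_ne_zero.mpr hb) g htr hdet
      (mul_inv_eq_iff_eq_mul.mp h)


/-- the natural action on column vectors -/
def act (g : GL (Fin 2) F) (v : Fin 2 → F) : Fin 2 → F :=
  (g : Matrix (Fin 2) (Fin 2) F).mulVec v

theorem act_mul (g h : GL (Fin 2) F) (v : Fin 2 → F) : act (g * h) v = act g (act h v) := by
  unfold act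
  rw [Matrix.GeneralLinearGroup.coe_mul, Matrix.mulVec_mulVec]

theorem act_one (v : Fin 2 → F) : act (1 : GL (Fin 2) F) v = v := by
  unfold act
  simp

theorem act_inv_act (g : GL (Fin 2) F) (v : Fin 2 → F) : act g⁻¹ (act g v) = v := by
  rw [← act_mul, inv_mul_cancel, act_one]

theorem eq_uM_of_fix (g : GL (Fin 2) F)
    (htr : (g : Matrix (Fin 2) (Fin 2) F).trace = 2)
    (hfix : act g (Pi.single 0 1) = Pi.single 0 1) :
    g = uM ((g : Matrix (Fin 2) (Fin 2) F) 0 1) := by
  unfold act at hfix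
  rw [Matrix.mulVec_single_one] at hfix
  have h00 : (g : Matrix (Fin 2) (Fin 2) F) 0 0 = 1 := by
    have := congrFun hfix 0
    simpa using this
  have h10 : (g : Matrix (Fin 2) (Fin 2) F) 1 0 = 0 := by
    have := congrFun hfix 1
    simpa using this
  rw [Matrix.trace_fin_two, h00] at htr
  have h11 : (g : Matrix (Fin 2) (Fin 2) F) 1 1 = 1 := by linear_combination htr
  apply gl_ext
  rw [uM_coe]
  ext i j
  fin_cases i <;> fin_cases j <;> simp [h00, h10, h11]

theorem eq_vM_of_fix (g : GL (Fin 2) F)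
    (htr : (g : Matrix (Fin 2) (Fin 2) F).trace = 2)
    (hfix : act g (Pi.single 1 1) = Pi.single 1 1) :
    g = vM ((g : Matrix (Fin 2) (Fin 2) F) 1 0) := by
  unfold act at hfix
  rw [Matrix.mulVec_single_one] at hfix
  have h01 : (g : Matrix (Fin 2) (Fin 2) F) 0 1 = 0 := by
    have := congrFun hfix 0
    simpa using this
  have h11 : (g : Matrix (Fin 2) (Fin 2) F) 1 1 = 1 := by
    have := congrFun hfix 1
    simpa using this
  rw [Matrix.trace_fin_two, h11] at htr
  have h00 : (g : Matrix (Fin 2) (Fin 2) F) 0 0 = 1 := by linear_combination htr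
  apply gl_ext
  rw [vM_coe]
  ext i j
  fin_cases i <;> fin_cases j <;> simp [h00, h01, h11]

/-- A nontrivial element with trace 2 and determinant 1 fixes a nonzero vector. -/
theorem exists_fixed_vector (g : GL (Fin 2) F) (hg : g ≠ 1)
    (htr : (g : Matrix (Fin 2) (Fin 2) F).trace = 2)
    (hdet : (g : Matrix (Fin 2) (Fin 2) F).det = 1) :
    ∃ v : Fin 2 → F, v ≠ 0 ∧ act g v = v := by
  rw [Matrix.trace_fin_two] at htr
  rw [Matrix.det_fin_two] at hdet
  set α := (g : Matrix (Fin 2) (Fin 2) F) 0 0 with hα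
  set β := (g : Matrix (Fin 2) (Fin 2) F) 0 1 with hβ
  set γ := (g : Matrix (Fin 2) (Fin 2) F) 1 0 with hγ
  set δ := (g : Matrix (Fin 2) (Fin 2) F) 1 1 with hδ
  by_cases h : β = 0 ∧ α = 1
  · obtain ⟨hb0, ha1⟩ := h
    have hd1 : δ = 1 := by linear_combination htr - ha1
    have hγ0 : γ ≠ 0 := by
      intro h0
      apply hg
      exact eq_one_of_entries g ha1 hb0 h0 hd1
    refine ⟨![0, γ], ?_, ?_⟩
    · intro h0
      have := congrFun h0 1
      simp at this
      exact hγ0 this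
    · unfold act
      ext i
      fin_cases i
      · simp [Matrix.mulVec, dotProduct, Fin.sum_univ_two, ← hβ, hb0]
      · simp [Matrix.mulVec, dotProduct, Fin.sum_univ_two, ← hδ, hd1]
  · refine ⟨![β, 1 - α], ?_, ?_⟩
    · intro h0
      apply h
      have h1 := congrFun h0 0
      have h2 := congrFun h0 1
      simp at h1 h2
      exact ⟨h1, by linear_combination -h2⟩
    · unfold act
      ext i
      fin_cases i
      · simp [Matrix.mulVec, dotProduct, Fin.sum_univ_two, ← hα, ← hβ]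
        ring
      · simp [Matrix.mulVec, dotProduct, Fin.sum_univ_two, ← hγ, ← hδ]
        linear_combination -hdet + htr


end Cfsg.Agent.S1463

namespace Cfsg.Agent.S1463

open Matrix

theorem result {F : Type*} [Field F] (p : ℕ) [Fact p.Prime] [CharP F p] (hp : p ≠ 2)
    (H : Subgroup (GL (Fin 2) F)) [Finite H] (hodd : Odd (Nat.card H))
    (hirr : ∀ v : Fin 2 → F, v ≠ 0 → ∃ g ∈ H, (g : Matrix (Fin 2) (Fin 2) F).mulVec v ∉ Submodule.span F {v}) :
    ¬ p ∣ Nat.card H := by
  intro hdvd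
  obtain ⟨g₀', hg₀'⟩ := exists_prime_orderOf_dvd_card' (G := H) p hdvd
  set g₀ : GL (Fin 2) F := (g₀' : GL (Fin 2) F) with hg₀
  have hg₀H : g₀ ∈ H := g₀'.2
  have hord : orderOf g₀ = p := by rw [hg₀, Subgroup.orderOf_coe]; exact hg₀'
  have hpow : g₀ ^ p ^ 1 = 1 := by rw [pow_one, ← hord]; exact pow_orderOf_eq_one g₀
  have hne : g₀ ≠ 1 := by
    intro h
    rw [h, orderOf_one] at hord
    exact (Fact.out : p.Prime).one_lt.ne hord
  obtain ⟨htr, hdet⟩ := trace_det_of_pow p g₀ 1 hpow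
  obtain ⟨v₁, hv₁, hfix⟩ := exists_fixed_vector g₀ hne htr hdet
  obtain ⟨h, hhH, hnot⟩ := hirr v₁ hv₁
  set v₂ : Fin 2 → F := act h v₁ with hv₂
  have hdetQ : (!![v₁ 0, v₂ 0; v₁ 1, v₂ 1] : Matrix (Fin 2) (Fin 2) F).det ≠ 0 := by
    rw [Matrix.det_fin_two_of]
    intro h0
    apply hnot
    show v₂ ∈ Submodule.span F {v₁}
    rw [Submodule.mem_span_singleton]
    by_cases h10 : v₁ 0 = 0
    · have h11 : v₁ 1 ≠ 0 := by
        intro h11
        apply hv₁
        ext i
        fin_cases i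
        · exact h10
        · exact h11
      refine ⟨v₂ 1 / v₁ 1, ?_⟩
      ext i
      fin_cases i
      · simp only [Pi.smul_apply, smul_eq_mul, Fin.zero_eta]
        rw [h10, mul_zero]
        rw [h10, zero_mul, zero_sub, neg_eq_zero] at h0
        exact ((mul_eq_zero.mp h0).resolve_right h11).symm
      · simp only [Pi.smul_apply, smul_eq_mul, Fin.mk_one]
        field_simp
    · refine ⟨v₂ 0 / v₁ 0, ?_⟩
      ext i
      fin_cases i
      · simp only [Pi.smul_apply, smul_eq_mul, Fin.zero_eta]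
        field_simp
      · simp only [Pi.smul_apply, smul_eq_mul, Fin.mk_one]
        field_simp
        linear_combination -h0
  set Qg : GL (Fin 2) F := Matrix.GeneralLinearGroup.mkOfDetNeZero _ hdetQ with hQg
  have hQ0 : act Qg (Pi.single 0 1) = v₁ := by
    unfold act
    rw [Matrix.mulVec_single_one]
    ext i
    fin_cases i <;> simp [hQg, Matrix.GeneralLinearGroup.mkOfDetNeZero]
  have hQ1 : act Qg (Pi.single 1 1) = v₂ := by
    unfold act
    rw [Matrix.mulVec_single_one]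
    ext i
    fin_cases i <;> simp [hQg, Matrix.GeneralLinearGroup.mkOfDetNeZero]
  set φ : GL (Fin 2) F →* GL (Fin 2) F := (MulAut.conj Qg⁻¹).toMonoidHom with hφ
  have hφapp : ∀ k, φ k = Qg⁻¹ * k * Qg := by
    intro k
    simp [hφ, MulAut.conj_apply]
  set K : Subgroup (GL (Fin 2) F) := H.map φ with hK
  haveI : Finite K := Finite.of_surjective _ (φ.subgroupMap_surjective H)
  have hKodd : Odd (Nat.card K) := by
    rw [hK, Subgroup.card_map_of_injective (MulAut.conj Qg⁻¹).injective]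
    exact hodd
  set x' := φ g₀ with hx'
  set y' := φ (h * g₀ * h⁻¹) with hy'
  have hx'K : x' ∈ K := Subgroup.mem_map_of_mem φ hg₀H
  have hy'K : y' ∈ K :=
    Subgroup.mem_map_of_mem φ (H.mul_mem (H.mul_mem hhH hg₀H) (H.inv_mem hhH))
  have hx'pow : x' ^ p ^ 1 = 1 := by rw [hx', ← map_pow, hpow, map_one]
  have hy'pow : y' ^ p ^ 1 = 1 := by
    rw [hy', ← map_pow, pow_one, conj_pow, ← pow_one p, hpow]
    simp
  obtain ⟨htrx, -⟩ := trace_det_of_pow p x' 1 hx'pow
  obtain ⟨htry, -⟩ := trace_det_of_pow p y' 1 hy'pow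
  have hfx : act x' (Pi.single 0 1) = Pi.single 0 1 := by
    rw [hx', hφapp, act_mul, act_mul, hQ0, hfix, ← hQ0, act_inv_act]
  have hfy : act y' (Pi.single 1 1) = Pi.single 1 1 := by
    rw [hy', hφapp, act_mul, act_mul, hQ1, act_mul, act_mul, hv₂, act_inv_act, hfix, ← hv₂, ← hQ1,
      act_inv_act]
  have ex := eq_uM_of_fix x' htrx hfx
  have ey := eq_vM_of_fix y' htry hfy
  have hφinj : Function.Injective φ := (MulAut.conj Qg⁻¹).injective
  have ha : (x' : Matrix (Fin 2) (Fin 2) F) 0 1 ≠ 0 := by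
    intro h0
    rw [h0, uM_zero] at ex
    apply hne
    apply hφinj
    rw [map_one]; exact ex
  have hb : (y' : Matrix (Fin 2) (Fin 2) F) 1 0 ≠ 0 := by
    intro h0
    rw [h0, vM_zero] at ey
    have h1 : h * g₀ * h⁻¹ = 1 := by
      apply hφinj
      rw [map_one]; exact ey
    apply hne
    have : g₀ = h⁻¹ * (h * g₀ * h⁻¹) * h := by group
    rw [this, h1]; group
  exact core p hp K hKodd _ _ ha hb (ex ▸ hx'K) (ey ▸ hy'K)

end Cfsg.Agent.S1463
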