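import Cfsg.Statements.S4207
import Mathlib

set_option autoImplicit false
open Cfsg

namespace Cfsg.Agent.S4207


/-- A subgroup of order `p ^ r` of a finite group is generated by `r` elements. -/
theorem exists_generators_of_card {V : Type*} [Group V] [Finite V] (p : ℕ) [Fact p.Prime] :
    ∀ (r : ℕ) (W : Subgroup V), Nat.card W = p ^ r →
      ∃ t : Fin r → V, Subgroup.closure (Set.range t) = W := by
  have hp : p.Prime := Fact.out
  intro r
  induction r with
  | zero =>
    intro W hW
    refine ⟨Fin.elim0, ?_⟩
    rw [pow_zero] at hW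
    have : W = ⊥ := Subgroup.eq_bot_of_card_eq W hW
    rw [this, Subgroup.closure_eq_bot_iff]
    rintro _ ⟨i, _⟩
    exact i.elim0
  | succ r ih =>
    intro W hW
    -- a subgroup of W of order p ^ r
    have hdvd : p ^ r ∣ Nat.card W := by rw [hW]; exact pow_dvd_pow p (Nat.le_succ r)
    obtain ⟨K, hK⟩ := Sylow.exists_subgroup_card_pow_prime p hdvd
    set W' : Subgroup V := K.map W.subtype with hW'
    have hW'le : W' ≤ W := Subgroup.map_subtype_le _
    have hW'card : Nat.card W' = p ^ r := by
      rw [hW', Subgroup.card_map_of_injective W.subtype_injective, hK]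
    obtain ⟨t', ht'⟩ := ih W' hW'card
    -- an element outside
    have hlt : W' < W := by
      refine lt_of_le_of_ne hW'le ?_
      intro heq
      rw [heq, hW] at hW'card
      have := Nat.pow_right_injective hp.two_le hW'card
      omega
    obtain ⟨v, hvW, hvW'⟩ := SetLike.exists_of_lt hlt
    refine ⟨Fin.snoc t' v, ?_⟩
    set X := Subgroup.closure (Set.range (Fin.snoc t' v : Fin (r + 1) → V)) with hX
    have hvX : v ∈ X := by
      apply Subgroup.subset_closure
      exact ⟨Fin.last r, by simp⟩
    have hW'X : W' ≤ X := by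
      rw [← ht', Subgroup.closure_le]
      rintro _ ⟨i, rfl⟩
      apply Subgroup.subset_closure
      exact ⟨i.castSucc, by simp⟩
    have hXW : X ≤ W := by
      rw [hX, Subgroup.closure_le]
      rintro _ ⟨i, rfl⟩
      refine Fin.lastCases ?_ (fun j => ?_) i
      · simpa using hvW
      · simp only [Fin.snoc_castSucc]
        apply hW'le
        rw [← ht']
        exact Subgroup.subset_closure ⟨j, rfl⟩
    have hW'ltX : W' < X := lt_of_le_of_ne hW'X (fun heq => hvW' (heq ▸ hvX))
    -- card X is a power of p between
    have h1 : Nat.card X ∣ p ^ (r + 1) := hW ▸ Subgroup.card_dvd_of_le hXW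
    obtain ⟨k, hk, hXk⟩ := (Nat.dvd_prime_pow hp).1 h1
    have h2 : Nat.card W' < Nat.card X := by
      apply Set.ncard_lt_ncard hW'ltX (Set.toFinite _)
    rw [hW'card, hXk] at h2
    have h3 : r < k := (Nat.pow_lt_pow_iff_right hp.one_lt).1 h2
    have h4 : k = r + 1 := by omega
    apply Subgroup.eq_of_le_of_card_ge hXW
    rw [hW, hXk, h4]

/-- Let `P` be a group of order `p^n` whose Frattini subgroup has index `p^r`. Then any group of automorphisms of `P` each of which induces the identity on the Frattini quotient has order dividing `p^(r(n-r))`; in particular it is a `p`-group. -/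
theorem result {P : Type*} [Group P] [Finite P] {p n r : ℕ} [Fact p.Prime] (hP : Nat.card P = p ^ n) (hr : (frattini P).index = p ^ r) (A : Subgroup (MulAut P)) (hA : ∀ α ∈ A, ∀ x : P, α x * x⁻¹ ∈ frattini P) : Nat.card A ∣ p ^ (r * (n - r)) := by
  classical
  have hp : p.Prime := Fact.out
  set Φ := frattini P with hΦ
  -- r generators modulo Φ
  have hquot : Nat.card (P ⧸ Φ) = p ^ r := by rw [← Subgroup.index_eq_card]; exact hr
  obtain ⟨tbar, htbar⟩ := exists_generators_of_card (V := P ⧸ Φ) p r ⊤
    (by rw [Subgroup.card_top]; exact hquot)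
  choose x hx using fun i => QuotientGroup.mk'_surjective Φ (tbar i)
  -- card Φ
  have hΦcard : Nat.card Φ = p ^ (n - r) := by
    have h1 := Subgroup.card_mul_index Φ
    rw [hr, hP] at h1
    have hrn : r ≤ n := by
      by_contra hlt
      push Not at hlt
      have h2 : p ^ r ∣ p ^ n := Dvd.intro_left _ h1
      have := (Nat.pow_dvd_pow_iff_le_right hp.one_lt).1 h2
      omega
    have h3 : p ^ n = p ^ (n - r) * p ^ r := by rw [← pow_add]; congr 1; omega
    rw [h3] at h1
    exact Nat.eq_of_mul_eq_mul_right (pow_pos hp.pos r) h1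
  -- the set of lifts
  let Ω := {t : Fin r → P // ∀ i, t i * (x i)⁻¹ ∈ Φ}
  have hΩcard : Nat.card Ω = p ^ (r * (n - r)) := by
    have e : Ω ≃ (Fin r → Φ) :=
      { toFun := fun t i => ⟨t.1 i * (x i)⁻¹, t.2 i⟩
        invFun := fun φ => ⟨fun i => (φ i : P) * x i, fun i => by simp⟩
        left_inv := fun t => by
          apply Subtype.ext
          funext i
          simp
        right_inv := fun φ => by
          funext i
          apply Subtype.ext
          simp }
    rw [Nat.card_congr e, Nat.card_fun, hΦcard, Nat.card_fin, ← pow_mul, mul_comm]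
  -- every tuple in Ω generates P
  have hgen : ∀ t : Ω, Subgroup.closure (Set.range t.1) = ⊤ := by
    intro t
    apply frattini_nongenerating
    rw [eq_top_iff]
    have h1 : Subgroup.closure (Set.range x) ⊔ Φ = ⊤ := by
      have h2 : (Subgroup.closure (Set.range x)).map (QuotientGroup.mk' Φ) = ⊤ := by
        rw [MonoidHom.map_closure, ← htbar]
        congr 1
        ext y
        constructor
        · rintro ⟨_, ⟨i, rfl⟩, rfl⟩
          exact ⟨i, (hx i).symm⟩
        · rintro ⟨i, rfl⟩
          exact ⟨x i, ⟨i, rfl⟩, hx i⟩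
      have h3 := congrArg (Subgroup.comap (QuotientGroup.mk' Φ)) h2
      rw [Subgroup.comap_map_eq, QuotientGroup.ker_mk', Subgroup.comap_top] at h3
      exact h3
    rw [← h1]
    apply sup_le _ le_sup_right
    rw [Subgroup.closure_le]
    rintro _ ⟨i, rfl⟩
    have h4 : x i = (t.1 i * (x i)⁻¹)⁻¹ * t.1 i := by group
    rw [SetLike.mem_coe, h4]
    apply Subgroup.mul_mem
    · exact Subgroup.mem_sup_right (Φ.inv_mem (t.2 i))
    · exact Subgroup.mem_sup_left (Subgroup.subset_closure ⟨i, rfl⟩)
  -- the action of A on Ω
  letI : MulAction ↥A Ω :=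
    { smul := fun a t => ⟨fun i => (a : MulAut P) (t.1 i), fun i => by
        have h1 := hA a a.2 (t.1 i)
        have h2 := t.2 i
        have h3 : (a : MulAut P) (t.1 i) * (x i)⁻¹ =
          ((a : MulAut P) (t.1 i) * (t.1 i)⁻¹) * (t.1 i * (x i)⁻¹) := by group
        rw [h3]
        exact Φ.mul_mem h1 h2⟩
      one_smul := fun t => by
        apply Subtype.ext
        funext i
        change ((1 : A) : MulAut P) (t.1 i) = t.1 i
        simp
      mul_smul := fun a b t => by
        apply Subtype.ext
        funext i
        change ((a * b : A) : MulAut P) (t.1 i) = (a : MulAut P) ((b : MulAut P) (t.1 i))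
        simp [MulAut.mul_apply] }
  have hfree : ∀ t : Ω, MulAction.stabilizer ↥A t = ⊥ := by
    intro t
    rw [eq_bot_iff]
    intro a ha
    rw [Subgroup.mem_bot]
    have h1 : ∀ i, (a : MulAut P) (t.1 i) = t.1 i := by
      intro i
      have h2 : a • t = t := ha
      have h3 := congrArg (fun s : Ω => s.1 i) h2
      exact h3
    apply Subtype.ext
    have h4 : ((a : MulAut P) : P →* P) = MonoidHom.id P := by
      apply MonoidHom.eq_of_eqOn_dense (hgen t)
      rintro _ ⟨i, rfl⟩
      exact h1 i
    ext y
    have := DFunLike.congr_fun h4 y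
    simpa using this
  have e := MulAction.selfEquivOrbitsQuotientProd hfree
  have hcard := Nat.card_congr e
  rw [Nat.card_prod, hΩcard] at hcard
  exact Dvd.intro_left _ hcard.symm

end Cfsg.Agent.S4207
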