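import Cfsg.Statements.S1448
import Cfsg.Agent.Lib.Helper1.BK4
import Cfsg.Agent.Lib.Helper4.HallRegApp
import Cfsg.Agent.Lib.Helper1.TF6
import Cfsg.Agent.Lib.Helper1.Rk4
import Cfsg.Agent.S0639
import Cfsg.Agent.S1447

set_option autoImplicit false
open Cfsg

namespace Cfsg.Agent.S1448

open scoped commutatorElement

/-- Let G be a finite group, p an odd prime, R a nontrivial p-subgroup with no elementary abelian subgroup of order p ^ 3, and A a subgroup of odd order coprime to p normalizing R with [R, A] = R. Then 3 < p, and either R is abelian or R is generated by two elementwise-commuting subgroups R₁, R₂ with R₁ non-abelian of order p ^ 3 and exponent p, R₂ cyclic, and the elements of R₂ of order dividing p generating exactly [R₁, R₁]. -/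
theorem result {G : Type*} [Group G] [Finite G] (p : ℕ) [Fact p.Prime] (hp : p ≠ 2) (R A : Subgroup G) (hR : IsPGroup p R) (hR1 : R ≠ ⊥) (hr : Cfsg.PRankLE p 2 R)
    (hA : (A ≤ Subgroup.normalizer (R : Set G))) (hcop : (Nat.card A).Coprime p) (hAodd : Odd (Nat.card A)) (hRA : ⁅R, A⁆ = R) :
    3 < p ∧ (IsMulCommutative R ∨ ∃ R₁ R₂ : Subgroup G, R₁ ⊔ R₂ = R ∧ (∀ a ∈ R₁, ∀ b ∈ R₂, a * b = b * a) ∧
        ¬ IsMulCommutative R₁ ∧ Nat.card R₁ = p ^ 3 ∧ Monoid.exponent R₁ = p ∧ IsCyclic R₂ ∧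
        Subgroup.closure {x : G | x ∈ R₂ ∧ x ^ p = 1} = ⁅R₁, R₁⁆) := by
  classical
  have hpp : p.Prime := Fact.out
  -- Step 0: p > 3
  have hp3 : 3 < p := by
    by_contra hle
    have hp3' : p = 3 := by
      have := hpp.two_le
      omega
    obtain ⟨a, haA, r, hrR, hne⟩ : ∃ a ∈ A, ∃ r ∈ R, a * r * a⁻¹ ≠ r := by
      by_contra hcon
      push Not at hcon
      apply hR1
      rw [← hRA, eq_bot_iff, Subgroup.commutator_le]
      intro r hr a ha
      rw [Subgroup.mem_bot, commutatorElement_def]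
      have h1 := hcon a ha r hr
      calc r * a * r⁻¹ * a⁻¹ = r * (a * r * a⁻¹)⁻¹ := by group
        _ = 1 := by rw [h1]; group
    have hζne : Cfsg.Agent.Lib.Helper1.TF.zeta R A hA ⟨a, haA⟩ ≠ 1 := by
      intro h
      apply hne
      have h1 := congrArg (fun f : MulAut ↥R => ((f ⟨r, hrR⟩ : ↥R) : G)) h
      beta_reduce at h1
      rw [Cfsg.Agent.Lib.Helper1.TF.zeta_apply] at h1
      simpa using h1
    have ho1 : orderOf (Cfsg.Agent.Lib.Helper1.TF.zeta R A hA ⟨a, haA⟩) ≠ 1 := by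
      intro h
      exact hζne (orderOf_eq_one_iff.mp h)
    obtain ⟨q, hq⟩ : ∃ q, q = (orderOf (Cfsg.Agent.Lib.Helper1.TF.zeta R A hA ⟨a, haA⟩)).minFac := ⟨_, rfl⟩
    have hqp : q.Prime := by rw [hq]; exact Nat.minFac_prime ho1
    have hqo : q ∣ orderOf (Cfsg.Agent.Lib.Helper1.TF.zeta R A hA ⟨a, haA⟩) := by
      rw [hq]; exact Nat.minFac_dvd _
    have hqA : q ∣ Nat.card A :=
      hqo.trans ((orderOf_map_dvd _ (⟨a, haA⟩ : ↥A)).trans (orderOf_dvd_natCard _))
    have hq2 : q ≠ 2 := by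
      rintro rfl
      have := Nat.odd_iff.mp hAodd
      omega
    have hqnep : q ≠ p := by
      rintro rfl
      have h1 : q ∣ Nat.gcd (Nat.card A) q := Nat.dvd_gcd hqA dvd_rfl
      rw [Nat.Coprime.gcd_eq_one hcop] at h1
      have := Nat.le_of_dvd one_pos h1
      have := hqp.two_le
      omega
    have hqAut : q ∣ Nat.card (MulAut ↥R) := hqo.trans (orderOf_dvd_natCard _)
    have h640 := Cfsg.Agent.Lib.Helper1.Rk.s0640 hp hR hr q hqp hqnep hqAut
    have := hqp.two_le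
    have := h640.2
    omega
  refine ⟨hp3, ?_⟩
  have hrk' : ∀ E : Subgroup ↥R, Cfsg.IsElementaryAbelian p E → Nat.card E ≤ p ^ 2 :=
    fun E hE => hr E hE.1 hE.2
  have hreg : Cfsg.IsRegularPGroup p ↥R :=
    Cfsg.Agent.Lib.Helper4.HallReg.regular_of_rank hp3 hR hrk'
  obtain ⟨E, hEdef⟩ : ∃ E, E = Cfsg.omegaOne p (⊤ : Subgroup ↥R) := ⟨_, rfl⟩
  have hE : ∀ x, x ∈ E ↔ x ^ p = 1 := fun x => by
    rw [hEdef]; exact Cfsg.Agent.Lib.Helper4.RegOmega.mem_omegaOne_top hreg x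
  have hEle : Nat.card E ≤ p ^ 3 := by
    apply Cfsg.Agent.Lib.Helper1.Rk.card_le_cube_of_exponent_rank_two hp (hR.to_subgroup E)
    · intro x; apply Subtype.ext; rw [Subgroup.coe_pow]; exact (hE x).mp x.2
    · exact Cfsg.Agent.Lib.Helper1.Rk.pRankLE_subgroup hr E
  obtain ⟨k, hk⟩ := IsPGroup.iff_card.mp (hR.to_subgroup E)
  have hk3 : k ≤ 3 := by
    rw [hk] at hEle
    exact (Nat.pow_le_pow_iff_right hpp.one_lt).mp hEle
  by_cases hk2 : k ≤ 2
  · left
    have hO : Nat.card ↥(Cfsg.omegaOne p (⊤ : Subgroup ↥R)) ≤ p ^ 2 := by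
      rw [← hEdef, hk]; exact Nat.pow_le_pow_right hpp.pos hk2
    have hmeta : Cfsg.IsMetacyclic ↥R := Cfsg.Agent.S0639.result hp3 hR hO
    have h1447 := (Cfsg.Agent.S1447.result p hp R A hR hmeta hA hcop).1
    rw [hRA] at h1447
    exact h1447
  · right
    have hk3' : k = 3 := by omega
    rw [hk3'] at hk
    have hodd' : ∀ α ∈ Set.range (Cfsg.Agent.Lib.Helper1.TF.zeta R A hA),
        ∃ o : ℕ, Odd o ∧ α ^ o = 1 := by
      rintro _ ⟨a, rfl⟩
      refine ⟨Nat.card A, hAodd, ?_⟩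
      rw [← map_pow, pow_card_eq_one', map_one]
    have hgen' : ∀ T : Subgroup ↥R,
        (∀ α ∈ Set.range (Cfsg.Agent.Lib.Helper1.TF.zeta R A hA), ∀ x : ↥R, α x * x⁻¹ ∈ T) →
          T = ⊤ := by
      intro T hT
      rw [eq_top_iff]
      intro x _
      have hx : (x : G) ∈ ⁅R, A⁆ := by rw [hRA]; exact x.2
      have hle : ⁅R, A⁆ ≤ T.map R.subtype := by
        rw [Subgroup.commutator_le]
        intro r hr a ha
        have h1 := hT (Cfsg.Agent.Lib.Helper1.TF.zeta R A hA ⟨a, ha⟩) ⟨_, rfl⟩ ⟨r, hr⟩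
        have h2 : ⁅r, a⁆ = ((Cfsg.Agent.Lib.Helper1.TF.zeta R A hA ⟨a, ha⟩ ⟨r, hr⟩ *
            (⟨r, hr⟩ : ↥R)⁻¹ : ↥R) : G)⁻¹ := by
          rw [Subgroup.coe_mul, Subgroup.coe_inv, Cfsg.Agent.Lib.Helper1.TF.zeta_apply,
            commutatorElement_def]
          group
        rw [h2]
        exact (T.map R.subtype).inv_mem ⟨_, h1, rfl⟩
      obtain ⟨y, hy, hyx⟩ := hle hx
      have : y = x := Subtype.ext hyx
      rw [← this]; exact hy
    obtain ⟨R₁, R₂, hsup, hcomm, hnc, hc1, hexp, hcyc, hcl⟩ :=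
      Cfsg.Agent.Lib.Helper1.BK.main_abstract hp hreg hr E hE hk
        (Set.range (Cfsg.Agent.Lib.Helper1.TF.zeta R A hA)) hodd' hgen'
    refine ⟨R₁.map R.subtype, R₂.map R.subtype, ?_, ?_, ?_, ?_, ?_, ?_, ?_⟩
    · rw [← Subgroup.map_sup, hsup, ← MonoidHom.range_eq_map, Subgroup.range_subtype]
    · rintro _ ⟨a, ha, rfl⟩ _ ⟨b, hb, rfl⟩
      have := hcomm a ha b hb
      exact congrArg Subtype.val this
    · intro h
      apply hnc
      refine ⟨⟨fun x y => ?_⟩⟩
      have h3 := h.is_comm.comm (⟨R.subtype x, ⟨x, x.2, rfl⟩⟩ : ↥(R₁.map R.subtype))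
        ⟨R.subtype y, ⟨y, y.2, rfl⟩⟩
      have h4 : ((x : ↥R) : G) * ((y : ↥R) : G) = ((y : ↥R) : G) * ((x : ↥R) : G) :=
        congrArg Subtype.val h3
      apply Subtype.ext
      apply Subtype.ext
      simpa using h4
    · rw [Subgroup.card_map_of_injective R.subtype_injective]; exact hc1
    · rw [← hexp]
      exact Monoid.exponent_eq_of_mulEquiv
        (R₁.equivMapOfInjective R.subtype R.subtype_injective).symm
    · exact isCyclic_of_surjective (R₂.equivMapOfInjective R.subtype R.subtype_injective)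
        (MulEquiv.surjective _)
    · rw [← Subgroup.map_commutator, ← hcl, MonoidHom.map_closure]
      congr 1
      ext x
      constructor
      · rintro ⟨⟨y, hy, rfl⟩, hxp⟩
        refine ⟨y, ⟨hy, ?_⟩, rfl⟩
        apply Subtype.ext
        rw [Subgroup.coe_pow]
        exact hxp
      · rintro ⟨y, ⟨hy, hyp⟩, rfl⟩
        refine ⟨⟨y, hy, rfl⟩, ?_⟩
        have := congrArg Subtype.val hyp
        rwa [Subgroup.coe_pow] at this

end Cfsg.Agent.S1448
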