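import Cfsg.Statements.S1405
import Cfsg.Agent.Lib.Helper1.BT2

set_option autoImplicit false
open Cfsg

namespace Cfsg.Agent.S1405

open Cfsg.Agent.Lib.Helper1

/-- Let G be a minimal simple group of odd order and M a maximal subgroup, α(M) the set of primes p with M of p-rank at least 3, and M_α = O_{α(M)}(M). Then M_α is a Hall α(M)-subgroup of M and of G, M_α ≤ M_σ, the quotient M/M_α has no elementary abelian subgroup of order p ^ 3 for any prime p, and the image of M' in M/M_α is nilpotent. -/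
theorem result {G : Type*} [Group G] [Finite G] (hG : Cfsg.IsMinSimpleOddOrder G)
    (M : Subgroup G) (hM : IsCoatom M) :
    Cfsg.IsPiHallOf (Cfsg.alpha M) (Cfsg.alphaCore M) M ∧ Cfsg.IsPiHall (Cfsg.alpha M) (Cfsg.alphaCore M) ∧
      Cfsg.alphaCore M ≤ Cfsg.sigmaCore M ∧ Cfsg.RankLE 2 (↥M ⧸ Cfsg.piCore (Cfsg.alpha M) ↥M) ∧
      Group.IsNilpotent ↥((commutator ↥M).map (QuotientGroup.mk' (Cfsg.piCore (Cfsg.alpha M) ↥M))) := by
  classical
  obtain ⟨hbot, hrk2, hrk⟩ := BT.alpha_quotient_facts M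
  haveI hMs : Group.IsSolvable ↥M := BG7.isSolvable_of_ne_top hG hM.1
  have hMo : Odd (Nat.card ↥M) := BG8.odd_card_subgroup hG M
  haveI hQs : Group.IsSolvable (↥M ⧸ piCore (alpha M) ↥M) :=
    Group.isSolvable_of_surjective (QuotientGroup.mk'_surjective (piCore (alpha M) ↥M))
  have hQo : Odd (Nat.card (↥M ⧸ piCore (alpha M) ↥M)) :=
    Odd.of_dvd_nat hMo (Subgroup.card_quotient_dvd_card _)
  have hNpi := Cfsg.Agent.Lib.Helper2.piCore_pi (G := ↥M) (alpha M)
  have key : ∀ p ∈ alpha M, ∃ S : Subgroup G, S ≤ alphaCore M ∧ ¬ p ∣ S.index := by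
    intro p hpα
    haveI : Fact p.Prime := ⟨hpα.1⟩
    obtain ⟨S₀⟩ : Nonempty (Sylow p ↥M) := inferInstance
    have h1 := BT.alpha_sylow_le_piCore hG hM hpα S₀
    have hpσ := BT.alpha_subset_sigma hG hM hpα
    obtain ⟨-, htop, -⟩ := BT.sigma_sylow_le_commutator hG hM hpσ (BG8.isMaxP_of_sylow S₀)
    exact ⟨(S₀ : Subgroup ↥M).map M.subtype, Subgroup.map_mono h1, htop.not_dvd_index⟩
  have hle : alphaCore M ≤ M := Subgroup.map_subtype_le _
  have hcard : ∀ p : ℕ, p.Prime → p ∣ Nat.card (alphaCore M) → p ∈ alpha M := by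
    intro p hp hd
    apply hNpi p hp
    unfold alphaCore at hd
    rwa [Subgroup.card_map_of_injective M.subtype_injective] at hd
  have hidx : ∀ p : ℕ, p.Prime → p ∈ alpha M → ¬ p ∣ (alphaCore M).index := by
    intro p hp hpα hd
    obtain ⟨S, hS, hSi⟩ := key p hpα
    exact hSi (hd.trans (Subgroup.index_dvd_of_le hS))
  refine ⟨⟨hle, hcard, ?_⟩, ⟨hcard, hidx⟩, ?_, ?_, ?_⟩
  · intro p hp hpα hd
    exact hidx p hp hpα (hd.trans (Dvd.intro _ (Subgroup.relIndex_mul_index hle)))
  · unfold alphaCore sigmaCore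
    apply Subgroup.map_mono
    apply Cfsg.Agent.Lib.Helper2.le_piCore
    intro q hq hqd
    exact BT.alpha_subset_sigma hG hM (hNpi q hq hqd)
  · intro r hr
    haveI : Fact r.Prime := ⟨hr⟩
    by_cases hrα : r ∈ alpha M
    · intro A hAc hAexp
      have hAp : IsPGroup r A := by
        intro a
        refine ⟨1, ?_⟩
        apply Subtype.ext
        rw [pow_one, Subgroup.coe_pow, Subgroup.coe_one]
        exact hAexp _ a.2
      obtain ⟨k, hk⟩ := IsPGroup.iff_card.mp hAp
      by_cases hk0 : k = 0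
      · rw [hk, hk0, pow_zero]; exact Nat.one_le_pow _ _ hr.pos
      · exfalso
        have h1 : r ∣ Nat.card A := by rw [hk]; exact dvd_pow_self r hk0
        have h2 : r ∣ Nat.card (↥M ⧸ piCore (alpha M) ↥M) :=
          h1.trans (Subgroup.card_subgroup_dvd_card A)
        rw [← Subgroup.index_eq_card] at h2
        obtain ⟨S₀⟩ : Nonempty (Sylow r ↥M) := inferInstance
        have h3 := BT.alpha_sylow_le_piCore hG hM hrα S₀
        exact S₀.not_dvd_index (h2.trans (Subgroup.index_dvd_of_le h3))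
    · exact hrk2 r hrα
  · have h1 : (commutator ↥M).map (QuotientGroup.mk' (piCore (alpha M) ↥M)) ≤
        fittingSubgroup (↥M ⧸ piCore (alpha M) ↥M) := by
      rintro _ ⟨x, hx, rfl⟩
      exact RT.commutator_le_fitting hQo hrk (RT.map_mem_commutator _ hx)
    exact isNilpotent_of_le h1 fittingSubgroup_isNilpotent

end Cfsg.Agent.S1405
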