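import Mathlib
import Cfsg.Statements.S1461
import Cfsg.Agent.Lib.Lead.PLength
import Cfsg.Agent.S1460

set_option autoImplicit false
open Cfsg

namespace Cfsg.Agent.S1461

open Pointwise
open Cfsg.Agent.Lib.Lead Cfsg.Agent.Lib.Helper1 Cfsg.Agent.Lib.Helper3

theorem result {G : Type*} [Group G] [Finite G] [Group.IsSolvable G] (p : ℕ) [Fact p.Prime] (hpl : Cfsg.PLengthLE p 1 G) (S : Sylow p G) :
    ((S : Subgroup G) ≤ commutator G → (S : Subgroup G) ≤ ⁅Subgroup.normalizer ((S : Subgroup G) : Set G), Subgroup.normalizer ((S : Subgroup G) : Set G)⁆) ∧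
      (∀ (Y : Set G) (x : G), Y ⊆ (S : Subgroup G) → (fun y => x * y * x⁻¹) '' Y ⊆ (S : Subgroup G) →
        ∃ g ∈ Subgroup.normalizer ((S : Subgroup G) : Set G), ∃ c ∈ Subgroup.centralizer Y, g * c = x) ∧
      ∀ Q : Subgroup G, IsPGroup p Q → ∃ x ∈ Subgroup.centralizer ((Q ⊓ (S : Subgroup G) : Subgroup G) : Set G), Q.map (MulAut.conj x).toMonoidHom ≤ (S : Subgroup G) := by
  obtain ⟨K, hKn, hK, hNn, hNi, hfrat, hKS, -⟩ := PLength.pLengthLE_one_sylow p hpl S
  haveI := hKn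
  haveI := hNn
  have hScard : (Nat.card (S : Subgroup G)).Coprime (Nat.card K) := by
    rw [S.card_eq_multiplicity]
    exact (Nat.Coprime.pow_right _ hK).symm
  -- the key commutator argument
  have hkey : ∀ k ∈ K, ∀ y ∈ (S : Subgroup G), k * y * k⁻¹ ∈ (S : Subgroup G) → k * y = y * k := by
    intro k hk y hy hky
    have h1 : k * y * k⁻¹ * y⁻¹ ∈ K := by
      have : k * y * k⁻¹ * y⁻¹ = k * (y * k⁻¹ * y⁻¹) := by group
      rw [this]
      exact K.mul_mem hk (hKn.conj_mem _ (K.inv_mem hk) y)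
    have h2 : k * y * k⁻¹ * y⁻¹ ∈ (S : Subgroup G) :=
      Subgroup.mul_mem _ hky (Subgroup.inv_mem _ hy)
    have h3 : k * y * k⁻¹ * y⁻¹ ∈ K ⊓ (S : Subgroup G) := ⟨h1, h2⟩
    rw [hKS, Subgroup.mem_bot] at h3
    have : k * y = (k * y * k⁻¹ * y⁻¹) * (y * k) := by group
    rw [this, h3, one_mul]
  refine ⟨?_, ?_, ?_⟩
  · intro hSG
    have h1 := (Cfsg.Agent.S1460.result K (Subgroup.normalizer ((S : Subgroup G) : Set G))
      (S : Subgroup G) hfrat Subgroup.le_normalizer hScard).1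
    rw [inf_of_le_left hSG] at h1
    exact h1.le.trans inf_le_right
  · intro Y x hY hxY
    have hx : x ∈ Subgroup.normalizer ((S : Subgroup G) : Set G) ⊔ K := by
      rw [sup_comm, hfrat]; trivial
    rw [Subgroup.mem_sup_of_normal_right] at hx
    obtain ⟨g, hg, k, hk, rfl⟩ := hx
    refine ⟨g, hg, k, ?_, rfl⟩
    rw [Subgroup.mem_centralizer_iff]
    intro y hy
    have h1 : (g * k) * y * (g * k)⁻¹ ∈ (S : Subgroup G) := hxY ⟨y, hy, rfl⟩
    have h2 : k * y * k⁻¹ ∈ (S : Subgroup G) := by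
      have hg' := Subgroup.inv_mem _ hg
      have := (Subgroup.mem_normalizer_iff.mp hg' ((g * k) * y * (g * k)⁻¹)).mp h1
      have e : g⁻¹ * ((g * k) * y * (g * k)⁻¹) * g⁻¹⁻¹ = k * y * k⁻¹ := by group
      rwa [e] at this
    exact (hkey k hk y (hY hy) h2).symm
  · intro Q hQ
    have hQN : Q ≤ K ⊔ (S : Subgroup G) := PLength.le_of_isPGroup_of_index_coprime hNi hQ
    set S₁ : Subgroup G := (S : Subgroup G) ⊓ (Q ⊔ K) with hS₁
    have hQK : Q ⊓ K = ⊥ := by
      apply (Subgroup.disjoint_of_coprime_natCard _).eq_bot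
      obtain ⟨a, ha⟩ := IsPGroup.iff_card.mp hQ
      rw [ha]
      exact (Nat.Coprime.pow_right _ hK).symm
    have hS₁K : S₁ ⊓ K = ⊥ := by
      rw [eq_bot_iff, ← hKS]
      exact fun z hz => ⟨hz.2, hz.1.1⟩
    have hsup : Q ⊔ K = S₁ ⊔ K := by
      apply le_antisymm
      · apply sup_le _ le_sup_right
        intro q hq
        have := hQN hq
        rw [Subgroup.mem_sup_of_normal_left] at this
        obtain ⟨k, hk, s, hs, rfl⟩ := this
        have hsQK : s ∈ Q ⊔ K := by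
          have : s = k⁻¹ * (k * s) := by group
          rw [this]
          exact Subgroup.mul_mem _ ((le_sup_right : K ≤ Q ⊔ K) (K.inv_mem hk))
            ((le_sup_left : Q ≤ Q ⊔ K) hq)
        rw [sup_comm]
        exact Subgroup.mul_mem_sup hk ⟨hs, hsQK⟩
      · exact sup_le inf_le_right le_sup_right
    have hcard : Nat.card S₁ = Nat.card Q := by
      have h1 := card_sup_of_inf_eq_bot Q K hQK
      have h2 := card_sup_of_inf_eq_bot S₁ K hS₁K
      rw [hsup, h2] at h1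
      exact Nat.eq_of_mul_eq_mul_right Nat.card_pos h1
    have hcopQ : (Nat.card K).Coprime (Nat.card Q) := by
      obtain ⟨a, ha⟩ := IsPGroup.iff_card.mp hQ
      rw [ha]
      exact Nat.Coprime.pow_right _ hK
    obtain ⟨n, hn, hconj⟩ := sz_conj_rel K Q S₁ hcopQ inf_le_right hcard (Or.inl inferInstance)
    refine ⟨n, ?_, ?_⟩
    · rw [Subgroup.mem_centralizer_iff]
      rintro r ⟨hrQ, hrS⟩
      have h1 : n * r * n⁻¹ ∈ S₁ := by
        rw [← hconj]
        exact ⟨r, hrQ, rfl⟩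
      exact (hkey n hn r hrS h1.1).symm
    · have : Q.map (MulAut.conj n).toMonoidHom = S₁ := hconj
      rw [this]
      exact inf_le_left

end Cfsg.Agent.S1461
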