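import Cfsg.Statements.S1428
import Cfsg.Agent.Lib.Helper1.BGG7
import Cfsg.Agent.Lib.Helper3.BG13g

set_option autoImplicit false
open Cfsg

namespace Cfsg.Agent.S1428

/-- Let G be a minimal simple group of odd order, M a maximal subgroup, E a complement to M_σ in M, p ∈ τ₁(M), P ≤ E a subgroup of order p, and R a subgroup of prime order of E ∩ C_G(P). Then M_σ ∩ C_G(P) ≤ M_σ ∩ C_G(R). -/
theorem result {G : Type*} [Group G] [Finite G] (hG : Cfsg.IsMinSimpleOddOrder G)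
    (M : Subgroup G) (hM : IsCoatom M) (E : Subgroup G) (hE : Cfsg.IsComplIn E (Cfsg.sigmaCore M) M) (p : ℕ) (hp : p ∈ Cfsg.tau1 M) (P : Subgroup G) (hPE : P ≤ E) (hP : Nat.card P = p)
    (R : Subgroup G) (hRE : R ≤ E ⊓ Subgroup.centralizer (P : Set G)) (hR : (Nat.card R).Prime) :
    Cfsg.sigmaCore M ⊓ Subgroup.centralizer (P : Set G) ≤ Cfsg.sigmaCore M ⊓ Subgroup.centralizer (R : Set G) := by
  classical
  have hT1 : Cfsg.Agent.Lib.Helper1.BGG.T1Hyp G := fun M H hM hH hne t _ T₁ htσ h1 h2 h3 h4 =>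
    Cfsg.Agent.Lib.Helper3.BG13.comm_eq_bot_gen hG hM hH hne htσ h1 h2 h3 h4
  have hT2 : Cfsg.Agent.Lib.Helper1.BGG.T2Hyp G := Cfsg.Agent.Lib.Helper1.BGG.t2Hyp hG
  have hT3 : Cfsg.Agent.Lib.Helper1.BGG.T3Hyp G := fun M H hM hH hne p _ h1 h2 h3 =>
    Cfsg.Agent.Lib.Helper3.BG13.bprime hG hM hH hne h1 h2 h3
  exact Cfsg.Agent.Lib.Helper1.BGG.s1428_of hG hT1 hT2 hT3 M hM E hE p hp P hPE hP R hRE hR

end Cfsg.Agent.S1428
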