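import Mathlib
import Cfsg.Statements.S0187
import Cfsg.Agent.Lib.Helper6.Regular

set_option autoImplicit false
open Cfsg

namespace Cfsg.Agent.S0187

open Cfsg.Agent.Lib.Helper6

theorem apply_one_of_comm {G : Type*} [Group G] [Finite G] (hcomm : ∀ a b : G, a * b = b * a)
    (χ : Cfsg.IrrCharacter G) : (χ : G → ℂ) 1 = 1 := by
  obtain ⟨n, ρ, hρ, hχ⟩ := χ.2
  have : IsMulCommutative G := ⟨⟨hcomm⟩⟩
  rw [← hχ, Representation.char_one,
    Representation.IsIrreducible.finrank_eq_one_of_isMulCommutative ρ]
  simp

/-- A finite group is commutative if and only if every irreducible complex character has degree 1. -/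
theorem result {G : Type*} [Group G] [Finite G] : (∀ a b : G, a * b = b * a) ↔ ∀ χ : Cfsg.IrrCharacter G, (χ : G → ℂ) 1 = 1 := by
  have : Fintype G := Fintype.ofFinite G
  have : Fintype (Cfsg.IrrCharacter G) := Fintype.ofFinite _
  constructor
  · intro hcomm χ
    exact apply_one_of_comm hcomm χ
  · intro hall
    have h1 := sum_sq_degree (G := G)
    have h2 : ∑ χ : Cfsg.IrrCharacter G, (χ : G → ℂ) 1 ^ 2 = (Nat.card (Cfsg.IrrCharacter G) : ℂ) := by
      simp [hall, Nat.card_eq_fintype_card]
    rw [h2] at h1
    have h3 : Nat.card (Cfsg.IrrCharacter G) = Nat.card G := by exact_mod_cast h1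
    rw [card_irrCharacter] at h3
    have h4 : commProb G = 1 := by
      rw [commProb_def', h3]
      have : (Nat.card G : ℚ) ≠ 0 := by exact_mod_cast Nat.card_pos.ne'
      field_simp
    have h5 := (commProb_eq_one_iff (M := G)).mp h4
    intro a b
    exact h5.is_comm.comm a b

end Cfsg.Agent.S0187
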