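import Cfsg.Statements.S4445
import Mathlib
import Cfsg.Agent.Lib.Helper8.GlauC5
import Cfsg.Agent.Lib.Helper8.GlauP10

set_option autoImplicit false
open Cfsg

namespace Cfsg.Agent.S4445

/-- Inside a finite group Γ let the solvable subgroup S normalise G with the orders of G and S coprime. Then the number of S-invariant irreducible characters of G (χ(s g s⁻¹) = χ(g) for all s ∈ S, g ∈ G) equals the number of conjugacy classes of G mapped to themselves by conjugation by every element of S. -/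
theorem result {Γ : Type*} [Group Γ] [Fintype Γ] (G S : Subgroup Γ) [Fintype G] (hnorm : ∀ s ∈ S, ∀ g ∈ G, s * g * s⁻¹ ∈ G) (hcop : (Nat.card G).Coprime (Nat.card S)) (hsolv : Group.IsSolvable S) : Nat.card {χ : Cfsg.IrrCharacter G // (∀ s ∈ S, ∀ g g' : G, (g' : Γ) = s * g * s⁻¹ → (χ : G → ℂ) g' = (χ : G → ℂ) g)} = Nat.card {K : ConjClasses G // ∀ s ∈ S, ∀ g g' : G, (g' : Γ) = s * g * s⁻¹ → ConjClasses.mk g = K → ConjClasses.mk g' = K} := by
  classical
  haveI : Finite ↥G := inferInstance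
  have key := Cfsg.Agent.Lib.Helper8.GlauP.card_invChar_eq_card_invClass (Nat.card S) ↥S ↥G
    (Cfsg.Agent.Lib.Helper8.GlauP.conjHom G S hnorm) rfl hsolv hcop
  have e1 : {χ : Cfsg.IrrCharacter G // (∀ s ∈ S, ∀ g g' : G, (g' : Γ) = s * g * s⁻¹ →
        (χ : G → ℂ) g' = (χ : G → ℂ) g)}
      ≃ {χ : Cfsg.IrrCharacter G // Cfsg.Agent.Lib.Helper8.GlauP.InvChar
          (Cfsg.Agent.Lib.Helper8.GlauP.conjHom G S hnorm) (χ : G → ℂ)} := by
    apply Equiv.subtypeEquivRight
    intro χ
    constructor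
    · intro h s g
      exact h s s.2 g _ rfl
    · intro h s hs g g' hg'
      have h1 := h ⟨s, hs⟩ g
      have h2 : Cfsg.Agent.Lib.Helper8.GlauP.conjHom G S hnorm ⟨s, hs⟩ g = g' := by
        apply Subtype.ext
        rw [hg']
        rfl
      rw [h2] at h1
      exact h1
  have e2 : {K : ConjClasses G // ∀ s ∈ S, ∀ g g' : G, (g' : Γ) = s * g * s⁻¹ →
        ConjClasses.mk g = K → ConjClasses.mk g' = K}
      ≃ {K : ConjClasses G // Cfsg.Agent.Lib.Helper8.GlauP.InvClass
          (Cfsg.Agent.Lib.Helper8.GlauP.conjHom G S hnorm) K} := by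
    apply Equiv.subtypeEquivRight
    intro K
    constructor
    · intro h s g hg
      exact h s s.2 g _ rfl hg
    · intro h s hs g g' hg' hg
      have h1 := h ⟨s, hs⟩ g hg
      have h2 : Cfsg.Agent.Lib.Helper8.GlauP.conjHom G S hnorm ⟨s, hs⟩ g = g' := by
        apply Subtype.ext
        rw [hg']
        rfl
      rw [h2] at h1
      exact h1
  rw [Nat.card_congr e1, Nat.card_congr e2]
  exact key

end Cfsg.Agent.S4445
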