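import Cfsg.Statements.S1456
import Cfsg.Agent.Lib.Helper1.NW5

set_option autoImplicit false
open Cfsg

namespace Cfsg.Agent.S1456

/-- Let G be a solvable group of odd order, p a prime, and E an elementary abelian p-subgroup of the Fitting subgroup F(G) such that F(G) ∩ C_G(E) has no elementary abelian subgroup of order q ^ 3 for any prime q. Then the derived subgroup of G is contained in F(G). -/
theorem result {G : Type*} [Group G] [Finite G] [Group.IsSolvable G] (hodd : Odd (Nat.card G)) (p : ℕ) [Fact p.Prime] (E : Subgroup G) (hE : E ≤ Cfsg.fittingSubgroup G) (hEe : Cfsg.IsElementaryAbelian p E)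
    (hr : Cfsg.RankLE 2 ↥(Cfsg.fittingSubgroup G ⊓ Subgroup.centralizer (E : Set G))) :
    commutator G ≤ Cfsg.fittingSubgroup G := by
  classical
  have hEp : IsPGroup p E := Cfsg.Agent.Lib.Helper1.TF.isPGroup_of_isElementaryAbelian hEe
  have hEO : E ≤ Cfsg.pCore p G := Cfsg.Agent.Lib.Helper1.NW.le_pCore_of_le_fitting E hE hEp
  apply Cfsg.Agent.Lib.Helper1.NW.commutator_le_fitting'
  intro r
  haveI : Fact (r : ℕ).Prime := ⟨r.2⟩
  by_cases hrp : (r : ℕ) = p
  · have hr' : r = ⟨p, Fact.out⟩ := Subtype.ext hrp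
    rw [hr']
    apply Cfsg.Agent.Lib.Helper1.NW.act_of_centralizer_rank hodd E hEO hEe
    exact Cfsg.Agent.Lib.Helper1.RT.pRankLE_of_injective
      (Subgroup.inclusion (inf_le_inf_right _
        (Cfsg.Agent.Lib.Helper3.pCore_le_fittingSubgroup p)))
      (Subgroup.inclusion_injective _) (hr p Fact.out)
  · have hdisj : Disjoint (Cfsg.pCore (r : ℕ) G) (Cfsg.pCore p G) :=
      IsPGroup.disjoint_of_ne (r : ℕ) p hrp _ _
        (Cfsg.Agent.Lib.Helper1.pCore_isPGroup (r : ℕ)) (Cfsg.Agent.Lib.Helper1.pCore_isPGroup p)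
    have hle : Cfsg.pCore (r : ℕ) G ≤
        Cfsg.fittingSubgroup G ⊓ Subgroup.centralizer (E : Set G) := by
      apply le_inf (Cfsg.Agent.Lib.Helper3.pCore_le_fittingSubgroup (r : ℕ))
      intro x hx
      rw [Subgroup.mem_centralizer_iff]
      intro y hy
      exact (Subgroup.commute_of_normal_of_disjoint _ _ inferInstance inferInstance hdisj x y hx
        (hEO hy)).eq.symm
    have hrk_r : Cfsg.PRankLE (r : ℕ) 2 ↥(Cfsg.pCore (r : ℕ) G) :=
      Cfsg.Agent.Lib.Helper1.RT.pRankLE_of_injective (Subgroup.inclusion hle)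
        (Subgroup.inclusion_injective _) (hr (r : ℕ) r.2)
    exact (Cfsg.Agent.Lib.Helper1.RT.act_lemma hodd (Cfsg.pCore (r : ℕ) G)
      (Cfsg.Agent.Lib.Helper1.pCore_isPGroup (r : ℕ)) hrk_r).1

end Cfsg.Agent.S1456
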