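import Cfsg.Statements.S1454
import Cfsg.Agent.Lib.Helper1.NW3
import Cfsg.Agent.S1448

set_option autoImplicit false
open Cfsg

namespace Cfsg.Agent.S1454

open scoped commutatorElement

/-- Let G be a finite group, p an odd prime, R a narrow p-subgroup and A a solvable subgroup of odd order normalizing R with A ∩ C_G(R) = 1. Then [A, A] ≤ O_p(A) and the index of O_p(A) in A is coprime to p; if R has an elementary abelian subgroup of order p ^ 3 then the order of every element of A of order coprime to p divides p − 1; and if the order of A is a prime not dividing p(p − 1), then 2·#A divides p + 1, and if in addition [R, A] = R and R is non-abelian then #R = p ^ 3. -/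
theorem result {G : Type*} [Group G] [Finite G] (p : ℕ) [Fact p.Prime] (hp : p ≠ 2) (R A : Subgroup G) (hR : IsPGroup p R) (hRn : Cfsg.IsNarrow p R)
    (hA : (A ≤ Subgroup.normalizer (R : Set G))) (hAs : Group.IsSolvable A) (hAodd : Odd (Nat.card A)) (hfaith : A ⊓ Subgroup.centralizer (R : Set G) = ⊥) :
    (commutator ↥A ≤ Cfsg.pCore p ↥A ∧ ((Cfsg.pCore p ↥A).index).Coprime p) ∧
      (¬ Cfsg.PRankLE p 2 R → ∀ a ∈ A, (orderOf a).Coprime p → orderOf a ∣ p - 1) ∧
      ((Nat.card A).Prime → ¬ Nat.card A ∣ p * (p - 1) →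
        2 * Nat.card A ∣ p + 1 ∧ (⁅R, A⁆ = R → ¬ IsMulCommutative R → Nat.card R = p ^ 3)) := by
  classical
  have hpp : p.Prime := Fact.out
  have hinj := Cfsg.Agent.Lib.Helper1.NW.zeta_injective R A hA hfaith
  by_cases hr : Cfsg.PRankLE p 2 R
  · refine ⟨?_, fun h => absurd hr h, ?_⟩
    · have key := Cfsg.Agent.Lib.Helper1.RT.commutator_pElements_of_faithful hp hR hr
        (Cfsg.Agent.Lib.Helper1.TF.zeta R A hA) hinj hAodd hAs
      have hBp : IsPGroup p ↥(commutator ↥A) := by
        intro g
        obtain ⟨k, hk⟩ := key g g.2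
        exact ⟨k, Subtype.ext (by rw [Subgroup.coe_pow]; exact hk)⟩
      exact Cfsg.Agent.Lib.Helper1.NW.pCore_facts (commutator ↥A) inferInstance hBp le_rfl
    · intro hq hqn
      haveI : Fact (Nat.card A).Prime := ⟨hq⟩
      have hqp : Nat.card A ≠ p := by
        intro h
        apply hqn
        rw [h]
        exact dvd_mul_right p (p - 1)
      have hdvd : Nat.card A ∣ Nat.card (MulAut ↥R) := Subgroup.card_dvd_of_injective _ hinj
      have h640 := (Cfsg.Agent.Lib.Helper1.Rk.s0640 hp hR hr (Nat.card A) hq hqp hdvd).1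
      constructor
      · rw [Cfsg.Agent.Lib.Helper1.NW.sq_sub_one p hpp.one_le] at h640
        have h1 : Nat.card A ∣ p + 1 := by
          rcases (Nat.Prime.dvd_mul hq).mp h640 with h | h
          · exact absurd (h.mul_left p) hqn
          · exact h
        have h2 : 2 ∣ p + 1 := by
          rcases hpp.eq_two_or_odd with h | h
          · exact absurd h hp
          · omega
        have hne2 : 2 ≠ Nat.card A := by
          have := Nat.odd_iff.mp hAodd
          omega
        have hcop : Nat.Coprime 2 (Nat.card A) := (Nat.coprime_primes Nat.prime_two hq).mpr hne2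
        exact Nat.Coprime.mul_dvd_of_dvd_of_dvd hcop h2 h1
      · intro hRA hnc
        have hR1 : R ≠ ⊥ := by
          intro hbot
          apply hnc
          refine ⟨⟨fun a b => ?_⟩⟩
          have ha : (a : G) = 1 := by
            have h' : (a : G) ∈ (⊥ : Subgroup G) := by rw [← hbot]; exact a.2
            exact Subgroup.mem_bot.mp h'
          have hb : (b : G) = 1 := by
            have h' : (b : G) ∈ (⊥ : Subgroup G) := by rw [← hbot]; exact b.2
            exact Subgroup.mem_bot.mp h'
          apply Subtype.ext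
          rw [Subgroup.coe_mul, Subgroup.coe_mul, ha, hb]
        have hcop : (Nat.card A).Coprime p := (Nat.coprime_primes hq hpp).mpr hqp
        obtain ⟨-, h | ⟨R₁, R₂, hsup, hcm, hR₁nc, hc1, hexp, hcyc, hcl⟩⟩ :=
          Cfsg.Agent.S1448.result p hp R A hR hR1 hr hA hcop hAodd hRA
        · exact absurd h hnc
        · exact Cfsg.Agent.Lib.Helper1.NW.card_cube_of_prime_act R A hR hA hq rfl hqn hRA R₁ R₂
            hsup hcm hc1 hexp hcyc hcl
  · obtain ⟨B, hBn, hBp, hBc, hBpow⟩ := Cfsg.Agent.Lib.Helper1.NW.narrow_faithful hp hR hr hRn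
      (Cfsg.Agent.Lib.Helper1.TF.zeta R A hA) (IsPGroup.ker_isPGroup_of_injective hinj)
    refine ⟨Cfsg.Agent.Lib.Helper1.NW.pCore_facts B hBn hBp hBc, ?_, ?_⟩
    · intro _ a ha hcop
      have h1 := Cfsg.Agent.Lib.Helper1.NW.orderOf_dvd_of_pow_mem B hBp hBpow ⟨a, ha⟩
        (by rwa [Subgroup.orderOf_mk])
      rwa [Subgroup.orderOf_mk] at h1
    · intro hq hqn
      exfalso
      haveI : Fact (Nat.card A).Prime := ⟨hq⟩
      obtain ⟨a, ha⟩ := exists_prime_orderOf_dvd_card' (G := ↥A) (Nat.card A) (dvd_refl _)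
      have hqp : Nat.card A ≠ p := by
        intro h
        apply hqn
        rw [h]
        exact dvd_mul_right p (p - 1)
      have hcop : (orderOf a).Coprime p := by
        rw [ha]; exact (Nat.coprime_primes hq hpp).mpr hqp
      have h1 := Cfsg.Agent.Lib.Helper1.NW.orderOf_dvd_of_pow_mem B hBp hBpow a hcop
      rw [ha] at h1
      exact hqn (h1.mul_left p)

end Cfsg.Agent.S1454
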