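import Mathlib
import Cfsg.Statements.S0286
import Cfsg.Agent.Lib.Helper5.OrthCard

set_option autoImplicit false
open Cfsg

namespace Cfsg.Agent.S0286

open Cfsg.Agent.Lib.Helper5 Cfsg.Agent.Lib.Helper5.OrthCard QuadraticMap Matrix

theorem odd_arith (q : ℕ) (hq : 1 ≤ q) (m : ℕ) :
    2 * ∏ i ∈ Finset.range m, ((q ^ (i + 1) - 1) * (q ^ (i + 1) + 1) * q ^ (2 * i + 1)) =
      2 * q ^ (m ^ 2) * ∏ i ∈ Finset.range m, (q ^ (2 * (i + 1)) - 1) := by
  induction m with
  | zero => simp
  | succ k ih =>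
    rw [Finset.prod_range_succ, Finset.prod_range_succ, ← mul_assoc, ih]
    have hA : 1 ≤ q ^ (k + 1) := Nat.one_le_pow _ _ hq
    have hA2 : 1 ≤ q ^ (2 * (k + 1)) := Nat.one_le_pow _ _ hq
    have h1 : q ^ (2 * (k + 1)) - 1 = (q ^ (k + 1) - 1) * (q ^ (k + 1) + 1) := by
      zify [hA, hA2]
      ring
    have h2 : q ^ ((k + 1) ^ 2) = q ^ (k ^ 2) * q ^ (2 * k + 1) := by
      rw [← pow_add]; congr 1; ring
    rw [h1, h2]
    ring

section base
variable {F : Type*} [Field F]

/-- the one-dimensional form `x²` -/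
noncomputable def sqForm (F : Type*) [Field F] : QuadraticForm F (Unit → F) :=
  QuadraticMap.proj () ()

theorem sqForm_apply (w : Unit → F) : sqForm F w = w () * w () := by
  simp [sqForm]

theorem polar_sqForm (u v : Unit → F) : polar (sqForm F) u v = 2 * (u () * v ()) := by
  simp only [polar, sqForm_apply, Pi.add_apply]
  ring

theorem sqForm_nondegenerate (h2 : (2 : F) ≠ 0) : (polarBilin (sqForm F)).Nondegenerate := by
  have key : ∀ u : Unit → F, (∀ v, polar (sqForm F) u v = 0) → u = 0 := by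
    intro u hu
    have := hu (fun _ => 1)
    rw [polar_sqForm] at this
    ext x
    cases x
    simpa [h2] using this
  constructor
  · intro u hu
    exact key u (fun v => by simpa using hu v)
  · intro u hu
    apply key u
    intro v
    rw [polar_comm]
    simpa using hu v

theorem sqForm_zeros : Nat.card {v : Unit → F // sqForm F v = 0} = 1 := by
  rw [Nat.card_eq_one_iff_unique]
  refine ⟨⟨?_⟩, ⟨⟨0, by simp [sqForm_apply]⟩⟩⟩
  intro a b
  apply Subtype.ext
  have ha := a.2
  have hb := b.2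
  rw [sqForm_apply] at ha hb
  ext x
  cases x
  rw [mul_self_eq_zero.mp ha, mul_self_eq_zero.mp hb]

/-- the isometry group of `x²` is `{±1}` -/
noncomputable def sqIsomEquiv :
    ↥(Cfsg.isometryGroup F ⇑(sqForm F)) ≃ {a : F // a * a = 1} where
  toFun g := ⟨(g.1 : Matrix Unit Unit F) () (), by
    have h := (mem_isometryGroup_iff _ g.1).mp g.2 (fun _ => 1)
    rw [sqForm_apply, sqForm_apply] at h
    simpa [Matrix.mulVec, dotProduct] using h⟩
  invFun a := ⟨⟨Matrix.of fun _ _ => a.1, Matrix.of fun _ _ => a.1, by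
      ext i j
      simp [Matrix.mul_apply, a.2], by
      ext i j
      simp [Matrix.mul_apply, a.2]⟩, by
    rw [mem_isometryGroup_iff]
    intro v
    rw [sqForm_apply, sqForm_apply]
    simp only [Matrix.mulVec, dotProduct, Finset.univ_unique, Finset.sum_singleton,
      Matrix.of_apply]
    have := a.2
    linear_combination (v default * v default) * this⟩
  left_inv g := by
    apply Subtype.ext
    apply Units.ext
    ext i j
    rfl
  right_inv a := rfl

theorem card_sqIsom (h2 : (2 : F) ≠ 0) : Nat.card ↥(Cfsg.isometryGroup F ⇑(sqForm F)) = 2 := by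
  rw [Nat.card_congr sqIsomEquiv]
  have h1 : {a : F | a * a = 1} = {1, -1} := by
    ext a
    simp only [Set.mem_ofPred_eq, Set.mem_insert_iff, Set.mem_singleton_iff]
    exact mul_self_eq_one_iff
  show Set.ncard {a : F | a * a = 1} = 2
  rw [h1]
  apply Set.ncard_pair
  intro h
  apply h2
  have : (2 : F) = 1 - (-1) := by ring
  rw [this, ← h]
  ring

theorem odd_eq (m : ℕ) (v : Unit ⊕ (Fin m ⊕ Fin m) → F) :
    Cfsg.quadFormOdd m F v =
      genForm (sqForm F) m (v ∘ (Equiv.sumComm (Fin m ⊕ Fin m) Unit)) := by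
  rw [genForm_apply, sqForm_apply]
  simp [Cfsg.quadFormOdd]
  ring

end base

/-- |GO_{2m+1}(q)| = 2 q^(m^2) prod_{i=1}^{m} (q^(2i) - 1) for q odd. -/
theorem result {F : Type*} [Field F] [Fintype F] {q : ℕ} (hF : Fintype.card F = q) (hodd : Odd q) (m : ℕ) : Nat.card (Cfsg.isometryGroup F (Cfsg.quadFormOdd m F)) = 2 * q ^ (m ^ 2) * ∏ i ∈ Finset.range m, (q ^ (2 * (i + 1)) - 1) := by
  have h2 : (2 : F) ≠ 0 := by
    have hchar : ringChar F ≠ 2 := by
      intro h
      have := FiniteField.even_card_of_char_two h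
      rw [hF] at this
      have := Nat.odd_iff.mp hodd
      omega
    exact Ring.two_ne_zero hchar
  rw [← card_isometryGroup_reindex (Equiv.sumComm (Fin m ⊕ Fin m) Unit)
    ⇑(genForm (sqForm F) m) (Cfsg.quadFormOdd m F) (odd_eq m),
    card_genForm _ (sqForm_nondegenerate h2) sqForm_zeros, card_sqIsom h2, hF]
  have hq : 1 ≤ q := by rw [← hF]; exact Fintype.card_pos
  simp only [Fintype.card_unique]
  exact odd_arith q hq m

end Cfsg.Agent.S0286
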