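import Mathlib
import Cfsg.Statements.S0292
import Cfsg.Agent.Lib.Helper5.OmegaCenter
import Cfsg.Agent.Lib.Helper5.SpinorHyp2
import Cfsg.Agent.S0286

set_option autoImplicit false
open Cfsg

namespace Cfsg.Agent.S0292

open QuadraticMap Cfsg.Agent.Lib.Helper5.OmegaCenter Cfsg.Agent.Lib.Helper5.SpinorHyp
  Cfsg.Agent.Lib.Helper5.SpinorHyp2 Cfsg.Agent.Lib.Helper5.SpinorNorm

theorem center_eq_bot {F : Type*} [Field F] [Fintype F] (h2 : (2 : F) ≠ 0) (m : ℕ) (hm : 2 ≤ m) :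
    Subgroup.center ↥(Cfsg.Omega F ⇑(oddForm m F)) = ⊥ := by
  rw [Subgroup.eq_bot_iff_forall]
  intro z hz
  obtain ⟨a, ha, hza⟩ := center_Omega_scalar h2 (oddForm_nondegenerate h2 m)
    (oddForm_hypFamily (F := F) (le_refl m)) hm z hz
  have hdet := det_eq_one_of_mem_commutator (z : ↥(Cfsg.isometryGroup F ⇑(oddForm m F))) z.2
  rw [hza, Matrix.det_smul, Matrix.det_one, mul_one] at hdet
  have hcard : Fintype.card (Unit ⊕ (Fin m ⊕ Fin m)) = 2 * m + 1 := by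
    simp; ring
  rw [hcard, pow_succ, pow_mul, pow_two, ha, one_pow, one_mul] at hdet
  rw [hdet, one_smul] at hza
  apply Subtype.ext
  apply Subtype.ext
  apply Units.ext
  rw [hza]
  rfl

theorem core {F : Type*} [Field F] [Fintype F] {q : ℕ} (hF : Fintype.card F = q) (hodd : Odd q)
    (m : ℕ) (hm : 3 ≤ m) :
    2 * Nat.card (Cfsg.POmega F ⇑(oddForm m F)) =
      q ^ (m ^ 2) * ∏ i ∈ Finset.range m, (q ^ (2 * (i + 1)) - 1) := by
  have h2 : (2 : F) ≠ 0 := by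
    apply Cfsg.Agent.Lib.Helper5.two_ne_zero_of_odd_card
    rw [hF]; exact hodd
  have hO := Cfsg.Agent.S0286.result hF hodd m
  rw [← coe_oddForm] at hO
  have hidx := index_commutator (oddForm m F) h2 (oddForm_nondegenerate h2 m)
    (by simp; omega)
  have h1 := (commutator ↥(Cfsg.isometryGroup F ⇑(oddForm m F))).card_mul_index
  rw [hidx, hO] at h1
  have hc : Nat.card (Subgroup.center ↥(Cfsg.Omega F ⇑(oddForm m F))) = 1 := by
    rw [center_eq_bot h2 m (by omega)]; exact Subgroup.card_bot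
  have h3 := Subgroup.card_eq_card_quotient_mul_card_subgroup
    (Subgroup.center ↥(Cfsg.Omega F ⇑(oddForm m F)))
  rw [hc, mul_one] at h3
  show 2 * Nat.card (↥(Cfsg.Omega F ⇑(oddForm m F)) ⧸
    Subgroup.center ↥(Cfsg.Omega F ⇑(oddForm m F))) = _
  rw [← h3]
  have h4 : Nat.card ↥(Cfsg.Omega F ⇑(oddForm m F)) * 4 =
      2 * q ^ m ^ 2 * ∏ i ∈ Finset.range m, (q ^ (2 * (i + 1)) - 1) := h1
  have h5 : 2 * (2 * Nat.card ↥(Cfsg.Omega F ⇑(oddForm m F))) =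
      2 * (q ^ m ^ 2 * ∏ i ∈ Finset.range m, (q ^ (2 * (i + 1)) - 1)) := by
    rw [← mul_assoc 2 (q ^ m ^ 2), ← h4]; ring
  exact Nat.eq_of_mul_eq_mul_left (by norm_num) h5

/-- 2 |PΩ_{2m+1}(q)| = q^(m^2) prod_{i=1}^{m} (q^(2i) - 1), for q odd and m at least 3 (type B_m). -/
theorem result {F : Type*} [Field F] [Fintype F] {q : ℕ} (hF : Fintype.card F = q) (hodd : Odd q) (m : ℕ) (hm : 3 ≤ m) : 2 * Nat.card (Cfsg.POmega F (Cfsg.quadFormOdd m F)) = q ^ (m ^ 2) * ∏ i ∈ Finset.range m, (q ^ (2 * (i + 1)) - 1) := by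
  have := core hF hodd m hm
  rw [coe_oddForm] at this
  exact this

end Cfsg.Agent.S0292
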