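import Mathlib
import Cfsg.Statements.S0271
import Cfsg.Agent.Lib.Helper5.SympTv
import Cfsg.Agent.Lib.Helper5.SympGen

set_option autoImplicit false
open Cfsg

namespace Cfsg.Agent.S0271

open Matrix Cfsg.Agent.Lib.Helper5.SympTv Cfsg.Agent.Lib.Helper5.SympGen

theorem exists_partner {F : Type*} [Field F] (m : ℕ) (v : Fin m ⊕ Fin m → F) (hv : v ≠ 0) :
    ∃ v', sympForm m F v v' = 1 := by
  have : ∃ i, v i ≠ 0 := by
    by_contra h
    push Not at h
    exact hv (funext h)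
  obtain ⟨i, hi⟩ := this
  rcases i with i | i
  · refine ⟨(-(v (Sum.inl i))⁻¹) • Pi.single (Sum.inr i) 1, ?_⟩
    rw [sympForm_smul_right, sympForm_single_inr]
    field_simp
  · refine ⟨((v (Sum.inr i))⁻¹) • Pi.single (Sum.inl i) 1, ?_⟩
    rw [sympForm_smul_right, sympForm_single_inl]
    field_simp

/-- Sp_{2m}(F) is transitive on non-zero vectors. -/
theorem result {F : Type*} [Field F] (m : ℕ) (v w : Fin m ⊕ Fin m → F) (hv : v ≠ 0) (hw : w ≠ 0) : ∃ g : Matrix.symplecticGroup (Fin m) F, (g : Matrix (Fin m ⊕ Fin m) (Fin m ⊕ Fin m) F).mulVec v = w := by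
  obtain ⟨v', hv'⟩ := exists_partner m v hv
  obtain ⟨w', hw'⟩ := exists_partner m w hw
  obtain ⟨A, _, hA, _⟩ := move_first m v v' w w' hv' hw'
  exact ⟨A, hA⟩

end Cfsg.Agent.S0271
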