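import Mathlib
import Cfsg.Statements.S0246
import Cfsg.Agent.Lib.Helper5.SympTv
import Cfsg.Agent.Lib.Helper5.SympGen
import Cfsg.Agent.S0271

set_option autoImplicit false
open Cfsg

namespace Cfsg.Agent.S0246

open Matrix Cfsg.Agent.Lib.Helper5.SympTv Cfsg.Agent.Lib.Helper5.SympGen

variable {F : Type*} [Field F]

/-- A central element of `Sp` maps every vector to a multiple of itself. -/
theorem central_eigen (m : ℕ) (z : symplecticGroup (Fin m) F)
    (hz : z ∈ Subgroup.center (symplecticGroup (Fin m) F)) (v : Fin m ⊕ Fin m → F) (hv : v ≠ 0) :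
    ∃ a : F, z.1 *ᵥ v = a • v := by
  obtain ⟨v', hv'⟩ := Cfsg.Agent.S0271.exists_partner m v hv
  set x : Fin m ⊕ Fin m → F := -v' with hx
  have hxv : sympForm m F x v = 1 := by
    rw [hx, sympForm_swap, ← hv']
    have : sympForm m F v (-v') = - sympForm m F v v' := by
      have := sympForm_smul_right m (-1 : F) v v'
      simpa using this
    rw [this, neg_neg]
  set T : symplecticGroup (Fin m) F := ⟨sympTransvection m v 1, sympTransvection_mem m v 1⟩ with hT
  have hcomm : T * z = z * T := (Subgroup.mem_center_iff.mp hz T)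
  have h1 : (T * z).1 *ᵥ x = (z * T).1 *ᵥ x := by rw [hcomm]
  have e1 : (T * z).1 = T.1 * z.1 := rfl
  have e2 : (z * T).1 = z.1 * T.1 := rfl
  rw [e1, e2, ← mulVec_mulVec, ← mulVec_mulVec] at h1
  have e3 : T.1 = sympTransvection m v 1 := rfl
  rw [e3, sympTransvection_mulVec, sympTransvection_mulVec, hxv, mulVec_add, one_mul, one_mul,
    one_smul] at h1
  refine ⟨sympForm m F (z.1 *ᵥ x) v, ?_⟩
  exact (add_left_cancel h1).symm

theorem central_scalar (m : ℕ) (z : symplecticGroup (Fin m) F)
    (hz : z ∈ Subgroup.center (symplecticGroup (Fin m) F)) :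
    ∃ a : F, z.1 = Matrix.scalar (Fin m ⊕ Fin m) a := by
  set f : ((Fin m ⊕ Fin m) → F) →ₗ[F] (Fin m ⊕ Fin m) → F := Matrix.toLin' z.1 with hf
  obtain ⟨a, ha⟩ := f.exists_eq_smul_id_of_forall_notLinearIndependent fun v ↦ by
    by_cases hv : v = 0
    · simp [hv, linearIndependent_fin2]
    · obtain ⟨a, ha⟩ := central_eigen m z hz v hv
      rw [LinearIndependent.pair_iff' hv]
      push Not
      exact ⟨a, by rw [hf, Matrix.toLin'_apply, ha]⟩
  refine ⟨a, ?_⟩
  calc z.1 = LinearMap.toMatrix' f := by rw [hf, LinearMap.toMatrix'_toLin']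
    _ = (algebraMap F (Module.End F ((Fin m ⊕ Fin m) → F)) a).toMatrix' :=
        congrArg LinearMap.toMatrix' ha
    _ = Matrix.scalar (Fin m ⊕ Fin m) a := LinearMap.toMatrix'_algebraMap a

theorem scalar_mem_iff (m : ℕ) (hm : 1 ≤ m) (a : F) :
    Matrix.scalar (Fin m ⊕ Fin m) a ∈ symplecticGroup (Fin m) F ↔ a * a = 1 := by
  rw [SymplecticGroup.mem_iff]
  have h1 : Matrix.scalar (Fin m ⊕ Fin m) a * J (Fin m) F * (Matrix.scalar (Fin m ⊕ Fin m) a)ᵀ
      = (a * a) • J (Fin m) F := by
    rw [Matrix.scalar_apply, Matrix.diagonal_transpose, ← Matrix.smul_one_eq_diagonal]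
    simp [smul_smul]
  rw [h1]
  constructor
  · intro h
    have := congrFun (congrFun h (Sum.inl ⟨0, hm⟩)) (Sum.inr ⟨0, hm⟩)
    simpa [J] using this
  · intro h
    rw [h, one_smul]

theorem neg_one_mem (m : ℕ) : (-1 : Matrix (Fin m ⊕ Fin m) (Fin m ⊕ Fin m) F) ∈ symplecticGroup (Fin m) F := by
  rw [SymplecticGroup.mem_iff]
  simp

theorem mem_center_iff (m : ℕ) (hm : 1 ≤ m) (z : symplecticGroup (Fin m) F) :
    z ∈ Subgroup.center (symplecticGroup (Fin m) F) ↔ z.1 = 1 ∨ z.1 = -1 := by
  constructor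
  · intro hz
    obtain ⟨a, ha⟩ := central_scalar m z hz
    have h2 : a * a = 1 := by
      rw [← scalar_mem_iff m hm, ← ha]; exact z.2
    have h3 : a = 1 ∨ a = -1 := mul_self_eq_one_iff.mp h2
    rcases h3 with h3 | h3
    · left; rw [ha, h3]; simp
    · right; rw [ha, h3]
      ext i j
      by_cases hij : i = j <;> simp [hij]
  · rintro (h | h)
    · have : z = 1 := Subtype.ext h
      rw [this]; exact one_mem _
    · rw [Subgroup.mem_center_iff]
      intro g
      apply Subtype.ext
      show g.1 * z.1 = z.1 * g.1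
      rw [h]; simp

/-- The centre of Sp_{2m}(q), m at least 1, is {1, -1}: it has order gcd(2, q-1). -/
theorem result {F : Type*} [Field F] [Fintype F] {q : ℕ} (hF : Fintype.card F = q) (m : ℕ) (hm : 1 ≤ m) : Nat.card (Subgroup.center (Matrix.symplecticGroup (Fin m) F)) = Nat.gcd 2 (q - 1) := by
  classical
  by_cases h2 : (2 : F) = 0
  · -- char 2
    have hrc : ringChar F = 2 := CharP.ringChar_of_prime_eq_zero Nat.prime_two (by exact_mod_cast h2)
    have hq : q % 2 = 0 := hF ▸ FiniteField.even_card_of_char_two hrc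
    have hq0 : 0 < q := hF ▸ Fintype.card_pos
    have hg : Nat.gcd 2 (q - 1) = 1 := by
      have : Nat.Coprime 2 (q - 1) := by
        rw [Nat.Prime.coprime_iff_not_dvd Nat.prime_two]
        omega
      exact this
    rw [hg, Subgroup.card_eq_one, Subgroup.eq_bot_iff_forall]
    intro z hz
    have hneg : (-1 : Matrix (Fin m ⊕ Fin m) (Fin m ⊕ Fin m) F) = 1 := by
      have h1 : (-1 : F) = 1 := by
        rw [neg_eq_iff_add_eq_zero, one_add_one_eq_two, h2]
      ext i j
      by_cases hij : i = j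
      · subst hij; simp [h1]
      · simp [hij]
    rcases (mem_center_iff m hm z).mp hz with h | h
    · exact Subtype.ext h
    · exact Subtype.ext (h.trans hneg)
  · have hrc : ringChar F ≠ 2 := by
      intro h
      have : CharP F 2 := h ▸ ringChar.charP F
      exact h2 (by exact_mod_cast CharP.cast_eq_zero F 2)
    have hq : q % 2 = 1 := hF ▸ FiniteField.odd_card_of_char_ne_two hrc
    have hg : Nat.gcd 2 (q - 1) = 2 := Nat.gcd_eq_left (by omega)
    rw [hg, Nat.card_eq_two_iff]
    have hne : (1 : Matrix (Fin m ⊕ Fin m) (Fin m ⊕ Fin m) F) ≠ -1 := by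
      intro h
      have := congrFun (congrFun h (Sum.inl ⟨0, hm⟩)) (Sum.inl ⟨0, hm⟩)
      simp only [Matrix.one_apply_eq, Matrix.neg_apply] at this
      apply h2
      rw [← one_add_one_eq_two]
      nth_rewrite 1 [this]
      simp
    set n1 : symplecticGroup (Fin m) F := ⟨-1, neg_one_mem m⟩ with hn1
    refine ⟨⟨1, one_mem _⟩, ⟨n1, (mem_center_iff m hm n1).mpr (Or.inr rfl)⟩, ?_, ?_⟩
    · intro h
      have h' := congrArg (fun t : Subgroup.center (symplecticGroup (Fin m) F) => (t.1.1)) h
      exact hne h'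
    · ext ⟨z, hz⟩
      simp only [Set.mem_insert_iff, Set.mem_singleton_iff, Set.mem_univ, iff_true]
      rcases (mem_center_iff m hm z).mp hz with h | h
      · left; exact Subtype.ext (Subtype.ext h)
      · right; exact Subtype.ext (Subtype.ext h)

end Cfsg.Agent.S0246
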