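import Mathlib
import Cfsg.Statements.S0219

set_option autoImplicit false
open Cfsg

namespace Cfsg.Agent.S0219

/-- a cyclic Sylow 2-subgroup of a group of even order gives a subgroup of index 2 -/
theorem index_two_of_cyclic_sylow {G : Type*} [Group G] [Finite G] (heven : Even (Nat.card G))
    (T : Sylow 2 G) (hT : IsCyclic (T : Subgroup G)) : ∃ H : Subgroup G, H.index = 2 := by
  haveI : Fact (Nat.Prime 2) := ⟨Nat.prime_two⟩
  have hmin : (Nat.card G).minFac = 2 := by
    rw [Nat.minFac_eq_two_iff]
    exact even_iff_two_dvd.mp heven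
  have hNC := hT.normalizer_le_centralizer hmin
  have hcomp := hT.isComplement' hmin
  set φ := MonoidHom.transferSylow T hNC with hφ
  -- φ is surjective
  have hsurj : Function.Surjective φ := by
    rw [← MonoidHom.range_eq_top]
    apply Subgroup.eq_top_of_card_eq
    rw [← Subgroup.index_ker]
    exact hcomp.symm.index_eq_card
  -- T has order 2 ^ k with k ≥ 1
  obtain ⟨k, hk⟩ := T.2.exists_card_eq
  have hk1 : k ≠ 0 := by
    rintro rfl
    rw [pow_zero] at hk
    have h2 : 2 ∣ Nat.card G := even_iff_two_dvd.mp heven
    have := T.card_eq_multiplicity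
    have hdvd : 2 ^ 1 ∣ Nat.card G := by simpa using h2
    have := T.dvd_card_of_dvd_card h2
    rw [hk] at this
    omega
  obtain ⟨m, rfl⟩ := Nat.exists_eq_succ_of_ne_zero hk1
  have hdvd : 2 ^ m ∣ Nat.card (T : Subgroup G) := by
    rw [hk]; exact pow_dvd_pow 2 (Nat.le_succ m)
  obtain ⟨K, hK⟩ := Sylow.exists_subgroup_card_pow_prime 2 hdvd
  have hidx : K.index = 2 := by
    have h1 := K.card_mul_index
    rw [hK, hk, pow_succ] at h1
    exact Nat.eq_of_mul_eq_mul_left (by positivity) h1
  refine ⟨K.comap φ, ?_⟩
  rw [Subgroup.index_comap_of_surjective K hsurj, hidx]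

/-- If a finite group has even order and a cyclic Sylow 2-subgroup, then it has a subgroup of index 2 (consider the parity of permutations in the regular representation). -/
theorem result {G : Type*} [Group G] [Finite G] (heven : Even (Nat.card G)) (T : Sylow 2 G) (hT : IsCyclic (T : Subgroup G)) : ∃ H : Subgroup G, H.index = 2 :=
  index_two_of_cyclic_sylow heven T hT

end Cfsg.Agent.S0219
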