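import Mathlib
import Cfsg.Statements.S0991

set_option autoImplicit false
open Cfsg

namespace Cfsg.Agent.S0991

/-- a simple group acts faithfully on the cosets of a proper subgroup -/
theorem toPermHom_injective {G : Type*} [Group G] [IsSimpleGroup G] (H : Subgroup G)
    (hH : H ≠ ⊤) : Function.Injective (MulAction.toPermHom G (G ⧸ H)) := by
  have hker : (MulAction.toPermHom G (G ⧸ H)).ker = ⊥ := by
    rcases (MulAction.toPermHom G (G ⧸ H)).normal_ker.eq_bot_or_eq_top with h | h
    · exact h
    · exfalso
      apply hH
      rw [← Subgroup.normalCore_eq_ker] at h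
      exact top_le_iff.mp (h ▸ Subgroup.normalCore_le H)
  exact (MonoidHom.ker_eq_bot_iff _).mp hker

/-- an injective hom from a nonabelian simple group to a symmetric group lands in the
alternating group -/
theorem sign_eq_one_of_injective {G : Type*} [Group G] [IsSimpleGroup G]
    (hG : ¬ IsMulCommutative G) {α : Type*} [Fintype α] [DecidableEq α]
    (ψ : G →* Equiv.Perm α) (g : G) : Equiv.Perm.sign (ψ g) = 1 := by
  set s : G →* ℤˣ := (Equiv.Perm.sign).comp ψ with hs
  rcases s.normal_ker.eq_bot_or_eq_top with h | h
  · exfalso
    apply hG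
    have hinj : Function.Injective s := (MonoidHom.ker_eq_bot_iff _).mp h
    exact ⟨⟨fun a b => hinj (by rw [map_mul, map_mul, mul_comm])⟩⟩
  · have : g ∈ s.ker := by rw [h]; trivial
    exact this

/-- Embedding Theorem: if a non-abelian finite simple group has a proper subgroup of index n, then it is isomorphic to a subgroup of the alternating group of degree n. -/
theorem result {G : Type*} [Group G] [Finite G] [IsSimpleGroup G] (hG : ¬ IsMulCommutative G) (H : Subgroup G) (hH : H ≠ ⊤) : ∃ f : G →* ↥(alternatingGroup (Fin H.index)), Function.Injective f := by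
  have hinj := toPermHom_injective H hH
  let e : (G ⧸ H) ≃ Fin H.index := Finite.equivFinOfCardEq rfl
  let ψ : G →* Equiv.Perm (Fin H.index) :=
    (e.permCongrHom.toMonoidHom).comp (MulAction.toPermHom G (G ⧸ H))
  have hψ : Function.Injective ψ := by
    intro a b hab
    apply hinj
    exact e.permCongrHom.injective hab
  refine ⟨ψ.codRestrict (alternatingGroup (Fin H.index)) (fun g => ?_), ?_⟩
  · rw [Equiv.Perm.mem_alternatingGroup]
    exact sign_eq_one_of_injective hG ψ g
  · intro a b hab
    apply hψ
    exact congrArg Subtype.val hab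

end Cfsg.Agent.S0991
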