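import Cfsg.Statements.S0157
import Cfsg.Agent.Lib.Helper6.PermChar
import Cfsg.Agent.Lib.Helper6.Clifford

set_option autoImplicit false
open Cfsg

namespace Cfsg.Agent.S0157

/-- For a transitive action of a finite group on a finite set with at least two points: the action is 2-transitive if and only if the function sending g to (number of fixed points of g) − 1 is an irreducible character. -/
theorem result {G : Type*} [Group G] [Finite G] (X : Type*) [MulAction G X] [Finite X] [MulAction.IsPretransitive G X] (hX : 2 ≤ Nat.card X) : Cfsg.IsIrrCharacter G (fun g => (Nat.card (MulAction.fixedBy X g) : ℂ) - 1) ↔ MulAction.IsMultiplyPretransitive G X 2 := by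
  classical
  have : Fintype G := Fintype.ofFinite G
  have hnt : Nontrivial X := Finite.one_lt_card_iff_nontrivial.mp (by omega)
  set π := Cfsg.Agent.Lib.Helper6.permChar G X with hπ
  have hfun : (fun g => (Nat.card (MulAction.fixedBy X g) : ℂ) - 1) = π - (fun _ => (1 : ℂ)) := by
    funext g
    rfl
  rw [hfun]
  have hπchar : Cfsg.IsCharacter G π := Cfsg.Agent.Lib.Helper6.isCharacter_permChar X
  have h1irr : Cfsg.IsIrrCharacter G (fun _ => (1 : ℂ)) := Cfsg.Agent.Lib.Helper6.isIrrCharacter_one
  have horb : Nat.card (Quotient (MulAction.orbitRel G X)) = 1 := by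
    rw [Nat.card_eq_one_iff_unique]
    constructor
    · exact (MulAction.pretransitive_iff_subsingleton_quotient G X).mp inferInstance
    · exact (nonempty_quotient_iff _).mpr inferInstance
  have hπ1 : Cfsg.classInner π (fun _ => (1 : ℂ)) = 1 := by
    rw [Cfsg.Agent.Lib.Helper6.classInner_permChar_one, horb]
    simp
  have h1π : Cfsg.classInner (fun _ => (1 : ℂ)) π = 1 := by
    rw [← Cfsg.Agent.Lib.Helper6.classInner_conj_symm, hπ1, map_one]
  have h11 : Cfsg.classInner (fun _ : G => (1 : ℂ)) (fun _ => (1 : ℂ)) = 1 := by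
    rw [Cfsg.Agent.Lib.Helper6.classInner_isIrrCharacter h1irr h1irr, if_pos rfl]
  obtain ⟨B, hB, hπB⟩ := Cfsg.Agent.Lib.Helper6.IsCharacter.exists_eq_add_of_constituent hπchar
    h1irr (by rw [hπ1]; exact one_ne_zero)
  have hBeq : π - (fun _ => (1 : ℂ)) = B := by
    rw [hπB]; simp
  set r := Nat.card (Quotient (MulAction.orbitRel G (X × X))) with hr
  have hnorm : Cfsg.classInner (π - (fun _ => (1 : ℂ))) (π - (fun _ => (1 : ℂ))) = (r : ℂ) - 1 := by
    rw [Cfsg.Agent.Lib.Helper6.classInner_sub_left, Cfsg.Agent.Lib.Helper6.classInner_sub_right,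
      Cfsg.Agent.Lib.Helper6.classInner_sub_right, hπ1, h1π, h11,
      Cfsg.Agent.Lib.Helper6.classInner_permChar_self]
    ring
  rw [← Cfsg.Agent.Lib.Helper6.card_orbits_prod_eq_two_iff X hX]
  constructor
  · intro hirr
    have h2 := Cfsg.Agent.Lib.Helper6.classInner_isIrrCharacter hirr hirr
    rw [if_pos rfl, hnorm] at h2
    have h3 : (r : ℂ) = 2 := by linear_combination h2
    exact_mod_cast h3
  · intro hr2
    rw [hBeq]
    apply Cfsg.Agent.Lib.Helper6.isIrrCharacter_of_classInner_self_eq_one hB
    rw [← hBeq, hnorm]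
    have : r = 2 := hr2
    rw [this]
    norm_num

end Cfsg.Agent.S0157
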