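import Cfsg.Statements.S4252

set_option autoImplicit false
open Cfsg

namespace Cfsg.Agent.S4252

open scoped Pointwise

theorem mem_conj_smul_stab {G Ω : Type*} [Group G] [MulAction G Ω] (α : Ω) (g x : G) :
    x ∈ MulAut.conj g • MulAction.stabilizer G α ↔ x • (g • α) = g • α := by
  rw [Subgroup.mem_pointwise_smul_iff_inv_smul_mem, MulAction.mem_stabilizer_iff]
  have : (MulAut.conj g)⁻¹ • x = g⁻¹ * x * g := by simp [MulAut.smul_def]
  rw [this, mul_smul, mul_smul, inv_smul_eq_iff]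

theorem result {G Ω : Type*} [Group G] [Finite G] [Fintype Ω] [MulAction G Ω] (hΩ : 1 < Fintype.card Ω)
    (htrans : ∀ α β : Ω, ∃ g : G, g • α = β) (hnreg : ∃ g : G, g ≠ 1 ∧ ∃ α : Ω, g • α = α)
    (hfix : ∀ g : G, g ≠ 1 → ∀ α β : Ω, g • α = α → g • β = β → α = β) (α : Ω) :
    Cfsg.IsFrobeniusComplement (MulAction.stabilizer G α) ∧
      Cfsg.frobeniusKernel (MulAction.stabilizer G α) = {g : G | g = 1 ∨ ∀ ω : Ω, g • ω ≠ ω} := by
  refine ⟨⟨?_, ?_, ?_⟩, ?_⟩
  · obtain ⟨g, hg1, α', hgα'⟩ := hnreg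
    obtain ⟨k, hk⟩ := htrans α α'
    intro hbot
    have hmem : k⁻¹ * g * k ∈ MulAction.stabilizer G α := by
      rw [MulAction.mem_stabilizer_iff, mul_smul, mul_smul, hk, hgα', ← hk, inv_smul_smul]
    rw [hbot, Subgroup.mem_bot] at hmem
    apply hg1
    have : g = k * (k⁻¹ * g * k) * k⁻¹ := by group
    rw [this, hmem]; group
  · intro htop
    obtain ⟨β, hβ⟩ : ∃ β : Ω, β ≠ α := by
      by_contra hcon
      push Not at hcon
      have : Fintype.card Ω ≤ 1 := Fintype.card_le_one_iff.2 (fun a b => by rw [hcon a, hcon b])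
      omega
    obtain ⟨g, hg⟩ := htrans α β
    have : g ∈ MulAction.stabilizer G α := by rw [htop]; trivial
    rw [MulAction.mem_stabilizer_iff] at this
    exact hβ (hg ▸ this)
  · intro g hg
    rw [eq_bot_iff]
    intro x hx
    rw [Subgroup.mem_inf] at hx
    obtain ⟨hx1, hx2⟩ := hx
    rw [mem_conj_smul_stab] at hx2
    rw [MulAction.mem_stabilizer_iff] at hx1
    rw [Subgroup.mem_bot]
    by_contra hne
    have := hfix x hne α (g • α) hx1 hx2
    exact hg (MulAction.mem_stabilizer_iff.2 this.symm)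
  · ext x
    simp only [Cfsg.frobeniusKernel, Set.mem_ofPred_eq]
    apply or_congr Iff.rfl
    constructor
    · intro h ω hω
      obtain ⟨g, rfl⟩ := htrans α ω
      exact h g ((mem_conj_smul_stab α g x).2 hω)
    · intro h g hg
      exact h (g • α) ((mem_conj_smul_stab α g x).1 hg)

end Cfsg.Agent.S4252
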