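import Mathlib
import Cfsg.Statements.S0040
import Cfsg.Agent.Lib.Lead.UniqueP
import Cfsg.Agent.Lib.Helper1.FpfCyclic
import Cfsg.Agent.Lib.Helper7.UniqueOrderP

set_option autoImplicit false
open Cfsg

namespace Cfsg.Agent.S0040

open Cfsg.Agent.Lib.Lead.UniqueP

/-- Sylow subgroups of Frobenius complements: if H complements a nontrivial normal subgroup K and every nonidentity element of H has trivial centraliser in K, then each Sylow subgroup of H is cyclic or isomorphic to a generalized quaternion group. -/
theorem result {G : Type*} [Group G] [Finite G] (K H : Subgroup G) [K.Normal]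
    (hc : Subgroup.IsComplement' K H) (hK : K ≠ ⊥) (hfpf : ∀ h ∈ H, h ≠ 1 → K ⊓ Subgroup.centralizer {h} = ⊥)
    (p : ℕ) [Fact p.Prime] (P : Sylow p H) :
    IsCyclic P ∨ ∃ n : ℕ, Nonempty (P ≃* QuaternionGroup (2 ^ n)) := by
  classical
  have hp : p.Prime := Fact.out
  let ι : (P : Subgroup H) →* G := H.subtype.comp (P : Subgroup H).subtype
  have hι : Function.Injective ι :=
    (H.subtype_injective).comp (P : Subgroup H).subtype_injective
  have hιH : ∀ u : (P : Subgroup H), ι u ∈ H := fun u => (u : H).2
  -- commuting elements of order p generate the same subgroup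
  have key : ∀ u v : (P : Subgroup H), u * v = v * u → u ^ p = 1 → v ^ p = 1 → u ≠ 1 →
      v ∈ Subgroup.zpowers u := by
    intro u v huv hu hv hu1
    have hcomm : ∀ x ∈ ({ι u, ι v} : Set G), ∀ y ∈ ({ι u, ι v} : Set G), x * y = y * x := by
      have e : ι u * ι v = ι v * ι u := by rw [← map_mul, huv, map_mul]
      rintro x (rfl | rfl) y (rfl | rfl)
      · rfl
      · exact e
      · exact e.symm
      · rfl
    haveI : IsMulCommutative (Subgroup.closure ({ι u, ι v} : Set G)) :=
      Subgroup.isMulCommutative_closure hcomm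
    have hAH : Subgroup.closure ({ι u, ι v} : Set G) ≤ H := by
      rw [Subgroup.closure_le]
      rintro x (rfl | rfl)
      · exact hιH u
      · exact hιH v
    have hcyc : IsCyclic (Subgroup.closure ({ι u, ι v} : Set G)) :=
      Cfsg.Agent.Lib.Helper1.isCyclic_of_fpf_of_abelian _ K hK
        (by rw [Subgroup.normalizer_eq_top]; exact le_top)
        (fun a ha ha1 => hfpf a (hAH ha) ha1)
    have hUA := Cfsg.Agent.Lib.Helper7.uniqueOrderP_of_isCyclic
      (P := Subgroup.closure ({ι u, ι v} : Set G)) p
    have hmem := hUA ⟨ι u, Subgroup.subset_closure (by simp)⟩ ⟨ι v, Subgroup.subset_closure (by simp)⟩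
      (by apply Subtype.ext; simp only [Subgroup.coe_pow, Subgroup.coe_one]; rw [← map_pow, hu, map_one])
      (by apply Subtype.ext; simp only [Subgroup.coe_pow, Subgroup.coe_one]; rw [← map_pow, hv, map_one])
      (by
        intro h
        apply hu1
        apply hι
        rw [map_one]
        exact congrArg Subtype.val h)
    obtain ⟨k, hk⟩ := Subgroup.mem_zpowers_iff.mp hmem
    rw [Subgroup.mem_zpowers_iff]
    refine ⟨k, hι ?_⟩
    rw [map_zpow]
    have := congrArg Subtype.val hk
    simpa using this
  have hu : UOP p (P : Subgroup H) := by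
    intro x y hx hy hx1
    haveI : Nontrivial (P : Subgroup H) := ⟨⟨x, 1, hx1⟩⟩
    haveI := P.2.center_nontrivial
    have hdvd : p ∣ Nat.card (Subgroup.center (P : Subgroup H)) := by
      obtain ⟨n, hn⟩ := (P.2.to_subgroup (Subgroup.center (P : Subgroup H))).exists_card_eq
      have hn0 : n ≠ 0 := by
        intro h0
        rw [h0, pow_zero] at hn
        have := Finite.one_lt_card_iff_nontrivial.mpr
          (inferInstance : Nontrivial (Subgroup.center (P : Subgroup H)))
        omega
      rw [hn]; exact dvd_pow_self p hn0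
    obtain ⟨⟨z, hzc⟩, hz⟩ :=
      exists_prime_orderOf_dvd_card' (G := Subgroup.center (P : Subgroup H)) p hdvd
    have hzo : orderOf z = p := (Subgroup.orderOf_mk z hzc).symm.trans hz
    have hzp : z ^ p = 1 := by
      have := pow_orderOf_eq_one z
      rwa [hzo] at this
    have hz1 : z ≠ 1 := by
      intro h
      have h1 : orderOf z = 1 := orderOf_eq_one_iff.mpr h
      have := hzo.symm.trans h1
      exact hp.one_lt.ne' this
    have hzcomm : ∀ w : (P : Subgroup H), w * z = z * w := fun w =>
      (Subgroup.mem_center_iff.mp hzc w)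
    have h1 := key x z (hzcomm x) hx hzp hx1
    have h2 := key z y (hzcomm y).symm hzp hy hz1
    obtain ⟨i, hi⟩ := Subgroup.mem_zpowers_iff.mp h1
    obtain ⟨j, hj⟩ := Subgroup.mem_zpowers_iff.mp h2
    rw [Subgroup.mem_zpowers_iff]
    exact ⟨i * j, by rw [zpow_mul, hi, hj]⟩
  rcases cyclic_or_quaternion p P.2 hu with h | ⟨-, h⟩
  · exact Or.inl h
  · exact Or.inr h

end Cfsg.Agent.S0040
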