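import Cfsg.Statements.S0173
import Cfsg.Agent.Lib.Helper6.PermCount
import Cfsg.Agent.Lib.Helper6.Auto

set_option autoImplicit false
open Cfsg

namespace Cfsg.Agent.S0173

/-- Brauer's permutation lemma for a single automorphism: the number of conjugacy classes mapped to themselves equals the number of irreducible complex characters χ with χ ∘ α = χ. -/
theorem result {G : Type*} [Group G] [Finite G] (α : G ≃* G) : Nat.card {C : ConjClasses G // ConjClasses.map α.toMonoidHom C = C} = Nat.card {χ : Cfsg.IrrCharacter G // (χ : G → ℂ) ∘ α = (χ : G → ℂ)} := by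
  classical
  have : Fintype G := Fintype.ofFinite G
  have key := Cfsg.Agent.Lib.Helper6.card_fixed_classes_eq_card_fixed_irr (G := G)
    (fun g => α g)
    (fun x y hxy => by
      obtain ⟨c, hc⟩ := isConj_iff.mp hxy
      exact isConj_iff.mpr ⟨α c, by rw [← hc]; simp⟩)
    (fun χ => Cfsg.Agent.Lib.Helper6.IsIrrCharacter.comp_mulEquiv α χ.2)
  have h2 : Nat.card {χ : Cfsg.IrrCharacter G // (χ : G → ℂ) ∘ α = (χ : G → ℂ)}
      = Nat.card {χ : Cfsg.IrrCharacter G // (χ : G → ℂ) ∘ (fun g => α g) = (χ : G → ℂ)} := rfl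
  rw [h2, ← key]
  apply Nat.card_congr
  apply Equiv.subtypeEquivRight
  intro C
  constructor
  · intro h g hg
    rw [← hg] at h
    have h3 : ConjClasses.mk (α g) = ConjClasses.mk g := h
    exact (ConjClasses.mk_eq_mk_iff_isConj.mp h3).symm
  · intro h
    obtain ⟨g, rfl⟩ := ConjClasses.exists_rep C
    have h3 := h g rfl
    show ConjClasses.mk (α g) = ConjClasses.mk g
    exact (ConjClasses.mk_eq_mk_iff_isConj.mpr h3).symm

end Cfsg.Agent.S0173
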