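import Cfsg.Statements.S1273
import Mathlib
import Cfsg.Agent.Lib.Helper8.PComp3

set_option autoImplicit false
open Cfsg

namespace Cfsg.Agent.S1273

/-- Let K be a p-component of the finite group X and N a normal subgroup of K whose index in K is prime to p. Then N = K. -/
theorem result {X : Type*} [Group X] [Finite X] (p : ℕ) [Fact p.Prime] (K : Subgroup X) (hK : Cfsg.IsPComponent p K) (N : Subgroup ↥K) [N.Normal] (hidx : (N.index).Coprime p) : N = ⊤ := by
  have hcm : (N.map K.subtype).subgroupOf K = N :=
    Subgroup.comap_map_eq_self_of_injective K.subtype_injective N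
  have hMK : N.map K.subtype ≤ K := by
    rintro _ ⟨x, _, rfl⟩
    exact x.2
  have hn : K ≤ Subgroup.normalizer ((N.map K.subtype : Subgroup X) : Set X) := by
    rw [← Subgroup.normal_subgroupOf_iff_le_normalizer hMK, hcm]
    infer_instance
  have hidx : ((N.map K.subtype).relIndex K).Coprime p := by
    unfold Subgroup.relIndex
    rw [hcm]; exact hidx
  have h := Cfsg.Agent.Lib.Helper8.PComp.isPComponent_eq_of_relIndex_coprime hK hMK hn hidx
  rw [← hcm, h]
  exact Subgroup.subgroupOf_self K

end Cfsg.Agent.S1273
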