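import Cfsg.Statements.S3225
import Mathlib

set_option autoImplicit false
set_option linter.style.haveILetI false
open Cfsg

namespace Cfsg.Agent.S3225

open MulAction

/-- in a group of order two, two non-identity elements coincide -/
theorem eq_of_ne_one {A : Type*} [Group A] (hA : Nat.card A = 2) (a b : A) (ha : a ≠ 1) (hb : b ≠ 1) :
    b = a := by
  haveI : Fact (Nat.Prime 2) := ⟨Nat.prime_two⟩
  have h2 : a ^ 2 = 1 := by rw [← hA]; exact pow_card_eq_one'
  have hmem : b ∈ Subgroup.zpowers a := mem_zpowers_of_prime_card hA ha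
  rw [Subgroup.mem_zpowers_iff] at hmem
  obtain ⟨k, rfl⟩ := hmem
  have hz2 : a ^ (2 : ℤ) = 1 := by exact_mod_cast h2
  rcases Int.even_or_odd' k with ⟨m, hm | hm⟩
  · exfalso
    apply hb
    rw [hm, zpow_mul, hz2, one_zpow]
  · rw [hm, zpow_add, zpow_mul, hz2, one_zpow, one_mul, zpow_one]

/-- Let G be a finite group of even order with no subgroup of index 2, S a Sylow 2-subgroup of G and M a subgroup of index 2 in S such that, for some n ≥ 1, every element of S outside M has order greater than 2^(n−1). Then every element of S of order 2ⁿ is conjugate in G to an element of M. -/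
theorem result {G : Type*} [Group G] [Finite G] (hev : Even (Nat.card G))
    (hG : ∀ H : Subgroup G, H.index ≠ 2) (S : Sylow 2 G) (M : Subgroup G) (hMS : M ≤ (S : Subgroup G)) (hM : M.relIndex (S : Subgroup G) = 2)
    (n : ℕ) (hn : 1 ≤ n) (hord : ∀ y ∈ (S : Subgroup G), y ∉ M → 2 ^ (n - 1) < orderOf y)
    (x : G) (hx : x ∈ (S : Subgroup G)) (hxn : orderOf x = 2 ^ n) :
    ∃ g : G, g * x * g⁻¹ ∈ M := by
  classical
  by_contra hcon
  push Not at hcon
  haveI : Fact (Nat.Prime 2) := ⟨Nat.prime_two⟩
  set P : Subgroup G := (S : Subgroup G) with hP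
  set M' : Subgroup P := M.subgroupOf P with hM'
  have hidx : M'.index = 2 := hM
  haveI hMn : M'.Normal := Subgroup.normal_of_index_eq_two hidx
  have hcardA : Nat.card (P ⧸ M') = 2 := hidx
  haveI : IsCyclic (P ⧸ M') := isCyclic_of_prime_card hcardA
  letI : CommGroup (P ⧸ M') := IsCyclic.commGroup
  let ϕ : P →* P ⧸ M' := QuotientGroup.mk' M'
  have hϕ : ∀ y : P, ϕ y = 1 ↔ (y : G) ∈ M := by
    intro y
    rw [QuotientGroup.mk'_apply, QuotientGroup.eq_one_iff, Subgroup.mem_subgroupOf]
  -- the transfer is trivial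
  have htriv : ∀ g : G, MonoidHom.transfer ϕ g = 1 := by
    intro g
    by_contra hg
    apply hG (MonoidHom.transfer ϕ).ker
    rw [Subgroup.index_ker]
    haveI : Fact (Nat.card (P ⧸ M')).Prime := by rw [hcardA]; infer_instance
    rcases Subgroup.eq_bot_or_eq_top_of_prime_card (MonoidHom.transfer ϕ).range with h | h
    · exfalso
      apply hg
      have : MonoidHom.transfer ϕ g ∈ (MonoidHom.transfer ϕ).range := ⟨g, rfl⟩
      rw [h, Subgroup.mem_bot] at this
      exact this
    · rw [h, Subgroup.card_top, hcardA]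
  haveI : Fintype (Quotient (orbitRel (Subgroup.zpowers x) (G ⧸ P))) := Fintype.ofFinite _
  have hform := MonoidHom.transfer_eq_prod_quotient_orbitRel_zpowers_quot ϕ x
  rw [htriv x] at hform
  -- the nontrivial element
  set a : P ⧸ M' := ϕ ⟨x, hx⟩ with ha
  have ha1 : a ≠ 1 := by
    rw [ha, Ne, hϕ]
    have := hcon 1
    simpa using this
  have ha2 : a ^ 2 = 1 := by rw [← hcardA]; exact pow_card_eq_one'
  -- compute each factor
  have hfactor : ∀ q : Quotient (orbitRel (Subgroup.zpowers x) (G ⧸ P)),
      ϕ ⟨q.out.out⁻¹ * x ^ Function.minimalPeriod (x • ·) q.out * q.out.out,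
        QuotientGroup.out_conj_pow_minimalPeriod_mem P x q.out⟩ =
      if Function.minimalPeriod (x • ·) q.out = 1 then a else 1 := by
    intro q
    set k := Function.minimalPeriod (x • ·) q.out with hk
    set g := q.out.out with hg
    have hmem : g⁻¹ * x ^ k * g ∈ P := QuotientGroup.out_conj_pow_minimalPeriod_mem P x q.out
    by_cases hk1 : k = 1
    · rw [if_pos hk1]
      apply eq_of_ne_one hcardA _ _ ha1
      rw [Ne, hϕ]
      show g⁻¹ * x ^ k * g ∉ M
      rw [hk1, pow_one]
      have := hcon g⁻¹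
      rw [inv_inv] at this
      exact this
    · rw [if_neg hk1]
      rw [hϕ]
      show g⁻¹ * x ^ k * g ∈ M
      by_contra hnot
      have h1 := hord _ hmem hnot
      have hkdvd : k ∣ 2 ^ n := by
        rw [hk, ← pow_smul_eq_iff_minimalPeriod_dvd, ← hxn, pow_orderOf_eq_one, one_smul]
      obtain ⟨j, hjn, hkj⟩ := (Nat.dvd_prime_pow Nat.prime_two).1 hkdvd
      have hj1 : 1 ≤ j := by
        rcases Nat.eq_zero_or_pos j with h0 | h0
        · rw [h0, pow_zero] at hkj
          exact absurd hkj hk1
        · exact h0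
      have hconj : g⁻¹ * x ^ k * g = (MulAut.conj g⁻¹) (x ^ k) := by
        simp
      have hkpos : k ≠ 0 := by rw [hkj]; positivity
      rw [hconj, MulEquiv.orderOf_eq (MulAut.conj g⁻¹),
        orderOf_pow_of_dvd hkpos (by rw [hxn]; exact hkdvd), hxn, hkj,
        Nat.pow_div hjn (by norm_num)] at h1
      have : n - j ≤ n - 1 := by omega
      have := Nat.pow_le_pow_right (show 0 < 2 by norm_num) this
      omega
  simp only [hfactor] at hform
  rw [Finset.prod_ite, Finset.prod_const_one, mul_one, Finset.prod_const] at hform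
  -- parity of the number of fixed cosets
  set c := (Finset.univ.filter (fun q : Quotient (orbitRel (Subgroup.zpowers x) (G ⧸ P)) =>
    Function.minimalPeriod (x • ·) q.out = 1)).card with hc
  have hodd_idx : ¬ 2 ∣ P.index := S.not_dvd_index
  have hsum := Subgroup.index_eq_sum_minimalPeriod P x
  have hmod : P.index % 2 = c % 2 := by
    rw [hsum, Finset.sum_nat_mod, hc, Finset.card_filter]
    congr 1
    apply Finset.sum_congr rfl
    intro q _
    by_cases hk1 : Function.minimalPeriod (x • ·) q.out = 1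
    · rw [if_pos hk1, hk1]
    · rw [if_neg hk1]
      have hkdvd : Function.minimalPeriod (x • ·) q.out ∣ 2 ^ n := by
        rw [← pow_smul_eq_iff_minimalPeriod_dvd, ← hxn, pow_orderOf_eq_one, one_smul]
      obtain ⟨j, hjn, hkj⟩ := (Nat.dvd_prime_pow Nat.prime_two).1 hkdvd
      have hj1 : 1 ≤ j := by
        rcases Nat.eq_zero_or_pos j with h0 | h0
        · rw [h0, pow_zero] at hkj
          exact absurd hkj hk1
        · exact h0
      rw [hkj]
      obtain ⟨j', rfl⟩ : ∃ j', j = j' + 1 := ⟨j - 1, by omega⟩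
      rw [pow_succ]
      simp
  have hcodd : c % 2 = 1 := by omega
  have : a ^ c = a := by
    have hc2 : c = 2 * (c / 2) + 1 := by omega
    rw [hc2, pow_succ, pow_mul, ha2, one_pow, one_mul]
  rw [this] at hform
  exact ha1 hform.symm

end Cfsg.Agent.S3225
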