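import Cfsg.Statements.S5078
import Cfsg.Agent.Lib.Helper9.FusionBasic

set_option autoImplicit false
open Cfsg

namespace Cfsg.Agent.S5078

open Cfsg.FusionSystem Cfsg.Agent.Lib.Helper9

/-- In any fusion system over a finite subgroup S, a receptive subgroup is fully centralized. -/
theorem result {Ω : Type*} [Group Ω] {S : Subgroup Ω} [Finite S] (F : Cfsg.FusionSystem S) (P : Subgroup Ω) (hP : F.IsReceptive P) : F.IsFullyCentralized P := by
  obtain ⟨hPS, hrec⟩ := hP
  refine ⟨hPS, ?_⟩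
  rintro Q ⟨φ, hφ, rfl⟩
  obtain ⟨ψ, hψ, hψφ⟩ := F.inv_mem hφ
  have hrange : ψ.range = P := by
    apply le_antisymm
    · rintro _ ⟨⟨_, x, rfl⟩, rfl⟩
      rw [hψφ x]
      exact x.2
    · intro x hx
      exact ⟨⟨φ ⟨x, hx⟩, ⟨⟨x, hx⟩, rfl⟩⟩, hψφ ⟨x, hx⟩⟩
  obtain ⟨χ, hχ, hχext⟩ := hrec φ.range ψ hψ hrange
  have hQS : φ.range ≤ S := range_le F hφ
  -- the centralizer is inside the extender
  have hCle : centralizerIn S φ.range ≤ extender S φ.range ψ := by
    intro c hc
    apply Subgroup.subset_closure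
    refine ⟨hc.1, ?_, 1, S.one_mem, ?_⟩
    · have hc2 : c ∈ Subgroup.centralizer (φ.range : Set Ω) := hc.2
      exact Subgroup.centralizer_le_normalizer _ hc2
    · intro x hx
      have hc2 : c ∈ Subgroup.centralizer (φ.range : Set Ω) := hc.2
      have hcx : c * (x : Ω) * c⁻¹ = x := by
        have := hc2 x x.2
        rw [← this]; group
      have : (⟨c * (x : Ω) * c⁻¹, hx⟩ : φ.range) = x := Subtype.ext hcx
      rw [this]; simp
  have hQle : φ.range ≤ extender S φ.range ψ := by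
    intro g hg
    apply Subgroup.subset_closure
    refine ⟨hQS hg, Subgroup.le_normalizer hg, ψ ⟨g, hg⟩, hom_mem F hψ _, ?_⟩
    intro x hx
    have : (⟨g * (x : Ω) * g⁻¹, hx⟩ : φ.range) = ⟨g, hg⟩ * x * ⟨g, hg⟩⁻¹ := Subtype.ext rfl
    rw [this]; simp
  -- the injection
  have hmem : ∀ c : centralizerIn S φ.range, χ ⟨c, hCle c.2⟩ ∈ centralizerIn S P := by
    intro c
    refine ⟨hom_mem F hχ _, ?_⟩
    intro y hy
    -- y = ψ x = χ x
    rw [← hrange] at hy
    obtain ⟨x, rfl⟩ := hy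
    have hx := hχext x x.2 (hQle x.2)
    have hxe : (⟨(x : Ω), x.2⟩ : φ.range) = x := Subtype.ext rfl
    rw [hxe] at hx
    rw [← hx, ← map_mul, ← map_mul]
    congr 1
    apply Subtype.ext
    have hc2 : (c : Ω) ∈ Subgroup.centralizer (φ.range : Set Ω) := c.2.2
    exact hc2 x x.2
  let f : centralizerIn S φ.range → centralizerIn S P := fun c => ⟨χ ⟨c, hCle c.2⟩, hmem c⟩
  have hf : Function.Injective f := by
    intro a b hab
    have h1 : χ ⟨a, hCle a.2⟩ = χ ⟨b, hCle b.2⟩ := congrArg Subtype.val hab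
    have h2 := F.injective_of_mem hχ h1
    have h3 : (a : Ω) = (b : Ω) := congrArg (fun z : extender S φ.range ψ => (z : Ω)) h2
    exact Subtype.ext h3
  have : Finite (centralizerIn S P) :=
    Finite.of_injective (fun c : centralizerIn S P => (⟨c, c.2.1⟩ : S))
      (fun a b hab => Subtype.ext (congrArg (fun z : S => (z : Ω)) hab))
  exact Nat.card_le_card_of_injective f hf

end Cfsg.Agent.S5078
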