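import Cfsg.Statements.S5080
import Cfsg.Agent.Lib.Helper9.StronglyEmbedded
import Cfsg.Agent.Lib.Helper9.FusionAut

set_option autoImplicit false
open Cfsg

namespace Cfsg.Agent.S5080

open Cfsg.FusionSystem Cfsg.Agent.Lib.Helper9

theorem inn_le_autGroup {Ω : Type*} [Group Ω] {S : Subgroup Ω} (F : Cfsg.FusionSystem S)
    {P : Subgroup Ω} (hP : P ≤ S) : Cfsg.Inn P ≤ F.autGroup P := by
  rintro _ ⟨g, rfl⟩
  rw [mem_autGroup_iff F hP]
  have h1 := F.conj_mem hP (hP g.2)
  have h2 : conjHom P (g : Ω) = P.subtype.comp (MulAut.conj g).toMonoidHom := by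
    ext x
    rfl
  rw [← h2]
  exact h1

/-- In a saturated fusion system over a finite p-group, every essential subgroup is radical (it is centric and fully normalized by definition, so it is centric-radical and fully normalized). -/
theorem result {Ω : Type*} [Group Ω] {S : Subgroup Ω} [Finite S] (p : ℕ) [Fact p.Prime] (hS : IsPGroup p S) (F : Cfsg.FusionSystem S) (hF : F.IsSaturated p) (P : Subgroup Ω) (hP : F.IsEssential p P) : F.IsRadical p P := by
  obtain ⟨hcen, -, hnorm, E, hE⟩ := hP
  have hPS : P ≤ S := hcen.1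
  refine ⟨hPS, ?_⟩
  have hfinP : Finite P := Finite.of_injective (Subgroup.inclusion hPS)
    (Subgroup.inclusion_injective hPS)
  have hPp : IsPGroup p P := hS.of_injective (Subgroup.inclusion hPS)
    (Subgroup.inclusion_injective hPS)
  have hInnA : Cfsg.Inn P ≤ F.autGroup P := inn_le_autGroup F hPS
  have hcore := pCore_eq_bot_of_stronglyPEmbedded hE
  have hImap : ((Cfsg.Inn P).subgroupOf (F.autGroup P)).map (F.autGroup P).subtype = Cfsg.Inn P := by
    rw [Subgroup.subgroupOf_map_subtype]
    exact inf_eq_left.mpr hInnA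
  apply le_antisymm
  · have h1 : (pCore p (F.autGroup P)).map
        (QuotientGroup.mk' ((Cfsg.Inn P).subgroupOf (F.autGroup P))) ≤
        pCore p (↥(F.autGroup P) ⧸ (Cfsg.Inn P).subgroupOf (F.autGroup P)) :=
      le_pCore' ((pCore_normal' p _).map _ (QuotientGroup.mk'_surjective _))
        ((pCore_isPGroup' p _).map _)
    rw [hcore] at h1
    have h2 : pCore p (F.autGroup P) ≤ (Cfsg.Inn P).subgroupOf (F.autGroup P) := by
      intro x hx
      have h3 : QuotientGroup.mk' ((Cfsg.Inn P).subgroupOf (F.autGroup P)) x ∈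
          (⊥ : Subgroup (↥(F.autGroup P) ⧸ (Cfsg.Inn P).subgroupOf (F.autGroup P))) :=
        h1 ⟨x, hx, rfl⟩
      rw [Subgroup.mem_bot] at h3
      have h4 : x ∈ (QuotientGroup.mk' ((Cfsg.Inn P).subgroupOf (F.autGroup P))).ker := h3
      rwa [QuotientGroup.ker_mk'] at h4
    calc (pCore p (F.autGroup P)).map (F.autGroup P).subtype
        ≤ ((Cfsg.Inn P).subgroupOf (F.autGroup P)).map (F.autGroup P).subtype :=
          Subgroup.map_mono h2
      _ = Cfsg.Inn P := hImap
  · have hInnp : IsPGroup p (Cfsg.Inn P) := by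
      have : IsPGroup p ((MulAut.conj : P →* MulAut P).range) := by
        rw [MonoidHom.range_eq_map]
        exact (IsPGroup.to_subgroup hPp ⊤).map _
      exact this
    have h1 : IsPGroup p ((Cfsg.Inn P).subgroupOf (F.autGroup P)) := hInnp.comap_subtype
    have h2 : (Cfsg.Inn P).subgroupOf (F.autGroup P) ≤ pCore p (F.autGroup P) :=
      le_pCore' hnorm h1
    calc Cfsg.Inn P = ((Cfsg.Inn P).subgroupOf (F.autGroup P)).map (F.autGroup P).subtype :=
          hImap.symm
      _ ≤ _ := Subgroup.map_mono h2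

end Cfsg.Agent.S5080
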