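import Mathlib
import Cfsg.Statements.S0789
import Cfsg.Agent.Lib.Helper5.Dickson

set_option autoImplicit false
set_option linter.unusedSectionVars false
open Cfsg

namespace Cfsg.Agent.S0789

open Matrix QuadraticMap Cfsg.Agent.Lib.Helper5.CartanDieudonne
  Cfsg.Agent.Lib.Helper5.Refl Cfsg.Agent.Lib.Helper5.SpinorNorm Cfsg.Agent.Lib.Helper5.Dickson

section
variable {ι : Type} [Fintype ι] [DecidableEq ι] {F : Type*} [Field F] [Fintype F]
  (Q : QuadraticForm F (ι → F))

/-- in characteristic two all reflections have the same image in an abelian quotient -/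
theorem pi_reflE_eq2 (hchar : ringChar F = 2) (hQ : (polarBilin Q).Nondegenerate)
    {A : Type*} [CommGroup A] (π : ↥(isometryGroup F ⇑Q) →* A) (v w : ι → F) (hv : Q v ≠ 0)
    (hw : Q w ≠ 0) : π (reflE Q v) = π (reflE Q w) := by
  obtain ⟨g, hg⟩ := exists_conj_reflection Q hQ v w hv hw
    (FiniteField.isSquare_of_char_two hchar _)
  rw [reflE_of_ne Q v hv, reflE_of_ne Q w hw, ← hg, map_mul, map_mul, map_inv]
  rw [mul_comm (π g), mul_assoc, mul_inv_cancel, mul_one]

theorem pi_prod_eq_pow (hchar : ringChar F = 2) (hQ : (polarBilin Q).Nondegenerate)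
    {A : Type*} [CommGroup A] (π : ↥(isometryGroup F ⇑Q) →* A) (p : ι → F) (hp : Q p ≠ 0)
    (vs : List (ι → F)) (hvs : ∀ v ∈ vs, Q v ≠ 0) :
    π (vs.map (reflE Q)).prod = π (reflE Q p) ^ vs.length := by
  induction vs with
  | nil => simp
  | cons v vs ih =>
    rw [List.map_cons, List.prod_cons, map_mul, ih (fun u hu => hvs u (List.mem_cons_of_mem _ hu)),
      pi_reflE_eq2 Q hchar hQ π v p (hvs v (List.mem_cons_self ..)) hp, List.length_cons, pow_succ,
      mul_comm]

theorem exists_aniso (hQ : (polarBilin Q).Nondegenerate) [Nonempty ι] : ∃ p : ι → F, Q p ≠ 0 := by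
  by_contra hcon
  push Not at hcon
  obtain ⟨i⟩ := ‹Nonempty ι›
  have h1 : (Pi.single i (1 : F) : ι → F) = 0 := by
    apply hQ.1
    intro y
    rw [polarBilin_apply_apply]
    simp [polar, hcon]
  have := congrFun h1 i
  simp at this

theorem ker_par (hchar : ringChar F = 2) (hQ : (polarBilin Q).Nondegenerate)
    (hex : Fintype.card ι = 4 → ∃ a : F, a ≠ 0 ∧ a ≠ 1) [Nonempty ι] :
    (par Q hQ hex).ker = commutator ↥(isometryGroup F ⇑Q) := by
  apply le_antisymm
  · intro g hg
    rw [MonoidHom.mem_ker] at hg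
    obtain ⟨vs, hvs⟩ := exists_rep' Q hQ hex g
    rw [par_eq Q hQ hex g vs hvs, neg_one_pow_eq_one_iff] at hg
    obtain ⟨p, hp⟩ := exists_aniso Q hQ
    rw [← Abelianization.ker_of, MonoidHom.mem_ker, rep_eq_prod Q hvs,
      pi_prod_eq_pow Q hchar hQ _ p hp vs hvs.1]
    obtain ⟨k, hk⟩ := hg
    rw [hk, pow_add, ← mul_pow, ← map_mul, reflE_mul_self, map_one, one_pow]
  · exact Abelianization.commutator_subset_ker _

theorem index_commutator2 (hchar : ringChar F = 2) (hQ : (polarBilin Q).Nondegenerate)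
    (hex : Fintype.card ι = 4 → ∃ a : F, a ≠ 0 ∧ a ≠ 1) [Nonempty ι] :
    (commutator ↥(isometryGroup F ⇑Q)).index = 2 := by
  rw [← ker_par Q hchar hQ hex, Subgroup.index_ker]
  have hsurj : Function.Surjective (par Q hQ hex) := by
    obtain ⟨p, hp⟩ := exists_aniso Q hQ
    intro u
    rcases Int.units_eq_one_or u with rfl | rfl
    · exact ⟨1, map_one _⟩
    · exact ⟨reflection Q p hp, par_reflection Q hQ hex p hp⟩
  rw [MonoidHom.range_eq_top.mpr hsurj, Nat.card_congr (Subgroup.topEquiv (G := ℤˣ)).toEquiv,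
    Nat.card_eq_fintype_card, Fintype.card_units_int]

end

/-- Ω has index 2 in O for q even: if F is finite of characteristic two, n ≥ 2, Q is a quadratic form on F^n with non-degenerate polar form, and (|F|, n) ≠ (2, 4), then the commutator subgroup of the isometry group of Q has index 2 in it. -/
theorem result {F : Type*} [Field F] [Fintype F] [CharP F 2] {n : ℕ} (hn : 2 ≤ n) (Q : QuadraticForm F (Fin n → F)) (hQ : (QuadraticMap.polarBilin Q).Nondegenerate) (h : Fintype.card F ≠ 2 ∨ n ≠ 4) : (Cfsg.Omega F ⇑Q).index = 2 := by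
  classical
  have hchar : ringChar F = 2 := ringChar.eq F 2
  have : Nonempty (Fin n) := ⟨⟨0, by omega⟩⟩
  refine index_commutator2 Q hchar hQ ?_
  intro hn4
  have hn4' : n = 4 := by simpa using hn4
  have hcard : Fintype.card F ≠ 2 := by
    rcases h with h | h
    · exact h
    · exact absurd hn4' h
  by_contra hcon
  push Not at hcon
  have hsub : (Finset.univ : Finset F) ⊆ {0, 1} := by
    intro a _
    by_cases ha : a = 0
    · simp [ha]
    · simp [hcon a ha]
  have h1 := Finset.card_le_card hsub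
  have h2 : ({0, 1} : Finset F).card ≤ 2 := Finset.card_le_two
  rw [Finset.card_univ] at h1
  have h3 : 2 ≤ Fintype.card F := by
    have := Fintype.one_lt_card (α := F)
    omega
  omega

end Cfsg.Agent.S0789
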