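import Cfsg.Statements.S2619

set_option autoImplicit false
open Cfsg

namespace Cfsg.Agent.S2619

open Matrix

theorem quad_add {F V : Type*} [Field F] [AddCommGroup V] [Module F V] (Q : QuadraticForm F V) (x y : V) :
    Q (x + y) = Q x + Q y + QuadraticMap.polarBilin Q x y := by
  simp only [QuadraticMap.polarBilin_apply_apply, QuadraticMap.polar]
  ring

/-- two quadratic forms with the same polar form and the same values on a basis agree -/
theorem unique_aux {F V ι : Type*} [Field F] [AddCommGroup V] [Module F V] [Fintype ι] (b : Module.Basis ι F V)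
    (Q₁ Q₂ : QuadraticForm F V) (hpol : QuadraticMap.polarBilin Q₁ = QuadraticMap.polarBilin Q₂)
    (hb : ∀ i, Q₁ (b i) = Q₂ (b i)) : Q₁ = Q₂ := by
  classical
  have key : ∀ (s : Finset ι) (a : ι → F), Q₁ (∑ i ∈ s, a i • b i) = Q₂ (∑ i ∈ s, a i • b i) := by
    intro s a
    induction s using Finset.induction_on with
    | empty => simp
    | insert j s hj ih =>
      rw [Finset.sum_insert hj, quad_add, quad_add, ih, hpol, QuadraticMap.map_smul, QuadraticMap.map_smul, hb]
  ext x
  have := key Finset.univ (fun i => b.repr x i)
  rwa [b.sum_repr] at this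

/-- Over a finite field of characteristic two, for an alternating form B, a basis (v_i) and scalars λ_i there is exactly one quadratic form polarising to B with Q(v_i) = λ_i. -/
theorem result {F V ι : Type*} [Field F] [Finite F] [CharP F 2] [AddCommGroup V] [Module F V] [Fintype ι] (b : Module.Basis ι F V) (B : LinearMap.BilinForm F V) (hB : B.IsAlt) (c : ι → F) : ∃! Q : QuadraticForm F V, QuadraticMap.polarBilin Q = B ∧ ∀ i, Q (b i) = c i := by
  classical
  let _inst : LinearOrder ι := LinearOrder.lift' (Fintype.equivFin ι) (Equiv.injective _)
  have h2 : (2 : F) = 0 := by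
    have := CharP.cast_eq_zero F 2
    exact_mod_cast this
  have hneg : ∀ x : F, -x = x := by
    intro x
    have : x + x = 0 := by
      have : x + x = 2 * x := by ring
      rw [this, h2, zero_mul]
    exact neg_eq_of_add_eq_zero_left this
  have hsymm : ∀ x y, B x y = B y x := by
    intro x y
    have := hB.neg_eq x y
    rw [hneg] at this
    exact this
  -- the auxiliary (non-symmetric) bilinear form
  let M : Matrix ι ι F := Matrix.of (fun i j => if i < j then B (b i) (b j) else if i = j then c i else 0)
  let B' : LinearMap.BilinForm F V := Matrix.toBilin b M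
  have hB' : ∀ i j, B' (b i) (b j) = M i j := by
    intro i j
    have := LinearMap.BilinForm.toMatrix_apply b B' i j
    rw [← this]
    show (LinearMap.BilinForm.toMatrix b) (Matrix.toBilin b M) i j = M i j
    rw [LinearMap.BilinForm.toMatrix_toBilin]
  refine ⟨LinearMap.BilinMap.toQuadraticMap B', ⟨?_, ?_⟩, ?_⟩
  · rw [LinearMap.BilinMap.polarBilin_toQuadraticMap]
    apply LinearMap.BilinForm.ext_basis b
    intro i j
    simp only [LinearMap.add_apply, LinearMap.flip_apply, hB']
    simp only [M, Matrix.of_apply]
    rcases lt_trichotomy i j with h | h | h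
    · have h1 : ¬ j < i := not_lt.mpr h.le
      have h3 : j ≠ i := (ne_of_lt h).symm
      simp [h, h1, h3]
    · subst h
      simp only [lt_irrefl, if_false, if_true]
      rw [hB.self_eq_zero]
      have : c i + c i = 2 * c i := by ring
      rw [this, h2, zero_mul]
    · have h1 : ¬ i < j := not_lt.mpr h.le
      have h3 : i ≠ j := (ne_of_lt h).symm
      simp only [h, h1, h3, if_false, if_true, zero_add]
      exact hsymm _ _
  · intro i
    rw [LinearMap.BilinMap.toQuadraticMap_apply, hB']
    simp [M]
  · rintro Q ⟨hQ1, hQ2⟩
    apply unique_aux b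
    · rw [hQ1, LinearMap.BilinMap.polarBilin_toQuadraticMap]
      apply LinearMap.BilinForm.ext_basis b
      intro i j
      simp only [LinearMap.add_apply, LinearMap.flip_apply, hB']
      simp only [M, Matrix.of_apply]
      rcases lt_trichotomy i j with h | h | h
      · have h1 : ¬ j < i := not_lt.mpr h.le
        have h3 : j ≠ i := (ne_of_lt h).symm
        simp [h, h1, h3]
      · subst h
        simp only [lt_irrefl, if_false, if_true]
        rw [hB.self_eq_zero]
        have : c i + c i = 2 * c i := by ring
        rw [this, h2, zero_mul]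
      · have h1 : ¬ i < j := not_lt.mpr h.le
        have h3 : i ≠ j := (ne_of_lt h).symm
        simp only [h, h1, h3, if_false, if_true, zero_add]
        exact (hsymm _ _).symm
    · intro i
      rw [hQ2, LinearMap.BilinMap.toQuadraticMap_apply, hB']
      simp [M]

end Cfsg.Agent.S2619
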