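import Cfsg.Statements.S2620
import Cfsg.Agent.Lib.Helper5.Discriminant

set_option autoImplicit false
open Cfsg

namespace Cfsg.Agent.S2620

open Matrix Cfsg.Agent.Lib.Helper5

theorem polar_eq {F : Type*} [Field F] (m : ℕ) (u v : Fin m ⊕ Fin m → F) :
    QuadraticMap.polar (Cfsg.quadFormPlus m F) u v =
      Matrix.toBilin' (Matrix.fromBlocks (0 : Matrix (Fin m) (Fin m) F) (1 : Matrix (Fin m) (Fin m) F) (1 : Matrix (Fin m) (Fin m) F) (0 : Matrix (Fin m) (Fin m) F)) u v := by
  rw [Matrix.toBilin'_apply']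
  simp only [QuadraticMap.polar, Cfsg.quadFormPlus, dotProduct, Matrix.mulVec, Fintype.sum_sum_type,
    Matrix.fromBlocks_apply₁₁, Matrix.fromBlocks_apply₁₂, Matrix.fromBlocks_apply₂₁, Matrix.fromBlocks_apply₂₂,
    Matrix.zero_apply, Matrix.one_apply, Pi.add_apply]
  simp only [zero_mul, Finset.sum_const_zero, zero_add, add_zero, ite_mul, one_mul, Finset.sum_ite_eq, Finset.mem_univ, if_true]
  rw [← Finset.sum_sub_distrib, ← Finset.sum_sub_distrib, ← Finset.sum_add_distrib]
  apply Finset.sum_congr rfl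
  intro i _
  ring

/-- For q odd, the discriminant of the hyperbolic form Σ_(i<m) x_i y_i (in any basis) is a square iff m(q−1)/2 is even. -/
theorem result {F : Type*} [Field F] [Fintype F] {q : ℕ} (hF : Fintype.card F = q) (hq : Odd q) {m : ℕ} (hm : 1 ≤ m) {ι : Type*} [Fintype ι] [DecidableEq ι] (b : Module.Basis ι F (Fin m ⊕ Fin m → F)) : IsSquare (Matrix.of (fun i j : ι => QuadraticMap.polar (Cfsg.quadFormPlus m F) (b i) (b j))).det ↔ Even (m * (q - 1) / 2) := by
  set J := Matrix.fromBlocks (0 : Matrix (Fin m) (Fin m) F) (1 : Matrix (Fin m) (Fin m) F) (1 : Matrix (Fin m) (Fin m) F) (0 : Matrix (Fin m) (Fin m) F) with hJ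
  obtain ⟨d, hd, hdet⟩ := gram_det_basis (Matrix.toBilin' J) b
  have : (Matrix.of (fun i j : ι => QuadraticMap.polar (Cfsg.quadFormPlus m F) (b i) (b j))) =
      (Matrix.of (fun i j : ι => Matrix.toBilin' J (b i) (b j))) := by
    ext i j
    simp only [Matrix.of_apply]
    exact polar_eq m _ _
  rw [this, hdet, LinearMap.BilinForm.toMatrix'_toBilin', isSquare_mul_sq_iff d _ hd, hJ, det_hyp,
    isSquare_neg_one_pow_iff hF hq]

end Cfsg.Agent.S2620
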