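import Cfsg.Statements.S2621
import Cfsg.Agent.Lib.Helper5.Discriminant

set_option autoImplicit false
open Cfsg

namespace Cfsg.Agent.S2621

open Matrix Cfsg.Agent.Lib.Helper5

/-- Gram matrix of the elliptic form in the standard basis -/
def gramMinus {F : Type*} [Field F] (k : ℕ) (a c : F) : Matrix ((Fin k ⊕ Fin k) ⊕ Fin 2) ((Fin k ⊕ Fin k) ⊕ Fin 2) F :=
  Matrix.fromBlocks
    (Matrix.fromBlocks (0 : Matrix (Fin k) (Fin k) F) (1 : Matrix (Fin k) (Fin k) F) (1 : Matrix (Fin k) (Fin k) F) (0 : Matrix (Fin k) (Fin k) F))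
    0 0 !![2, a; a, 2 * c]

theorem polar_eq {F : Type*} [Field F] (k : ℕ) (a c : F) (u v : (Fin k ⊕ Fin k) ⊕ Fin 2 → F) :
    QuadraticMap.polar (Cfsg.quadFormMinus k F a c) u v = Matrix.toBilin' (gramMinus k a c) u v := by
  rw [Matrix.toBilin'_apply']
  simp only [gramMinus, QuadraticMap.polar, Cfsg.quadFormMinus, dotProduct, Matrix.mulVec, Fintype.sum_sum_type,
    Matrix.fromBlocks_apply₁₁, Matrix.fromBlocks_apply₁₂, Matrix.fromBlocks_apply₂₁, Matrix.fromBlocks_apply₂₂,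
    Matrix.zero_apply, Matrix.one_apply, Pi.add_apply, Fin.sum_univ_two]
  simp only [zero_mul, Finset.sum_const_zero, zero_add, add_zero, ite_mul, one_mul, Finset.sum_ite_eq, Finset.mem_univ, if_true]
  simp only [Matrix.of_apply, Matrix.cons_val', Matrix.cons_val_zero, Matrix.cons_val_one, Matrix.cons_val_fin_one]
  have e1 : ∑ i : Fin k, (u (Sum.inl (Sum.inl i)) + v (Sum.inl (Sum.inl i))) * (u (Sum.inl (Sum.inr i)) + v (Sum.inl (Sum.inr i)))
      = ∑ i : Fin k, u (Sum.inl (Sum.inl i)) * u (Sum.inl (Sum.inr i)) + ∑ i : Fin k, v (Sum.inl (Sum.inl i)) * v (Sum.inl (Sum.inr i))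
        + (∑ i : Fin k, u (Sum.inl (Sum.inl i)) * v (Sum.inl (Sum.inr i)) + ∑ i : Fin k, u (Sum.inl (Sum.inr i)) * v (Sum.inl (Sum.inl i))) := by
    rw [← Finset.sum_add_distrib, ← Finset.sum_add_distrib, ← Finset.sum_add_distrib]
    apply Finset.sum_congr rfl
    intro i _
    ring
  rw [e1]
  ring

theorem det_gramMinus {F : Type*} [Field F] (k : ℕ) (a c : F) :
    (gramMinus k a c).det = (-1) ^ k * (4 * c - a ^ 2) := by
  rw [gramMinus, Matrix.det_fromBlocks_zero₂₁, det_hyp, Matrix.det_fin_two_of]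
  ring

/-- For q odd, the discriminant of an elliptic quadratic form of dimension 2m (in any basis) is a square iff m(q−1)/2 is odd. -/
theorem result {F : Type*} [Field F] [Fintype F] {q : ℕ} (hF : Fintype.card F = q) (hq : Odd q) {m : ℕ} (hm : 1 ≤ m) (a c : F) (hac : ∀ z₁ z₂ : F, z₁ ^ 2 + a * z₁ * z₂ + c * z₂ ^ 2 = 0 → z₁ = 0 ∧ z₂ = 0) {ι : Type*} [Fintype ι] [DecidableEq ι] (b : Module.Basis ι F ((Fin (m - 1) ⊕ Fin (m - 1)) ⊕ Fin 2 → F)) : IsSquare (Matrix.of (fun i j : ι => QuadraticMap.polar (Cfsg.quadFormMinus (m - 1) F a c) (b i) (b j))).det ↔ ¬ Even (m * (q - 1) / 2) := by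
  have hodd : Odd (Fintype.card F) := hF ▸ hq
  have h2 : (2 : F) ≠ 0 := two_ne_zero_of_odd_card hodd
  obtain ⟨d, hd, hdet⟩ := gram_det_basis (Matrix.toBilin' (gramMinus (m - 1) a c)) b
  have : (Matrix.of (fun i j : ι => QuadraticMap.polar (Cfsg.quadFormMinus (m - 1) F a c) (b i) (b j))) =
      (Matrix.of (fun i j : ι => Matrix.toBilin' (gramMinus (m - 1) a c) (b i) (b j))) := by
    ext i j
    simp only [Matrix.of_apply]
    exact polar_eq (m - 1) a c _ _
  rw [this, hdet, LinearMap.BilinForm.toMatrix'_toBilin', isSquare_mul_sq_iff d _ hd, det_gramMinus]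
  -- a^2 - 4c is a nonsquare
  have hns : ¬ IsSquare (a ^ 2 - 4 * c) := by
    rintro ⟨s, hs⟩
    have h := hac (s - a) 2 (by
      have : (s - a) ^ 2 + a * (s - a) * 2 + c * 2 ^ 2 = s * s - (a ^ 2 - 4 * c) := by ring
      rw [this, hs]; ring)
    exact h2 h.2
  have hrew : (-1 : F) ^ (m - 1) * (4 * c - a ^ 2) = (-1) ^ m * (a ^ 2 - 4 * c) := by
    obtain ⟨k, rfl⟩ : ∃ k, m = k + 1 := ⟨m - 1, by omega⟩
    simp only [Nat.add_sub_cancel, pow_succ]
    ring
  rw [hrew, isSquare_mul_nonsquare_iff hodd _ _ (pow_ne_zero _ (neg_ne_zero.mpr one_ne_zero)) hns,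
    isSquare_neg_one_pow_iff hF hq]

end Cfsg.Agent.S2621
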