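import Cfsg.Statements.S0856
import Mathlib
import Cfsg.Agent.Lib.Helper6.Gallagher
import Cfsg.Agent.Lib.Helper6.Constituent

set_option autoImplicit false
open Cfsg

namespace Cfsg.Agent.S0856

/-- Let N be a normal subgroup of the finite group G and φ, ϑ irreducible characters of N that are invariant under conjugation by G, such that the pointwise product φ * ϑ is irreducible and ϑ is the restriction of an irreducible character χ of G. Then multiplication by χ is a bijection from the set of irreducible characters of G having nonzero inner product with the function induced from φ onto the set of those having nonzero inner product with the function induced from φ * ϑ. -/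
theorem result {G : Type*} [Group G] [Fintype G] (N : Subgroup G) [hN : N.Normal] (φ ϑ : N → ℂ) (hφ : Cfsg.IsIrrCharacter N φ) (hϑ : Cfsg.IsIrrCharacter N ϑ) (hφinv : ∀ (g : G) (n : N), φ ⟨g * n * g⁻¹, hN.conj_mem (n : G) n.2 g⟩ = φ n) (hϑinv : ∀ (g : G) (n : N), ϑ ⟨g * n * g⁻¹, hN.conj_mem (n : G) n.2 g⟩ = ϑ n) (hprod : Cfsg.IsIrrCharacter N (φ * ϑ)) (χ : G → ℂ) (hχ : Cfsg.IsIrrCharacter G χ) (hext : ∀ n : N, χ n = ϑ n) : Set.BijOn (fun β : G → ℂ => β * χ) {β : G → ℂ | Cfsg.IsIrrCharacter G β ∧ Cfsg.classInner (Cfsg.indFun N φ) β ≠ 0} {ψ : G → ℂ | Cfsg.IsIrrCharacter G ψ ∧ Cfsg.classInner (Cfsg.indFun N (φ * ϑ)) ψ ≠ 0} := by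
  classical
  have _ := hϑ
  have : Fintype N := Fintype.ofFinite N
  have : Fintype (Cfsg.IrrCharacter G) := Fintype.ofFinite _
  have hχch := Cfsg.Agent.Lib.Helper6.IsIrrCharacter.isCharacter hχ
  have hχcf := Cfsg.Agent.Lib.Helper6.IsIrrCharacter.isClassFunction hχ
  have hχ1 := Cfsg.Agent.Lib.Helper6.IsIrrCharacter.apply_one_ne_zero hχ
  have hind : Cfsg.IsCharacter G (Cfsg.indFun N φ) :=
    Cfsg.Agent.Lib.Helper6.IsCharacter.indFun N (Cfsg.Agent.Lib.Helper6.IsIrrCharacter.isCharacter hφ)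
  obtain ⟨e, he, hei⟩ := Cfsg.Agent.Lib.Helper6.IsCharacter.exists_mult hind
  -- the projection formula
  have hϑeq : ϑ = fun n : N => χ n := funext (fun n => (hext n).symm)
  have hproj : Cfsg.indFun N (φ * ϑ) = ∑ β : Cfsg.IrrCharacter G, e β • ((β : G → ℂ) * χ) := by
    rw [hϑeq, Cfsg.Agent.Lib.Helper6.indFun_mul_restrict N φ hχcf, he, Finset.sum_mul]
    apply Finset.sum_congr rfl
    intro β _
    rw [smul_mul_assoc]
  -- invariance
  have hφinv' : ∀ g : G, Cfsg.Agent.Lib.Helper6.conjFun N hN φ g = φ := fun g => funext (hφinv g)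
  have hprodinv : ∀ g : G, Cfsg.Agent.Lib.Helper6.conjFun N hN (φ * ϑ) g = φ * ϑ := by
    intro g
    funext n
    rw [Cfsg.Agent.Lib.Helper6.conjFun_apply, Pi.mul_apply, Pi.mul_apply, hφinv g n, hϑinv g n]
  have hn1 := Cfsg.Agent.Lib.Helper6.classInner_indFun_self_of_invariant N hN hφ hφinv'
  have hn2 := Cfsg.Agent.Lib.Helper6.classInner_indFun_self_of_invariant N hN hprod hprodinv
  have hsq : ((∑ β, e β ^ 2 : ℕ) : ℂ) = (N.index : ℂ) := by
    rw [← hn1, he, Cfsg.Agent.Lib.Helper6.classInner_sum_irr]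
    congr 1
    apply Finset.sum_congr rfl
    intro β _
    ring
  have hnorm : Cfsg.classInner (∑ β, e β • ((β : G → ℂ) * χ)) (∑ β, e β • ((β : G → ℂ) * χ))
      = ((∑ β, e β ^ 2 : ℕ) : ℂ) := by
    rw [← hproj, hn2, hsq]
  obtain ⟨hirr, horth⟩ := Cfsg.Agent.Lib.Helper6.mul_irr_orthogonality e hχch hχ1 hnorm
  have hinner : ∀ ψ : G → ℂ, Cfsg.classInner (Cfsg.indFun N (φ * ϑ)) ψ
      = ∑ β : Cfsg.IrrCharacter G, (e β : ℂ) * Cfsg.classInner ((β : G → ℂ) * χ) ψ := by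
    intro ψ
    rw [hproj, Cfsg.Agent.Lib.Helper6.classInner_sum_left]
    apply Finset.sum_congr rfl
    intro β _
    rw [← Nat.cast_smul_eq_nsmul ℂ, Cfsg.Agent.Lib.Helper6.classInner_smul_left]
  refine ⟨?_, ?_, ?_⟩
  · -- maps to
    rintro β ⟨hβ, hβcon⟩
    have heβ : e ⟨β, hβ⟩ ≠ 0 := by
      intro h0
      apply hβcon
      rw [hei ⟨β, hβ⟩, h0, Nat.cast_zero]
    refine ⟨hirr ⟨β, hβ⟩ heβ, ?_⟩
    change Cfsg.classInner (Cfsg.indFun N (φ * ϑ)) (β * χ) ≠ 0
    rw [hinner, Finset.sum_eq_single (⟨β, hβ⟩ : Cfsg.IrrCharacter G)]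
    · have h1 := hirr ⟨β, hβ⟩ heβ
      rw [Cfsg.Agent.Lib.Helper6.classInner_isIrrCharacter h1 h1, if_pos rfl, mul_one]
      exact_mod_cast heβ
    · intro γ _ hγ
      by_cases h0 : e γ = 0
      · rw [h0, Nat.cast_zero, zero_mul]
      · rw [horth γ ⟨β, hβ⟩ h0 heβ hγ, mul_zero]
    · intro h
      exact absurd (Finset.mem_univ _) h
  · -- injective
    rintro β ⟨hβ, hβcon⟩ γ ⟨hγ, hγcon⟩ hβγ
    simp only at hβγ
    have heβ : e ⟨β, hβ⟩ ≠ 0 := by
      intro h0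
      apply hβcon
      rw [hei ⟨β, hβ⟩, h0, Nat.cast_zero]
    have heγ : e ⟨γ, hγ⟩ ≠ 0 := by
      intro h0
      apply hγcon
      rw [hei ⟨γ, hγ⟩, h0, Nat.cast_zero]
    by_contra hne
    have hne' : (⟨β, hβ⟩ : Cfsg.IrrCharacter G) ≠ ⟨γ, hγ⟩ := fun h => hne (congrArg Subtype.val h)
    have h1 := horth ⟨β, hβ⟩ ⟨γ, hγ⟩ heβ heγ hne'
    simp only at h1
    rw [← hβγ] at h1
    have h2 := hirr ⟨β, hβ⟩ heβ
    rw [Cfsg.Agent.Lib.Helper6.classInner_isIrrCharacter h2 h2, if_pos rfl] at h1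
    exact one_ne_zero h1
  · -- surjective
    rintro ψ ⟨hψ, hψcon⟩
    rw [hinner] at hψcon
    obtain ⟨β, _, hβne⟩ := Finset.exists_ne_zero_of_sum_ne_zero hψcon
    have heβ : e β ≠ 0 := by
      intro h0
      apply hβne
      rw [h0, Nat.cast_zero, zero_mul]
    have hne2 : Cfsg.classInner ((β : G → ℂ) * χ) ψ ≠ 0 := by
      intro h0
      apply hβne
      rw [h0, mul_zero]
    have h1 := hirr β heβ
    rw [Cfsg.Agent.Lib.Helper6.classInner_isIrrCharacter h1 hψ] at hne2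
    have heq : (β : G → ℂ) * χ = ψ := by
      by_contra hne
      rw [if_neg hne] at hne2
      exact hne2 rfl
    refine ⟨(β : G → ℂ), ⟨β.2, ?_⟩, heq⟩
    rw [hei β]
    exact_mod_cast heβ


end Cfsg.Agent.S0856
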