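import Cfsg.Statements.S0862
import Mathlib
import Cfsg.Agent.Lib.Helper3.DetChar
import Cfsg.Agent.S0856
import Cfsg.Agent.S0146
-- import your own Cfsg.Agent.* helpers here

set_option autoImplicit false
open Cfsg

namespace Cfsg.Agent.S0862

open Cfsg.Agent.Lib.Helper3.DetChar Cfsg.Agent.Lib.Helper6


/-- An element of a monoid killed by two coprime exponents is `1`. -/
theorem eq_one_of_pow_eq_one_of_coprime {M : Type*} [Monoid M] {z : M} {d m : ℕ}
    (hdm : Nat.Coprime m d) (hd : z ^ d = 1) (hm : z ^ m = 1) : z = 1 := by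
  have h1 := orderOf_dvd_of_pow_eq_one hd
  have h2 := orderOf_dvd_of_pow_eq_one hm
  have h3 : orderOf z ∣ 1 := by
    have := Nat.dvd_gcd h2 h1
    rwa [hdm] at this
  exact orderOf_eq_one_iff.mp (Nat.dvd_one.mp h3)


/-- Existence of `d`-th roots among the homomorphisms killed by `m`. -/
theorem exists_hom_pow_eq {G : Type*} [Group G] (lam : G →* ℂˣ) {d m : ℕ}
    (hdm : Nat.Coprime m d) (hm : ∀ g, lam g ^ m = 1) :
    ∃ β : G →* ℂˣ, (∀ g, β g ^ d = lam g) ∧ ∀ g, β g ^ m = 1 := by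
  obtain ⟨a, b, hab⟩ : ∃ a b : ℤ, a * d + b * m = 1 := by
    have := Int.gcd_eq_gcd_ab (d : ℤ) (m : ℤ)
    have hg : Int.gcd (d : ℤ) (m : ℤ) = 1 := by
      rw [Int.gcd_natCast_natCast]
      exact hdm.symm
    rw [hg] at this
    refine ⟨Int.gcdA d m, Int.gcdB d m, ?_⟩
    push_cast at this
    linarith
  refine ⟨(zpowGroupHom a).comp lam, fun g => ?_, fun g => ?_⟩
  · change (lam g ^ a) ^ d = lam g
    have h1 : (lam g ^ a) ^ d = lam g ^ (a * (d : ℤ)) := by
      rw [zpow_mul, zpow_natCast]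
    have : a * (d : ℤ) = 1 - (m : ℤ) * b := by linarith
    rw [h1, this, zpow_sub, zpow_one, zpow_mul, zpow_natCast, hm g]
    simp
  · change (lam g ^ a) ^ m = 1
    have h1 : (lam g ^ a) ^ m = lam g ^ ((m : ℤ) * a) := by
      rw [mul_comm, zpow_mul, zpow_natCast]
    rw [h1, zpow_mul, zpow_natCast, hm g]
    simp


theorem result' {G : Type*} [Group G] [Finite G] (N : Subgroup G) [hN : N.Normal] (ϑ : N → ℂ) (hϑ : Cfsg.IsIrrCharacter N ϑ) (d : ℕ) (hd : ϑ 1 = d) (hcop : Nat.Coprime N.index d) (hext : ∃ η : G → ℂ, Cfsg.IsIrrCharacter G η ∧ (∀ n : N, η n = ϑ n)) (μ : G → ℂ) (hμ : Cfsg.IsCharacter G μ ∧ μ 1 = 1) (hμN : ∀ n : N, μ n = Cfsg.detChar ϑ n) : ∃! χ : G → ℂ, Cfsg.IsIrrCharacter G χ ∧ (∀ n : N, χ n = ϑ n) ∧ Cfsg.detChar χ = μ := by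
  classical
  have : Fintype G := Fintype.ofFinite G
  obtain ⟨η, hη, hηN⟩ := hext
  have hηchar := IsIrrCharacter.isCharacter hη
  have hηcf := IsIrrCharacter.isClassFunction hη
  set m := N.index with hm
  have hη1 : η 1 = d := by rw [← hd]; exact hηN 1
  have hd0 : (d : ℂ) ≠ 0 := by
    rw [← hη1]; exact IsIrrCharacter.apply_one_ne_zero hη
  have hdeg : Cfsg.charDegree η = d := by
    have := IsCharacter.apply_one_eq_charDegree hηchar
    rw [hη1] at this
    exact_mod_cast this.symm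
  obtain ⟨fη, hfη⟩ := exists_hom_eq_detChar hηchar
  set fμ := linearCharHom hμ.1 hμ.2 with hfμ
  have hdetN : ∀ n : N, Cfsg.detChar η n = Cfsg.detChar ϑ n := by
    have h1 := detChar_comp N.subtype hηchar
    have h2 : (fun k : N => η (N.subtype k)) = ϑ := funext hηN
    rw [h2] at h1
    intro n
    exact (congrFun h1 n).symm
  set lam : G →* ℂˣ := fμ / fη with hlam
  have hlamN : ∀ n : N, lam n = 1 := by
    intro n
    have h1 : ((fμ n : ℂˣ) : ℂ) = ((fη n : ℂˣ) : ℂ) := by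
      rw [hfμ, linearCharHom_apply, hμN n, ← hdetN n, hfη]
    have h2 : fμ (n : G) = fη n := Units.ext h1
    rw [hlam, MonoidHom.div_apply, h2, div_self']
  have hpowN : ∀ g : G, g ^ m ∈ N := fun g => N.pow_index_mem g
  have hlamm : ∀ g, lam g ^ m = 1 := fun g => by
    rw [← map_pow]; exact hlamN ⟨g ^ m, hpowN g⟩
  obtain ⟨β, hβd, hβm⟩ := exists_hom_pow_eq lam hcop hlamm
  have hβN : ∀ n : N, β n = 1 := fun n =>
    eq_one_of_pow_eq_one_of_coprime hcop (by rw [hβd, hlamN]) (hβm n)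
  have hdetχ : ∀ f : G →* ℂˣ, Cfsg.detChar (fun g => ((f g : ℂˣ) : ℂ) * η g) =
      fun g => ((f g : ℂˣ) : ℂ) ^ d * ((fη g : ℂˣ) : ℂ) := by
    intro f
    rw [detChar_mul_hom f hηchar, hdeg, hfη]
  have hμeq : ∀ g, μ g = ((lam g : ℂˣ) : ℂ) * ((fη g : ℂˣ) : ℂ) := by
    intro g
    rw [← Units.val_mul, hlam, MonoidHom.div_apply, div_mul_cancel, hfμ, linearCharHom_apply]
  refine ⟨fun g => ((β g : ℂˣ) : ℂ) * η g, ⟨isIrrCharacter_hom_mul β hη, ?_, ?_⟩, ?_⟩
  · intro n
    simp only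
    rw [hβN n, Units.val_one, one_mul, hηN]
  · rw [hdetχ β]
    funext g
    rw [hμeq g, ← hβd g, Units.val_pow_eq_pow_val]
  · rintro χ' ⟨hχ', hχ'N, hχ'det⟩
    have hone : Cfsg.IsIrrCharacter N (fun _ : N => (1 : ℂ)) := isIrrCharacter_one
    have hprodeq : ((fun _ : N => (1 : ℂ)) * ϑ) = ϑ := by
      funext n
      simp
    have hϑinv : ∀ (g : G) (n : N), ϑ ⟨g * n * g⁻¹, hN.conj_mem (n : G) n.2 g⟩ = ϑ n := by
      intro g n
      rw [← hηN, ← hηN]
      exact hηcf n g
    have hB := Cfsg.Agent.S0856.result N (fun _ : N => (1 : ℂ)) ϑ hone hϑ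
      (fun g n => rfl) hϑinv (by rw [hprodeq]; exact hϑ) η hη hηN
    have hχ'cf := IsIrrCharacter.isClassFunction hχ'
    have hmem : χ' ∈ {ψ : G → ℂ | Cfsg.IsIrrCharacter G ψ ∧
        Cfsg.classInner (Cfsg.indFun N ((fun _ : N => (1 : ℂ)) * ϑ)) ψ ≠ 0} := by
      refine ⟨hχ', ?_⟩
      have : Fintype N := Fintype.ofFinite N
      rw [hprodeq, Cfsg.Agent.S0146.result N ϑ χ' hχ'cf, funext hχ'N]
      have := classInner_isIrrCharacter hϑ hϑ
      rw [if_pos rfl] at this
      convert one_ne_zero' ℂ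
    obtain ⟨β', ⟨hβ'irr, hβ'ind⟩, hβ'eq⟩ := hB.surjOn hmem
    simp only at hβ'eq
    have hβ'char := IsIrrCharacter.isCharacter hβ'irr
    have hχ'1 : χ' (1 : G) = d := by
      have := hχ'N 1
      rw [hd] at this
      exact this
    have hβ'1 : β' 1 = 1 := by
      have h1 := congrFun hβ'eq 1
      rw [Pi.mul_apply, hη1, hχ'1] at h1
      exact mul_right_cancel₀ hd0 (by rw [h1, one_mul])
    set fβ := linearCharHom hβ'char hβ'1 with hfβ
    have hβ'val : ∀ g, β' g = ((fβ g : ℂˣ) : ℂ) := fun g => rfl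
    -- β' is trivial on N
    have hβ'N : ∀ n : N, fβ n = 1 := by
      have : Fintype N := Fintype.ofFinite N
      have hβ'cf := IsIrrCharacter.isClassFunction hβ'irr
      rw [Cfsg.Agent.S0146.result N _ β' hβ'cf] at hβ'ind
      have hres : Cfsg.IsIrrCharacter N (fun n : N => β' n) :=
        IsCharacter.isIrr_of_apply_one_eq_one (IsCharacter.restrict N hβ'char) hβ'1
      have h2 := classInner_isIrrCharacter hone hres
      rw [h2] at hβ'ind
      have h3 : (fun _ : N => (1 : ℂ)) = fun n : N => β' n := by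
        by_contra hne
        rw [if_neg hne] at hβ'ind
        exact hβ'ind rfl
      intro n
      apply Units.ext
      rw [← hβ'val, ← congrFun h3 n, Units.val_one]
    have hfβm : ∀ g, fβ g ^ m = 1 := fun g => by
      rw [← map_pow]; exact hβ'N ⟨g ^ m, hpowN g⟩
    have hχ'form : χ' = fun g => ((fβ g : ℂˣ) : ℂ) * η g := by
      rw [← hβ'eq]
      rfl
    have hfβd : ∀ g, fβ g ^ d = lam g := by
      intro g
      have h1 := hdetχ fβ
      rw [← hχ'form, hχ'det] at h1
      have h2 := congrFun h1 g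
      rw [hμeq g] at h2
      apply Units.ext
      rw [Units.val_pow_eq_pow_val]
      exact (mul_right_cancel₀ (Units.ne_zero _) h2).symm
    have hfβ_eq : ∀ g, fβ g = β g := by
      intro g
      have h1 : (fβ g / β g) ^ d = 1 := by rw [div_pow, hfβd, hβd, div_self']
      have h2 : (fβ g / β g) ^ m = 1 := by rw [div_pow, hfβm, hβm, div_self']
      exact div_eq_one.mp (eq_one_of_pow_eq_one_of_coprime hcop h1 h2)
    rw [hχ'form]
    funext g
    rw [hfβ_eq g]





/-- Let N be a normal subgroup of the finite group G and ϑ an irreducible character of N of degree d coprime to the index of N, which is the restriction of some irreducible character of G. Let μ be a character of G of degree 1 whose restriction to N is the determinantal character of ϑ. Then there is exactly one irreducible character χ of G restricting to ϑ whose determinantal character is μ. -/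
theorem result {G : Type*} [Group G] [Finite G] (N : Subgroup G) [N.Normal] (ϑ : N → ℂ) (hϑ : Cfsg.IsIrrCharacter N ϑ) (d : ℕ) (hd : ϑ 1 = d) (hcop : Nat.Coprime N.index d) (hext : ∃ η : G → ℂ, Cfsg.IsIrrCharacter G η ∧ (∀ n : N, η n = ϑ n)) (μ : G → ℂ) (hμ : Cfsg.IsCharacter G μ ∧ μ 1 = 1) (hμN : ∀ n : N, μ n = Cfsg.detChar ϑ n) : ∃! χ : G → ℂ, Cfsg.IsIrrCharacter G χ ∧ (∀ n : N, χ n = ϑ n) ∧ Cfsg.detChar χ = μ := by
  exact result' N ϑ hϑ d hd hcop hext μ hμ hμN

end Cfsg.Agent.S0862
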