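import Cfsg.Statements.S0886
import Mathlib
import Cfsg.Agent.Lib.Helper6.CyclicExt

set_option autoImplicit false
open Cfsg

namespace Cfsg.Agent.S0886

/-- Let N be a normal subgroup of the finite group G with G / N cyclic, and ϑ an irreducible character of N invariant under conjugation by G. Then ϑ is the restriction of some irreducible character of G. -/
theorem result {G : Type*} [Group G] [Finite G] (N : Subgroup G) [hN : N.Normal] (hcyc : IsCyclic (G ⧸ N)) (ϑ : N → ℂ) (hϑ : Cfsg.IsIrrCharacter N ϑ) (hinv : ∀ (g : G) (n : N), ϑ ⟨g * n * g⁻¹, hN.conj_mem (n : G) n.2 g⟩ = ϑ n) : ∃ χ : G → ℂ, Cfsg.IsIrrCharacter G χ ∧ ∀ n : N, χ n = ϑ n := by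
  classical
  have : Fintype G := Fintype.ofFinite G
  have : Fintype N := Fintype.ofFinite N
  have hϑch := Cfsg.Agent.Lib.Helper6.IsIrrCharacter.isCharacter hϑ
  have hind : Cfsg.IsCharacter G (Cfsg.indFun N ϑ) :=
    Cfsg.Agent.Lib.Helper6.IsCharacter.indFun N hϑch
  have hind1 : Cfsg.indFun N ϑ 1 ≠ 0 := by
    rw [Cfsg.Agent.Lib.Helper6.indFun_one]
    apply mul_ne_zero
    · have : N.index ≠ 0 := Subgroup.index_ne_zero_of_finite
      exact_mod_cast this
    · exact Cfsg.Agent.Lib.Helper6.IsIrrCharacter.apply_one_ne_zero hϑ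
  obtain ⟨⟨ψ, hψ⟩, hcon0⟩ := Cfsg.Agent.Lib.Helper6.IsCharacter.exists_constituent hind hind1
  have hψcf := Cfsg.Agent.Lib.Helper6.IsIrrCharacter.isClassFunction hψ
  have hcon : Cfsg.classInner (fun n : N => ψ n) ϑ ≠ 0 := by
    have h1 : Cfsg.classInner (Cfsg.indFun N ϑ) ψ ≠ 0 := hcon0
    rw [Cfsg.Agent.S0146.result N ϑ ψ hψcf, ← Cfsg.Agent.Lib.Helper6.classInner_conj_symm] at h1
    intro h0
    apply h1
    rw [h0, map_zero]
  have hinv' : ∀ g : G, Cfsg.Agent.Lib.Helper6.conjFun N hN ϑ g = ϑ := fun g => funext (hinv g)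
  have hres := Cfsg.Agent.Lib.Helper6.restrict_eq_smul_of_invariant N hN hψ hϑ hinv' hcon
  obtain ⟨m, hm⟩ := Cfsg.Agent.Lib.Helper6.IsCharacter.classInner_irr_nat
    (Cfsg.Agent.Lib.Helper6.IsCharacter.restrict N (Cfsg.Agent.Lib.Helper6.IsIrrCharacter.isCharacter hψ)) hϑ
  have hm' : Cfsg.classInner (fun n : N => ψ n) ϑ = (m : ℂ) := hm
  rw [hm'] at hres
  have hm0 : m ≠ 0 := by
    intro h0
    apply hcon
    rw [hm', h0, Nat.cast_zero]
  refine ⟨ψ, hψ, ?_⟩
  obtain ⟨k, ρ, hρirr, hρ⟩ := hψ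
  obtain ⟨d, X, hXirr, hX⟩ := hϑ
  have hle := Cfsg.Agent.Lib.Helper6.finrank_le_of_cyclic_quotient N hcyc ρ X
    (by intro g n; rw [hX]; exact hinv g n) (by rw [hρ, hX]; exact hcon)
  have h1 := congrFun hres 1
  simp only [Pi.smul_apply, smul_eq_mul] at h1
  have h2 : ψ ((1 : N) : G) = (Module.finrank ℂ (Fin k → ℂ) : ℂ) := by
    rw [← hρ]
    exact Representation.char_one ρ
  have h3 : ϑ 1 = (Module.finrank ℂ (Fin d → ℂ) : ℂ) := by
    rw [← hX]
    exact Representation.char_one X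
  rw [h2, h3] at h1
  have h4 : Module.finrank ℂ (Fin k → ℂ) = m * Module.finrank ℂ (Fin d → ℂ) := by exact_mod_cast h1
  have hdpos : 0 < Module.finrank ℂ (Fin d → ℂ) :=
    Cfsg.Agent.Lib.Helper6.finrank_pos_of_isIrreducible X
  have hm1 : m = 1 := by
    have : m * Module.finrank ℂ (Fin d → ℂ) ≤ 1 * Module.finrank ℂ (Fin d → ℂ) := by
      rw [one_mul, ← h4]; exact hle
    have := Nat.le_of_mul_le_mul_right this hdpos
    omega
  rw [hm1, Nat.cast_one, one_smul] at hres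
  intro n
  exact congrFun hres n


end Cfsg.Agent.S0886
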