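import Cfsg.Statements.S0863
import Mathlib
import Cfsg.Agent.Lib.Helper3.DetChar
import Cfsg.Agent.Lib.Helper3.SolvIndex
import Cfsg.Agent.Lib.Helper6.Auto
import Cfsg.Agent.S0862
import Cfsg.Agent.S0886
-- import your own Cfsg.Agent.* helpers here

set_option autoImplicit false
open Cfsg

namespace Cfsg.Agent.S0863

open Cfsg.Agent.Lib.Helper3.DetChar Cfsg.Agent.Lib.Helper3.SolvIndex Cfsg.Agent.Lib.Helper6
universe u


/-- The quotient of an intermediate subgroup embeds in the full quotient. -/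
theorem isSolvable_quotient_subgroupOf {G : Type u} [Group G] (N M : Subgroup G) [N.Normal]
    (hsolv : Group.IsSolvable (G ⧸ N)) : Group.IsSolvable (↥M ⧸ N.subgroupOf M) := by
  let f : ↥M ⧸ N.subgroupOf M →* G ⧸ N :=
    QuotientGroup.map (N.subgroupOf M) N M.subtype (fun x hx => hx)
  have hf : Function.Injective f := by
    rw [injective_iff_map_eq_one]
    intro q hq
    obtain ⟨m, rfl⟩ := QuotientGroup.mk_surjective q
    rw [QuotientGroup.eq_one_iff]
    have : f (QuotientGroup.mk m) = QuotientGroup.mk (m : G) := rfl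
    rw [this, QuotientGroup.eq_one_iff] at hq
    exact hq
  exact Group.isSolvable_of_isSolvable_injective hf


/-- Existence part of the extension theorem for solvable quotients, by induction on the index. -/
theorem exists_extension_aux : ∀ (k : ℕ) (G : Type u) [Group G] [Finite G] (N : Subgroup G)
    [hN : N.Normal], N.index = k → Group.IsSolvable (G ⧸ N) → ∀ (ϑ : N → ℂ),
    Cfsg.IsIrrCharacter N ϑ →
    (∀ (g : G) (n : N), ϑ ⟨g * n * g⁻¹, hN.conj_mem (n : G) n.2 g⟩ = ϑ n) →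
    ∀ d : ℕ, ϑ 1 = d → Nat.Coprime N.index d →
    ∀ μ : G → ℂ, Cfsg.IsCharacter G μ → μ 1 = 1 → (∀ n : N, μ n = Cfsg.detChar ϑ n) →
    ∃ χ : G → ℂ, Cfsg.IsIrrCharacter G χ ∧ ∀ n : N, χ n = ϑ n := by
  intro k
  induction k using Nat.strong_induction_on with
  | _ k ih =>
    intro G _ _ N hN hk hsolv ϑ hϑ hinv d hd hcop μ hμ hμ1 hμN
    by_cases hNtop : N = ⊤
    · subst hNtop
      refine ⟨fun g => ϑ (Subgroup.topEquiv.symm g), ?_, ?_⟩
      · exact IsIrrCharacter.comp_mulEquiv (Subgroup.topEquiv (G := G)).symm hϑ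
      · intro n
        congr 1
    · obtain ⟨p, M, hp, hMn, hMidx, hNM⟩ := exists_normal_index_prime_ge N hsolv hNtop
      have hϑchar := IsIrrCharacter.isCharacter hϑ
      -- the subgroup `N` inside `M`
      set N' : Subgroup ↥M := N.subgroupOf M with hN'
      have hN'n : N'.Normal := hN.subgroupOf M
      let e : N' ≃* N := Subgroup.subgroupOfEquivOfLe hNM
      set ϑ' : N' → ℂ := fun x => ϑ (e x) with hϑ'
      have hϑ'irr : Cfsg.IsIrrCharacter N' ϑ' := IsIrrCharacter.comp_mulEquiv e hϑ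
      have hidx : N'.index * p = N.index := by
        rw [hN', ← hMidx]
        exact Subgroup.relIndex_mul_index hNM
      have hlt : N'.index < k := by
        rw [← hk, ← hidx]
        have h0 : N'.index ≠ 0 := Subgroup.index_ne_zero_of_finite
        have := hp.one_lt
        nlinarith [Nat.pos_of_ne_zero h0]
      have hcop' : Nat.Coprime N'.index d :=
        Nat.Coprime.coprime_dvd_left (Dvd.intro _ hidx) hcop
      have hsolv' : Group.IsSolvable (↥M ⧸ N') := isSolvable_quotient_subgroupOf N M hsolv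
      have hinv' : ∀ (m : ↥M) (x : N'),
          ϑ' ⟨m * x * m⁻¹, hN'n.conj_mem (x : ↥M) x.2 m⟩ = ϑ' x := by
        intro m x
        exact hinv (m : G) (e x)
      have hd' : ϑ' 1 = d := by
        change ϑ (e 1) = d
        rw [map_one]; exact hd
      set μ' : ↥M → ℂ := fun m => μ m with hμ'
      have hμ'char : Cfsg.IsCharacter ↥M μ' := IsCharacter.restrict M hμ
      have hμ'N : ∀ x : N', μ' x = Cfsg.detChar ϑ' x := by
        intro x
        have h1 := detChar_comp e.toMonoidHom hϑchar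
        have h2 : (fun k : N' => ϑ (e.toMonoidHom k)) = ϑ' := rfl
        rw [h2] at h1
        rw [h1]
        exact hμN (e x)
      obtain ⟨ψ0, hψ0, hψ0N⟩ := ih N'.index hlt ↥M N' rfl hsolv' ϑ' hϑ'irr hinv' d hd' hcop'
        μ' hμ'char hμ1 hμ'N
      obtain ⟨ψ, ⟨hψirr, hψN, hψdet⟩, huniq⟩ := Cfsg.Agent.S0862.result' N' ϑ' hϑ'irr d hd'
        hcop' ⟨ψ0, hψ0, hψ0N⟩ μ' ⟨hμ'char, hμ1⟩ hμ'N
      -- `ψ` is invariant in `G`
      have hμcf := IsCharacter.isClassFunction hμ
      have hψinv : ∀ (g : G) (m : ↥M), ψ ⟨g * m * g⁻¹, hMn.conj_mem (m : G) m.2 g⟩ = ψ m := by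
        intro g m
        have hconj : conjFun M hMn ψ g = ψ := by
          apply huniq
          refine ⟨IsIrrCharacter.conjFun M hMn hψirr g, ?_, ?_⟩
          · intro x
            rw [conjFun_apply]
            have hmem : (⟨g * ((x : ↥M) : G) * g⁻¹, hMn.conj_mem _ (x : ↥M).2 g⟩ : ↥M) ∈ N' :=
              Subgroup.mem_subgroupOf.mpr (hN.conj_mem _ (Subgroup.mem_subgroupOf.mp x.2) g)
            have h1 := hψN ⟨_, hmem⟩
            rw [h1]
            exact hinv g (e x)
          · rw [detChar_conjFun M (IsIrrCharacter.isCharacter hψirr) g, hψdet]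
            funext m
            rw [conjFun_apply]
            exact hμcf m g
        exact congrFun hconj m
      have hcyc : IsCyclic (G ⧸ M) := by
        have : Fact p.Prime := ⟨hp⟩
        apply isCyclic_of_prime_card (p := p)
        rw [← Subgroup.index_eq_card, hMidx]
      obtain ⟨χ, hχ, hχM⟩ := Cfsg.Agent.S0886.result M hcyc ψ hψirr hψinv
      refine ⟨χ, hχ, fun n => ?_⟩
      have h1 := hχM ⟨n, hNM n.2⟩
      have hmem : (⟨(n : G), hNM n.2⟩ : ↥M) ∈ N' := Subgroup.mem_subgroupOf.mpr n.2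
      have h2 := hψN ⟨_, hmem⟩
      rw [h2] at h1
      rw [h1]
      congr 1


/-- If `χ` extends `ϑ` then `det χ` extends `det ϑ`. -/
theorem exists_det_extension {G : Type u} [Group G] [Finite G] (N : Subgroup G) (ϑ : N → ℂ)
    (χ : G → ℂ) (hχ : Cfsg.IsIrrCharacter G χ) (hχN : ∀ n : N, χ n = ϑ n) :
    ∃ μ : G → ℂ, Cfsg.IsCharacter G μ ∧ μ 1 = 1 ∧ ∀ n : N, μ n = Cfsg.detChar ϑ n := by
  have hχchar := IsIrrCharacter.isCharacter hχ
  refine ⟨Cfsg.detChar χ, IsIrrCharacter.isCharacter (isIrrCharacter_detChar hχchar),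
    detChar_apply_one hχchar, fun n => ?_⟩
  have h1 := detChar_comp N.subtype hχchar
  have h2 : (fun k : N => χ (N.subtype k)) = ϑ := funext hχN
  rw [h2] at h1
  exact (congrFun h1 n).symm


theorem result' {G : Type u} [Group G] [Finite G] (N : Subgroup G) [hN : N.Normal] (hsolv : Group.IsSolvable (G ⧸ N)) (ϑ : N → ℂ) (hϑ : Cfsg.IsIrrCharacter N ϑ) (hinv : ∀ (g : G) (n : N), ϑ ⟨g * n * g⁻¹, hN.conj_mem (n : G) n.2 g⟩ = ϑ n) (d : ℕ) (hd : ϑ 1 = d) (hcop : Nat.Coprime N.index d) : (∃ χ : G → ℂ, Cfsg.IsIrrCharacter G χ ∧ (∀ n : N, χ n = ϑ n)) ↔ ∃ μ : G → ℂ, Cfsg.IsCharacter G μ ∧ μ 1 = 1 ∧ ∀ n : N, μ n = Cfsg.detChar ϑ n := by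
  constructor
  · rintro ⟨χ, hχ, hχN⟩
    exact exists_det_extension N ϑ χ hχ hχN
  · rintro ⟨μ, hμ, hμ1, hμN⟩
    exact exists_extension_aux _ G N rfl hsolv ϑ hϑ hinv d hd hcop μ hμ hμ1 hμN





/-- Let N be a normal subgroup of the finite group G with G / N solvable, and ϑ an irreducible character of N, invariant under conjugation by G, of degree d coprime to the index of N. Then ϑ is the restriction of an irreducible character of G if and only if the determinantal character of ϑ is the restriction of a character of G of degree 1. -/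
theorem result {G : Type*} [Group G] [Finite G] (N : Subgroup G) [hN : N.Normal] (hsolv : Group.IsSolvable (G ⧸ N)) (ϑ : N → ℂ) (hϑ : Cfsg.IsIrrCharacter N ϑ) (hinv : ∀ (g : G) (n : N), ϑ ⟨g * n * g⁻¹, hN.conj_mem (n : G) n.2 g⟩ = ϑ n) (d : ℕ) (hd : ϑ 1 = d) (hcop : Nat.Coprime N.index d) : (∃ χ : G → ℂ, Cfsg.IsIrrCharacter G χ ∧ (∀ n : N, χ n = ϑ n)) ↔ ∃ μ : G → ℂ, Cfsg.IsCharacter G μ ∧ μ 1 = 1 ∧ ∀ n : N, μ n = Cfsg.detChar ϑ n := by
  exact result' N hsolv ϑ hϑ hinv d hd hcop

end Cfsg.Agent.S0863
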