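import Cfsg.Statements.S0865
import Mathlib
import Cfsg.Agent.Lib.Helper3.LinExt
-- import your own Cfsg.Agent.* helpers here

set_option autoImplicit false
open Cfsg

namespace Cfsg.Agent.S0865

open Cfsg.Agent.Lib.Helper3.LinExt Cfsg.Agent.Lib.Helper6


theorem result' {G : Type*} [Group G] [Finite G] (N : Subgroup G) [hN : N.Normal] (lam : N → ℂ) (hlam : Cfsg.IsCharacter N lam ∧ lam 1 = 1) (hinv : ∀ (g : G) (n : N), lam ⟨g * n * g⁻¹, hN.conj_mem (n : G) n.2 g⟩ = lam n) (hcop : Nat.Coprime N.index (orderOf lam)) : ∃ μ : G → ℂ, (Cfsg.IsCharacter G μ ∧ μ 1 = 1 ∧ (∀ n : N, μ n = lam n) ∧ orderOf μ = orderOf lam) ∧ ∀ μ' : G → ℂ, Cfsg.IsCharacter G μ' ∧ μ' 1 = 1 → (∀ n : N, μ' n = lam n) → Nat.Coprime N.index (orderOf μ') → μ' = μ := by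
  set f := linearCharHom hlam.1 hlam.2 with hf
  have hlamf : lam = coeHom N f := rfl
  have hord : orderOf lam = orderOf f := by rw [hlamf, orderOf_coeHom]
  have hinvf : ∀ (g : G) (n : N), f ⟨g * n * g⁻¹, hN.conj_mem (n : G) n.2 g⟩ = f n := by
    intro g n
    apply Units.ext
    exact hinv g n
  rw [hord] at hcop
  obtain ⟨μ, hμN, hμord, huniq⟩ := exists_hom_extension N f hinvf hcop
  refine ⟨coeHom G μ, ⟨(isCharacter_coeHom μ).1, (isCharacter_coeHom μ).2, ?_, ?_⟩, ?_⟩
  · intro n
    rw [coeHom_apply, hμN n]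
    rfl
  · rw [orderOf_coeHom, hμord, hord]
  · intro μ' hμ' hμ'N hcop'
    have h1 : μ' = coeHom G (linearCharHom hμ'.1 hμ'.2) := rfl
    rw [h1, orderOf_coeHom] at hcop'
    rw [h1]
    congr 1
    apply huniq _ _ hcop'
    intro n
    apply Units.ext
    exact hμ'N n





/-- Let N be a normal subgroup of the finite group G and λ a character of N of degree 1, invariant under conjugation by G, whose order (under pointwise multiplication) is coprime to the index of N. Then there is a character μ of G of degree 1 restricting to λ with the same order as λ, and μ is the only degree-1 character of G restricting to λ whose order is coprime to the index of N. -/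
theorem result {G : Type*} [Group G] [Finite G] (N : Subgroup G) [hN : N.Normal] (lam : N → ℂ) (hlam : Cfsg.IsCharacter N lam ∧ lam 1 = 1) (hinv : ∀ (g : G) (n : N), lam ⟨g * n * g⁻¹, hN.conj_mem (n : G) n.2 g⟩ = lam n) (hcop : Nat.Coprime N.index (orderOf lam)) : ∃ μ : G → ℂ, (Cfsg.IsCharacter G μ ∧ μ 1 = 1 ∧ (∀ n : N, μ n = lam n) ∧ orderOf μ = orderOf lam) ∧ ∀ μ' : G → ℂ, Cfsg.IsCharacter G μ' ∧ μ' 1 = 1 → (∀ n : N, μ' n = lam n) → Nat.Coprime N.index (orderOf μ') → μ' = μ := by
  exact result' N lam hlam hinv hcop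

end Cfsg.Agent.S0865
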