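import Cfsg.Statements.S0868
import Mathlib
import Cfsg.Agent.Lib.Helper6.QuotChar
import Cfsg.Agent.Lib.Helper6.Constituent
import Cfsg.Agent.S0856
import Cfsg.Agent.S0146

set_option autoImplicit false
open scoped ComplexConjugate
open Cfsg

namespace Cfsg.Agent.S0868

/-- Let N be a normal subgroup of the finite group G, χ an irreducible character of G whose restriction ϑ to N is irreducible, and ψ an irreducible character of G. Define η on G by η g = (1 / order of N) * Σ over n in N of ψ (n * g) * conj (χ (n * g)). Then: if the restriction of ψ to N has nonzero inner product with ϑ, η is an irreducible character of G; if that inner product is zero, η vanishes identically; and if ψ = χ then η is identically 1. -/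
theorem result {G : Type*} [Group G] [Fintype G] (N : Subgroup G) [N.Normal] [Fintype N] (χ : G → ℂ) (hχ : Cfsg.IsIrrCharacter G χ) (hχN : Cfsg.IsIrrCharacter N (fun n : N => χ n)) (ψ : G → ℂ) (hψ : Cfsg.IsIrrCharacter G ψ) (η : G → ℂ) (hη : η = fun g => (Nat.card N : ℂ)⁻¹ * ∑ n : N, ψ ((n : G) * g) * conj (χ ((n : G) * g))) : (Cfsg.classInner (fun n : N => ψ n) (fun n : N => χ n) ≠ 0 → Cfsg.IsIrrCharacter G η) ∧ (Cfsg.classInner (fun n : N => ψ n) (fun n : N => χ n) = 0 → η = 0) ∧ (ψ = χ → η = fun _ => 1) := by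
  classical
  have hN : N.Normal := inferInstance
  have : Fintype (Cfsg.IrrCharacter G) := Fintype.ofFinite _
  have : Fintype (G ⧸ N) := Fintype.ofFinite _
  have : Fintype (Cfsg.IrrCharacter (G ⧸ N)) := Fintype.ofFinite _
  have hχcf := Cfsg.Agent.Lib.Helper6.IsIrrCharacter.isClassFunction hχ
  have hψcf := Cfsg.Agent.Lib.Helper6.IsIrrCharacter.isClassFunction hψ
  -- `η` as a coset average
  have hηavg : η = Cfsg.Agent.Lib.Helper6.cosetAvg N (fun g => ψ g * conj (χ g)) := by
    rw [hη]; rfl
  have hfcf : Cfsg.IsClassFunction G (fun g => ψ g * conj (χ g)) := by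
    intro g h
    simp only
    rw [hψcf g h, hχcf g h]
  have hexp := Cfsg.Agent.Lib.Helper6.cosetAvg_eq_sum N hfcf
  -- inflated characters
  set infl : Cfsg.IrrCharacter (G ⧸ N) → (G → ℂ) :=
    fun β g => (β : G ⧸ N → ℂ) (QuotientGroup.mk g) with hinfl
  have hinfl_irr : ∀ β, Cfsg.IsIrrCharacter G (infl β) :=
    fun β => Cfsg.Agent.Lib.Helper6.IsIrrCharacter.comp_mk N β.2
  have hinflN : ∀ (β : Cfsg.IrrCharacter (G ⧸ N)) (n : N), infl β n = (β : G ⧸ N → ℂ) 1 := by
    intro β n
    change (β : G ⧸ N → ℂ) (QuotientGroup.mk (n : G)) = (β : G ⧸ N → ℂ) 1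
    rw [(QuotientGroup.eq_one_iff (n : G)).mpr n.2]
  -- Gallagher's theorem via S0856
  have hone : Cfsg.IsIrrCharacter N (fun _ : N => (1 : ℂ)) :=
    Cfsg.Agent.Lib.Helper6.isIrrCharacter_one
  have hprodeq : ((fun _ : N => (1 : ℂ)) * fun n : N => χ n) = fun n : N => χ n := by
    funext n
    simp
  have hB := Cfsg.Agent.S0856.result N (fun _ : N => (1 : ℂ)) (fun n : N => χ n) hone hχN
    (fun g n => rfl) (fun g n => hχcf n g) (by rw [hprodeq]; exact hχN) χ hχ (fun n => rfl)
  have hdom : ∀ β, infl β ∈ {β : G → ℂ | Cfsg.IsIrrCharacter G β ∧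
      Cfsg.classInner (Cfsg.indFun N (fun _ : N => (1 : ℂ))) β ≠ 0} := by
    intro β
    refine ⟨hinfl_irr β, ?_⟩
    rw [Cfsg.Agent.S0146.result N _ _
      (Cfsg.Agent.Lib.Helper6.IsIrrCharacter.isClassFunction (hinfl_irr β))]
    have h1 : (fun h : N => infl β h) = fun _ : N => (β : G ⧸ N → ℂ) 1 := funext (hinflN β)
    rw [h1]
    unfold Cfsg.classInner
    have hNc := Cfsg.Agent.Lib.Helper6.card_ne_zero_complex N
    rw [Finset.sum_const, Finset.card_univ, ← Nat.card_eq_fintype_card, nsmul_eq_mul, one_mul,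
      ← mul_assoc, inv_mul_cancel₀ hNc, one_mul]
    intro h0
    exact Cfsg.Agent.Lib.Helper6.IsIrrCharacter.apply_one_ne_zero β.2 ((map_eq_zero _).mp h0)
  have hprod_irr : ∀ β, Cfsg.IsIrrCharacter G (infl β * χ) := fun β => (hB.mapsTo (hdom β)).1
  have hinj : ∀ β β', infl β * χ = infl β' * χ → β = β' := by
    intro β β' h
    have h1 := hB.injOn (hdom β) (hdom β') h
    apply Subtype.ext
    funext q
    obtain ⟨g, rfl⟩ := QuotientGroup.mk_surjective q
    exact congrFun h1 g
  have hcoef : ∀ β, Cfsg.classInner (fun g => ψ g * conj (χ g)) (infl β)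
      = if ψ = infl β * χ then 1 else 0 := by
    intro β
    have h1 : Cfsg.classInner (fun g => ψ g * conj (χ g)) (infl β)
        = Cfsg.classInner ψ (infl β * χ) := by
      unfold Cfsg.classInner
      congr 1
      apply Finset.sum_congr rfl
      intro g _
      rw [Pi.mul_apply, map_mul]
      ring
    rw [h1, Cfsg.Agent.Lib.Helper6.classInner_isIrrCharacter hψ (hprod_irr β)]
  have hη2 : η = ∑ β, (if ψ = infl β * χ then (1 : ℂ) else 0) • infl β := by
    rw [hηavg, hexp]
    apply Finset.sum_congr rfl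
    intro β _
    rw [hcoef β]
  have hη1 : η 1 = Cfsg.classInner (fun n : N => ψ n) (fun n : N => χ n) := by
    rw [hη]
    unfold Cfsg.classInner
    simp
  refine ⟨?_, ?_, ?_⟩
  · intro hne
    by_cases hex : ∃ β, ψ = infl β * χ
    · obtain ⟨β₀, hβ₀⟩ := hex
      have h1 : η = infl β₀ := by
        rw [hη2, Finset.sum_eq_single β₀]
        · rw [if_pos hβ₀, one_smul]
        · intro β _ hβ
          rw [if_neg, zero_smul]
          intro h
          exact hβ (hinj β β₀ (h.symm.trans hβ₀))
        · intro h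
          exact absurd (Finset.mem_univ _) h
      rw [h1]
      exact hinfl_irr β₀
    · exfalso
      push Not at hex
      have h1 : η = 0 := by
        rw [hη2]
        apply Finset.sum_eq_zero
        intro β _
        rw [if_neg (hex β), zero_smul]
      apply hne
      rw [← hη1, h1]
      rfl
  · intro h0
    rw [hη2]
    apply Finset.sum_eq_zero
    intro β _
    rw [if_neg, zero_smul]
    intro hψβ
    have h1 : (fun n : N => ψ n) = (β : G ⧸ N → ℂ) 1 • fun n : N => χ n := by
      funext n
      rw [hψβ, Pi.mul_apply, hinflN β n]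
      rfl
    rw [h1, Cfsg.Agent.Lib.Helper6.classInner_smul_left,
      Cfsg.Agent.Lib.Helper6.classInner_isIrrCharacter hχN hχN, if_pos rfl, mul_one] at h0
    exact Cfsg.Agent.Lib.Helper6.IsIrrCharacter.apply_one_ne_zero β.2 h0
  · intro hψχ
    let one' : Cfsg.IrrCharacter (G ⧸ N) :=
      ⟨fun _ => 1, Cfsg.Agent.Lib.Helper6.isIrrCharacter_one⟩
    have h1 : ψ = infl one' * χ := by
      rw [hψχ]
      funext g
      simp [infl, one']
    rw [hη2, Finset.sum_eq_single one']
    · rw [if_pos h1, one_smul]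
    · intro β _ hβ
      rw [if_neg, zero_smul]
      intro h
      exact hβ (hinj β one' (h.symm.trans h1))
    · intro h
      exact absurd (Finset.mem_univ _) h


end Cfsg.Agent.S0868
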