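import Cfsg.Statements.S0867
import Mathlib
import Cfsg.Agent.Lib.Helper3.GlueExt
import Cfsg.Agent.Lib.Helper3.CanonExt
-- import your own Cfsg.Agent.* helpers here

set_option autoImplicit false
open Cfsg

namespace Cfsg.Agent.S0867

open Cfsg.Agent.Lib.Helper3.DetChar Cfsg.Agent.Lib.Helper3.GlueExt Cfsg.Agent.Lib.Helper6 Cfsg.Agent.Lib.Helper3.CanonExt


theorem result' {G : Type*} [Group G] [Finite G] (N : Subgroup G) [hN : N.Normal] (ϑ : N → ℂ) (hϑ : Cfsg.IsIrrCharacter N ϑ) (hinv : ∀ (g : G) (n : N), ϑ ⟨g * n * g⁻¹, hN.conj_mem (n : G) n.2 g⟩ = ϑ n) (d : ℕ) (hd : ϑ 1 = d) (hcop : Nat.Coprime N.index (Cfsg.detOrder ϑ * d)) : ∃ χ : G → ℂ, (Cfsg.IsIrrCharacter G χ ∧ (∀ n : N, χ n = ϑ n) ∧ Cfsg.detOrder χ = Cfsg.detOrder ϑ) ∧ ∀ χ' : G → ℂ, Cfsg.IsIrrCharacter G χ' → (∀ n : N, χ' n = ϑ n) → Nat.Coprime N.index (Cfsg.detOrder χ') → χ' = χ := by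
  have hϑchar := IsIrrCharacter.isCharacter hϑ
  have hcop1 : Nat.Coprime N.index (Cfsg.detOrder ϑ) := Nat.Coprime.coprime_mul_right_right hcop
  have hcop2 : Nat.Coprime N.index d := Nat.Coprime.coprime_mul_left_right hcop
  set lam := Cfsg.detChar ϑ with hlam
  have hlamchar : Cfsg.IsCharacter N lam ∧ lam 1 = 1 :=
    ⟨IsIrrCharacter.isCharacter (isIrrCharacter_detChar hϑchar), detChar_apply_one hϑchar⟩
  obtain ⟨μ, ⟨hμchar, hμ1, hμN, hμord⟩, hμuniq⟩ := Cfsg.Agent.S0865.result' N lam hlamchar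
    (detChar_invariant N hϑchar hinv) hcop1
  have D : Data N hN ϑ d μ := ⟨hϑ, hinv, hd, hcop2, hμchar, hμ1, hμN⟩
  obtain ⟨χ, ⟨hχ, hχN, hχdet⟩, hχuniq⟩ := Cfsg.Agent.S0862.result' N ϑ hϑ d hd hcop2
    ⟨glue D, glue_isIrrCharacter D, glue_apply_coe D⟩ μ ⟨hμchar, hμ1⟩ hμN
  refine ⟨χ, ⟨hχ, hχN, ?_⟩, ?_⟩
  · unfold Cfsg.detOrder
    rw [hχdet, hμord]
  · intro χ' hχ' hχ'N hcop'
    apply hχuniq
    refine ⟨hχ', hχ'N, ?_⟩
    have hχ'char := IsIrrCharacter.isCharacter hχ'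
    apply hμuniq (Cfsg.detChar χ')
      ⟨IsIrrCharacter.isCharacter (isIrrCharacter_detChar hχ'char), detChar_apply_one hχ'char⟩
    · intro n
      have h1 := detChar_comp N.subtype hχ'char
      have h2 : (fun k : N => χ' (N.subtype k)) = ϑ := funext hχ'N
      rw [h2] at h1
      exact (congrFun h1 n).symm
    · exact hcop'





/-- Let N be a normal subgroup of the finite group G and ϑ an irreducible character of N of degree d, invariant under conjugation by G, such that the index of N is coprime to the product of d and the determinantal order of ϑ. Then there is an irreducible character χ of G restricting to ϑ whose determinantal order equals that of ϑ, and χ is the only irreducible character of G restricting to ϑ whose determinantal order is coprime to the index of N. -/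
theorem result {G : Type*} [Group G] [Finite G] (N : Subgroup G) [hN : N.Normal] (ϑ : N → ℂ) (hϑ : Cfsg.IsIrrCharacter N ϑ) (hinv : ∀ (g : G) (n : N), ϑ ⟨g * n * g⁻¹, hN.conj_mem (n : G) n.2 g⟩ = ϑ n) (d : ℕ) (hd : ϑ 1 = d) (hcop : Nat.Coprime N.index (Cfsg.detOrder ϑ * d)) : ∃ χ : G → ℂ, (Cfsg.IsIrrCharacter G χ ∧ (∀ n : N, χ n = ϑ n) ∧ Cfsg.detOrder χ = Cfsg.detOrder ϑ) ∧ ∀ χ' : G → ℂ, Cfsg.IsIrrCharacter G χ' → (∀ n : N, χ' n = ϑ n) → Nat.Coprime N.index (Cfsg.detOrder χ') → χ' = χ := by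
  exact result' N ϑ hϑ hinv d hd hcop

end Cfsg.Agent.S0867
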