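import Cfsg.Statements.S0885
import Mathlib
import Cfsg.Agent.Lib.Helper6.ZassCoh
import Cfsg.Agent.Lib.Helper6.ZassDesc

set_option autoImplicit false
open Cfsg

namespace Cfsg.Agent.S0885

open Cfsg.Agent.Lib.Helper6

/-- Let G be a finite Zassenhaus group on Ω with h + 1 points whose two-point stabilizer E has odd order e, and let H be the subgroup of the stabilizer of a consisting of the identity and the elements fixing no point other than a (given here as a subgroup of the stabilizer of order one less than the number of points whose non-identity elements fix only a; it is the Frobenius kernel of the stabilizer). Then either h - 1 ≤ 2 * e, or H is a non-abelian 2-group whose commutator subgroup has index at most 4 * e ^ 2 + 1 in H. -/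
theorem result {G Ω : Type*} [Group G] [Finite G] [MulAction G Ω] [Fintype Ω] (hZ : Cfsg.IsZassenhausGroup G Ω) {a b : Ω} (hab : a ≠ b) (h e : ℕ) (hh : Fintype.card Ω = h + 1) (he : Nat.card ↥(MulAction.stabilizer G a ⊓ MulAction.stabilizer G b : Subgroup G) = e) (hodd : Odd e) (H : Subgroup G) (hHa : H ≤ MulAction.stabilizer G a) (hHcard : Nat.card H + 1 = Fintype.card Ω) (hHfix : ∀ u ∈ H, u ≠ 1 → ∀ c : Ω, u • c = c → c = a) : h - 1 ≤ 2 * e ∨ (IsPGroup 2 H ∧ (∃ u v : H, u * v ≠ v * u) ∧ (commutator H).index ≤ 4 * e ^ 2 + 1) := by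
  classical
  haveI : Fintype G := Fintype.ofFinite G
  have h0 := Zs.ZD.of hZ
  have hK : Zs.KD a H := ⟨hHa, hHcard, hHfix⟩
  by_cases hle : h - 1 ≤ 2 * e
  · left; exact hle
  · right
    push Not at hle
    have hcardH : Nat.card H = h := by omega
    haveI hKn : (Subgroup.normalClosure (H : Set G)).Normal := Subgroup.normalClosure_normal
    have hHK : H ≤ Subgroup.normalClosure (H : Set G) := Subgroup.le_normalClosure
    haveI : Fintype ↥(Subgroup.normalClosure (H : Set G)) := Fintype.ofFinite _
    have hE := Zs.desc_exists h0 hab hK (Subgroup.normalClosure (H : Set G)) hHK hZ.2.2.2.2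
    have hZK := Zs.desc_ZD h0 hab hK (Subgroup.normalClosure (H : Set G)) hHK hE
    have hKK := Zs.desc_KD hK (Subgroup.normalClosure (H : Set G)) hHK
    have hperf := Zs.desc_perfect h0 hab hK hE
    have hdvd := Zs.desc_card_dvd (Subgroup.normalClosure (H : Set G)) a b
    rw [he] at hdvd
    have hoddK := Odd.of_dvd_nat hodd hdvd
    have heK_le := Nat.le_of_dvd hodd.pos hdvd
    have hcardHK : Nat.card (H.subgroupOf (Subgroup.normalClosure (H : Set G))) = h := by
      rw [Nat.card_congr (Subgroup.subgroupOfEquivOfLe hHK).toEquiv]; exact hcardH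
    obtain ⟨hp2, ⟨u, v, huv⟩, hidx⟩ := Zs.kernel_two_group hZK hab hKK hperf hoddK
      (by rw [hcardHK]; omega)
    refine ⟨?_, ?_, ?_⟩
    · obtain ⟨m, hm⟩ := hp2.exists_card_eq
      exact IsPGroup.of_card (n := m) (by rw [← hm, hcardHK, hcardH])
    · refine ⟨Subgroup.subgroupOfEquivOfLe hHK u, Subgroup.subgroupOfEquivOfLe hHK v, ?_⟩
      intro h'
      apply huv
      apply (Subgroup.subgroupOfEquivOfLe hHK).injective
      rw [map_mul, map_mul]
      exact h'
    · have e2 : (commutator ↥(H.subgroupOf (Subgroup.normalClosure (H : Set G)))).index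
          = (commutator ↥H).index := by
        rw [Subgroup.index_eq_card, Subgroup.index_eq_card]
        exact Nat.card_congr
          (MulEquiv.abelianizationCongr (Subgroup.subgroupOfEquivOfLe hHK)).toEquiv
      rw [← e2]
      refine le_trans hidx ?_
      have h3 := Nat.pow_le_pow_left heK_le 2
      omega

end Cfsg.Agent.S0885
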