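import Cfsg.Statements.S2308

set_option autoImplicit false
open Cfsg

namespace Cfsg.Agent.S2308

open scoped MatrixGroups

variable {F : Type*} [Field F]

theorem mem_B_iff (g : GL (Fin 2) F) :
    g ∈ upperTriangularGL 2 F ↔ (g : Matrix (Fin 2) (Fin 2) F) 1 0 = 0 := by
  change (g : Matrix (Fin 2) (Fin 2) F).BlockTriangular id ↔ _
  constructor
  · intro h
    exact h (by decide)
  · intro h i j hij
    fin_cases i <;> fin_cases j <;> simp at hij ⊢
    exact h

theorem inv_mul_mem_B_iff (x y : GL (Fin 2) F) :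
    x⁻¹ * y ∈ upperTriangularGL 2 F ↔
      (x : Matrix (Fin 2) (Fin 2) F) 0 0 * (y : Matrix (Fin 2) (Fin 2) F) 1 0
        - (x : Matrix (Fin 2) (Fin 2) F) 1 0 * (y : Matrix (Fin 2) (Fin 2) F) 0 0 = 0 := by
  rw [mem_B_iff]
  have hdet : (x : Matrix (Fin 2) (Fin 2) F).det ≠ 0 := by
    have := x.isUnit
    exact (Matrix.isUnit_iff_isUnit_det _).mp this |>.ne_zero
  rw [Matrix.GeneralLinearGroup.coe_mul, Matrix.coe_units_inv, Matrix.inv_def,
    Matrix.adjugate_fin_two]
  simp only [Matrix.smul_apply, Matrix.mul_apply, Fin.sum_univ_two,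
    Matrix.of_apply, Matrix.cons_val_zero, Matrix.cons_val_one, smul_eq_mul]
  rw [Ring.inverse_eq_inv']
  constructor
  · intro h
    have h' : (x : Matrix (Fin 2) (Fin 2) F).det⁻¹ *
        ((x : Matrix (Fin 2) (Fin 2) F) 0 0 * (y : Matrix (Fin 2) (Fin 2) F) 1 0
        - (x : Matrix (Fin 2) (Fin 2) F) 1 0 * (y : Matrix (Fin 2) (Fin 2) F) 0 0) = 0 := by
      linear_combination h
    rcases mul_eq_zero.mp h' with h | h
    · exact absurd (inv_eq_zero.mp h) hdet
    · exact h
  · intro h
    linear_combination (x : Matrix (Fin 2) (Fin 2) F).det⁻¹ * h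

/-- coset representatives: `some c ↦ [[1,0],[c,1]]`, `none ↦ [[0,1],[1,0]]` -/
noncomputable def rep : Option F → GL (Fin 2) F
  | some c => Matrix.GeneralLinearGroup.mkOfDetNeZero !![1, 0; c, 1] (by simp [Matrix.det_fin_two])
  | none => Matrix.GeneralLinearGroup.mkOfDetNeZero !![0, 1; 1, 0] (by simp [Matrix.det_fin_two])

theorem rep_some (c : F) : (rep (some c) : Matrix (Fin 2) (Fin 2) F) = !![1, 0; c, 1] := rfl
theorem rep_none : (rep (none : Option F) : Matrix (Fin 2) (Fin 2) F) = !![0, 1; 1, 0] := rfl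

theorem rep_bijective :
    Function.Bijective (fun o : Option F => (rep o : GL (Fin 2) F ⧸ upperTriangularGL 2 F)) := by
  constructor
  · intro o o' h
    simp only at h
    rw [QuotientGroup.eq, inv_mul_mem_B_iff] at h
    rcases o with _ | c <;> rcases o' with _ | c'
    · rfl
    · simp [rep_some, rep_none] at h
    · simp [rep_some, rep_none] at h
    · simp [rep_some] at h
      congr 1
      linear_combination -h
  · intro z
    induction z using QuotientGroup.induction_on with
    | H x =>
      by_cases h0 : (x : Matrix (Fin 2) (Fin 2) F) 0 0 = 0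
      · refine ⟨none, ?_⟩
        simp only
        rw [QuotientGroup.eq, inv_mul_mem_B_iff]
        simp [rep_none, h0]
      · refine ⟨some ((x : Matrix (Fin 2) (Fin 2) F) 1 0 / (x : Matrix (Fin 2) (Fin 2) F) 0 0), ?_⟩
        simp only
        rw [QuotientGroup.eq, inv_mul_mem_B_iff]
        simp [rep_some]
        field_simp
        ring

theorem smul_rep_eq_iff (g : GL (Fin 2) F) (o : Option F) :
    g • (rep o : GL (Fin 2) F ⧸ upperTriangularGL 2 F) = (rep o : GL (Fin 2) F ⧸ upperTriangularGL 2 F) ↔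
      (rep o : Matrix (Fin 2) (Fin 2) F) 0 0 *
        ((g : Matrix (Fin 2) (Fin 2) F) 1 0 * (rep o : Matrix (Fin 2) (Fin 2) F) 0 0 +
          (g : Matrix (Fin 2) (Fin 2) F) 1 1 * (rep o : Matrix (Fin 2) (Fin 2) F) 1 0)
      - (rep o : Matrix (Fin 2) (Fin 2) F) 1 0 *
        ((g : Matrix (Fin 2) (Fin 2) F) 0 0 * (rep o : Matrix (Fin 2) (Fin 2) F) 0 0 +
          (g : Matrix (Fin 2) (Fin 2) F) 0 1 * (rep o : Matrix (Fin 2) (Fin 2) F) 1 0) = 0 := by
  rw [eq_comm]
  change ((rep o : GL (Fin 2) F) : GL (Fin 2) F ⧸ upperTriangularGL 2 F) = ((g * rep o : GL (Fin 2) F) : GL (Fin 2) F ⧸ upperTriangularGL 2 F) ↔ _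
  rw [QuotientGroup.eq, inv_mul_mem_B_iff, Matrix.GeneralLinearGroup.coe_mul]
  simp only [Matrix.mul_apply, Fin.sum_univ_two]

/-- the condition for a point to be fixed -/
def fixedCond (g : GL (Fin 2) F) : Option F → Prop
  | some c => (g : Matrix (Fin 2) (Fin 2) F) 1 0 + (g : Matrix (Fin 2) (Fin 2) F) 1 1 * c
      - c * ((g : Matrix (Fin 2) (Fin 2) F) 0 0 + (g : Matrix (Fin 2) (Fin 2) F) 0 1 * c) = 0
  | none => (g : Matrix (Fin 2) (Fin 2) F) 0 1 = 0

theorem smul_rep_eq_iff' (g : GL (Fin 2) F) (o : Option F) :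
    g • (rep o : GL (Fin 2) F ⧸ upperTriangularGL 2 F) = (rep o : GL (Fin 2) F ⧸ upperTriangularGL 2 F) ↔
      fixedCond g o := by
  rw [smul_rep_eq_iff]
  rcases o with _ | c
  · simp [rep_none, fixedCond]
  · simp [rep_some, fixedCond]

theorem card_fixedBy (g : GL (Fin 2) F) :
    Nat.card (MulAction.fixedBy (GL (Fin 2) F ⧸ upperTriangularGL 2 F) g) =
      Nat.card {o : Option F // fixedCond g o} := by
  symm
  apply Nat.card_congr
  refine Equiv.subtypeEquiv (Equiv.ofBijective _ rep_bijective) ?_
  intro o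
  rw [MulAction.mem_fixedBy]
  simp only [Equiv.ofBijective_apply]
  exact (smul_rep_eq_iff' g o).symm

theorem card_of_forall (P : Option F → Prop) [Fintype F] (h : ∀ o, P o) :
    Nat.card {o : Option F // P o} = Fintype.card F + 1 := by
  rw [Nat.card_congr (Equiv.subtypeUnivEquiv h), Nat.card_eq_fintype_card, Fintype.card_option]

theorem card_of_forall_not (P : Option F → Prop) (h : ∀ o, ¬ P o) :
    Nat.card {o : Option F // P o} = 0 := by
  have : IsEmpty {o : Option F // P o} := ⟨fun x => h x.1 x.2⟩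
  exact Nat.card_of_isEmpty

theorem card_of_iff_eq (P : Option F → Prop) (a : Option F) (h : ∀ o, P o ↔ o = a) :
    Nat.card {o : Option F // P o} = 1 := by
  rw [Nat.card_congr (Equiv.subtypeEquivRight h)]
  simp

theorem card_of_iff_pair (P : Option F → Prop) (a b : Option F) (hab : a ≠ b)
    (h : ∀ o, P o ↔ o = a ∨ o = b) :
    Nat.card {o : Option F // P o} = 2 := by
  classical
  have h' : ∀ o, P o ↔ o ∈ ({a, b} : Finset (Option F)) := by
    intro o; rw [h]; simp
  rw [Nat.card_congr (Equiv.subtypeEquivRight h'), Nat.card_eq_fintype_card, Fintype.card_coe,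
    Finset.card_pair hab]

theorem result {F : Type*} [Field F] [Fintype F] (g : Matrix.GeneralLinearGroup (Fin 2) F) :
    ((∃ a : F, (g : Matrix (Fin 2) (Fin 2) F) = a • (1 : Matrix (Fin 2) (Fin 2) F)) → Cfsg.fixedPointCharacter (Cfsg.upperTriangularGL 2 F) g = Fintype.card F + 1) ∧
    ((g : Matrix (Fin 2) (Fin 2) F) 0 1 = 0 → (g : Matrix (Fin 2) (Fin 2) F) 1 0 = 0 → (g : Matrix (Fin 2) (Fin 2) F) 0 0 ≠ (g : Matrix (Fin 2) (Fin 2) F) 1 1 →
      Cfsg.fixedPointCharacter (Cfsg.upperTriangularGL 2 F) g = 2) ∧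
    ((∀ (c : F) (v : Fin 2 → F), v ≠ 0 → (g : Matrix (Fin 2) (Fin 2) F).mulVec v ≠ c • v) → Cfsg.fixedPointCharacter (Cfsg.upperTriangularGL 2 F) g = 0) ∧
    ((g : Matrix (Fin 2) (Fin 2) F) 1 0 = 0 → (g : Matrix (Fin 2) (Fin 2) F) 0 0 = (g : Matrix (Fin 2) (Fin 2) F) 1 1 → (g : Matrix (Fin 2) (Fin 2) F) 0 1 ≠ 0 →
      Cfsg.fixedPointCharacter (Cfsg.upperTriangularGL 2 F) g = 1) := by
  unfold Cfsg.fixedPointCharacter
  rw [card_fixedBy]
  refine ⟨?_, ?_, ?_, ?_⟩
  · rintro ⟨a, ha⟩
    rw [card_of_forall]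
    · push_cast; rfl
    · intro o
      rcases o with _ | c
      · simp [fixedCond, ha]
      · simp [fixedCond, ha]
        ring
  · intro h01 h10 hne
    rw [card_of_iff_pair _ (some 0) none (by simp)]
    · norm_num
    · intro o
      rcases o with _ | c
      · simp [fixedCond, h01]
      · simp only [fixedCond, h01, h10]
        simp only [Option.some.injEq, reduceCtorEq, or_false]
        constructor
        · intro h
          have : c * ((g : Matrix (Fin 2) (Fin 2) F) 1 1 - (g : Matrix (Fin 2) (Fin 2) F) 0 0) = 0 := by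
            linear_combination h
          rcases mul_eq_zero.mp this with h | h
          · exact h
          · exact absurd (sub_eq_zero.mp h).symm hne
        · rintro rfl
          ring
  · intro h
    rw [card_of_forall_not]
    · simp
    · intro o ho
      rcases o with _ | c
      · simp only [fixedCond] at ho
        apply h ((g : Matrix (Fin 2) (Fin 2) F) 1 1) ![0, 1]
        · intro h0
          have := congrFun h0 1
          simp at this
        · ext i
          fin_cases i <;> simp [Matrix.mulVec, dotProduct, Fin.sum_univ_two, ho]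
      · simp only [fixedCond] at ho
        apply h ((g : Matrix (Fin 2) (Fin 2) F) 0 0 + (g : Matrix (Fin 2) (Fin 2) F) 0 1 * c) ![1, c]
        · intro h0
          have := congrFun h0 0
          simp at this
        · ext i
          fin_cases i
          · simp [Matrix.mulVec, dotProduct, Fin.sum_univ_two]
          · simp [Matrix.mulVec, dotProduct, Fin.sum_univ_two]
            linear_combination ho
  · intro h10 heq hne
    rw [card_of_iff_eq _ (some 0)]
    · norm_num
    · intro o
      rcases o with _ | c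
      · simp [fixedCond, hne]
      · simp only [fixedCond, h10, heq]
        simp only [Option.some.injEq]
        constructor
        · intro h
          have : (g : Matrix (Fin 2) (Fin 2) F) 0 1 * (c * c) = 0 := by
            linear_combination -h
          rcases mul_eq_zero.mp this with h | h
          · exact absurd h hne
          · exact mul_self_eq_zero.mp h
        · rintro rfl
          ring

end Cfsg.Agent.S2308
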