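import Cfsg.Statements.S2304
import Cfsg.Agent.Lib.Helper4.GL2IndInner
import Cfsg.Agent.Lib.Helper6.Norm
import Cfsg.Agent.Lib.Helper6.CharOps

set_option autoImplicit false
open Cfsg

namespace Cfsg.Agent.S2304

open Cfsg.Agent.Lib.Helper4 Cfsg.Agent.Lib.Helper6
open scoped MatrixGroups

variable {F : Type*} [Field F]

theorem isCharacter_borelGLChar (α β : MulChar F ℂ) :
    Cfsg.IsCharacter (Cfsg.upperTriangularGL 2 F)
      (fun b => α (((b : GL (Fin 2) F) : Matrix (Fin 2) (Fin 2) F) 0 0) *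
        β (((b : GL (Fin 2) F) : Matrix (Fin 2) (Fin 2) F) 1 1)) := by
  have h := IsIrrCharacter.isCharacter (isIrrCharacter_of_hom (borelGLChar α β))
  have h2 : (fun b => ((borelGLChar α β b : ℂˣ) : ℂ)) =
      (fun b : Cfsg.upperTriangularGL 2 F => α (((b : GL (Fin 2) F) : Matrix (Fin 2) (Fin 2) F) 0 0) *
        β (((b : GL (Fin 2) F) : Matrix (Fin 2) (Fin 2) F) 1 1)) := by
    funext b
    exact borelGLChar_apply α β b
  rwa [h2] at h

theorem isIrr_psGL2 [Fintype F] [DecidableEq F] [Fintype (GL (Fin 2) F)] (α β : MulChar F ℂ)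
    (hαβ : α ≠ β) : Cfsg.IsIrrCharacter (GL (Fin 2) F) (psGL2 α β) := by
  classical
  apply isIrrCharacter_of_classInner_self_eq_one
  · exact IsCharacter.indFun _ (isCharacter_borelGLChar α β)
  · rw [classInner_psGL2, if_pos ⟨rfl, rfl⟩, if_neg (fun h => hαβ h.1), add_zero]

theorem result {F : Type*} [Field F] [Fintype F] [DecidableEq F] (α β : MulChar F ℂ) (hαβ : α ≠ β) :
    Cfsg.IsIrrCharacter (Matrix.GeneralLinearGroup (Fin 2) F) (Cfsg.indFun (Cfsg.upperTriangularGL 2 F) (fun b => α (((b : Matrix.GeneralLinearGroup (Fin 2) F) : Matrix (Fin 2) (Fin 2) F) 0 0) * β (((b : Matrix.GeneralLinearGroup (Fin 2) F) : Matrix (Fin 2) (Fin 2) F) 1 1))) :=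
  isIrr_psGL2 α β hαβ

end Cfsg.Agent.S2304
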