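import Cfsg.Statements.S2305
import Cfsg.Agent.S2304

set_option autoImplicit false
open Cfsg

namespace Cfsg.Agent.S2305

open Cfsg.Agent.Lib.Helper4 Cfsg.Agent.Lib.Helper6
open scoped MatrixGroups

variable {F : Type*} [Field F]

theorem psGL2_swap [Fintype F] [DecidableEq F] [Fintype (GL (Fin 2) F)] (α β : MulChar F ℂ) :
    psGL2 α β = psGL2 β α := by
  classical
  by_cases h : α = β
  · rw [h]
  · have h1 := Cfsg.Agent.S2304.isIrr_psGL2 α β h
    have h2 := Cfsg.Agent.S2304.isIrr_psGL2 β α (fun h' => h h'.symm)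
    have h3 := classInner_isIrrCharacter h1 h2
    rw [classInner_psGL2, if_neg (fun h' => h h'.1), if_pos ⟨rfl, rfl⟩, zero_add] at h3
    by_contra hne
    rw [if_neg hne] at h3
    exact one_ne_zero h3

theorem result {F : Type*} [Field F] [Fintype F] [DecidableEq F] (α β α' β' : MulChar F ℂ) :
    Cfsg.indFun (Cfsg.upperTriangularGL 2 F) (fun b => α (((b : Matrix.GeneralLinearGroup (Fin 2) F) : Matrix (Fin 2) (Fin 2) F) 0 0) * β (((b : Matrix.GeneralLinearGroup (Fin 2) F) : Matrix (Fin 2) (Fin 2) F) 1 1)) = Cfsg.indFun (Cfsg.upperTriangularGL 2 F) (fun b => α' (((b : Matrix.GeneralLinearGroup (Fin 2) F) : Matrix (Fin 2) (Fin 2) F) 0 0) * β' (((b : Matrix.GeneralLinearGroup (Fin 2) F) : Matrix (Fin 2) (Fin 2) F) 1 1)) ↔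
      (α = α' ∧ β = β') ∨ (α = β' ∧ β = α') := by
  classical
  constructor
  · intro h
    have h1 : Cfsg.classInner (psGL2 α β) (psGL2 α' β') = Cfsg.classInner (psGL2 α β) (psGL2 α β) := by
      have : psGL2 α β = psGL2 α' β' := h
      rw [← this]
    have h2 : Cfsg.classInner (psGL2 α β) (psGL2 α β) =
        1 + (if α = β ∧ β = α then 1 else 0) := by
      rw [classInner_psGL2, if_pos ⟨rfl, rfl⟩]
    rw [h2, classInner_psGL2] at h1
    by_contra hcon
    rw [not_or] at hcon
    rw [if_neg hcon.1, if_neg hcon.2] at h1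
    by_cases hab : α = β ∧ β = α
    · rw [if_pos hab] at h1
      norm_num at h1
    · rw [if_neg hab] at h1
      norm_num at h1
  · rintro (⟨rfl, rfl⟩ | ⟨rfl, rfl⟩)
    · rfl
    · exact psGL2_swap α β

end Cfsg.Agent.S2305
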