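import Cfsg.Statements.S2321
import Cfsg.Agent.Lib.Helper4.SL2Values

set_option autoImplicit false
open Cfsg

namespace Cfsg.Agent.S2321

open Cfsg.Agent.Lib.Helper4 Cfsg.Agent.Lib.Helper6 Matrix

/-- an irreducible character of `SL₂(q)` of degree `q` is the Steinberg character -/
theorem eq_steinberg {F : Type*} [Field F] [Fintype F] [DecidableEq F] [Fintype (GL (Fin 2) F)]
    (χ : Matrix.SpecialLinearGroup (Fin 2) F → ℂ)
    (hχ : Cfsg.IsIrrCharacter (Matrix.SpecialLinearGroup (Fin 2) F) χ)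
    (hdeg : χ 1 = (Fintype.card F : ℂ)) : χ = resSL (stGL2 (1 : MulChar F ℂ)) := by
  have hq1 : (Fintype.card F : ℂ) ≠ 1 := card_ne_one
  rcases sl2_irr_types χ hχ with h | h | ⟨δ, -, h⟩ | ⟨χ', hχ', hns, h⟩ |
    ⟨α₀, ψ', -, -, -, -, hsum, hc, -⟩ | ⟨χ', α₀, ψ', hχ', hns, -, -, -, -, -, hsum, hc, -⟩
  · exfalso
    rw [h] at hdeg
    exact hq1 hdeg.symm
  · exact h
  · exfalso
    rw [h, resSL_one, psGL2_one] at hdeg
    have : (1 : ℂ) = 0 := by linear_combination hdeg
    exact one_ne_zero this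
  · exfalso
    rw [h, resSL_one, (nonPS_values hχ' hns).1] at hdeg
    have : (1 : ℂ) = 0 := by linear_combination -hdeg
    exact one_ne_zero this
  · exfalso
    have h2 := half_degree hsum hc
    rw [psGL2_one, hdeg] at h2
    apply hq1
    linear_combination h2
  · exfalso
    have h2 := half_degree hsum hc
    rw [(nonPS_values hχ' hns).1, hdeg] at h2
    have h3 : ((Fintype.card F + 1 : ℕ) : ℂ) = 0 := by
      push_cast
      linear_combination h2
    have : Fintype.card F + 1 = 0 := by exact_mod_cast h3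
    omega

/-- Over a finite field F with q elements, an irreducible complex character of SL₂ of degree q (the Steinberg character) takes the value 1 at every diagonal matrix whose diagonal entry a has a² ≠ 1, the value −1 at every element with no eigenvector in F², and the value 0 at every upper triangular matrix with equal diagonal entries and non-zero upper right entry. -/
theorem result {F : Type*} [Field F] [Fintype F] (χ : Matrix.SpecialLinearGroup (Fin 2) F → ℂ) (hχ : Cfsg.IsIrrCharacter (Matrix.SpecialLinearGroup (Fin 2) F) χ) (hdeg : χ 1 = (Fintype.card F : ℂ)) (g : Matrix.SpecialLinearGroup (Fin 2) F) :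
    ((g : Matrix (Fin 2) (Fin 2) F) 0 1 = 0 → (g : Matrix (Fin 2) (Fin 2) F) 1 0 = 0 → (g : Matrix (Fin 2) (Fin 2) F) 0 0 ^ 2 ≠ 1 → χ g = 1) ∧
    ((∀ (c : F) (v : Fin 2 → F), v ≠ 0 → (g : Matrix (Fin 2) (Fin 2) F).mulVec v ≠ c • v) → χ g = -1) ∧
    ((g : Matrix (Fin 2) (Fin 2) F) 1 0 = 0 → (g : Matrix (Fin 2) (Fin 2) F) 0 0 = (g : Matrix (Fin 2) (Fin 2) F) 1 1 → (g : Matrix (Fin 2) (Fin 2) F) 0 1 ≠ 0 → χ g = 0) := by
  classical
  have instG : Fintype (GL (Fin 2) F) := Fintype.ofFinite _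
  rw [eq_steinberg χ hχ hdeg]
  exact ⟨resSL_st_diag g, resSL_st_elliptic g, resSL_st_unip g⟩

end Cfsg.Agent.S2321
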