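import Cfsg.Statements.S2300
import Cfsg.Agent.Lib.Helper4.SL2Deg
import Cfsg.Agent.S2321

set_option autoImplicit false
open Cfsg

namespace Cfsg.Agent.S2300

open Cfsg.Agent.Lib.Helper4 Cfsg.Agent.Lib.Helper6 Matrix

theorem card_subtype_eq_one {α : Type*} (p : α → Prop) (a : α) (ha : p a)
    (h : ∀ b, p b → b = a) : Nat.card {x : α // p x} = 1 := by
  rw [Nat.card_eq_one_iff_unique]
  refine ⟨⟨?_⟩, ⟨⟨a, ha⟩⟩⟩
  rintro ⟨x, hx⟩ ⟨y, hy⟩
  apply Subtype.ext
  simp only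
  rw [h x hx, h y hy]

theorem arith_aux (q x y : ℕ) (hq : 4 ≤ q) (hy : q - 2 = 2 * y)
    (hE : q * (q ^ 2 - 1) = 1 * 1 ^ 2 + (x * (q - 1) ^ 2 + (1 * q ^ 2 + y * (q + 1) ^ 2))) :
    x = q / 2 := by
  have h1 : 1 ≤ q := by omega
  have h2 : 1 ≤ q ^ 2 := Nat.one_le_pow _ _ (by omega)
  have hy' : (q : ℤ) - 2 = 2 * y := by
    have : ((q - 2 : ℕ) : ℤ) = ((2 * y : ℕ) : ℤ) := by rw [hy]
    rw [Nat.cast_sub (by omega)] at this
    push_cast at this
    exact this
  have hE' : (q : ℤ) * ((q : ℤ) ^ 2 - 1) =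
      1 + ((x : ℤ) * ((q : ℤ) - 1) ^ 2 + ((q : ℤ) ^ 2 + (y : ℤ) * ((q : ℤ) + 1) ^ 2)) := by
    have : ((q * (q ^ 2 - 1) : ℕ) : ℤ) =
        ((1 * 1 ^ 2 + (x * (q - 1) ^ 2 + (1 * q ^ 2 + y * (q + 1) ^ 2)) : ℕ) : ℤ) := by rw [hE]
    rw [Nat.cast_mul, Nat.cast_sub h2] at this
    push_cast [Nat.cast_sub h1] at this
    linarith
  have h3 : (2 * (x : ℤ) - q) * ((q : ℤ) - 1) ^ 2 = 0 := by
    have hy2 : (y : ℤ) = ((q : ℤ) - 2) / 2 := by omega
    have : (2 * (y : ℤ)) = (q : ℤ) - 2 := hy'.symm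
    linear_combination (-2) * hE' - ((q : ℤ) + 1) ^ 2 * this
  have h4 : ((q : ℤ) - 1) ^ 2 ≠ 0 := by
    apply pow_ne_zero
    omega
  rcases mul_eq_zero.mp h3 with h5 | h5
  · omega
  · exact absurd h5 h4

/-- Over a finite field F with q elements, q even, every irreducible complex character of SL₂ has degree 1, q − 1, q or q + 1; and when q ≥ 4 (so that these four numbers are distinct) there are exactly one irreducible character of degree 1, one of degree q, (q − 2)/2 of degree q + 1 and q/2 of degree q − 1. -/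
theorem result {F : Type*} [Field F] [Fintype F] [CharP F 2] :
    (∀ χ : Matrix.SpecialLinearGroup (Fin 2) F → ℂ, Cfsg.IsIrrCharacter (Matrix.SpecialLinearGroup (Fin 2) F) χ →
      χ 1 = 1 ∨ χ 1 = (Fintype.card F : ℂ) - 1 ∨ χ 1 = (Fintype.card F : ℂ) ∨ χ 1 = (Fintype.card F : ℂ) + 1) ∧
    (4 ≤ Fintype.card F →
      Nat.card {χ : Cfsg.IrrCharacter (Matrix.SpecialLinearGroup (Fin 2) F) // (χ : Matrix.SpecialLinearGroup (Fin 2) F → ℂ) 1 = 1} = 1 ∧
      Nat.card {χ : Cfsg.IrrCharacter (Matrix.SpecialLinearGroup (Fin 2) F) // (χ : Matrix.SpecialLinearGroup (Fin 2) F → ℂ) 1 = (Fintype.card F : ℂ)} = 1 ∧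
      Nat.card {χ : Cfsg.IrrCharacter (Matrix.SpecialLinearGroup (Fin 2) F) // (χ : Matrix.SpecialLinearGroup (Fin 2) F → ℂ) 1 = (Fintype.card F : ℂ) + 1} = (Fintype.card F - 2) / 2 ∧
      Nat.card {χ : Cfsg.IrrCharacter (Matrix.SpecialLinearGroup (Fin 2) F) // (χ : Matrix.SpecialLinearGroup (Fin 2) F → ℂ) 1 = (Fintype.card F : ℂ) - 1} = Fintype.card F / 2) := by
  classical
  have instG : Fintype (GL (Fin 2) F) := Fintype.ofFinite _
  have instS : Fintype (Matrix.SpecialLinearGroup (Fin 2) F) := Fintype.ofFinite _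
  have instI : Fintype (Cfsg.IrrCharacter (Matrix.SpecialLinearGroup (Fin 2) F)) :=
    Fintype.ofFinite _
  have hq1 : 1 ≤ Fintype.card F := Fintype.card_pos
  have heven : Even (Fintype.card F) := by
    rw [Nat.even_iff]
    exact FiniteField.even_card_iff_char_two.mp (ringChar.eq F 2)
  -- degrees
  have hdeg : ∀ ψ : Cfsg.IrrCharacter (Matrix.SpecialLinearGroup (Fin 2) F),
      ((ψ : Matrix.SpecialLinearGroup (Fin 2) F → ℂ) = (fun _ => 1) ∧ degN ψ = 1) ∨
      ((ψ : Matrix.SpecialLinearGroup (Fin 2) F → ℂ) = resSL (stGL2 1) ∧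
        degN ψ = Fintype.card F) ∨
      degN ψ = Fintype.card F + 1 ∨ degN ψ = Fintype.card F - 1 := by
    intro ψ
    rcases sl2_types_degN ψ with h | h | ⟨δ, -, -, h⟩ | ⟨χ', -, -, -, h⟩ |
      ⟨α₀, ψ', h1, h2, -⟩ | ⟨χ', α₀, ψ', -, -, h1, h2, -⟩
    · exact Or.inl h
    · exact Or.inr (Or.inl h)
    · exact Or.inr (Or.inr (Or.inl h))
    · exact Or.inr (Or.inr (Or.inr h))
    · exact absurd (mulChar_eq_one_of_sq_of_even heven α₀ h2) h1
    · exact absurd (mulChar_eq_one_of_sq_of_even heven α₀ h2) h1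
  constructor
  · intro χ hχ
    have hspec := degN_spec (⟨χ, hχ⟩ : Cfsg.IrrCharacter (Matrix.SpecialLinearGroup (Fin 2) F))
    simp only at hspec
    rcases hdeg ⟨χ, hχ⟩ with ⟨-, h⟩ | ⟨-, h⟩ | h | h
    · left
      rw [hspec, h, Nat.cast_one]
    · right; right; left
      rw [hspec, h]
    · right; right; right
      rw [hspec, h, Nat.cast_add, Nat.cast_one]
    · right; left
      rw [hspec, h, Nat.cast_sub hq1, Nat.cast_one]
  · intro hq
    -- the two singletons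
    have hN1 : Nat.card {χ : Cfsg.IrrCharacter (Matrix.SpecialLinearGroup (Fin 2) F) //
        (χ : Matrix.SpecialLinearGroup (Fin 2) F → ℂ) 1 = 1} = 1 := by
      refine card_subtype_eq_one
        (fun χ : Cfsg.IrrCharacter (Matrix.SpecialLinearGroup (Fin 2) F) =>
          (χ : Matrix.SpecialLinearGroup (Fin 2) F → ℂ) 1 = 1)
        ⟨fun _ => 1, isIrrCharacter_one⟩ rfl ?_
      intro ψ hψ
      have hd : degN ψ = 1 := by rw [degN_eq_iff, hψ, Nat.cast_one]
      apply Subtype.ext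
      rcases hdeg ψ with ⟨h, -⟩ | ⟨-, h⟩ | h | h
      · exact h
      · omega
      · omega
      · omega
    have hNq : Nat.card {χ : Cfsg.IrrCharacter (Matrix.SpecialLinearGroup (Fin 2) F) //
        (χ : Matrix.SpecialLinearGroup (Fin 2) F → ℂ) 1 = (Fintype.card F : ℂ)} = 1 := by
      refine card_subtype_eq_one
        (fun χ : Cfsg.IrrCharacter (Matrix.SpecialLinearGroup (Fin 2) F) =>
          (χ : Matrix.SpecialLinearGroup (Fin 2) F → ℂ) 1 = (Fintype.card F : ℂ))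
        ⟨resSL (stGL2 1), isIrr_resSL_st⟩ ?_ ?_
      · simp only
        rw [resSL_one, stGL2_one]
      · intro ψ hψ
        apply Subtype.ext
        exact Cfsg.Agent.S2321.eq_steinberg ψ.1 ψ.2 hψ
    have hNs := card_deg_succ (F := F)
    rw [card_mulChar_sq_ne_one_even heven] at hNs
    refine ⟨hN1, hNq, by omega, ?_⟩
    -- the sum of squares
    have hD : ∀ ψ : Cfsg.IrrCharacter (Matrix.SpecialLinearGroup (Fin 2) F),
        degN ψ ∈ ({1, Fintype.card F - 1, Fintype.card F, Fintype.card F + 1} : Finset ℕ) := by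
      intro ψ
      simp only [Finset.mem_insert, Finset.mem_singleton]
      rcases hdeg ψ with ⟨-, h⟩ | ⟨-, h⟩ | h | h
      · exact Or.inl h
      · exact Or.inr (Or.inr (Or.inl h))
      · exact Or.inr (Or.inr (Or.inr h))
      · exact Or.inr (Or.inl h)
    obtain ⟨-, hE⟩ := by_degree _ hD
    rw [card_SL2, Finset.sum_insert (by simp; omega), Finset.sum_insert (by simp; omega),
      Finset.sum_insert (by simp), Finset.sum_singleton] at hE
    simp only [Nat.cast_one, Nat.cast_add, Nat.cast_sub hq1] at hE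
    rw [hN1, hNq] at hE
    exact arith_aux _ _ _ hq hNs hE

end Cfsg.Agent.S2300
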