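import Cfsg.Statements.S2325
import Cfsg.Agent.Lib.Helper4.SL2Classes
import Cfsg.Agent.Lib.Helper4.SL2Unip

set_option autoImplicit false
open Cfsg

namespace Cfsg.Agent.S2325

open Cfsg.Agent.Lib.Helper4

variable {F : Type*} [Field F]

abbrev SL2 (F : Type*) [Field F] := Matrix.SpecialLinearGroup (Fin 2) F

theorem isConj_neg_iff (g h : SL2 F) : IsConj (-g) (-h) ↔ IsConj g h := by
  rw [isConj_iff, isConj_iff]
  constructor
  · rintro ⟨c, hc⟩
    refine ⟨c, ?_⟩
    rw [mul_neg, neg_mul] at hc
    exact neg_injective hc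
  · rintro ⟨c, hc⟩
    refine ⟨c, ?_⟩
    rw [mul_neg, neg_mul, hc]

theorem trace_neg (g : SL2 F) :
    ((-g : SL2 F) : Matrix (Fin 2) (Fin 2) F).trace = -(g : Matrix (Fin 2) (Fin 2) F).trace := by
  rw [Matrix.SpecialLinearGroup.coe_neg, Matrix.trace_neg]

/-- Cayley–Hamilton for `SL₂` with trace `2`. -/
theorem sub_one_sq_of_trace_two (g : SL2 F) (ht : (g : Matrix (Fin 2) (Fin 2) F).trace = 2) :
    ((g : Matrix (Fin 2) (Fin 2) F) - 1) * ((g : Matrix (Fin 2) (Fin 2) F) - 1) = 0 := by
  have hd := sl2_det g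
  rw [Matrix.trace_fin_two] at ht
  ext i j
  fin_cases i <;> fin_cases j
  · simp [Matrix.mul_apply, Fin.sum_univ_two, Matrix.sub_apply]
    linear_combination (g 0 0) * ht - hd
  · simp [Matrix.mul_apply, Fin.sum_univ_two, Matrix.sub_apply]
    linear_combination (g 0 1) * ht
  · simp [Matrix.mul_apply, Fin.sum_univ_two, Matrix.sub_apply]
    linear_combination (g 1 0) * ht
  · simp [Matrix.mul_apply, Fin.sum_univ_two, Matrix.sub_apply]
    linear_combination (g 1 1) * ht - hd

theorem orderOf_of_trace_two (p : ℕ) [Fact p.Prime] [CharP F p] (g : SL2 F)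
    (ht : (g : Matrix (Fin 2) (Fin 2) F).trace = 2) (h1 : g ≠ 1) : orderOf g = p := by
  have hpp : p.Prime := Fact.out
  apply orderOf_eq_prime _ h1
  apply Subtype.ext
  rw [Matrix.SpecialLinearGroup.coe_pow, Matrix.SpecialLinearGroup.coe_one]
  set N := (g : Matrix (Fin 2) (Fin 2) F) - 1 with hN
  have hg : (g : Matrix (Fin 2) (Fin 2) F) = N + 1 := by rw [hN]; abel
  have hNp : N ^ p = 0 := by
    have h2 : N ^ 2 = 0 := by rw [pow_two]; exact sub_one_sq_of_trace_two g ht
    exact pow_eq_zero_of_le hpp.two_le h2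
  rw [hg, add_pow_char_of_commute _ (Commute.one_right N), hNp, one_pow, zero_add]

/-- universality of the norm form -/
theorem exists_norm_eq [Fintype F] (hodd : Odd (Fintype.card F)) (t : F) (ht : t ^ 2 ≠ 4) (d : F) :
    ∃ α β : F, α ^ 2 + α * β * t + β ^ 2 * 1 = d := by
  have h2 : (2 : F) ≠ 0 := by
    have hchar : ringChar F ≠ 2 := by
      intro h
      have : Fintype.card F % 2 = 0 := by
        exact FiniteField.even_card_iff_char_two.mp h
      have h2 := Nat.odd_iff.mp hodd
      omega
    exact Ring.two_ne_zero hchar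
  have h4 : (4 : F) ≠ 0 := by
    have : (4 : F) = 2 * 2 := by norm_num
    rw [this]; exact mul_ne_zero h2 h2
  set D : F := 1 - t ^ 2 / 4 with hD
  have hD0 : D ≠ 0 := by
    rw [hD]
    intro h
    apply ht
    field_simp at h
    linear_combination -h
  have hf : (Polynomial.X ^ 2 - Polynomial.C d : Polynomial F).degree = 2 := by
    rw [Polynomial.degree_X_pow_sub_C (by norm_num)]; rfl
  have hg : (Polynomial.C D * Polynomial.X ^ 2 : Polynomial F).degree = 2 := by
    rw [Polynomial.degree_C_mul_X_pow 2 hD0]; rfl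
  obtain ⟨a, b, hab⟩ := FiniteField.exists_root_sum_quadratic hf hg (Nat.odd_iff.mp hodd)
  simp only [Polynomial.eval_sub, Polynomial.eval_pow, Polynomial.eval_X, Polynomial.eval_C,
    Polynomial.eval_mul] at hab
  refine ⟨a - t * b / 2, b, ?_⟩
  rw [hD] at hab
  field_simp
  field_simp at hab
  linear_combination hab

theorem isConj_compSL [Fintype F] (hodd : Odd (Fintype.card F)) (g : SL2 F)
    (ht : (g : Matrix (Fin 2) (Fin 2) F).trace ^ 2 ≠ 4) :
    IsConj g (compSL (g : Matrix (Fin 2) (Fin 2) F).trace) := by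
  have hns : ¬ IsScalar2 (g : Matrix (Fin 2) (Fin 2) F) := by
    intro hs
    apply ht
    have hd := sl2_det g
    obtain ⟨h1, h2, h3⟩ := hs
    rw [Matrix.trace_fin_two, ← h3]
    rw [h1, zero_mul, sub_zero, ← h3] at hd
    linear_combination 4 * hd
  apply sl2_isConj_of_gl_isConj_of_det_surj
  · exact toGL_isConj_of_trace_eq g _ hns (compSL_not_scalar _) (compSL_trace _).symm
  · intro d _
    obtain ⟨α, β, h⟩ := exists_norm_eq hodd _ ht d
    refine ⟨α, β, ?_⟩
    rw [det_smul_one_add_smul, g.2]
    exact h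

/-- parameter type -/
abbrev T (F : Type*) [Field F] := (Bool × Option Bool) ⊕ {t : F // t ^ 2 ≠ 4}

/-- unipotent representative -/
def uo (ν : F) : Option Bool → SL2 F
  | none => 1
  | some true => upperU 1
  | some false => upperU ν

/-- representative -/
def rep (ν : F) : T F → SL2 F
  | Sum.inl (false, o) => uo ν o
  | Sum.inl (true, o) => -(uo ν o)
  | Sum.inr t => compSL t.1

theorem uo_trace (ν : F) (o : Option Bool) : (uo ν o : Matrix (Fin 2) (Fin 2) F).trace = 2 := by
  rcases o with _ | _ | _ <;> simp [uo, upperU_coe, Matrix.trace_fin_two] <;> norm_num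

theorem uo_isConj (ν : F) (hν : ¬ IsSquare ν) (o o' : Option Bool) (h : IsConj (uo ν o) (uo ν o')) :
    o = o' := by
  have hν0 : ν ≠ 0 := by rintro rfl; exact hν IsSquare.zero
  have hne : ∀ b : F, b ≠ 0 → upperU b ≠ 1 := by
    intro b hb h1
    rw [← upperU_zero] at h1
    exact hb (upperU_injective h1)
  have hone : ∀ x : SL2 F, IsConj 1 x → x = 1 := by
    intro x hx
    obtain ⟨c, rfl⟩ := isConj_iff.mp hx
    group
  rcases o with _ | _ | _ <;> rcases o' with _ | _ | _ <;> simp only [uo] at h <;>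
    first | rfl | exfalso
  · exact hne _ hν0 (hone _ h)
  · exact hne _ one_ne_zero (hone _ h)
  · exact hne _ hν0 (hone _ h.symm)
  · rw [upperU_isConj_iff _ _ hν0 one_ne_zero, mul_one] at h; exact hν h
  · exact hne _ one_ne_zero (hone _ h.symm)
  · rw [upperU_isConj_iff _ _ one_ne_zero hν0, one_mul] at h; exact hν h

theorem rep_injective (h2 : (2 : F) ≠ 0) (ν : F) (hν : ¬ IsSquare ν) (x y : T F)
    (h : IsConj (rep ν x) (rep ν y)) : x = y := by
  have htr := sl2_trace_eq_of_isConj h
  rcases x with ⟨ε, o⟩ | t <;> rcases y with ⟨ε', o'⟩ | t'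
  · rcases ε <;> rcases ε' <;> simp only [rep] at h htr
    · rw [uo_isConj ν hν o o' h]
    · exfalso
      rw [trace_neg, uo_trace, uo_trace] at htr
      apply h2
      have : (2 : F) * 2 = 0 := by linear_combination htr
      rcases mul_eq_zero.mp this with h | h <;> exact h
    · exfalso
      rw [trace_neg, uo_trace, uo_trace] at htr
      apply h2
      have : (2 : F) * 2 = 0 := by linear_combination -htr
      rcases mul_eq_zero.mp this with h | h <;> exact h
    · rw [isConj_neg_iff] at h
      rw [uo_isConj ν hν o o' h]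
  · exfalso
    apply t'.2
    rcases ε <;> simp only [rep] at htr
    · rw [uo_trace, compSL_trace] at htr
      rw [← htr]; norm_num
    · rw [trace_neg, uo_trace, compSL_trace] at htr
      rw [← htr]; norm_num
  · exfalso
    apply t.2
    rcases ε' <;> simp only [rep] at htr
    · rw [uo_trace, compSL_trace] at htr
      rw [htr]; norm_num
    · rw [trace_neg, uo_trace, compSL_trace] at htr
      rw [htr]; norm_num
  · simp only [rep] at htr
    rw [compSL_trace, compSL_trace] at htr
    congr 1
    exact Subtype.ext htr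

theorem exists_uo (p : ℕ) [Fact p.Prime] [CharP F p] [Fintype F] (ν : F) (hν : ¬ IsSquare ν) (g : SL2 F)
    (ht : (g : Matrix (Fin 2) (Fin 2) F).trace = 2) : ∃ o, IsConj g (uo ν o) := by
  have hν0 : ν ≠ 0 := by rintro rfl; exact hν IsSquare.zero
  by_cases h1 : g = 1
  · exact ⟨none, by rw [h1]; exact IsConj.refl _⟩
  · obtain ⟨b, hb0, hb⟩ := exists_isConj_upperU p g (orderOf_of_trace_two p g ht h1)
    by_cases hsq : IsSquare b
    · refine ⟨some true, hb.trans ?_⟩
      simp only [uo]
      rw [upperU_isConj_iff b 1 hb0 one_ne_zero, mul_one]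
      exact hsq
    · refine ⟨some false, hb.trans ?_⟩
      simp only [uo]
      rw [upperU_isConj_iff b ν hb0 hν0]
      classical
      have hb0' : b ≠ 0 := hb0
      rw [← quadraticChar_one_iff_isSquare (mul_ne_zero hb0 hν0), map_mul,
        quadraticChar_neg_one_iff_not_isSquare.mpr hsq, quadraticChar_neg_one_iff_not_isSquare.mpr hν]
      norm_num

theorem rep_surjective [Fintype F] (hodd : Odd (Fintype.card F)) (ν : F) (hν : ¬ IsSquare ν)
    (g : SL2 F) : ∃ x, IsConj g (rep ν x) := by
  obtain ⟨p, hp⟩ := CharP.exists F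
  have : Fact p.Prime := ⟨CharP.char_is_prime F p⟩
  by_cases ht : (g : Matrix (Fin 2) (Fin 2) F).trace ^ 2 = 4
  · have : ((g : Matrix (Fin 2) (Fin 2) F).trace - 2) * ((g : Matrix (Fin 2) (Fin 2) F).trace + 2) = 0 := by
      linear_combination ht
    rcases mul_eq_zero.mp this with h | h
    · obtain ⟨o, ho⟩ := exists_uo p ν hν g (sub_eq_zero.mp h)
      exact ⟨Sum.inl (false, o), ho⟩
    · have ht' : ((-g : SL2 F) : Matrix (Fin 2) (Fin 2) F).trace = 2 := by
        rw [trace_neg]; linear_combination -h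
      obtain ⟨o, ho⟩ := exists_uo p ν hν (-g) ht'
      refine ⟨Sum.inl (true, o), ?_⟩
      simp only [rep]
      rw [← isConj_neg_iff, neg_neg]
      exact ho
  · exact ⟨Sum.inr ⟨_, ht⟩, isConj_compSL hodd g ht⟩

theorem card_T [Fintype F] (h2 : (2 : F) ≠ 0) : Nat.card (T F) = Fintype.card F + 4 := by
  classical
  have h4 : (2 : F) ≠ -2 := by
    intro h
    apply h2
    have : (2 : F) * 2 = 0 := by linear_combination h
    rcases mul_eq_zero.mp this with h | h <;> exact h
  have hset : ∀ t : F, t ^ 2 ≠ 4 ↔ t ∉ ({2, -2} : Finset F) := by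
    intro t
    simp only [Finset.mem_insert, Finset.mem_singleton, not_or]
    constructor
    · intro h
      constructor
      · rintro rfl; apply h; norm_num
      · rintro rfl; apply h; norm_num
    · rintro ⟨h1, h3⟩ h
      have : (t - 2) * (t + 2) = 0 := by linear_combination h
      rcases mul_eq_zero.mp this with h | h
      · exact h1 (sub_eq_zero.mp h)
      · exact h3 (by linear_combination h)
  have hc : Nat.card {t : F // t ^ 2 ≠ 4} = Fintype.card F - 2 := by
    rw [Nat.card_congr (Equiv.subtypeEquivRight hset), Nat.card_eq_fintype_card,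
      Fintype.card_subtype, Finset.filter_notMem_eq_sdiff, Finset.card_univ_sdiff,
      Finset.card_pair h4]
  have hge : 2 ≤ Fintype.card F := by
    have := Finset.card_le_univ ({2, -2} : Finset F)
    rwa [Finset.card_pair h4] at this
  rw [Nat.card_sum, hc, Nat.card_prod, Nat.card_eq_fintype_card, Nat.card_eq_fintype_card,
    Fintype.card_bool, Fintype.card_option, Fintype.card_bool]
  omega

theorem result {F : Type*} [Field F] [Fintype F] (hodd : Odd (Fintype.card F)) :
    Nat.card (ConjClasses (Matrix.SpecialLinearGroup (Fin 2) F)) = Fintype.card F + 4 := by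
  have hchar : ringChar F ≠ 2 := by
    intro h
    have : Fintype.card F % 2 = 0 := FiniteField.even_card_iff_char_two.mp h
    have h2 := Nat.odd_iff.mp hodd
    omega
  have h2 : (2 : F) ≠ 0 := Ring.two_ne_zero hchar
  obtain ⟨ν, hν⟩ := FiniteField.exists_nonsquare hchar
  rw [← card_T h2]
  symm
  apply Nat.card_congr
  apply Equiv.ofBijective (fun x : T F => (ConjClasses.mk (rep ν x)))
  constructor
  · intro x y h
    exact rep_injective h2 ν hν x y (ConjClasses.mk_eq_mk_iff_isConj.mp h)
  · intro c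
    obtain ⟨g, rfl⟩ := ConjClasses.mk_surjective c
    obtain ⟨x, hx⟩ := rep_surjective hodd ν hν g
    exact ⟨x, (ConjClasses.mk_eq_mk_iff_isConj.mpr hx).symm⟩

end Cfsg.Agent.S2325
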