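import Cfsg.Statements.S2299
import Cfsg.Agent.Lib.Helper4.SL2Deg
import Cfsg.Agent.Lib.Helper6.ClassCount
import Cfsg.Agent.S2321
import Cfsg.Agent.S2325
import Cfsg.Agent.S2300

set_option autoImplicit false
open Cfsg

namespace Cfsg.Agent.S2299

open Cfsg.Agent.Lib.Helper4 Cfsg.Agent.Lib.Helper6 Matrix

theorem card_subtype_eq_two {α : Type*} (p : α → Prop) (a b : α) (hab : a ≠ b)
    (h : ∀ x, p x ↔ x = a ∨ x = b) : Nat.card {x : α // p x} = 2 := by
  classical
  have e : {x : α // p x} ≃ ({a, b} : Finset α) :=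
    Equiv.subtypeEquivRight (fun x => by rw [h x]; simp)
  rw [Nat.card_congr e, Nat.card_eq_fintype_card, Fintype.card_coe, Finset.card_pair hab]

theorem arith_odd (q k a x y : ℕ) (hk : q = 2 * k + 1) (hk2 : 2 ≤ k) (ha : q - 3 = 2 * a)
    (hE1 : q + 4 = 1 + (1 + (a + (x + (2 + y)))))
    (hE2 : q * (q ^ 2 - 1) = 1 * 1 ^ 2 + (1 * q ^ 2 + (a * (q + 1) ^ 2 + (x * (q - 1) ^ 2 +
      (2 * ((q + 1) / 2) ^ 2 + y * ((q - 1) / 2) ^ 2))))) :
    x = (q - 1) / 2 ∧ y = 2 := by
  subst hk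
  have h1 : (2 * k + 1 + 1) / 2 = k + 1 := by omega
  have h2 : (2 * k + 1 - 1) / 2 = k := by omega
  have h3 : 2 * k + 1 - 1 = 2 * k := by omega
  have h4 : 1 ≤ (2 * k + 1) ^ 2 := Nat.one_le_pow _ _ (by omega)
  have ha' : a = k - 1 := by omega
  rw [h1, h2, h3] at hE2
  obtain ⟨j, rfl⟩ : ∃ j, k = j + 2 := ⟨k - 2, by omega⟩
  have ha'' : a = j + 1 := by omega
  subst ha''
  have hE2' : ((2 * (j + 2) + 1 : ℤ)) * ((2 * (j + 2) + 1) ^ 2 - 1) =
      1 + ((2 * (j + 2) + 1) ^ 2 + ((j + 1) * (2 * (j + 2) + 1 + 1) ^ 2 +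
        ((x : ℤ) * (2 * (j + 2)) ^ 2 + (2 * (j + 2 + 1) ^ 2 + (y : ℤ) * (j + 2) ^ 2)))) := by
    have : (((2 * (j + 2) + 1) * ((2 * (j + 2) + 1) ^ 2 - 1) : ℕ) : ℤ) = _ := congrArg Nat.cast hE2
    rw [Nat.cast_mul, Nat.cast_sub h4] at this
    push_cast at this
    linarith
  have h5 : ((j : ℤ) + 2) ^ 2 * (4 * (x : ℤ) + y - 4 * (j + 2) - 2) = 0 := by
    linear_combination -hE2'
  have h6 : ((j : ℤ) + 2) ^ 2 ≠ 0 := by positivity
  rcases mul_eq_zero.mp h5 with h7 | h7
  · exact absurd h7 h6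
  · omega

/-- Over a finite field F with q elements, q odd, every irreducible complex character of SL₂ has degree 1, q, q + 1, q − 1, (q + 1)/2 or (q − 1)/2; and when q ≥ 5 (so that these six numbers are distinct) there are exactly one irreducible character of degree 1, one of degree q, (q − 3)/2 of degree q + 1, (q − 1)/2 of degree q − 1, two of degree (q + 1)/2 and two of degree (q − 1)/2. -/
theorem result {F : Type*} [Field F] [Fintype F] (hodd : Odd (Fintype.card F)) :
    (∀ χ : Matrix.SpecialLinearGroup (Fin 2) F → ℂ, Cfsg.IsIrrCharacter (Matrix.SpecialLinearGroup (Fin 2) F) χ →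
      χ 1 = 1 ∨ χ 1 = (Fintype.card F : ℂ) ∨ χ 1 = (Fintype.card F : ℂ) + 1 ∨ χ 1 = (Fintype.card F : ℂ) - 1 ∨
        χ 1 = (((Fintype.card F + 1) / 2 : ℕ) : ℂ) ∨ χ 1 = (((Fintype.card F - 1) / 2 : ℕ) : ℂ)) ∧
    (5 ≤ Fintype.card F →
      Nat.card {χ : Cfsg.IrrCharacter (Matrix.SpecialLinearGroup (Fin 2) F) // (χ : Matrix.SpecialLinearGroup (Fin 2) F → ℂ) 1 = 1} = 1 ∧
      Nat.card {χ : Cfsg.IrrCharacter (Matrix.SpecialLinearGroup (Fin 2) F) // (χ : Matrix.SpecialLinearGroup (Fin 2) F → ℂ) 1 = (Fintype.card F : ℂ)} = 1 ∧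
      Nat.card {χ : Cfsg.IrrCharacter (Matrix.SpecialLinearGroup (Fin 2) F) // (χ : Matrix.SpecialLinearGroup (Fin 2) F → ℂ) 1 = (Fintype.card F : ℂ) + 1} = (Fintype.card F - 3) / 2 ∧
      Nat.card {χ : Cfsg.IrrCharacter (Matrix.SpecialLinearGroup (Fin 2) F) // (χ : Matrix.SpecialLinearGroup (Fin 2) F → ℂ) 1 = (Fintype.card F : ℂ) - 1} = (Fintype.card F - 1) / 2 ∧
      Nat.card {χ : Cfsg.IrrCharacter (Matrix.SpecialLinearGroup (Fin 2) F) // (χ : Matrix.SpecialLinearGroup (Fin 2) F → ℂ) 1 = (((Fintype.card F + 1) / 2 : ℕ) : ℂ)} = 2 ∧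
      Nat.card {χ : Cfsg.IrrCharacter (Matrix.SpecialLinearGroup (Fin 2) F) // (χ : Matrix.SpecialLinearGroup (Fin 2) F → ℂ) 1 = (((Fintype.card F - 1) / 2 : ℕ) : ℂ)} = 2) := by
  classical
  have instG : Fintype (GL (Fin 2) F) := Fintype.ofFinite _
  have instS : Fintype (Matrix.SpecialLinearGroup (Fin 2) F) := Fintype.ofFinite _
  have instI : Fintype (Cfsg.IrrCharacter (Matrix.SpecialLinearGroup (Fin 2) F)) :=
    Fintype.ofFinite _
  have hq1 : 1 ≤ Fintype.card F := Fintype.card_pos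
  obtain ⟨k, hk⟩ := hodd
  -- degrees
  have hdeg : ∀ ψ : Cfsg.IrrCharacter (Matrix.SpecialLinearGroup (Fin 2) F),
      degN ψ = 1 ∨ degN ψ = Fintype.card F ∨ degN ψ = Fintype.card F + 1 ∨
      degN ψ = Fintype.card F - 1 ∨ degN ψ = (Fintype.card F + 1) / 2 ∨
      degN ψ = (Fintype.card F - 1) / 2 := by
    intro ψ
    rcases sl2_types_degN ψ with ⟨-, h⟩ | ⟨-, h⟩ | ⟨δ, -, -, h⟩ | ⟨χ', -, -, -, h⟩ |
      ⟨α₀, ψ', -, -, -, -, -, -, -, h⟩ | ⟨χ', α₀, ψ', -, -, -, -, -, -, -, -, -, -, h⟩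
    · exact Or.inl h
    · exact Or.inr (Or.inl h)
    · exact Or.inr (Or.inr (Or.inl h))
    · exact Or.inr (Or.inr (Or.inr (Or.inl h)))
    · exact Or.inr (Or.inr (Or.inr (Or.inr (Or.inl (by omega)))))
    · exact Or.inr (Or.inr (Or.inr (Or.inr (Or.inr (by omega)))))
  constructor
  · intro χ hχ
    have hspec := degN_spec (⟨χ, hχ⟩ : Cfsg.IrrCharacter (Matrix.SpecialLinearGroup (Fin 2) F))
    simp only at hspec
    rcases hdeg ⟨χ, hχ⟩ with h | h | h | h | h | h
    · left
      rw [hspec, h, Nat.cast_one]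
    · right; left
      rw [hspec, h]
    · right; right; left
      rw [hspec, h, Nat.cast_add, Nat.cast_one]
    · right; right; right; left
      rw [hspec, h, Nat.cast_sub hq1, Nat.cast_one]
    · right; right; right; right; left
      rw [hspec, h]
    · right; right; right; right; right
      rw [hspec, h]
  · intro hq
    have hk2 : 2 ≤ k := by omega
    have hN1 : Nat.card {χ : Cfsg.IrrCharacter (Matrix.SpecialLinearGroup (Fin 2) F) //
        (χ : Matrix.SpecialLinearGroup (Fin 2) F → ℂ) 1 = 1} = 1 := by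
      refine Cfsg.Agent.S2300.card_subtype_eq_one
        (fun χ : Cfsg.IrrCharacter (Matrix.SpecialLinearGroup (Fin 2) F) =>
          (χ : Matrix.SpecialLinearGroup (Fin 2) F → ℂ) 1 = 1)
        ⟨fun _ => 1, isIrrCharacter_one⟩ rfl ?_
      intro ψ hψ
      have hd : degN ψ = 1 := by rw [degN_eq_iff, hψ, Nat.cast_one]
      apply Subtype.ext
      rcases sl2_types_degN ψ with ⟨h, -⟩ | ⟨-, h⟩ | ⟨δ, -, -, h⟩ | ⟨χ', -, -, -, h⟩ |
        ⟨α₀, ψ', -, -, -, -, -, -, -, h⟩ | ⟨χ', α₀, ψ', -, -, -, -, -, -, -, -, -, -, h⟩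
      · exact h
      all_goals omega
    have hNq : Nat.card {χ : Cfsg.IrrCharacter (Matrix.SpecialLinearGroup (Fin 2) F) //
        (χ : Matrix.SpecialLinearGroup (Fin 2) F → ℂ) 1 = (Fintype.card F : ℂ)} = 1 := by
      refine Cfsg.Agent.S2300.card_subtype_eq_one
        (fun χ : Cfsg.IrrCharacter (Matrix.SpecialLinearGroup (Fin 2) F) =>
          (χ : Matrix.SpecialLinearGroup (Fin 2) F → ℂ) 1 = (Fintype.card F : ℂ))
        ⟨resSL (stGL2 1), isIrr_resSL_st⟩ ?_ ?_
      · simp only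
        rw [resSL_one, stGL2_one]
      · intro ψ hψ
        apply Subtype.ext
        exact Cfsg.Agent.S2321.eq_steinberg ψ.1 ψ.2 hψ
    have hNs := card_deg_succ (F := F)
    rw [card_mulChar_sq_ne_one_odd ⟨k, hk⟩] at hNs
    -- the two characters of degree (q+1)/2
    have hNh : Nat.card {χ : Cfsg.IrrCharacter (Matrix.SpecialLinearGroup (Fin 2) F) //
        (χ : Matrix.SpecialLinearGroup (Fin 2) F → ℂ) 1 =
          (((Fintype.card F + 1) / 2 : ℕ) : ℂ)} = 2 := by
      obtain ⟨α₀, hα1, hαsq⟩ := exists_quadratic_mulChar (F := F) ⟨k, hk⟩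
      have hfix : lamGL2 α₀ * psGL2 1 α₀ = psGL2 1 α₀ := by
        rw [lam_mul_ps, mul_one, ← sq, hαsq, Cfsg.Agent.S2305.psGL2_swap]
      rcases resSL_cases (Cfsg.Agent.S2304.isIrr_psGL2 1 α₀ (Ne.symm hα1)) with ⟨-, h⟩ |
        ⟨-, -, -, -, ψ₁, ψ₂, hψ₁, hψ₂, hne, hsum, hc1, hc2⟩
      · exact absurd (h α₀ hfix) hα1
      · have hd1 : 2 * ψ₁ 1 = (Fintype.card F : ℂ) + 1 := by
          rw [half_degree hsum hc1, psGL2_one]
        have hd2 : 2 * ψ₂ 1 = (Fintype.card F : ℂ) + 1 := by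
          rw [half_degree (by rw [hsum, add_comm]) hc2, psGL2_one]
        have hcast : (((Fintype.card F + 1) / 2 : ℕ) : ℂ) = ((Fintype.card F : ℂ) + 1) / 2 := by
          have : (Fintype.card F + 1) / 2 = k + 1 := by omega
          rw [this, hk]
          push_cast
          ring
        refine card_subtype_eq_two
          (fun χ : Cfsg.IrrCharacter (Matrix.SpecialLinearGroup (Fin 2) F) =>
            (χ : Matrix.SpecialLinearGroup (Fin 2) F → ℂ) 1 =
              (((Fintype.card F + 1) / 2 : ℕ) : ℂ))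
          ⟨ψ₁, hψ₁⟩ ⟨ψ₂, hψ₂⟩ (fun h => hne (congrArg Subtype.val h)) ?_
        intro ψ
        constructor
        · intro hψ
          have hd : degN ψ = (Fintype.card F + 1) / 2 := by rw [degN_eq_iff, hψ]
          rcases sl2_types_degN ψ with ⟨-, h⟩ | ⟨-, h⟩ | ⟨δ, -, -, h⟩ | ⟨χ', -, -, -, h⟩ |
            ⟨α₀', ψ', h1, h2, hψ', hne', hsum', -, -, -⟩ |
            ⟨χ', α₀', ψ', -, -, -, -, -, -, -, -, -, -, h⟩
          · omega
          · omega
          · omega
          · omega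
          · have hα : α₀' = α₀ := mulChar_sq_unique α₀' α₀ h2 hαsq h1 hα1
            rw [hα, hsum] at hsum'
            have hin : Cfsg.classInner (ψ : Matrix.SpecialLinearGroup (Fin 2) F → ℂ) (ψ₁ + ψ₂) = 1 := by
              rw [hsum', classInner_add_right, classInner_isIrrCharacter ψ.2 ψ.2, if_pos rfl,
                classInner_isIrrCharacter ψ.2 hψ', if_neg hne', add_zero]
            rw [classInner_add_right, classInner_isIrrCharacter ψ.2 hψ₁,
              classInner_isIrrCharacter ψ.2 hψ₂] at hin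
            by_cases e1 : (ψ : Matrix.SpecialLinearGroup (Fin 2) F → ℂ) = ψ₁
            · left
              exact Subtype.ext e1
            · by_cases e2 : (ψ : Matrix.SpecialLinearGroup (Fin 2) F → ℂ) = ψ₂
              · right
                exact Subtype.ext e2
              · rw [if_neg e1, if_neg e2, add_zero] at hin
                exact absurd hin.symm one_ne_zero
          · omega
        · rintro (rfl | rfl)
          · simp only
            rw [hcast]
            linear_combination (1 / 2 : ℂ) * hd1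
          · simp only
            rw [hcast]
            linear_combination (1 / 2 : ℂ) * hd2
    -- counting
    have hD : ∀ ψ : Cfsg.IrrCharacter (Matrix.SpecialLinearGroup (Fin 2) F),
        degN ψ ∈ ({1, Fintype.card F, Fintype.card F + 1, Fintype.card F - 1,
          (Fintype.card F + 1) / 2, (Fintype.card F - 1) / 2} : Finset ℕ) := by
      intro ψ
      simp only [Finset.mem_insert, Finset.mem_singleton]
      exact hdeg ψ
    obtain ⟨hE1, hE2⟩ := by_degree _ hD
    rw [card_irrCharacter, Cfsg.Agent.S2325.result ⟨k, hk⟩,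
      Finset.sum_insert (by simp; omega), Finset.sum_insert (by simp; omega),
      Finset.sum_insert (by simp; omega), Finset.sum_insert (by simp; omega),
      Finset.sum_insert (by simp; omega), Finset.sum_singleton] at hE1
    rw [card_SL2, Finset.sum_insert (by simp; omega), Finset.sum_insert (by simp; omega),
      Finset.sum_insert (by simp; omega), Finset.sum_insert (by simp; omega),
      Finset.sum_insert (by simp; omega), Finset.sum_singleton] at hE2
    simp only [Nat.cast_one, Nat.cast_add, Nat.cast_sub hq1] at hE1 hE2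
    rw [hN1, hNq, hNh] at hE1 hE2
    have hfin := arith_odd _ k _ _ _ hk hk2 hNs hE1 hE2
    exact ⟨hN1, hNq, by omega, hfin.1, hNh, hfin.2⟩

end Cfsg.Agent.S2299
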