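import Mathlib
import Cfsg.Statements.S0495
import Cfsg.Agent.Lib.Helper2.S168Iso
import Cfsg.Agent.Lib.Helper4.SLCenter

set_option autoImplicit false
open Cfsg

namespace Cfsg.Agent.S0495

open Cfsg.Agent.Lib.Helper4

theorem psl27_simple_card {F : Type*} [Field F] [Fintype F] (hF : Fintype.card F = 7) :
    IsSimpleGroup (Matrix.ProjectiveSpecialLinearGroup (Fin 2) F) ∧
      Nat.card (Matrix.ProjectiveSpecialLinearGroup (Fin 2) F) = 168 := by
  classical
  have hsimple : IsSimpleGroup (Matrix.ProjectiveSpecialLinearGroup (Fin 2) F) :=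
    Matrix.ProjectiveSpecialLinearGroup.rank_two_simple (by
      rw [Nat.card_eq_fintype_card, hF]; norm_num)
  refine ⟨hsimple, ?_⟩
  have h1 := card_PSL_mul (F := F) 2 (by norm_num)
  rw [card_SL2, hF] at h1
  have h2 : Nat.gcd 2 (7 - 1) = 2 := by decide
  rw [h2] at h1
  omega

/-- A simple group of order 168 is isomorphic to the projective special linear group of dimension 2 over the field with
7 elements. -/
theorem result {G : Type*} [Group G] [Finite G] [IsSimpleGroup G]
    (h : Nat.card G = 168) {F : Type*} [Field F] [Fintype F] (hF : Fintype.card F = 7) :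
    Nonempty (G ≃* Matrix.ProjectiveSpecialLinearGroup (Fin 2) F) := by
  obtain ⟨hsimple, hcard⟩ := psl27_simple_card hF
  haveI := hsimple
  haveI : Finite (Matrix.ProjectiveSpecialLinearGroup (Fin 2) F) :=
    Nat.finite_of_card_ne_zero (by rw [hcard]; norm_num)
  exact Cfsg.Agent.Lib.Helper2.S168.iso_of_card_168 h hcard

end Cfsg.Agent.S0495
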