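import Mathlib
import Cfsg.Statements.S0989
import Cfsg.Agent.Lib.Lead.SylowCount
import Cfsg.Agent.Lib.Lead.ConjOrbit

namespace Cfsg.Agent.S0989

open Cfsg.Agent.Lib.Lead.SylowCount Cfsg.Agent.Lib.Lead.ConjOrbit

/-- an element of order `p` in `S_n`, `n < p + 2`, is a `p`-cycle. -/
theorem cycleType_of_orderOf {α : Type*} [Fintype α] [DecidableEq α] (p : ℕ) (hp : p.Prime)
    (hα : Fintype.card α < p + 2) (h : Equiv.Perm α) (hh : orderOf h = p) :
    h.cycleType = {p} := by
  obtain ⟨k, hk⟩ := Equiv.Perm.cycleType_prime_order (σ := h) (by rw [hh]; exact hp)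
  apply Equiv.Perm.cycleType_of_card_le_mem_cycleType_add_two hα
  rw [hk, hh]
  exact Multiset.mem_replicate.mpr ⟨by omega, rfl⟩

/-- the Sylow `p`-subgroup of `S_p`, `S_{p+1}` has order `p`. -/
theorem card_sylow {α : Type*} [Fintype α] [DecidableEq α] (p : ℕ) [Fact p.Prime]
    (hα : Fintype.card α = p ∨ Fintype.card α = p + 1) (P : Sylow p (Equiv.Perm α)) :
    Nat.card P = p := by
  have hp : p.Prime := Fact.out
  obtain ⟨p', rfl⟩ : ∃ p', p = p' + 1 := ⟨p - 1, by have := hp.pos; omega⟩
  have h1 : ¬ (p' + 1) ∣ p'.factorial := by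
    rw [hp.dvd_factorial]; omega
  rcases hα with hα | hα
  · apply card_sylow_of_card_eq (p' + 1) (p'.factorial) _ h1
    rw [Nat.card_perm, Nat.card_eq_fintype_card, hα, Nat.factorial_succ]
  · apply card_sylow_of_card_eq (p' + 1) ((p' + 2) * p'.factorial)
    · rw [Nat.card_perm, Nat.card_eq_fintype_card, hα, Nat.factorial_succ, Nat.factorial_succ]
      ring
    · intro h
      rcases (Nat.Prime.dvd_mul hp).mp h with h | h
      · have : (p' + 1) ∣ 1 := by
          have h2 : (p' + 1) ∣ (p' + 1) := dvd_refl _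
          have := (Nat.dvd_sub h h2)
          simpa using this
        have := Nat.le_of_dvd one_pos this
        have := hp.one_lt
        omega
      · exact h1 h

theorem result {α : Type*} [Fintype α] [DecidableEq α] (p : ℕ) [Fact p.Prime] (hα : Fintype.card α = p ∨ Fintype.card α = p + 1) (P : Sylow p (Equiv.Perm α)) : Nat.card ↥(Subgroup.normalizer ((P : Subgroup (Equiv.Perm α)) : Set (Equiv.Perm α))) = p * (p - 1) := by
  have hp : p.Prime := Fact.out
  have hα' : Fintype.card α < p + 2 := by rcases hα with h | h <;> omega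
  have hPcard := card_sylow p hα P
  -- order of non-identity elements
  have hord : ∀ h ∈ (P : Subgroup (Equiv.Perm α)), h ≠ 1 → orderOf h = p := by
    intro h hh hne
    have h1 : orderOf (⟨h, hh⟩ : (P : Subgroup (Equiv.Perm α))) ∣ p := by
      have h0 := orderOf_dvd_natCard (⟨h, hh⟩ : (P : Subgroup (Equiv.Perm α)))
      exact h0.trans (dvd_of_eq hPcard)
    rw [Subgroup.orderOf_mk] at h1
    rcases (Nat.dvd_prime hp).mp h1 with h2 | h2
    · exact absurd (orderOf_eq_one_iff.mp h2) hne
    · exact h2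
  have hgen : ∀ h ∈ (P : Subgroup (Equiv.Perm α)), h ≠ 1 →
      Subgroup.zpowers h = (P : Subgroup (Equiv.Perm α)) := by
    intro h hh hne
    apply Subgroup.eq_of_le_of_card_ge
    · rw [Subgroup.zpowers_le]; exact hh
    · rw [Nat.card_zpowers, hord h hh hne, hPcard]
  -- pick a generator
  obtain ⟨g, hgP, hg1⟩ : ∃ g ∈ (P : Subgroup (Equiv.Perm α)), g ≠ 1 := by
    by_contra hcon
    push Not at hcon
    have : (P : Subgroup (Equiv.Perm α)) = ⊥ := by
      rw [eq_bot_iff]; intro x hx; rw [Subgroup.mem_bot]; exact hcon x hx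
    rw [this] at hPcard
    simp at hPcard
    exact hp.one_lt.ne hPcard
  have hgord := hord g hgP hg1
  have hgct := cycleType_of_orderOf p hp hα' g hgord
  -- centralizer
  have hCcard : Nat.card (Subgroup.centralizer {g}) = p := by
    rw [Equiv.Perm.nat_card_centralizer, hgct]
    have : (Fintype.card α - p).factorial = 1 := by
      rcases hα with h | h
      · rw [h]; simp
      · rw [h]; simp
    simp [this]
  have hPC : (P : Subgroup (Equiv.Perm α)) ≤ Subgroup.centralizer {g} := by
    rw [← hgen g hgP hg1]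
    intro x hx
    rw [Subgroup.mem_centralizer_iff]
    intro y hy
    rw [Set.mem_singleton_iff] at hy
    subst hy
    obtain ⟨k, rfl⟩ := Subgroup.mem_zpowers_iff.mp hx
    exact (Commute.zpow_right (Commute.refl y) k).eq
  have hCeq : Subgroup.centralizer {g} = (P : Subgroup (Equiv.Perm α)) := by
    symm
    apply Subgroup.eq_of_le_of_card_ge hPC
    rw [hCcard, hPcard]
  set N := Subgroup.normalizer ((P : Subgroup (Equiv.Perm α)) : Set (Equiv.Perm α)) with hN
  have hmain := card_eq_card_centralizer_inf_mul_ncard_conj N g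
  have h1 : Subgroup.centralizer {g} ⊓ N = (P : Subgroup (Equiv.Perm α)) := by
    rw [hCeq]; exact inf_of_le_left Subgroup.le_normalizer
  have h2 : {h : Equiv.Perm α | ∃ n ∈ N, n * g * n⁻¹ = h} =
      ((P : Subgroup (Equiv.Perm α)) : Set (Equiv.Perm α)) \ {1} := by
    ext h
    constructor
    · rintro ⟨n, hn, rfl⟩
      refine ⟨(Subgroup.mem_normalizer_iff.mp hn g).mp hgP, ?_⟩
      intro h1
      rw [Set.mem_singleton_iff] at h1
      apply hg1
      have : n⁻¹ * (n * g * n⁻¹) * n = g := by group
      rw [← this, h1]; group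
    · rintro ⟨hhP, hh1⟩
      have hh1' : h ≠ 1 := hh1
      have hhct := cycleType_of_orderOf p hp hα' h (hord h hhP hh1')
      have hconj : IsConj g h := Equiv.Perm.isConj_iff_cycleType_eq.mpr (hgct.trans hhct.symm)
      obtain ⟨c, hc⟩ := isConj_iff.mp hconj
      refine ⟨c, ?_, hc⟩
      -- c normalizes P
      have hzp : ∀ k : ℤ, c * g ^ k * c⁻¹ = h ^ k := by
        intro k
        rw [← hc]
        exact (conj_zpow (a := c) (b := g) (i := k)).symm
      rw [Subgroup.mem_normalizer_iff]
      intro x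
      constructor
      · intro hx
        rw [← hgen g hgP hg1] at hx
        obtain ⟨k, rfl⟩ := Subgroup.mem_zpowers_iff.mp hx
        rw [hzp]
        exact Subgroup.zpow_mem _ hhP k
      · intro hx
        rw [← hgen h hhP hh1'] at hx
        obtain ⟨k, hk⟩ := Subgroup.mem_zpowers_iff.mp hx
        rw [← hzp] at hk
        have : x = g ^ k := by
          have h3 : c⁻¹ * (c * g ^ k * c⁻¹) * c = c⁻¹ * (c * x * c⁻¹) * c := by rw [hk]
          have e1 : c⁻¹ * (c * g ^ k * c⁻¹) * c = g ^ k := by group
          have e2 : c⁻¹ * (c * x * c⁻¹) * c = x := by group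
          rw [e1, e2] at h3
          exact h3.symm
        rw [this]
        exact Subgroup.zpow_mem _ hgP k
  rw [h1, h2, hPcard, Set.ncard_sdiff_singleton_of_mem (Subgroup.one_mem _)] at hmain
  rw [hmain]
  congr 1
  have : ((P : Subgroup (Equiv.Perm α)) : Set (Equiv.Perm α)).ncard = p := hPcard
  rw [this]

end Cfsg.Agent.S0989
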