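import Mathlib
import Cfsg.Statements.S0990

namespace Cfsg.Agent.S0990

theorem card_subgroupOf {G : Type*} [Group G] (X Y : Subgroup G) :
    Nat.card (X.subgroupOf Y) = Nat.card (X ⊓ Y : Subgroup G) := by
  rw [← Subgroup.subgroupOf_map_subtype, Subgroup.card_map_of_injective Y.subtype_injective]

theorem result {α : Type*} [Fintype α] [DecidableEq α] (hα : 2 ≤ Fintype.card α) (p : ℕ) [Fact p.Prime] (hp : p ≠ 2) (P : Sylow p (Equiv.Perm α)) : (P : Subgroup (Equiv.Perm α)) ≤ alternatingGroup α ∧ 2 * Nat.card ↥(Subgroup.normalizer ((((P : Subgroup (Equiv.Perm α)).subgroupOf (alternatingGroup α) : Subgroup ↥(alternatingGroup α)) : Set ↥(alternatingGroup α)))) = Nat.card ↥(Subgroup.normalizer ((P : Subgroup (Equiv.Perm α)) : Set (Equiv.Perm α))) := by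
  have hpp : p.Prime := Fact.out
  haveI : Nontrivial α := Fintype.one_lt_card_iff_nontrivial.mp (by omega)
  have hPA : (P : Subgroup (Equiv.Perm α)) ≤ alternatingGroup α := by
    intro g hg
    rw [Equiv.Perm.mem_alternatingGroup]
    obtain ⟨k, hk⟩ := (IsPGroup.iff_orderOf.mp P.2) ⟨g, hg⟩
    rw [Subgroup.orderOf_mk] at hk
    have hodd : Odd (p ^ k) := (hpp.odd_of_ne_two hp).pow
    rcases Int.units_eq_one_or (Equiv.Perm.sign g) with h | h
    · exact h
    · exfalso
      have h1 : Equiv.Perm.sign g ^ (p ^ k) = 1 := by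
        rw [← map_pow, ← hk, pow_orderOf_eq_one, map_one]
      rw [h, hodd.neg_one_pow] at h1
      exact absurd h1 (by decide)
  refine ⟨hPA, ?_⟩
  set A := alternatingGroup α with hA
  set N := Subgroup.normalizer ((P : Subgroup (Equiv.Perm α)) : Set (Equiv.Perm α)) with hN
  have hfr : N ⊔ A = ⊤ := by
    have := Sylow.normalizer_sup_eq_top (P.subtype hPA)
    rwa [Sylow.coe_subtype, Subgroup.map_subgroupOf_eq_of_le hPA] at this
  have h1 : A.relIndex N = 2 := by
    rw [← Subgroup.relIndex_sup_left, sup_comm, hfr, Subgroup.relIndex_top_right]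
    exact alternatingGroup.index_eq_two
  have h2 : Nat.card (A.subgroupOf N) * 2 = Nat.card N := by
    rw [← h1]; exact Subgroup.card_mul_index _
  rw [← Subgroup.subgroupOf_normalizer_eq hPA, card_subgroupOf, inf_comm, ← card_subgroupOf,
    mul_comm]
  exact h2

end Cfsg.Agent.S0990
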