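import Cfsg.Statements.S0497
import Cfsg.Agent.Lib.Helper7.Ord360c

set_option autoImplicit false
open Cfsg

namespace Cfsg.Agent.S0497

open Cfsg.Agent.Lib.Helper7

/-- A simple group of order 360 is isomorphic to the alternating group of degree 6. -/
theorem result {G : Type*} [Group G] [Finite G] [IsSimpleGroup G]
    (h : Nat.card G = 360) : Nonempty (G ≃* alternatingGroup (Fin 6)) := by
  haveI : IsSimpleGroup (alternatingGroup (Fin 6)) :=
    alternatingGroup.isSimpleGroup (by simp)
  have h2 : Nat.card (alternatingGroup (Fin 6)) = 360 := by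
    have h3 := two_mul_nat_card_alternatingGroup (α := Fin 6)
    rw [Nat.card_perm, Nat.card_eq_fintype_card (α := Fin 6), Fintype.card_fin] at h3
    have h4 : Nat.factorial 6 = 720 := by decide
    omega
  exact Ord360.iso360 h h2

end Cfsg.Agent.S0497
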