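import Mathlib
import Cfsg.Statements.S1018
import Cfsg.Agent.Lib.Lead.SylowCount
import Cfsg.Agent.Lib.Lead.Closed

namespace Cfsg.Agent.S1018

open Cfsg.Agent.Lib.Lead.SylowCount

theorem orderOf_conj_eq {G : Type*} [Group G] (g w : G) : orderOf (g * w * g⁻¹) = orderOf w := by
  have := orderOf_injective (MulAut.conj g).toMonoidHom (MulAut.conj g).injective w
  simpa using this

/-- a nonidentity element of a group of prime order generates it -/
theorem zpowers_eq_of_card_prime {G : Type*} [Group G] {p : ℕ} [hp : Fact p.Prime] (P : Subgroup G)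
    (hP : Nat.card P = p) (w : G) (hw : w ∈ P) (hw1 : w ≠ 1) : Subgroup.zpowers w = P := by
  haveI : Finite P := Nat.finite_of_card_ne_zero (by rw [hP]; exact hp.out.ne_zero)
  have hord : orderOf w = p := by
    have h1 : orderOf (⟨w, hw⟩ : P) ∣ p := by
      have h0 := orderOf_dvd_natCard (⟨w, hw⟩ : P)
      exact h0.trans (dvd_of_eq hP)
    rw [Subgroup.orderOf_mk] at h1
    rcases (Nat.dvd_prime hp.out).mp h1 with h2 | h2
    · exact absurd (orderOf_eq_one_iff.mp h2) hw1
    · exact h2
  apply Subgroup.eq_of_le_of_card_ge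
  · rw [Subgroup.zpowers_le]; exact hw
  · rw [hP, Nat.card_zpowers, hord]

/-- if `c` conjugates one generator of `P` to another, `c` normalizes `P`. -/
theorem mem_normalizer_of_conj_gen {G : Type*} [Group G] {P : Subgroup G} {u v c : G}
    (hu : Subgroup.zpowers u = P) (hv : Subgroup.zpowers v = P) (hc : c * v * c⁻¹ = u) :
    c ∈ Subgroup.normalizer (P : Set G) := by
  have hzp : ∀ k : ℤ, c * v ^ k * c⁻¹ = u ^ k := by
    intro k
    rw [← hc]
    exact (conj_zpow (a := c) (b := v) (i := k)).symm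
  rw [Subgroup.mem_normalizer_iff]
  intro x
  constructor
  · intro hx
    rw [← hv] at hx
    obtain ⟨k, rfl⟩ := Subgroup.mem_zpowers_iff.mp hx
    rw [hzp, ← hu]
    exact Subgroup.zpow_mem _ (Subgroup.mem_zpowers u) k
  · intro hx
    rw [← hu] at hx
    obtain ⟨k, hk⟩ := Subgroup.mem_zpowers_iff.mp hx
    rw [← hzp] at hk
    have : x = v ^ k := by
      have h3 : c⁻¹ * (c * v ^ k * c⁻¹) * c = c⁻¹ * (c * x * c⁻¹) * c := by rw [hk]
      have e1 : c⁻¹ * (c * v ^ k * c⁻¹) * c = v ^ k := by group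
      have e2 : c⁻¹ * (c * x * c⁻¹) * c = x := by group
      rw [e1, e2] at h3
      exact h3.symm
    rw [this, ← hv]
    exact Subgroup.zpow_mem _ (Subgroup.mem_zpowers v) k

/-- a `p`-element normalizing a Sylow `p`-subgroup lies in it. -/
theorem mem_of_mem_normalizer {G : Type*} [Group G] {p : ℕ} [Fact p.Prime] (P : Sylow p G) (w : G)
    (k : ℕ) (hw : orderOf w = p ^ k) (h : w ∈ Subgroup.normalizer ((P : Subgroup G) : Set G)) :
    w ∈ (P : Subgroup G) := by
  have hp : IsPGroup p (Subgroup.zpowers w) := by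
    apply IsPGroup.of_card (n := k)
    rw [Nat.card_zpowers, hw]
  have h1 : Subgroup.zpowers w ⊓ Subgroup.normalizer ((P : Subgroup G) : Set G) =
      Subgroup.zpowers w ⊓ (P : Subgroup G) := hp.inf_normalizer_sylow P
  have h2 : w ∈ Subgroup.zpowers w ⊓ Subgroup.normalizer ((P : Subgroup G) : Set G) :=
    Subgroup.mem_inf.mpr ⟨Subgroup.mem_zpowers w, h⟩
  rw [h1] at h2
  exact (Subgroup.mem_inf.mp h2).2

theorem result {G : Type*} [Group G] [Finite G] (p : ℕ) [Fact p.Prime] (P : Sylow p G) (hP : Nat.card ↥(P : Subgroup G) = p) : (∀ y : G, orderOf y = p → Nat.card (MulAction.fixedBy (G ⧸ Subgroup.normalizer ((P : Subgroup G) : Set G)) y) = 1) ∧ ∀ x : G, x ∈ Subgroup.normalizer ((P : Subgroup G) : Set G) → x ∉ Subgroup.centralizer ((P : Subgroup G) : Set G) → Nat.card (MulAction.fixedBy (G ⧸ Subgroup.normalizer ((P : Subgroup G) : Set G)) x) ≤ Nat.card (MulAction.orbitRel.Quotient ↥(P : Subgroup G) (G ⧸ Subgroup.normalizer ((P : Subgroup G) : Set G))) := by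
  classical
  have hp : p.Prime := Fact.out
  set N := Subgroup.normalizer ((P : Subgroup G) : Set G) with hN
  have hPN : (P : Subgroup G) ≤ N := Subgroup.le_normalizer
  -- fixed point criterion
  have hfix : ∀ (y g : G), (y • (g : G ⧸ N) = (g : G ⧸ N)) ↔ g⁻¹ * y * g ∈ N := by
    intro y g
    change ((y * g : G) : G ⧸ N) = (g : G ⧸ N) ↔ _
    rw [QuotientGroup.eq]
    constructor
    · intro h
      have e1 : g⁻¹ * y * g = ((y * g)⁻¹ * g)⁻¹ := by group
      rw [e1]; exact N.inv_mem h
    · intro h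
      have e1 : (y * g)⁻¹ * g = (g⁻¹ * y * g)⁻¹ := by group
      rw [e1]; exact N.inv_mem h
  refine ⟨?_, ?_⟩
  · intro y hy
    have hy1 : y ≠ 1 := by
      intro h; rw [h, orderOf_one] at hy; exact hp.one_lt.ne hy
    -- existence
    have hyp : IsPGroup p (Subgroup.zpowers y) :=
      IsPGroup.of_card (n := 1) (by rw [Nat.card_zpowers, hy, pow_one])
    obtain ⟨Q, hQ⟩ := hyp.exists_le_sylow
    obtain ⟨g, hg⟩ := MulAction.exists_smul_eq G P Q
    have hgy : g⁻¹ * y * g ∈ (P : Subgroup G) := by
      have : y ∈ (g • P : Sylow p G) := by rw [hg]; exact hQ (Subgroup.mem_zpowers y)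
      exact (Cfsg.Agent.Lib.Lead.Closed.mem_sylow_smul P g y).mp this
    rw [Nat.card_eq_one_iff_unique]
    refine ⟨⟨?_⟩, ⟨⟨(g : G ⧸ N), (hfix y g).mpr (hPN hgy)⟩⟩⟩
    rintro ⟨a, ha⟩ ⟨b, hb⟩
    apply Subtype.ext
    change a = b
    induction a using QuotientGroup.induction_on with
    | H a =>
    induction b using QuotientGroup.induction_on with
    | H b =>
    rw [MulAction.mem_fixedBy, hfix] at ha hb
    have hord : ∀ c : G, orderOf (c⁻¹ * y * c) = p ^ 1 := by
      intro c
      have := orderOf_conj_eq c⁻¹ y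
      rw [inv_inv] at this
      rw [this, hy, pow_one]
    have haP := mem_of_mem_normalizer P _ 1 (hord a) ha
    have hbP := mem_of_mem_normalizer P _ 1 (hord b) hb
    have hne : ∀ c : G, c⁻¹ * y * c ≠ 1 := by
      intro c h
      apply hy1
      have e : c * (c⁻¹ * y * c) * c⁻¹ = y := by group
      rw [← e, h]; group
    have hu := zpowers_eq_of_card_prime (P : Subgroup G) hP _ haP (hne a)
    have hv := zpowers_eq_of_card_prime (P : Subgroup G) hP _ hbP (hne b)
    rw [QuotientGroup.eq]
    apply mem_normalizer_of_conj_gen hu hv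
    group
  · intro x hxN hxC
    apply Nat.card_le_card_of_injective
      (fun ω : MulAction.fixedBy (G ⧸ N) x =>
        (Quotient.mk'' ω.1 : MulAction.orbitRel.Quotient (P : Subgroup G) (G ⧸ N)))
    rintro ⟨a, ha⟩ ⟨b, hb⟩ hab
    apply Subtype.ext
    change a = b
    have hab' : (Quotient.mk'' a : MulAction.orbitRel.Quotient (P : Subgroup G) (G ⧸ N)) =
      Quotient.mk'' b := hab
    rw [Quotient.eq''] at hab'
    obtain ⟨⟨u, huP⟩, hu⟩ := hab'
    -- hu : u • b = a
    induction b using QuotientGroup.induction_on with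
    | H g =>
    have hu' : a = ((u * g : G) : G ⧸ N) := hu.symm
    subst hu'
    rw [MulAction.mem_fixedBy, hfix] at ha hb
    set w := x⁻¹ * u⁻¹ * x * u with hw
    have hwP : w ∈ (P : Subgroup G) := by
      have h1 : x⁻¹ * u⁻¹ * x⁻¹⁻¹ ∈ (P : Subgroup G) :=
        (Subgroup.mem_normalizer_iff.mp (N.inv_mem hxN) u⁻¹).mp ((P : Subgroup G).inv_mem huP)
      rw [inv_inv] at h1
      exact (P : Subgroup G).mul_mem h1 huP
    have hwN : g⁻¹ * w * g ∈ N := by
      have e : g⁻¹ * w * g = (g⁻¹ * x * g)⁻¹ * ((u * g)⁻¹ * x * (u * g)) := by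
        rw [hw]; group
      rw [e]; exact N.mul_mem (N.inv_mem hb) ha
    by_cases hw1 : w = 1
    · -- x commutes with u
      have hcomm : x * u = u * x := by
        have e : u⁻¹ * x * u = x * w := by rw [hw]; group
        rw [hw1, mul_one] at e
        calc x * u = u * (u⁻¹ * x * u) := by group
          _ = u * x := by rw [e]
      by_cases hu1 : u = 1
      · rw [hu1, one_mul]
      · exfalso
        apply hxC
        have hgen := zpowers_eq_of_card_prime (P : Subgroup G) hP u huP hu1
        rw [Subgroup.mem_centralizer_iff]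
        intro y hy
        have hy' : y ∈ Subgroup.zpowers u := by rw [hgen]; exact hy
        obtain ⟨k, rfl⟩ := Subgroup.mem_zpowers_iff.mp hy'
        have hc : Commute u x := hcomm.symm
        exact (hc.zpow_left k).eq
    · -- g ∈ N
      have hword : orderOf (g⁻¹ * w * g) = p ^ 1 := by
        have := orderOf_conj_eq g⁻¹ w
        rw [inv_inv] at this
        have hgen := zpowers_eq_of_card_prime (P : Subgroup G) hP w hwP hw1
        rw [this, pow_one, ← Nat.card_zpowers, hgen, hP]
      have hwgP := mem_of_mem_normalizer P _ 1 hword hwN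
      have hne : g⁻¹ * w * g ≠ 1 := by
        intro h
        apply hw1
        have e : g * (g⁻¹ * w * g) * g⁻¹ = w := by group
        rw [← e, h]; group
      have hu2 := zpowers_eq_of_card_prime (P : Subgroup G) hP _ hwgP hne
      have hv2 := zpowers_eq_of_card_prime (P : Subgroup G) hP w hwP hw1
      have hginv : g⁻¹ ∈ N := mem_normalizer_of_conj_gen hu2 hv2 (by group)
      have hgN : g ∈ N := by simpa using N.inv_mem hginv
      rw [QuotientGroup.eq]
      have e : (u * g)⁻¹ * g = g⁻¹ * u⁻¹ * g := by group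
      rw [e]
      exact N.mul_mem (N.mul_mem hginv (N.inv_mem (hPN huP))) hgN

end Cfsg.Agent.S1018
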