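import Mathlib
import Cfsg.Statements.S1012
import Cfsg.Agent.Lib.Lead.SylowCount
import Cfsg.Agent.S1018

namespace Cfsg.Agent.S1012

open Cfsg.Agent.Lib.Lead.SylowCount

theorem result {G : Type*} [Group G] [Finite G] (h : Nat.card G = 24) (h6 : ∀ g : G, orderOf g ≠ 6) : Nonempty (G ≃* Equiv.Perm (Fin 4)) := by
  classical
  haveI : Fact (Nat.Prime 3) := ⟨by norm_num⟩
  haveI : Fact (Nat.Prime 2) := ⟨by norm_num⟩
  -- no element of order 3 commutes with an involution
  have hno : ∀ a b : G, orderOf a = 3 → orderOf b = 2 → a * b ≠ b * a := by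
    intro a b ha hb hab
    have hc : Commute a b := hab
    have := hc.orderOf_mul_eq_mul_orderOf_of_coprime (by rw [ha, hb]; norm_num)
    rw [ha, hb] at this
    exact h6 _ this
  obtain ⟨P⟩ : Nonempty (Sylow 3 G) := inferInstance
  have hPcard : ∀ Q : Sylow 3 G, Nat.card Q = 3 := fun Q =>
    card_sylow_of_card_eq 3 8 (by rw [h]) (by norm_num) Q
  have hdvd : Nat.card (Sylow 3 G) ∣ 8 :=
    card_sylow_dvd_of_card P (hPcard P) (by rw [h]) (by norm_num)
  have hmod : Nat.card (Sylow 3 G) % 3 = 1 := card_sylow_modEq_one 3 G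
  have hle : Nat.card (Sylow 3 G) ≤ 8 := Nat.le_of_dvd (by norm_num) hdvd
  -- generator of P
  have hgenex : ∀ Q : Sylow 3 G, ∃ a ∈ (Q : Subgroup G), orderOf a = 3 ∧
      Subgroup.zpowers a = (Q : Subgroup G) := by
    intro Q
    obtain ⟨a, haQ, ha1⟩ : ∃ a ∈ (Q : Subgroup G), a ≠ 1 := by
      by_contra hcon
      push Not at hcon
      have : (Q : Subgroup G) = ⊥ := by
        rw [eq_bot_iff]; intro x hx; rw [Subgroup.mem_bot]; exact hcon x hx
      have hc := hPcard Q
      have hc' : Nat.card (Q : Subgroup G) = 3 := hc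
      rw [this] at hc'
      simp at hc'
    have hgen := Cfsg.Agent.S1018.zpowers_eq_of_card_prime (Q : Subgroup G) (hPcard Q) a haQ ha1
    refine ⟨a, haQ, ?_, hgen⟩
    rw [← Nat.card_zpowers, hgen]; exact hPcard Q
  have hcases : Nat.card (Sylow 3 G) = 1 ∨ Nat.card (Sylow 3 G) = 4 := by
    generalize Nat.card (Sylow 3 G) = n at *
    interval_cases n <;> omega
  rcases hcases with h1 | h4
  · -- P normal
    exfalso
    have hn : (P : Subgroup G).Normal := normal_of_card_sylow_eq_one 3 h1 P
    have hNtop : Subgroup.normalizer ((P : Subgroup G) : Set G) = ⊤ :=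
      Subgroup.normalizer_eq_top_iff.mpr hn
    have hrel := relIndex_centralizer_normalizer_dvd (P : Subgroup G)
    haveI : IsCyclic (P : Subgroup G) := isCyclic_of_prime_card (hPcard P)
    have hP' : Nat.card (P : Subgroup G) = 3 := hPcard P
    rw [IsCyclic.card_mulAut, hP', hNtop, Subgroup.relIndex_top_right] at hrel
    have htot : Nat.totient 3 = 2 := by decide
    rw [htot] at hrel
    have hCcard := Subgroup.card_mul_index (Subgroup.centralizer ((P : Subgroup G) : Set G))
    rw [h] at hCcard
    have heven : 2 ∣ Nat.card (Subgroup.centralizer ((P : Subgroup G) : Set G)) := by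
      rcases (Nat.dvd_prime Nat.prime_two).mp hrel with e | e
      · rw [e] at hCcard; omega
      · rw [e] at hCcard; omega
    obtain ⟨⟨b, hbC⟩, hb⟩ := exists_prime_orderOf_dvd_card' 2 heven
    rw [Subgroup.orderOf_mk] at hb
    obtain ⟨a, haP, ha3, _⟩ := hgenex P
    rw [Subgroup.mem_centralizer_iff] at hbC
    exact hno a b ha3 hb (hbC a haP)
  · -- action on Sylow 3-subgroups
    let φ : G →* Equiv.Perm (Sylow 3 G) := MulAction.toPermHom G (Sylow 3 G)
    have hKN : ∀ Q : Sylow 3 G, φ.ker ≤ Subgroup.normalizer ((Q : Subgroup G) : Set G) := by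
      intro Q k hk
      rw [MonoidHom.mem_ker] at hk
      have : k • Q = Q := by
        have := congrArg (fun e : Equiv.Perm (Sylow 3 G) => e Q) hk
        simpa [φ] using this
      exact Sylow.smul_eq_iff_mem_normalizer.mp this
    have hNcard : Nat.card (Subgroup.normalizer ((P : Subgroup G) : Set G)) = 6 := by
      have := card_sylow_mul_card_normalizer 3 P
      rw [h4, h] at this
      have e : Nat.card (Subgroup.normalizer ((P : Subgroup G) : Set G)) =
        Nat.card (Subgroup.normalizer (P : Set G)) := rfl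
      omega
    have hKdvd : Nat.card φ.ker ∣ 6 := hNcard ▸ Subgroup.card_dvd_of_le (hKN P)
    have h3 : ¬ 3 ∣ Nat.card φ.ker := by
      intro h3
      obtain ⟨⟨a, haK⟩, ha⟩ := exists_prime_orderOf_dvd_card' 3 h3
      rw [Subgroup.orderOf_mk] at ha
      have hall : ∀ Q : Sylow 3 G, (Q : Subgroup G) = Subgroup.zpowers a := by
        intro Q
        have haQ : a ∈ (Q : Subgroup G) :=
          Cfsg.Agent.S1018.mem_of_mem_normalizer Q a 1 (by rw [ha, pow_one]) (hKN Q haK)
        have ha1 : a ≠ 1 := by
          intro e; rw [e, orderOf_one] at ha; omega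
        exact (Cfsg.Agent.S1018.zpowers_eq_of_card_prime (Q : Subgroup G) (hPcard Q) a haQ ha1).symm
      haveI : Subsingleton (Sylow 3 G) := ⟨fun Q R => Sylow.ext ((hall Q).trans (hall R).symm)⟩
      have : Nat.card (Sylow 3 G) ≤ 1 := Finite.card_le_one_iff_subsingleton.mpr inferInstance
      omega
    have h2 : Nat.card φ.ker ≠ 2 := by
      intro h2
      obtain ⟨⟨z, hzK⟩, hz⟩ := exists_prime_orderOf_dvd_card' 2 (dvd_of_eq h2.symm)
      rw [Subgroup.orderOf_mk] at hz
      have hz1 : z ≠ 1 := by
        intro e; rw [e, orderOf_one] at hz; omega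
      have hKeq : φ.ker = Subgroup.zpowers z := by
        symm
        apply Subgroup.eq_of_le_of_card_ge
        · rw [Subgroup.zpowers_le]; exact hzK
        · rw [Nat.card_zpowers, hz, h2]
      -- z central
      have hzc : ∀ g : G, g * z * g⁻¹ = z := by
        intro g
        have hmem : g * z * g⁻¹ ∈ φ.ker := (inferInstance : φ.ker.Normal).conj_mem z hzK g
        rw [hKeq] at hmem
        obtain ⟨k, hk⟩ := Subgroup.mem_zpowers_iff.mp hmem
        have hne : g * z * g⁻¹ ≠ 1 := by
          intro e
          apply hz1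
          have e2 : g⁻¹ * (g * z * g⁻¹) * g = z := by group
          rw [← e2, e]; group
        have hord : orderOf (g * z * g⁻¹) = 2 := by
          rw [Cfsg.Agent.S1018.orderOf_conj_eq, hz]
        -- element of zpowers z of order 2 is z
        have hz2 : z ^ 2 = 1 := by rw [← hz]; exact pow_orderOf_eq_one z
        rcases Int.emod_two_eq_zero_or_one k with hk0 | hk1
        · exfalso
          apply hne
          rw [← hk]
          obtain ⟨m, hm⟩ : ∃ m, k = 2 * m := ⟨k / 2, by omega⟩
          rw [hm, zpow_mul, zpow_ofNat, hz2, one_zpow]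
        · rw [← hk]
          obtain ⟨m, hm⟩ : ∃ m, k = 2 * m + 1 := ⟨k / 2, by omega⟩
          rw [hm, zpow_add, zpow_mul, zpow_ofNat, hz2, one_zpow, one_mul, zpow_one]
      obtain ⟨a, _, ha3, _⟩ := hgenex P
      apply hno a z ha3 hz
      have := hzc a
      calc a * z = (a * z * a⁻¹) * a := by group
        _ = z * a := by rw [this]
    have hK1 : Nat.card φ.ker = 1 := by
      have hle6 : Nat.card φ.ker ≤ 6 := Nat.le_of_dvd (by norm_num) hKdvd
      generalize Nat.card φ.ker = n at *
      interval_cases n <;> omega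
    have hinj : Function.Injective φ := by
      rw [← MonoidHom.ker_eq_bot_iff]
      exact Subgroup.card_eq_one.mp hK1
    haveI : Fintype (Sylow 3 G) := Fintype.ofFinite _
    have hcardS : Fintype.card (Sylow 3 G) = 4 := by
      rw [← Nat.card_eq_fintype_card]; exact h4
    have hbij : Function.Bijective φ := by
      apply hinj.bijective_of_nat_card_le
      rw [Nat.card_perm, h4, h]
      decide
    let e : Sylow 3 G ≃ Fin 4 := Fintype.equivFinOfCardEq hcardS
    exact ⟨(MulEquiv.ofBijective φ hbij).trans e.permCongrHom⟩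

end Cfsg.Agent.S1012
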