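import Mathlib
import Cfsg.Statements.S0787
import Cfsg.Agent.S0789

set_option autoImplicit false
set_option linter.unusedSectionVars false
open Cfsg

namespace Cfsg.Agent.S0787

open Matrix QuadraticMap Cfsg.Agent.Lib.Helper5.CartanDieudonne
  Cfsg.Agent.Lib.Helper5.Refl Cfsg.Agent.Lib.Helper5.SpinorNorm Cfsg.Agent.Lib.Helper5.Dickson

section
variable {ι : Type} [Fintype ι] [DecidableEq ι] {F : Type*} [Field F] [Fintype F]
  (Q : QuadraticForm F (ι → F))

theorem mem_SO_iff (g : ↥(isometryGroup F ⇑Q)) :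
    g ∈ specialIsometryGroup F ⇑Q ↔
      ((g : Matrix.GeneralLinearGroup ι F) : Matrix ι ι F).det = 1 := by
  unfold specialIsometryGroup
  rw [MonoidHom.mem_ker]
  constructor
  · intro h
    have h2 := congrArg (fun u : Fˣ => (u : F)) h
    simpa using h2
  · intro h
    apply Units.ext
    simpa using h

instance normal_SO : (specialIsometryGroup F ⇑Q).Normal := by
  unfold specialIsometryGroup
  infer_instance

theorem det_of_rep {g : ↥(isometryGroup F ⇑Q)} {vs : List (ι → F)} (hvs : IsRep Q g vs) :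
    ((g : Matrix.GeneralLinearGroup ι F) : Matrix ι ι F).det = (-1) ^ vs.length := by
  rw [hvs.2, rprod_det Q vs hvs.1]

/-- the set of squares of elements of `SO` -/
def sqSet : Set ↥(isometryGroup F ⇑Q) :=
  {x | ∃ s ∈ specialIsometryGroup F ⇑Q, x = s * s}

theorem reflE_mul_mem_SO (v w : ι → F) (hv : Q v ≠ 0) (hw : Q w ≠ 0) :
    reflE Q v * reflE Q w ∈ specialIsometryGroup F ⇑Q := by
  rw [mem_SO_iff, reflE_of_ne Q v hv, reflE_of_ne Q w hw]
  rw [Subgroup.coe_mul, Matrix.GeneralLinearGroup.coe_mul, reflection_coe, reflection_coe,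
    Matrix.det_mul, reflection_det Q v hv, reflection_det Q w hw]
  ring

theorem commute_pi_reflE (v w : ι → F) (hv : Q v ≠ 0) (hw : Q w ≠ 0) :
    Commute (QuotientGroup.mk' (Subgroup.normalClosure (sqSet Q)) (reflE Q v))
      (QuotientGroup.mk' (Subgroup.normalClosure (sqSet Q)) (reflE Q w)) := by
  set π := QuotientGroup.mk' (Subgroup.normalClosure (sqSet Q))
  have h1 : π (reflE Q v * reflE Q w * (reflE Q v * reflE Q w)) = 1 := by
    rw [← MonoidHom.mem_ker, QuotientGroup.ker_mk']
    apply Subgroup.subset_normalClosure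
    exact ⟨_, reflE_mul_mem_SO Q v w hv hw, rfl⟩
  have hv2 : π (reflE Q v) * π (reflE Q v) = 1 := by
    rw [← map_mul, reflE_mul_self, map_one]
  have hw2 : π (reflE Q w) * π (reflE Q w) = 1 := by
    rw [← map_mul, reflE_mul_self, map_one]
  rw [map_mul, map_mul] at h1
  unfold Commute SemiconjBy
  have e1 : π (reflE Q v) * π (reflE Q w) = (π (reflE Q v) * π (reflE Q w))⁻¹ :=
    eq_inv_of_mul_eq_one_left h1
  have e2 : (π (reflE Q v))⁻¹ = π (reflE Q v) := (eq_inv_of_mul_eq_one_left hv2).symm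
  have e3 : (π (reflE Q w))⁻¹ = π (reflE Q w) := (eq_inv_of_mul_eq_one_left hw2).symm
  rw [e1, _root_.mul_inv_rev, e2, e3]

theorem commute_pi_reflE' (v w : ι → F) :
    Commute (QuotientGroup.mk' (Subgroup.normalClosure (sqSet Q)) (reflE Q v))
      (QuotientGroup.mk' (Subgroup.normalClosure (sqSet Q)) (reflE Q w)) := by
  by_cases hv : Q v ≠ 0
  · by_cases hw : Q w ≠ 0
    · exact commute_pi_reflE Q v w hv hw
    · have : reflE Q w = 1 := by unfold reflE; rw [dif_neg hw]
      rw [this, map_one]; exact Commute.one_right _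
  · have : reflE Q v = 1 := by unfold reflE; rw [dif_neg hv]
    rw [this, map_one]; exact Commute.one_left _

theorem commutator_le_normalClosure (hQ : (polarBilin Q).Nondegenerate)
    (hex : Fintype.card ι = 4 → ∃ a : F, a ≠ 0 ∧ a ≠ 1) :
    commutator ↥(isometryGroup F ⇑Q) ≤ Subgroup.normalClosure (sqSet Q) := by
  rw [commutator_def, Subgroup.commutator_le]
  intro a _ b _
  set π := QuotientGroup.mk' (Subgroup.normalClosure (sqSet Q))
  rw [← QuotientGroup.ker_mk' (Subgroup.normalClosure (sqSet Q)), MonoidHom.mem_ker]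
  obtain ⟨vs, hvs⟩ := exists_rep' Q hQ hex a
  obtain ⟨ws, hws⟩ := exists_rep' Q hQ hex b
  have hab : Commute (π a) (π b) := by
    rw [rep_eq_prod Q hvs, rep_eq_prod Q hws, map_list_prod, map_list_prod]
    apply Commute.list_prod_left
    intro x hx
    apply Commute.list_prod_right
    intro y hy
    rw [List.mem_map] at hx hy
    obtain ⟨x', hx', rfl⟩ := hx
    obtain ⟨y', hy', rfl⟩ := hy
    rw [List.mem_map] at hx' hy'
    obtain ⟨v, -, rfl⟩ := hx'
    obtain ⟨w, -, rfl⟩ := hy'
    exact commute_pi_reflE' Q v w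
  rw [map_commutatorElement]
  exact commutatorElement_eq_one_iff_commute.mpr hab

theorem normalClosure_le_map (H : Subgroup ↥(specialIsometryGroup F ⇑Q)) (hH : H.index = 2) :
    Subgroup.normalClosure (sqSet Q) ≤ H.map (specialIsometryGroup F ⇑Q).subtype := by
  unfold Subgroup.normalClosure
  rw [Subgroup.closure_le]
  intro x hx
  rw [Group.mem_conjugatesOfSet_iff] at hx
  obtain ⟨y, ⟨s, hs, rfl⟩, hconj⟩ := hx
  rw [isConj_iff] at hconj
  obtain ⟨c, rfl⟩ := hconj
  have hs' : c * s * c⁻¹ ∈ specialIsometryGroup F ⇑Q :=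
    (normal_SO Q).conj_mem s hs c
  refine ⟨⟨c * s * c⁻¹, hs'⟩ * ⟨c * s * c⁻¹, hs'⟩, Subgroup.mul_self_mem_of_index_two hH _, ?_⟩
  simp only [Subgroup.subtype_apply, Subgroup.coe_mul]
  group

theorem ker_par_le_SO (hQ : (polarBilin Q).Nondegenerate)
    (hex : Fintype.card ι = 4 → ∃ a : F, a ≠ 0 ∧ a ≠ 1) :
    (par Q hQ hex).ker ≤ specialIsometryGroup F ⇑Q := by
  intro g hg
  rw [MonoidHom.mem_ker] at hg
  obtain ⟨vs, hvs⟩ := exists_rep' Q hQ hex g
  rw [par_eq Q hQ hex g vs hvs, neg_one_pow_eq_one_iff] at hg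
  rw [mem_SO_iff, det_of_rep Q hvs]
  exact Even.neg_one_pow hg

theorem index_ker_par (hQ : (polarBilin Q).Nondegenerate)
    (hex : Fintype.card ι = 4 → ∃ a : F, a ≠ 0 ∧ a ≠ 1) [Nonempty ι] :
    (par Q hQ hex).ker.index = 2 := by
  rw [Subgroup.index_ker]
  have hsurj : Function.Surjective (par Q hQ hex) := by
    obtain ⟨p, hp⟩ := Cfsg.Agent.S0789.exists_aniso Q hQ
    intro u
    rcases Int.units_eq_one_or u with rfl | rfl
    · exact ⟨1, map_one _⟩
    · exact ⟨reflection Q p hp, par_reflection Q hQ hex p hp⟩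
  rw [MonoidHom.range_eq_top.mpr hsurj, Nat.card_congr (Subgroup.topEquiv (G := ℤˣ)).toEquiv,
    Nat.card_eq_fintype_card, Fintype.card_units_int]

theorem index_SO_odd (h2 : (2 : F) ≠ 0) (hQ : (polarBilin Q).Nondegenerate)
    (hex : Fintype.card ι = 4 → ∃ a : F, a ≠ 0 ∧ a ≠ 1) [Nonempty ι] :
    (specialIsometryGroup F ⇑Q).index = 2 := by
  have h1 := Subgroup.index_dvd_of_le (ker_par_le_SO Q hQ hex)
  rw [index_ker_par Q hQ hex] at h1
  have h3 : (specialIsometryGroup F ⇑Q).index ≠ 1 := by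
    rw [Ne, Subgroup.index_eq_one]
    intro htop
    obtain ⟨p, hp⟩ := Cfsg.Agent.S0789.exists_aniso Q hQ
    have hmem : reflection Q p hp ∈ specialIsometryGroup F ⇑Q := by rw [htop]; trivial
    rw [mem_SO_iff, reflection_coe, reflection_det Q p hp] at hmem
    apply h2
    linear_combination (-1 : F) * hmem
  rcases (Nat.dvd_prime Nat.prime_two).mp h1 with h | h
  · exact absurd h h3
  · exact h

theorem index_SO_even (h2 : (2 : F) = 0) (hQ : (polarBilin Q).Nondegenerate)
    (hex : Fintype.card ι = 4 → ∃ a : F, a ≠ 0 ∧ a ≠ 1) :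
    (specialIsometryGroup F ⇑Q).index = 1 := by
  rw [Subgroup.index_eq_one, eq_top_iff]
  intro g _
  obtain ⟨vs, hvs⟩ := exists_rep' Q hQ hex g
  rw [mem_SO_iff, det_of_rep Q hvs]
  have : (-1 : F) = 1 := by linear_combination (-1 : F) * h2
  rw [this, one_pow]

theorem index_comm_eq (hQ : (polarBilin Q).Nondegenerate)
    (hex : Fintype.card ι = 4 → ∃ a : F, a ≠ 0 ∧ a ≠ 1) (hn : 2 ≤ Fintype.card ι) :
    (commutator ↥(isometryGroup F ⇑Q)).index = 2 * (specialIsometryGroup F ⇑Q).index := by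
  have : Nonempty ι := by
    rw [← Fintype.card_pos_iff]; omega
  by_cases h2 : (2 : F) = 0
  · rw [index_SO_even Q h2 hQ hex]
    have : CharP F 2 := CharTwo.of_one_ne_zero_of_two_eq_zero one_ne_zero h2
    exact Cfsg.Agent.S0789.index_commutator2 Q (ringChar.eq F 2) hQ hex
  · rw [index_SO_odd Q h2 hQ hex]
    exact index_commutator Q h2 hQ hn

theorem main (hQ : (polarBilin Q).Nondegenerate)
    (hex : Fintype.card ι = 4 → ∃ a : F, a ≠ 0 ∧ a ≠ 1) (hn : 2 ≤ Fintype.card ι) :
    ∃! H : Subgroup ↥(specialIsometryGroup F ⇑Q), H.index = 2 := by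
  have hΩSO : commutator ↥(isometryGroup F ⇑Q) ≤ specialIsometryGroup F ⇑Q :=
    by
    unfold specialIsometryGroup
    exact Abelianization.commutator_subset_ker _
  have hidx := index_comm_eq Q hQ hex hn
  have hSO0 : (specialIsometryGroup F ⇑Q).index ≠ 0 := Subgroup.index_ne_zero_of_finite
  refine ⟨(commutator ↥(isometryGroup F ⇑Q)).subgroupOf (specialIsometryGroup F ⇑Q), ?_, ?_⟩
  · show (commutator ↥(isometryGroup F ⇑Q)).relIndex (specialIsometryGroup F ⇑Q) = 2
    have h1 := Subgroup.relIndex_mul_index hΩSO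
    rw [hidx] at h1
    exact Nat.eq_of_mul_eq_mul_right (Nat.pos_of_ne_zero hSO0) h1
  · intro H hH
    have h1 : commutator ↥(isometryGroup F ⇑Q) ≤ H.map (specialIsometryGroup F ⇑Q).subtype :=
      (commutator_le_normalClosure Q hQ hex).trans (normalClosure_le_map Q H hH)
    have h2 : (H.map (specialIsometryGroup F ⇑Q).subtype).index =
        2 * (specialIsometryGroup F ⇑Q).index := by
      rw [Subgroup.index_map_subtype, hH]
    have h3 : (commutator ↥(isometryGroup F ⇑Q)).relIndex
        (H.map (specialIsometryGroup F ⇑Q).subtype) = 1 := by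
      have h4 := Subgroup.relIndex_mul_index h1
      rw [h2, hidx] at h4
      have h5 : 0 < 2 * (specialIsometryGroup F ⇑Q).index := by positivity
      exact Nat.eq_of_mul_eq_mul_right h5 (by rw [h4, one_mul])
    have h4 : H.map (specialIsometryGroup F ⇑Q).subtype ≤ commutator ↥(isometryGroup F ⇑Q) :=
      Subgroup.relIndex_eq_one.mp h3
    have h5 := le_antisymm h4 h1
    rw [← h5]
    unfold Subgroup.subgroupOf
    exact (Subgroup.comap_map_eq_self_of_injective (Subgroup.subtype_injective _) H).symm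

end

/-- Existence and uniqueness of Ω: if F is finite, n ≥ 2, Q is a quadratic form on F^n with non-degenerate polar form and (|F|, n) ≠ (2, 4), then the group of isometries of determinant one has a unique subgroup of index 2. -/
theorem result {F : Type*} [Field F] [Fintype F] {n : ℕ} (hn : 2 ≤ n) (Q : QuadraticForm F (Fin n → F)) (hQ : (QuadraticMap.polarBilin Q).Nondegenerate) (h : Fintype.card F ≠ 2 ∨ n ≠ 4) : ∃! H : Subgroup ↥(Cfsg.specialIsometryGroup F ⇑Q), H.index = 2 := by
  classical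
  refine main Q hQ ?_ (by simpa using hn)
  intro hn4
  have hn4' : n = 4 := by simpa using hn4
  have hcard : Fintype.card F ≠ 2 := by
    rcases h with h | h
    · exact h
    · exact absurd hn4' h
  by_contra hcon
  push Not at hcon
  have hsub : (Finset.univ : Finset F) ⊆ {0, 1} := by
    intro a _
    by_cases ha : a = 0
    · simp [ha]
    · simp [hcon a ha]
  have h1 := Finset.card_le_card hsub
  have h2 : ({0, 1} : Finset F).card ≤ 2 := Finset.card_le_two
  rw [Finset.card_univ] at h1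
  have h3 : 2 ≤ Fintype.card F := by
    have := Fintype.one_lt_card (α := F)
    omega
  omega

end Cfsg.Agent.S0787
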