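import Mathlib
import Cfsg.Statements.S0228

set_option autoImplicit false
open Cfsg

namespace Cfsg.Agent.S0228

/-- A group of order 12 with no central involution is isomorphic to A4. -/
theorem result {G : Type*} [Group G] [Finite G] (hG : Nat.card G = 12) (hz : ∀ z : G, orderOf z = 2 → z ∉ Subgroup.center G) : Nonempty (G ≃* alternatingGroup (Fin 4)) := by
  classical
  haveI : Fact (Nat.Prime 2) := ⟨Nat.prime_two⟩
  haveI : Fact (Nat.Prime 3) := ⟨Nat.prime_three⟩
  let Q : Sylow 3 G := default
  let P : Sylow 2 G := default
  have hQ : Nat.card (Q : Subgroup G) = 3 := by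
    rw [Sylow.card_eq_multiplicity, hG]
    have : Nat.factorization 12 3 = 1 := by decide +kernel
    rw [this]; norm_num
  have hP : Nat.card (P : Subgroup G) = 4 := by
    rw [Sylow.card_eq_multiplicity, hG]
    have : Nat.factorization 12 2 = 2 := by decide +kernel
    rw [this]; norm_num
  have hQidx : (Q : Subgroup G).index = 4 := by
    have := (Q : Subgroup G).card_mul_index
    rw [hG, hQ] at this; omega
  have hPidx : (P : Subgroup G).index = 3 := by
    have := (P : Subgroup G).card_mul_index
    rw [hG, hP] at this; omega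
  have hcore : (Q : Subgroup G).normalCore = ⊥ := by
    by_contra hne
    have hQn : (Q : Subgroup G).Normal := by
      have hle := Subgroup.normalCore_le (Q : Subgroup G)
      have heq : (Q : Subgroup G).normalCore = Q := by
        have hdvd := Subgroup.card_dvd_of_le hle
        rw [hQ] at hdvd
        rcases (Nat.dvd_prime Nat.prime_three).mp hdvd with h | h
        · exact absurd (Subgroup.card_eq_one.mp h) hne
        · exact Subgroup.eq_of_le_of_card_ge hle (by rw [h, hQ])
      rw [← heq]; infer_instance
    have hK : (P : Subgroup G).normalCore ≠ ⊥ := by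
      intro hK
      rw [Subgroup.normalCore_eq_ker] at hK
      have hinj : Function.Injective (MulAction.toPermHom G (G ⧸ (P : Subgroup G))) :=
        (MonoidHom.ker_eq_bot_iff _).mp hK
      have h1 := Nat.card_le_card_of_injective _ hinj
      rw [Nat.card_perm, hG] at h1
      have h3 : Nat.card (G ⧸ (P : Subgroup G)) = 3 := hPidx
      rw [h3] at h1
      norm_num [Nat.factorial] at h1
    have hKle := Subgroup.normalCore_le (P : Subgroup G)
    have hK2 : 2 ∣ Nat.card (P : Subgroup G).normalCore := by
      rcases (P.2.to_le hKle).card_eq_or_dvd with h | h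
      · exact absurd (Subgroup.card_eq_one.mp h) hK
      · exact h
    obtain ⟨z, hz2⟩ := exists_prime_orderOf_dvd_card' 2 hK2
    have hzG : orderOf (z : G) = 2 := by rw [Subgroup.orderOf_coe]; exact hz2
    apply hz (z : G) hzG
    -- the centralizer of z is everything
    have hPcomm : ∀ a b : (P : Subgroup G), a * b = b * a :=
      IsPGroup.commutative_of_card_eq_prime_sq (p := 2) (by rw [hP]; norm_num)
    have hCP : (P : Subgroup G) ≤ Subgroup.centralizer ({(z : G)} : Set G) := by
      intro p hp
      rw [Subgroup.mem_centralizer_singleton_iff]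
      have := hPcomm ⟨p, hp⟩ ⟨z, hKle z.2⟩
      exact congrArg Subtype.val this
    have hdisj : Disjoint (Q : Subgroup G) (P : Subgroup G).normalCore := by
      rw [disjoint_iff]
      apply Subgroup.inf_eq_bot_of_coprime
      rw [hQ]
      have hdvd := Subgroup.card_dvd_of_le hKle
      rw [hP] at hdvd
      exact Nat.Coprime.coprime_dvd_right hdvd (by norm_num)
    have hCQ : (Q : Subgroup G) ≤ Subgroup.centralizer ({(z : G)} : Set G) := by
      intro q hq
      rw [Subgroup.mem_centralizer_singleton_iff]
      exact (Subgroup.commute_of_normal_of_disjoint _ _ hQn inferInstance hdisj q z hq z.2).eq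
    have h4 : 4 ∣ Nat.card (Subgroup.centralizer ({(z : G)} : Set G)) := by
      rw [← hP]; exact Subgroup.card_dvd_of_le hCP
    have h3 : 3 ∣ Nat.card (Subgroup.centralizer ({(z : G)} : Set G)) := by
      rw [← hQ]; exact Subgroup.card_dvd_of_le hCQ
    have h12 : 12 ∣ Nat.card (Subgroup.centralizer ({(z : G)} : Set G)) :=
      Nat.Coprime.mul_dvd_of_dvd_of_dvd (by norm_num : Nat.Coprime 4 3) h4 h3
    have htop : Subgroup.centralizer ({(z : G)} : Set G) = ⊤ := by
      apply Subgroup.eq_top_of_le_card
      rw [hG]
      exact Nat.le_of_dvd Nat.card_pos h12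
    rw [Subgroup.mem_center_iff]
    intro g
    have hg : g ∈ Subgroup.centralizer ({(z : G)} : Set G) := by rw [htop]; trivial
    exact (Subgroup.mem_centralizer_singleton_iff.mp hg)
  -- now embed into Perm (Fin 4)
  rw [Subgroup.normalCore_eq_ker] at hcore
  have hinj : Function.Injective (MulAction.toPermHom G (G ⧸ (Q : Subgroup G))) :=
    (MonoidHom.ker_eq_bot_iff _).mp hcore
  have h4 : Nat.card (G ⧸ (Q : Subgroup G)) = 4 := hQidx
  haveI : Finite (G ⧸ (Q : Subgroup G)) := Nat.finite_of_card_ne_zero (by rw [h4]; norm_num)
  let e : (G ⧸ (Q : Subgroup G)) ≃ Fin 4 := Finite.equivFinOfCardEq h4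
  let ψ : G →* Equiv.Perm (Fin 4) :=
    (e.permCongrHom.toMonoidHom).comp (MulAction.toPermHom G (G ⧸ (Q : Subgroup G)))
  have hψ : Function.Injective ψ := by
    intro a b hab
    apply hinj
    exact e.permCongrHom.injective hab
  have hrange : Nat.card ψ.range = 12 := by
    rw [← hG]
    exact (Nat.card_congr (MonoidHom.ofInjective hψ).toEquiv).symm
  have hidx : ψ.range.index = 2 := by
    have := ψ.range.card_mul_index
    rw [hrange, Nat.card_perm] at this
    simp [Nat.factorial] at this
    omega
  have halt := Equiv.Perm.eq_alternatingGroup_of_index_eq_two hidx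
  exact ⟨(MonoidHom.ofInjective hψ).trans (MulEquiv.subgroupCongr halt)⟩

end Cfsg.Agent.S0228
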