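import Mathlib
import Cfsg.Statements.S1477
import Cfsg.Agent.Lib.Lead.NilpotentSub
import Cfsg.Agent.Lib.Lead.FittingHall
import Cfsg.Agent.Lib.Helper3.PGroupFix

set_option autoImplicit false
open Cfsg

namespace Cfsg.Agent.S1477

open Pointwise
open Cfsg.Agent.Lib.Lead Cfsg.Agent.Lib.Lead.NilpotentSub Cfsg.Agent.Lib.Helper3

variable {G : Type*} [Group G]

theorem mem_cent_singleton {w m : G} : m ∈ Subgroup.centralizer ({w} : Set G) ↔ w * m = m * w := by
  rw [Subgroup.mem_centralizer_iff]
  simp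

variable [Finite G]

/-- The centraliser of a nonidentity element central in `H` is `H`. -/
theorem cent_eq (hCN : IsCNGroup G) (H : Subgroup G)
    (hmax : ∀ L : Subgroup G, Group.IsNilpotent L → H ≤ L → L = H) {w : G} (hw : w ≠ 1)
    (hc : ∀ h ∈ H, h * w = w * h) : Subgroup.centralizer ({w} : Set G) = H := by
  apply hmax _ (hCN w hw)
  intro h hh
  rw [mem_cent_singleton]
  exact (hc h hh).symm

theorem pow_order_of_mem_sylowOf (M : Subgroup G) (r : ℕ) [Fact r.Prime] {y : G}
    (hy : y ∈ sylowOf M r) : ∃ k, orderOf y = r ^ k := by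
  obtain ⟨k, hk⟩ := sylowOf_isPGroup M r ⟨y, hy⟩
  have hk' : y ^ r ^ k = 1 := congrArg Subtype.val hk
  obtain ⟨i, -, hi⟩ := (Nat.dvd_prime_pow (Fact.out : r.Prime)).mp (orderOf_dvd_of_pow_eq_one hk')
  exact ⟨i, hi⟩

theorem part1 (hCN : IsCNGroup G) (H : Subgroup G) (hH : Group.IsNilpotent H)
    (hmax : ∀ L : Subgroup G, Group.IsNilpotent L → H ≤ L → L = H) :
    (Nat.card H).Coprime H.index := by
  by_contra hnc
  obtain ⟨p, hp, hpH, hpi⟩ := Nat.Prime.not_coprime_iff_dvd.mp hnc
  haveI := Fact.mk hp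
  set a := (Nat.card H).factorization p with ha
  have ha1 : 0 < a := hp.factorization_pos_of_dvd Nat.card_pos.ne' hpH
  set P := sylowOf H p with hP
  have hPcard : Nat.card P = p ^ a := card_sylowOf H p
  have hPH : P ≤ H := sylowOf_le H p
  have hPp : IsPGroup p P := sylowOf_isPGroup H p
  have hdvd : p ^ (a + 1) ∣ Nat.card G := by
    rw [← H.card_mul_index, pow_succ]
    exact Nat.mul_dvd_mul (Nat.ordProj_dvd _ _) hpi
  obtain ⟨T, hTcard, hPT⟩ := Sylow.exists_subgroup_card_pow_succ hdvd hPcard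
  have hTp : IsPGroup p T := IsPGroup.of_card hTcard
  have hP1 : P ≠ ⊥ := by
    intro h
    rw [h, Subgroup.card_bot] at hPcard
    have : 1 < p ^ a := Nat.one_lt_pow ha1.ne' hp.one_lt
    omega
  -- P is normal in T
  have hTN : T ≤ Subgroup.normalizer (P : Set G) := by
    rw [← Subgroup.normal_subgroupOf_iff_le_normalizer hPT]
    apply Subgroup.normal_of_index_eq_minFac_card
    have h1 : (P.subgroupOf T).index = p := by
      have h2 : P.relIndex T * Nat.card P = Nat.card T := by
        rw [← Subgroup.relIndex_bot_left, ← Subgroup.relIndex_bot_left, mul_comm]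
        exact Subgroup.relIndex_mul_relIndex _ _ _ bot_le hPT
      rw [hPcard, hTcard, pow_succ] at h2
      have : P.relIndex T = p := Nat.eq_of_mul_eq_mul_right (pow_pos hp.pos a) (by rw [h2, mul_comm])
      exact this
    rw [h1, hTcard, Nat.Prime.pow_minFac hp (Nat.succ_ne_zero a)]
  have hne := inf_centralizer_ne_bot_of_isPGroup p hPp hTp hTN hP1
  obtain ⟨⟨z, hz⟩, hz1⟩ := (Subgroup.ne_bot_iff_exists_ne_one).mp hne
  have hz1' : z ≠ 1 := fun e => hz1 (Subtype.ext e)
  have hzP : z ∈ P := hz.1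
  have hzT : ∀ t ∈ T, t * z = z * t := fun t ht => Subgroup.mem_centralizer_iff.mp hz.2 t ht
  have hM := hCN z hz1'
  by_cases hr : ∃ r : ℕ, r.Prime ∧ r ≠ p ∧ r ∣ Nat.card H
  · obtain ⟨r, hrp, hrne, hrH⟩ := hr
    haveI := Fact.mk hrp
    obtain ⟨w, hwR, hw1, hwc⟩ := exists_central_of_dvd H hH r hrH
    have hcent := cent_eq hCN H hmax hw1 hwc
    obtain ⟨i, hi⟩ := pow_order_of_mem_sylowOf H r hwR
    have hTH : T ≤ H := by
      intro t ht
      rw [← hcent, mem_cent_singleton]
      have hto : ∃ k, orderOf t = p ^ k := by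
        obtain ⟨k, hk⟩ := hTp ⟨t, ht⟩
        have hk' : t ^ p ^ k = 1 := congrArg Subtype.val hk
        obtain ⟨i', -, hi'⟩ := (Nat.dvd_prime_pow hp).mp (orderOf_dvd_of_pow_eq_one hk')
        exact ⟨i', hi'⟩
      obtain ⟨k, hk⟩ := hto
      apply NilpotentCoprime.commute_of_coprime_of_mem _ hM
      · rw [mem_cent_singleton]
        exact (hwc z (hPH hzP))
      · rw [mem_cent_singleton]
        exact (hzT t ht).symm
      · rw [hi, hk]
        exact Nat.Coprime.pow _ _ ((Nat.coprime_primes hrp hp).mpr hrne)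
    have hTP : T ≤ P := le_sylowOf H hH p hTH hTp
    have := Subgroup.card_le_of_le hTP
    rw [hTcard, hPcard] at this
    have : p ^ a < p ^ (a + 1) := Nat.pow_lt_pow_right hp.one_lt (Nat.lt_succ_self a)
    omega
  · push Not at hr
    have hHcard : Nat.card H = p ^ a := by
      have hL := Nat.eq_prime_pow_of_unique_prime_dvd Nat.card_pos.ne' (fun {d} hd hdd => by
        by_contra hne
        exact hr d hd hne hdd) (p := p) (n := Nat.card H)
      have haL : a = (Nat.card H).primeFactorsList.length := by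
        rw [ha]
        conv_lhs => rw [hL]
        rw [Nat.Prime.factorization_pow hp]
        simp
      rw [haL]; exact hL
    have hPeq : P = H := Subgroup.eq_of_le_of_card_ge hPH (by rw [hPcard, hHcard])
    have hTnil : Group.IsNilpotent T := hTp.isNilpotent
    have hTeq := hmax T hTnil (hPeq ▸ hPT)
    rw [hTeq, hHcard] at hTcard
    have : p ^ a < p ^ (a + 1) := Nat.pow_lt_pow_right hp.one_lt (Nat.lt_succ_self a)
    omega


theorem part3 (hCN : IsCNGroup G) (H : Subgroup G) (hH : Group.IsNilpotent H)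
    (hmax : ∀ L : Subgroup G, Group.IsNilpotent L → H ≤ L → L = H)
    (hTI : ∀ g : G, H.map (MulAut.conj g).toMonoidHom ≠ H →
      H ⊓ H.map (MulAut.conj g).toMonoidHom = ⊥) :
    ∀ x ∈ H, x ≠ 1 → Subgroup.centralizer ({x} : Set G) ≤ H := by
  intro x hxH hx1 k hk
  have hcop := part1 hCN H hH hmax
  have hK := hCN x hx1
  rw [mem_cent_singleton] at hk
  -- k normalises H
  have hkN : k ∈ Subgroup.normalizer (H : Set G) := by
    rw [Subgroup.mem_normalizer_iff_map_conj_eq]
    by_contra hne
    have h1 := hTI k hne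
    have h2 : x ∈ H ⊓ H.map (MulAut.conj k).toMonoidHom := by
      refine ⟨hxH, x, hxH, ?_⟩
      show k * x * k⁻¹ = x
      rw [← hk]; group
    rw [h1, Subgroup.mem_bot] at h2
    exact hx1 h2
  -- a central element of H
  have hH1 : Nat.card H ≠ 1 := by
    intro h
    have := Subgroup.card_eq_one.mp h
    rw [this, Subgroup.mem_bot] at hxH
    exact hx1 hxH
  obtain ⟨r, hr, hrH⟩ := Nat.exists_prime_and_dvd hH1
  haveI := Fact.mk hr
  obtain ⟨z, hzR, hz1, hzc⟩ := exists_central_of_dvd H hH r hrH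
  have hzH : z ∈ H := sylowOf_le H r hzR
  have hcent := cent_eq hCN H hmax hz1 hzc
  have hzK : z ∈ Subgroup.centralizer ({x} : Set G) := by
    rw [mem_cent_singleton]; exact hzc x hxH
  have hzo : orderOf z ∣ Nat.card H := by
    have := orderOf_dvd_natCard (⟨z, hzH⟩ : H)
    rwa [Subgroup.orderOf_mk] at this
  -- primes dividing the order of k divide |H|
  have hprimes : ∀ s : ℕ, s.Prime → s ∣ orderOf k → s ∣ Nat.card H := by
    intro s hs hso
    by_contra hsH
    have hko : orderOf (k ^ (orderOf k / s)) = s := by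
      rw [orderOf_pow_of_dvd _ (Nat.div_dvd_of_dvd hso)]
      · exact Nat.div_div_self hso (orderOf_pos k).ne'
      · intro h0
        have := Nat.div_mul_cancel hso
        rw [h0, zero_mul] at this
        exact (orderOf_pos k).ne' this.symm
    have hksK : k ^ (orderOf k / s) ∈ Subgroup.centralizer ({x} : Set G) := by
      apply Subgroup.pow_mem
      rw [mem_cent_singleton]; exact hk
    have hc : k ^ (orderOf k / s) * z = z * k ^ (orderOf k / s) := by
      apply NilpotentCoprime.commute_of_coprime_of_mem _ hK hksK hzK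
      rw [hko]
      exact Nat.Coprime.coprime_dvd_right hzo ((Nat.Prime.coprime_iff_not_dvd hs).mpr hsH)
    have hmem : k ^ (orderOf k / s) ∈ H := by
      rw [← hcent, mem_cent_singleton]; exact hc.symm
    have := orderOf_dvd_natCard (⟨_, hmem⟩ : H)
    rw [Subgroup.orderOf_mk, hko] at this
    exact hsH this
  -- k ^ e ∈ H with e coprime to the order of k
  set N := Subgroup.normalizer (H : Set G) with hN
  haveI : (H.subgroupOf N).Normal := Subgroup.normal_in_normalizer
  have hpow : k ^ (H.subgroupOf N).index ∈ H := by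
    have := Subgroup.pow_index_mem (H.subgroupOf N) (⟨k, hkN⟩ : N)
    rw [Subgroup.mem_subgroupOf] at this
    simpa using this
  have he : (H.subgroupOf N).index ∣ H.index := Subgroup.relIndex_dvd_index_of_le Subgroup.le_normalizer
  have hco : ((H.subgroupOf N).index).Coprime (orderOf k) := by
    apply Nat.Coprime.symm
    apply Nat.coprime_of_dvd
    intro s hs hso hse
    exact Nat.Prime.not_coprime_iff_dvd.mpr ⟨s, hs, hprimes s hs hso, hse.trans he⟩ hcop
  obtain ⟨m, hm⟩ := exists_pow_eq_self_of_coprime hco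
  rw [← hm]
  exact H.pow_mem hpow m


theorem part2 (hCN : IsCNGroup G) (H : Subgroup G) (hH : Group.IsNilpotent H)
    (hmax : ∀ L : Subgroup G, Group.IsNilpotent L → H ≤ L → L = H)
    (hnpp : ¬ IsPrimePow (Nat.card H)) (hH1 : Nat.card H ≠ 1) :
    ∀ g : G, H.map (MulAut.conj g).toMonoidHom ≠ H →
      H ⊓ H.map (MulAut.conj g).toMonoidHom = ⊥ := by
  intro g hne
  by_contra hI
  apply hne
  have hcop := part1 hCN H hH hmax
  set H' := H.map (MulAut.conj g).toMonoidHom with hH'
  have hcard' : Nat.card H' = Nat.card H :=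
    Subgroup.card_map_of_injective (MulAut.conj g).injective
  have hH'nil : Group.IsNilpotent H' := by
    haveI := hH
    exact Group.nilpotent_of_surjective ((MulAut.conj g).toMonoidHom.subgroupMap H)
      ((MulAut.conj g).toMonoidHom.subgroupMap_surjective H)
  -- an element of prime order in the intersection
  have hIcard : Nat.card ↥(H ⊓ H') ≠ 1 := fun h => hI (Subgroup.card_eq_one.mp h)
  obtain ⟨p, hp, hpI⟩ := Nat.exists_prime_and_dvd hIcard
  haveI := Fact.mk hp
  obtain ⟨⟨x, hxI⟩, hxo⟩ := exists_prime_orderOf_dvd_card' (G := ↥(H ⊓ H')) p hpI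
  have hxo' : orderOf x = p := by rw [← hxo, Subgroup.orderOf_mk]
  have hx1 : x ≠ 1 := by
    intro h
    rw [h, orderOf_one] at hxo'
    exact hp.one_lt.ne hxo'
  have hxH : x ∈ H := hxI.1
  have hxH' : x ∈ H' := hxI.2
  -- another prime
  have hr : ∃ r : ℕ, r.Prime ∧ r ≠ p ∧ r ∣ Nat.card H := by
    by_contra hr
    push Not at hr
    apply hnpp
    have hL := Nat.eq_prime_pow_of_unique_prime_dvd Nat.card_pos.ne' (fun {d} hd hdd => by
        by_contra hne
        exact hr d hd hne hdd) (p := p) (n := Nat.card H)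
    rw [hL]
    refine ⟨p, _, hp.prime, ?_, rfl⟩
    by_contra h0
    have h0' : (Nat.card H).primeFactorsList.length = 0 := by omega
    rw [h0', pow_zero] at hL
    exact hH1 hL
  obtain ⟨r, hrp, hrne, hrH⟩ := hr
  haveI := Fact.mk hrp
  have hM := hCN x hx1
  set M := Subgroup.centralizer ({x} : Set G) with hMdef
  set R := sylowOf H r with hR
  set R' := sylowOf H' r with hR'
  have hcoprp : ∀ i, (r ^ i).Coprime p := fun i =>
    Nat.Coprime.pow_left i ((Nat.coprime_primes hrp hp).mpr hrne)
  have hRM : R ≤ M := by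
    intro y hy
    obtain ⟨i, hi⟩ := pow_order_of_mem_sylowOf H r hy
    rw [hMdef, mem_cent_singleton]
    apply (NilpotentCoprime.commute_of_coprime_of_mem H hH (sylowOf_le H r hy) hxH _).symm
    rw [hi, hxo']; exact hcoprp i
  have hR'M : R' ≤ M := by
    intro y hy
    obtain ⟨i, hi⟩ := pow_order_of_mem_sylowOf H' r hy
    rw [hMdef, mem_cent_singleton]
    apply (NilpotentCoprime.commute_of_coprime_of_mem H' hH'nil (sylowOf_le H' r hy) hxH' _).symm
    rw [hi, hxo']; exact hcoprp i
  set S := sylowOf M r with hS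
  have hRS : R ≤ S := le_sylowOf M hM r hRM (sylowOf_isPGroup H r)
  have hR'S : R' ≤ S := le_sylowOf M hM r hR'M (sylowOf_isPGroup H' r)
  have hfacH : (Nat.card G).factorization r = (Nat.card H).factorization r := by
    rw [← H.card_mul_index, Nat.factorization_mul Nat.card_pos.ne' (Subgroup.index_ne_zero_of_finite)]
    have : (H.index).factorization r = 0 := by
      apply Nat.factorization_eq_zero_of_not_dvd
      intro h
      exact Nat.Prime.not_coprime_iff_dvd.mpr ⟨r, hrp, hrH, h⟩ hcop
    simp [this]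
  have hScard : Nat.card S ≤ Nat.card R := by
    rw [hS, hR, card_sylowOf, card_sylowOf, ← hfacH]
    apply Nat.pow_le_pow_right hrp.pos
    exact (Nat.factorization_le_iff_dvd Nat.card_pos.ne' Nat.card_pos.ne').mpr
      (Subgroup.card_subgroup_dvd_card M) r
  have hRS' : R = S := Subgroup.eq_of_le_of_card_ge hRS hScard
  have hR'S' : R' = S := by
    apply Subgroup.eq_of_le_of_card_ge hR'S
    have e1 : Nat.card R' = Nat.card R := by
      rw [hR', hR, card_sylowOf, card_sylowOf, hcard']
    rw [e1]; exact hScard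
  have hRR' : R' = R := hR'S'.trans hRS'.symm
  obtain ⟨v, hvR, hv1, hvc⟩ := exists_central_of_dvd H hH r hrH
  have hcent := cent_eq hCN H hmax hv1 hvc
  obtain ⟨iv, hiv⟩ := pow_order_of_mem_sylowOf H r hvR
  have hvR' : v ∈ R' := by rw [hRR']; exact hvR
  have hvH' : v ∈ H' := sylowOf_le H' r hvR'
  have hle : H' ≤ H := by
    intro h' hh'
    rw [← hcent, mem_cent_singleton]
    obtain ⟨s, t, hs, ht, hst, ⟨k, hsk⟩, hto⟩ := exists_decomp r h' (orderOf_pos h')
    have hsH' : s ∈ H' := (Subgroup.zpowers_le.mpr hh') hs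
    have htH' : t ∈ H' := (Subgroup.zpowers_le.mpr hh') ht
    have hsR : s ∈ R := by rw [← hRR']; exact mem_sylowOf H' hH'nil r hsH' hsk
    have h1 : v * s = s * v := (hvc s (sylowOf_le H r hsR)).symm
    have h2 : v * t = t * v := by
      apply NilpotentCoprime.commute_of_coprime_of_mem H' hH'nil hvH' htH'
      rw [hiv]; exact (Nat.Coprime.pow_right iv hto).symm
    rw [hst, ← mul_assoc, h1, mul_assoc, h2, mul_assoc]
  exact Subgroup.eq_of_le_of_card_ge hle (by rw [hcard'])

theorem result {G : Type*} [Group G] [Finite G] (hCN : Cfsg.IsCNGroup G) (H : Subgroup G) (hH : Group.IsNilpotent H)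
    (hmax : ∀ L : Subgroup G, Group.IsNilpotent L → H ≤ L → L = H) :
    (Nat.card H).Coprime H.index ∧
      (¬ IsPrimePow (Nat.card H) → Nat.card H ≠ 1 → ∀ g : G, H.map (MulAut.conj g).toMonoidHom ≠ H → H ⊓ H.map (MulAut.conj g).toMonoidHom = ⊥) ∧
      ((∀ g : G, H.map (MulAut.conj g).toMonoidHom ≠ H → H ⊓ H.map (MulAut.conj g).toMonoidHom = ⊥) → ∀ x ∈ H, x ≠ 1 → Subgroup.centralizer ({x} : Set G) ≤ H) := by
  exact ⟨part1 hCN H hH hmax, part2 hCN H hH hmax, part3 hCN H hH hmax⟩

end Cfsg.Agent.S1477
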