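import Mathlib
import Cfsg.Statements.S1473
import Cfsg.Agent.Lib.Lead.FittingHall
import Cfsg.Agent.Lib.Helper1.Coprime
import Cfsg.Agent.Lib.Helper1.HallComplement
import Cfsg.Agent.Lib.Helper1.Hall
import Cfsg.Agent.Lib.Helper1.SubnormalPCore
import Cfsg.Agent.Lib.Helper3.SZRel
import Cfsg.Agent.Lib.Helper3.PGroupFix
import Cfsg.Agent.Lib.Helper3.SolvableMin
import Cfsg.Agent.Lib.Lead.NilpotentCoprime

set_option autoImplicit false
open Cfsg

namespace Cfsg.Agent.S1473

open Pointwise
open Cfsg.Agent.Lib.Lead Cfsg.Agent.Lib.Helper1 Cfsg.Agent.Lib.Helper3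

/-- The CN property transfers along isomorphisms. -/
theorem isCNGroup_of_mulEquiv {G G' : Type*} [Group G] [Group G'] (e : G ≃* G')
    (h : IsCNGroup G) : IsCNGroup G' := by
  intro g' hg'
  have hne : e.symm g' ≠ 1 := by
    intro h1
    apply hg'
    have := congrArg e h1
    simpa using this
  haveI := h (e.symm g') hne
  have hmap : (Subgroup.centralizer ({e.symm g'} : Set G)).map e.toMonoidHom =
      Subgroup.centralizer ({g'} : Set G') := by
    ext y
    simp only [Subgroup.mem_map, Subgroup.mem_centralizer_iff, Set.mem_singleton_iff, forall_eq,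
      MulEquiv.coe_toMonoidHom]
    constructor
    · rintro ⟨x, hx, rfl⟩
      have := congrArg e hx
      simpa using this
    · intro hy
      refine ⟨e.symm y, ?_, by simp⟩
      apply e.injective
      simpa using hy
  rw [← hmap]
  exact Group.nilpotent_of_surjective (e.toMonoidHom.subgroupMap _) (e.toMonoidHom.subgroupMap_surjective _)


theorem caseA {G : Type*} [Group G] [Finite G] (hCN : IsCNGroup G) (H : Subgroup G) [H.Normal]
    (q : ℕ) [Fact q.Prime] (hHq : IsPGroup q H) (x : G) (hxo : (orderOf x).Coprime q)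
    (hxH : x ∉ H) :
    Group.IsNilpotent (Subgroup.centralizer ({QuotientGroup.mk' H x} : Set (G ⧸ H))) := by
  set π := QuotientGroup.mk' H with hπ
  have hx1 : x ≠ 1 := fun h => hxH (h ▸ H.one_mem)
  haveI := hCN x hx1
  set X := Subgroup.zpowers x with hX
  have hXcard : Nat.card X = orderOf x := Nat.card_zpowers x
  obtain ⟨a, ha⟩ := IsPGroup.iff_card.mp hHq
  have hcop : (Nat.card H).Coprime (Nat.card X) := by
    rw [ha, hXcard]; exact (Nat.Coprime.pow_right a hxo).symm
  have hXH : X ⊓ H = ⊥ := (Subgroup.disjoint_of_coprime_natCard hcop.symm).eq_bot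
  have hmap : Subgroup.centralizer ({π x} : Set (G ⧸ H)) =
      (Subgroup.centralizer ({x} : Set G)).map π := by
    apply le_antisymm
    · intro cb hcb
      obtain ⟨c, rfl⟩ := QuotientGroup.mk'_surjective H cb
      rw [Subgroup.mem_centralizer_iff] at hcb
      have hcomm : c * x * c⁻¹ * x⁻¹ ∈ H := by
        rw [← QuotientGroup.eq_one_iff]
        have h1 : π x * π c = π c * π x := hcb (π x) rfl
        have : ((c * x * c⁻¹ * x⁻¹ : G) : G ⧸ H) = π c * π x * (π c)⁻¹ * (π x)⁻¹ := by
          simp [hπ]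
        rw [this, ← h1]; group
      -- the conjugate of X by c
      have hK : MulAut.conj c • X ≤ X ⊔ H := by
        rintro _ ⟨y, hy, rfl⟩
        obtain ⟨k, rfl⟩ := Subgroup.mem_zpowers_iff.mp hy
        have hgen : c * x * c⁻¹ ∈ X ⊔ H := by
          have e : c * x * c⁻¹ = (c * x * c⁻¹ * x⁻¹) * x := by group
          rw [e, sup_comm]
          exact Subgroup.mul_mem_sup hcomm (Subgroup.mem_zpowers x)
        have e : (MulAut.conj c).toMonoidHom (x ^ k) = (c * x * c⁻¹) ^ k := by
          simp [MulAut.conj_apply]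
        show (MulAut.conj c).toMonoidHom (x ^ k) ∈ X ⊔ H
        rw [e]
        exact Subgroup.zpow_mem _ hgen k
      haveI : Group.IsSolvable X := by
        haveI : IsCyclic X := by rw [hX]; infer_instance
        letI := IsCyclic.commGroup (α := X)
        infer_instance
      obtain ⟨n, hn, hconj⟩ := sz_conj_rel H X (MulAut.conj c • X) hcop hK (card_conj_smul c X)
        (Or.inr inferInstance)
      -- m = n⁻¹ c normalises X
      set m := n⁻¹ * c with hm
      have hmx : m * x * m⁻¹ ∈ X := by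
        have h1 : c * x * c⁻¹ ∈ MulAut.conj n • X := by
          rw [hconj]; exact ⟨x, Subgroup.mem_zpowers x, rfl⟩
        obtain ⟨y, hy, hyx⟩ := h1
        have hyx' : n * y * n⁻¹ = c * x * c⁻¹ := by simpa [MulAut.conj_apply] using hyx
        have e : m * x * m⁻¹ = y := by
          rw [hm]
          have : n⁻¹ * c * x * (n⁻¹ * c)⁻¹ = n⁻¹ * (c * x * c⁻¹) * n := by group
          rw [this, ← hyx']; group
        rw [e]; exact hy
      have hmH : m * x * m⁻¹ * x⁻¹ ∈ H := by
        have e : m * x * m⁻¹ * x⁻¹ = n⁻¹ * ((c * x * c⁻¹ * x⁻¹) * (x * n * x⁻¹)) := by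
          rw [hm]; group
        rw [e]
        exact H.mul_mem (H.inv_mem hn) (H.mul_mem hcomm (Subgroup.Normal.conj_mem inferInstance n hn x))
      have hmc : m * x * m⁻¹ * x⁻¹ = 1 := by
        have : m * x * m⁻¹ * x⁻¹ ∈ X ⊓ H :=
          ⟨X.mul_mem hmx (X.inv_mem (Subgroup.mem_zpowers x)), hmH⟩
        rwa [hXH, Subgroup.mem_bot] at this
      refine ⟨m, ?_, ?_⟩
      · rw [SetLike.mem_coe, Subgroup.mem_centralizer_iff]
        intro y hy
        rw [Set.mem_singleton_iff] at hy
        subst hy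
        have : m * y = (m * y * m⁻¹ * y⁻¹) * (y * m) := by group
        rw [this, hmc, one_mul]
      · rw [hm, map_mul, map_inv]
        have : π n = 1 := (QuotientGroup.eq_one_iff n).mpr hn
        rw [this, inv_one, one_mul]
    · rintro _ ⟨c, hc, rfl⟩
      rw [SetLike.mem_coe, Subgroup.mem_centralizer_iff] at hc
      rw [Subgroup.mem_centralizer_iff]
      intro y hy
      rw [Set.mem_singleton_iff] at hy
      subst hy
      rw [← map_mul, ← map_mul, hc x rfl]
  rw [hmap]
  exact Group.nilpotent_of_surjective (π.subgroupMap _) (π.subgroupMap_surjective _)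


theorem caseB {G : Type*} [Group G] [Finite G] (hCN : IsCNGroup G) (H : Subgroup G) [hHn : H.Normal]
    (q : ℕ) [Fact q.Prime] (hHq : IsPGroup q H) (hH1 : H ≠ ⊥) (y : G) (hyH : y ∉ H) (j : ℕ)
    (hy : y ^ q ^ j ∈ H) :
    Group.IsNilpotent (Subgroup.centralizer ({QuotientGroup.mk' H y} : Set (G ⧸ H))) := by
  set π := QuotientGroup.mk' H with hπ
  have hsurj : Function.Surjective π := QuotientGroup.mk'_surjective H
  set C : Subgroup G := (Subgroup.centralizer ({π y} : Set (G ⧸ H))).comap π with hC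
  obtain ⟨a, ha⟩ := IsPGroup.iff_card.mp hHq
  -- elements of C commute with y modulo H
  have hCy : ∀ c ∈ C, c * y * c⁻¹ * y⁻¹ ∈ H := by
    intro c hc
    rw [hC, Subgroup.mem_comap, Subgroup.mem_centralizer_iff] at hc
    have h1 : π y * π c = π c * π y := hc (π y) rfl
    rw [← QuotientGroup.eq_one_iff]
    have : ((c * y * c⁻¹ * y⁻¹ : G) : G ⧸ H) = π c * π y * (π c)⁻¹ * (π y)⁻¹ := by
      simp [hπ]
    rw [this, ← h1]; group
  have hHC : H ≤ C := by
    intro h hh
    rw [hC, Subgroup.mem_comap]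
    have : π h = 1 := (QuotientGroup.eq_one_iff h).mpr hh
    rw [this]; exact Subgroup.one_mem _
  -- D = H⟨y⟩ is a q-group
  set D : Subgroup G := H ⊔ Subgroup.zpowers y with hD
  have hypow : y ^ q ^ (j + a) = 1 := by
    rw [pow_add, pow_mul]
    have := pow_card_eq_one' (G := H) (x := ⟨y ^ q ^ j, hy⟩)
    rw [ha] at this
    exact congrArg Subtype.val this
  have hYq : IsPGroup q (Subgroup.zpowers y) := by
    apply IsPGroup.of_card (n := (orderOf y).factorization q)
    rw [Nat.card_zpowers]
    obtain ⟨i, -, hi⟩ := (Nat.dvd_prime_pow (Fact.out : q.Prime)).mp (orderOf_dvd_of_pow_eq_one hypow)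
    rw [hi, Nat.Prime.factorization_pow (Fact.out : q.Prime)]
    simp
  have hDq : IsPGroup q D := IsPGroup.to_sup_of_normal_left hHq hYq
  have hyD : y ∈ D := (le_sup_right : Subgroup.zpowers y ≤ D) (Subgroup.mem_zpowers y)
  have hHD : H ≤ D := le_sup_left
  have hDN : D ≤ Subgroup.normalizer (H : Set G) := by
    rw [Subgroup.normalizer_eq_top_iff.mpr hHn]; exact le_top
  -- C normalises D
  have hCD : C ≤ Subgroup.normalizer (D : Set G) := by
    intro c hc
    apply mem_normalizer_of_forall_conj_mem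
    have hle : D ≤ D.comap (MulAut.conj c).toMonoidHom := by
      rw [hD]
      apply sup_le
      · intro h hh
        exact hHD (hHn.conj_mem h hh c)
      · rw [Subgroup.zpowers_le, Subgroup.mem_comap]
        show c * y * c⁻¹ ∈ H ⊔ Subgroup.zpowers y
        have e : c * y * c⁻¹ = (c * y * c⁻¹ * y⁻¹) * y := by group
        rw [e]
        exact Subgroup.mul_mem_sup (hCy c hc) (Subgroup.mem_zpowers y)
    intro x hx
    exact hle hx
  -- a nontrivial element of H centralised by D
  have hne := inf_centralizer_ne_bot_of_isPGroup q hHq hDq hDN hH1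
  obtain ⟨⟨h, hh⟩, hh1⟩ := (Subgroup.ne_bot_iff_exists_ne_one).mp hne
  have hh1' : h ≠ 1 := fun e => hh1 (Subtype.ext e)
  have hhH : h ∈ H := hh.1
  have hhD : ∀ d ∈ D, d * h = h * d := fun d hd => Subgroup.mem_centralizer_iff.mp hh.2 d hd
  haveI hMh := hCN h hh1'
  -- q'-elements of C centralise H
  have hq' : ∀ k ∈ C, (orderOf k).Coprime q → ∀ h' ∈ H, k * h' = h' * k := by
    intro k hk hko
    set Q := Subgroup.zpowers k with hQ
    have hQC : Q ≤ C := by rw [hQ, Subgroup.zpowers_le]; exact hk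
    have hQcard : Nat.card Q = orderOf k := Nat.card_zpowers k
    obtain ⟨d, hd⟩ := IsPGroup.iff_card.mp hDq
    have hcop : (Nat.card Q).Coprime (Nat.card D) := by
      rw [hQcard, hd]; exact Nat.Coprime.pow_right d hko
    haveI : Group.IsSolvable Q := by
      haveI : IsCyclic Q := by rw [hQ]; infer_instance
      letI := IsCyclic.commGroup (α := Q)
      infer_instance
    obtain ⟨x₁, hx₁, hx₁H⟩ := coprime_fixed_points_quotient Q D (hQC.trans hCD) hcop
      (Or.inl inferInstance) H hHD hDN
      (by rw [Subgroup.normalizer_eq_top_iff.mpr hHn]; exact le_top) y hyD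
      (fun c hc => hCy c (hQC hc))
    have hx₁D : x₁ ∈ D := hx₁.1
    have hx₁Q : ∀ t ∈ Q, t * x₁ = x₁ * t := fun t ht => Subgroup.mem_centralizer_iff.mp hx₁.2 t ht
    have hx₁nH : x₁ ∉ H := by
      intro hx
      apply hyH
      have : y = x₁ * (y⁻¹ * x₁)⁻¹ := by group
      rw [this]
      exact H.mul_mem hx (H.inv_mem hx₁H)
    have hx₁1 : x₁ ≠ 1 := fun e => hx₁nH (e ▸ H.one_mem)
    have hM₁ := hCN x₁ hx₁1
    have qpow_order : ∀ h' ∈ H, ∃ i, orderOf h' = q ^ i := by
      intro h' hh'
      obtain ⟨i, hi⟩ := hHq ⟨h', hh'⟩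
      have hi' : h' ^ q ^ i = 1 := congrArg Subtype.val hi
      obtain ⟨i', -, hi''⟩ := (Nat.dvd_prime_pow (Fact.out : q.Prime)).mp
        (orderOf_dvd_of_pow_eq_one hi')
      exact ⟨i', hi''⟩
    have hcoph : ∀ h' ∈ H, (orderOf k).Coprime (orderOf h') := by
      intro h' hh'
      obtain ⟨i, hi⟩ := qpow_order h' hh'
      rw [hi]; exact Nat.Coprime.pow_right i hko
    have hkh : k * h = h * k := by
      apply NilpotentCoprime.commute_of_coprime_of_mem _ hM₁ _ _ (hcoph h hhH)
      · rw [Subgroup.mem_centralizer_iff]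
        intro t ht
        rw [Set.mem_singleton_iff] at ht
        subst ht
        exact (hx₁Q k (Subgroup.mem_zpowers k)).symm
      · rw [Subgroup.mem_centralizer_iff]
        intro t ht
        rw [Set.mem_singleton_iff] at ht
        subst ht
        exact hhD t hx₁D
    intro h' hh'
    apply NilpotentCoprime.commute_of_coprime_of_mem _ hMh _ _ (hcoph h' hh')
    · rw [Subgroup.mem_centralizer_iff]
      intro t ht
      rw [Set.mem_singleton_iff] at ht
      subst ht
      exact hkh.symm
    · rw [Subgroup.mem_centralizer_iff]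
      intro t ht
      rw [Set.mem_singleton_iff] at ht
      subst ht
      exact (hhD h' (hHD hh')).symm
  -- the image of C in Aut(H) is a q-group
  let φ : C →* MulAut H := (MulAut.conjNormal (H := H)).comp C.subtype
  have hφ : ∀ (c : C) (h' : H), ((φ c h' : H) : G) = (c : G) * h' * (c : G)⁻¹ := by
    intro c h'
    simp [φ, MulAut.conjNormal_apply]
  set A : Subgroup (MulAut H) := φ.range with hA
  have hAq : IsPGroup q A := by
    rintro ⟨_, ⟨c, rfl⟩⟩
    obtain ⟨i, m, hm, ho⟩ := Nat.exists_eq_pow_mul_and_not_dvd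
      (orderOf_pos (c : G)).ne' q (Fact.out : q.Prime).ne_one
    refine ⟨i, ?_⟩
    apply Subtype.ext
    show (φ c) ^ q ^ i = 1
    rw [← map_pow]
    ext h'
    rw [hφ, MulAut.one_apply]
    have hord : orderOf ((c : G) ^ q ^ i) = m := by
      rw [orderOf_pow_of_dvd (pow_pos (Fact.out : q.Prime).pos i).ne' (Dvd.intro _ ho.symm), ho,
        Nat.mul_div_cancel_left _ (pow_pos (Fact.out : q.Prime).pos i)]
    have hcop : (orderOf ((c : G) ^ q ^ i)).Coprime q := by
      rw [hord]
      exact ((Nat.Prime.coprime_iff_not_dvd Fact.out).mpr hm).symm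
    have := hq' _ (C.pow_mem c.2 _) hcop h' h'.2
    rw [Subgroup.coe_pow, this, mul_inv_cancel_right]
  have hqH : q ∣ Nat.card H := by
    rw [ha]
    have : a ≠ 0 := by
      rintro rfl
      rw [pow_zero] at ha
      exact hH1 (Subgroup.card_eq_one.mp ha)
    exact dvd_pow_self q this
  have h1fix : (1 : H) ∈ MulAction.fixedPoints A H := by
    intro g
    show (g : MulAut H) (1 : H) = 1
    exact map_one _
  obtain ⟨z, hzfix, hz1⟩ := hAq.exists_fixed_point_of_prime_dvd_card_of_fixed_point H hqH h1fix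
  have hz1' : (z : G) ≠ 1 := fun e => hz1 (Subtype.ext e.symm)
  have hCz : C ≤ Subgroup.centralizer ({(z : G)} : Set G) := by
    intro c hc
    rw [Subgroup.mem_centralizer_iff]
    intro t ht
    rw [Set.mem_singleton_iff] at ht
    subst ht
    have h1 : (⟨φ ⟨c, hc⟩, ⟨⟨c, hc⟩, rfl⟩⟩ : A) • z = z := hzfix _
    have h2 : ((φ ⟨c, hc⟩ z : H) : G) = z := congrArg Subtype.val h1
    rw [hφ] at h2
    calc (z : G) * c = (c * z * c⁻¹) * c := by rw [h2]
      _ = c * z := by group
  have hCnil : Group.IsNilpotent C := FittingHall.isNilpotent_of_le hCz (hCN _ hz1')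
  have hmap : C.map π = Subgroup.centralizer ({π y} : Set (G ⧸ H)) :=
    Subgroup.map_comap_eq_self_of_surjective hsurj _
  rw [← hmap]
  haveI := hCnil
  exact Group.nilpotent_of_surjective (π.subgroupMap C) (π.subgroupMap_surjective C)


theorem qcase {G : Type*} [Group G] [Finite G] (hCN : IsCNGroup G) (H : Subgroup G) [hHn : H.Normal]
    (q : ℕ) [Fact q.Prime] (hHq : IsPGroup q H) (hH1 : H ≠ ⊥) : IsCNGroup (G ⧸ H) := by
  intro gb hgb
  obtain ⟨g, rfl⟩ := QuotientGroup.mk'_surjective H gb
  have hgH : g ∉ H := fun h => hgb ((QuotientGroup.eq_one_iff g).mpr h)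
  obtain ⟨j, m, hm, ho⟩ := Nat.exists_eq_pow_mul_and_not_dvd
    (orderOf_pos g).ne' q (Fact.out : q.Prime).ne_one
  by_cases hx : g ^ q ^ j ∈ H
  · exact caseB hCN H q hHq hH1 g hgH j hx
  · have hord : orderOf (g ^ q ^ j) = m := by
      rw [orderOf_pow_of_dvd (pow_pos (Fact.out : q.Prime).pos j).ne' (Dvd.intro _ ho.symm), ho,
        Nat.mul_div_cancel_left _ (pow_pos (Fact.out : q.Prime).pos j)]
    have hcop : (orderOf (g ^ q ^ j)).Coprime q := by
      rw [hord]
      exact ((Nat.Prime.coprime_iff_not_dvd Fact.out).mpr hm).symm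
    have hA := caseA hCN H q hHq (g ^ q ^ j) hcop hx
    refine FittingHall.isNilpotent_of_le ?_ hA
    intro c hc
    rw [Subgroup.mem_centralizer_iff] at hc ⊢
    intro t ht
    rw [Set.mem_singleton_iff] at ht
    subst ht
    have h1 := hc _ rfl
    rw [map_pow]
    exact (Commute.pow_left h1 _)

universe u

theorem main_aux (n : ℕ) : ∀ (G : Type u) [Group G] [Finite G], IsCNGroup G →
    ∀ (H : Subgroup G) [H.Normal], Group.IsSolvable H → Nat.card H = n → IsCNGroup (G ⧸ H) := by
  induction n using Nat.strong_induction_on with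
  | _ n ih =>
  intro G _ _ hCN H hHn hHs hcard
  by_cases hH1 : H = ⊥
  · subst hH1
    exact isCNGroup_of_mulEquiv (QuotientGroup.quotientBot (G := G)).symm hCN
  · haveI : Nontrivial H := (Subgroup.nontrivial_iff_ne_bot H).mpr hH1
    obtain ⟨q, A, hq, hAn, hA1, hAq, -⟩ := exists_normal_abelian_pgroup H hHs
    haveI := Fact.mk hq
    -- O_q(H) as a subgroup of G
    have hcore1 : pCore q H ≠ ⊥ := by
      intro h
      apply hA1
      rw [eq_bot_iff, ← h]
      exact le_pCore hAn hAq
    set H₀ : Subgroup G := (pCore q H).map H.subtype with hH₀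
    haveI hH₀n : H₀.Normal := ConjAct.normal_of_characteristic_of_normal
    have hH₀q : IsPGroup q H₀ := (pCore_isPGroup (G := H) q).map _
    have hH₀1 : H₀ ≠ ⊥ := by
      intro h
      rw [hH₀, Subgroup.map_eq_bot_iff_of_injective _ H.subtype_injective] at h
      exact hcore1 h
    have hH₀H : H₀ ≤ H := Subgroup.map_subtype_le _
    have hCN' := qcase hCN H₀ q hH₀q hH₀1
    set π := QuotientGroup.mk' H₀ with hπ
    set Hb : Subgroup (G ⧸ H₀) := H.map π with hHb
    haveI : Hb.Normal := hHn.map π (QuotientGroup.mk'_surjective H₀)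
    haveI := hHs
    have hHbs : Group.IsSolvable Hb :=
      Group.isSolvable_of_surjective (π.subgroupMap_surjective H)
    have hcardb : Nat.card Hb < n := by
      have h1 : Nat.card (Hb.comap π) = Nat.card H₀ * Nat.card Hb := card_comap_mk' H₀ Hb
      have h2 : Hb.comap π = H := by
        rw [hHb, Subgroup.comap_map_eq, hπ, QuotientGroup.ker_mk', sup_of_le_left hH₀H]
      rw [h2, hcard] at h1
      have h3 : 1 < Nat.card H₀ := by
        rw [Subgroup.one_lt_card_iff_ne_bot]; exact hH₀1
      have h4 : 0 < Nat.card Hb := Nat.card_pos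
      rw [h1]
      nlinarith
    have hfin := ih _ hcardb (G ⧸ H₀) hCN' Hb hHbs rfl
    exact isCNGroup_of_mulEquiv (QuotientGroup.quotientQuotientEquivQuotient H₀ H hH₀H) hfin


theorem result {G : Type*} [Group G] [Finite G] (hCN : Cfsg.IsCNGroup G) (H : Subgroup G) [H.Normal] (hH : Group.IsSolvable H) :
    Cfsg.IsCNGroup (G ⧸ H) := by
  exact main_aux _ G hCN H hH rfl

end Cfsg.Agent.S1473
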