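import Cfsg.Statements.S0319
import Cfsg.Agent.Lib.Helper4.BNPair2

set_option autoImplicit false
open Cfsg

namespace Cfsg.Agent.S0319

open Cfsg.Agent.Lib.Helper4.BNPair Cfsg.Agent.Lib.Helper4.BNAbstract

variable {G : Type*} [Group G] {P : Cfsg.BNPair G}

lemma len_pair {x x' : W P} (hx : x ∈ SW P) (hx' : x' ∈ SW P) (hne : x ≠ x') :
    len (SW P) (x * x') = 2 := by
  have h1 : len (SW P) x' = 1 := len_of_mem genInv hx' (SW_ne_one hx')
  rcases exchange.len_cases genInv hx x' with h | h
  · rw [h, h1]
  · exfalso
    have h0 : len (SW P) (x * x') = 0 := by omega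
    rw [len_eq_zero genInv] at h0
    apply hne
    have : x = x'⁻¹ := eq_inv_of_mul_eq_one_left h0
    rw [this, inv_eq_self genInv.sq hx']

lemma isRed_pair {x x' : W P} (hx : x ∈ SW P) (hx' : x' ∈ SW P) (hne : x ≠ x') :
    IsRed (SW P) [x, x'] := by
  apply isRed_of_length_le genInv
  · intro y hy
    simp only [List.mem_cons, List.not_mem_nil, or_false] at hy
    rcases hy with rfl | rfl
    · exact hx
    · exact hx'
  · have : [x, x'].prod = x * x' := by simp
    rw [this, len_pair hx hx' hne]
    simp

lemma comm_of_normal {H : Subgroup G} [hH : H.Normal] {J : Set G} (hJ : J ⊆ P.S)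
    (hM : P.B ⊔ H = P.parabolic J) {s s' : G} (hs : s ∈ J) (hs' : s' ∈ P.S) (hs'J : s' ∉ J) :
    s * s' * s⁻¹ * s'⁻¹ ∈ P.B := by
  have hsS : s ∈ P.S := hJ hs
  set x := π P s with hxdef
  set x' := π P s' with hx'def
  have hx : x ∈ SW P := π_mem_SW hsS
  have hx' : x' ∈ SW P := π_mem_SW hs'
  have hne : x ≠ x' := by
    intro h
    apply hs'J
    rw [← π_S_inj hsS hs' h]; exact hs
  have hne' : x' ≠ x := fun h => hne h.symm
  have hxx : x * x = 1 := genInv.sq x hx
  have hx'x' : x' * x' = 1 := genInv.sq x' hx'
  -- s' is not a letter of any J-word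
  have key : ∀ l : List (W P), IsWord (π P '' J) l → x' ∉ l := by
    intro l hl hmem
    obtain ⟨j, hj, hjx⟩ := hl x' hmem
    apply hs'J
    rw [← π_S_inj (hJ hj) hs' hjx]; exact hj
  -- an element of `H ∩ C(x)`
  have hsM : s ∈ P.B ⊔ H := by
    rw [hM]; exact closure_le_parabolic J (Subgroup.subset_closure hs)
  obtain ⟨b, hb, h, hh, hbh⟩ := Subgroup.mem_sup_of_normal_right.1 hsM
  have hhC : h ∈ Cw P x := by
    have : h = b⁻¹ * s := by rw [← hbh]; group
    rw [this]
    exact Cw_closed_left (inv_mem hb) (mem_Cw_π (S_mem_N hsS))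
  have hyH : s' * h * s'⁻¹ ∈ H := hH.conj_mem h hh s'
  have hyJ : s' * h * s'⁻¹ ∈ P.parabolic J := by
    rw [← hM]; exact (le_sup_right : H ≤ P.B ⊔ H) hyH
  rw [mem_parabolic_iff hJ] at hyJ
  obtain ⟨m, hm, hym⟩ := hyJ
  have hmN := closure_le_N hJ hm
  have hym' : s' * h * s'⁻¹ ∈ Cw P (π P m) := by rw [Cw_π hmN]; exact hym
  have hvJ : π P m ∈ Subgroup.closure (π P '' J) := π_mem_closure_image hJ hm
  obtain ⟨l, hlJ, hlred, hlp⟩ := exists_red_word_in genInv exchange (image_subset_SW hJ) hvJ
  -- s' h ∈ C(x' x)
  have hlen1 : len (SW P) x = 1 := len_of_mem genInv hx (SW_ne_one hx)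
  have hxPs : x ∈ Ps P x' := by
    rw [mem_Ps_iff hx', len_pair hx' hx hne', hlen1]
    norm_num
  have h1 : s' * h ∈ Cw P (x' * x) := hxPs s' (mem_Cw_π (S_mem_N hs')) h hhC
  have h2 : s'⁻¹ ∈ Cw P x' := by
    have := Cw_inv (mem_Cw_π (S_mem_N hs'))
    rwa [inv_eq_self genInv.sq hx'] at this
  have hcomm : x' * x = x * x' := by
    rcases T3wr hx' h1 h2 with h3 | h3
    · -- y ∈ C(x' x x')
      have hv : π P m = x' * x * x' := Cw_inj hym' h3
      rcases exchange.len_cases genInv hx' (x * x') with h4 | h4
      · -- [x', x, x'] reduced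
        exfalso
        have hred3 : IsRed (SW P) [x', x, x'] := by
          apply isRed_of_length_le genInv
          · intro y hy
            simp only [List.mem_cons, List.not_mem_nil, or_false] at hy
            rcases hy with rfl | rfl | rfl
            · exact hx'
            · exact hx
            · exact hx'
          · have : [x', x, x'].prod = x' * (x * x') := by simp
            rw [this, h4, len_pair hx hx' hne]
            simp
        have hp : [x', x, x'].prod = l.prod := by
          rw [hlp, hv]; simp [mul_assoc]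
        exact key l hlJ (letters_eq hred3 hlred hp (by simp))
      · have h5 : len (SW P) (x' * [x, x'].prod) ≤ [x, x'].length := by
          have : [x, x'].prod = x * x' := by simp
          rw [this]
          have := len_pair hx hx' hne
          simp only [List.length_cons, List.length_nil]
          omega
        obtain ⟨l1, z, l2, hl12, heq⟩ := exchange x' hx' [x, x'] (isRed_pair hx hx' hne) h5
        match l1, hl12, heq with
        | [], hl12, heq =>
          exfalso
          simp only [List.nil_append, List.cons.injEq] at hl12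
          simp only [List.prod_nil, mul_one, one_mul] at heq
          exact hne' (heq.trans hl12.1.symm)
        | [a], hl12, heq =>
          simp only [List.cons_append, List.nil_append, List.cons.injEq] at hl12
          simp only [List.prod_cons, List.prod_nil, mul_one] at heq
          rw [← hl12.1, ← hl12.2.1] at heq
          exact heq
        | a :: c :: l3, hl12, heq =>
          exfalso
          have := congrArg List.length hl12
          simp at this
    · -- y ∈ C(x' x)
      exfalso
      have hv : π P m = x' * x := Cw_inj hym' h3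
      have hp : [x', x].prod = l.prod := by
        rw [hlp, hv]; simp
      exact key l hlJ (letters_eq (isRed_pair hx' hx hne') hlred hp (by simp))
  -- conclusion
  have hN : s * s' * s⁻¹ * s'⁻¹ ∈ P.N :=
    mul_mem (mul_mem (mul_mem (S_mem_N hsS) (S_mem_N hs')) (inv_mem (S_mem_N hsS)))
      (inv_mem (S_mem_N hs'))
  rw [← π_eq_one_iff hN, π_mul (mul_mem (mul_mem (S_mem_N hsS) (S_mem_N hs')) (inv_mem (S_mem_N hsS)))
    (inv_mem (S_mem_N hs')), π_mul (mul_mem (S_mem_N hsS) (S_mem_N hs')) (inv_mem (S_mem_N hsS)),
    π_mul (S_mem_N hsS) (S_mem_N hs'), π_inv (S_mem_N hsS), π_inv (S_mem_N hs')]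
  show x * x' * x⁻¹ * x'⁻¹ = 1
  rw [inv_eq_self genInv.sq hx, inv_eq_self genInv.sq hx', ← hcomm, mul_assoc x' x x, hxx, mul_one, hx'x']

theorem result {G : Type*} [Group G] [Nontrivial G]
    (P : Cfsg.BNPair G) (hirr : P.Irreducible) (hsolv : Group.IsSolvable P.B) (hperf : commutator G = ⊤)
    (hcore : P.B.normalCore = ⊥) : IsSimpleGroup G := by
  refine { exists_pair_ne := exists_pair_ne G, eq_bot_or_eq_top_of_normal := ?_ }
  intro H hH
  set J : Set G := {s | s ∈ P.S ∧ s ∈ P.B ⊔ H} with hJdef
  have hJ : J ⊆ P.S := fun s hs => hs.1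
  have hM : P.B ⊔ H = P.parabolic J := eq_parabolic_of_le le_sup_left
  by_cases hJne : J.Nonempty
  · by_cases hJc : (P.S \ J).Nonempty
    · exfalso
      obtain ⟨s, hs, s', hs', hnot⟩ := hirr J hJ hJne hJc
      exact hnot (comm_of_normal hJ hM hs hs'.1 hs'.2)
    · right
      have hSJ : P.S ⊆ J := by
        intro s hs
        by_contra hsJ
        exact hJc ⟨s, hs, hsJ⟩
      have htop : P.B ⊔ H = ⊤ := by
        rw [eq_top_iff, ← P.sup_eq_top, hM]
        apply sup_le (B_le_parabolic J)
        rw [← P.closure_sup]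
        apply sup_le
        · exact (Subgroup.closure_mono hSJ).trans (closure_le_parabolic J)
        · exact inf_le_left.trans (B_le_parabolic J)
      -- G/H is solvable and perfect
      let φ : P.B →* G ⧸ H := (QuotientGroup.mk' H).comp P.B.subtype
      have hφ : Function.Surjective φ := by
        intro q
        obtain ⟨g, rfl⟩ := QuotientGroup.mk_surjective q
        have hg : g ∈ P.B ⊔ H := by rw [htop]; trivial
        obtain ⟨b, hb, h, hh, rfl⟩ := Subgroup.mem_sup_of_normal_right.1 hg
        refine ⟨⟨b, hb⟩, ?_⟩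
        show (QuotientGroup.mk b : G ⧸ H) = QuotientGroup.mk (b * h)
        rw [QuotientGroup.eq]
        have : b⁻¹ * (b * h) = h := by group
        rw [this]; exact hh
      have hsolvQ : Group.IsSolvable (G ⧸ H) := Group.isSolvable_of_surjective hφ
      have hperf' : commutator (G ⧸ H) = ⊤ := by
        have h1 := Subgroup.map_commutator (⊤ : Subgroup G) (⊤ : Subgroup G) (QuotientGroup.mk' H)
        rw [Subgroup.map_top_of_surjective _ (QuotientGroup.mk'_surjective H)] at h1
        rw [commutator_def, ← h1]
        have : ⁅(⊤ : Subgroup G), (⊤ : Subgroup G)⁆ = ⊤ := by rw [← commutator_def]; exact hperf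
        rw [this, Subgroup.map_top_of_surjective _ (QuotientGroup.mk'_surjective H)]
      apply QuotientGroup.subgroup_eq_top_of_subsingleton
      by_contra hns
      rw [not_subsingleton_iff_nontrivial] at hns
      have := @Group.IsSolvable.commutator_lt_top_of_nontrivial (G ⧸ H) _ hsolvQ hns
      rw [hperf'] at this
      exact lt_irrefl _ this
  · left
    have hJe : J = ∅ := Set.not_nonempty_iff_eq_empty.1 hJne
    have h1 : P.B ⊔ H = P.B := by
      rw [hM, hJe]
      unfold BNPair.parabolic
      rw [Subgroup.closure_empty, sup_bot_eq]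
    have h2 : H ≤ P.B := by rw [← h1]; exact le_sup_right
    have h3 : H ≤ P.B.normalCore := Subgroup.normal_le_normalCore.2 h2
    rw [hcore] at h3
    exact le_bot_iff.1 h3

end Cfsg.Agent.S0319
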