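import Cfsg.Statements.S0253
import Cfsg.Agent.Lib.Helper4.Simple60
import Cfsg.Agent.Lib.Helper4.SLCenter

set_option autoImplicit false
open Cfsg

namespace Cfsg.Agent.S0253

open Cfsg.Agent.Lib.Helper4

/-- PSL_2(5) is isomorphic to A_5. -/
theorem result {F : Type*} [Field F] [Fintype F] (hF : Fintype.card F = 5) : Nonempty (Matrix.ProjectiveSpecialLinearGroup (Fin 2) F ≃* alternatingGroup (Fin 5)) := by
  classical
  have hsimple : IsSimpleGroup (Matrix.ProjectiveSpecialLinearGroup (Fin 2) F) :=
    Matrix.ProjectiveSpecialLinearGroup.rank_two_simple (by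
      rw [Nat.card_eq_fintype_card, hF]; norm_num)
  have hcard : Nat.card (Matrix.ProjectiveSpecialLinearGroup (Fin 2) F) = 60 := by
    have h1 := card_PSL_mul (F := F) 2 (by norm_num)
    rw [card_SL2, hF] at h1
    have h2 : Nat.gcd 2 (5 - 1) = 2 := by decide
    rw [h2] at h1
    omega
  have : Finite (Matrix.ProjectiveSpecialLinearGroup (Fin 2) F) :=
    Nat.finite_of_card_ne_zero (by rw [hcard]; norm_num)
  exact simple_sixty_iso hcard

end Cfsg.Agent.S0253
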