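import Cfsg.Statements.S0857
import Mathlib
import Cfsg.Agent.Lib.Helper3.GoingDown1
import Cfsg.Agent.Lib.Helper3.GoingDown2
import Cfsg.Agent.Lib.Helper6.BlkFR
import Cfsg.Agent.Lib.Helper6.Ito
-- import your own Cfsg.Agent.* helpers here

set_option autoImplicit false
open Cfsg

namespace Cfsg.Agent.S0857

open Cfsg.Agent.Lib.Helper6 Cfsg.Agent.Lib.Helper3.GoingDown


/-- bridge between conjugation on `L.subgroupOf K` (inside `K`) and on `L` (inside `G`) -/
theorem conjFun_bridge {G : Type*} [Group G] (K L : Subgroup G) (hL : L.Normal) (hle : L ≤ K)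
    (φ : L → ℂ) (k : K) :
    conjFun (L.subgroupOf K) (hL.subgroupOf K)
      (fun n => φ (Subgroup.subgroupOfEquivOfLe hle n)) k
    = fun n => conjFun L hL φ (k : G) (Subgroup.subgroupOfEquivOfLe hle n) := by
  funext n
  rw [conjFun_apply, conjFun_apply]
  congr 1


theorem result' {G : Type*} [Group G] [Fintype G] (K L : Subgroup G) [hK : K.Normal] [hL : L.Normal] (hLK : L < K) (hchief : ∀ M : Subgroup G, M.Normal → L ≤ M → M ≤ K → M = L ∨ M = K) (hab : ⁅K, K⁆ ≤ L) (ϑ : K → ℂ) (hϑ : Cfsg.IsIrrCharacter K ϑ) (hinv : ∀ (g : G) (n : K), ϑ ⟨g * n * g⁻¹, hK.conj_mem (n : G) n.2 g⟩ = ϑ n) : Cfsg.IsIrrCharacter L (fun x : L => ϑ ⟨(x : G), hLK.le x.2⟩) ∨ (∃ (φ : L → ℂ) (e : ℕ), Cfsg.IsIrrCharacter L φ ∧ (fun x : L => ϑ ⟨(x : G), hLK.le x.2⟩) = (e : ℂ) • φ ∧ e ^ 2 = L.relIndex K) ∨ (∃ F : Finset (L → ℂ), (∀ φ ∈ F, Cfsg.IsIrrCharacter L φ) ∧ F.card = L.relIndex K ∧ (fun x : L => ϑ ⟨(x : G), hLK.le x.2⟩) = ∑ φ ∈ F, φ) := by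
  classical
  have hle := hLK.le
  have : Fintype K := Fintype.ofFinite K
  have : Fintype L := Fintype.ofFinite L
  have : Fintype (L.subgroupOf K) := Fintype.ofFinite _
  have hL' : (L.subgroupOf K).Normal := hL.subgroupOf K
  let e : (L.subgroupOf K) ≃* L := Subgroup.subgroupOfEquivOfLe hle
  have hecoe : ∀ n : L.subgroupOf K, ((e n : L) : G) = ((n : K) : G) := fun n => rfl
  set r : L → ℂ := fun x : L => ϑ ⟨(x : G), hLK.le x.2⟩ with hr
  have hr' : (fun n : L.subgroupOf K => ϑ n) = fun n => r (e n) := by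
    funext n
    rfl
  -- r is G-invariant
  have hrinv : ∀ g : G, conjFun L hL r g = r := by
    intro g
    funext x
    rw [conjFun_apply]
    exact hinv g ⟨x, hle x.2⟩
  obtain ⟨φ, hφc⟩ := exists_constituent_restrict_of_le L K hle ⟨ϑ, hϑ⟩
  have hφc' : Cfsg.classInner r (φ : L → ℂ) ≠ 0 := hφc
  have hφcf := IsIrrCharacter.isClassFunction φ.2
  -- K-level data
  set φ' : L.subgroupOf K → ℂ := fun n => (φ : L → ℂ) (e n) with hφ'
  have hφ'irr : Cfsg.IsIrrCharacter (L.subgroupOf K) φ' := IsIrrCharacter.comp_mulEquiv e φ.2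
  have hc' : Cfsg.classInner (fun n : L.subgroupOf K => ϑ n) φ' ≠ 0 := by
    rw [hr', hφ', classInner_comp_mulEquiv e r (φ : L → ℂ)]
    exact hφc'
  -- inertia group
  set T := inertia L hL (φ : L → ℂ) with hT
  have hLT : L ≤ T := le_inertia L hL hφcf
  have hcommL : ∀ a ∈ K, ∀ b ∈ K, a * b * a⁻¹ * b⁻¹ ∈ L := by
    intro a ha b hb
    apply hab
    have := Subgroup.commutator_mem_commutator ha hb
    rwa [commutatorElement_def] at this
  have hMn : (K ⊓ T).Normal := by
    constructor
    intro x hx g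
    refine ⟨hK.conj_mem x hx.1 g, ?_⟩
    change g * x * g⁻¹ ∈ inertia L hL (φ : L → ℂ)
    rw [mem_inertia]
    -- ψ = conjFun φ g is a K-conjugate of φ
    have hψirr := IsIrrCharacter.conjFun L hL φ.2 g
    have hψc : Cfsg.classInner r (conjFun L hL (φ : L → ℂ) g) ≠ 0 := by
      rw [← hrinv g, classInner_conjFun_conjFun]
      exact hφc'
    obtain ⟨k, hk, hkeq⟩ := exists_conjFun_eq_of_constituents_of_le L hL K hle hϑ φ.2 hψirr hφc hψc
    have hxT : conjFun L hL (φ : L → ℂ) x = (φ : L → ℂ) := (mem_inertia L hL _ x).mp hx.2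
    have hkxk : k * x * k⁻¹ ∈ T := by
      have h1 : k * x * k⁻¹ = (k * x * k⁻¹ * x⁻¹) * x := by group
      rw [h1]
      exact T.mul_mem (hLT (hcommL k hk x hx.1)) hx.2
    have hkxkT : conjFun L hL (φ : L → ℂ) (k * x * k⁻¹) = (φ : L → ℂ) :=
      (mem_inertia L hL _ _).mp hkxk
    have h2 : conjFun L hL (conjFun L hL (φ : L → ℂ) g) x = conjFun L hL (φ : L → ℂ) g := by
      rw [hkeq, conjFun_conjFun]
      have h3 : k * x = (k * x * k⁻¹) * k := by group
      rw [h3, ← conjFun_conjFun, hkxkT]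
    have h4 : g * x * g⁻¹ = g * x * g⁻¹ := rfl
    rw [← conjFun_conjFun, ← conjFun_conjFun, h2, conjFun_conjFun, mul_inv_cancel, conjFun_one]
  have hML : L ≤ K ⊓ T := le_inf hle hLT
  rcases hchief (K ⊓ T) hMn hML inf_le_left with hM | hM
  · -- stabilizer is L : case (c)
    right; right
    have hstab : ∀ k : K, conjFun (L.subgroupOf K) hL' φ' k = φ' → k ∈ L.subgroupOf K := by
      intro k hk
      rw [hφ', conjFun_bridge K L hL hle (φ : L → ℂ) k] at hk
      have h1 : conjFun L hL (φ : L → ℂ) (k : G) = (φ : L → ℂ) := by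
        funext x
        have := congrFun hk (e.symm x)
        simp only [MulEquiv.apply_symm_apply] at this
        exact this
      have h2 : (k : G) ∈ K ⊓ T := ⟨k.2, (mem_inertia L hL _ _).mpr h1⟩
      rw [hM] at h2
      exact Subgroup.mem_subgroupOf.mpr h2
    obtain ⟨F', hF'irr, hF'card, hF'sum⟩ :=
      restrict_eq_sum_of_stab_eq (L.subgroupOf K) hL' hϑ hφ'irr hc' hstab
    let tr : (L.subgroupOf K → ℂ) → (L → ℂ) := fun ψ x => ψ (e.symm x)
    have htrinj : Function.Injective tr := by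
      intro ψ₁ ψ₂ h
      funext n
      have := congrFun h (e n)
      simp only [tr, MulEquiv.symm_apply_apply] at this
      exact this
    refine ⟨F'.image tr, ?_, ?_, ?_⟩
    · intro ψ hψ
      rw [Finset.mem_image] at hψ
      obtain ⟨ψ', hψ', rfl⟩ := hψ
      exact IsIrrCharacter.comp_mulEquiv e.symm (hF'irr ψ' hψ')
    · rw [Finset.card_image_of_injective _ htrinj, hF'card]
      rfl
    · rw [Finset.sum_image (fun a _ b _ h => htrinj h)]
      funext x
      have h1 := congrFun hF'sum (e.symm x)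
      rw [Finset.sum_apply] at h1 ⊢
      simp only [tr]
      rw [← h1]
      show ϑ ⟨(x : G), hLK.le x.2⟩ = ϑ ((e.symm x : L.subgroupOf K) : K)
      exact congrArg ϑ (Subtype.ext (by
        have := hecoe (e.symm x)
        rw [MulEquiv.apply_symm_apply] at this
        exact this))
  · -- φ is K-invariant
    have hKT : K ≤ T := by
      intro k hk
      have : k ∈ K ⊓ T := by rw [hM]; exact hk
      exact this.2
    have hinvK : ∀ k : K, conjFun (L.subgroupOf K) hL' φ' k = φ' := by
      intro k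
      rw [hφ', conjFun_bridge K L hL hle (φ : L → ℂ) k]
      have h1 := (mem_inertia L hL _ _).mp (hKT k.2)
      rw [h1]
    have habK : ∀ x y : K, x * y * x⁻¹ * y⁻¹ ∈ L.subgroupOf K := by
      intro x y
      rw [Subgroup.mem_subgroupOf]
      exact hcommL x x.2 y y.2
    -- the support subgroup
    set S : Set G := (L : Set G) ∪ {x | ∃ h : x ∈ K, ϑ ⟨x, h⟩ ≠ 0} with hS
    have hSconj : ∀ s ∈ S, ∀ g : G, g * s * g⁻¹ ∈ S := by
      rintro s (hs | ⟨h, hs⟩) g
      · left; exact hL.conj_mem s hs g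
      · right
        refine ⟨hK.conj_mem s h g, ?_⟩
        rw [hinv g ⟨s, h⟩]
        exact hs
    set V : Subgroup G := Subgroup.closure S with hV
    have hVn : V.Normal := by
      constructor
      intro v hv g
      rw [hV] at hv ⊢
      induction hv using Subgroup.closure_induction with
      | mem x hx => exact Subgroup.subset_closure (hSconj x hx g)
      | one => simp
      | mul x y _ _ hx hy =>
        have : g * (x * y) * g⁻¹ = (g * x * g⁻¹) * (g * y * g⁻¹) := by group
        rw [this]; exact Subgroup.mul_mem _ hx hy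
      | inv x _ hx =>
        have : g * x⁻¹ * g⁻¹ = (g * x * g⁻¹)⁻¹ := by group
        rw [this]; exact Subgroup.inv_mem _ hx
    have hLV : L ≤ V := by
      intro x hx
      exact Subgroup.subset_closure (Or.inl hx)
    have hVK : V ≤ K := by
      rw [hV, Subgroup.closure_le]
      rintro s (hs | ⟨h, _⟩)
      · exact hle hs
      · exact h
    have hsuppV : ∀ k : K, ϑ k ≠ 0 → (k : G) ∈ V := by
      intro k hk
      exact Subgroup.subset_closure (Or.inr ⟨k.2, hk⟩)
    rcases hchief V hVn hLV hVK with hVL | hVKeq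
    · -- ϑ vanishes off L : case (b)
      right; left
      have hv : ∀ k : K, k ∉ L.subgroupOf K → ϑ k = 0 := by
        intro k hk
        by_contra h0
        apply hk
        rw [Subgroup.mem_subgroupOf, ← hVL]
        exact hsuppV k h0
      obtain ⟨e₀, hres, hsq⟩ := sq_eq_index_of_vanish (L.subgroupOf K) hL' hϑ hφ'irr hinvK hc' hv
      refine ⟨(φ : L → ℂ), e₀, φ.2, ?_, hsq⟩
      funext x
      have h1 := congrFun hres (e.symm x)
      simp only [Pi.smul_apply, smul_eq_mul, hφ', MulEquiv.apply_symm_apply] at h1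
      rw [Pi.smul_apply, smul_eq_mul, ← h1]
      show ϑ ⟨(x : G), hLK.le x.2⟩ = ϑ ((e.symm x : L.subgroupOf K) : K)
      exact congrArg ϑ (Subtype.ext (by
        have := hecoe (e.symm x)
        rw [MulEquiv.apply_symm_apply] at this
        exact this))
    · -- case (a)
      left
      have hsupp : ∀ H : Subgroup K, L.subgroupOf K ≤ H → (∀ k : K, ϑ k ≠ 0 → k ∈ H) → H = ⊤ := by
        intro H hLH hsH
        rw [eq_top_iff]
        intro k _
        have h1 : V ≤ H.map K.subtype := by
          rw [hV, Subgroup.closure_le]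
          rintro s (hs | ⟨h, hs⟩)
          · exact ⟨⟨s, hle hs⟩, hLH (Subgroup.mem_subgroupOf.mpr hs), rfl⟩
          · exact ⟨⟨s, h⟩, hsH _ hs, rfl⟩
        have h2 : (k : G) ∈ H.map K.subtype := h1 (by rw [hVKeq]; exact k.2)
        obtain ⟨k', hk', hkk'⟩ := h2
        have : k' = k := Subtype.ext hkk'
        rw [← this]; exact hk'
      have hres := irreducible_restrict_of_support (L.subgroupOf K) hL' hϑ hφ'irr hinvK hc' habK hsupp
      have h3 : r = (φ : L → ℂ) := by
        funext x
        have h1 := congrFun hres (e.symm x)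
        simp only [hφ', MulEquiv.apply_symm_apply] at h1
        rw [← h1]
        show ϑ ⟨(x : G), hLK.le x.2⟩ = ϑ ((e.symm x : L.subgroupOf K) : K)
        exact congrArg ϑ (Subtype.ext (by
          have := hecoe (e.symm x)
          rw [MulEquiv.apply_symm_apply] at this
          exact this))
      rw [h3]
      exact φ.2





/-- Let L < K be normal subgroups of the finite group G with no normal subgroup of G strictly between them and with K / L abelian (the commutator subgroup of K lies in L). Let ϑ be an irreducible character of K invariant under conjugation by G. Then the restriction of ϑ to L is irreducible; or it equals e times an irreducible character of L with e ^ 2 equal to the index of L in K; or it is the sum of a family of pairwise distinct irreducible characters of L indexed by a set whose size is the index of L in K. -/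
theorem result {G : Type*} [Group G] [Fintype G] (K L : Subgroup G) [hK : K.Normal] [L.Normal] (hLK : L < K) (hchief : ∀ M : Subgroup G, M.Normal → L ≤ M → M ≤ K → M = L ∨ M = K) (hab : ⁅K, K⁆ ≤ L) (ϑ : K → ℂ) (hϑ : Cfsg.IsIrrCharacter K ϑ) (hinv : ∀ (g : G) (n : K), ϑ ⟨g * n * g⁻¹, hK.conj_mem (n : G) n.2 g⟩ = ϑ n) : Cfsg.IsIrrCharacter L (fun x : L => ϑ ⟨(x : G), hLK.le x.2⟩) ∨ (∃ (φ : L → ℂ) (e : ℕ), Cfsg.IsIrrCharacter L φ ∧ (fun x : L => ϑ ⟨(x : G), hLK.le x.2⟩) = (e : ℂ) • φ ∧ e ^ 2 = L.relIndex K) ∨ (∃ F : Finset (L → ℂ), (∀ φ ∈ F, Cfsg.IsIrrCharacter L φ) ∧ F.card = L.relIndex K ∧ (fun x : L => ϑ ⟨(x : G), hLK.le x.2⟩) = ∑ φ ∈ F, φ) := by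
  exact result' K L hLK hchief hab ϑ hϑ hinv

end Cfsg.Agent.S0857
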