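import Cfsg.Statements.S0887
import Mathlib
import Cfsg.Agent.Lib.Helper3.CharTriple3
import Cfsg.Agent.Lib.Helper6.CliffordStab
import Cfsg.Agent.Lib.Helper6.Ito
-- import your own Cfsg.Agent.* helpers here

set_option autoImplicit false
open Cfsg

namespace Cfsg.Agent.S0887

open Cfsg.Agent.Lib.Helper6 Cfsg.Agent.Lib.Helper3.CharTriple


theorem result' {G : Type*} [Group G] [Fintype G] (N : Subgroup G) [hN : N.Normal] [Fintype N] (χ : G → ℂ) (hχ : Cfsg.IsIrrCharacter G χ) (ϑ : N → ℂ) (hϑ : Cfsg.IsIrrCharacter N ϑ) (hcon : Cfsg.classInner (fun n : N => χ n) ϑ ≠ 0) (c d : ℕ) (hc : χ 1 = c) (hd : ϑ 1 = d) : d ∣ c ∧ c / d ∣ N.index := by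
  classical
  set T := inertia N hN ϑ with hT
  have : Fintype T := Fintype.ofFinite T
  have hNT : N ≤ T := le_inertia N hN (IsIrrCharacter.isClassFunction hϑ)
  obtain ⟨ψ, hψcon, hψ⟩ := exists_indFun_eq_of_stab N hN T hNT ⟨ϑ, hϑ⟩ (fun g h => h) ⟨χ, hχ⟩ hcon
  simp only at hψcon hψ
  -- transport to the group T
  set N' : Subgroup ↥T := N.subgroupOf T with hN'
  have hN'n : N'.Normal := hN.subgroupOf T
  have : Fintype N' := Fintype.ofFinite N'
  let e : N' ≃* N := Subgroup.subgroupOfEquivOfLe hNT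
  set ϑ' : N' → ℂ := fun x => ϑ (e x) with hϑ'
  have hϑ'irr : Cfsg.IsIrrCharacter N' ϑ' := IsIrrCharacter.comp_mulEquiv e hϑ
  have hinv' : ∀ (t : ↥T) (x : N'),
      ϑ' ⟨t * x * t⁻¹, hN'n.conj_mem (x : ↥T) x.2 t⟩ = ϑ' x := by
    intro t x
    have h1 : conjFun N hN ϑ (t : G) = ϑ := t.2
    have h2 := congrFun h1 (e x)
    rw [conjFun_apply] at h2
    exact h2
  have hcon' : Cfsg.classInner (fun x : N' => (ψ : T → ℂ) x) ϑ' ≠ 0 := by
    have h1 := classInner_comp_mulEquiv e (fun n : N => (ψ : T → ℂ) ⟨n, hNT n.2⟩) ϑ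
    have h2 : (fun x : N' => (fun n : N => (ψ : T → ℂ) ⟨n, hNT n.2⟩) (e x))
        = fun x : N' => (ψ : T → ℂ) x := by
      funext x
      rfl
    rw [h2] at h1
    rw [hϑ', h1]
    exact hψcon
  obtain ⟨e', he', hdvd⟩ := degree_ratio_dvd_index_of_invariant N' (ψ : T → ℂ) ψ.2 ϑ' hϑ'irr
    hinv' hcon'
  have hdeg' : Cfsg.charDegree ϑ' = d := by
    unfold Cfsg.charDegree
    have : ϑ' 1 = ϑ 1 := by
      change ϑ (e 1) = ϑ 1
      rw [map_one]
    rw [this, hd]
    simp
  rw [hdeg'] at he'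
  have hψ1 : (ψ : T → ℂ) 1 = ((e' * d : ℕ) : ℂ) := by
    rw [IsCharacter.apply_one_eq_charDegree (IsIrrCharacter.isCharacter ψ.2), he']
  have hχ1 : χ 1 = (T.index : ℂ) * (ψ : T → ℂ) 1 := by
    rw [← hψ, indFun_one]
  rw [hc, hψ1] at hχ1
  have hceq : c = T.index * (e' * d) := by exact_mod_cast hχ1
  have hd0 : 0 < d := by
    rcases Nat.eq_zero_or_pos d with h0 | h0
    · exfalso
      rw [h0] at hd
      exact IsIrrCharacter.apply_one_ne_zero hϑ (by simpa using hd)
    · exact h0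
  have hidx : N'.index = N.relIndex T := rfl
  have hN : N.index = N.relIndex T * T.index := (Subgroup.relIndex_mul_index hNT).symm
  constructor
  · rw [hceq]
    exact Dvd.intro_left (T.index * e') (by ring)
  · have : c / d = T.index * e' := by
      rw [hceq, ← mul_assoc]
      exact Nat.mul_div_cancel _ hd0
    rw [this, hN, mul_comm]
    rw [hidx] at hdvd
    exact Nat.mul_dvd_mul hdvd (dvd_refl _)





/-- Let N be a normal subgroup of the finite group G, χ an irreducible character of G and ϑ an irreducible character of N having nonzero inner product with the restriction of χ. If χ 1 = c and ϑ 1 = d as natural numbers, then d divides c and c / d divides the index of N. -/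
theorem result {G : Type*} [Group G] [Fintype G] (N : Subgroup G) [N.Normal] [Fintype N] (χ : G → ℂ) (hχ : Cfsg.IsIrrCharacter G χ) (ϑ : N → ℂ) (hϑ : Cfsg.IsIrrCharacter N ϑ) (hcon : Cfsg.classInner (fun n : N => χ n) ϑ ≠ 0) (c d : ℕ) (hc : χ 1 = c) (hd : ϑ 1 = d) : d ∣ c ∧ c / d ∣ N.index := by
  exact result' N χ hχ ϑ hϑ hcon c d hc hd

end Cfsg.Agent.S0887
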