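import Cfsg.Statements.S3082
import Cfsg.Agent.Lib.Helper7.SCSys5

set_option autoImplicit false
open Cfsg

namespace Cfsg.Agent.S3082

open Cfsg.Agent.Lib.Helper7

/-- The Glauberman–Thompson normal p-complement criterion for strongly closed subgroups, p odd. Let G be a finite group, P a Sylow p-subgroup and D a subgroup of P strongly closed in P with respect to G. If N_G(Z(J(D))) has a normal p-complement (J(D) generated by the abelian subgroups of D of largest order), or N_G(Ω₁(Z(J_e(D)))) has one (J_e(D) generated by the elementary abelian subgroups of largest order), then G has a normal p-complement. -/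
theorem result {G : Type*} [Group G] [Finite G] {p : ℕ} [Fact p.Prime] (hp : p ≠ 2) (P : Sylow p G) (D : Subgroup G) (hD : Cfsg.IsStronglyClosed D (P : Subgroup G)) (h : Cfsg.HasNormalPComplement p ↥(Subgroup.normalizer ((Cfsg.centerThompsonAOf D) : Set G)) ∨ Cfsg.HasNormalPComplement p ↥(Subgroup.normalizer ((Cfsg.omegaOne p (Cfsg.centerThompsonOf p D)) : Set G))) : Cfsg.HasNormalPComplement p G := by
  have hΔ := scSys_scOf P hD
  have key : ∀ W : ∀ (Y : Type _) [Group Y], Subgroup Y → Subgroup Y, SCFunctor p W →
      PN p (Subgroup.normalizer ((W G D : Subgroup G) : Set G)) → HasNormalPComplement p G := by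
    intro W hW h1
    rw [← pn_top_iff]
    apply pn_top_of_scSys hW hp _ G rfl (scOf D) hΔ
    intro S
    obtain ⟨g, hg⟩ := MulAction.exists_smul_eq G P S
    have h2 : (S : Subgroup G) = (P : Subgroup G).map (MulAut.conj g).toMonoidHom := by
      rw [← hg, Sylow.smul_def, Sylow.pointwise_smul_def]
      rfl
    rw [h2, scSec_map_conj hΔ P.isPGroup' g, scSec_scOf P hD, hW.map_conj,
      ← Subgroup.map_equiv_normalizer_eq]
    exact PN.map _ h1
  rcases h with h | h
  · exact key scWA (scFunctor_scWA hp) ((pn_iff _).mpr h)
  · exact key (scWE p) (scFunctor_scWE hp) ((pn_iff _).mpr h)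


end Cfsg.Agent.S3082
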