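import Cfsg.Statements.S5145
import Cfsg.Agent.Lib.Helper9.FusionBasic

set_option autoImplicit false
open Cfsg

namespace Cfsg.Agent.S5145

open Cfsg.FusionSystem Cfsg.Agent.Lib.Helper9

theorem isNormal_bot {Ω : Type*} [Group Ω] {S : Subgroup Ω} (F : Cfsg.FusionSystem S) :
    F.IsNormal ⊥ := by
  refine ⟨bot_le, ?_⟩
  intro P φ hφ
  have hle : P ⊔ ⊥ ≤ P := by simp
  refine ⟨φ.comp (Subgroup.inclusion hle), restrict_mem F hφ hle, ?_, ?_⟩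
  · intro x; rfl
  · apply le_antisymm
    · rintro _ ⟨x, hx, rfl⟩
      have hx1 : (x : Ω) = 1 := by simpa [Subgroup.mem_subgroupOf] using hx
      have : x = 1 := Subtype.ext hx1
      rw [this, map_one]
      exact Subgroup.one_mem _
    · exact bot_le

theorem isNormal_sup {Ω : Type*} [Group Ω] {S : Subgroup Ω} (F : Cfsg.FusionSystem S)
    (Q₁ Q₂ : Subgroup Ω) (h₁ : F.IsNormal Q₁) (h₂ : F.IsNormal Q₂) : F.IsNormal (Q₁ ⊔ Q₂) := by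
  obtain ⟨hQ₁S, hext₁⟩ := h₁
  obtain ⟨hQ₂S, hext₂⟩ := h₂
  refine ⟨sup_le hQ₁S hQ₂S, ?_⟩
  intro P φ hφ
  obtain ⟨ψ₁, hψ₁, hψ₁φ, hψ₁Q⟩ := hext₁ P φ hφ
  obtain ⟨ψ₂, hψ₂, hψ₂ψ₁, hψ₂Q⟩ := hext₂ (P ⊔ Q₁) ψ₁ hψ₁
  have hle : P ⊔ (Q₁ ⊔ Q₂) ≤ (P ⊔ Q₁) ⊔ Q₂ := by rw [sup_assoc]
  refine ⟨ψ₂.comp (Subgroup.inclusion hle), restrict_mem F hψ₂ hle, ?_, ?_⟩
  · intro x
    rw [← hψ₁φ x, ← hψ₂ψ₁]
    rfl
  · -- image of Q₁ ⊔ Q₂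
    have hQ₁le : Q₁ ≤ (P ⊔ Q₁) ⊔ Q₂ := le_sup_right.trans le_sup_left
    have hQ₂le : Q₂ ≤ (P ⊔ Q₁) ⊔ Q₂ := le_sup_right
    have e1 : (Q₁.subgroupOf ((P ⊔ Q₁) ⊔ Q₂)).map ψ₂ = Q₁ := by
      apply le_antisymm
      · rintro _ ⟨x, hx, rfl⟩
        have hx1 : (x : Ω) ∈ Q₁ := hx
        have h3 : ψ₁ ⟨x, (le_sup_right : Q₁ ≤ P ⊔ Q₁) hx1⟩ ∈ (Q₁.subgroupOf (P ⊔ Q₁)).map ψ₁ :=
          ⟨⟨x, (le_sup_right : Q₁ ≤ P ⊔ Q₁) hx1⟩, hx1, rfl⟩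
        have h4 := hψ₁Q.le h3
        rw [← hψ₂ψ₁] at h4
        exact h4
      · intro y hy
        obtain ⟨x, hx, hxy⟩ := hψ₁Q.ge hy
        have hx1 : (x : Ω) ∈ Q₁ := hx
        refine ⟨⟨x, hQ₁le hx1⟩, hx1, ?_⟩
        rw [← hxy, ← hψ₂ψ₁]
        rfl
    have e2 : (Q₂.subgroupOf ((P ⊔ Q₁) ⊔ Q₂)).map ψ₂ = Q₂ := hψ₂Q
    rw [map_subgroupOf_comp_inclusion_eq hle ψ₂ le_sup_right,
      map_subgroupOf_sup ψ₂ hQ₁le hQ₂le, e1, e2]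

/-- For a fusion system over a finite subgroup S, the join of all subgroups normal in the system is itself normal in the system, hence its largest normal subgroup. -/
theorem result {Ω : Type*} [Group Ω] {S : Subgroup Ω} [Finite S] (F : Cfsg.FusionSystem S) : F.IsNormal F.core := by
  exact sSup_induction_of_finite S (fun Q => F.IsNormal Q) (fun Q hQ => hQ.1) (isNormal_bot F)
    (fun Q₁ Q₂ h₁ h₂ => isNormal_sup F Q₁ Q₂ h₁ h₂)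

end Cfsg.Agent.S5145
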