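import Cfsg.Statements.S5085
import Cfsg.Agent.Lib.Helper9.FusionBasic

set_option autoImplicit false
open Cfsg

namespace Cfsg.Agent.S5085

open Cfsg.FusionSystem Cfsg.Agent.Lib.Helper9

/-- In any fusion system, a characteristic subgroup of a subgroup that is normal in the system is itself normal in the system. -/
theorem result {Ω : Type*} [Group Ω] {S : Subgroup Ω} (F : Cfsg.FusionSystem S) (Q U : Subgroup Ω) (hQ : F.IsNormal Q) (hUQ : U ≤ Q) (hU : (U.subgroupOf Q).Characteristic) : F.IsNormal U := by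
  obtain ⟨hQS, hext⟩ := hQ
  refine ⟨hUQ.trans hQS, ?_⟩
  intro P φ hφ
  obtain ⟨ψ, hψ, hψφ, hψQ⟩ := hext P φ hφ
  have hle : P ⊔ U ≤ P ⊔ Q := sup_le_sup_left hUQ P
  refine ⟨ψ.comp (Subgroup.inclusion hle), restrict_mem F hψ hle, ?_, ?_⟩
  · intro x
    exact hψφ x
  · -- the automorphism of Q induced by ψ
    have hψinj := F.injective_of_mem hψ
    have hmemQ : ∀ y : Q, ψ ⟨y, (le_sup_right : Q ≤ P ⊔ Q) y.2⟩ ∈ Q := by
      intro y
      have h : ψ ⟨y, (le_sup_right : Q ≤ P ⊔ Q) y.2⟩ ∈ (Q.subgroupOf (P ⊔ Q)).map ψ :=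
        ⟨⟨y, (le_sup_right : Q ≤ P ⊔ Q) y.2⟩, y.2, rfl⟩
      exact hψQ.le h
    let f : Q →* Q :=
      { toFun := fun y => ⟨ψ ⟨y, (le_sup_right : Q ≤ P ⊔ Q) y.2⟩, hmemQ y⟩
        map_one' := by
          apply Subtype.ext
          show ψ ⟨((1 : Q) : Ω), _⟩ = 1
          exact map_one ψ
        map_mul' := by
          intro a b
          apply Subtype.ext
          show ψ ⟨((a * b : Q) : Ω), _⟩ = ψ ⟨a, _⟩ * ψ ⟨b, _⟩
          rw [← map_mul]
          rfl }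
    have hfinj : Function.Injective f := by
      intro a b hab
      have h1 : ψ ⟨a, (le_sup_right : Q ≤ P ⊔ Q) a.2⟩ = ψ ⟨b, (le_sup_right : Q ≤ P ⊔ Q) b.2⟩ :=
        congrArg (fun z : Q => (z : Ω)) hab
      have h2 := hψinj h1
      exact Subtype.ext (congrArg (fun z : (P ⊔ Q : Subgroup Ω) => (z : Ω)) h2)
    have hfsurj : Function.Surjective f := by
      intro y
      have hy : (y : Ω) ∈ (Q.subgroupOf (P ⊔ Q)).map ψ := hψQ.ge y.2
      obtain ⟨x, hx, hxy⟩ := hy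
      refine ⟨⟨x, hx⟩, ?_⟩
      apply Subtype.ext
      show ψ ⟨(x : Ω), _⟩ = y
      rw [← hxy]
    let α : Q ≃* Q := MulEquiv.ofBijective f ⟨hfinj, hfsurj⟩
    have hα : (U.subgroupOf Q).map α.toMonoidHom = U.subgroupOf Q :=
      Subgroup.characteristic_iff_map_eq.mp hU α
    apply le_antisymm
    · rintro _ ⟨x, hx, rfl⟩
      have hxU : (x : Ω) ∈ U := hx
      have h1 : α ⟨x, hUQ hxU⟩ ∈ (U.subgroupOf Q).map α.toMonoidHom :=
        ⟨⟨x, hUQ hxU⟩, hxU, rfl⟩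
      rw [hα] at h1
      exact h1
    · intro u hu
      have h1 : (⟨u, hUQ hu⟩ : Q) ∈ (U.subgroupOf Q).map α.toMonoidHom := by
        rw [hα]; exact hu
      obtain ⟨y, hy, hyu⟩ := h1
      have hyU : (y : Ω) ∈ U := hy
      refine ⟨⟨y, (le_sup_right : U ≤ P ⊔ U) hyU⟩, hyU, ?_⟩
      exact congrArg (fun z : Q => (z : Ω)) hyu

end Cfsg.Agent.S5085
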