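import Mathlib
import Cfsg.Statements.S0287
import Cfsg.Agent.Lib.Helper5.OrthCard

set_option autoImplicit false
open Cfsg

namespace Cfsg.Agent.S0287

open Cfsg.Agent.Lib.Helper5 Cfsg.Agent.Lib.Helper5.OrthCard QuadraticMap

theorem plus_arith (q : ℕ) (hq : 1 ≤ q) (k : ℕ) :
    ∏ i ∈ Finset.range (k + 1), ((q ^ (i + 1) - 1) * (q ^ (i + 0) + 1) * q ^ (2 * i + 0)) =
      2 * q ^ ((k + 1) * k) * (q ^ (k + 1) - 1) * ∏ i ∈ Finset.range k, (q ^ (2 * (i + 1)) - 1) := by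
  induction k with
  | zero => simp; ring
  | succ k ih =>
    rw [Finset.prod_range_succ, ih, Finset.prod_range_succ]
    have hA : 1 ≤ q ^ (k + 1) := Nat.one_le_pow _ _ hq
    have hA2 : 1 ≤ q ^ (2 * (k + 1)) := Nat.one_le_pow _ _ hq
    have h1 : q ^ (2 * (k + 1)) - 1 = (q ^ (k + 1) - 1) * (q ^ (k + 1) + 1) := by
      zify [hA, hA2]
      ring
    have h2 : q ^ ((k + 1 + 1) * (k + 1)) = q ^ ((k + 1) * k) * q ^ (2 * (k + 1)) := by
      rw [← pow_add]; congr 1; ring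
    rw [h1, h2]
    simp only [add_zero]
    ring

theorem card_fin0_isom {F : Type*} [Field F] (Q : (Fin 0 → F) → F) :
    Nat.card ↥(Cfsg.isometryGroup F Q) = 1 := by
  rw [Nat.card_eq_one_iff_unique]
  refine ⟨⟨?_⟩, ⟨1⟩⟩
  intro a b
  apply Subtype.ext
  apply Units.ext
  exact Subsingleton.elim _ _

theorem plus_eq {F : Type*} [Field F] (m : ℕ) (v : Fin m ⊕ Fin m → F) :
    Cfsg.quadFormPlus m F v =
      genForm (0 : QuadraticForm F (Fin 0 → F)) m (v ∘ (Equiv.sumEmpty (Fin m ⊕ Fin m) (Fin 0))) := by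
  rw [genForm_apply]
  simp [Cfsg.quadFormPlus]

/-- |GO^+_{2m}(q)| = 2 q^(m(m-1)) (q^m - 1) prod_{i=1}^{m-1} (q^(2i) - 1), m at least 1, all q. -/
theorem result {F : Type*} [Field F] [Fintype F] {q : ℕ} (hF : Fintype.card F = q) (m : ℕ) (hm : 1 ≤ m) : Nat.card (Cfsg.isometryGroup F (Cfsg.quadFormPlus m F)) = 2 * q ^ (m * (m - 1)) * (q ^ m - 1) * ∏ i ∈ Finset.range (m - 1), (q ^ (2 * (i + 1)) - 1) := by
  obtain ⟨k, rfl⟩ : ∃ k, m = k + 1 := ⟨m - 1, by omega⟩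
  have hQ₀ : (polarBilin (0 : QuadraticForm F (Fin 0 → F))).Nondegenerate := by
    constructor
    · intro x _; exact Subsingleton.elim _ _
    · intro x _; exact Subsingleton.elim _ _
  have hz : Nat.card {v : Fin 0 → F // (0 : QuadraticForm F (Fin 0 → F)) v = 0} = 1 := by
    rw [Nat.card_eq_one_iff_unique]
    refine ⟨⟨?_⟩, ⟨⟨0, rfl⟩⟩⟩
    intro a b
    apply Subtype.ext
    exact Subsingleton.elim _ _
  rw [← card_isometryGroup_reindex (Equiv.sumEmpty (Fin (k + 1) ⊕ Fin (k + 1)) (Fin 0))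
    ⇑(genForm (0 : QuadraticForm F (Fin 0 → F)) (k + 1)) (Cfsg.quadFormPlus (k + 1) F)
    (plus_eq (k + 1)), card_genForm _ hQ₀ hz, card_fin0_isom, one_mul, hF, Fintype.card_fin]
  have hq : 1 ≤ q := by rw [← hF]; exact Fintype.card_pos
  rw [plus_arith q hq k]
  simp

end Cfsg.Agent.S0287
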