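import Mathlib
import Cfsg.Statements.S0288
import Cfsg.Agent.Lib.Helper5.OrthPlane

set_option autoImplicit false
open Cfsg

namespace Cfsg.Agent.S0288

open Cfsg.Agent.Lib.Helper5 Cfsg.Agent.Lib.Helper5.OrthCard Cfsg.Agent.Lib.Helper5.OrthPlane
  QuadraticMap Matrix

theorem minus_arith (q : ℕ) (hq : 1 ≤ q) (k : ℕ) :
    2 * (q + 1) * ∏ i ∈ Finset.range k, ((q ^ (i + 1) - 1) * (q ^ (i + 2) + 1) * q ^ (2 * i + 2)) =
      2 * q ^ ((k + 1) * k) * (q ^ (k + 1) + 1) * ∏ i ∈ Finset.range k, (q ^ (2 * (i + 1)) - 1) := by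
  induction k with
  | zero => simp
  | succ k ih =>
    rw [Finset.prod_range_succ, Finset.prod_range_succ, ← mul_assoc, ih]
    have hA : 1 ≤ q ^ (k + 1) := Nat.one_le_pow _ _ hq
    have hA2 : 1 ≤ q ^ (2 * (k + 1)) := Nat.one_le_pow _ _ hq
    have h1 : q ^ (2 * (k + 1)) - 1 = (q ^ (k + 1) - 1) * (q ^ (k + 1) + 1) := by
      zify [hA, hA2]
      ring
    have h2 : q ^ ((k + 1 + 1) * (k + 1)) = q ^ ((k + 1) * k) * q ^ (2 * k + 2) := by
      rw [← pow_add]; congr 1; ring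
    rw [h1, h2]
    ring

theorem minus_eq {F : Type*} [Field F] (k : ℕ) (a b : F) :
    Cfsg.quadFormMinus k F a b = ⇑(genForm (binForm a b) k) := by
  funext v
  rw [genForm_apply, binForm_apply]
  simp only [Cfsg.quadFormMinus]
  ring

/-- |GO^-_{2m}(q)| = 2 q^(m(m-1)) (q^m + 1) prod_{i=1}^{m-1} (q^(2i) - 1), m at least 1, all q; the form is quadFormMinus (m-1) with an anisotropic binary part. -/
theorem result {F : Type*} [Field F] [Fintype F] {q : ℕ} (hF : Fintype.card F = q) (m : ℕ) (hm : 1 ≤ m) (a b : F) (hab : ∀ z₁ z₂ : F, z₁ ^ 2 + a * z₁ * z₂ + b * z₂ ^ 2 = 0 → z₁ = 0 ∧ z₂ = 0) : Nat.card (Cfsg.isometryGroup F (Cfsg.quadFormMinus (m - 1) F a b)) = 2 * q ^ (m * (m - 1)) * (q ^ m + 1) * ∏ i ∈ Finset.range (m - 1), (q ^ (2 * (i + 1)) - 1) := by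
  obtain ⟨k, rfl⟩ : ∃ k, m = k + 1 := ⟨m - 1, by omega⟩
  have han := anisotropic_of a b hab
  rw [Nat.add_sub_cancel, minus_eq, card_genForm _ (binForm_nondegenerate a b han)
    (binForm_zeros a b han), card_binForm_isom a b han, hF]
  have hq : 1 ≤ q := by rw [← hF]; exact Fintype.card_pos
  simp only [Fintype.card_fin]
  exact minus_arith q hq k

end Cfsg.Agent.S0288
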