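import Mathlib
import Cfsg.Statements.S0256
import Cfsg.Agent.Lib.Helper5.IsoTools
import Cfsg.Agent.Lib.Helper5.SL4Orth2
import Cfsg.Agent.S0825

set_option autoImplicit false
open Cfsg

namespace Cfsg.Agent.S0256

/-- PSL_4(2) is isomorphic to A_8. -/
theorem result {F : Type*} [Field F] [Fintype F] (hF : Fintype.card F = 2) : Nonempty (Matrix.ProjectiveSpecialLinearGroup (Fin 4) F ≃* alternatingGroup (Fin 8)) := by
  obtain ⟨e1⟩ := Cfsg.Agent.Lib.Helper5.SL4Orth.nonempty_mulEquiv (F := F)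
  rw [Cfsg.Agent.Lib.Helper5.coe_plusForm] at e1
  obtain ⟨e2⟩ := Cfsg.Agent.S0825.result hF
  have h5 : 5 ≤ Nat.card (Fin 8) := by simp
  have h4 : 4 ≤ Nat.card (Fin 8) := by simp
  let e3 := (Cfsg.Agent.Lib.Helper5.IsoTools.commEquiv e2).trans
    (MulEquiv.subgroupCongr (alternatingGroup.commutator_perm_eq h5))
  let e5 := Cfsg.Agent.Lib.Helper5.IsoTools.centerQuotEquiv e3
  let e6 := Cfsg.Agent.Lib.Helper5.IsoTools.quotCenterOfBot
    (alternatingGroup.center_eq_bot h4)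
  exact ⟨e1.symm.trans (e5.trans e6)⟩

end Cfsg.Agent.S0256
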