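import Cfsg.Statements.S3761
import Cfsg.Agent.Lib.Helper2.CycSelf3
-- import your own Cfsg.Agent.* helpers here

set_option autoImplicit false
open Cfsg

namespace Cfsg.Agent.S3761

open Cfsg.Agent.Lib.Helper2.CycSelf

/-- Let G be a finite non-abelian p-group with a cyclic normal subgroup U of order p^n such that C_G(U) = U. Then either p = 2 and G is dihedral, generalized quaternion or semidihedral of order 2^(n+1); or, writing U₁ for the subgroup generated by the p-th powers of elements of U and M = C_G(U₁), the subgroup U has index p in M and the subgroup Ω₁(M) generated by the elements of M of order dividing p is elementary abelian of order p² and characteristic in G. -/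
theorem result {G : Type*} [Group G] [Finite G] {p : ℕ} [Fact p.Prime] (hG : IsPGroup p G) (hna : ¬ IsMulCommutative G) (U : Subgroup G) [U.Normal] (hU : IsCyclic U) (n : ℕ) (hUn : Nat.card U = p ^ n) (hC : Subgroup.centralizer (U : Set G) = U) : (p = 2 ∧ Nat.card G = 2 ^ (n + 1) ∧ ((∃ m : ℕ, Nonempty (G ≃* DihedralGroup m)) ∨ (∃ m : ℕ, Nonempty (G ≃* QuaternionGroup m)) ∨ Cfsg.IsQuasiDihedral G)) ∨ (U.relIndex (Subgroup.centralizer (Cfsg.powerClosure p 1 U : Set G)) = p ∧ Cfsg.IsElementaryAbelian p (Cfsg.omegaOne p (Subgroup.centralizer (Cfsg.powerClosure p 1 U : Set G))) ∧ Nat.card ↥(Cfsg.omegaOne p (Subgroup.centralizer (Cfsg.powerClosure p 1 U : Set G))) = p ^ 2 ∧ (Cfsg.omegaOne p (Subgroup.centralizer (Cfsg.powerClosure p 1 U : Set G))).Characteristic) := by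
  obtain ⟨u, rfl⟩ := (Subgroup.isCyclic_iff_exists_zpowers_eq_top U).mp hU
  have hu : orderOf u = p ^ n := by rw [← Nat.card_zpowers]; exact hUn
  have hN : (Subgroup.zpowers u).Normal := inferInstance
  have hp := (Fact.out : p.Prime)
  have hC' : ∀ g : G, g * u = u * g → g ∈ Subgroup.zpowers u := by
    intro g hg
    rw [← hC, Subgroup.mem_centralizer_iff]
    intro h hh
    obtain ⟨k, rfl⟩ := Subgroup.mem_zpowers_iff.mp hh
    exact ((show Commute g u from hg).zpow_right k).eq.symm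
  have hne : ∃ g, g ∉ Subgroup.zpowers u := by
    by_contra hall
    push Not at hall
    exact hna ⟨⟨fun a b => comm_of_mem (hall a) (hall b)⟩⟩
  have hn2 : 2 ≤ n := by
    by_contra hlt
    obtain ⟨g, hg⟩ := hne
    obtain ⟨a, ha0, ha⟩ := exists_act hN g
    apply hg
    rw [mem_iff_modEq hu hC' ha]
    rcases (show n = 0 ∨ n = 1 by omega) with h0 | h1
    · subst h0; rw [pow_zero]; exact Nat.modEq_one
    · subst h1; rw [pow_one]; exact act_modEq_one hG hu le_rfl ha
  by_cases hp2 : p = 2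
  · subst hp2
    by_cases hM : 3 ≤ n ∧ ∃ m, m * u ^ 2 = u ^ 2 * m ∧ m ∉ Subgroup.zpowers u
    · right
      obtain ⟨hn3, m₀, hm₀, hm₀U⟩ := hM
      have h1 := relIndex_eq (p := 2) hu hn2 hN hC' hm₀ hm₀U
      have h2 := omega_two hu hn3 hN hC' hm₀ hm₀U
      exact ⟨h1, h2.1, h2.2, omega_char hN h2.1.2⟩
    · left
      have hM' : 3 ≤ n → ∀ m, m * u ^ 2 = u ^ 2 * m → m ∈ Subgroup.zpowers u := by
        intro hn3 m hm
        by_contra hmU
        exact hM ⟨hn3, m, hm, hmU⟩
      obtain ⟨g₁, hg₁U, hsq, hidx, hact⟩ := two_data hG hu hn2 hN hC' hM' hne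
      exact ⟨rfl, alt_one hG hna hu hn2 hN hg₁U hsq hidx hact⟩
  · right
    obtain ⟨h, hh⟩ := hne
    obtain ⟨g, hgU, hgp⟩ := exists_pow_mem hG (Subgroup.zpowers u) hh
    obtain ⟨a, ha0, ha⟩ := exists_act hN g
    have h1 : a ^ p ≡ 1 [MOD p ^ n] := (mem_iff_modEq hu hC' (act_pow ha p)).mp hgp
    have h2 : a ≡ 1 [MOD p ^ (n - 1)] := odd_lte hp2 ha0 h1
    have hm₀ : g * u ^ p = u ^ p * g := by
      apply comm_of_conj_eq
      rw [conj_pow_of_act ha p]
      have h3 : a * p ≡ 1 * p [MOD p ^ (n - 1) * p] := Nat.ModEq.mul_right' p h2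
      have h4 : p ^ (n - 1) * p = p ^ n := by
        obtain ⟨k, rfl⟩ : ∃ k, n = k + 1 := ⟨n - 1, by omega⟩
        rw [Nat.add_sub_cancel, pow_succ]
      rw [h4, one_mul, ← hu] at h3
      exact pow_eq_pow_iff_modEq.mpr h3
    have h5 := relIndex_eq hu hn2 hN hC' hm₀ hgU
    have h6 := omega_odd hp2 hG hu hn2 hN hC' hm₀ hgU
    exact ⟨h5, h6.1, h6.2, omega_char hN h6.1.2⟩

end Cfsg.Agent.S3761
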