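import Cfsg.Statements.S1140

set_option autoImplicit false
open Cfsg

namespace Cfsg.Agent.S1140

open Module

section

variable {F : Type*} [Field F]

/-- the automorphisms are linearly independent as functions -/
lemma li_fun : LinearIndependent F (fun σ : F ≃+* F => ((σ : F →+* F) : F → F)) := by
  have h := linearIndependent_monoidHom F F
  have hinj : Function.Injective (fun σ : F ≃+* F => ((σ : F →+* F) : F →* F)) := by
    intro σ τ hst
    ext x
    have := congrArg (fun f : F →* F => f x) hst
    exact this
  exact h.comp _ hinj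

end

section

variable {F : Type*} [Field F] [Fintype F] [CharP F 2]

/-- the key dimension count, stated with the algebra structure over `ZMod 2` -/
lemma aut_basis_data [Algebra (ZMod 2) F] :
    ∃ w : (F ≃+* F) → (F →ₗ[ZMod 2] F), (∀ σ x, w σ x = σ x) ∧ LinearIndependent F w ∧
      Nat.card (F ≃+* F) = finrank F (F →ₗ[ZMod 2] F) := by
  classical
  let w : (F ≃+* F) → (F →ₗ[ZMod 2] F) := fun σ => (σ : F →+ F).toZModLinearMap 2
  refine ⟨w, fun σ x => rfl, ?_, ?_⟩
  · -- linear independence
    have h := li_fun (F := F)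
    have hcomp : (fun σ : F ≃+* F => ((σ : F →+* F) : F → F)) =
        (LinearMap.ltoFun (ZMod 2) F F F) ∘ w := by
      funext σ
      rfl
    rw [hcomp] at h
    exact h.of_comp _
  · -- cardinality
    have e : (F ≃+* F) ≃ (F ≃ₐ[ZMod 2] F) :=
      { toFun := fun σ => AlgEquiv.ofRingEquiv (f := σ) (fun x => by
          obtain ⟨n, rfl⟩ := ZMod.natCast_zmod_surjective x
          rw [map_natCast, map_natCast])
        invFun := fun σ => σ.toRingEquiv
        left_inv := fun σ => by ext x; rfl
        right_inv := fun σ => by ext x; rfl }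
    rw [Nat.card_congr e, IsGalois.card_aut_eq_finrank,
      Module.finrank_linearMap, finrank_self, mul_one]

end

theorem result {F : Type*} [Field F] [Fintype F] [CharP F 2] :
    LinearIndependent F (fun σ : F ≃+* F => ((σ : F →+* F) : F → F)) ∧
      (∀ f : F →+ F, ∃ (s : Finset (F ≃+* F)) (c : (F ≃+* F) → F), ∀ x : F, f x = ∑ σ ∈ s, c σ * σ x) ∧
      ∀ B : F →+ F →+ F, ∃ (s : Finset ((F ≃+* F) × (F ≃+* F))) (c : (F ≃+* F) × (F ≃+* F) → F),
        ∀ x y : F, B x y = ∑ p ∈ s, c p * (p.1 x * p.2 y) := by
  classical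
  letI : Algebra (ZMod 2) F := ZMod.algebra F 2
  obtain ⟨w, hw, hli, hcard⟩ := aut_basis_data (F := F)
  haveI : Nonempty (F ≃+* F) := ⟨RingEquiv.refl F⟩
  haveI : Finite (F ≃+* F) := Finite.of_injective (fun σ : F ≃+* F => (σ : F → F))
    (fun σ τ h => RingEquiv.ext (fun x => congrFun h x))
  haveI : Fintype (F ≃+* F) := Fintype.ofFinite _
  rw [Nat.card_eq_fintype_card] at hcard
  let b : Basis (F ≃+* F) F (F →ₗ[ZMod 2] F) := basisOfLinearIndependentOfCardEqFinrank hli hcard
  have hb : ∀ σ, b σ = w σ := fun σ => by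
    simp only [b, coe_basisOfLinearIndependentOfCardEqFinrank]
  have part2 : ∀ f : F →+ F, ∃ c : (F ≃+* F) → F, ∀ x : F, f x = ∑ σ, c σ * σ x := by
    intro f
    refine ⟨fun σ => b.repr (f.toZModLinearMap 2) σ, fun x => ?_⟩
    have h := b.sum_repr (f.toZModLinearMap 2)
    have h2 := congrArg (fun g : F →ₗ[ZMod 2] F => g x) h
    simp only [LinearMap.sum_apply, LinearMap.smul_apply, hb, hw, smul_eq_mul,
      AddMonoidHom.coe_toZModLinearMap] at h2
    exact h2.symm
  refine ⟨li_fun, ?_, ?_⟩
  · intro f
    obtain ⟨c, hc⟩ := part2 f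
    exact ⟨Finset.univ, c, hc⟩
  · intro B
    -- coefficient functions
    let cf : (F ≃+* F) → (F →+ F) := fun τ =>
      { toFun := fun x => b.repr ((B x).toZModLinearMap 2) τ
        map_zero' := by
          have : (B 0).toZModLinearMap 2 = 0 := by
            rw [map_zero]; rfl
          rw [this, map_zero]; rfl
        map_add' := fun x y => by
          have : (B (x + y)).toZModLinearMap 2 =
              (B x).toZModLinearMap 2 + (B y).toZModLinearMap 2 := by
            rw [map_add]; rfl
          rw [this, map_add]; rfl }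
    have hB : ∀ x y, B x y = ∑ τ, cf τ x * τ y := by
      intro x y
      have h := b.sum_repr ((B x).toZModLinearMap 2)
      have h2 := congrArg (fun g : F →ₗ[ZMod 2] F => g y) h
      simp only [LinearMap.sum_apply, LinearMap.smul_apply, hb, hw, smul_eq_mul,
        AddMonoidHom.coe_toZModLinearMap] at h2
      exact h2.symm
    choose d hd using fun τ => part2 (cf τ)
    refine ⟨Finset.univ, fun p => d p.2 p.1, fun x y => ?_⟩
    rw [hB x y, Finset.univ_product_univ.symm, Finset.sum_product_right]
    apply Finset.sum_congr rfl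
    intro τ _
    rw [hd τ x, Finset.sum_mul]
    apply Finset.sum_congr rfl
    intro σ _
    ring

end Cfsg.Agent.S1140
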