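import Mathlib
import Cfsg.Statements.S1019
import Cfsg.Agent.Lib.Lead.ConjOrbit

namespace Cfsg.Agent.S1019

open Cfsg.Agent.Lib.Lead.ConjOrbit

/-- class size times centralizer order is the group order -/
theorem card_class_mul_card_centralizer {G : Type*} [Group G] [Finite G] (x : G) :
    Nat.card {g : G // IsConj x g} * Nat.card (Subgroup.centralizer ({x} : Set G)) = Nat.card G := by
  have h := card_eq_card_centralizer_inf_mul_ncard_conj (⊤ : Subgroup G) x
  rw [Subgroup.card_top, inf_top_eq] at h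
  rw [h, mul_comm]
  congr 1
  rw [← Nat.card_coe_set_eq]
  apply Nat.card_congr
  apply Equiv.subtypeEquivRight
  intro g
  rw [isConj_iff]
  constructor
  · rintro ⟨c, hc⟩; exact ⟨c, Subgroup.mem_top c, hc⟩
  · rintro ⟨c, _, hc⟩; exact ⟨c, hc⟩

/-- the number of `g` with `g⁻¹ x g ∈ S` (for a set `S` of conjugates) is `|S| * |C(x)|`. -/
theorem card_conj_into {G : Type*} [Group G] [Finite G] (x : G) (S : Set G)
    (hS : ∀ y ∈ S, IsConj x y) :
    Nat.card {g : G // g⁻¹ * x * g ∈ S} = Nat.card S * Nat.card (Subgroup.centralizer ({x} : Set G)) := by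
  classical
  haveI : Fintype S := Fintype.ofFinite S
  let f : {g : G // g⁻¹ * x * g ∈ S} → S := fun g => ⟨g.1⁻¹ * x * g.1, g.2⟩
  rw [Nat.card_congr (Equiv.sigmaFiberEquiv f).symm, Nat.card_sigma]
  have hfib : ∀ y : S, Nat.card {g : {g : G // g⁻¹ * x * g ∈ S} // f g = y} =
      Nat.card (Subgroup.centralizer ({x} : Set G)) := by
    intro y
    obtain ⟨c, hc⟩ := isConj_iff.mp (hS y.1 y.2)
    -- c * x * c⁻¹ = y ; g₀ = c⁻¹
    apply Nat.card_congr
    refine ⟨fun g => ⟨g.1.1 * c, ?_⟩, fun k => ⟨⟨k.1 * c⁻¹, ?_⟩, ?_⟩, ?_, ?_⟩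
    · have hg : g.1.1⁻¹ * x * g.1.1 = y.1 := congrArg Subtype.val g.2
      rw [Subgroup.mem_centralizer_iff]
      intro z hz
      rw [Set.mem_singleton_iff] at hz
      subst hz
      have h1 : g.1.1⁻¹ * z * g.1.1 = c * z * c⁻¹ := hg.trans hc.symm
      have h2 : z * (g.1.1 * c) = g.1.1 * (g.1.1⁻¹ * z * g.1.1) * c := by group
      rw [h2, h1]; group
    · have hk := k.2
      rw [Subgroup.mem_centralizer_iff] at hk
      have h1 := hk x (Set.mem_singleton x)
      have h2 : (k.1 * c⁻¹)⁻¹ * x * (k.1 * c⁻¹) = c * (k.1⁻¹ * (x * k.1)) * c⁻¹ := by group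
      rw [h2, h1]
      have h3 : c * (k.1⁻¹ * (k.1 * x)) * c⁻¹ = c * x * c⁻¹ := by group
      rw [h3, hc]; exact y.2
    · apply Subtype.ext
      have hk := k.2
      rw [Subgroup.mem_centralizer_iff] at hk
      have h1 := hk x (Set.mem_singleton x)
      change (k.1 * c⁻¹)⁻¹ * x * (k.1 * c⁻¹) = y.1
      have h2 : (k.1 * c⁻¹)⁻¹ * x * (k.1 * c⁻¹) = c * (k.1⁻¹ * (x * k.1)) * c⁻¹ := by group
      rw [h2, h1]
      have h3 : c * (k.1⁻¹ * (k.1 * x)) * c⁻¹ = c * x * c⁻¹ := by group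
      rw [h3, hc]
    · intro g
      apply Subtype.ext
      apply Subtype.ext
      change g.1.1 * c * c⁻¹ = g.1.1
      group
    · intro k
      apply Subtype.ext
      change k.1 * c⁻¹ * c = k.1
      group
  simp only [hfib, Finset.sum_const, Finset.card_univ, smul_eq_mul, Nat.card_eq_fintype_card]

theorem result {G : Type*} [Group G] [Finite G] (H : Subgroup G) (x : G) (hx : x ∈ H) : Nat.card (MulAction.fixedBy (G ⧸ H) x) * Nat.card {g : G // IsConj x g} = H.index * Nat.card {g : G // IsConj x g ∧ g ∈ H} := by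
  classical
  set S : Set G := {g : G | IsConj x g ∧ g ∈ H} with hS
  -- (1)
  have h1 : Nat.card {g : G // g⁻¹ * x * g ∈ S} =
      Nat.card H * Nat.card (MulAction.fixedBy (G ⧸ H) x) := by
    have e := QuotientGroup.preimageMkEquivSubgroupProdSet H (MulAction.fixedBy (G ⧸ H) x)
    rw [← Nat.card_prod, ← Nat.card_congr e]
    apply Nat.card_congr
    apply Equiv.subtypeEquivRight
    intro g
    rw [Set.mem_preimage, MulAction.mem_fixedBy, hS]
    change (IsConj x (g⁻¹ * x * g) ∧ g⁻¹ * x * g ∈ H) ↔ ((x * g : G) : G ⧸ H) = (g : G ⧸ H)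
    rw [QuotientGroup.eq]
    have hc : IsConj x (g⁻¹ * x * g) := isConj_iff.mpr ⟨g⁻¹, by group⟩
    constructor
    · rintro ⟨_, h⟩
      have e1 : (x * g)⁻¹ * g = (g⁻¹ * x * g)⁻¹ := by group
      rw [e1]; exact H.inv_mem h
    · intro h
      refine ⟨hc, ?_⟩
      have e1 : g⁻¹ * x * g = ((x * g)⁻¹ * g)⁻¹ := by group
      rw [e1]; exact H.inv_mem h
  have h2 := card_conj_into x S (fun y hy => hy.1)
  have h3 := card_class_mul_card_centralizer x
  have h4 := Subgroup.card_mul_index H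
  have hSc : Nat.card S = Nat.card {g : G // IsConj x g ∧ g ∈ H} := rfl
  rw [← hSc]
  set F := Nat.card (MulAction.fixedBy (G ⧸ H) x)
  set k := Nat.card {g : G // IsConj x g}
  set c := Nat.card (Subgroup.centralizer ({x} : Set G))
  set j := Nat.card S
  set h := Nat.card H
  have hhpos : 0 < h := Nat.card_pos
  have hcpos : 0 < c := Nat.card_pos
  rw [h1] at h2
  -- h2 : h * F = j * c ; h3 : k * c = |G| ; h4 : h * idx = |G|
  have : (F * k) * (h * c) = (H.index * j) * (h * c) := by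
    calc (F * k) * (h * c) = (h * F) * (k * c) := by ring
      _ = (j * c) * (h * H.index) := by rw [h2, h3, h4]
      _ = (H.index * j) * (h * c) := by ring
  exact Nat.eq_of_mul_eq_mul_right (Nat.mul_pos hhpos hcpos) this

end Cfsg.Agent.S1019
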