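import Cfsg.Statements.S0934
import Mathlib
import Cfsg.Agent.Lib.Helper6.BlkInd

set_option autoImplicit false
open Cfsg

namespace Cfsg.Agent.S0934

open Cfsg.Agent.Lib.Helper6

/-- Let H be a subgroup of the finite group G and fix a maximal ideal M of the algebraic integers containing the prime p. If the block b of H induces the block B of G and ξ ∈ b, then there is χ ∈ B whose restriction to H has nonzero inner product with ξ. -/
theorem result {G : Type*} [Group G] [Fintype G] (p : ℕ) [Fact p.Prime] (M : Ideal Cfsg.AlgInt) (hM : Cfsg.IsPModular p M) (H : Subgroup G) [Fintype H] (b : Set (Cfsg.IrrCharacter H)) (B : Set (Cfsg.IrrCharacter G)) (hind : Cfsg.IsInducedBlock M H b B) (ξ : Cfsg.IrrCharacter H) (hξ : ξ ∈ b) : ∃ χ ∈ B, Cfsg.classInner (fun h : H => (χ : G → ℂ) h) (ξ : H → ℂ) ≠ 0 := by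
  classical
  have : Fintype (Cfsg.IrrCharacter G) := Fintype.ofFinite _
  obtain ⟨χ₀, hB⟩ := hind.2.1
  have hχ₀B : χ₀ ∈ B := by rw [hB]; exact sameBlock_refl hM _
  by_contra hne
  push Not at hne
  have hEc : blockMat B ∈ centerAlg G := blockMat_mem_centerAlg B
  have hEs : blockMat B ∈ sMat hM G := by rw [hB]; exact blockMat_mem_sMat hM χ₀
  have h1 := IsInducedBlock.cOmega_sub H hM hind ξ hξ χ₀ hχ₀B hEc hEs
  rw [cOmega_blockMat, if_pos hχ₀B] at h1
  have h2 : cOmega (ξ : H → ℂ) (resMat H (blockMat B)) = 0 := by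
    unfold blockMat
    rw [resMat_regMat, cOmega_regMat]
    have : ∑ h : H, resFun H (fun g => Cfsg.blockCoeff B g) h * (ξ : H → ℂ) h = 0 := by
      have e1 : ∀ h : H, resFun H (fun g => Cfsg.blockCoeff B g) h * (ξ : H → ℂ) h
          = ∑ χ ∈ Finset.univ.filter (· ∈ B), (Nat.card G : ℂ)⁻¹ * ((χ : G → ℂ) 1 *
              ((ξ : H → ℂ) h * (starRingEnd ℂ) ((χ : G → ℂ) h))) := by
        intro h
        rw [resFun_apply, blockCoeff_eq_sum, Finset.sum_mul]
        apply Finset.sum_congr rfl
        intro χ _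
        unfold idemFun
        ring
      rw [Finset.sum_congr rfl (fun h _ => e1 h), Finset.sum_comm]
      apply Finset.sum_eq_zero
      intro χ hχ
      have hχB : χ ∈ B := (Finset.mem_filter.mp hχ).2
      have h0 := hne χ hχB
      have h0' : Cfsg.classInner (ξ : H → ℂ) (fun h : H => (χ : G → ℂ) h) = 0 := by
        rw [← classInner_conj_symm, h0, map_zero]
      unfold Cfsg.classInner at h0'
      have hH0 : (Nat.card H : ℂ) ≠ 0 := card_ne_zero_complex H
      have h0'' : ∑ h : H, (ξ : H → ℂ) h * (starRingEnd ℂ) ((χ : G → ℂ) h) = 0 := by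
        rcases mul_eq_zero.mp h0' with h | h
        · exact absurd (inv_eq_zero.mp h) hH0
        · exact h
      rw [← Finset.mul_sum, ← Finset.mul_sum, h0'', mul_zero, mul_zero]
    rw [this, zero_div]
  rw [h2, zero_sub] at h1
  have := MemLocalIdeal.neg h1
  rw [neg_neg] at this
  exact not_memLocalIdeal_one hM this

end Cfsg.Agent.S0934
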