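import Cfsg.Statements.S0968
import Mathlib
import Cfsg.Agent.Lib.Helper6.TwistNormal

set_option autoImplicit false
open Cfsg

namespace Cfsg.Agent.S0968

open Cfsg.Agent.Lib.Helper6

/-- Let P be a p-subgroup of the finite group G with P ⊔ C_G(P) = G, and let B be a block with defect group P relative to a maximal ideal M of the algebraic integers containing p. Then there is exactly one θ ∈ B with θ x = θ 1 for all x ∈ P; for this θ the exponent of p in θ(1) equals the exponent of p in the index of P; and the number of members of B equals the number of conjugacy classes of P. -/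
theorem result {G : Type*} [Group G] [Finite G] (p : ℕ) [Fact p.Prime] (M : Ideal Cfsg.AlgInt) (hM : Cfsg.IsPModular p M) (P : Subgroup G) (hP : IsPGroup p P) (hG : P ⊔ Subgroup.centralizer (P : Set G) = ⊤) (B : Set (Cfsg.IrrCharacter G)) (hB : Cfsg.IsPBlock M B) (hD : Cfsg.IsDefectGroup p M B P) : (∃! θ : Cfsg.IrrCharacter G, θ ∈ B ∧ ∀ x ∈ P, (θ : G → ℂ) x = (θ : G → ℂ) 1) ∧ (∀ θ ∈ B, (∀ x ∈ P, (θ : G → ℂ) x = (θ : G → ℂ) 1) → (Cfsg.charDegree (θ : G → ℂ)).factorization p = P.index.factorization p) ∧ Nat.card B = Nat.card (ConjClasses P) := by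
  classical
  haveI : Fintype G := Fintype.ofFinite G
  haveI := normal_of_sup_centralizer_eq_top P hG
  obtain ⟨χ₀, rfl⟩ := hB
  obtain ⟨θ₀, hθ₀B, hθ₀⟩ := exists_mem_block_const_on_normal hM χ₀ P hP
  have hBeq : Cfsg.blockOf M (χ₀ : G → ℂ) = Cfsg.blockOf M (θ₀ : G → ℂ) :=
    blockOf_eq_of_mem hM hθ₀B
  have hdeg := factorization_eq_index_of_const_on hM _ ⟨χ₀, rfl⟩ P hD θ₀ hθ₀B hθ₀
  have hH := hH_of_const_on (p := p) P θ₀ hθ₀
  have hrange := blockOf_eq_range_twIrr P hP hG θ₀ hdeg (oneIrr P) hH hM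
  refine ⟨⟨θ₀, ⟨hθ₀B, hθ₀⟩, ?_⟩, ?_, ?_⟩
  · rintro θ ⟨hθB, hθ⟩
    rw [hBeq, hrange] at hθB
    obtain ⟨ζ, rfl⟩ := hθB
    rw [eq_oneIrr_of_twIrr_const_on P hP hG θ₀ hdeg (oneIrr P) hH ζ hθ]
    exact twIrr_lam P hP hG θ₀ hdeg (oneIrr P) hH
  · intro θ hθB hθ
    exact factorization_eq_index_of_const_on hM _ ⟨χ₀, rfl⟩ P hD θ hθB hθ
  · rw [hBeq]
    exact card_blockOf_twist P hP hG θ₀ hdeg (oneIrr P) hH hM

end Cfsg.Agent.S0968
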