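import Cfsg.Statements.S4714
import Mathlib
import Cfsg.Agent.Lib.Helper6.TwistNormal

set_option autoImplicit false
open Cfsg

namespace Cfsg.Agent.S4714

open Cfsg.Agent.Lib.Helper6

/-- Let p be a prime, M a maximal ideal of the algebraic integers containing p, D a p-subgroup of the finite group G with G = D·C_G(D), and B a p-block with defect group D. Let χ be a member of B having D in its kernel (there is exactly one, the canonical character of B). Then the irreducible characters in B are exactly the functions θ on G for which there is an irreducible character ζ of D such that θ(yx) = ζ(y)χ(x) whenever y ∈ D, x has order prime to p and x commutes with y, and θ(z) = 0 whenever the p-part of z does not lie in D. -/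
theorem result {G : Type*} [Group G] [Finite G] (p : ℕ) [Fact p.Prime] (M : Ideal Cfsg.AlgInt) (hM : Cfsg.IsPModular p M) (D : Subgroup G) (hD : IsPGroup p D) (hG : D ⊔ Subgroup.centralizer (D : Set G) = ⊤) (B : Set (Cfsg.IrrCharacter G)) (hB : Cfsg.IsPBlock M B) (hBD : Cfsg.IsDefectGroup p M B D) (χ : Cfsg.IrrCharacter G) (hχ : χ ∈ B) (hχD : ∀ y ∈ D, (χ : G → ℂ) y = (χ : G → ℂ) 1) : (∀ θ : Cfsg.IrrCharacter G, θ ∈ B ↔ ∃ ζ : Cfsg.IrrCharacter D, (∀ (y : D) (x : G), ¬ p ∣ orderOf x → Commute (y : G) x → (θ : G → ℂ) ((y : G) * x) = (ζ : D → ℂ) y * (χ : G → ℂ) x) ∧ (∀ z : G, (∀ y : G, Cfsg.IsPPart p z y → y ∉ D) → (θ : G → ℂ) z = 0)) ∧ ∀ ζ : Cfsg.IrrCharacter D, ∃ θ ∈ B, (∀ (y : D) (x : G), ¬ p ∣ orderOf x → Commute (y : G) x → (θ : G → ℂ) ((y : G) * x) = (ζ : D → ℂ) y * (χ : G → ℂ) x) ∧ (∀ z : G, (∀ y : G, Cfsg.IsPPart p z y → y ∉ D) → (θ : G → ℂ) z = 0) := by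
  classical
  haveI : Fintype G := Fintype.ofFinite G
  haveI := normal_of_sup_centralizer_eq_top D hG
  have hdeg := factorization_eq_index_of_const_on hM B hB D hBD χ hχ hχD
  obtain ⟨χ₀, rfl⟩ := hB
  have hBeq : Cfsg.blockOf M (χ₀ : G → ℂ) = Cfsg.blockOf M (χ : G → ℂ) :=
    blockOf_eq_of_mem hM hχ
  have hH := hH_of_const_on (p := p) D χ hχD
  have hrange := blockOf_eq_range_twIrr D hD hG χ hdeg (oneIrr D) hH hM
  have key : ∀ ζ : Cfsg.IrrCharacter D,
      (∀ (y : D) (x : G), ¬ p ∣ orderOf x → Commute (y : G) x →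
        ((twIrr D hD hG χ hdeg (oneIrr D) hH ζ : Cfsg.IrrCharacter G) : G → ℂ) ((y : G) * x)
          = (ζ : D → ℂ) y * (χ : G → ℂ) x) ∧
      (∀ z : G, (∀ y : G, Cfsg.IsPPart p z y → y ∉ D) →
        ((twIrr D hD hG χ hdeg (oneIrr D) hH ζ : Cfsg.IrrCharacter G) : G → ℂ) z = 0) := by
    intro ζ
    refine ⟨?_, ?_⟩
    · intro y x hx hc
      exact tw_apply_mul_of_commute D hD _ _ y x hx hc
    · intro z hz
      exact tw_apply_of_not_mem D _ _ (hz _ (isPPart_ppEl z))
  refine ⟨?_, ?_⟩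
  · intro θ
    constructor
    · intro hθ
      rw [hBeq, hrange] at hθ
      obtain ⟨ζ, rfl⟩ := hθ
      exact ⟨ζ, key ζ⟩
    · rintro ⟨ζ, h1, h2⟩
      rw [hBeq, hrange]
      refine ⟨ζ, ?_⟩
      apply Subtype.ext
      funext g
      change tw p D (χ : G → ℂ) (ζ : D → ℂ) g = (θ : G → ℂ) g
      by_cases hg : ppEl p g ∈ D
      · rw [tw_apply_of_mem D _ _ hg]
        have h3 := h1 ⟨ppEl p g, hg⟩ (prEl p g) (prEl_pRegular g) (commute_ppEl_prEl g)
        simp only at h3
        rw [ppEl_mul_prEl] at h3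
        exact h3.symm
      · rw [tw_apply_of_not_mem D _ _ hg]
        symm
        apply h2
        intro y hy
        rw [← ppEl_eq_of_isPPart hy]
        exact hg
  · intro ζ
    refine ⟨twIrr D hD hG χ hdeg (oneIrr D) hH ζ, ?_, key ζ⟩
    rw [hBeq, hrange]
    exact ⟨ζ, rfl⟩

end Cfsg.Agent.S4714
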