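import Cfsg.Statements.S4441
import Mathlib
import Cfsg.Agent.Lib.Helper6.PB13
import Cfsg.Agent.Lib.Helper6.BlkDefect

set_option autoImplicit false
open Cfsg

namespace Cfsg.Agent.S4441

open Cfsg.Agent.Lib.Helper6

/-- Let p be an odd prime and G a finite group whose Sylow p-subgroup P has order p; let C = C_G(P), N = N_G(P), e the index of C in N and t = (p − 1)/e; fix a maximal ideal M of the algebraic integers containing p and let B₀ be the principal block. Then B₀ is the disjoint union of a set X of e characters and a set Y of t characters such that: each χ ∈ X has a sign ε_χ with χ(1) ≡ ε_χ (mod p) and χ(x y) = ε_χ for every non-identity x ∈ P and every p-regular y ∈ C; all members of Y agree on the p-regular elements of G; there is one sign ε with θ(1) ≡ ε e (mod p) for every θ ∈ Y; and for every θ ∈ Y and every p-regular g, ε θ(g) = Σ_{χ ∈ X} ε_χ χ(g). -/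
theorem result {G : Type*} [Group G] [Fintype G] (p : ℕ) [Fact p.Prime] (M : Ideal Cfsg.AlgInt) (hM : Cfsg.IsPModular p M) (hodd : p ≠ 2) (P : Sylow p G) (hP : Nat.card P = p) (e : ℕ) (he : (Subgroup.centralizer ((P : Subgroup G) : Set G)).relIndex (Subgroup.normalizer ((P : Subgroup G) : Set G)) = e) : ∃ X Y : Set (Cfsg.IrrCharacter G), Cfsg.principalBlock M G = X ∪ Y ∧ Disjoint X Y ∧ Nat.card X = e ∧ Nat.card Y = (p - 1) / e ∧ ∃ (εX : Cfsg.IrrCharacter G → ℤ) (ε : ℤ), (∀ χ ∈ X, (εX χ = 1 ∨ εX χ = -1) ∧ (Cfsg.charDegree (χ : G → ℂ) : ℤ) ≡ εX χ [ZMOD p] ∧ ∀ x : G, x ∈ (P : Subgroup G) → x ≠ 1 → ∀ y : G, y ∈ Subgroup.centralizer ((P : Subgroup G) : Set G) → ¬ p ∣ orderOf y → (χ : G → ℂ) (x * y) = (εX χ : ℂ)) ∧ (ε = 1 ∨ ε = -1) ∧ (∀ θ ∈ Y, (Cfsg.charDegree (θ : G → ℂ) : ℤ) ≡ ε * (e : ℤ) [ZMOD p]) ∧ (∀ θ ∈ Y, ∀ θ' ∈ Y, ∀ g : G, ¬ p ∣ orderOf g → (θ : G → ℂ) g = (θ' : G → ℂ) g) ∧ ∀ θ ∈ Y, ∀ g : G, ¬ p ∣ orderOf g → (ε : ℂ) * (θ : G → ℂ) g = ∑ᶠ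 χ ∈ X, (εX χ : ℂ) * (χ : G → ℂ) g := by
  classical
  have : Fintype ↥(Subgroup.centralizer ((P : Subgroup G) : Set G)) := Fintype.ofFinite _
  have : Fintype ↥(Subgroup.normalizer ((P : Subgroup G) : Set G)) := Fintype.ofFinite _
  have : Fintype (Cfsg.IrrCharacter G) := Fintype.ofFinite _
  obtain ⟨L, hL⟩ : ∃ L : PB.Loc M P, L = PB.prin P hM := ⟨_, rfl⟩
  have hB : Cfsg.IsPBlock M (Cfsg.principalBlock M G) := isPBlock_principalBlock
  have hBP : Cfsg.IsDefectGroup p M (Cfsg.principalBlock M G) (P : Subgroup G) :=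
    PB.prin_defect P hM
  have hind : Cfsg.IsInducedBlock M (Subgroup.centralizer ((P : Subgroup G) : Set G)) L.b
      (Cfsg.principalBlock M G) := by
    rw [hL]; exact PB.prin_induced P hM
  have hstab : ∀ n : Subgroup.normalizer ((P : Subgroup G) : Set G), PB.act P n L.θ = L.θ := by
    rw [hL]; exact PB.prin_stab P hM
  have hLe : L.e = e := by
    rw [hL, PB.prin_e, he]
  have hθ1 : ∀ c, (L.θ : Subgroup.centralizer ((P : Subgroup G) : Set G) → ℂ) c = 1 := by
    rw [hL]; exact PB.prin_theta_apply P hM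
  have hdθ : Cfsg.charDegree
      (L.θ : Subgroup.centralizer ((P : Subgroup G) : Set G) → ℂ) = 1 := by
    rw [hL]; exact PB.prin_charDegree P hM
  obtain ⟨K⟩ := L.exists_str hP hM hB hBP hind
  have hJe := L.card_J_mul_e hP hM
  have hepos : 0 < e := hLe ▸ L.e_pos
  rw [hLe] at hJe
  have hJ : Nat.card L.J = (p - 1) / e := by
    rw [← hJe]
    exact (Nat.mul_div_cancel _ hepos).symm
  obtain ⟨j₀⟩ := L.nonempty_J hP hM
  refine ⟨K.S, K.Y, K.union_eq, K.disjoint, ?_, ?_, K.δ, -(K.δ (K.Λ j₀)), ?_, ?_, ?_, ?_, ?_⟩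
  · rw [K.card_S hP hM hind hB hBP, hLe]
  · rw [K.card_Y, hJ]
  · intro χ hχ
    refine ⟨K.sgn χ, ?_, ?_⟩
    · have h := K.degree_S hP hM hB hBP hind hχ
      rw [he, hLe, hdθ, Nat.div_self hepos] at h
      simpa using h
    · intro x hx hx1 y hy hyreg
      have hxy : x * y ∈ Subgroup.centralizer ((P : Subgroup G) : Set G) :=
        mul_mem (PB.P_le_C P hP hx) hy
      have hcomm : Commute y x := by
        have := (Subgroup.mem_centralizer_iff.mp hy) x hx
        exact this.symm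
      have hsing : p ∣ orderOf (x * y) := by
        rw [← hcomm.eq]
        exact pSingular_mul_of_commute (Fact.out : p.Prime) hyreg hx1 (j := 1)
          (by rw [pow_one]; exact PB.orderOf_eq_of_mem P hP hx hx1) hcomm
      have hc : p ∣ orderOf (⟨x * y, hxy⟩ : Subgroup.centralizer ((P : Subgroup G) : Set G)) := by
        rw [← Subgroup.orderOf_coe]
        exact hsing
      have h := K.value_S hP hM hB hBP hind hstab hχ ⟨x * y, hxy⟩ hc
      rw [hθ1, mul_one] at h
      exact h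
  · rcases K.sgn (K.Λ j₀) with h | h <;> rw [h] <;> simp
  · rintro ψ ⟨j, rfl⟩
    have h := K.degree_Y hP hM hB hBP hind j
    rw [he, hdθ, K.sign_const hP hM hind j j₀, mul_one] at h
    exact h
  · rintro ψ ⟨i, rfl⟩ ψ' ⟨j, rfl⟩ g hg
    exact K.agree hP hM hind i j g hg
  · rintro ψ ⟨j, rfl⟩ g hg
    have h := K.relation hP hM hind j g hg
    rw [finsum_mem_eq_sum_filter_lib, ← K.sign_const hP hM hind j j₀]
    push_cast
    linear_combination -h

end Cfsg.Agent.S4441
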