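import Cfsg.Statements.S0957
import Mathlib
import Cfsg.Agent.Lib.Helper6.ClassSum

set_option autoImplicit false
open Cfsg

namespace Cfsg.Agent.S0957

/-- Let P be a Sylow p-subgroup of the finite group G, let g, h ∈ G and let p ^ d be the order of a Sylow p-subgroup of the centralizer of g. Then the number of pairs (y, z) with y conjugate to g, z conjugate to h and z * y⁻¹ ∈ P is divisible by the order of P divided by p ^ d. -/
theorem result {G : Type*} [Group G] [Finite G] (p : ℕ) [Fact p.Prime] (P : Sylow p G) (g h : G) (S : Sylow p (Subgroup.centralizer ({g} : Set G))) : Nat.card P / Nat.card S ∣ Nat.card {yz : G × G // IsConj g yz.1 ∧ IsConj h yz.2 ∧ yz.2 * yz.1⁻¹ ∈ (P : Subgroup G)} := by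
  classical
  have : Fintype G := Fintype.ofFinite G
  have hp : p.Prime := Fact.out
  let X : Type _ := {yz : G × G // IsConj g yz.1 ∧ IsConj h yz.2 ∧ yz.2 * yz.1⁻¹ ∈ (P : Subgroup G)}
  let act : ↥(P : Subgroup G) → X → X := fun a yz =>
    ⟨((a : G) * yz.1.1 * (a : G)⁻¹, (a : G) * yz.1.2 * (a : G)⁻¹), by
      refine ⟨yz.2.1.trans (isConj_iff.mpr ⟨a, rfl⟩), yz.2.2.1.trans (isConj_iff.mpr ⟨a, rfl⟩), ?_⟩
      have h3 := yz.2.2.2
      have h4 : (a : G) * yz.1.2 * (a : G)⁻¹ * ((a : G) * yz.1.1 * (a : G)⁻¹)⁻¹
          = (a : G) * (yz.1.2 * yz.1.1⁻¹) * (a : G)⁻¹ := by group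
      rw [h4]
      exact (P : Subgroup G).mul_mem ((P : Subgroup G).mul_mem a.2 h3) ((P : Subgroup G).inv_mem a.2)⟩
  let _ : MulAction (P : Subgroup G) X :=
    { smul := act
      one_smul := by
        intro xy
        apply Subtype.ext
        apply Prod.ext
        · change ((1 : (P : Subgroup G)) : G) * xy.1.1 * ((1 : (P : Subgroup G)) : G)⁻¹ = xy.1.1
          simp
        · change ((1 : (P : Subgroup G)) : G) * xy.1.2 * ((1 : (P : Subgroup G)) : G)⁻¹ = xy.1.2
          simp
      mul_smul := by
        intro a b xy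
        apply Subtype.ext
        apply Prod.ext
        · change ((a * b : (P : Subgroup G)) : G) * xy.1.1 * ((a * b : (P : Subgroup G)) : G)⁻¹
            = (a : G) * ((b : G) * xy.1.1 * (b : G)⁻¹) * (a : G)⁻¹
          simp [mul_assoc]
        · change ((a * b : (P : Subgroup G)) : G) * xy.1.2 * ((a * b : (P : Subgroup G)) : G)⁻¹
            = (a : G) * ((b : G) * xy.1.2 * (b : G)⁻¹) * (a : G)⁻¹
          simp [mul_assoc] }
  have hsmul : ∀ (a : (P : Subgroup G)) (xy : X),
      (a • xy).1 = ((a : G) * xy.1.1 * (a : G)⁻¹, (a : G) * xy.1.2 * (a : G)⁻¹) := fun _ _ => rfl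
  have : Fintype X := Fintype.ofFinite X
  have : Fintype (P : Subgroup G) := Fintype.ofFinite _
  have : Fintype (Quotient (MulAction.orbitRel (P : Subgroup G) X)) := Fintype.ofFinite _
  have hclass := MulAction.card_eq_sum_card_group_div_card_stabilizer (P : Subgroup G) X
  change Nat.card (P : Subgroup G) / Nat.card S ∣ Nat.card X
  rw [Nat.card_eq_fintype_card (α := X), hclass]
  apply Finset.dvd_sum
  intro ω _
  set xy := ω.out with hxy
  -- cardinalities
  have hScard := S.card_eq_multiplicity
  have hPcard := P.card_eq_multiplicity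
  have hCg0 : Nat.card (Subgroup.centralizer ({g} : Set G)) ≠ 0 := Nat.card_pos.ne'
  have hG0 : Nat.card G ≠ 0 := Nat.card_pos.ne'
  -- the centralizers of conjugate elements have the same order
  have hcent : Nat.card (Subgroup.centralizer ({xy.1.1} : Set G))
      = Nat.card (Subgroup.centralizer ({g} : Set G)) := by
    have h1 := Cfsg.Agent.Lib.Helper6.card_conj_mul_card_centralizer g
    have h2 := Cfsg.Agent.Lib.Helper6.card_conj_mul_card_centralizer xy.1.1
    have h3 : (Finset.univ.filter (fun x : G => IsConj xy.1.1 x))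
        = (Finset.univ.filter (fun x : G => IsConj g x)) := by
      ext x
      simp only [Finset.mem_filter, Finset.mem_univ, true_and]
      exact ⟨fun hx => xy.2.1.trans hx, fun hx => xy.2.1.symm.trans hx⟩
    rw [h3, ← h1] at h2
    have hpos : 0 < (Finset.univ.filter (fun x : G => IsConj g x)).card := by
      apply Finset.card_pos.mpr
      exact ⟨g, by simp only [Finset.mem_filter, Finset.mem_univ, true_and]; exact IsConj.refl g⟩
    exact Nat.eq_of_mul_eq_mul_left hpos h2
  -- the stabilizer embeds into the centralizer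
  have hstabp : IsPGroup p (MulAction.stabilizer (P : Subgroup G) xy) := P.2.to_subgroup _
  obtain ⟨e, he⟩ := IsPGroup.iff_card.mp hstabp
  let f : MulAction.stabilizer (P : Subgroup G) xy →* Subgroup.centralizer ({xy.1.1} : Set G) :=
    { toFun := fun a => ⟨((a : (P : Subgroup G)) : G), by
        rw [Subgroup.mem_centralizer_iff]
        intro y hy
        rw [Set.mem_singleton_iff] at hy
        subst hy
        have h1 := a.2
        rw [MulAction.mem_stabilizer_iff] at h1
        have h2 := congrArg (fun t : X => t.1.1) h1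
        simp only [hsmul] at h2
        calc xy.1.1 * ((a : (P : Subgroup G)) : G)
            = (((a : (P : Subgroup G)) : G) * xy.1.1 * ((a : (P : Subgroup G)) : G)⁻¹)
              * ((a : (P : Subgroup G)) : G) := by rw [h2]
          _ = ((a : (P : Subgroup G)) : G) * xy.1.1 := by group⟩
      map_one' := rfl
      map_mul' := fun _ _ => rfl }
  have hfinj : Function.Injective f := by
    intro a b hab
    apply Subtype.ext
    apply Subtype.ext
    exact congrArg (fun t : Subgroup.centralizer ({xy.1.1} : Set G) => (t : G)) hab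
  have hdvd1 : Nat.card (MulAction.stabilizer (P : Subgroup G) xy)
      ∣ Nat.card (Subgroup.centralizer ({g} : Set G)) := by
    rw [← hcent]
    exact Subgroup.card_dvd_of_injective f hfinj
  have hdvd2 : Nat.card (MulAction.stabilizer (P : Subgroup G) xy) ∣ Nat.card S := by
    rw [hScard, he]
    apply pow_dvd_pow
    rw [he] at hdvd1
    exact (hp.pow_dvd_iff_le_factorization hCg0).mp hdvd1
  have hdvd3 : Nat.card S ∣ Nat.card (P : Subgroup G) := by
    rw [hScard, hPcard]
    apply pow_dvd_pow
    have h1 : p ^ (Nat.card (Subgroup.centralizer ({g} : Set G))).factorization p ∣ Nat.card G :=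
      dvd_trans (Nat.ordProj_dvd _ p) (Subgroup.card_subgroup_dvd_card _)
    exact (hp.pow_dvd_iff_le_factorization hG0).mp h1
  obtain ⟨k, hk⟩ := hdvd2
  obtain ⟨m, hm⟩ := hdvd3
  have hstabpos : 0 < Nat.card (MulAction.stabilizer (P : Subgroup G) xy) := Nat.card_pos
  have hSpos : 0 < Nat.card S := Nat.card_pos
  rw [← Nat.card_eq_fintype_card, ← Nat.card_eq_fintype_card]
  have h1 : Nat.card (P : Subgroup G) / Nat.card S = m := by
    rw [hm]
    exact Nat.mul_div_cancel_left m hSpos
  have h2 : Nat.card (P : Subgroup G) / Nat.card (MulAction.stabilizer (P : Subgroup G) xy)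
      = k * m := by
    rw [hm, hk, mul_assoc]
    exact Nat.mul_div_cancel_left (k * m) hstabpos
  rw [h1, h2]
  exact Dvd.intro_left k rfl


end Cfsg.Agent.S0957
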