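import Cfsg.Statements.S0910
import Mathlib
import Cfsg.Agent.S0143
import Cfsg.Agent.S0142
import Cfsg.Agent.Lib.Helper6.BlkLocal
import Cfsg.Agent.Lib.Helper6.CharBasic
import Cfsg.Agent.Lib.Helper6.DegreeDvd
import Cfsg.Agent.Lib.Helper6.Multiplicity

set_option autoImplicit false
open Cfsg

namespace Cfsg.Agent.S0910

open Cfsg.Agent.Lib.Helper6

/-- Let G be a non-abelian finite simple group and p a prime. If an irreducible character χ lies in the principal block (relative to a maximal ideal of the algebraic integers containing p) and χ 1 is a power of p, then χ is the principal character. -/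
theorem result {G : Type*} [Group G] [Finite G] (p : ℕ) [Fact p.Prime] (M : Ideal Cfsg.AlgInt) (hM : Cfsg.IsPModular p M) [IsSimpleGroup G] (hna : ∃ a b : G, a * b ≠ b * a) (χ : Cfsg.IrrCharacter G) (hχ : χ ∈ Cfsg.principalBlock M G) (k : ℕ) (hdeg : (χ : G → ℂ) 1 = (p : ℂ) ^ k) : (χ : G → ℂ) = fun _ => 1 := by

  classical
  haveI : Fintype G := Fintype.ofFinite G
  have hpr : p.Prime := Fact.out
  by_contra hne
  obtain ⟨n, ρ, hirr, hchar⟩ := χ.2
  haveI := hirr
  have hnc : ¬ ∀ x y : G, x * y = y * x := by
    obtain ⟨a, b, hab⟩ := hna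
    intro h
    exact hab (h a b)
  have h1 : (χ : G → ℂ) 1 = (n : ℂ) := by
    rw [← hchar, Representation.char_one]
    simp
  have hn : n = p ^ k := by
    rw [h1] at hdeg
    exact_mod_cast hdeg
  have hne' : ρ.character ≠ fun _ => (1 : ℂ) := by rw [hchar]; exact hne
  rcases Nat.eq_zero_or_pos k with hk | hk
  · -- linear character
    obtain ⟨a, b, hab⟩ := hna
    have ha1 : a ≠ 1 := by
      rintro rfl
      simp at hab
    have hn1 : n = 1 := by rw [hn, hk, pow_zero]
    subst hn1
    apply hnc
    refine Cfsg.Agent.S0143.comm_of_scalar a ha1 ρ hne' (ρ a (fun _ => 1) 0) ?_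
    apply LinearMap.ext
    intro v
    funext i
    have hi : i = 0 := Subsingleton.elim _ _
    subst hi
    have hv : v = (v 0) • (fun _ => (1 : ℂ)) := by
      funext j
      have hj : j = 0 := Subsingleton.elim _ _
      subst hj
      simp
    conv_lhs => rw [hv, map_smul]
    simp [mul_comm]
  · -- p divides the degree
    have hpn : p ∣ n := by rw [hn]; exact dvd_pow_self p hk.ne'
    have hnG : n ∣ Nat.card G := by
      have := IsIrrCharacter.charDegree_dvd_card χ.2
      have hdeg' : Cfsg.charDegree (χ : G → ℂ) = n := by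
        unfold Cfsg.charDegree
        rw [h1]
        simp
      rwa [hdeg'] at this
    have hpG : p ∣ Nat.card G := dvd_trans hpn hnG
    obtain ⟨P⟩ : Nonempty (Sylow p G) := inferInstance
    have hPnt : Nontrivial (P : Subgroup G) := by
      rw [← Finite.one_lt_card_iff_nontrivial]
      have hc := P.card_eq_multiplicity
      have hpos : 0 < (Nat.card G).factorization p :=
        (hpr.factorization_pos_of_dvd Nat.card_pos.ne' hpG)
      rw [hc]
      exact Nat.one_lt_pow hpos.ne' hpr.one_lt
    have hcn : Nontrivial (Subgroup.center (P : Subgroup G)) := P.isPGroup'.center_nontrivial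
    obtain ⟨z, hz⟩ := exists_ne (1 : Subgroup.center (P : Subgroup G))
    obtain ⟨g, hg⟩ : ∃ g : G, g = ((z : (P : Subgroup G)) : G) := ⟨_, rfl⟩
    have hg1 : g ≠ 1 := by
      intro h
      apply hz
      apply Subtype.ext
      apply Subtype.ext
      rw [← hg, h]
      rfl
    have hPle : (P : Subgroup G) ≤ Subgroup.centralizer ({g} : Set G) := by
      intro w hw
      rw [Subgroup.mem_centralizer_singleton_iff]
      have := Subgroup.mem_center_iff.1 z.2 ⟨w, hw⟩
      have h2 := congrArg Subtype.val this
      rw [hg]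
      exact h2
    have hidx : ¬ p ∣ (Subgroup.centralizer ({g} : Set G)).index := by
      intro hd
      have h2 : (Subgroup.centralizer ({g} : Set G)).index ∣ (P : Subgroup G).index :=
        Subgroup.index_dvd_of_le hPle
      exact P.not_dvd_index (dvd_trans hd h2)
    have hcop : Nat.Coprime (Module.finrank ℂ (Fin n → ℂ))
        (Subgroup.centralizer ({g} : Set G)).index := by
      rw [Module.finrank_fin_fun, hn]
      exact Nat.Coprime.pow_left k ((Nat.Prime.coprime_iff_not_dvd hpr).mpr hidx)
    have hzero : (χ : G → ℂ) g = 0 := by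
      rcases Cfsg.Agent.S0142.result ρ g hcop with h0 | h0
      · rw [← hchar]; exact h0
      · exfalso
        obtain ⟨ω, hω⟩ := (norm_character_eq_iff ρ g).mp h0
        exact hnc (Cfsg.Agent.S0143.comm_of_scalar g hg1 ρ hne' ω hω)
    have hsb : Cfsg.SameBlock M (fun _ : G => (1 : ℂ)) (χ : G → ℂ) := hχ
    have h2 := hsb g
    unfold Cfsg.centralChar at h2
    rw [hzero] at h2
    simp only [mul_one, div_one, mul_zero, zero_div, sub_zero] at h2
    rw [memLocalIdeal_natCast_iff hM] at h2
    exact hidx h2


end Cfsg.Agent.S0910
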