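import Mathlib
import Cfsg.Statements.S0206
import Cfsg.Agent.Lib.Lead.Dihedral

set_option autoImplicit false
open Cfsg
open Cfsg.Agent.Lib.Lead

namespace Cfsg.Agent.S0206

variable {G : Type*} [Group G]

/-- `x` is not a power of `x * y` -/
theorem x_not_mem_zpowers {x y : G} (hx : orderOf x = 2) (hy : orderOf y = 2) :
    x ∉ Subgroup.zpowers (x * y) := by
  rintro ⟨k, hk⟩
  simp only at hk
  -- x commutes with z
  have hc : Commute x (x * y) := by
    have : Commute ((x * y) ^ k) (x * y) := (Commute.refl (x * y)).zpow_left k
    rwa [hk] at this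
  have h1 := invol_conj_mul hx hy
  rw [hc.eq, mul_inv_cancel_right] at h1
  -- z = z⁻¹
  have hzz : (x * y) * (x * y) = 1 := by
    nth_rewrite 2 [h1]; exact mul_inv_cancel _
  have hz2 : (x * y) ^ (2 : ℤ) = 1 := by
    rw [zpow_ofNat, pow_two]; exact hzz
  have hk2 : (x * y) ^ k = (x * y) ^ (k % 2) := by
    conv_lhs => rw [← Int.mul_ediv_add_emod k 2]
    rw [zpow_add, zpow_mul, hz2, one_zpow, one_mul]
  rw [hk2] at hk
  rcases Int.emod_two_eq_zero_or_one k with h | h
  · rw [h, zpow_zero] at hk
    exact invol_ne_one hx hk.symm
  · rw [h, zpow_one] at hk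
    have : y = 1 := by
      have := mul_left_cancel (hk.trans (mul_one x).symm)
      exact this
    exact invol_ne_one hy this

section
variable (x y : G) [NeZero (orderOf (x * y))]

/-- rotation part -/
noncomputable def rot (i : ZMod (orderOf (x * y))) : G := (x * y) ^ (ZMod.val i)

theorem rot_add (i j : ZMod (orderOf (x * y))) : rot x y (i + j) = rot x y i * rot x y j := by
  unfold rot
  rw [ZMod.val_add, pow_mod_orderOf, pow_add]

theorem rot_sub (i j : ZMod (orderOf (x * y))) : rot x y (j - i) = (rot x y i)⁻¹ * rot x y j := by
  have h := rot_add x y i (j - i)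
  rw [add_sub_cancel] at h
  rw [h, inv_mul_cancel_left]

theorem rot_injective : Function.Injective (rot x y) := by
  intro i j h
  unfold rot at h
  apply ZMod.val_injective
  exact pow_injOn_Iio_orderOf (ZMod.val_lt i) (ZMod.val_lt j) h

theorem rot_mem_zpowers (i : ZMod (orderOf (x * y))) : rot x y i ∈ Subgroup.zpowers (x * y) :=
  Subgroup.npow_mem_zpowers _ _

variable {x y}

theorem x_rot_x (hx : orderOf x = 2) (hy : orderOf y = 2) (i : ZMod (orderOf (x * y))) :
    x * rot x y i * x = (rot x y i)⁻¹ := by
  have := invol_mul_zpow_mul hx hy (ZMod.val i : ℤ)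
  rw [zpow_neg, zpow_natCast] at this
  exact this

theorem rot_x (hx : orderOf x = 2) (hy : orderOf y = 2) (i : ZMod (orderOf (x * y))) :
    rot x y i * x = x * (rot x y i)⁻¹ := by
  rw [← x_rot_x hx hy i, ← mul_assoc, ← mul_assoc, invol_mul_self hx, one_mul]

variable (x y)

/-- the map from the dihedral group -/
noncomputable def toFun : DihedralGroup (orderOf (x * y)) → G
  | DihedralGroup.r i => rot x y i
  | DihedralGroup.sr i => x * rot x y i

variable {x y}

theorem toFun_mul (hx : orderOf x = 2) (hy : orderOf y = 2)
    (a b : DihedralGroup (orderOf (x * y))) :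
    toFun x y (a * b) = toFun x y a * toFun x y b := by
  cases a with
  | r i =>
    cases b with
    | r j => simp only [DihedralGroup.r_mul_r, toFun, rot_add]
    | sr j =>
      simp only [DihedralGroup.r_mul_sr, toFun, rot_sub]
      rw [← mul_assoc (rot x y i) x, rot_x hx hy, mul_assoc]
  | sr i =>
    cases b with
    | r j => simp only [DihedralGroup.sr_mul_r, toFun, rot_add, mul_assoc]
    | sr j =>
      simp only [DihedralGroup.sr_mul_sr, toFun, rot_sub]
      rw [← x_rot_x hx hy i]
      group

/-- the homomorphism from the dihedral group -/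
noncomputable def hom (hx : orderOf x = 2) (hy : orderOf y = 2) : DihedralGroup (orderOf (x * y)) →* G :=
  MonoidHom.mk' (toFun x y) (toFun_mul hx hy)

theorem hom_apply (hx : orderOf x = 2) (hy : orderOf y = 2)
    (a : DihedralGroup (orderOf (x * y))) : hom hx hy a = toFun x y a := rfl

theorem hom_injective (hx : orderOf x = 2) (hy : orderOf y = 2) :
    Function.Injective (hom hx hy) := by
  have hnot := x_not_mem_zpowers hx hy
  intro a b h
  rw [hom_apply, hom_apply] at h
  cases a with
  | r i =>
    cases b with
    | r j => simp only [toFun] at h; rw [rot_injective x y h]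
    | sr j =>
      exfalso
      simp only [toFun] at h
      apply hnot
      have : x = rot x y i * (rot x y j)⁻¹ := by rw [h, mul_inv_cancel_right]
      have hm := mul_mem (rot_mem_zpowers x y i) (inv_mem (rot_mem_zpowers x y j))
      rwa [← this] at hm
  | sr i =>
    cases b with
    | r j =>
      exfalso
      simp only [toFun] at h
      apply hnot
      have : x = rot x y j * (rot x y i)⁻¹ := by rw [← h, mul_inv_cancel_right]
      have hm := mul_mem (rot_mem_zpowers x y j) (inv_mem (rot_mem_zpowers x y i))
      rwa [← this] at hm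
    | sr j =>
      simp only [toFun] at h
      rw [rot_injective x y (mul_left_cancel h)]

theorem hom_range (hx : orderOf x = 2) (hy : orderOf y = 2) :
    (hom hx hy).range = Subgroup.closure ({x, y} : Set G) := by
  apply le_antisymm
  · rintro _ ⟨a, rfl⟩
    rw [hom_apply]
    cases a with
    | r i =>
      simp only [toFun, rot]
      exact pow_mem (mul_mem_closure_pair x y) _
    | sr i =>
      simp only [toFun, rot]
      exact mul_mem (x_mem_closure_pair x y) (pow_mem (mul_mem_closure_pair x y) _)
  · rw [Subgroup.closure_le]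
    intro g hg
    have hgx : g = x ∨ g = y := by simpa using hg
    have hxr : x ∈ (hom hx hy).range := by
      refine ⟨DihedralGroup.sr 0, ?_⟩
      rw [hom_apply]
      simp [toFun, rot]
    have hzr : x * y ∈ (hom hx hy).range := by
      refine ⟨DihedralGroup.r 1, ?_⟩
      rw [hom_apply]
      simp only [toFun, rot]
      by_cases h1 : orderOf (x * y) = 1
      · have : x * y = 1 := orderOf_eq_one_iff.mp h1
        rw [this]; simp
      · have : (1 : ZMod (orderOf (x * y))).val = 1 := by
          have : Fact (1 < orderOf (x * y)) := ⟨by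
            have := NeZero.pos (orderOf (x * y)); omega⟩
          exact ZMod.val_one _
        rw [this, pow_one]
    have hyr : y ∈ (hom hx hy).range := by
      have h1 : y = x * (x * y) := pair_y_eq hx
      have h2 := mul_mem hxr hzr
      rwa [← h1] at h2
    rcases hgx with h | h
    · rw [h]; exact hxr
    · rw [h]; exact hyr

end

/-- Two distinct involutions x, y of a finite group generate a subgroup isomorphic to the dihedral group of order 2·|xy|. -/
theorem result {G : Type*} [Group G] [Finite G] (x y : G) (hx : orderOf x = 2) (hy : orderOf y = 2) (hxy : x ≠ y) : Nonempty (↥(Subgroup.closure ({x, y} : Set G)) ≃* DihedralGroup (orderOf (x * y))) := by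
  have : NeZero (orderOf (x * y)) := ⟨(orderOf_pos (x * y)).ne'⟩
  have e1 : DihedralGroup (orderOf (x * y)) ≃* (hom hx hy).range :=
    MonoidHom.ofInjective (hom_injective hx hy)
  have e2 : (hom hx hy).range ≃* Subgroup.closure ({x, y} : Set G) :=
    MulEquiv.subgroupCongr (hom_range hx hy)
  exact ⟨(e1.trans e2).symm⟩

end Cfsg.Agent.S0206
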