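import Cfsg.Statements.S4189
import Mathlib
import Cfsg.Agent.Lib.Helper1.CoprimeAut
import Cfsg.Agent.Lib.Helper3.QuatLift
import Cfsg.Agent.Lib.Helper3.PGroupFix
-- import your own Cfsg.Agent.* helpers here

set_option autoImplicit false
open Cfsg

namespace Cfsg.Agent.S4189

open scoped commutatorElement
open Cfsg.Agent.Lib.Helper1
open Cfsg.Agent.Lib.Helper3
universe u
variable {P : Type*} [Group P]


/-- A finite group whose automorphism group is not a 2-group has a nontrivial automorphism of
odd order. -/
theorem exists_odd_aut [Finite P] (haut : ¬ IsPGroup 2 (MulAut P)) :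
    ∃ α : MulAut P, α ≠ 1 ∧ Nat.Coprime (orderOf α) 2 := by
  have hne : Nat.card (MulAut P) ≠ 0 := Nat.card_pos.ne'
  have h1 : ∃ q : ℕ, q.Prime ∧ q ∣ Nat.card (MulAut P) ∧ q ≠ 2 := by
    by_contra hcon
    push Not at hcon
    apply haut
    have := Nat.eq_prime_pow_of_unique_prime_dvd hne (p := 2) (fun {q} hq hd => hcon q hq hd)
    exact IsPGroup.of_card this
  obtain ⟨q, hq, hd, hq2⟩ := h1
  haveI : Fact q.Prime := ⟨hq⟩
  obtain ⟨α, hα⟩ := exists_prime_orderOf_dvd_card' q hd
  refine ⟨α, ?_, ?_⟩
  · rintro rfl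
    rw [orderOf_one] at hα
    exact hq.one_lt.ne hα
  · rw [hα]
    exact (Nat.coprime_primes hq Nat.prime_two).2 hq2


/-- An automorphism of odd order of a 2-group fixes `g` as soon as it fixes `g⁻¹ * α g`. -/
theorem fix_of_fix [Finite P] (hP : IsPGroup 2 P) (α : MulAut P) (hα : Nat.Coprime (orderOf α) 2)
    (g : P) (hc : α (g⁻¹ * α g) = g⁻¹ * α g) : α g = g :=
  aut_apply_eq_of_fixed_commutator hP α hα g hc


/-- An automorphism of odd order of a 2-group fixing a subgroup of index 2 pointwise is trivial. -/
theorem eq_one_of_fix_index_two [Finite P] (hP : IsPGroup 2 P) (α : MulAut P)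
    (hα : Nat.Coprime (orderOf α) 2) (H : Subgroup P) (hH : H.index = 2)
    (hfix : ∀ h ∈ H, α h = h) : α = 1 := by
  ext g
  rw [MulAut.one_apply]
  by_cases hg : g ∈ H
  · exact hfix g hg
  · have h1 : α g ∉ H := by
      intro h
      have h2 := hfix _ h
      have h3 : α g = g := α.injective h2
      exact hg (h3 ▸ h)
    have h2 : g⁻¹ ∉ H := fun h => hg (by simpa using H.inv_mem h)
    have h3 : g⁻¹ * α g ∈ H := by
      rw [Subgroup.mul_mem_iff_of_index_two hH]
      exact ⟨fun h => absurd h h2, fun h => absurd h h1⟩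
    exact fix_of_fix hP α hα g (hfix _ h3)




theorem mem_zpowers_cases4 (x g : P) (hx : x ^ 4 = 1) (hg : g ∈ Subgroup.zpowers x) :
    g = 1 ∨ g = x ∨ g = x ^ 2 ∨ g = x ^ 3 := by
  obtain ⟨k, rfl⟩ := hg
  show x ^ k = 1 ∨ x ^ k = x ∨ x ^ k = x ^ 2 ∨ x ^ k = x ^ 3
  rw [zpow_eq_zpow_emod' k hx]
  have h1 : 0 ≤ k % ((4 : ℕ) : ℤ) := Int.emod_nonneg _ (by norm_num)
  have h2 : k % ((4 : ℕ) : ℤ) < 4 := Int.emod_lt_of_pos _ (by norm_num)
  obtain ⟨i, hi⟩ : ∃ i : ℕ, k % ((4 : ℕ) : ℤ) = i := ⟨(k % ((4 : ℕ) : ℤ)).toNat, by omega⟩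
  rw [hi, zpow_natCast]
  have hi4 : i < 4 := by omega
  interval_cases i
  · left; simp
  · right; left; simp
  · right; right; left; rfl
  · right; right; right; rfl


/-- A subgroup containing a subgroup of index two and an element outside it is everything. -/
theorem eq_top_of_index_two {H K : Subgroup P} (hH : H.index = 2) (hHK : H ≤ K) {y : P}
    (hyK : y ∈ K) (hyH : y ∉ H) : K = ⊤ := by
  rw [eq_top_iff]
  intro g _
  by_cases hg : g ∈ H
  · exact hHK hg
  · have h1 : y⁻¹ * g ∈ H := by
      rw [Subgroup.mul_mem_iff_of_index_two hH]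
      exact ⟨fun h => absurd (by simpa using H.inv_mem h) hyH, fun h => absurd h hg⟩
    have : g = y * (y⁻¹ * g) := by group
    rw [this]
    exact K.mul_mem hyK (hHK h1)


/-- If two commuting elements generate (together with an index-two subgroup) the group, it is
commutative. -/
theorem comm_of_commute_index_two (x y : P) (hH : (Subgroup.zpowers x).index = 2)
    (hy : y ∉ Subgroup.zpowers x) (hxy : y * x = x * y) : ∀ a b : P, a * b = b * a := by
  have hx : Subgroup.centralizer ({x} : Set P) = ⊤ := by
    apply eq_top_of_index_two hH _ _ hy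
    · rw [Subgroup.zpowers_le]
      exact Subgroup.mem_centralizer_singleton_iff.2 rfl
    · exact Subgroup.mem_centralizer_singleton_iff.2 hxy
  have hy' : Subgroup.centralizer ({y} : Set P) = ⊤ := by
    apply eq_top_of_index_two hH _ _ hy
    · rw [Subgroup.zpowers_le]
      exact Subgroup.mem_centralizer_singleton_iff.2 hxy.symm
    · exact Subgroup.mem_centralizer_singleton_iff.2 rfl
  have hc : Subgroup.center P = ⊤ := by
    apply eq_top_of_index_two hH _ _ hy
    · rw [Subgroup.zpowers_le, Subgroup.mem_center_iff]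
      intro g
      have : g ∈ Subgroup.centralizer ({x} : Set P) := hx ▸ Subgroup.mem_top g
      exact Subgroup.mem_centralizer_singleton_iff.1 this
    · rw [Subgroup.mem_center_iff]
      intro g
      have : g ∈ Subgroup.centralizer ({y} : Set P) := hy' ▸ Subgroup.mem_top g
      exact Subgroup.mem_centralizer_singleton_iff.1 this
  intro a b
  have : a ∈ Subgroup.center P := hc ▸ Subgroup.mem_top a
  exact (Subgroup.mem_center_iff.1 this b).symm




theorem exists_order_four [Finite P] (h8 : Nat.card P = 8) (hna : ¬ ∀ a b : P, a * b = b * a) :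
    ∃ x : P, orderOf x = 4 := by
  by_contra hcon
  push Not at hcon
  have hord : ∀ g : P, orderOf g ∣ 2 := by
    intro g
    have hd : orderOf g ∣ 2 ^ 3 := by
      have := orderOf_dvd_natCard g
      rw [h8] at this
      exact this
    obtain ⟨k, hk, hk2⟩ := (Nat.dvd_prime_pow Nat.prime_two).1 hd
    interval_cases k
    · rw [hk2]; norm_num
    · rw [hk2]; norm_num
    · exact absurd (by simpa using hk2) (hcon g)
    · exfalso
      have hcyc : IsCyclic P := isCyclic_of_orderOf_eq_card g (by rw [hk2, h8]; norm_num)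
      apply hna
      intro a b
      exact (IsCyclic.commutative (α := P)).is_comm.comm a b
  apply hna
  intro a b
  exact Commute.of_orderOf_dvd_two hord a b




theorem order8 [Finite P] (h8 : Nat.card P = 8) (hna : ¬ ∀ a b : P, a * b = b * a)
    (α : MulAut P) (hα1 : α ≠ 1) (hα : Nat.Coprime (orderOf α) 2) :
    Nonempty (P ≃* QuaternionGroup 2) := by
  have hP : IsPGroup 2 P := IsPGroup.of_card (n := 3) (by rw [h8]; norm_num)
  obtain ⟨x, hx⟩ := exists_order_four h8 hna
  have hx4 : x ^ 4 = 1 := by rw [← hx]; exact pow_orderOf_eq_one x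
  have hx2 : x ^ 2 ≠ 1 := by
    intro h
    have := orderOf_dvd_of_pow_eq_one h
    rw [hx] at this
    omega
  have hx1 : x ≠ 1 := by
    rintro rfl
    simp at hx
  set H := Subgroup.zpowers x with hH
  have hHc : Nat.card H = 4 := by rw [Nat.card_zpowers, hx]
  have hHi : H.index = 2 := by
    have := H.card_mul_index
    rw [hHc, h8] at this
    omega
  by_cases hcase : ∃ y : P, y ∉ H ∧ orderOf y = 4
  · obtain ⟨y, hyH, hy⟩ := hcase
    have hy4 : y ^ 4 = 1 := by rw [← hy]; exact pow_orderOf_eq_one y
    have hy2 : y ^ 2 ≠ 1 := by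
      intro h
      have := orderOf_dvd_of_pow_eq_one h
      rw [hy] at this
      omega
    have hyyH : y * y ∈ H := by
      rw [Subgroup.mul_mem_iff_of_index_two hHi]
    have hyy : y * y = x ^ 2 := by
      rcases mem_zpowers_cases4 x (y * y) hx4 hyyH with h | h | h | h
      · exfalso; apply hy2; rw [pow_two]; exact h
      · exfalso
        apply hx2
        rw [← h, ← pow_two, ← pow_mul]; exact hy4
      · exact h
      · exfalso
        apply hx2
        have h1 : (x ^ 3) ^ 2 = 1 := by rw [← h, ← pow_two, ← pow_mul]; exact hy4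
        rw [← pow_mul, pow_eq_pow_mod _ hx4] at h1
        exact h1
    haveI : H.Normal := Subgroup.normal_of_index_eq_two hHi
    have hconjH : y * x * y⁻¹ ∈ H :=
      Subgroup.Normal.conj_mem inferInstance x (Subgroup.mem_zpowers x) y
    have hyx : y * x * y⁻¹ = x⁻¹ := by
      rcases mem_zpowers_cases4 x _ hx4 hconjH with h | h | h | h
      · exfalso; apply hx1
        have : x = y⁻¹ * (y * x * y⁻¹) * y := by group
        rw [this, h]; group
      · exfalso
        apply hna
        apply comm_of_commute_index_two x y hHi hyH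
        have : y * x = (y * x * y⁻¹) * y := by group
        rw [this, h]
      · exfalso; apply hx2
        have h1 : (y * x * y⁻¹) ^ 2 = 1 := by rw [h, ← pow_mul]; exact hx4
        rw [conj_pow] at h1
        have : x ^ 2 = y⁻¹ * (y * x ^ 2 * y⁻¹) * y := by group
        rw [this, h1]; group
      · rw [h]
        exact eq_inv_of_mul_eq_one_left (by rw [← pow_succ]; exact hx4)
    have hA : x ^ (2 * 2) = 1 := hx4
    set φ := quatLift 2 x y hA hyy hyx with hφ
    have hφinj : Function.Injective φ := by
      rw [injective_iff_map_eq_one]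
      rintro (i | i) hq
      · rw [hφ, quatLift_a] at hq
        unfold zmodPw at hq
        have h2 : orderOf x ∣ i.val := orderOf_dvd_of_pow_eq_one hq
        rw [hx] at h2
        have hlt : i.val < 2 * 2 := ZMod.val_lt i
        have h3 : i.val = 0 := Nat.eq_zero_of_dvd_of_lt h2 (by omega)
        have h4 : i = 0 := (ZMod.val_eq_zero i).1 h3
        rw [h4]; rfl
      · exfalso
        rw [hφ, quatLift_xa] at hq
        unfold zmodPw at hq
        apply hyH
        have hy' : y = (x ^ i.val)⁻¹ := eq_inv_of_mul_eq_one_left hq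
        rw [hy']
        exact H.inv_mem (H.pow_mem (Subgroup.mem_zpowers x) _)
    have hbij : Function.Bijective φ := by
      apply Function.Injective.bijective_of_nat_card_le hφinj
      rw [h8, Nat.card_eq_fintype_card, QuaternionGroup.card]
    exact ⟨(MulEquiv.ofBijective φ hbij).symm⟩
  · exfalso
    push Not at hcase
    apply hα1
    have hαx : α x ∈ H := by
      by_contra h
      exact hcase (α x) h (by rw [MulEquiv.orderOf_eq]; exact hx)
    have hαxx : α x = x := by
      rcases mem_zpowers_cases4 x _ hx4 hαx with h | h | h | h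
      · exfalso; apply hx1; exact α.injective (by rw [h, map_one])
      · exact h
      · exfalso; apply hx2
        apply α.injective
        rw [map_pow, h, map_one, ← pow_mul]; exact hx4
      · apply fix_of_fix hP α hα x
        have h1 : x⁻¹ * α x = x ^ 2 := by rw [h, pow_succ' x 2, inv_mul_cancel_left]
        rw [h1, map_pow, h, ← pow_mul, pow_eq_pow_mod _ hx4]
    apply eq_one_of_fix_index_two hP α hα H hHi
    intro h hh
    obtain ⟨k, rfl⟩ := hh
    show α (x ^ k) = x ^ k
    rw [map_zpow, hαxx]




theorem centralizer_index_two [Finite P] (hcl : commutator P ≤ Subgroup.center P)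
    (h4 : (commutator P).index = 4) (x : P) (hx : x ∉ Subgroup.center P) :
    (Subgroup.centralizer ({x} : Set P)).index = 2 ∧
      (commutator P).relIndex (Subgroup.centralizer ({x} : Set P)) = 2 := by
  have hle : commutator P ≤ Subgroup.centralizer ({x} : Set P) :=
    hcl.trans (Subgroup.center_le_centralizer _)
  have h1 := Subgroup.relIndex_mul_index hle
  rw [h4] at h1
  have h2 : (Subgroup.centralizer ({x} : Set P)).index ≠ 1 := by
    intro h
    rw [Subgroup.index_eq_one] at h
    apply hx
    rw [Subgroup.mem_center_iff]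
    intro g
    have : g ∈ Subgroup.centralizer ({x} : Set P) := h ▸ Subgroup.mem_top g
    exact Subgroup.mem_centralizer_singleton_iff.1 this
  have h3 : (commutator P).relIndex (Subgroup.centralizer ({x} : Set P)) ≠ 1 := by
    intro h
    rw [Subgroup.relIndex_eq_one] at h
    apply hx
    apply hcl
    apply h
    exact Subgroup.mem_centralizer_singleton_iff.2 rfl
  set a := (Subgroup.centralizer ({x} : Set P)).index
  set b := (commutator P).relIndex (Subgroup.centralizer ({x} : Set P))
  have hb : b ≤ 4 := Nat.le_of_dvd (by norm_num) ⟨a, h1.symm⟩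
  have ha : a ≤ 4 := Nat.le_of_dvd (by norm_num) ⟨b, by rw [← h1, mul_comm]⟩
  interval_cases a <;> interval_cases b <;> simp_all




theorem normal_of_le_center' {C : Subgroup P} (h : C ≤ Subgroup.center P) : C.Normal := by
  refine ⟨fun n hn g => ?_⟩
  have h1 := Subgroup.mem_center_iff.1 (h hn) g
  rw [h1, mul_assoc, mul_inv_cancel, mul_one]
  exact hn


/-- The image of a central element in a quotient is central. -/
theorem mk_mem_center {C : Subgroup P} [C.Normal] {z : P} (hz : z ∈ Subgroup.center P) :
    (QuotientGroup.mk' C z) ∈ Subgroup.center (P ⧸ C) := by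
  rw [Subgroup.mem_center_iff]
  intro q
  obtain ⟨g, rfl⟩ := QuotientGroup.mk'_surjective C q
  rw [← map_mul, ← map_mul, Subgroup.mem_center_iff.1 hz g]


theorem card_eq_eight_of_class_two [Finite P] (hna : ¬ ∀ a b : P, a * b = b * a)
    (hcl : commutator P ≤ Subgroup.center P) (h4 : (commutator P).index = 4) :
    Nat.card P = 8 := by
  push Not at hna
  obtain ⟨x, y, hxy⟩ := hna
  have hxc : x ∉ Subgroup.center P := fun h => hxy ((Subgroup.mem_center_iff.1 h y).symm)
  have hyc : y ∉ Subgroup.center P := fun h => hxy (Subgroup.mem_center_iff.1 h x)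
  obtain ⟨hix, hrx⟩ := centralizer_index_two hcl h4 x hxc
  obtain ⟨hiy, hry⟩ := centralizer_index_two hcl h4 y hyc
  have hyCx : y ∉ Subgroup.centralizer ({x} : Set P) := fun h =>
    hxy (Subgroup.mem_centralizer_singleton_iff.1 h).symm
  have hxCy : x ∉ Subgroup.centralizer ({y} : Set P) := fun h =>
    hxy (Subgroup.mem_centralizer_singleton_iff.1 h)
  set c := ⁅x, y⁆ with hc
  have hcP : c ∈ commutator P := by
    rw [commutator_def]
    exact Subgroup.commutator_mem_commutator (Subgroup.mem_top x) (Subgroup.mem_top y)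
  have hcZ : c ∈ Subgroup.center P := hcl hcP
  have hc1 : c ≠ 1 := by
    rw [Ne, commutatorElement_eq_one_iff_mul_comm]
    exact hxy
  have hcc : c * c = 1 := by
    have h1 : y * y ∈ Subgroup.centralizer ({x} : Set P) := by
      rw [Subgroup.mul_mem_iff_of_index_two hix]
    have h2 := Subgroup.mem_centralizer_singleton_iff.1 h1
    have h3 : (x * y * x⁻¹) * c = c * (x * y * x⁻¹) := Subgroup.mem_center_iff.1 hcZ _
    have e1 : c * c = (x * y * x⁻¹) * c * y⁻¹ := by
      rw [h3, hc, commutatorElement_def]; group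
    rw [e1, hc, commutatorElement_def]
    have e2 : x * y * x⁻¹ * (x * y * x⁻¹ * y⁻¹) * y⁻¹ = (x * (y * y)) * x⁻¹ * y⁻¹ * y⁻¹ := by group
    rw [e2, ← h2]; group
  set C := Subgroup.zpowers c with hC
  have hCcard : Nat.card C = 2 := by
    rw [Nat.card_zpowers]
    exact orderOf_eq_prime (by rw [pow_two]; exact hcc) hc1
  have hCZ : C ≤ Subgroup.center P := by
    rw [hC, Subgroup.zpowers_le]; exact hcZ
  haveI hCn : C.Normal := normal_of_le_center' hCZ
  set π := QuotientGroup.mk' C with hπ
  have hπc : π x * π y = π y * π x := by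
    have : π ⁅x, y⁆ = 1 := by
      rw [hπ, QuotientGroup.mk'_apply, QuotientGroup.eq_one_iff]
      exact Subgroup.mem_zpowers c
    rw [map_commutatorElement, commutatorElement_eq_one_iff_mul_comm] at this
    exact this
  set Kc := (Subgroup.center (P ⧸ C)).comap π with hKc
  have hxK : x ∈ Kc := by
    rw [hKc, Subgroup.mem_comap, Subgroup.mem_center_iff]
    have htop : (Subgroup.centralizer ({π x} : Set (P ⧸ C))).comap π = ⊤ := by
      apply eq_top_of_index_two hix _ _ hyCx
      · intro g hg
        rw [Subgroup.mem_comap, Subgroup.mem_centralizer_singleton_iff, ← map_mul, ← map_mul,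
          Subgroup.mem_centralizer_singleton_iff.1 hg]
      · rw [Subgroup.mem_comap, Subgroup.mem_centralizer_singleton_iff]
        exact hπc.symm
    intro q
    obtain ⟨g, rfl⟩ := QuotientGroup.mk'_surjective C q
    have : g ∈ (Subgroup.centralizer ({π x} : Set (P ⧸ C))).comap π := htop ▸ Subgroup.mem_top g
    rw [Subgroup.mem_comap, Subgroup.mem_centralizer_singleton_iff] at this
    exact this
  have hyK : y ∈ Kc := by
    rw [hKc, Subgroup.mem_comap, Subgroup.mem_center_iff]
    have htop : (Subgroup.centralizer ({π y} : Set (P ⧸ C))).comap π = ⊤ := by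
      apply eq_top_of_index_two hiy _ _ hxCy
      · intro g hg
        rw [Subgroup.mem_comap, Subgroup.mem_centralizer_singleton_iff, ← map_mul, ← map_mul,
          Subgroup.mem_centralizer_singleton_iff.1 hg]
      · rw [Subgroup.mem_comap, Subgroup.mem_centralizer_singleton_iff]
        exact hπc
    intro q
    obtain ⟨g, rfl⟩ := QuotientGroup.mk'_surjective C q
    have : g ∈ (Subgroup.centralizer ({π y} : Set (P ⧸ C))).comap π := htop ▸ Subgroup.mem_top g
    rw [Subgroup.mem_comap, Subgroup.mem_centralizer_singleton_iff] at this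
    exact this
  have hZK : Subgroup.center P ≤ Kc := fun z hz => mk_mem_center hz
  have hCxK : Subgroup.centralizer ({x} : Set P) ≤ Kc := by
    rw [← Subgroup.subgroupOf_eq_top]
    have hxm : x ∈ Subgroup.centralizer ({x} : Set P) := Subgroup.mem_centralizer_singleton_iff.2 rfl
    apply eq_top_of_index_two (H := (commutator P).subgroupOf (Subgroup.centralizer ({x} : Set P)))
      (y := ⟨x, hxm⟩) hrx
    · intro g hg
      rw [Subgroup.mem_subgroupOf] at hg ⊢
      exact hZK (hcl hg)
    · rw [Subgroup.mem_subgroupOf]; exact hxK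
    · rw [Subgroup.mem_subgroupOf]; exact fun h => hxc (hcl h)
  have hKtop : Kc = ⊤ := eq_top_of_index_two hix hCxK hyK hyCx
  have hPC : commutator P ≤ C := by
    rw [commutator_eq_closure, Subgroup.closure_le]
    rintro _ ⟨a, b, rfl⟩
    have ha : a ∈ Kc := hKtop ▸ Subgroup.mem_top a
    rw [hKc, Subgroup.mem_comap, Subgroup.mem_center_iff] at ha
    have : π ⁅a, b⁆ = 1 := by
      rw [map_commutatorElement, commutatorElement_eq_one_iff_mul_comm]
      exact (ha (π b)).symm
    rw [hπ, QuotientGroup.mk'_apply, QuotientGroup.eq_one_iff] at this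
    exact this
  have hPC' : commutator P = C := by
    apply le_antisymm hPC
    rw [hC, Subgroup.zpowers_le]; exact hcP
  have := (commutator P).card_mul_index
  rw [h4, hPC', hCcard] at this
  omega




theorem commutatorElement_mul_central_left (a b n : P) (hn : n ∈ Subgroup.center P) :
    ⁅a * n, b⁆ = ⁅a, b⁆ := by
  have h1 : b * n = n * b := Subgroup.mem_center_iff.1 hn b
  rw [commutatorElement_def, commutatorElement_def, mul_inv_rev, mul_assoc a n b, ← h1]
  group


theorem commutatorElement_mul_central (a b n m : P) (hn : n ∈ Subgroup.center P)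
    (hm : m ∈ Subgroup.center P) : ⁅a * n, b * m⁆ = ⁅a, b⁆ := by
  rw [commutatorElement_mul_central_left a _ n hn, ← commutatorElement_inv,
    commutatorElement_mul_central_left b a m hm, commutatorElement_inv]


/-- An odd-order automorphism of a 2-group acting trivially modulo a central subgroup contained
in the commutator subgroup is trivial. -/
theorem eq_one_of_trivial_mod [Finite P] (hP : IsPGroup 2 P) (α : MulAut P)
    (hα : Nat.Coprime (orderOf α) 2) (N : Subgroup P) (hNZ : N ≤ Subgroup.center P)
    (hNP : N ≤ commutator P) (h : ∀ g, g⁻¹ * α g ∈ N) : α = 1 := by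
  have hcomm : ∀ a b : P, α ⁅a, b⁆ = ⁅a, b⁆ := by
    intro a b
    rw [map_commutatorElement]
    have ha : α a = a * (a⁻¹ * α a) := by group
    have hb : α b = b * (b⁻¹ * α b) := by group
    rw [ha, hb]
    exact commutatorElement_mul_central a b _ _ (hNZ (h a)) (hNZ (h b))
  have hfix : commutator P ≤ MonoidHom.eqLocus α.toMonoidHom (MonoidHom.id P) := by
    rw [commutator_eq_closure, Subgroup.closure_le]
    rintro _ ⟨a, b, rfl⟩
    exact hcomm a b
  ext g
  rw [MulAut.one_apply]
  apply fix_of_fix hP α hα g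
  exact hfix (hNP (h g))


/-- The automorphism induced on the quotient by an invariant normal subgroup. -/
noncomputable def quotAut (N : Subgroup P) [N.Normal] (α : MulAut P)
    (hN : N.map (α : P →* P) = N) : MulAut (P ⧸ N) :=
  QuotientGroup.congr N N α hN


theorem quotAut_mk (N : Subgroup P) [N.Normal] (α : MulAut P)
    (hN : N.map (α : P →* P) = N) (g : P) :
    quotAut N α hN (QuotientGroup.mk g) = QuotientGroup.mk (α g) := rfl


theorem quotAut_pow_mk (N : Subgroup P) [N.Normal] (α : MulAut P)
    (hN : N.map (α : P →* P) = N) (k : ℕ) (g : P) :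
    ((quotAut N α hN) ^ k) (QuotientGroup.mk g) = QuotientGroup.mk ((α ^ k) g) := by
  induction k generalizing g with
  | zero => simp
  | succ k ih =>
    rw [pow_succ, MulAut.mul_apply, quotAut_mk, ih, pow_succ, MulAut.mul_apply]


theorem orderOf_quotAut_dvd (N : Subgroup P) [N.Normal] (α : MulAut P)
    (hN : N.map (α : P →* P) = N) : orderOf (quotAut N α hN) ∣ orderOf α := by
  apply orderOf_dvd_of_pow_eq_one
  ext q
  obtain ⟨g, rfl⟩ := QuotientGroup.mk_surjective q
  rw [quotAut_pow_mk, pow_orderOf_eq_one]
  rfl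


theorem quotAut_ne_one [Finite P] (hP : IsPGroup 2 P) (α : MulAut P) (hα1 : α ≠ 1)
    (hα : Nat.Coprime (orderOf α) 2) (N : Subgroup P) [N.Normal] (hNZ : N ≤ Subgroup.center P)
    (hNP : N ≤ commutator P) (hN : N.map (α : P →* P) = N) : quotAut N α hN ≠ 1 := by
  intro h
  apply hα1
  apply eq_one_of_trivial_mod hP α hα N hNZ hNP
  intro g
  have h1 : quotAut N α hN (QuotientGroup.mk g) = QuotientGroup.mk g := by rw [h]; rfl
  rw [quotAut_mk] at h1
  exact QuotientGroup.eq.1 h1.symm


theorem index_commutator_quot (N : Subgroup P) [N.Normal] (hNP : N ≤ commutator P) :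
    (commutator (P ⧸ N)).index = (commutator P).index := by
  have h1 : commutator (P ⧸ N) = (commutator P).map (QuotientGroup.mk' N) := by
    rw [commutator_def, commutator_def, Subgroup.map_commutator,
      Subgroup.map_top_of_surjective _ (QuotientGroup.mk'_surjective N)]
  rw [h1]
  apply Subgroup.index_map_eq _ (QuotientGroup.mk'_surjective N)
  rw [QuotientGroup.ker_mk']
  exact hNP


theorem commutator_le_of_quot_comm (N : Subgroup P) [N.Normal]
    (h : ∀ a b : P ⧸ N, a * b = b * a) : commutator P ≤ N := by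
  rw [commutator_eq_closure, Subgroup.closure_le]
  rintro _ ⟨a, b, rfl⟩
  have : (QuotientGroup.mk' N) ⁅a, b⁆ = 1 := by
    rw [map_commutatorElement, commutatorElement_eq_one_iff_mul_comm]
    exact h _ _
  rw [QuotientGroup.mk'_apply, QuotientGroup.eq_one_iff] at this
  exact this




/-- There is no proper stem extension of the quaternion group of order 8 by a central subgroup
containing `Z(P) ∩ P'`. -/
theorem no_quaternion_quotient (N : Subgroup P) [N.Normal] (hNZ : N ≤ Subgroup.center P)
    (hNP : N ≤ commutator P) (hN : Subgroup.center P ⊓ commutator P ≤ N)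
    (e : P ⧸ N ≃* QuaternionGroup 2) : False := by
  set φ : P →* QuaternionGroup 2 := e.toMonoidHom.comp (QuotientGroup.mk' N) with hφ
  have hφs : Function.Surjective φ := by
    rw [hφ]
    exact e.surjective.comp (QuotientGroup.mk'_surjective N)
  have hker : ∀ g : P, φ g = 1 → g ∈ N := by
    intro g hg
    rw [hφ] at hg
    have : e (QuotientGroup.mk' N g) = 1 := hg
    rw [MulEquiv.map_eq_one_iff] at this
    exact (QuotientGroup.eq_one_iff g).1 this
  have hker' : ∀ g h : P, φ g = φ h → g⁻¹ * h ∈ N := by
    intro g h hgh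
    apply hker
    rw [map_mul, map_inv, hgh, inv_mul_cancel]
  have hkerN : ∀ g ∈ N, φ g = 1 := by
    intro g hg
    rw [hφ]
    show e (QuotientGroup.mk' N g) = 1
    rw [MulEquiv.map_eq_one_iff]
    exact (QuotientGroup.eq_one_iff g).2 hg
  obtain ⟨x, hx⟩ := hφs (QuaternionGroup.a 1)
  obtain ⟨y, hy⟩ := hφs (QuaternionGroup.xa 0)
  have hxx : φ (x * x) = QuaternionGroup.a 2 := by
    rw [map_mul, hx, QuaternionGroup.a_mul_a]; rfl
  have hyy : φ (y * y) = QuaternionGroup.a 2 := by
    rw [map_mul, hy, QuaternionGroup.xa_mul_xa]; rfl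
  have hcomm : φ ⁅x, y⁆ = QuaternionGroup.a 2 := by
    rw [map_commutatorElement, hx, hy]
    decide
  -- `x * x ∈ P'`
  have h1 : x * x ∈ commutator P := by
    have h2 : ⁅x, y⁆⁻¹ * (x * x) ∈ N := hker' _ _ (by rw [hcomm, hxx])
    have h3 : ⁅x, y⁆ ∈ commutator P := by
      rw [commutator_def]
      exact Subgroup.commutator_mem_commutator (Subgroup.mem_top x) (Subgroup.mem_top y)
    have : x * x = ⁅x, y⁆ * (⁅x, y⁆⁻¹ * (x * x)) := by group
    rw [this]
    exact (commutator P).mul_mem h3 (hNP h2)
  -- `x * x` is central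
  have hcy : Commute (x * x) y := by
    have h2 : (y * y)⁻¹ * (x * x) ∈ N := hker' _ _ (by rw [hyy, hxx])
    have h3 : x * x = (y * y) * ((y * y)⁻¹ * (x * x)) := by group
    rw [h3]
    have h4 : Commute ((y * y)⁻¹ * (x * x)) y := (Subgroup.mem_center_iff.1 (hNZ h2) y).symm
    exact ((Commute.refl y).mul_left (Commute.refl y)).mul_left h4
  have hcx : Commute (x * x) x := (Commute.refl x).mul_left (Commute.refl x)
  have h2 : x * x ∈ Subgroup.center P := by
    rw [Subgroup.mem_center_iff]
    intro g
    have hcn : ∀ n ∈ N, Commute (x * x) n := fun n hn =>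
      (Subgroup.mem_center_iff.1 (hNZ hn) (x * x))
    have key : ∀ i : ZMod (2 * 2), φ (x ^ i.val) = QuaternionGroup.a i := by
      intro i
      rw [map_pow, hx, QuaternionGroup.a_one_pow, ZMod.natCast_zmod_val]
    symm
    rcases hq : φ g with i | i
    · have h3 : (x ^ i.val)⁻¹ * g ∈ N := hker' _ _ (by rw [key, hq])
      have h4 : g = x ^ i.val * ((x ^ i.val)⁻¹ * g) := by group
      rw [h4]
      exact ((hcx.pow_right _).mul_right (hcn _ h3)).eq
    · have h3 : (y * x ^ i.val)⁻¹ * g ∈ N := hker' _ _ (by
        rw [map_mul, key, hy, hq, QuaternionGroup.xa_mul_a, zero_add])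
      have h4 : g = y * x ^ i.val * ((y * x ^ i.val)⁻¹ * g) := by group
      rw [h4]
      exact ((hcy.mul_right (hcx.pow_right _)).mul_right (hcn _ h3)).eq
  have h3 : x * x ∈ N := hN ⟨h2, h1⟩
  have h4 := hkerN _ h3
  rw [hxx] at h4
  revert h4
  decide


/-- In a nonabelian finite `2`-group, `Z(P) ∩ P'` is nontrivial. -/
theorem center_inf_commutator_ne_bot [Finite P] (hP : IsPGroup 2 P)
    (hna : ¬ ∀ a b : P, a * b = b * a) : Subgroup.center P ⊓ commutator P ≠ ⊥ := by
  haveI : Fact (Nat.Prime 2) := ⟨Nat.prime_two⟩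
  have hne : commutator P ≠ ⊥ := by
    intro h
    apply hna
    intro a b
    have : ⁅a, b⁆ ∈ commutator P := by
      rw [commutator_def]
      exact Subgroup.commutator_mem_commutator (Subgroup.mem_top a) (Subgroup.mem_top b)
    rw [h, Subgroup.mem_bot, commutatorElement_eq_one_iff_mul_comm] at this
    exact this
  have h1 := inf_centralizer_ne_bot_of_isPGroup 2 (U := commutator P) (S := ⊤)
    (hP.to_subgroup _) (hP.to_subgroup _) (by
      rw [Subgroup.normalizer_eq_top]) hne
  rw [Subgroup.coe_top, Subgroup.centralizer_univ] at h1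
  rwa [inf_comm]




theorem key (n : ℕ) : ∀ (P : Type u) [Group P] [Finite P], Nat.card P = n → IsPGroup 2 P →
    (¬ ∀ a b : P, a * b = b * a) → (commutator P).index = 4 →
    (∃ α : MulAut P, α ≠ 1 ∧ Nat.Coprime (orderOf α) 2) →
    Nonempty (P ≃* QuaternionGroup 2) := by
  induction n using Nat.strong_induction_on with
  | _ n ih =>
  intro P _ _ hn hP hna h4 ⟨α, hα1, hα⟩
  by_cases hcl : commutator P ≤ Subgroup.center P
  · have h8 := card_eq_eight_of_class_two hna hcl h4
    exact order8 h8 hna α hα1 hα
  · exfalso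
    set N := Subgroup.center P ⊓ commutator P with hNdef
    have hNne : N ≠ ⊥ := center_inf_commutator_ne_bot hP hna
    have hNZ : N ≤ Subgroup.center P := inf_le_left
    have hNP : N ≤ commutator P := inf_le_right
    haveI hNchar : N.Characteristic := inferInstance
    haveI : N.Normal := inferInstance
    have hNα : N.map (α : P →* P) = N := (Subgroup.characteristic_iff_map_eq.1 hNchar) α
    have hnaQ : ¬ ∀ a b : P ⧸ N, a * b = b * a := fun h =>
      hcl ((commutator_le_of_quot_comm N h).trans hNZ)
    have hcardQ : Nat.card (P ⧸ N) < n := by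
      rw [← hn, ← N.card_mul_index, ← Subgroup.index_eq_card]
      have h1 : 1 < Nat.card N := (Subgroup.one_lt_card_iff_ne_bot N).2 hNne
      have h2 : 0 < N.index := Nat.pos_of_ne_zero Subgroup.index_ne_zero_of_finite
      nlinarith
    obtain ⟨e⟩ := ih _ hcardQ (P ⧸ N) rfl (hP.to_quotient N) hnaQ
      ((index_commutator_quot N hNP).trans h4)
      ⟨quotAut N α hNα, quotAut_ne_one hP α hα1 hα N hNZ hNP hNα,
        Nat.Coprime.coprime_dvd_left (orderOf_quotAut_dvd N α hNα) hα⟩
    exact no_quaternion_quotient N hNZ hNP le_rfl e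



/-- Let P be a finite non-abelian 2-group whose commutator subgroup has index 4 and whose automorphism group is not a 2-group (some automorphism has order that is not a power of 2). Then P is isomorphic to the quaternion group of order 8. -/
theorem result {P : Type*} [Group P] [Finite P] (hP : IsPGroup 2 P) (hna : ¬ IsMulCommutative P) (h4 : (commutator P).index = 4) (haut : ¬ IsPGroup 2 (MulAut P)) : Nonempty (P ≃* QuaternionGroup 2) := by
  exact key _ P rfl hP (fun h => hna ⟨⟨h⟩⟩) h4 (exists_odd_aut haut)

end Cfsg.Agent.S4189
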