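import Cfsg.Statements.S4399
import Mathlib
import Cfsg.Agent.S4189
import Cfsg.Agent.S0206
import Cfsg.Agent.Lib.Helper3.QuatLift
-- import your own Cfsg.Agent.* helpers here

set_option autoImplicit false
open Cfsg

namespace Cfsg.Agent.S4399

open scoped commutatorElement
open Cfsg.Agent.S4189 (eq_top_of_index_two commutator_le_of_quot_comm center_inf_commutator_ne_bot normal_of_le_center' index_commutator_quot exists_order_four comm_of_commute_index_two)
open Cfsg.Agent.Lib.Helper3
universe u
variable {S : Type*} [Group S]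


/-- If a surjection `π` maps an index-two subgroup `M` to commuting elements which also commute
with `π b` for some `b ∉ M`, then the target is commutative. -/
theorem comm_of_index_two_map {T : Type*} [Group T] (π : S →* T) (hπ : Function.Surjective π)
    {M : Subgroup S} (hM : M.index = 2) {b : S} (hb : b ∉ M)
    (hMM : ∀ x ∈ M, ∀ y ∈ M, π x * π y = π y * π x)
    (hbM : ∀ m ∈ M, π b * π m = π m * π b) : ∀ s t : T, s * t = t * s := by
  have key : ∀ g : S, (∀ x ∈ M, π x * π g = π g * π x) → π b * π g = π g * π b →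
      ∀ t : T, t * π g = π g * t := by
    intro g h1 h2 t
    have htop : (Subgroup.centralizer ({π g} : Set T)).comap π = ⊤ :=
      eq_top_of_index_two hM
        (fun x hx => by
          rw [Subgroup.mem_comap, Subgroup.mem_centralizer_singleton_iff]; exact h1 x hx)
        (by rw [Subgroup.mem_comap, Subgroup.mem_centralizer_singleton_iff]; exact h2) hb
    obtain ⟨s, rfl⟩ := hπ t
    have : s ∈ (Subgroup.centralizer ({π g} : Set T)).comap π := htop ▸ Subgroup.mem_top s
    rw [Subgroup.mem_comap, Subgroup.mem_centralizer_singleton_iff] at this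
    exact this
  have hMc : ∀ m ∈ M, ∀ t, t * π m = π m * t := fun m hm =>
    key m (fun x hx => hMM x hx m hm) (hbM m hm)
  have hbc : ∀ t, t * π b = π b * t := key b (fun x hx => (hbM x hx).symm) rfl
  intro s t
  obtain ⟨g, rfl⟩ := hπ s
  exact (key g (fun x hx => (hMc x hx (π g)).symm) (hbc (π g)).symm t).symm


/-- An element commuting with an index-two subgroup and an element outside it is central. -/
theorem mem_center_of_index_two {M : Subgroup S} (hM : M.index = 2) {b : S} (hb : b ∉ M) {m : S}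
    (hmM : ∀ x ∈ M, x * m = m * x) (hmb : b * m = m * b) : m ∈ Subgroup.center S := by
  have h : Subgroup.centralizer ({m} : Set S) = ⊤ :=
    eq_top_of_index_two hM (fun x hx => Subgroup.mem_centralizer_singleton_iff.2 (hmM x hx))
      (Subgroup.mem_centralizer_singleton_iff.2 hmb) hb
  rw [Subgroup.mem_center_iff]
  intro g
  have : g ∈ Subgroup.centralizer ({m} : Set S) := h ▸ Subgroup.mem_top g
  exact Subgroup.mem_centralizer_singleton_iff.1 this


theorem exists_not_mem_of_index_two {M : Subgroup S} (hM : M.index = 2) : ∃ b, b ∉ M := by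
  by_contra h
  push Not at h
  have : M = ⊤ := eq_top_iff.2 (fun x _ => h x)
  rw [this, Subgroup.index_top] at hM
  omega




/-- The commutator map `m ↦ b m b⁻¹ m⁻¹` on an abelian normal subgroup. -/
def commHom (M : Subgroup S) [M.Normal] (hMc : ∀ x ∈ M, ∀ y ∈ M, x * y = y * x) (b : S) :
    M →* S :=
  MonoidHom.mk' (fun m => b * m * b⁻¹ * (m : S)⁻¹) (by
    intro m n
    have hconj : b * n * b⁻¹ ∈ M := Subgroup.Normal.conj_mem (inferInstance : M.Normal) (n : S) n.2 b
    have h1 : (m : S)⁻¹ * (b * n * b⁻¹) = (b * n * b⁻¹) * (m : S)⁻¹ :=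
      hMc _ (M.inv_mem m.2) _ hconj
    have h2 : (m : S)⁻¹ * (n : S)⁻¹ = (n : S)⁻¹ * (m : S)⁻¹ :=
      hMc _ (M.inv_mem m.2) _ (M.inv_mem n.2)
    show b * ((m : S) * n) * b⁻¹ * ((m : S) * n)⁻¹
      = b * m * b⁻¹ * (m : S)⁻¹ * (b * n * b⁻¹ * (n : S)⁻¹)
    calc b * ((m : S) * n) * b⁻¹ * ((m : S) * n)⁻¹
        = b * m * b⁻¹ * ((b * n * b⁻¹) * (m : S)⁻¹) * (n : S)⁻¹ := by
          rw [mul_inv_rev, ← h2]; group
      _ = b * m * b⁻¹ * (m : S)⁻¹ * (b * n * b⁻¹ * (n : S)⁻¹) := by
          rw [← h1]; group)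


theorem commHom_apply (M : Subgroup S) [M.Normal] (hMc : ∀ x ∈ M, ∀ y ∈ M, x * y = y * x) (b : S)
    (m : M) : commHom M hMc b m = b * m * b⁻¹ * (m : S)⁻¹ := rfl


theorem center_le_of_index_two {M : Subgroup S} (hM : M.index = 2)
    (hMc : ∀ x ∈ M, ∀ y ∈ M, x * y = y * x) (hna : ¬ ∀ a b : S, a * b = b * a) :
    Subgroup.center S ≤ M := by
  intro z hz
  by_contra hzM
  apply hna
  exact comm_of_index_two_map (MonoidHom.id S) Function.surjective_id hM hzM
    (fun x hx y hy => hMc x hx y hy) (fun m _ => (Subgroup.mem_center_iff.1 hz m).symm)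


theorem range_commHom [Finite S] (M : Subgroup S) [M.Normal] (hM : M.index = 2)
    (hMc : ∀ x ∈ M, ∀ y ∈ M, x * y = y * x) (b : S) (hb : b ∉ M) :
    (commHom M hMc b).range = commutator S := by
  set f := commHom M hMc b with hf
  apply le_antisymm
  · rintro _ ⟨m, rfl⟩
    rw [hf, commHom_apply, commutator_def]
    exact Subgroup.commutator_mem_commutator (Subgroup.mem_top b) (Subgroup.mem_top (m : S))
  · have hKM : f.range ≤ M := by
      rintro _ ⟨m, rfl⟩
      rw [hf, commHom_apply]
      exact M.mul_mem (Subgroup.Normal.conj_mem (inferInstance : M.Normal) (m : S) m.2 b) (M.inv_mem m.2)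
    haveI hKn : f.range.Normal := by
      refine ⟨fun k hk g => ?_⟩
      have hbk : b * k * b⁻¹ ∈ f.range := by
        obtain ⟨m, rfl⟩ := hk
        refine ⟨⟨b * m * b⁻¹, Subgroup.Normal.conj_mem (inferInstance : M.Normal) (m : S) m.2 b⟩, ?_⟩
        rw [hf, commHom_apply, commHom_apply]
        show b * (b * m * b⁻¹) * b⁻¹ * (b * (m : S) * b⁻¹)⁻¹ = b * (b * m * b⁻¹ * (m : S)⁻¹) * b⁻¹
        group
      by_cases hg : g ∈ M
      · have h1 : g * k = k * g := hMc g hg k (hKM hk)
        rw [h1, mul_assoc, mul_inv_cancel, mul_one]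
        exact hk
      · have h2 : b⁻¹ * g ∈ M := by
          rw [Subgroup.mul_mem_iff_of_index_two hM]
          exact ⟨fun h => absurd (by simpa using M.inv_mem h) hb, fun h => absurd h hg⟩
        have h3 : (b⁻¹ * g) * k = k * (b⁻¹ * g) := hMc _ h2 _ (hKM hk)
        have h4 : g * k * g⁻¹ = b * ((b⁻¹ * g) * k * (b⁻¹ * g)⁻¹) * b⁻¹ := by group
        rw [h4, h3, mul_assoc k, mul_inv_cancel, mul_one]
        exact hbk
    apply commutator_le_of_quot_comm
    apply comm_of_index_two_map (QuotientGroup.mk' f.range) (QuotientGroup.mk'_surjective _) hM hb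
    · intro x hx y hy
      rw [← map_mul, ← map_mul, hMc x hx y hy]
    · intro m hm
      have h1 : (QuotientGroup.mk' f.range) ⁅b, m⁆ = 1 := by
        rw [QuotientGroup.mk'_apply, QuotientGroup.eq_one_iff]
        exact ⟨⟨m, hm⟩, rfl⟩
      rw [map_commutatorElement, commutatorElement_eq_one_iff_mul_comm] at h1
      exact h1


theorem ker_commHom (M : Subgroup S) [M.Normal] (hM : M.index = 2)
    (hMc : ∀ x ∈ M, ∀ y ∈ M, x * y = y * x) (b : S) (hb : b ∉ M) :
    (commHom M hMc b).ker = (Subgroup.center S).subgroupOf M := by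
  ext m
  rw [MonoidHom.mem_ker, commHom_apply, Subgroup.mem_subgroupOf]
  constructor
  · intro h
    have h1 : b * m = m * b := by
      have : b * m = (b * m * b⁻¹ * (m : S)⁻¹) * (m * b) := by group
      rw [this, h, one_mul]
    exact mem_center_of_index_two hM hb (fun x hx => hMc x hx m m.2) h1
  · intro h
    have h1 : b * m = m * b := Subgroup.mem_center_iff.1 h b
    rw [h1]; group


/-- A nonabelian group with an abelian subgroup `M` of index two has `|M| = |Z(S)| |S'|`. -/
theorem card_of_abelian_index_two [Finite S] (M : Subgroup S) (hM : M.index = 2)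
    (hMc : ∀ x ∈ M, ∀ y ∈ M, x * y = y * x) (hna : ¬ ∀ a b : S, a * b = b * a) :
    Nat.card M = Nat.card (Subgroup.center S) * Nat.card (commutator S) := by
  haveI hMn : M.Normal := Subgroup.normal_of_index_eq_two hM
  obtain ⟨b, hb⟩ := exists_not_mem_of_index_two hM
  have h1 := Subgroup.card_eq_card_quotient_mul_card_subgroup (commHom M hMc b).ker
  have h2 : Nat.card (M ⧸ (commHom M hMc b).ker) = Nat.card (commutator S) := by
    rw [Nat.card_congr (QuotientGroup.quotientKerEquivRange (commHom M hMc b)).toEquiv,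
      range_commHom M hM hMc b hb]
  have h3 : Nat.card (commHom M hMc b).ker = Nat.card (Subgroup.center S) := by
    rw [ker_commHom M hM hMc b hb]
    exact Nat.card_congr
      (Subgroup.subgroupOfEquivOfLe (center_le_of_index_two hM hMc hna)).toEquiv
  rw [h1, h2, h3, mul_comm]




/-- A nonabelian finite `2`-group has a central involution inside its commutator subgroup. -/
theorem exists_central_involution [Finite S] (hS : IsPGroup 2 S)
    (hna : ¬ ∀ a b : S, a * b = b * a) :
    ∃ z : S, z ∈ Subgroup.center S ∧ z ∈ commutator S ∧ orderOf z = 2 := by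
  haveI : Fact (Nat.Prime 2) := ⟨Nat.prime_two⟩
  have hne := center_inf_commutator_ne_bot hS hna
  have h1 : 2 ∣ Nat.card (Subgroup.center S ⊓ commutator S : Subgroup S) := by
    rcases (hS.to_subgroup (Subgroup.center S ⊓ commutator S)).card_eq_or_dvd with h | h
    · exact absurd (Subgroup.card_eq_one.1 h) hne
    · exact h
  obtain ⟨z, hz⟩ := exists_prime_orderOf_dvd_card' 2 h1
  refine ⟨z, z.2.1, z.2.2, ?_⟩
  rw [← hz, Subgroup.orderOf_coe]


theorem mem_zpowers_of_sq (x g : S) (hx : x * x = 1) (hg : g ∈ Subgroup.zpowers x) :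
    g = 1 ∨ g = x := by
  obtain ⟨k, rfl⟩ := hg
  show x ^ k = 1 ∨ x ^ k = x
  have hx2 : x ^ 2 = 1 := by rw [pow_two]; exact hx
  rw [zpow_eq_zpow_emod' k hx2]
  rcases Int.emod_two_eq_zero_or_one k with h | h
  · left; rw [Nat.cast_ofNat, h, zpow_zero]
  · right; rw [Nat.cast_ofNat, h, zpow_one]


/-- The contradiction step: `M = ⟨a⟩ × ⟨z⟩` cannot be a maximal subgroup when `Z(S) = ⟨z⟩`. -/
theorem mem_zpowers_of_abelian_max [Finite S] (z a : S) (hzZ : z ∈ Subgroup.center S)
    (hz2 : z * z = 1) (M : Subgroup S) (hM : M.index = 2)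
    (hMdesc : ∀ g ∈ M, ∃ i j : ℤ, g = a ^ i * z ^ j) (haM : a ∈ M)
    (hcen : ∀ c ∈ Subgroup.center S, c = 1 ∨ c = z) (t : ℕ) (h4 : orderOf a = 4 * t) (ht : 0 < t) :
    z ∈ Subgroup.zpowers a := by
  haveI hMn : M.Normal := Subgroup.normal_of_index_eq_two hM
  obtain ⟨b, hb⟩ := exists_not_mem_of_index_two hM
  obtain ⟨i, j, hij⟩ := hMdesc _ (hMn.conj_mem a haM b)
  have hzc : ∀ g : S, Commute z g := fun g => (Subgroup.mem_center_iff.1 hzZ g).symm
  set u := a ^ (2 * t) with hu
  have hu1 : u ≠ 1 := by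
    intro h
    have := orderOf_dvd_of_pow_eq_one h
    rw [h4] at this
    have := Nat.le_of_dvd (by omega) this
    omega
  have huu : u * u = 1 := by
    rw [hu, ← pow_add, ← two_mul, ← mul_assoc, show 2 * 2 = 4 by norm_num, ← h4]
    exact pow_orderOf_eq_one a
  have hbu : b * u * b⁻¹ = u ^ i := by
    have hzj : (z ^ j) ^ (2 * t) = 1 := by
      rw [← zpow_natCast, ← zpow_mul, mul_comm, zpow_mul, Nat.cast_mul, zpow_mul, Nat.cast_ofNat]
      have : z ^ (2 : ℤ) = 1 := by
        rw [zpow_ofNat, pow_two]; exact hz2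
      rw [this, one_zpow, one_zpow]
    rw [hu, ← conj_pow, hij, ((hzc a).symm.zpow_zpow i j).mul_pow, hzj, mul_one,
      ← zpow_natCast, ← zpow_mul, mul_comm, zpow_mul, zpow_natCast]
  have hbu' : b * u * b⁻¹ = u := by
    rcases mem_zpowers_of_sq u (u ^ i) huu ⟨i, rfl⟩ with h | h
    · exfalso
      apply hu1
      rw [h] at hbu
      have : u = b⁻¹ * (b * u * b⁻¹) * b := by group
      rw [this, hbu]; group
    · rw [hbu, h]
  have huZ : u ∈ Subgroup.center S := by
    apply mem_center_of_index_two hM hb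
    · intro x hx
      obtain ⟨k, l, rfl⟩ := hMdesc x hx
      have h1 : Commute (a ^ k) u := ((Commute.refl a).zpow_left k).pow_right _
      have h2 : Commute (z ^ l) u := (hzc u).zpow_left l
      exact (h1.mul_left h2).eq
    · have : b * u = (b * u * b⁻¹) * b := by group
      rw [this, hbu']
  rcases hcen u huZ with h | h
  · exact absurd h hu1
  · rw [← h, hu]
    exact Subgroup.npow_mem_zpowers a _




/-- With an abelian maximal subgroup and `|S : S'| = 4`, the center has order two. -/
theorem card_center_eq_two [Finite S] (M : Subgroup S) (hM : M.index = 2)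
    (hMc : ∀ x ∈ M, ∀ y ∈ M, x * y = y * x) (hna : ¬ ∀ a b : S, a * b = b * a)
    (h4 : (commutator S).index = 4) : Nat.card (Subgroup.center S) = 2 := by
  have h1 := card_of_abelian_index_two M hM hMc hna
  have h2 := M.card_mul_index
  have h3 := (commutator S).card_mul_index
  rw [hM, h1] at h2
  rw [h4, ← h2] at h3
  have hpos : 0 < Nat.card (commutator S) := Nat.card_pos
  nlinarith


/-- A group with a cyclic subgroup of index two generated by an involution is commutative. -/
theorem comm_of_sq_index_two (x : S) (hx : x * x = 1) (hi : (Subgroup.zpowers x).index = 2) :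
    ∀ s t : S, s * t = t * s := by
  obtain ⟨c, hc⟩ := exists_not_mem_of_index_two hi
  haveI hn : (Subgroup.zpowers x).Normal := Subgroup.normal_of_index_eq_two hi
  apply comm_of_commute_index_two x c hi hc
  rcases mem_zpowers_of_sq x _ hx (hn.conj_mem x (Subgroup.mem_zpowers x) c) with h | h
  · have : x = 1 := by
      have : x = c⁻¹ * (c * x * c⁻¹) * c := by group
      rw [this, h]; group
    rw [this, mul_one, one_mul]
  · have : c * x = (c * x * c⁻¹) * c := by group
    rw [this, h]


theorem exists_cyclic_index_two (n : ℕ) : ∀ (S : Type u) [Group S] [Finite S], Nat.card S = n →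
    IsPGroup 2 S → (¬ ∀ a b : S, a * b = b * a) → (commutator S).index = 4 →
    ∃ a : S, (Subgroup.zpowers a).index = 2 := by
  induction n using Nat.strong_induction_on with
  | _ n ih =>
  intro S _ _ hn hS hna h4
  obtain ⟨z, hzZ, hzP, hz2⟩ := exists_central_involution hS hna
  have hzz : z * z = 1 := by rw [← pow_two, ← hz2]; exact pow_orderOf_eq_one z
  have hz1 : z ≠ 1 := by
    rintro rfl
    rw [orderOf_one] at hz2
    omega
  set N := Subgroup.zpowers z with hN
  have hNZ : N ≤ Subgroup.center S := by rw [hN, Subgroup.zpowers_le]; exact hzZ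
  have hNP : N ≤ commutator S := by rw [hN, Subgroup.zpowers_le]; exact hzP
  haveI hNn : N.Normal := normal_of_le_center' hNZ
  have hNcard : Nat.card N = 2 := by rw [hN, Nat.card_zpowers, hz2]
  by_cases hq : ∀ s t : S ⧸ N, s * t = t * s
  · have h1 : commutator S = N := le_antisymm (commutator_le_of_quot_comm N hq) hNP
    have h8 : Nat.card S = 8 := by
      have := (commutator S).card_mul_index
      rw [h4, h1, hNcard] at this
      omega
    obtain ⟨a, ha⟩ := exists_order_four h8 hna
    refine ⟨a, ?_⟩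
    have := (Subgroup.zpowers a).card_mul_index
    rw [Nat.card_zpowers, ha, h8] at this
    omega
  · have hcardQ : Nat.card (S ⧸ N) < n := by
      have := N.card_mul_index
      rw [hNcard, hn, Subgroup.index_eq_card] at this
      have hpos : 0 < Nat.card (S ⧸ N) := Nat.card_pos
      omega
    obtain ⟨a', ha'⟩ := ih _ hcardQ (S ⧸ N) rfl (hS.to_quotient N) hq
      ((index_commutator_quot N hNP).trans h4)
    obtain ⟨a, rfl⟩ := QuotientGroup.mk'_surjective N a'
    set π := QuotientGroup.mk' N with hπ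
    set M := (Subgroup.zpowers (π a)).comap π with hMdef
    have hMi : M.index = 2 := by
      rw [hMdef, Subgroup.index_comap_of_surjective _ (QuotientGroup.mk'_surjective N)]
      exact ha'
    have hMdesc : ∀ g ∈ M, ∃ i j : ℤ, g = a ^ i * z ^ j := by
      intro g hg
      rw [hMdef, Subgroup.mem_comap] at hg
      obtain ⟨i, hi⟩ := hg
      have h1 : π (a ^ i) = π g := by rw [map_zpow]; exact hi
      have h2 : (a ^ i)⁻¹ * g ∈ N := QuotientGroup.eq.1 h1
      obtain ⟨j, hj⟩ := h2
      refine ⟨i, j, ?_⟩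
      have hj' : z ^ j = (a ^ i)⁻¹ * g := hj
      rw [hj']; group
    have haM : a ∈ M := by
      rw [hMdef, Subgroup.mem_comap]
      exact Subgroup.mem_zpowers _
    have hzc : ∀ g : S, Commute z g := fun g => (Subgroup.mem_center_iff.1 hzZ g).symm
    have hMc : ∀ x ∈ M, ∀ y ∈ M, x * y = y * x := by
      intro x hx y hy
      obtain ⟨i, j, rfl⟩ := hMdesc x hx
      obtain ⟨k, l, rfl⟩ := hMdesc y hy
      have h1 : Commute (a ^ i) (a ^ k) := (Commute.refl a).zpow_zpow i k
      have h2 : Commute (a ^ i) (z ^ l) := ((hzc (a ^ i)).zpow_left l).symm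
      have h3 : Commute (z ^ j) (a ^ k) := (hzc (a ^ k)).zpow_left j
      have h4 : Commute (z ^ j) (z ^ l) := (Commute.refl z).zpow_zpow j l
      exact ((h1.mul_right h2).mul_left (h3.mul_right h4)).eq
    have hZ2 := card_center_eq_two M hMi hMc hna h4
    have hZN : N = Subgroup.center S :=
      Subgroup.eq_of_le_of_card_ge hNZ (by rw [hZ2, hNcard])
    have hcen : ∀ c ∈ Subgroup.center S, c = 1 ∨ c = z := by
      intro c hc
      rw [← hZN] at hc
      exact mem_zpowers_of_sq z c hzz hc
    by_cases hz : z ∈ Subgroup.zpowers a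
    · refine ⟨a, ?_⟩
      have : Subgroup.zpowers a = M := by
        apply le_antisymm
        · rw [Subgroup.zpowers_le]; exact haM
        · intro g hg
          obtain ⟨i, j, rfl⟩ := hMdesc g hg
          exact (Subgroup.zpowers a).mul_mem (Subgroup.zpow_mem_zpowers a i)
            ((Subgroup.zpowers a).zpow_mem hz j)
      rw [this]; exact hMi
    · exfalso
      apply hz
      haveI : Fact (Nat.Prime 2) := ⟨Nat.prime_two⟩
      obtain ⟨k, hk⟩ := (IsPGroup.iff_orderOf.1 hS) a
      have hk2 : 2 ≤ k := by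
        by_contra hlt
        push Not at hlt
        apply hq
        apply comm_of_sq_index_two (π a) _ ha'
        have h1 : a ^ 2 = 1 := by
          apply orderOf_dvd_iff_pow_eq_one.1
          rw [hk]
          exact pow_dvd_pow 2 (by omega : k ≤ 1)
        rw [← map_mul, ← pow_two, h1, map_one]
      exact mem_zpowers_of_abelian_max z a hzZ hzz M hMi hMdesc haM hcen (2 ^ (k - 2))
        (by rw [hk, show (4 : ℕ) = 2 ^ 2 by norm_num, ← pow_add]; congr 1; omega) (by positivity)




/-- The unique involution of a cyclic group of even order. -/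
theorem eq_one_or_pow_of_sq [Finite S] (a c : S) (n : ℕ) (hn : 0 < n) (ha : orderOf a = 2 * n)
    (hc : c ∈ Subgroup.zpowers a) (hcc : c * c = 1) : c = 1 ∨ c = a ^ n := by
  obtain ⟨i, rfl⟩ := hc
  have h0 : (0 : ℤ) < ((orderOf a : ℕ) : ℤ) := by rw [ha]; positivity
  have h1 : 0 ≤ i % (orderOf a : ℤ) := Int.emod_nonneg _ h0.ne'
  have h2 : i % (orderOf a : ℤ) < (orderOf a : ℤ) := Int.emod_lt_of_pos _ h0
  obtain ⟨j, hj⟩ : ∃ j : ℕ, i % (orderOf a : ℤ) = j := ⟨(i % (orderOf a : ℤ)).toNat, by omega⟩
  have h3 : a ^ i = a ^ j := by rw [← zpow_mod_orderOf, hj, zpow_natCast]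
  show a ^ i = 1 ∨ a ^ i = a ^ n
  rw [h3]
  have hjlt : j < 2 * n := by rw [hj, ha] at h2; exact_mod_cast h2
  have h4 : a ^ (2 * j) = 1 := by
    rw [two_mul, pow_add, ← h3]; exact hcc
  have h5 : 2 * n ∣ 2 * j := by rw [← ha]; exact orderOf_dvd_of_pow_eq_one h4
  have h6 : n ∣ j := (Nat.mul_dvd_mul_iff_left (by norm_num)).1 h5
  obtain ⟨s, rfl⟩ := h6
  have hs : s < 2 := by
    by_contra h
    push Not at h
    have : 2 * n ≤ n * s := by nlinarith
    omega
  interval_cases s
  · left; simp
  · right; simp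


theorem iso_dihedral [Finite S] (a b : S) (k : ℕ) (hi : (Subgroup.zpowers a).index = 2)
    (hb : b ∉ Subgroup.zpowers a) (ha : orderOf a = 2 ^ (k + 2)) (hbb : b * b = 1)
    (hinv : b * a * b⁻¹ = a⁻¹) : Nonempty (S ≃* DihedralGroup (2 ^ (k + 2))) := by
  have hb1 : b ≠ 1 := fun h => hb (h ▸ Subgroup.one_mem _)
  have ha1 : a ≠ 1 := by
    rintro rfl
    rw [orderOf_one] at ha
    have : 2 ^ (k + 2) = 2 ^ k * 4 := by ring
    omega
  have hb2 : orderOf b = 2 := orderOf_eq_prime (by rw [pow_two]; exact hbb) hb1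
  have hyy : (b * a) * (b * a) = 1 := by
    have : b * a * (b * a) = (b * a * b⁻¹) * (b * b) * a := by group
    rw [this, hinv, hbb]; group
  have hy1 : b * a ≠ 1 := by
    intro h
    apply hb
    have : b = a⁻¹ := eq_inv_of_mul_eq_one_left h
    rw [this]
    exact (Subgroup.zpowers a).inv_mem (Subgroup.mem_zpowers a)
  have hy2 : orderOf (b * a) = 2 := orderOf_eq_prime (by rw [pow_two]; exact hyy) hy1
  have hne : b ≠ b * a := by
    intro h
    apply ha1
    have : b * 1 = b * a := by rw [mul_one]; exact h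
    exact (mul_left_cancel this).symm
  have hprod : b * (b * a) = a := by rw [← mul_assoc, hbb, one_mul]
  obtain ⟨e⟩ := Cfsg.Agent.S0206.result b (b * a) hb2 hy2 hne
  rw [hprod, ha] at e
  have htop : Subgroup.closure ({b, b * a} : Set S) = ⊤ := by
    apply eq_top_of_index_two hi _ _ hb
    · rw [Subgroup.zpowers_le]
      have h1 : b * (b * a) ∈ Subgroup.closure ({b, b * a} : Set S) :=
        (Subgroup.closure _).mul_mem (Subgroup.subset_closure (by simp))
          (Subgroup.subset_closure (by simp))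
      rwa [hprod] at h1
    · exact Subgroup.subset_closure (by simp)
  exact ⟨(Subgroup.topEquiv.symm.trans (MulEquiv.subgroupCongr htop.symm)).trans e⟩


theorem iso_quaternion [Finite S] (a b : S) (n : ℕ) [NeZero n] (hb : b ∉ Subgroup.zpowers a)
    (ha : orderOf a = 2 * n) (hcard : Nat.card S = 4 * n) (hbb : b * b = a ^ n)
    (hinv : b * a * b⁻¹ = a⁻¹) : Nonempty (S ≃* QuaternionGroup n) := by
  have hA : a ^ (2 * n) = 1 := by rw [← ha]; exact pow_orderOf_eq_one a
  set φ := quatLift n a b hA hbb hinv with hφ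
  have hφinj : Function.Injective φ := by
    rw [injective_iff_map_eq_one]
    rintro (i | i) hq
    · rw [hφ, quatLift_a] at hq
      unfold zmodPw at hq
      have h2 : orderOf a ∣ i.val := orderOf_dvd_of_pow_eq_one hq
      rw [ha] at h2
      have hlt : i.val < 2 * n := ZMod.val_lt i
      have h3 : i.val = 0 := Nat.eq_zero_of_dvd_of_lt h2 hlt
      have h4 : i = 0 := (ZMod.val_eq_zero i).1 h3
      rw [h4]; rfl
    · exfalso
      rw [hφ, quatLift_xa] at hq
      unfold zmodPw at hq
      apply hb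
      have hy' : b = (a ^ i.val)⁻¹ := eq_inv_of_mul_eq_one_left hq
      rw [hy']
      exact (Subgroup.zpowers a).inv_mem ((Subgroup.zpowers a).pow_mem (Subgroup.mem_zpowers a) _)
  have hbij : Function.Bijective φ := by
    apply Function.Injective.bijective_of_nat_card_le hφinj
    rw [hcard, Nat.card_eq_fintype_card, QuaternionGroup.card]
  exact ⟨(MulEquiv.ofBijective φ hbij).symm⟩




theorem classify [Finite S] (hS : IsPGroup 2 S) (hna : ¬ ∀ a b : S, a * b = b * a)
    (h4 : (commutator S).index = 4) (a : S) (hi : (Subgroup.zpowers a).index = 2) :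
    ((∃ k : ℕ, Nonempty (S ≃* DihedralGroup (2 ^ (k + 2)))) ∨
      (∃ k : ℕ, Nat.card S = 2 ^ (k + 4) ∧ ∃ a b : S, orderOf a = 2 ^ (k + 3) ∧ orderOf b = 2 ∧
        b * a * b⁻¹ = a ^ (2 ^ (k + 2) - 1)) ∨
      (∃ k : ℕ, Nonempty (S ≃* QuaternionGroup (2 ^ (k + 1))))) := by
  haveI : Fact (Nat.Prime 2) := ⟨Nat.prime_two⟩
  set A := Subgroup.zpowers a with hA
  have hAc : ∀ x ∈ A, ∀ y ∈ A, x * y = y * x := by
    rintro _ ⟨i, rfl⟩ _ ⟨j, rfl⟩
    exact ((Commute.refl a).zpow_zpow i j).eq
  have hZ2 := card_center_eq_two A hi hAc hna h4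
  have hZA := center_le_of_index_two hi hAc hna
  have hcardS : Nat.card S = 2 * orderOf a := by
    have := A.card_mul_index
    rw [hi, hA, Nat.card_zpowers] at this
    omega
  obtain ⟨m, hm⟩ := (IsPGroup.iff_orderOf.1 hS) a
  -- `|S| ≥ 8`
  have hm2 : 2 ≤ m := by
    by_contra hlt
    push Not at hlt
    have h1 : Nat.card S ≤ 4 := by
      rw [hcardS, hm]
      have : 2 ^ m ≤ 2 ^ 1 := Nat.pow_le_pow_right (by norm_num) (by omega)
      omega
    have h2 := (commutator S).card_mul_index
    rw [h4] at h2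
    have h3 : Nat.card (commutator S) = 1 := by
      have hpos : 0 < Nat.card (commutator S) := Nat.card_pos
      nlinarith
    have h5 : commutator S = ⊥ := Subgroup.card_eq_one.1 h3
    apply hna
    intro x y
    have : ⁅x, y⁆ ∈ commutator S := by
      rw [commutator_def]
      exact Subgroup.commutator_mem_commutator (Subgroup.mem_top x) (Subgroup.mem_top y)
    rw [h5, Subgroup.mem_bot, commutatorElement_eq_one_iff_mul_comm] at this
    exact this
  obtain ⟨k, rfl⟩ : ∃ k, m = k + 2 := ⟨m - 2, by omega⟩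
  set n := 2 ^ (k + 1) with hn
  have hq : orderOf a = 2 * n := by rw [hm, hn]; ring
  have hnpos : 0 < n := by rw [hn]; positivity
  set z := a ^ n with hz
  have hzA : z ∈ A := Subgroup.npow_mem_zpowers a n
  have hzz : z * z = 1 := by
    rw [hz, ← pow_add, ← two_mul, ← hq]; exact pow_orderOf_eq_one a
  have hz1 : z ≠ 1 := by
    intro h
    have := orderOf_dvd_of_pow_eq_one h
    rw [hq] at this
    have := Nat.le_of_dvd hnpos this
    omega
  have hcen : ∀ c ∈ Subgroup.center S, c = 1 ∨ c = z := by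
    intro c hc
    apply eq_one_or_pow_of_sq a c n hnpos hq (hZA hc)
    have h1 : (⟨c, hc⟩ : Subgroup.center S) ^ Nat.card (Subgroup.center S) = 1 := pow_card_eq_one'
    rw [hZ2] at h1
    have h2 := congrArg Subtype.val h1
    rw [Subgroup.coe_pow, Subgroup.coe_one, pow_two] at h2
    exact h2
  obtain ⟨b, hb⟩ := exists_not_mem_of_index_two hi
  haveI hAn : A.Normal := Subgroup.normal_of_index_eq_two hi
  have hbbA : b * b ∈ A := by rw [Subgroup.mul_mem_iff_of_index_two hi]
  have hbbZ : b * b ∈ Subgroup.center S :=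
    mem_center_of_index_two hi hb (fun x hx => hAc x hx _ hbbA) (by group)
  have hconjA : b * a * b⁻¹ ∈ A := hAn.conj_mem a (Subgroup.mem_zpowers a) b
  have hwA : b * a * b⁻¹ * a ∈ A := A.mul_mem hconjA (Subgroup.mem_zpowers a)
  have hwZ : b * a * b⁻¹ * a ∈ Subgroup.center S := by
    apply mem_center_of_index_two hi hb (fun x hx => hAc x hx _ hwA)
    have h1 : (b * b) * a = a * (b * b) := (Subgroup.mem_center_iff.1 hbbZ a).symm
    have h2 : a * (b * a * b⁻¹) = (b * a * b⁻¹) * a := hAc a (Subgroup.mem_zpowers a) _ hconjA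
    calc b * (b * a * b⁻¹ * a) = ((b * b) * a) * b⁻¹ * a := by group
      _ = (a * (b * b)) * b⁻¹ * a := by rw [h1]
      _ = (a * (b * a * b⁻¹)) * b := by group
      _ = ((b * a * b⁻¹) * a) * b := by rw [h2]
  have hcardS' : Nat.card S = 4 * n := by rw [hcardS, hq]; ring
  rcases hcen _ hwZ with hw | hw
  · have hinv : b * a * b⁻¹ = a⁻¹ := eq_inv_of_mul_eq_one_left hw
    rcases hcen _ hbbZ with hbb | hbb
    · left
      exact ⟨k, iso_dihedral a b k hi hb hm hbb hinv⟩
    · right; right
      haveI : NeZero n := ⟨hnpos.ne'⟩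
      exact ⟨k, iso_quaternion a b n hb hq hcardS' hbb hinv⟩
  · right; left
    have hconj : b * a * b⁻¹ = z * a⁻¹ := by rw [← hw]; group
    -- `k ≠ 0`
    obtain ⟨k', rfl⟩ : ∃ k', k = k' + 1 := by
      rcases k with _ | k'
      · exfalso
        apply hna
        apply comm_of_commute_index_two a b hi hb
        have h1 : z * a⁻¹ = a := by
          rw [hz, hn]
          show a ^ 2 ^ (0 + 1) * a⁻¹ = a
          rw [zero_add, pow_one, pow_two, mul_inv_cancel_right]
        rw [h1] at hconj
        have : b * a = (b * a * b⁻¹) * b := by group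
        rw [this, hconj]
      · exact ⟨k', rfl⟩
    have hrel : z * a⁻¹ = a ^ (2 ^ (k' + 2) - 1) := by
      have h1 : a ^ (2 ^ (k' + 2) - 1) * a = z := by
        rw [← pow_succ, hz, hn]
        congr 1
        exact Nat.sub_add_cancel Nat.one_le_two_pow
      rw [← h1, mul_inv_cancel_right]
    have hcard2 : Nat.card S = 2 ^ (k' + 4) := by rw [hcardS', hn]; ring
    have ha3 : orderOf a = 2 ^ (k' + 3) := by rw [hm]
    rcases hcen _ hbbZ with hbb | hbb
    · have hb1 : b ≠ 1 := fun h => hb (h ▸ Subgroup.one_mem _)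
      refine ⟨k', hcard2, a, b, ha3, orderOf_eq_prime (by rw [pow_two]; exact hbb) hb1, ?_⟩
      rw [hconj, hrel]
    · have hb1 : b * a ≠ 1 := by
        intro h
        apply hb
        have : b = a⁻¹ := eq_inv_of_mul_eq_one_left h
        rw [this]
        exact A.inv_mem (Subgroup.mem_zpowers a)
      have hyy : (b * a) * (b * a) = 1 := by
        have h1 : b * a * (b * a) = (b * a * b⁻¹) * (b * b) * a := by group
        have h2 : a⁻¹ * z = z * a⁻¹ := hAc _ (A.inv_mem (Subgroup.mem_zpowers a)) _ hzA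
        rw [h1, hconj, hbb, mul_assoc z, h2, ← mul_assoc, hzz, one_mul, inv_mul_cancel]
      refine ⟨k', hcard2, a, b * a, ha3, orderOf_eq_prime (by rw [pow_two]; exact hyy) hb1, ?_⟩
      rw [← hrel, ← hconj]; group





/-- Let S be a finite 2-group whose commutator quotient S/[S,S] is a Klein four-group (order 4 and exponent 2). Then S itself has order 4, or S is dihedral of order at least 8, semidihedral of order at least 16 (order 2^(k+4) with an element a of order 2^(k+3) and an involution b with b a b⁻¹ = a^(2^(k+2)−1)), or generalized quaternion of order at least 8. -/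
theorem result {S : Type*} [Group S] [Finite S] (h2 : IsPGroup 2 S) (hab : Nat.card (Abelianization S) = 4)
    (hexp : ∀ x : Abelianization S, x ^ 2 = 1) :
    Nat.card S = 4 ∨
    ((∃ k : ℕ, Nonempty (S ≃* DihedralGroup (2 ^ (k + 2)))) ∨
      (∃ k : ℕ, Nat.card S = 2 ^ (k + 4) ∧ ∃ a b : S, orderOf a = 2 ^ (k + 3) ∧ orderOf b = 2 ∧ b * a * b⁻¹ = a ^ (2 ^ (k + 2) - 1)) ∨
      (∃ k : ℕ, Nonempty (S ≃* QuaternionGroup (2 ^ (k + 1))))) := by
  have h4 : (commutator S).index = 4 := by
    rw [Subgroup.index_eq_card]; exact hab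
  by_cases hc : ∀ a b : S, a * b = b * a
  · left
    have h1 : commutator S = ⊥ := by
      rw [commutator_eq_closure, Subgroup.closure_eq_bot_iff]
      rintro _ ⟨a, b, rfl⟩
      rw [Set.mem_singleton_iff, commutatorElement_eq_one_iff_mul_comm]
      exact hc a b
    rw [h1, Subgroup.index_bot] at h4
    exact h4
  · right
    obtain ⟨a, ha⟩ := exists_cyclic_index_two _ S rfl h2 hc h4
    exact classify h2 hc h4 a ha

end Cfsg.Agent.S4399
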