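import Cfsg.Statements.S0519
import Mathlib
import Mathlib
import Cfsg.Agent.Lib.Helper1.MaxAbelianNormal
import Cfsg.Agent.Lib.Helper1.CyclicMaxTwo
import Cfsg.Agent.Lib.Helper1.OmegaOneCyclicMax
import Cfsg.Agent.Lib.Helper1.BurnsideBasis
import Cfsg.Agent.Lib.Helper1.FrattiniP
import Cfsg.Agent.S4399
-- import your own Cfsg.Agent.* helpers here

set_option autoImplicit false
open Cfsg

namespace Cfsg.Agent.S0519

open Cfsg.Agent.Lib.Helper1
open scoped commutatorElement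
variable {P : Type*} [Group P] [Finite P]


theorem exists_max_normal_abelian :
    ∃ A : Subgroup P, A.Normal ∧ IsMulCommutative A ∧
      ∀ M : Subgroup P, M.Normal → IsMulCommutative M → A ≤ M → M = A := by
  have hfin : {A : Subgroup P | A.Normal ∧ IsMulCommutative A}.Finite := Set.toFinite _
  have hne : {A : Subgroup P | A.Normal ∧ IsMulCommutative A}.Nonempty :=
    ⟨⊥, inferInstance, inferInstance⟩
  obtain ⟨A, hA⟩ := hfin.exists_maximal hne
  exact ⟨A, hA.prop.1, hA.prop.2, fun M hM1 hM2 hAM =>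
    le_antisymm (hA.le_of_ge ⟨hM1, hM2⟩ hAM) hAM⟩


theorem setup (p : ℕ) [Fact p.Prime] (hP : IsPGroup p P)
    (hn : ∀ A : Subgroup P, A.Normal → IsMulCommutative A → IsCyclic A) :
    ∃ a : P, (Subgroup.zpowers a).Normal ∧ ∀ g : P, g * a = a * g → g ∈ Subgroup.zpowers a := by
  obtain ⟨A, hAn, hAc, hmax⟩ := exists_max_normal_abelian (P := P)
  haveI := hP.isNilpotent
  have hcent := centralizer_eq_of_maximal_abelian_normal A hmax
  haveI := hn A hAn hAc
  obtain ⟨⟨a, haA⟩, ha⟩ := IsCyclic.exists_generator (α := A)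
  have hAa : A = Subgroup.zpowers a := by
    apply le_antisymm
    · intro x hx
      obtain ⟨k, hk⟩ := Subgroup.mem_zpowers_iff.mp (ha ⟨x, hx⟩)
      refine Subgroup.mem_zpowers_iff.mpr ⟨k, ?_⟩
      have := congrArg Subtype.val hk
      simpa using this
    · rw [Subgroup.zpowers_le]; exact haA
  refine ⟨a, hAa ▸ hAn, ?_⟩
  intro g hg
  rw [← hAa, ← hcent, Subgroup.mem_centralizer_iff]
  intro x hx
  rw [SetLike.mem_coe, hAa] at hx
  obtain ⟨k, rfl⟩ := Subgroup.mem_zpowers_iff.mp hx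
  exact ((Commute.zpow_right (show Commute g a from hg) k).eq).symm


theorem comm_mem {a : P} (hn : (Subgroup.zpowers a).Normal)
    (hC : ∀ g : P, g * a = a * g → g ∈ Subgroup.zpowers a) (g h : P) :
    ⁅g, h⁆ ∈ Subgroup.zpowers a := by
  have key : ∀ g h : P, ⁅g⁻¹, h⁻¹⁆ ∈ Subgroup.zpowers a := by
    intro g h
    apply hC
    obtain ⟨i, hi⟩ := Subgroup.mem_zpowers_iff.mp (hn.conj_mem a (Subgroup.mem_zpowers a) g)
    obtain ⟨j, hj⟩ := Subgroup.mem_zpowers_iff.mp (hn.conj_mem a (Subgroup.mem_zpowers a) h)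
    have h1 : (g * h) * a * (g * h)⁻¹ = (h * g) * a * (h * g)⁻¹ := by
      have e1 : (g * h) * a * (g * h)⁻¹ = g * (h * a * h⁻¹) * g⁻¹ := by group
      have e2 : (h * g) * a * (h * g)⁻¹ = h * (g * a * g⁻¹) * h⁻¹ := by group
      have e3 : g * a ^ j * g⁻¹ = (g * a * g⁻¹) ^ j := by rw [conj_zpow]
      have e4 : h * a ^ i * h⁻¹ = (h * a * h⁻¹) ^ i := by rw [conj_zpow]
      rw [e1, e2, ← hi, ← hj, e3, e4, ← hi, ← hj, ← zpow_mul, ← zpow_mul, mul_comm]
    rw [commutatorElement_def]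
    have : g⁻¹ * h⁻¹ * g⁻¹⁻¹ * h⁻¹⁻¹ * a = (h * g)⁻¹ * ((g * h) * a * (g * h)⁻¹) * (g * h) := by group
    rw [this, h1]; group
  have := key g⁻¹ h⁻¹
  simpa using this


theorem exists_pow_mem' (p : ℕ) [Fact p.Prime] (hP : IsPGroup p P) (A : Subgroup P) (c : P)
    (hc : c ∉ A) : ∃ j : ℕ, c ^ (p ^ j) ∉ A ∧ (c ^ (p ^ j)) ^ p ∈ A := by
  obtain ⟨k, hk⟩ := hP c
  have hex : ∃ j : ℕ, c ^ (p ^ j) ∈ A := ⟨k, by rw [hk]; exact A.one_mem⟩
  classical
  have hmin := @Nat.find_min _ _ hex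
  have hspec := Nat.find_spec hex
  set j := Nat.find hex with hj
  have hj0 : j ≠ 0 := by
    intro h0
    rw [h0] at hspec
    simp at hspec
    exact hc hspec
  obtain ⟨i, hi⟩ := Nat.exists_eq_succ_of_ne_zero hj0
  refine ⟨i, ?_, ?_⟩
  · apply hmin
    omega
  · rw [← pow_mul, ← pow_succ, ← Nat.succ_eq_add_one, ← hi]
    exact hspec


theorem exists_pow_mem (p : ℕ) [Fact p.Prime] (hP : IsPGroup p P) (A : Subgroup P) (hA : A ≠ ⊤) :
    ∃ b : P, b ∉ A ∧ b ^ p ∈ A := by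
  obtain ⟨c, hc⟩ : ∃ c : P, c ∉ A := by
    by_contra hcon
    push Not at hcon
    exact hA (eq_top_iff.mpr (fun x _ => hcon x))
  obtain ⟨k, hk⟩ := hP c
  have hex : ∃ j : ℕ, c ^ (p ^ j) ∈ A := ⟨k, by rw [hk]; exact A.one_mem⟩
  classical
  have hmin := @Nat.find_min _ _ hex
  have hspec := Nat.find_spec hex
  set j := Nat.find hex with hj
  have hj0 : j ≠ 0 := by
    intro h0
    rw [h0] at hspec
    simp at hspec
    exact hc hspec
  obtain ⟨i, hi⟩ := Nat.exists_eq_succ_of_ne_zero hj0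
  refine ⟨c ^ (p ^ i), ?_, ?_⟩
  · apply hmin
    omega
  · rw [← pow_mul, ← pow_succ, ← Nat.succ_eq_add_one, ← hi]
    exact hspec




theorem normal_of_le {a : P} (hn : (Subgroup.zpowers a).Normal)
    (hC : ∀ g : P, g * a = a * g → g ∈ Subgroup.zpowers a) (B : Subgroup P)
    (hAB : Subgroup.zpowers a ≤ B) : B.Normal := by
  apply normal_of_commutator_le
  rw [commutator_eq_closure, Subgroup.closure_le]
  rintro _ ⟨g, h, rfl⟩
  exact hAB (comm_mem hn hC g h)


theorem not_cyclic_of_exp {R : Type*} [Group R] [Finite R] (p : ℕ) [hp : Fact p.Prime]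
    (hexp : ∀ x : R, x ^ p = 1) (hcard : Nat.card R = p ^ 2) : ¬ IsCyclic R := by
  intro hcyc
  obtain ⟨g, hg⟩ := IsCyclic.exists_ofOrder_eq_natCard (α := R)
  have h1 : orderOf g ∣ p := orderOf_dvd_of_pow_eq_one (hexp g)
  rw [hg, hcard] at h1
  have h2 := Nat.le_of_dvd hp.out.pos h1
  have h3 := hp.out.two_le
  nlinarith


theorem odd_false (p : ℕ) [hp : Fact p.Prime] (hp2 : p ≠ 2) (hP : IsPGroup p P)
    (hn : ∀ A : Subgroup P, A.Normal → IsMulCommutative A → IsCyclic A)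
    {a : P} (hAn : (Subgroup.zpowers a).Normal)
    (hC : ∀ g : P, g * a = a * g → g ∈ Subgroup.zpowers a)
    (hne : Subgroup.zpowers a ≠ ⊤) : False := by
  obtain ⟨b, hbA, hbp⟩ := exists_pow_mem p hP _ hne
  set A := Subgroup.zpowers a with hA
  set B := Subgroup.zpowers b ⊔ A with hB
  have hAB : A ≤ B := le_sup_right
  have hbB : b ∈ B := (le_sup_left : Subgroup.zpowers b ≤ B) (Subgroup.mem_zpowers b)
  have haB : a ∈ B := hAB (Subgroup.mem_zpowers a)
  haveI hBn : B.Normal := normal_of_le hAn hC B hAB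
  have hrel : A.relIndex B = p := relIndex_zpowers_sup_eq_prime p A b hbA hbp
  have hRp : IsPGroup p B := hP.to_subgroup B
  have hCi : (A.subgroupOf B).index = p := hrel
  have hCc : IsCyclic (A.subgroupOf B) :=
    (Subgroup.subgroupOfEquivOfLe hAB).isCyclic.mpr inferInstance
  have hncyc : ¬ IsCyclic B := by
    intro hcyc
    apply hbA
    apply hC
    have h1 := hcyc.commutative.is_comm.comm ⟨b, hbB⟩ ⟨a, haB⟩
    exact congrArg Subtype.val h1
  obtain ⟨hE, hcard⟩ :=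
    omega_one_of_odd_p_group_with_cyclic_maximal hp2 hRp hncyc (A.subgroupOf B) hCc hCi
  set Ω := Subgroup.closure {x : B | x ^ p = 1} with hΩ
  haveI : Ω.Characteristic := by
    rw [Subgroup.characteristic_iff_map_le]
    intro ϕ
    rw [hΩ, MonoidHom.map_closure, Subgroup.closure_le]
    rintro _ ⟨x, hx, rfl⟩
    apply Subgroup.subset_closure
    simp only [Set.mem_setOf_eq] at hx ⊢
    rw [← map_pow, hx, map_one]
  have hEn : (Ω.map B.subtype).Normal := inferInstance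
  haveI := hE.1
  have hEc : IsMulCommutative (Ω.map B.subtype) := inferInstance
  have hcyc := hn _ hEn hEc
  have hcyc2 : IsCyclic Ω :=
    (Subgroup.equivMapOfInjective Ω B.subtype (Subgroup.subtype_injective _)).isCyclic.mpr hcyc
  refine not_cyclic_of_exp p ?_ hcard hcyc2
  intro x
  have := hE.2 x.1 x.2
  exact Subtype.ext this




theorem not_cyclic_of_three {R : Type*} [Group R] [Finite R] (H : Subgroup R) (x y : R)
    (hx : x ∈ H) (hy : y ∈ H) (hx2 : x ^ 2 = 1) (hy2 : y ^ 2 = 1) (hx1 : x ≠ 1) (hy1 : y ≠ 1)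
    (hxy : x ≠ y) : ¬ IsCyclic H := by
  intro hcyc
  classical
  haveI : Fintype H := Fintype.ofFinite H
  have h1 := IsCyclic.card_pow_eq_one_le (α := H) (n := 2) (by norm_num)
  have h2 : ({1, ⟨x, hx⟩, ⟨y, hy⟩} : Finset H) ⊆ Finset.univ.filter (fun a : H => a ^ 2 = 1) := by
    intro t ht
    simp only [Finset.mem_insert, Finset.mem_singleton] at ht
    simp only [Finset.mem_filter, Finset.mem_univ, true_and]
    rcases ht with rfl | rfl | rfl
    · simp
    · exact Subtype.ext hx2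
    · exact Subtype.ext hy2
  have h3 : ({1, ⟨x, hx⟩, ⟨y, hy⟩} : Finset H).card = 3 := by
    rw [Finset.card_eq_three]
    refine ⟨1, ⟨x, hx⟩, ⟨y, hy⟩, ?_, ?_, ?_, rfl⟩
    · intro h; exact hx1 (congrArg Subtype.val h).symm
    · intro h; exact hy1 (congrArg Subtype.val h).symm
    · intro h; exact hxy (congrArg Subtype.val h)
  have h4 := Finset.card_le_card h2
  omega


theorem four_group_false (hn : ∀ A : Subgroup P, A.Normal → IsMulCommutative A → IsCyclic A)
    (z x : P) (hz2 : z ^ 2 = 1) (hx2 : x ^ 2 = 1) (hz1 : z ≠ 1) (hx1 : x ≠ 1) (hzx : z ≠ x)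
    (hcomm : z * x = x * z) (hzc : ∀ g : P, g * z * g⁻¹ = z)
    (hxc : ∀ g : P, g * x * g⁻¹ = x ∨ g * x * g⁻¹ = z * x) : False := by
  set E := Subgroup.closure ({z, x} : Set P) with hE
  have hzE : z ∈ E := Subgroup.subset_closure (by simp)
  have hxE : x ∈ E := Subgroup.subset_closure (by simp)
  have hEn : E.Normal := by
    constructor
    intro n hn g
    have h1 : E.map (MulAut.conj g).toMonoidHom ≤ E := by
      rw [hE, MonoidHom.map_closure, Subgroup.closure_le]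
      rintro _ ⟨y, hy, rfl⟩
      simp only [Set.mem_insert_iff, Set.mem_singleton_iff] at hy
      rcases hy with rfl | rfl
      · simp only [MulEquiv.coe_toMonoidHom, MulAut.conj_apply]
        rw [hzc]; exact hzE
      · simp only [MulEquiv.coe_toMonoidHom, MulAut.conj_apply]
        rcases hxc g with h | h
        · rw [h]; exact hxE
        · rw [h]; exact E.mul_mem hzE hxE
    have h2 : (MulAut.conj g).toMonoidHom n ∈ E.map (MulAut.conj g).toMonoidHom :=
      Subgroup.mem_map_of_mem _ hn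
    have h3 := h1 h2
    simpa using h3
  have hEc : IsMulCommutative E := by
    apply Subgroup.isMulCommutative_closure
    intro u hu v hv
    simp only [Set.mem_insert_iff, Set.mem_singleton_iff] at hu hv
    rcases hu with rfl | rfl <;> rcases hv with rfl | rfl
    · rfl
    · exact hcomm
    · exact hcomm.symm
    · rfl
  exact not_cyclic_of_three E z x hzE hxE hz2 hx2 hz1 hx1 hzx (hn E hEn hEc)


theorem z_ne_one {a : P} {m : ℕ} (hm : 1 ≤ m) (ha : orderOf a = 2 ^ m) :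
    a ^ (2 ^ (m - 1)) ≠ 1 := by
  intro h
  have h1 := orderOf_dvd_of_pow_eq_one h
  rw [ha] at h1
  have h2 := Nat.le_of_dvd (by positivity) h1
  have h3 : 2 ^ (m - 1) < 2 ^ m := Nat.pow_lt_pow_right (by norm_num) (by omega)
  omega


theorem z_sq {a : P} {m : ℕ} (hm : 1 ≤ m) (ha : orderOf a = 2 ^ m) :
    (a ^ (2 ^ (m - 1))) ^ 2 = 1 := by
  rw [← pow_mul, ← pow_succ]
  have : m - 1 + 1 = m := by omega
  rw [this, ← ha]
  exact pow_orderOf_eq_one a


theorem z_conj {a : P} {m : ℕ} (hAn : (Subgroup.zpowers a).Normal) (hm : 1 ≤ m)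
    (ha : orderOf a = 2 ^ m) (g : P) :
    g * a ^ (2 ^ (m - 1)) * g⁻¹ = a ^ (2 ^ (m - 1)) := by
  obtain ⟨k, hk⟩ := Subgroup.mem_zpowers_iff.mp (hAn.conj_mem a (Subgroup.mem_zpowers a) g)
  have h1 : g * a ^ (2 ^ (m - 1)) * g⁻¹ = (a ^ (2 ^ (m - 1))) ^ k := by
    rw [← conj_pow, ← hk, ← zpow_natCast, ← zpow_natCast, ← zpow_mul, ← zpow_mul, mul_comm]
  have hz2 := z_sq hm ha
  have hz1 := z_ne_one hm ha
  set z := a ^ (2 ^ (m - 1)) with hz
  rcases Int.even_or_odd' k with ⟨q, hq | hq⟩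
  · exfalso
    apply hz1
    have : g * z * g⁻¹ = 1 := by
      rw [h1, hq, zpow_mul, zpow_ofNat, hz2, one_zpow]
    have h2 : z = g⁻¹ * (g * z * g⁻¹) * g := by group
    rw [h2, this]; group
  · rw [h1, hq, zpow_add, zpow_mul, zpow_ofNat, hz2, one_zpow, one_mul, zpow_one]




theorem no_modular (hn : ∀ A : Subgroup P, A.Normal → IsMulCommutative A → IsCyclic A)
    {a : P} {m : ℕ} (hAn : (Subgroup.zpowers a).Normal)
    (hC : ∀ g : P, g * a = a * g → g ∈ Subgroup.zpowers a)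
    (hm : 3 ≤ m) (ha : orderOf a = 2 ^ m) (x : P) (hxA : x ∉ Subgroup.zpowers a) (hx2 : x ^ 2 = 1)
    (hxa : x * a * x⁻¹ = a ^ ((1 + 2 ^ (m - 1) : ℕ) : ℤ)) : False := by
  have hz2 := z_sq (show 1 ≤ m by omega) ha
  have hz1 := z_ne_one (show 1 ≤ m by omega) ha
  have hzc := z_conj hAn (show 1 ≤ m by omega) ha
  set z := a ^ (2 ^ (m - 1)) with hz
  have hzA : z ∈ Subgroup.zpowers a := Subgroup.pow_mem _ (Subgroup.mem_zpowers a) _
  have hx1 : x ≠ 1 := fun h => hxA (h ▸ Subgroup.one_mem _)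
  have hzx : z ≠ x := fun h => hxA (h ▸ hzA)
  have hcomm : z * x = x * z := by
    have := hzc x
    calc z * x = (x * z * x⁻¹) * x := by rw [this]
      _ = x * z := by group
  refine four_group_false hn z x hz2 hx2 hz1 hx1 hzx hcomm hzc ?_
  intro g
  obtain ⟨i, hi⟩ := Subgroup.mem_zpowers_iff.mp (comm_mem hAn hC g x)
  have e1 : g * x * g⁻¹ = a ^ i * x := by rw [hi, commutatorElement_def]; group
  have e2 : (a ^ i * x) ^ 2 = 1 := by rw [← e1, conj_pow, hx2]; group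
  have e3 := mul_pow_of_conj hxa i 2
  rw [e2, hx2, mul_one] at e3
  simp only [Finset.sum_range_succ, Finset.sum_range_zero, pow_zero, pow_one, zero_add] at e3
  have e4 : (orderOf a : ℤ) ∣ i * (1 + ((1 + 2 ^ (m - 1) : ℕ) : ℤ)) :=
    orderOf_dvd_iff_zpow_eq_one.mpr e3.symm
  rw [ha] at e4
  obtain ⟨m', rfl⟩ : ∃ m', m = m' + 3 := ⟨m - 3, by omega⟩
  have hm1 : m' + 3 - 1 = m' + 2 := by omega
  rw [hm1] at e4
  push_cast at e4
  have e5 : (2 : ℤ) ^ (m' + 2) ∣ i * (1 + 2 ^ (m' + 1)) := by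
    have h1 : (2 : ℤ) ^ (m' + 3) = 2 * 2 ^ (m' + 2) := by ring
    have h2 : i * (1 + (1 + 2 ^ (m' + 2))) = 2 * (i * (1 + (2 : ℤ) ^ (m' + 1))) := by ring
    rw [h1, h2] at e4
    exact (mul_dvd_mul_iff_left (by norm_num : (2 : ℤ) ≠ 0)).mp e4
  have hodd : Odd (1 + (2 : ℤ) ^ (m' + 1)) := by
    refine ⟨2 ^ m', by ring⟩
  have hcop := isCoprime_two_pow_of_odd hodd (m' + 2)
  have e6 : (2 : ℤ) ^ (m' + 2) ∣ i := hcop.symm.dvd_of_dvd_mul_right e5
  obtain ⟨t, ht⟩ := e6
  have e7 : a ^ i = z ^ t := by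
    rw [hz, hm1, ht, zpow_mul]
    congr 1
    norm_cast
  rw [e1, e7]
  rcases Int.even_or_odd' t with ⟨q, hq | hq⟩
  · left
    rw [hq, zpow_mul, zpow_ofNat, hz2, one_zpow, one_mul]
  · right
    rw [hq, zpow_add, zpow_mul, zpow_ofNat, hz2, one_zpow, one_mul, zpow_one]




theorem act_cases (hn : ∀ A : Subgroup P, A.Normal → IsMulCommutative A → IsCyclic A)
    {a : P} {m : ℕ} (hAn : (Subgroup.zpowers a).Normal)
    (hC : ∀ g : P, g * a = a * g → g ∈ Subgroup.zpowers a)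
    (hm : 2 ≤ m) (ha : orderOf a = 2 ^ m) (b : P) (hbA : b ∉ Subgroup.zpowers a)
    (hb2 : b ^ 2 ∈ Subgroup.zpowers a) :
    (b * a * b⁻¹ = a⁻¹ ∧ (b ^ 2 = 1 ∨ b ^ 2 = a ^ (2 ^ (m - 1)))) ∨
    (3 ≤ m ∧ b * a * b⁻¹ = a ^ (2 ^ (m - 1) - 1) ∧ ∃ i : ℤ, (a ^ i * b) ^ 2 = 1) := by
  obtain ⟨k, hk⟩ := Subgroup.mem_zpowers_iff.mp (hAn.conj_mem a (Subgroup.mem_zpowers a) b)
  obtain ⟨s, hs⟩ := Subgroup.mem_zpowers_iff.mp hb2
  have hnc : b * a * b⁻¹ ≠ a := by
    intro h
    apply hbA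
    apply hC
    calc b * a = (b * a * b⁻¹) * b := by group
      _ = a * b := by rw [h]
  rcases two_group_cyclic_max_structure m hm ha k s hk.symm hs.symm hnc with
    h1 | ⟨hm3, h1, i, hi⟩ | h3
  · exact Or.inl h1
  · exfalso
    have hx : (a ^ i * b) * a * (a ^ i * b)⁻¹ = a ^ ((1 + 2 ^ (m - 1) : ℕ) : ℤ) := by
      have h2 : b * a * b⁻¹ = a ^ ((1 + 2 ^ (m - 1) : ℕ) : ℤ) := by
        rw [h1, zpow_natCast]
      exact conj_mul_left_of_conj h2 i
    refine no_modular hn hAn hC hm3 ha (a ^ i * b) ?_ hi hx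
    intro hmem
    apply hbA
    have : b = (a ^ i)⁻¹ * (a ^ i * b) := by group
    rw [this]
    exact Subgroup.mul_mem _ (Subgroup.inv_mem _ (Subgroup.zpow_mem _ (Subgroup.mem_zpowers a) i)) hmem
  · exact Or.inr h3


theorem index_two (hP : IsPGroup 2 P)
    (hn : ∀ A : Subgroup P, A.Normal → IsMulCommutative A → IsCyclic A)
    {a : P} {m : ℕ} (hAn : (Subgroup.zpowers a).Normal)
    (hC : ∀ g : P, g * a = a * g → g ∈ Subgroup.zpowers a)
    (hm : 2 ≤ m) (ha : orderOf a = 2 ^ m) (hne : Subgroup.zpowers a ≠ ⊤) :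
    (Subgroup.zpowers a).index = 2 := by
  haveI : Fact (Nat.Prime 2) := ⟨Nat.prime_two⟩
  obtain ⟨m', rfl⟩ : ∃ m', m = m' + 2 := ⟨m - 2, by omega⟩
  set w := a ^ (2 ^ m') with hw
  have hw4 : w ^ 4 = 1 := by
    rw [hw, ← pow_mul]
    have : 2 ^ m' * 4 = 2 ^ (m' + 2) := by ring
    rw [this, ← ha]; exact pow_orderOf_eq_one a
  have hw2 : w ^ 2 ≠ 1 := by
    rw [hw, ← pow_mul]
    have h1 : 2 ^ m' * 2 = 2 ^ (m' + 2 - 1) := by
      rw [← pow_succ]; congr 1
    rw [h1]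
    exact z_ne_one (by omega) ha
  have hw1 : w ≠ 1 := by
    intro h; apply hw2; rw [h]; simp
  -- conjugates of w
  have hconj : ∀ g : P, g * w * g⁻¹ = w ∨ g * w * g⁻¹ = w⁻¹ := by
    intro g
    obtain ⟨k, hk⟩ := Subgroup.mem_zpowers_iff.mp (hAn.conj_mem a (Subgroup.mem_zpowers a) g)
    have h1 : g * w * g⁻¹ = w ^ k := by
      rw [hw, ← conj_pow, ← hk, ← zpow_natCast, ← zpow_natCast, ← zpow_mul, ← zpow_mul, mul_comm]
    have h2 : w ^ k = w ^ (k % 4) := by
      conv_lhs => rw [← Int.emod_add_mul_ediv k 4]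
      have e4 : w ^ (4 : ℤ) = 1 := by
        have : w ^ (4 : ℤ) = w ^ (4 : ℕ) := by norm_cast
        rw [this]; exact hw4
      rw [zpow_add, zpow_mul, e4, one_zpow, mul_one]
    have h3 : 0 ≤ k % 4 := Int.emod_nonneg k (by norm_num)
    have h4 : k % 4 < 4 := Int.emod_lt_of_pos k (by norm_num)
    have hne1 : g * w * g⁻¹ ≠ 1 := by
      intro h
      apply hw1
      have : w = g⁻¹ * (g * w * g⁻¹) * g := by group
      rw [this, h]; group
    have hne2 : (g * w * g⁻¹) ^ 2 ≠ 1 := by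
      intro h
      apply hw2
      rw [conj_pow] at h
      have : w ^ 2 = g⁻¹ * (g * w ^ 2 * g⁻¹) * g := by group
      rw [this, h]; group
    rw [h1, h2] at hne1 hne2 ⊢
    generalize k % 4 = r at *
    interval_cases r
    · simp at hne1
    · left; simp
    · exfalso; apply hne2
      have : (w ^ (2 : ℤ)) ^ 2 = w ^ 4 := by
        have : w ^ (2 : ℤ) = w ^ (2 : ℕ) := by norm_cast
        rw [this, ← pow_mul]
      rw [this, hw4]
    · right
      have : w ^ (3 : ℤ) = w ^ (3 : ℕ) := by norm_cast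
      rw [this]
      apply eq_inv_of_mul_eq_one_left
      rw [← pow_succ]; exact hw4
  -- centralizer of w is A
  have hcent : ∀ c : P, c * w = w * c → c ∈ Subgroup.zpowers a := by
    intro c hc
    by_contra hcA
    obtain ⟨j, hj1, hj2⟩ := exists_pow_mem' 2 hP _ c hcA
    set b := c ^ (2 ^ j) with hb
    have hbw : b * w * b⁻¹ = w := by
      have : Commute b w := (show Commute c w from hc).pow_left _
      rw [this.eq]; group
    have hww : w ≠ w⁻¹ := by
      intro h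
      apply hw2
      rw [pow_two]
      nth_rewrite 2 [h]
      exact mul_inv_cancel w
    rcases act_cases hn hAn hC hm ha b hj1 hj2 with ⟨h1, -⟩ | ⟨hm3, h1, -⟩
    · apply hww
      nth_rewrite 1 [← hbw]
      rw [hw, ← conj_pow, h1, inv_pow]
    · apply hww
      have : w ^ (2 ^ (m' + 2 - 1) - 1) = w⁻¹ := by
        apply eq_inv_of_mul_eq_one_left
        rw [← pow_succ]
        have h2 : 2 ^ (m' + 2 - 1) - 1 + 1 = 4 * 2 ^ (m' + 2 - 3) := by
          have h3 : m' + 2 - 1 = (m' + 2 - 3) + 2 := by omega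
          rw [h3, pow_add]
          have : 0 < 2 ^ (m' + 2 - 3) := by positivity
          omega
        rw [h2, pow_mul, hw4, one_pow]
      rw [← this]
      nth_rewrite 1 [← hbw]
      rw [hw, ← conj_pow, h1, ← pow_mul, ← pow_mul, mul_comm]
  obtain ⟨g0, hg0⟩ : ∃ c : P, c ∉ Subgroup.zpowers a := by
    by_contra hcon
    push Not at hcon
    exact hne (eq_top_iff.mpr (fun x _ => hcon x))
  have hinv : ∀ g : P, g ∉ Subgroup.zpowers a → g * w * g⁻¹ = w⁻¹ := by
    intro g hg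
    rcases hconj g with h | h
    · exfalso
      apply hg
      apply hcent
      calc g * w = (g * w * g⁻¹) * g := by group
        _ = w * g := by rw [h]
    · exact h
  rw [Subgroup.index_eq_two_iff]
  refine ⟨g0, fun b => ?_⟩
  by_cases hb : b ∈ Subgroup.zpowers a
  · right
    refine ⟨hb, fun h => hg0 ?_⟩
    have : g0 = b⁻¹ * (b * g0) := by group
    rw [this]
    exact Subgroup.mul_mem _ (Subgroup.inv_mem _ hb) h
  · left
    refine ⟨?_, hb⟩
    apply hcent
    have h1 := hinv b hb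
    have h2 := hinv g0 hg0
    have h3 : (b * g0) * w * (b * g0)⁻¹ = w := by
      have : (b * g0) * w * (b * g0)⁻¹ = b * (g0 * w * g0⁻¹) * b⁻¹ := by group
      rw [this, h2]
      have : b * w⁻¹ * b⁻¹ = (b * w * b⁻¹)⁻¹ := by group
      rw [this, h1, inv_inv]
    calc b * g0 * w = ((b * g0) * w * (b * g0)⁻¹) * (b * g0) := by group
      _ = w * (b * g0) := by rw [h3]




theorem d8_false (hn : ∀ A : Subgroup P, A.Normal → IsMulCommutative A → IsCyclic A)
    {a : P} (hAn : (Subgroup.zpowers a).Normal) (ha : orderOf a = 2 ^ 2)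
    (hi : (Subgroup.zpowers a).index = 2) (b : P) (hbA : b ∉ Subgroup.zpowers a)
    (hb2 : b ^ 2 = 1) (hinv : b * a * b⁻¹ = a⁻¹) : False := by
  have hz2 := z_sq (m := 2) (by norm_num) ha
  have hz1 := z_ne_one (m := 2) (by norm_num) ha
  have hzc := z_conj hAn (m := 2) (by norm_num) ha
  norm_num at hz2 hz1 hzc
  set z := a ^ 2 with hz
  have hzA : z ∈ Subgroup.zpowers a := Subgroup.pow_mem _ (Subgroup.mem_zpowers a) _
  have hb1 : b ≠ 1 := fun h => hbA (h ▸ Subgroup.one_mem _)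
  have hzb : z ≠ b := fun h => hbA (h ▸ hzA)
  have hcomm : z * b = b * z := by
    have := hzc b
    calc z * b = (b * z * b⁻¹) * b := by rw [this]
      _ = b * z := by group
  refine four_group_false hn z b hz2 hb2 hz1 hb1 hzb hcomm hzc ?_
  have key : ∀ i : ℤ, a ^ i * b * (a ^ i)⁻¹ = b ∨ a ^ i * b * (a ^ i)⁻¹ = z * b := by
    intro i
    have h1 : b * (a ^ i)⁻¹ * b⁻¹ = a ^ i := by
      rw [← zpow_neg, ← conj_zpow, hinv, inv_zpow, zpow_neg, inv_inv]
    have h2 : a ^ i * b * (a ^ i)⁻¹ = z ^ i * b := by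
      calc a ^ i * b * (a ^ i)⁻¹ = a ^ i * (b * (a ^ i)⁻¹ * b⁻¹) * b := by group
        _ = z ^ i * b := by
          rw [h1, hz, ← zpow_natCast, ← zpow_mul, ← zpow_add]
          congr 2; push_cast; ring
    rw [h2]
    rcases Int.even_or_odd' i with ⟨q, hq | hq⟩
    · left
      rw [hq, zpow_mul, zpow_ofNat, hz2, one_zpow, one_mul]
    · right
      rw [hq, zpow_add, zpow_mul, zpow_ofNat, hz2, one_zpow, one_mul, zpow_one]
  intro g
  by_cases hg : g ∈ Subgroup.zpowers a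
  · obtain ⟨i, rfl⟩ := Subgroup.mem_zpowers_iff.mp hg
    exact key i
  · have h1 : g * b ∈ Subgroup.zpowers a := by
      rw [Subgroup.mul_mem_iff_of_index_two hi]
      exact ⟨fun h => (hg h).elim, fun h => (hbA h).elim⟩
    obtain ⟨i, hi'⟩ := Subgroup.mem_zpowers_iff.mp h1
    have h2 : g = a ^ i * b⁻¹ := by rw [hi']; group
    have h3 : g * b * g⁻¹ = a ^ i * b * (a ^ i)⁻¹ := by rw [h2]; group
    rw [h3]
    exact key i


theorem final {P : Type*} [Group P] [Finite P] (p : ℕ) [Fact p.Prime]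
    (hP : IsPGroup p P) (hn : ∀ A : Subgroup P, A.Normal → IsMulCommutative A → IsCyclic A)
    (hm : ∃ B : Subgroup P, IsMulCommutative B ∧ ¬ IsCyclic B) :
    p = 2 ∧ ((∃ n : ℕ, Nonempty (P ≃* QuaternionGroup n)) ∨ (∃ n : ℕ, 8 ≤ n ∧ Nonempty (P ≃* DihedralGroup n)) ∨
      Cfsg.IsQuasiDihedral P) := by
  obtain ⟨a, hAn, hC⟩ := setup p hP hn
  have hne : Subgroup.zpowers a ≠ ⊤ := by
    intro htop
    obtain ⟨B, hBc, hBn⟩ := hm
    apply hBn
    haveI : IsCyclic P := (isCyclic_iff_exists_zpowers_eq_top).mpr ⟨a, htop⟩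
    infer_instance
  by_cases hp2 : p = 2
  swap
  · exact (odd_false p hp2 hP hn hAn hC hne).elim
  subst hp2
  refine ⟨rfl, ?_⟩
  obtain ⟨m, ha⟩ : ∃ m, orderOf a = 2 ^ m := by
    obtain ⟨k, hk⟩ := hP a
    have := orderOf_dvd_of_pow_eq_one hk
    obtain ⟨m, -, hm⟩ := (Nat.dvd_prime_pow Nat.prime_two).mp this
    exact ⟨m, hm⟩
  have hm2 : 2 ≤ m := by
    by_contra hlt
    push Not at hlt
    apply hne
    rw [eq_top_iff]
    intro g _
    apply hC
    have ha2 : a ^ 2 = 1 := by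
      have : orderOf a ∣ 2 := by rw [ha]; interval_cases m <;> simp
      exact orderOf_dvd_iff_pow_eq_one.mp this
    obtain ⟨k, hk⟩ := Subgroup.mem_zpowers_iff.mp (hAn.conj_mem a (Subgroup.mem_zpowers a) g)
    rcases Int.even_or_odd' k with ⟨q, hq | hq⟩
    · have h1 : g * a * g⁻¹ = 1 := by rw [← hk, hq, zpow_mul, zpow_ofNat, ha2, one_zpow]
      have : a = 1 := by
        have : a = g⁻¹ * (g * a * g⁻¹) * g := by group
        rw [this, h1]; group
      rw [this]; simp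
    · have h1 : g * a * g⁻¹ = a := by
        rw [← hk, hq, zpow_add, zpow_mul, zpow_ofNat, ha2, one_zpow, one_mul, zpow_one]
      calc g * a = (g * a * g⁻¹) * g := by group
        _ = a * g := by rw [h1]
  have hi := index_two hP hn hAn hC hm2 ha hne
  have hcard : Nat.card P = 2 ^ (m + 1) := by
    have := (Subgroup.zpowers a).card_mul_index
    rw [hi, Nat.card_zpowers, ha] at this
    rw [← this, pow_succ]
  obtain ⟨b, hbA⟩ : ∃ c : P, c ∉ Subgroup.zpowers a := by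
    by_contra hcon
    push Not at hcon
    exact hne (eq_top_iff.mpr (fun x _ => hcon x))
  have hb2 : b ^ 2 ∈ Subgroup.zpowers a := Subgroup.sq_mem_of_index_two hi b
  rcases act_cases hn hAn hC hm2 ha b hbA hb2 with ⟨hinv, h1 | h1⟩ | ⟨hm3, hact, i, hi2⟩
  · right; left
    by_cases hm3 : m = 2
    · subst hm3
      exact (d8_false hn hAn ha hi b hbA h1 hinv).elim
    · obtain ⟨k, rfl⟩ : ∃ k, m = k + 3 := ⟨m - 3, by omega⟩
      refine ⟨2 ^ (k + 1 + 2), ?_, Cfsg.Agent.S4399.iso_dihedral a b (k + 1) hi hbA ha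
        (by rw [← pow_two]; exact h1) hinv⟩
      have : 2 ^ (k + 1 + 2) = 8 * 2 ^ k := by ring
      have : 0 < 2 ^ k := by positivity
      omega
  · left
    obtain ⟨k, rfl⟩ : ∃ k, m = k + 1 := ⟨m - 1, by omega⟩
    refine ⟨2 ^ k, Cfsg.Agent.S4399.iso_quaternion a b (2 ^ k) hbA ?_ ?_ ?_ hinv⟩
    · rw [ha, pow_succ, mul_comm]
    · rw [hcard]; ring
    · rw [← pow_two, h1]; rfl
  · right; right
    refine ⟨m, hm3, hcard, a, a ^ i * b, ha, ?_, ?_⟩
    · apply orderOf_eq_prime hi2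
      intro h
      apply hbA
      have : b = (a ^ i)⁻¹ := eq_inv_of_mul_eq_one_right h
      rw [this]
      exact Subgroup.inv_mem _ (Subgroup.zpow_mem _ (Subgroup.mem_zpowers a) i)
    · have h2 : b * a * b⁻¹ = a ^ ((2 ^ (m - 1) - 1 : ℕ) : ℤ) := by
        rw [hact, zpow_natCast]
      rw [conj_mul_left_of_conj h2 i, zpow_natCast]





/-- Let P be a finite p-group in which every abelian normal subgroup is cyclic, but which has a non-cyclic abelian
subgroup. Then p = 2 and P is generalized quaternion, dihedral of order at least 16, or quasi-dihedral. -/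
theorem result {P : Type*} [Group P] [Finite P] (p : ℕ) [Fact p.Prime]
    (hP : IsPGroup p P) (hn : ∀ A : Subgroup P, A.Normal → IsMulCommutative A → IsCyclic A)
    (hm : ∃ B : Subgroup P, IsMulCommutative B ∧ ¬ IsCyclic B) :
    p = 2 ∧ ((∃ n : ℕ, Nonempty (P ≃* QuaternionGroup n)) ∨ (∃ n : ℕ, 8 ≤ n ∧ Nonempty (P ≃* DihedralGroup n)) ∨
      Cfsg.IsQuasiDihedral P) := by
  exact final p hP hn hm

end Cfsg.Agent.S0519
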