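import Cfsg.Statements.S3824
import Cfsg.Agent.S0143
import Cfsg.Agent.Lib.Helper2.Cores

set_option autoImplicit false
open Cfsg

namespace Cfsg.Agent.S3824
open Cfsg.Agent.Lib.Helper2

universe u

theorem relIndex_dvd_index_of_normal_right {G : Type*} [Group G] [Finite G] (A N : Subgroup G)
    [N.Normal] : A.relIndex N ∣ A.index := by
  have h1 : Nat.card (A ⊓ N : Subgroup G) * A.relIndex N = Nat.card N := by
    rw [← Subgroup.inf_relIndex_right, ← Subgroup.relIndex_bot_left, ← Subgroup.relIndex_bot_left,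
      Subgroup.relIndex_mul_relIndex _ _ _ bot_le inf_le_right]
  have h2 : Nat.card A * A.relIndex (A ⊔ N) = Nat.card (A ⊔ N : Subgroup G) := by
    rw [← Subgroup.relIndex_bot_left, ← Subgroup.relIndex_bot_left,
      Subgroup.relIndex_mul_relIndex _ _ _ bot_le le_sup_left]
  have h3 := card_sup_mul_card_inf A N
  have h4 : A.relIndex N = A.relIndex (A ⊔ N) := by
    have hpos : 0 < Nat.card A * Nat.card (A ⊓ N : Subgroup G) :=
      Nat.mul_pos Nat.card_pos Nat.card_pos
    apply Nat.eq_of_mul_eq_mul_left hpos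
    calc Nat.card A * Nat.card (A ⊓ N : Subgroup G) * A.relIndex N
        = Nat.card A * (Nat.card (A ⊓ N : Subgroup G) * A.relIndex N) := by ring
      _ = Nat.card A * Nat.card N := by rw [h1]
      _ = Nat.card (A ⊔ N : Subgroup G) * Nat.card (A ⊓ N : Subgroup G) := h3.symm
      _ = Nat.card A * A.relIndex (A ⊔ N) * Nat.card (A ⊓ N : Subgroup G) := by rw [h2]
      _ = Nat.card A * Nat.card (A ⊓ N : Subgroup G) * A.relIndex (A ⊔ N) := by ring
  rw [h4]
  exact Subgroup.relIndex_dvd_index_of_le le_sup_left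

theorem aux : ∀ (n : ℕ) (G : Type u) [Group G] [Finite G], Nat.card G = n →
    (∃ A : Subgroup G, IsMulCommutative A ∧ ∃ k : ℕ, A.index = 2 ^ k) → Group.IsSolvable G := by
  intro n
  induction n using Nat.strong_induction_on with
  | _ n ih =>
  intro G _ _ hn ⟨A, hA, k, hk⟩
  by_cases hsub : Subsingleton G
  · infer_instance
  rw [not_subsingleton_iff_nontrivial] at hsub
  by_cases hsimple : IsSimpleGroup G
  · by_cases hAbot : A = ⊥
    · -- G is a 2-group
      have hcard : Nat.card G = 2 ^ k := by
        rw [← hk, hAbot, Subgroup.index_bot]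
      haveI : Fact (Nat.Prime 2) := ⟨Nat.prime_two⟩
      have hG2 : IsPGroup 2 G := IsPGroup.of_card hcard
      haveI := hG2.isNilpotent
      infer_instance
    · obtain ⟨a, haA, ha1⟩ := (Subgroup.ne_bot_iff_exists_ne_one.1 hAbot) |> fun ⟨z, hz⟩ =>
        (⟨(z : G), z.2, fun h => hz (Subtype.ext h)⟩ : ∃ a : G, a ∈ A ∧ a ≠ 1)
      have hle : A ≤ Subgroup.centralizer {a} := by
        intro x hx
        rw [Subgroup.mem_centralizer_singleton_iff]
        exact congrArg Subtype.val (hA.is_comm.comm (⟨x, hx⟩ : A) ⟨a, haA⟩)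
      have hidx : (Subgroup.centralizer {a}).index ∣ 2 ^ k := hk ▸ Subgroup.index_dvd_of_le hle
      obtain ⟨j, -, hj⟩ := (Nat.dvd_prime_pow Nat.prime_two).1 hidx
      have hprime := Cfsg.Agent.S0143.result 2 j Nat.prime_two a ha1 hj
      have := Fact.mk hprime
      have hcyc : IsCyclic G := isCyclic_of_prime_card (p := Nat.card G) rfl
      let _ : CommGroup G := IsCyclic.commGroup
      exact Group.isSolvable_of_comm (fun x y => mul_comm x y)
  · have : ∃ N : Subgroup G, N.Normal ∧ N ≠ ⊥ ∧ N ≠ ⊤ := by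
      by_contra hcon
      push Not at hcon
      apply hsimple
      exact ⟨fun N hN => by
        by_contra h
        push Not at h
        exact h.2 (hcon N hN h.1)⟩
    obtain ⟨N, hN, hbot, htop⟩ := this
    have hmul := N.card_mul_index
    have hidx1 : N.index ≠ 1 := fun h => htop (Subgroup.index_eq_one.mp h)
    have hcard1 : Nat.card N ≠ 1 := fun h => hbot (Subgroup.card_eq_one.mp h)
    have hidx0 : N.index ≠ 0 := Subgroup.index_ne_zero_of_finite
    have hcard0 : Nat.card N ≠ 0 := Nat.card_pos.ne'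
    rw [Group.isSolvable_iff_subgroup_quotient N]
    constructor
    · apply ih (Nat.card N) _ N rfl
      · refine ⟨A.subgroupOf N, inferInstance, ?_⟩
        have h1 : (A.subgroupOf N).index ∣ 2 ^ k := by
          rw [← hk]
          exact relIndex_dvd_index_of_normal_right A N
        obtain ⟨j, -, hj⟩ := (Nat.dvd_prime_pow Nat.prime_two).1 h1
        exact ⟨j, hj⟩
      · rw [← hn, ← hmul]
        have : 2 ≤ N.index := by omega
        nlinarith [Nat.pos_of_ne_zero hcard0]
    · apply ih (Nat.card (G ⧸ N)) _ (G ⧸ N) rfl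
      · refine ⟨A.map (QuotientGroup.mk' N), inferInstance, ?_⟩
        have h1 : (A.map (QuotientGroup.mk' N)).index ∣ 2 ^ k := by
          rw [← hk, Subgroup.index_map, MonoidHom.range_eq_top.2 (QuotientGroup.mk'_surjective N),
            Subgroup.index_top, mul_one]
          exact Subgroup.index_dvd_of_le le_sup_left
        obtain ⟨j, -, hj⟩ := (Nat.dvd_prime_pow Nat.prime_two).1 h1
        exact ⟨j, hj⟩
      · rw [← Subgroup.index_eq_card, ← hn, ← hmul]
        have : 2 ≤ Nat.card N := by omega
        nlinarith [Nat.pos_of_ne_zero hidx0]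

/-- Every finite group having an abelian subgroup whose index is a power of 2 is solvable. -/
theorem result {G : Type*} [Group G] [Finite G]
    (A : Subgroup G) (hA : IsMulCommutative A) (hidx : ∃ k : ℕ, A.index = 2 ^ k) : Group.IsSolvable G := by
  exact aux (Nat.card G) G rfl ⟨A, hA, hidx⟩

end Cfsg.Agent.S3824
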