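import Mathlib
import Cfsg.Statements.S0673
import Cfsg.Agent.Lib.Lead.ShiftPoly

set_option autoImplicit false
open Cfsg

namespace Cfsg.Agent.S0673

open Polynomial

section
variable {p : ℕ} [Fact p.Prime] {K : Type*} [Field K] [CharP K p]

/-- evaluation of polynomials on `ZMod p` -/
noncomputable def ev : K[X] →ₗ[K] (ZMod p → K) where
  toFun P := fun j => P.eval (ZMod.cast j : K)
  map_add' P Q := by funext j; simp
  map_smul' c P := by funext j; simp

theorem ev_apply (P : K[X]) (j : ZMod p) : ev (p := p) P j = P.eval (ZMod.cast j : K) := rfl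

theorem cast_sub_one (j : ZMod p) : ((j - 1 : ZMod p).cast : K) = (j.cast : K) - 1 := by
  have h := map_sub (ZMod.castHom (dvd_refl p) K) j 1
  rw [ZMod.castHom_apply, ZMod.castHom_apply, ZMod.castHom_apply, ZMod.cast_one'] at h
  exact h

theorem cast_injective : Function.Injective (fun j : ZMod p => (j.cast : K)) := by
  have := (ZMod.castHom (dvd_refl p) K).injective
  intro a b h
  apply this
  simpa using h

theorem ev_taylor (P : K[X]) (j : ZMod p) : ev (p := p) (taylor (-1) P) j = ev (p := p) P (j - 1) := by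
  rw [ev_apply, ev_apply, taylor_eval, cast_sub_one, sub_eq_add_neg]

theorem ev_eq_zero {P : K[X]} (hP : P ∈ degreeLT K p) (h : ev (p := p) P = 0) : P = 0 := by
  by_contra hP0
  have hdeg := mem_degreeLT.mp hP
  rw [degree_eq_natDegree hP0, Nat.cast_lt] at hdeg
  apply hP0
  apply eq_zero_of_natDegree_lt_card_of_eval_eq_zero P (cast_injective (p := p) (K := K))
  · intro j
    exact congrFun h j
  · rw [ZMod.card]; exact hdeg

theorem finrank_degreeLT (r : ℕ) : Module.finrank K (degreeLT K r) = r := by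
  rw [(degreeLTEquiv K r).finrank_eq, Module.finrank_fin_fun]

theorem ev_surj (f : ZMod p → K) : ∃ P ∈ degreeLT K p, ev (p := p) P = f := by
  let g : degreeLT K p →ₗ[K] (ZMod p → K) := (ev (p := p)).comp (degreeLT K p).subtype
  haveI : FiniteDimensional K (degreeLT K p) :=
    LinearEquiv.finiteDimensional (degreeLTEquiv K p).symm
  have hinj : Function.Injective g := by
    rw [← LinearMap.ker_eq_bot, LinearMap.ker_eq_bot']
    intro P hP
    exact Subtype.ext (ev_eq_zero P.2 hP)
  have hfr : Module.finrank K (degreeLT K p) = Module.finrank K (ZMod p → K) := by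
    rw [finrank_degreeLT, Module.finrank_fintype_fun_eq_card, ZMod.card]
  have hsurj := (LinearMap.injective_iff_surjective_of_finrank_eq_finrank hfr).mp hinj
  obtain ⟨P, hP⟩ := hsurj f
  exact ⟨P.1, P.2, hP⟩

end

/-- In characteristic `p`, the translation-invariant subspaces of the space of functions on `ZMod p` are exactly the spaces of polynomial functions of degree less than `r`, one for each `r ≤ p`, of dimension `r`. -/
theorem result {p : ℕ} [Fact p.Prime] {K : Type*} [Field K] [CharP K p] (W : Submodule K (ZMod p → K)) (hW : ∀ f ∈ W, (fun j => f (j - 1)) ∈ W) : ∃ r : ℕ, r ≤ p ∧ Module.finrank K W = r ∧ ∀ f : ZMod p → K, f ∈ W ↔ ∃ P : Polynomial K, P.degree < r ∧ ∀ j : ZMod p, f j = P.eval (ZMod.cast j : K) := by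
  let W' : Submodule K K[X] := degreeLT K p ⊓ W.comap (ev (p := p))
  have hinv : ∀ Q ∈ W', taylor (-1) Q ∈ W' := by
    intro Q hQ
    have hQ1 : Q ∈ degreeLT K p := hQ.1
    have hQ2 : ev (p := p) Q ∈ W := hQ.2
    refine ⟨?_, ?_⟩
    · show taylor (-1) Q ∈ degreeLT K p
      rw [mem_degreeLT, degree_taylor]; exact mem_degreeLT.mp hQ1
    · show ev (p := p) (taylor (-1) Q) ∈ W
      have : ev (p := p) (taylor (-1) Q) = fun j => ev (p := p) Q (j - 1) := by
        funext j; exact ev_taylor Q j
      rw [this]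
      exact hW _ hQ2
  obtain ⟨r, hrp, hr⟩ := Cfsg.Agent.Lib.Lead.ShiftPoly.core (p := p) W' inf_le_left hinv
  have hiff : ∀ f : ZMod p → K, f ∈ W ↔ ∃ P : Polynomial K, P.degree < r ∧
      ∀ j : ZMod p, f j = P.eval (ZMod.cast j : K) := by
    intro f
    constructor
    · intro hf
      obtain ⟨P, hP, hPf⟩ := ev_surj (p := p) f
      have hPW' : P ∈ W' := ⟨hP, by show ev (p := p) P ∈ W; rw [hPf]; exact hf⟩
      rw [hr] at hPW'
      refine ⟨P, mem_degreeLT.mp hPW', fun j => ?_⟩
      rw [← hPf]; rfl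
    · rintro ⟨P, hP, hPf⟩
      have hPW' : P ∈ W' := by rw [hr]; exact mem_degreeLT.mpr hP
      have : f = ev (p := p) P := by funext j; exact hPf j
      rw [this]
      exact hPW'.2
  refine ⟨r, hrp, ?_, hiff⟩
  -- dimension
  let g : degreeLT K r →ₗ[K] (ZMod p → K) := (ev (p := p)).comp (degreeLT K r).subtype
  have hginj : Function.Injective g := by
    rw [← LinearMap.ker_eq_bot, LinearMap.ker_eq_bot']
    intro P hP
    exact Subtype.ext (ev_eq_zero (degreeLT_mono hrp P.2) hP)
  have hWeq : W = LinearMap.range g := by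
    ext f
    rw [hiff, LinearMap.mem_range]
    constructor
    · rintro ⟨P, hP, hPf⟩
      refine ⟨⟨P, mem_degreeLT.mpr hP⟩, ?_⟩
      funext j; exact (hPf j).symm
    · rintro ⟨P, rfl⟩
      exact ⟨P.1, mem_degreeLT.mp P.2, fun j => rfl⟩
  rw [hWeq, LinearMap.finrank_range_of_inj hginj, finrank_degreeLT]

end Cfsg.Agent.S0673
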