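import Mathlib
import Cfsg.Statements.S0675
import Cfsg.Agent.Lib.Lead.BurnsidePrime

namespace Cfsg.Agent.S0675

open Cfsg.Agent.Lib.Lead

theorem result {α : Type*} [Fintype α] [DecidableEq α] (hα : (Fintype.card α).Prime) (G : Subgroup (Equiv.Perm α)) [MulAction.IsPretransitive G α] : Group.IsSolvable G ∨ MulAction.IsMultiplyPretransitive G α 2 := by
  haveI : Fact (Fintype.card α).Prime := ⟨hα⟩
  rcases BurnsidePrime.affine_or_two_transitive (p := Fintype.card α) rfl G with ⟨e, he⟩ | h
  · left
    exact BurnsidePrime.solvable_of_affine' G e he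
  · right
    exact h
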