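import Cfsg.Statements.S1896
import Cfsg.Agent.Lib.Helper1.MC6

set_option autoImplicit false
open Cfsg

namespace Cfsg.Agent.S1896

/-- A finite metacyclic 2-group whose automorphism group is not a 2-group is isomorphic to the quaternion group of order 8 or to a homocyclic abelian group Z_{2^n} × Z_{2^n}. -/
theorem result {X : Type*} [Group X] [Finite X] (hX : IsPGroup 2 X)
    (hm : Cfsg.IsMetacyclic X) (hA : ¬ IsPGroup 2 (MulAut X)) :
    Nonempty (X ≃* QuaternionGroup 2) ∨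
      ∃ n : ℕ, Nonempty (X ≃* Multiplicative (ZMod (2 ^ n)) × Multiplicative (ZMod (2 ^ n))) := by
  obtain ⟨a, b, hgen, hn⟩ := Cfsg.Agent.Lib.Helper1.MC.exists_gen hm
  have hA' : ∃ β : MulAut X, ∀ k : ℕ, β ^ (2 ^ k) ≠ 1 := by
    by_contra h
    push Not at h
    exact hA h
  obtain ⟨β, hβ⟩ := hA'
  have hfin : Finite (MulAut X) := Finite.of_injective (fun e : MulAut X => (e : X → X))
    (fun e f h => MulEquiv.ext (congrFun h))
  have ho : orderOf β ≠ 0 := (orderOf_pos β).ne'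
  obtain ⟨k, m, hm_odd, hkm⟩ := Nat.exists_eq_two_pow_mul_odd ho
  have hα1 : β ^ (2 ^ k) ≠ 1 := hβ k
  have hαm : (β ^ (2 ^ k)) ^ m = 1 := by rw [← pow_mul, ← hkm, pow_orderOf_eq_one]
  have hodd : Odd (orderOf (β ^ (2 ^ k))) := Odd.of_dvd_nat hm_odd (orderOf_dvd_of_pow_eq_one hαm)
  have hnoinv := Cfsg.Agent.Lib.Helper1.MC.noInv_of_odd hX a b hgen (β ^ (2 ^ k)) hodd hα1
  obtain ⟨n, hn'⟩ := IsPGroup.iff_card.mp hX
  exact Cfsg.Agent.Lib.Helper1.MC.main_aux n X hn' a b hgen hn (β ^ (2 ^ k)) hnoinv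

end Cfsg.Agent.S1896
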