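import Cfsg.Statements.S0391
import Cfsg.Agent.Lib.Helper4.Leech2

set_option autoImplicit false
open Cfsg

namespace Cfsg.Agent.S0391

open Cfsg.Agent.Lib.Helper4.Leech Cfsg.Agent.Lib.Helper4.Leech2 Cfsg.Agent.Lib.Helper9.Golay1

theorem card_golayPt : (Finset.univ : Finset GolayPt).card = 24 := by
  decide

theorem sq_ge (a n : ℤ) (hn : 0 ≤ n) (h : n ≤ a ∨ a ≤ -n) : n ^ 2 ≤ a ^ 2 := by
  rcases h with h | h <;> nlinarith

theorem sq_lt (a n : ℤ) (h : a ^ 2 < n ^ 2) (hn : 0 ≤ n) : -n < a ∧ a < n := by
  constructor <;> nlinarith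

/-- sum of squares dominates any two distinct terms -/
theorem two_le_sum (x : GolayPt → ℤ) (j j' : GolayPt) (hne : j ≠ j') :
    x j ^ 2 + x j' ^ 2 ≤ ∑ i, x i ^ 2 := by
  have h1 : ∑ i ∈ ({j, j'} : Finset GolayPt), x i ^ 2 ≤ ∑ i, x i ^ 2 :=
    Finset.sum_le_sum_of_subset_of_nonneg (Finset.subset_univ _) (fun _ _ _ => sq_nonneg _)
  rwa [Finset.sum_pair hne] at h1

theorem one_le_sum (x : GolayPt → ℤ) (j : GolayPt) :
    x j ^ 2 ≤ ∑ i, x i ^ 2 :=
  Finset.single_le_sum (f := fun i => x i ^ 2) (fun _ _ => sq_nonneg _) (Finset.mem_univ j)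

/-- Nonzero lattice vectors have sum of squares ≥ 32 (no vectors of customary norm 2). -/
theorem result (x : Cfsg.GolayPt → ℤ) (hx : x ∈ Cfsg.leechLattice) (h0 : x ≠ 0) : 32 ≤ Cfsg.sqNorm x := by
  rw [mem_leechLattice_iff, mem_leechSet_iff] at hx
  obtain ⟨m, h1, h2, h3⟩ := hx
  unfold sqNorm
  by_cases hm : m % 2 = 0
  · by_cases hA : lev x 2 = ∅
    · -- all coordinates divisible by 4
      have h4 : ∀ i, x i % 4 = 0 := by
        intro i
        have := h1 i
        have hi : i ∉ lev x 2 := by rw [hA]; exact Finset.notMem_empty i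
        rw [mem_lev] at hi
        unfold Int.ModEq at *
        omega
      obtain ⟨j, hj⟩ : ∃ j, x j ≠ 0 := by
        by_contra hcon
        push Not at hcon
        exact h0 (funext hcon)
      have hj16 : (4 : ℤ) ^ 2 ≤ x j ^ 2 := by
        apply sq_ge _ _ (by norm_num)
        have := h4 j
        omega
      by_cases hj' : ∃ j', j' ≠ j ∧ x j' ≠ 0
      · obtain ⟨j', hne, hj'⟩ := hj'
        have hj16' : (4 : ℤ) ^ 2 ≤ x j' ^ 2 := by
          apply sq_ge _ _ (by norm_num)
          have := h4 j'
          omega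
        have := two_le_sum x j j' hne.symm
        omega
      · push Not at hj'
        have hsum : ∑ i, x i = x j := by
          apply Finset.sum_eq_single j
          · intro b _ hb; exact hj' b hb
          · intro h; exact absurd (Finset.mem_univ j) h
        rw [hsum] at h2
        have hj64 : (8 : ℤ) ^ 2 ≤ x j ^ 2 := by
          apply sq_ge _ _ (by norm_num)
          unfold Int.ModEq at h2
          omega
        have := one_le_sum x j
        omega
    · have hcard := card_ge_eight (lev x 2) (h3 2) hA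
      have h5 : ∑ i ∈ lev x 2, (4 : ℤ) ≤ ∑ i ∈ lev x 2, x i ^ 2 := by
        apply Finset.sum_le_sum
        intro i hi
        rw [mem_lev] at hi
        have : (2 : ℤ) ^ 2 ≤ x i ^ 2 := by
          apply sq_ge _ _ (by norm_num)
          unfold Int.ModEq at hi
          omega
        omega
      have h6 : ∑ i ∈ lev x 2, x i ^ 2 ≤ ∑ i, x i ^ 2 :=
        Finset.sum_le_sum_of_subset_of_nonneg (Finset.subset_univ _) (fun i _ _ => sq_nonneg _)
      rw [Finset.sum_const, nsmul_eq_mul] at h5
      have : (8 : ℤ) ≤ ((lev x 2).card : ℤ) := by exact_mod_cast hcard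
      omega
  · -- odd case
    by_contra hlt
    push Not at hlt
    have hodd : ∀ i, x i % 2 = 1 := by
      intro i
      have := h1 i
      unfold Int.ModEq at this
      omega
    have hge1 : ∀ i, (1 : ℤ) ≤ x i ^ 2 := by
      intro i
      have : (1 : ℤ) ^ 2 ≤ x i ^ 2 := by
        apply sq_ge _ _ (by norm_num)
        have := hodd i
        omega
      omega
    have hpm : ∀ j, x j = 1 ∨ x j = -1 := by
      intro j
      have hs : ∑ i, x i ^ 2 = x j ^ 2 + ∑ i ∈ Finset.univ.erase j, x i ^ 2 :=
        (Finset.add_sum_erase Finset.univ (fun i => x i ^ 2) (Finset.mem_univ j)).symm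
      have h23 : ∑ i ∈ Finset.univ.erase j, (1 : ℤ) ≤ ∑ i ∈ Finset.univ.erase j, x i ^ 2 :=
        Finset.sum_le_sum (fun i _ => hge1 i)
      rw [Finset.sum_const, nsmul_eq_mul, Finset.card_erase_of_mem (Finset.mem_univ j),
        card_golayPt] at h23
      have h9 : x j ^ 2 < 3 ^ 2 := by
        have e9 : (3 : ℤ) ^ 2 = 9 := by norm_num
        have e23 : (((24 - 1 : ℕ) : ℤ)) * 1 = 23 := by norm_num
        rw [e9]
        rw [e23] at h23
        omega
      have := sq_lt _ _ h9 (by norm_num)
      have := hodd j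
      omega
    have hx_eq : ∀ i, x i = if i ∈ lev x 1 then 1 else -1 := by
      intro i
      by_cases hi : i ∈ lev x 1
      · rw [if_pos hi]
        rw [mem_lev] at hi
        unfold Int.ModEq at hi
        rcases hpm i with h | h
        · exact h
        · rw [h] at hi; omega
      · rw [if_neg hi]
        rw [mem_lev] at hi
        unfold Int.ModEq at hi
        rcases hpm i with h | h
        · rw [h] at hi; omega
        · exact h
    have hsum : ∑ i, x i = ∑ i ∈ (Finset.univ : Finset GolayPt),
        (if i ∈ lev x 1 then (1 : ℤ) else -1) :=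
      Finset.sum_congr rfl (fun i _ => hx_eq i)
    rw [sum_ite_mem_const, Finset.univ_inter] at hsum
    have h4 := Finset.card_inter_add_card_sdiff (Finset.univ : Finset GolayPt) (lev x 1)
    rw [Finset.univ_inter, card_golayPt] at h4
    rw [hsum] at h2
    unfold Int.ModEq at h2
    rcases card_cases (lev x 1) (h3 1) with h | h | h | h | h <;>
    · have h5 : (Finset.univ \ lev x 1).card = 24 - (lev x 1).card := by omega
      rw [h5, h] at h2
      norm_num at h2
      omega

end Cfsg.Agent.S0391
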