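import Cfsg.Statements.S0392
import Cfsg.Agent.Lib.Helper4.Leech2

set_option autoImplicit false
open Cfsg

namespace Cfsg.Agent.S0392

open Cfsg.Agent.Lib.Helper4.Leech Cfsg.Agent.Lib.Helper4.Leech2 Cfsg.Agent.Lib.Helper9.Golay1

theorem sq_of_mod4_zero (a : ℤ) (h : a % 4 = 0) : a ^ 2 ≡ 0 [ZMOD 16] := by
  obtain ⟨q, rfl⟩ : ∃ q, a = 4 * q := ⟨a / 4, by omega⟩
  rw [Int.modEq_iff_dvd]
  exact ⟨-q ^ 2, by ring⟩

theorem sq_of_mod4_two (a : ℤ) (h : a % 4 = 2) : a ^ 2 ≡ 4 [ZMOD 16] := by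
  obtain ⟨q, rfl⟩ : ∃ q, a = 4 * q + 2 := ⟨a / 4, by omega⟩
  rw [Int.modEq_iff_dvd]
  exact ⟨-q ^ 2 - q, by ring⟩

theorem sq_of_mod4_one (a : ℤ) (h : a % 4 = 1) : a ^ 2 ≡ 2 * a + (-1) [ZMOD 16] := by
  obtain ⟨q, rfl⟩ : ∃ q, a = 4 * q + 1 := ⟨a / 4, by omega⟩
  rw [Int.modEq_iff_dvd]
  exact ⟨-q ^ 2, by ring⟩

theorem sq_of_mod4_three (a : ℤ) (h : a % 4 = 3) : a ^ 2 ≡ 2 * a + 3 [ZMOD 16] := by
  obtain ⟨q, rfl⟩ : ∃ q, a = 4 * q + 3 := ⟨a / 4, by omega⟩
  rw [Int.modEq_iff_dvd]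
  exact ⟨-q ^ 2 - q, by ring⟩

theorem card_golayPt : (Finset.univ : Finset GolayPt).card = 24 := by
  decide

/-- Sum of squares of every lattice vector is divisible by 16 (even lattice at scale 1/8). -/
theorem result (x : Cfsg.GolayPt → ℤ) (hx : x ∈ Cfsg.leechLattice) : (16 : ℤ) ∣ Cfsg.sqNorm x := by
  rw [mem_leechLattice_iff, mem_leechSet_iff] at hx
  obtain ⟨m, h1, h2, h3⟩ := hx
  unfold sqNorm
  rw [← Int.modEq_zero_iff_dvd]
  by_cases hm : m % 2 = 0
  · have hp : ∀ i ∈ (Finset.univ : Finset GolayPt),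
        x i ^ 2 ≡ (if i ∈ lev x 2 then 4 else 0) [ZMOD 16] := by
      intro i _
      have := h1 i
      by_cases hi : i ∈ lev x 2
      · rw [if_pos hi]
        rw [mem_lev] at hi
        apply sq_of_mod4_two
        unfold Int.ModEq at hi
        omega
      · rw [if_neg hi]
        rw [mem_lev] at hi
        apply sq_of_mod4_zero
        unfold Int.ModEq at *
        omega
    refine (Int.ModEq.sum hp).trans ?_
    rw [sum_ite_mem_const, Finset.univ_inter]
    obtain ⟨u, hu⟩ := card_dvd4 (lev x 2) (h3 2)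
    rw [hu]
    unfold Int.ModEq
    push_cast
    omega
  · have hp : ∀ i ∈ (Finset.univ : Finset GolayPt),
        x i ^ 2 ≡ 2 * x i + (if i ∈ lev x 1 then -1 else 3) [ZMOD 16] := by
      intro i _
      have := h1 i
      by_cases hi : i ∈ lev x 1
      · rw [if_pos hi]
        rw [mem_lev] at hi
        apply sq_of_mod4_one
        unfold Int.ModEq at hi
        omega
      · rw [if_neg hi]
        rw [mem_lev] at hi
        apply sq_of_mod4_three
        unfold Int.ModEq at *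
        omega
    refine (Int.ModEq.sum hp).trans ?_
    rw [Finset.sum_add_distrib, ← Finset.mul_sum, sum_ite_mem_const, Finset.univ_inter]
    obtain ⟨u, hu⟩ := card_dvd4 (lev x 1) (h3 1)
    have h4 := Finset.card_inter_add_card_sdiff (Finset.univ : Finset GolayPt) (lev x 1)
    rw [Finset.univ_inter, card_golayPt] at h4
    have h5 : (Finset.univ \ lev x 1).card = 24 - 4 * u := by omega
    have h6 : 4 * u ≤ 24 := by omega
    rw [hu, h5]
    unfold Int.ModEq at *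
    push_cast [h6]
    omega

end Cfsg.Agent.S0392
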