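import Cfsg.Statements.S3116
import Mathlib
-- import your own Cfsg.Agent.* helpers here

set_option autoImplicit false
set_option linter.style.haveILetI false
open Cfsg

namespace Cfsg.Agent.S3116

theorem index_two_out {X : Type*} [Group X] (C : Subgroup X) (hidx : C.index = 2) (u v : X)
    (hu : u ∉ C) (hv : v ∉ C) : u⁻¹ * v ∈ C := by
  obtain ⟨y₀, hy₀⟩ := Subgroup.index_eq_two_iff.1 hidx
  have h1 : u * y₀ ∈ C := by
    rcases hy₀ u with ⟨h1, _⟩ | ⟨h1, _⟩
    · exact h1
    · exact absurd h1 hu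
  have h2 : v * y₀ ∈ C := by
    rcases hy₀ v with ⟨h1, _⟩ | ⟨h1, _⟩
    · exact h1
    · exact absurd h1 hv
  haveI : C.Normal := Subgroup.normal_of_index_eq_two hidx
  have h3 : (u * y₀)⁻¹ * (v * y₀) ∈ C := Subgroup.mul_mem _ (Subgroup.inv_mem _ h1) h2
  have h4 := Subgroup.Normal.conj_mem ‹_› _ h3 y₀
  convert h4 using 1
  group

theorem index_zpowers {X : Type*} [Group X] [Finite X] (n : ℕ) (x : X) (hx : orderOf x = 2 ^ n)
    (hcard : Nat.card X = 2 ^ (n + 1)) : (Subgroup.zpowers x).index = 2 := by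
  have hCcard : Nat.card (Subgroup.zpowers x) = 2 ^ n := by rw [Nat.card_zpowers, hx]
  have := Subgroup.card_mul_index (Subgroup.zpowers x)
  rw [hCcard, hcard, pow_succ] at this
  exact Nat.eq_of_mul_eq_mul_left (by positivity) this

theorem aut_isPGroup {X : Type*} [Group X] [Finite X] (n : ℕ) (x : X) (hx : orderOf x = 2 ^ n)
    (hcard : Nat.card X = 2 ^ (n + 1)) (hchar : ∀ z : X, orderOf z = 2 ^ n → z ∈ Subgroup.zpowers x) :
    IsPGroup 2 (MulAut X) := by
  have hCcard : Nat.card (Subgroup.zpowers x) = 2 ^ n := by rw [Nat.card_zpowers, hx]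
  have hidx : (Subgroup.zpowers x).index = 2 := by
    have := Subgroup.card_mul_index (Subgroup.zpowers x)
    rw [hCcard, hcard, pow_succ] at this
    exact Nat.eq_of_mul_eq_mul_left (by positivity) this
  obtain ⟨y₀, hy₀⟩ := Subgroup.index_eq_two_iff.1 hidx
  -- an element outside C
  have hy₀C : y₀ ∉ Subgroup.zpowers x := by
    have := hy₀ 1
    rw [one_mul] at this
    rcases this with ⟨h1, h2⟩ | ⟨h1, h2⟩
    · exact absurd (Subgroup.one_mem _) h2
    · exact h2
  -- two elements outside C differ by C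
  have hout : ∀ u v : X, u ∉ Subgroup.zpowers x → v ∉ Subgroup.zpowers x → u⁻¹ * v ∈ Subgroup.zpowers x := by
    intro u v hu hv
    have h1 : u * y₀ ∈ Subgroup.zpowers x := by
      rcases hy₀ u with ⟨h1, _⟩ | ⟨h1, _⟩
      · exact h1
      · exact absurd h1 hu
    have h2 : v * y₀ ∈ Subgroup.zpowers x := by
      rcases hy₀ v with ⟨h1, _⟩ | ⟨h1, _⟩
      · exact h1
      · exact absurd h1 hv
    -- (u y0)⁻¹ (v y0) = y0⁻¹ u⁻¹ v y0 ∈ C, C normal (index 2)
    haveI : (Subgroup.zpowers x).Normal := Subgroup.normal_of_index_eq_two hidx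
    have h3 : (u * y₀)⁻¹ * (v * y₀) ∈ Subgroup.zpowers x :=
      Subgroup.mul_mem _ (Subgroup.inv_mem _ h1) h2
    have h4 := Subgroup.Normal.conj_mem ‹_› _ h3 y₀
    convert h4 using 1
    group
  intro α
  -- α x = x ^ a
  have hαx : α x ∈ Subgroup.zpowers x := by
    apply hchar
    rw [MulEquiv.orderOf_eq, hx]
  rw [← mem_powers_iff_mem_zpowers] at hαx
  obtain ⟨a, ha⟩ := hαx
  simp only at ha
  have hcop : Nat.Coprime a (2 ^ n) := by
    have h1 : orderOf (x ^ a) = 2 ^ n := by rw [ha, MulEquiv.orderOf_eq, hx]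
    rw [orderOf_pow, hx] at h1
    have h2 : (2 ^ n).gcd a = 1 := by
      rcases Nat.div_eq_self.1 h1 with h | h
      · exact absurd h (by positivity)
      · exact h
    rw [Nat.Coprime, Nat.gcd_comm]
    exact h2
  -- powers of α on x
  have hpow : ∀ j : ℕ, (α ^ j) x = x ^ (a ^ j) := by
    intro j
    induction j with
    | zero => simp
    | succ j ih =>
      rw [pow_succ', MulAut.mul_apply, ih, map_pow, ← ha, ← pow_mul, pow_succ']
  set t := Nat.totient (2 ^ n) with ht
  have ht2 : ∃ c, t = 2 ^ c := by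
    rcases Nat.eq_zero_or_pos n with h0 | hpos
    · refine ⟨0, ?_⟩
      rw [ht, h0]
      simp
    · refine ⟨n - 1, ?_⟩
      rw [ht, Nat.totient_prime_pow Nat.prime_two hpos]
      simp
  obtain ⟨c, hc⟩ := ht2
  have hβx : (α ^ t) x = x := by
    rw [hpow]
    have h1 := Nat.ModEq.pow_totient hcop
    have h2 : x ^ (a ^ t) = x ^ 1 := by
      rw [pow_eq_pow_iff_modEq, hx]
      exact h1
    rw [h2, pow_one]
  -- γ := α^t fixes x
  set γ := α ^ t with hγ
  have hγC : ∀ z ∈ Subgroup.zpowers x, γ z = z := by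
    rintro _ ⟨k, rfl⟩
    simp only
    rw [map_zpow, hβx]
  have hγy : γ y₀ ∉ Subgroup.zpowers x := by
    intro h
    apply hy₀C
    have h1 := hγC _ h
    have h2 : γ y₀ = y₀ := γ.injective h1
    rw [← h2]
    exact h
  have hyc := hout y₀ (γ y₀) hy₀C hγy
  rw [← mem_powers_iff_mem_zpowers] at hyc
  obtain ⟨i, hi⟩ := hyc
  simp only at hi
  have hγy' : γ y₀ = y₀ * x ^ i := by rw [hi]; group
  have hγpow : ∀ j : ℕ, (γ ^ j) y₀ = y₀ * x ^ (j * i) := by
    intro j
    induction j with
    | zero => simp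
    | succ j ih =>
      rw [pow_succ', MulAut.mul_apply, ih, map_mul, hγy', map_pow, hβx, mul_assoc, ← pow_add]
      congr 2
      ring
  have hδy : (γ ^ (2 ^ n)) y₀ = y₀ := by
    rw [hγpow, pow_mul, ← hx, pow_orderOf_eq_one, one_pow, mul_one]
  have hδx : ∀ z ∈ Subgroup.zpowers x, (γ ^ (2 ^ n)) z = z := by
    intro z hz
    have : ∀ j : ℕ, (γ ^ j) z = z := by
      intro j
      induction j with
      | zero => simp
      | succ j ih => rw [pow_succ', MulAut.mul_apply, ih, hγC z hz]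
    exact this _
  refine ⟨c + n, ?_⟩
  rw [pow_add, pow_mul, ← hc, ← hγ]
  ext z
  rw [MulAut.one_apply]
  by_cases hz : z ∈ Subgroup.zpowers x
  · exact hδx z hz
  · have h1 := hout y₀ z hy₀C hz
    have h2 : z = y₀ * (y₀⁻¹ * z) := by group
    rw [h2, map_mul, hδy, hδx _ h1]

/-- The automorphism group of a dihedral 2-group of order at least 8, or of a quasi-dihedral (semidihedral) 2-group of order at least 16, is a 2-group. -/
theorem result {X : Type*} [Group X] [Finite X] (h2 : IsPGroup 2 X)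
    (h : (∃ n : ℕ, 4 ≤ n ∧ Nonempty (X ≃* DihedralGroup n)) ∨ Cfsg.IsQuasiDihedral X) : IsPGroup 2 (MulAut X) := by
  haveI : Fact (Nat.Prime 2) := ⟨Nat.prime_two⟩
  rcases h with ⟨m, hm, ⟨e⟩⟩ | ⟨n, hn, hcard, x, y, hx, hy, hyx⟩
  · obtain ⟨k, hk⟩ := IsPGroup.iff_card.1 h2
    have hXm : Nat.card X = 2 * m := by rw [Nat.card_congr e.toEquiv, DihedralGroup.nat_card]
    have hk1 : 1 ≤ k := by
      rcases Nat.eq_zero_or_pos k with h0 | h0
      · rw [h0, hXm] at hk; omega
      · exact h0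
    obtain ⟨n, rfl⟩ : ∃ n, k = n + 1 := ⟨k - 1, by omega⟩
    have hmn : m = 2 ^ n := by
      rw [hXm, pow_succ, mul_comm] at hk
      exact Nat.eq_of_mul_eq_mul_right (by norm_num) hk
    haveI : NeZero m := ⟨by omega⟩
    apply aut_isPGroup n (e.symm (DihedralGroup.r 1))
    · rw [MulEquiv.orderOf_eq, DihedralGroup.orderOf_r_one, hmn]
    · exact hk
    · intro z hz
      have hz' : orderOf (e z) = 2 ^ n := by rw [MulEquiv.orderOf_eq, hz]
      rcases hez : e z with i | i
      · have h1 : z = e.symm (DihedralGroup.r i) := by rw [← hez]; simp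
        have h2 : DihedralGroup.r i = (DihedralGroup.r 1 : DihedralGroup m) ^ (ZMod.val i) := by
          rw [DihedralGroup.r_one_pow, ZMod.natCast_zmod_val]
        rw [h1, h2, map_pow]
        exact Subgroup.pow_mem _ (Subgroup.mem_zpowers _) _
      · rw [hez, DihedralGroup.orderOf_sr] at hz'
        omega
  · have hidx := index_zpowers n x hx hcard
    have hn4 : 4 ≤ 2 ^ (n - 1) := by
      calc 4 = 2 ^ 2 := by norm_num
        _ ≤ 2 ^ (n - 1) := Nat.pow_le_pow_right (by norm_num) (by omega)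
    have hn8 : 2 ^ n = 2 * 2 ^ (n - 1) := by
      rw [← pow_succ']; congr 1; omega
    have hyy : y * y = 1 := by
      have := pow_orderOf_eq_one y
      rwa [hy, pow_two] at this
    have hyinv : y⁻¹ = y := inv_eq_of_mul_eq_one_left hyy
    have hyC : y ∉ Subgroup.zpowers x := by
      rintro ⟨k, hk⟩
      simp only at hk
      have hc : Commute y x := by
        rw [← hk]
        exact (Commute.refl x).zpow_left k
      rw [hc.eq, mul_inv_cancel_right] at hyx
      have h1 : x ^ 1 = x ^ (2 ^ (n - 1) - 1) := by rw [pow_one]; exact hyx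
      rw [pow_eq_pow_iff_modEq, hx] at h1
      have h3 := Nat.ModEq.eq_of_lt_of_lt h1 (by omega) (by omega)
      omega
    apply aut_isPGroup n x hx hcard
    intro z hz
    by_contra hzC
    have h1 := index_two_out _ hidx y z hyC hzC
    rw [← mem_powers_iff_mem_zpowers] at h1
    obtain ⟨i, hi⟩ := h1
    simp only at hi
    have hz' : z = y * x ^ i := by rw [hi]; group
    have hconj : y * x ^ i * y⁻¹ = x ^ ((2 ^ (n - 1) - 1) * i) := by
      rw [← conj_pow, hyx, ← pow_mul]
    have hz2 : z * z = x ^ (2 ^ (n - 1) * i) := by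
      calc z * z = (y * x ^ i * y⁻¹) * (y * y) * x ^ i := by rw [hz']; group
        _ = x ^ ((2 ^ (n - 1) - 1) * i + i) := by rw [hconj, hyy, mul_one, ← pow_add]
        _ = x ^ (2 ^ (n - 1) * i) := by
          congr 1
          have : 2 ^ (n - 1) - 1 + 1 = 2 ^ (n - 1) := by omega
          calc (2 ^ (n - 1) - 1) * i + i = (2 ^ (n - 1) - 1 + 1) * i := by ring
            _ = 2 ^ (n - 1) * i := by rw [this]
    have hz4 : z ^ 4 = 1 := by
      have : z ^ 4 = (z * z) * (z * z) := by
        rw [show (4 : ℕ) = 2 + 2 by norm_num, pow_add, pow_two]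
      rw [this, hz2, ← pow_add, ← two_mul, ← mul_assoc, ← hn8, pow_mul, ← hx, pow_orderOf_eq_one, one_pow]
    have := orderOf_dvd_of_pow_eq_one hz4
    rw [hz] at this
    have := Nat.le_of_dvd (by norm_num) this
    omega

end Cfsg.Agent.S3116
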