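import Mathlib
import Cfsg.Statements.S1244
import Cfsg.Agent.Lib.Lead.IndexTwo

namespace Cfsg.Agent.S1244

open Subgroup Cfsg.Agent.Lib.Lead
open scoped IsMulCommutative

/-- conjugation by a normalizing element, as an endomorphism of the subgroup -/
def cj {G : Type*} [Group G] (S : Subgroup G) (n : G)
    (hn : n ∈ Subgroup.normalizer (S : Set G)) : ↥S →* ↥S where
  toFun s := ⟨n * s * n⁻¹, (Subgroup.mem_normalizer_iff.mp hn s).mp s.2⟩
  map_one' := by ext; simp
  map_mul' a b := by ext; simp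

theorem cj_val {G : Type*} [Group G] (S : Subgroup G) (n : G)
    (hn : n ∈ Subgroup.normalizer (S : Set G)) (s : ↥S) : (cj S n hn s : G) = n * s * n⁻¹ := rfl

theorem result {G : Type*} [Group G] [Finite G] (hG : ∀ H : Subgroup G, H.index ≠ 2) (S : Sylow 2 G) (hS : IsMulCommutative (S : Subgroup G)) (r : ℕ) (hr1 : 1 ≤ r) (hSr : Cfsg.PRankLE 2 r (S : Subgroup G) ∧ ¬ Cfsg.PRankLE 2 (r - 1) (S : Subgroup G)) (R : Subgroup G) (hRS : R ≤ S) (hRr : Cfsg.PRankLE 2 (r - 1) R ∧ (r = 1 ∨ ¬ Cfsg.PRankLE 2 (r - 2) R)) (t : G) (ht : orderOf t = 2) (htS : t ∈ S) : ∃ n ∈ Subgroup.normalizer ((S : Subgroup G) : Set G), n * t * n⁻¹ ∈ R := by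
  classical
  haveI := hS
  by_contra hcon
  push Not at hcon
  set N := Subgroup.normalizer ((S : Subgroup G) : Set G) with hN
  set S' : Subgroup N := (S : Subgroup G).subgroupOf N with hS'
  let tS : ↥(S : Subgroup G) := ⟨t, htS⟩
  have htS2 : tS ^ 2 = 1 := by
    apply Subtype.ext
    show t ^ 2 = 1
    rw [← ht]
    exact pow_orderOf_eq_one t
  let E' : Subgroup ↥(S : Subgroup G) :=
    (powMonoidHom 2 : ↥(S : Subgroup G) →* ↥(S : Subgroup G)).ker
  have hE'mem : ∀ x, x ∈ E' ↔ x ^ 2 = 1 := fun x => Iff.rfl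
  let ER' : Subgroup ↥(S : Subgroup G) := E' ⊓ R.subgroupOf (S : Subgroup G)
  have hER'mem : ∀ x, x ∈ ER' ↔ x ^ 2 = 1 ∧ (x : G) ∈ R := fun x => Iff.rfl
  have hS2 : IsPGroup 2 ↥(S : Subgroup G) := S.isPGroup'
  -- cardinalities
  have hE'card : Nat.card E' = 2 ^ r := by
    have h1 : Nat.card E' ≤ 2 ^ r :=
      hSr.1 E' ⟨⟨fun a b => Subtype.ext (mul_comm _ _)⟩⟩ (fun a ha => (hE'mem a).1 ha)
    have h2 : 2 ^ (r - 1) < Nat.card E' := by
      have := hSr.2
      unfold Cfsg.PRankLE at this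
      push Not at this
      obtain ⟨A, hAc, hAe, hAcard⟩ := this
      have hAle : A ≤ E' := fun a ha => (hE'mem a).2 (hAe a ha)
      exact lt_of_lt_of_le hAcard (Subgroup.card_le_of_le hAle)
    obtain ⟨j, hj⟩ := IsPGroup.iff_card.mp (hS2.to_subgroup E')
    rw [hj] at h1 h2 ⊢
    have h3 := (Nat.pow_le_pow_iff_right (by norm_num)).mp h1
    have h4 := (Nat.pow_lt_pow_iff_right (by norm_num)).mp h2
    congr 1
    omega
  let ι : ↥R →* ↥(S : Subgroup G) := Subgroup.inclusion hRS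
  have hι : Function.Injective ι := Subgroup.inclusion_injective hRS
  let ER'' : Subgroup ↥R := ER'.comap ι
  have hER''card : Nat.card ER'' = Nat.card ER' := by
    rw [← Subgroup.card_map_of_injective (K := ER'') hι, Subgroup.map_comap_eq]
    have h0 : ι.range ⊓ ER' = ER' := by
      apply inf_eq_right.mpr
      intro x hx
      exact ⟨⟨(x : G), ((hER'mem x).1 hx).2⟩, rfl⟩
    rw [h0]
  have hER''mem : ∀ a : ↥R, a ∈ ER'' ↔ a ^ 2 = 1 := by
    intro a
    show ι a ∈ ER' ↔ _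
    rw [hER'mem]
    constructor
    · rintro ⟨h1, -⟩
      apply hι
      rw [map_pow, h1, map_one]
    · intro h
      refine ⟨?_, a.2⟩
      rw [← map_pow, h, map_one]
  have hR2 : IsPGroup 2 ↥R := S.isPGroup'.to_le hRS
  have hER'card : Nat.card ER' = 2 ^ (r - 1) := by
    rw [← hER''card]
    have h1 : Nat.card ER'' ≤ 2 ^ (r - 1) := by
      apply hRr.1 ER''
      · refine ⟨⟨fun a b => ?_⟩⟩
        apply Subtype.ext
        apply hι
        rw [Subgroup.coe_mul, Subgroup.coe_mul, map_mul, map_mul, mul_comm]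
      · intro a ha
        exact (hER''mem a).1 ha
    obtain ⟨j, hj⟩ := IsPGroup.iff_card.mp (hR2.to_subgroup ER'')
    rcases hRr.2 with hr1' | hnot
    · have h0 : r - 1 = 0 := by omega
      rw [h0, pow_zero] at h1 ⊢
      have : 0 < Nat.card ER'' := Nat.card_pos
      omega
    · unfold Cfsg.PRankLE at hnot
      push Not at hnot
      obtain ⟨A, hAc, hAe, hAcard⟩ := hnot
      have hAle : A ≤ ER'' := fun a ha => (hER''mem a).2 (hAe a ha)
      have h2 : 2 ^ (r - 2) < Nat.card ER'' := lt_of_lt_of_le hAcard (Subgroup.card_le_of_le hAle)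
      rw [hj] at h1 h2 ⊢
      have h3 := (Nat.pow_le_pow_iff_right (by norm_num)).mp h1
      have h4 := (Nat.pow_lt_pow_iff_right (by norm_num)).mp h2
      congr 1
      omega
  have hERle : ER' ≤ E' := inf_le_left
  have hidx2 : (ER'.subgroupOf E').index = 2 := by
    have h1 := Subgroup.card_mul_index (ER'.subgroupOf E')
    rw [Nat.card_congr (Subgroup.subgroupOfEquivOfLe hERle).toEquiv, hER'card, hE'card] at h1
    have h2 : (2 : ℕ) ^ r = 2 ^ (r - 1) * 2 := by
      rw [← pow_succ]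
      congr 1
      omega
    rw [h2] at h1
    exact Nat.eq_of_mul_eq_mul_left (pow_pos (by norm_num) _) h1
  haveI : Fintype (↥N ⧸ S') := Fintype.ofFinite _
  -- parity lemma
  have hpar : ∀ (T : Finset (↥N ⧸ S')) (f : ↥N ⧸ S' → ↥(S : Subgroup G)),
      (∀ i ∈ T, f i ∈ E' ∧ f i ∉ ER') →
      (∏ i ∈ T, f i ∈ E') ∧ (∏ i ∈ T, f i ∈ ER' ↔ Even T.card) := by
    intro T f
    induction T using Finset.induction_on with
    | empty =>
      intro _
      simp only [Finset.prod_empty, Finset.card_empty]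
      exact ⟨E'.one_mem, ⟨fun _ => Even.zero, fun _ => ER'.one_mem⟩⟩
    | insert a T' ha ih =>
      intro hT
      have hT' : ∀ i ∈ T', f i ∈ E' ∧ f i ∉ ER' := fun i hi => hT i (Finset.mem_insert_of_mem hi)
      obtain ⟨ih1, ih2⟩ := ih hT'
      obtain ⟨ha1, ha2⟩ := hT a (Finset.mem_insert_self a T')
      rw [Finset.prod_insert ha, Finset.card_insert_of_notMem ha]
      refine ⟨E'.mul_mem ha1 ih1, ?_⟩
      have h1 := Subgroup.mul_mem_iff_of_index_two hidx2 (a := (⟨f a, ha1⟩ : E'))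
        (b := (⟨∏ i ∈ T', f i, ih1⟩ : E'))
      simp only [Subgroup.mem_subgroupOf, Subgroup.coe_mul] at h1
      rw [h1, ih2, Nat.even_add_one]
      constructor
      · intro h hev
        exact ha2 (h.2 hev)
      · intro h
        exact ⟨fun h' => absurd h' ha2, fun h' => absurd h' h⟩
  -- the function on cosets
  let f : ↥N ⧸ S' → ↥(S : Subgroup G) := fun q => cj (S : Subgroup G) q.out.1 q.out.2 tS
  have hcjS : ∀ (s : G) (hs : s ∈ (S : Subgroup G)) (hsN : s ∈ N) (x : ↥(S : Subgroup G)),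
      cj (S : Subgroup G) s hsN x = x := by
    intro s hs hsN x
    apply Subtype.ext
    rw [cj_val]
    have := mul_comm (⟨s, hs⟩ : ↥(S : Subgroup G)) x
    have h2 : s * (x : G) = (x : G) * s := congrArg Subtype.val this
    rw [h2, mul_inv_cancel_right]
  have hcjmul : ∀ (a b : G) (ha : a ∈ N) (hb : b ∈ N) (x : ↥(S : Subgroup G)),
      cj (S : Subgroup G) (a * b) (N.mul_mem ha hb) x =
        cj (S : Subgroup G) a ha (cj (S : Subgroup G) b hb x) := by
    intro a b ha hb x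
    apply Subtype.ext
    simp only [cj_val]
    group
  have hf : ∀ n : ↥N, f (QuotientGroup.mk n) = cj (S : Subgroup G) n.1 n.2 tS := by
    intro n
    obtain ⟨h, hh⟩ := QuotientGroup.mk_out_eq_mul S' n
    show cj (S : Subgroup G) (QuotientGroup.mk n : ↥N ⧸ S').out.1 _ tS = _
    have h1 : ((QuotientGroup.mk n : ↥N ⧸ S').out : G) = n.1 * (h.1 : G) := by
      rw [hh]; rfl
    have h3 : cj (S : Subgroup G) (QuotientGroup.mk n : ↥N ⧸ S').out.1
        (QuotientGroup.mk n : ↥N ⧸ S').out.2 tS =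
        cj (S : Subgroup G) (n.1 * (h.1 : G)) (N.mul_mem n.2 h.1.2) tS := by
      apply Subtype.ext
      simp only [cj_val, h1]
    rw [h3, hcjmul _ _ n.2 h.1.2, hcjS _ (Subgroup.mem_subgroupOf.mp h.2) h.1.2]
  have hfE : ∀ q : ↥N ⧸ S', f q ∈ E' ∧ f q ∉ ER' := by
    intro q
    induction q using QuotientGroup.induction_on with
    | H n =>
      rw [hf]
      constructor
      · rw [hE'mem, ← map_pow, htS2, map_one]
      · intro h
        exact hcon n.1 n.2 ((hER'mem _).1 h).2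
  set σ : ↥(S : Subgroup G) := ∏ q : ↥N ⧸ S', f q with hσ
  have hodd : ¬ Even (Finset.univ : Finset (↥N ⧸ S')).card := by
    rw [Finset.card_univ, ← Nat.card_eq_fintype_card]
    show ¬ Even S'.index
    have h1 : S'.index ∣ (S : Subgroup G).index := by
      have := Subgroup.relIndex_mul_index (Subgroup.le_normalizer (H := (S : Subgroup G)))
      exact Dvd.intro _ this
    intro hev
    have h2 : 2 ∣ (S : Subgroup G).index := (even_iff_two_dvd.mp hev).trans h1
    exact S.not_dvd_index h2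
  obtain ⟨hσE, hσER⟩ := hpar Finset.univ f (fun i _ => hfE i)
  have hσnot : σ ∉ ER' := fun h => hodd (hσER.1 h)
  have hσ1 : σ ≠ 1 := fun h => hσnot (h ▸ ER'.one_mem)
  have hσ2 : σ ^ 2 = 1 := (hE'mem σ).1 hσE
  -- invariance under the normalizer
  have hinv : ∀ m : ↥N, cj (S : Subgroup G) m.1 m.2 σ = σ := by
    intro m
    rw [hσ, map_prod]
    rw [← Equiv.prod_comp (MulAction.toPerm m) f]
    apply Finset.prod_congr rfl
    intro q _
    induction q using QuotientGroup.induction_on with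
    | H n =>
      rw [MulAction.toPerm_apply, MulAction.Quotient.smul_mk, hf, hf]
      exact (hcjmul m.1 n.1 m.2 n.2 tS).symm
  -- transfer
  have key : ∀ (k : ℕ) (g₀ : G), g₀⁻¹ * (σ : G) ^ k * g₀ ∈ (S : Subgroup G) →
      g₀⁻¹ * (σ : G) ^ k * g₀ = (σ : G) ^ k := by
    intro k g₀ h
    obtain ⟨n, hn, hn'⟩ := S.conj_eq_normalizer_conj_of_mem ((σ : G) ^ k) g₀
      ((S : Subgroup G).pow_mem σ.2 k) h
    rw [hn']
    have h1 : n⁻¹ * (σ : G) * (n⁻¹)⁻¹ = σ := congrArg Subtype.val (hinv ⟨n⁻¹, N.inv_mem hn⟩)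
    have h2 : n⁻¹ * (σ : G) ^ k * n = (n⁻¹ * σ * (n⁻¹)⁻¹) ^ k := by rw [conj_pow, inv_inv]
    rw [h2, h1]
  have hV := MonoidHom.transfer_eq_pow (MonoidHom.id ↥(S : Subgroup G)) (σ : G) key
  have hVne : MonoidHom.transfer (MonoidHom.id ↥(S : Subgroup G)) (σ : G) ≠ 1 := by
    rw [hV]
    intro h
    have h1 : (σ : G) ^ (S : Subgroup G).index = 1 := congrArg Subtype.val h
    have hoddS : Odd (S : Subgroup G).index := by
      rw [← Nat.not_even_iff_odd]
      intro hev
      exact S.not_dvd_index (even_iff_two_dvd.mp hev)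
    obtain ⟨k, hk⟩ := hoddS
    have h2 : (σ : G) ^ 2 = 1 := congrArg Subtype.val hσ2
    rw [hk, pow_succ, pow_mul, h2, one_pow, one_mul] at h1
    exact hσ1 (Subtype.ext h1)
  obtain ⟨H, hH⟩ := IndexTwo.exists_index_two_of_hom hS2
    (MonoidHom.transfer (MonoidHom.id ↥(S : Subgroup G))) (σ : G) hVne
  exact hG H hH
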