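import Cfsg.Statements.S3963
import Cfsg.Agent.Lib.Helper2.SchurBasic

set_option autoImplicit false
open Cfsg

namespace Cfsg.Agent.S3963

open Cfsg.Agent.Lib.Helper2 QuaternionGroup

theorem inv_a {n : ℕ} (i : ZMod (2 * n)) : (a i : QuaternionGroup n)⁻¹ = a (-i) := by
  apply inv_eq_of_mul_eq_one_right
  rw [a_mul_a, add_neg_cancel, a_zero]

theorem inv_xa {n : ℕ} (i : ZMod (2 * n)) :
    (xa i : QuaternionGroup n)⁻¹ = xa ((n : ZMod (2 * n)) + i) := by
  apply inv_eq_of_mul_eq_one_right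
  rw [xa_mul_xa, one_def]
  congr 1
  have : ((n : ZMod (2 * n)) + (n : ZMod (2 * n))) = 0 := by
    rw [← Nat.cast_add, ← two_mul, ZMod.natCast_self]
  calc (n : ZMod (2 * n)) + ((n : ZMod (2 * n)) + i) - i
      = (n : ZMod (2 * n)) + (n : ZMod (2 * n)) := by ring
    _ = 0 := this

theorem a_one_zpow {n : ℕ} (k : ℤ) : (a 1 : QuaternionGroup n) ^ k = a (k : ZMod (2 * n)) := by
  induction k using Int.induction_on with
  | zero => simp
  | succ k ih =>
    rw [zpow_add_one, ih, a_mul_a]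
    push_cast
    rfl
  | pred k ih =>
    rw [zpow_sub_one, ih, inv_a, a_mul_a]
    push_cast
    congr 1
    ring

theorem mem_zpowers_a_one {n : ℕ} (g : QuaternionGroup n) :
    g ∈ Subgroup.zpowers (a 1 : QuaternionGroup n) ↔ ∃ i : ZMod (2 * n), g = a i := by
  rw [Subgroup.mem_zpowers_iff]
  constructor
  · rintro ⟨k, rfl⟩
    exact ⟨(k : ZMod (2 * n)), a_one_zpow k⟩
  · rintro ⟨i, rfl⟩
    obtain ⟨k, rfl⟩ := ZMod.intCast_surjective i
    exact ⟨k, a_one_zpow k⟩

instance zpowers_a_one_normal {n : ℕ} :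
    (Subgroup.zpowers (a 1 : QuaternionGroup n)).Normal := by
  constructor
  intro g hg h
  rw [mem_zpowers_a_one] at hg ⊢
  obtain ⟨i, rfl⟩ := hg
  cases h with
  | a j => exact ⟨i, by rw [inv_a, a_mul_a, a_mul_a]; congr 1; ring⟩
  | xa j => exact ⟨_, by rw [inv_xa, xa_mul_a, xa_mul_xa]⟩

theorem zpowers_sup {n : ℕ} :
    Subgroup.zpowers (a 1 : QuaternionGroup n) ⊔ Subgroup.zpowers (xa 0) = ⊤ := by
  rw [eq_top_iff]
  intro g _
  cases g with
  | a i =>
    exact Subgroup.mem_sup_left ((mem_zpowers_a_one _).2 ⟨i, rfl⟩)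
  | xa i =>
    have : (xa i : QuaternionGroup n) = a (-i) * xa 0 := by simp
    rw [this]
    exact Subgroup.mul_mem_sup ((mem_zpowers_a_one _).2 ⟨-i, rfl⟩)
      (Subgroup.mem_zpowers _)

theorem eq_zero_or_of_add_self {n : ℕ} [NeZero n] (i : ZMod (2 * n)) (h : i + i = 0) :
    i = 0 ∨ i = ((n : ℕ) : ZMod (2 * n)) := by
  have h2 : ((i.val + i.val : ℕ) : ZMod (2 * n)) = 0 := by
    rw [Nat.cast_add, ZMod.natCast_zmod_val]; exact h
  rw [ZMod.natCast_eq_zero_iff] at h2
  obtain ⟨e, he⟩ := h2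
  have hlt : i.val < 2 * n := ZMod.val_lt i
  have hn : 0 < n := Nat.pos_of_ne_zero (NeZero.ne n)
  have he2 : e = 0 ∨ e = 1 := by
    rcases Nat.lt_or_ge e 2 with h | h
    · omega
    · exfalso
      have : (2 * n) * 2 ≤ (2 * n) * e := Nat.mul_le_mul_left _ h
      omega
  rcases he2 with rfl | rfl
  · left
    have : i.val = 0 := by omega
    exact (ZMod.val_eq_zero i).1 this
  · right
    have : i.val = n := by omega
    have h3 : ((i.val : ℕ) : ZMod (2 * n)) = ((n : ℕ) : ZMod (2 * n)) := congrArg _ this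
    rw [ZMod.natCast_zmod_val] at h3
    exact h3

/-- For every `n ≥ 1` the dicyclic (generalized quaternion) group of order `4 n` has trivial Schur multiplier. -/
theorem result (n : ℕ) [NeZero n] : Cfsg.HasCyclicSchurMultiplier (QuaternionGroup n) 1 := by
  apply hasCyclicSchurMultiplier_one_of_forall_ker_eq_bot
  intro Γ _ _ σ hσ
  rw [eq_bot_iff]
  intro k hk
  obtain ⟨t, ht⟩ := hσ.1 (xa 0)
  obtain ⟨b, hb, hkb⟩ := stem_cyclic_by_cyclic σ hσ (a 1) (xa 0) zpowers_sup t ht k hk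
  obtain ⟨i, hi⟩ := (mem_zpowers_a_one _).1 hb
  have hii : i + i = 0 := by
    have h1 : σ k = 1 := MonoidHom.mem_ker.1 hk
    rw [hkb, map_mul, map_inv, map_mul, map_mul, map_inv, ht, hi, inv_xa, xa_mul_a, xa_mul_xa,
      inv_a, a_mul_a, one_def] at h1
    have h2 := QuaternionGroup.a.inj h1
    have hnn : ((n : ZMod (2 * n)) + (n : ZMod (2 * n))) = 0 := by
      rw [← Nat.cast_add, ← two_mul, ZMod.natCast_self]
    have h3 : i + -((n : ZMod (2 * n)) + ((n : ZMod (2 * n)) + 0) - (0 + i)) =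
        i + i - ((n : ZMod (2 * n)) + (n : ZMod (2 * n))) := by ring
    rw [h3, hnn, sub_zero] at h2
    exact h2
  rw [Subgroup.mem_bot]
  rcases eq_zero_or_of_add_self i hii with hi0 | hin
  · have hbker : b ∈ σ.ker := by
      rw [MonoidHom.mem_ker, hi, hi0]; rfl
    have hbc := Subgroup.mem_center_iff.1 (hσ.2.1 hbker)
    have h1 : t * b * t⁻¹ = b := by rw [hbc t, mul_inv_cancel_right]
    rw [hkb, h1, mul_inv_cancel]
  · have ht2 : σ (t * t) = a ((n : ℕ) : ZMod (2 * n)) := by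
      rw [map_mul, ht, xa_mul_xa]
      congr 1
      simp
    have hwker : b * (t * t)⁻¹ ∈ σ.ker := by
      rw [MonoidHom.mem_ker, map_mul, map_inv, hi, ht2, hin, mul_inv_cancel]
    have hwc := Subgroup.mem_center_iff.1 (hσ.2.1 hwker)
    set w := b * (t * t)⁻¹ with hw
    have hbw : b = w * (t * t) := by rw [hw]; group
    have h1 : t * (w * (t * t)) * t⁻¹ = w * (t * t) := by
      rw [← mul_assoc, hwc t]; group
    rw [hkb, hbw, h1, mul_inv_cancel]

end Cfsg.Agent.S3963
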