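import Cfsg.Statements.S5025
import Cfsg.Agent.Lib.Helper4.RootSub

set_option autoImplicit false
open Cfsg

namespace Cfsg.Agent.S5025

open Cfsg.Agent.Lib.Helper4.RankOneGrp Cfsg.Agent.Lib.Helper4.RootSub

/-- A nontrivial element centralizing `⟨A, B⟩` cannot be composed with `a ∈ A#` into a root
element. -/
theorem no_translate {G : Type*} [Group G] {S : Set (Subgroup G)} (hS : Cfsg.IsRootSubgroupSet S)
    {A B : Subgroup G} (hA : A ∈ S) (hBS : B ∈ S) (hAB : IsRankOnePair A B) {z : G}
    (hzA : ∀ x ∈ A, z * x = x * z) (hzB : ∀ x ∈ B, z * x = x * z) (hz1 : z ≠ 1)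
    {a : G} (ha : a ∈ A) (ha1 : a ≠ 1) : z * a ∉ Cfsg.rootElements S := by
  rintro ⟨hne, E, hE, he⟩
  have hEA := core hS hA hBS hE hAB ha ha1 hzA hzB he hne
  rw [hEA] at he
  have hz : z ∈ A := by
    have := mul_mem he (inv_mem ha)
    rwa [mul_inv_cancel_right] at this
  exact hz1 (eq_one_of_mem_normalizer hAB hz (mem_normalizer_of_commutes hzB))

/-- Let S be a set of abstract root subgroups of G, A ∈ S and B a rank one partner of A in S. If z ≠ 1 centralizes ⟨A, B⟩, then no product z a with a a non-identity element of A is a non-identity element of a member of S. -/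
theorem result {G : Type*} [Group G] {S : Set (Subgroup G)} (hS : Cfsg.IsRootSubgroupSet S)
    {A B : Subgroup G} (hA : A ∈ S) (hB : B ∈ Cfsg.rankOnePartners S A) {z : G}
    (hz : z ∈ Subgroup.centralizer ((A ⊔ B : Subgroup G) : Set G)) (hz1 : z ≠ 1) :
    ∀ a ∈ A, a ≠ 1 → z * a ∉ Cfsg.rootElements S := by
  intro a ha ha1
  rw [Subgroup.mem_centralizer_iff] at hz
  exact no_translate hS hA hB.1 hB.2
    (fun x hx => (hz x (Subgroup.mem_sup_left hx)).symm)
    (fun x hx => (hz x (Subgroup.mem_sup_right hx)).symm) hz1 ha ha1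

end Cfsg.Agent.S5025
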