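import Cfsg.Statements.S5028
import Cfsg.Agent.Lib.Helper4.RootSub

set_option autoImplicit false
open Cfsg

namespace Cfsg.Agent.S5028

open Cfsg.Agent.Lib.Helper4.RankOneGrp Cfsg.Agent.Lib.Helper4.RootSub

/-- a non-isolated member has a rank one partner -/
theorem exists_partner {G : Type*} [Group G] {S : Set (Subgroup G)} {A : Subgroup G}
    (hA : ¬ Cfsg.IsIsolatedIn (Cfsg.FAdj S) S A) (hAS : A ∈ S) :
    ∃ C ∈ S, IsRankOnePair A C := by
  unfold IsIsolatedIn at hA
  push Not at hA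
  obtain ⟨C, hC⟩ := hA hAS
  by_cases h1 : FAdj S A C
  · exact ⟨C, h1.2.1, h1.2.2⟩
  · have h2 := hC h1
    exact ⟨C, h2.1, RankOnePair_symm h2.2.2⟩

/-- Let S be a set of abstract root subgroups of G and A a member of S having a rank one partner in S. Then A meets every other member of S trivially. -/
theorem result {G : Type*} [Group G] {S : Set (Subgroup G)} (hS : Cfsg.IsRootSubgroupSet S)
    {A : Subgroup G} (hA : ¬ Cfsg.IsIsolatedIn (Cfsg.FAdj S) S A) (hAS : A ∈ S) : ∀ B ∈ S, A ⊓ B = ⊥ ∨ A = B := by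
  obtain ⟨C, hC, hAC⟩ := exists_partner hA hAS
  intro B hB
  by_cases hbot : A ⊓ B = ⊥
  · exact Or.inl hbot
  · right
    obtain ⟨a, ha1⟩ := (Subgroup.ne_bot_iff_exists_ne_one).mp hbot
    have haA : a.1 ∈ A := a.2.1
    have haB : a.1 ∈ B := a.2.2
    have hne : a.1 ≠ 1 := fun h => ha1 (Subtype.ext h)
    have := core hS hAS hC hB hAC (a := a.1) (z := 1) haA hne (fun x _ => by simp)
      (fun x _ => by simp) (by rwa [one_mul]) (by rwa [one_mul])
    exact this.symm

end Cfsg.Agent.S5028
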