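import Cfsg.Statements.S5018
import Cfsg.Agent.Lib.Helper4.RankOneGrp2

set_option autoImplicit false
open Cfsg

namespace Cfsg.Agent.S5018

open Cfsg.Agent.Lib.Helper4.RankOneGrp Cfsg.Agent.Lib.Helper4.RankOneGrp2
open scoped commutatorElement

/-- An element whose commutators are all central normalizes `A`. -/
theorem normalizes_of_central_commutators {X : Type*} [Group X] {A B : Subgroup X}
    (htop : A ⊔ B = ⊤) (hp : IsRankOnePair A B) (z : X)
    (hz : ∀ y : X, z * y * z⁻¹ * y⁻¹ ∈ Subgroup.center X) : conjBy A z = A := by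
  by_contra hne
  have hC : conjBy A z ∈ unipotentSubgroups A B :=
    conjBy_mem_unipotent left_mem_unipotent (by rw [htop]; exact Subgroup.mem_top z)
  have hfix : ∀ a ∈ A, conjBy (conjBy A z) a = conjBy A z := by
    intro a ha
    have hc : z * a⁻¹ * z⁻¹ * a⁻¹⁻¹ ∈ Subgroup.center X := hz a⁻¹
    rw [inv_inv] at hc
    have hcomm := (Subgroup.mem_center_iff.mp hc) z
    have hc' : z * a⁻¹ * z⁻¹ * a = a⁻¹ * z⁻¹ * a * z := by
      have : z * a⁻¹ * z⁻¹ * a = z⁻¹ * (z * (z * a⁻¹ * z⁻¹ * a)) := by group
      rw [this, hcomm]; group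
    have h1 : a * z = z * (a * (z * a⁻¹ * z⁻¹ * a)) := by
      rw [hc']; group
    have hcn : conjBy A (z * a⁻¹ * z⁻¹ * a) = A :=
      conjBy_eq_self_iff.mpr (Subgroup.center_le_normalizer _ hc)
    rw [conjBy_conjBy, h1, ← conjBy_conjBy A _ z, ← conjBy_conjBy A _ a, hcn, conjBy_of_mem ha]
  -- find a third member
  obtain ⟨a₀, ha₀, ha₀1⟩ := exists_ne_one_left hp
  have hB := right_mem_unipotent hp
  have hB' : conjBy B a₀ ∈ unipotentSubgroups A B :=
    conjBy_mem_unipotent hB (Subgroup.mem_sup_left ha₀)
  have hBB' : conjBy B a₀ ≠ B := by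
    intro he
    exact ha₀1 (eq_one_of_mem_normalizer hp ha₀ (conjBy_eq_self_iff.mp he))
  obtain ⟨D, hD, hDA, hDC⟩ : ∃ D ∈ unipotentSubgroups A B, D ≠ A ∧ D ≠ conjBy A z := by
    by_cases hBC : B = conjBy A z
    · exact ⟨conjBy B a₀, hB', conjBy_right_ne_left hp ha₀, fun he => hBB' (he.trans hBC.symm)⟩
    · exact ⟨B, hB, hp.ne.symm, hBC⟩
  obtain ⟨a, ⟨ha, he⟩, -⟩ := regular hp hC hD hne hDA
  rw [hfix a ha] at he
  exact hDC he.symm

/-- A rank one group is not nilpotent, and its second centre equals its centre. -/
theorem result {X : Type*} [Group X] {A B : Subgroup X} (h : Cfsg.IsRankOneGroup X A B) :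
    Subgroup.upperCentralSeries X 2 = Subgroup.center X ∧ ¬ Group.IsNilpotent X := by
  obtain ⟨htop, hp⟩ := h
  have key : ∀ z : X, (∀ y : X, z * y * z⁻¹ * y⁻¹ ∈ Subgroup.center X) →
      z ∈ Subgroup.center X := by
    intro z hz
    -- the set of such z is a normal subgroup; use instead the second centre
    have hz2 : z ∈ Subgroup.upperCentralSeries X 2 := by
      rw [Subgroup.mem_upperCentralSeries_succ_iff]
      intro y
      rw [Subgroup.upperCentralSeries_one, commutatorElement_def]
      exact hz y
    have hnorm : ∀ n ∈ Subgroup.upperCentralSeries X 2, conjBy A n = A := by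
      intro n hn
      apply normalizes_of_central_commutators htop hp
      intro y
      have := Subgroup.mem_upperCentralSeries_succ_iff.mp hn y
      rwa [Subgroup.upperCentralSeries_one, commutatorElement_def] at this
    exact le_center_of_normalizes htop hp _ hnorm hz2
  have h2 : Subgroup.upperCentralSeries X 2 = Subgroup.center X := by
    apply le_antisymm
    · intro z hz
      apply key
      intro y
      have := Subgroup.mem_upperCentralSeries_succ_iff.mp hz y
      rwa [Subgroup.upperCentralSeries_one, commutatorElement_def] at this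
    · rw [← Subgroup.upperCentralSeries_one]
      exact Subgroup.upperCentralSeries_mono X (by norm_num)
  refine ⟨h2, ?_⟩
  intro hnil
  obtain ⟨n, hn⟩ := hnil.nilpotent'
  have hall : ∀ n, Subgroup.upperCentralSeries X n ≤ Subgroup.center X := by
    intro n
    induction n with
    | zero => rw [Subgroup.upperCentralSeries_zero]; exact bot_le
    | succ n ih =>
      intro z hz
      apply key
      intro y
      have := Subgroup.mem_upperCentralSeries_succ_iff.mp hz y
      rw [commutatorElement_def] at this
      exact ih this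
  apply not_comm hp
  intro x y
  have hx : x ∈ Subgroup.center X := hall n (by rw [hn]; exact Subgroup.mem_top x)
  exact ((Subgroup.mem_center_iff.mp hx) y).symm

end Cfsg.Agent.S5018
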