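import Cfsg.Statements.S5019
import Cfsg.Agent.S5018

set_option autoImplicit false
set_option linter.unusedSimpArgs false
open Cfsg

namespace Cfsg.Agent.S5019

open Cfsg.Agent.Lib.Helper4.RankOneGrp Cfsg.Agent.Lib.Helper4.RankOneGrp2
open scoped commutatorElement

theorem ring_key {R : Type*} [Ring R] (α β : R) (h1 : α * α = 0) (h2 : β * β = 0)
    (h3 : β * ((1 + α) * (1 - β) * α * (1 + β) * (1 - α)) = 0)
    (h4 : α * ((1 + β) * (1 - α) * β * (1 + α) * (1 - β)) = 0) :
    (1 + α) * (1 - β) * α * (1 + β) * (1 - α) + β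
      = α + (1 + β) * (1 - α) * β * (1 + α) * (1 - β) := by
  have ha : ∀ x, α * (α * x) = 0 := fun x => by rw [← mul_assoc, h1, zero_mul]
  have hb : ∀ x, β * (β * x) = 0 := fun x => by rw [← mul_assoc, h2, zero_mul]
  have u1 : (1 + β) * (1 - α) * ((1 + α) * (1 - β)) = 1 := by
    have : (1 + β) * (1 - α) * ((1 + α) * (1 - β)) = 1 - β * β - (1 + β) * (α * α) * (1 - β) := by
      noncomm_ring
    rw [this, h1, h2]; simp
  have u2 : (1 + α) * (1 - β) * ((1 + β) * (1 - α)) = 1 := by
    have : (1 + α) * (1 - β) * ((1 + β) * (1 - α)) = 1 - α * α - (1 + α) * (β * β) * (1 - α) := by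
      noncomm_ring
    rw [this, h1, h2]; simp
  have h3' : β * ((1 + α) * (1 - β) * α) = 0 := by
    have : β * ((1 + α) * (1 - β) * α) =
        β * ((1 + α) * (1 - β) * α * (1 + β) * (1 - α)) * ((1 + α) * (1 - β)) := by
      have e : β * ((1 + α) * (1 - β) * α * (1 + β) * (1 - α)) * ((1 + α) * (1 - β)) =
          β * ((1 + α) * (1 - β) * α) * ((1 + β) * (1 - α) * ((1 + α) * (1 - β))) := by
        noncomm_ring
      rw [e, u1, mul_one]
    rw [this, h3, zero_mul]
  have h4' : α * ((1 + β) * (1 - α) * β) = 0 := by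
    have : α * ((1 + β) * (1 - α) * β) =
        α * ((1 + β) * (1 - α) * β * (1 + α) * (1 - β)) * ((1 + β) * (1 - α)) := by
      have e : α * ((1 + β) * (1 - α) * β * (1 + α) * (1 - β)) * ((1 + β) * (1 - α)) =
          α * ((1 + β) * (1 - α) * β) * ((1 + α) * (1 - β) * ((1 + β) * (1 - α))) := by
        noncomm_ring
      rw [e, u2, mul_one]
    rw [this, h4, zero_mul]
  have h7 : β * (α * (β * α)) = β * α := by
    have : β * ((1 + α) * (1 - β) * α) = β * α + β * (α * α) - β * β * α - β * (α * (β * α)) := by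
      noncomm_ring
    rw [this, h1, h2] at h3'
    simp at h3'
    exact (sub_eq_zero.mp h3').symm
  have h6 : α * (β * (α * β)) = α * β := by
    have : α * ((1 + β) * (1 - α) * β) = α * β + α * (β * β) - α * α * β - α * (β * (α * β)) := by
      noncomm_ring
    rw [this, h1, h2] at h4'
    simp at h4'
    exact (sub_eq_zero.mp h4').symm
  have h7' : ∀ x, β * (α * (β * (α * x))) = β * (α * x) := fun x => by
    calc β * (α * (β * (α * x))) = (β * (α * (β * α))) * x := by simp only [mul_assoc]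
      _ = β * (α * x) := by rw [h7, mul_assoc]
  have h6' : ∀ x, α * (β * (α * (β * x))) = α * (β * x) := fun x => by
    calc α * (β * (α * (β * x))) = (α * (β * (α * β))) * x := by simp only [mul_assoc]
      _ = α * (β * x) := by rw [h6, mul_assoc]
  simp only [mul_assoc, mul_add, add_mul, mul_sub, sub_mul, mul_one, one_mul, ha, hb, h1, h2,
    h6', h7', h6, h7, mul_zero, zero_mul, add_zero, zero_add, sub_zero, zero_sub]
  abel

section main

variable {X : Type*} [Group X] {A B : Subgroup X} {N : Type*} [AddCommGroup N]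
  [DistribMulAction X N]

/-- the representation -/
noncomputable abbrev phi (X : Type*) [Group X] (N : Type*) [AddCommGroup N]
    [DistribMulAction X N] : X →* AddMonoid.End N :=
  DistribMulAction.toAddMonoidEnd X N

theorem phi_apply (x : X) (n : N) : phi X N x n = x • n := rfl

theorem quad_ring (hq : ∀ a ∈ A, ∀ a' ∈ A, ∀ n : N, a' • (a • n - n) = a • n - n)
    {a a' : X} (ha : a ∈ A) (ha' : a' ∈ A) : (phi X N a' - 1) * (phi X N a - 1) = 0 := by
  ext n
  have := hq a ha a' ha' n
  change a' • (a • n - n) - (a • n - n) = 0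
  rw [this, sub_self]

theorem phi_inv_mul (x : X) : phi X N x⁻¹ * phi X N x = 1 := by
  rw [← map_mul, inv_mul_cancel, map_one]

theorem phi_mul_inv (x : X) : phi X N x * phi X N x⁻¹ = 1 := by
  rw [← map_mul, mul_inv_cancel, map_one]

theorem phi_inv_of_sq (x : X) (h : (phi X N x - 1) * (phi X N x - 1) = 0) :
    phi X N x⁻¹ = 1 - (phi X N x - 1) := by
  have h1 : phi X N x * (1 - (phi X N x - 1)) = 1 := by
    have : phi X N x * (1 - (phi X N x - 1)) = 1 - (phi X N x - 1) * (phi X N x - 1) := by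
      noncomm_ring
    rw [this, h, sub_zero]
  calc phi X N x⁻¹ = phi X N x⁻¹ * (phi X N x * (1 - (phi X N x - 1))) := by rw [h1, mul_one]
    _ = 1 - (phi X N x - 1) := by rw [← mul_assoc, phi_inv_mul, one_mul]

end main

/-- Let X be a rank one group with abelian unipotent subgroups A and B, and suppose X acts on an abelian group N (written additively) in such a way that A acts quadratically, meaning a' • (a • n − n) = a • n − n for all a, a' in A and n in N, while X as a whole does not: y • (x • n − n) ≠ x • n − n for some x, y in X and n in N. Then X is a special rank one group. -/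
theorem result {X : Type*} [Group X] {A B : Subgroup X} (h : Cfsg.IsRankOneGroup X A B)
    (hab : Cfsg.HasAbelianUnipotents A B) {N : Type*} [AddCommGroup N] [DistribMulAction X N]
    (hq : ∀ a ∈ A, ∀ a' ∈ A, ∀ n : N, a' • (a • n - n) = a • n - n)
    (hX : ∃ x y : X, ∃ n : N, y • (x • n - n) ≠ x • n - n) : Cfsg.IsSpecialRankOnePair A B := by
  have hrank := h
  obtain ⟨htop, hp⟩ := h
  refine ⟨hp, ?_⟩
  -- Step 1: the kernel is central
  have hK : (phi X N).ker ≤ Subgroup.center X := by
    rcases dichotomy htop hp (phi X N).ker with hKA | hKZ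
    · exfalso
      obtain ⟨x, y, n, hne⟩ := hX
      apply hne
      have hx : x ∈ (phi X N).ker ⊔ A := by rw [hKA]; exact Subgroup.mem_top x
      have hy : y ∈ (phi X N).ker ⊔ A := by rw [hKA]; exact Subgroup.mem_top y
      obtain ⟨k, hk, a, ha, rfl⟩ := Subgroup.mem_sup_of_normal_left.mp hx
      obtain ⟨k', hk', a', ha', rfl⟩ := Subgroup.mem_sup_of_normal_left.mp hy
      have e1 : ∀ m : N, (k * a) • m = a • m := by
        intro m
        rw [mul_smul, ← phi_apply k, MonoidHom.mem_ker.mp hk]; rfl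
      have e2 : ∀ m : N, (k' * a') • m = a' • m := by
        intro m
        rw [mul_smul, ← phi_apply k', MonoidHom.mem_ker.mp hk']; rfl
      rw [e1, e2, hq a ha a' ha']
    · exact hKZ
  -- Step 2: `B` acts quadratically
  have hqB : ∀ b ∈ B, ∀ b' ∈ B, (phi X N b' - 1) * (phi X N b - 1) = 0 := by
    obtain ⟨g, -, hg⟩ := right_mem_unipotent hp
    intro b hb b' hb'
    rw [hg, mem_conjBy] at hb hb'
    have e : ∀ x : X, phi X N x - 1 = phi X N g * (phi X N (g⁻¹ * x * g) - 1) * phi X N g⁻¹ := by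
      intro x
      rw [mul_sub, sub_mul, mul_one, phi_mul_inv, ← map_mul, ← map_mul]
      congr 2
      group
    rw [e b, e b']
    have : phi X N g * (phi X N (g⁻¹ * b' * g) - 1) * phi X N g⁻¹ *
        (phi X N g * (phi X N (g⁻¹ * b * g) - 1) * phi X N g⁻¹) =
        phi X N g * ((phi X N (g⁻¹ * b' * g) - 1) * (phi X N g⁻¹ * phi X N g) *
          (phi X N (g⁻¹ * b * g) - 1)) * phi X N g⁻¹ := by noncomm_ring
    rw [this, phi_inv_mul, mul_one, quad_ring hq hb hb', mul_zero, zero_mul]
  intro a ha ha1 b hb hb1 hconj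
  -- the elements `b'` and `a*`
  have hb'B : a * (b⁻¹ * a * b) * a⁻¹ ∈ B := by
    have h1 : b⁻¹ * a * b ∈ conjBy A b⁻¹ := by
      have := conj_mem_conjBy (g := b⁻¹) ha
      rwa [inv_inv] at this
    rw [hconj, mem_conjBy, inv_inv] at h1
    exact h1
  have hasA : b * (a⁻¹ * b * a) * b⁻¹ ∈ A := by
    have h1 : a⁻¹ * b * a ∈ conjBy B a⁻¹ := by
      have := conj_mem_conjBy (g := a⁻¹) hb
      rwa [inv_inv] at this
    rw [← hconj, mem_conjBy, inv_inv] at h1
    exact h1
  set b' := a * (b⁻¹ * a * b) * a⁻¹ with hb'def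
  set as := b * (a⁻¹ * b * a) * b⁻¹ with hasdef
  set α := phi X N a - 1 with hα
  set β := phi X N b - 1 with hβ
  have h1 : α * α = 0 := quad_ring hq ha ha
  have h2 : β * β = 0 := hqB b hb b hb
  have hphia : phi X N a = 1 + α := by rw [hα]; abel
  have hphib : phi X N b = 1 + β := by rw [hβ]; abel
  have hphiai : phi X N a⁻¹ = 1 - α := phi_inv_of_sq a h1
  have hphibi : phi X N b⁻¹ = 1 - β := phi_inv_of_sq b h2
  have u1 : (1 - β) * (1 + β) = 1 := by
    have : (1 - β) * (1 + β) = 1 - β * β := by noncomm_ring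
    rw [this, h2, sub_zero]
  have u2 : (1 + α) * (1 - α) = 1 := by
    have : (1 + α) * (1 - α) = 1 - α * α := by noncomm_ring
    rw [this, h1, sub_zero]
  have u3 : (1 - α) * (1 + α) = 1 := by
    have : (1 - α) * (1 + α) = 1 - α * α := by noncomm_ring
    rw [this, h1, sub_zero]
  have u4 : (1 + β) * (1 - β) = 1 := by
    have : (1 + β) * (1 - β) = 1 - β * β := by noncomm_ring
    rw [this, h2, sub_zero]
  have hβ' : phi X N b' - 1 = (1 + α) * (1 - β) * α * (1 + β) * (1 - α) := by
    rw [hb'def]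
    simp only [map_mul]
    rw [hphia, hphib, hphiai, hphibi]
    have : (1 + α) * ((1 - β) * (1 + α) * (1 + β)) * (1 - α) - 1 =
        (1 + α) * (1 - β) * α * (1 + β) * (1 - α) +
          ((1 + α) * ((1 - β) * (1 + β)) * (1 - α) - 1) := by noncomm_ring
    rw [this, u1, mul_one, u2, sub_self, add_zero]
  have hαs : phi X N as - 1 = (1 + β) * (1 - α) * β * (1 + α) * (1 - β) := by
    rw [hasdef]
    simp only [map_mul]
    rw [hphia, hphib, hphiai, hphibi]
    have : (1 + β) * ((1 - α) * (1 + β) * (1 + α)) * (1 - β) - 1 =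
        (1 + β) * (1 - α) * β * (1 + α) * (1 - β) +
          ((1 + β) * ((1 - α) * (1 + α)) * (1 - β) - 1) := by noncomm_ring
    rw [this, u3, mul_one, u4, sub_self, add_zero]
  have h3 : β * ((1 + α) * (1 - β) * α * (1 + β) * (1 - α)) = 0 := by
    rw [← hβ']; exact hqB b' hb'B b hb
  have h4 : α * ((1 + β) * (1 - α) * β * (1 + α) * (1 - β)) = 0 := by
    rw [← hαs]; exact quad_ring hq hasA ha
  have key := ring_key α β h1 h2 h3 h4
  rw [← hβ', ← hαs] at key
  -- `d = b' * b`
  set δ := phi X N (b' * b) - 1 with hδ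
  have hδ1 : δ = (phi X N b' - 1) + β := by
    rw [hδ, map_mul, hphib]
    have : phi X N b' * (1 + β) - 1 = (phi X N b' - 1) + β + (phi X N b' - 1) * β := by
      noncomm_ring
    rw [this, hqB b hb b' hb'B, add_zero]
  have hδ2 : δ = α + (phi X N as - 1) := by rw [hδ1, key]
  -- the subgroup of elements fixing `δ` on both sides
  let Fix : Subgroup X :=
    { carrier := {x | phi X N x * δ = δ ∧ δ * phi X N x = δ}
      one_mem' := by
        show phi X N 1 * δ = δ ∧ δ * phi X N 1 = δ
        rw [map_one, one_mul, mul_one]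
        exact ⟨rfl, rfl⟩
      mul_mem' := by
        rintro x y ⟨hx1, hx2⟩ ⟨hy1, hy2⟩
        refine ⟨?_, ?_⟩
        · rw [map_mul, mul_assoc, hy1, hx1]
        · rw [map_mul, ← mul_assoc, hx2, hy2]
      inv_mem' := by
        rintro x ⟨hx1, hx2⟩
        refine ⟨?_, ?_⟩
        · calc phi X N x⁻¹ * δ = phi X N x⁻¹ * (phi X N x * δ) := by rw [hx1]
            _ = δ := by rw [← mul_assoc, phi_inv_mul, one_mul]
        · calc δ * phi X N x⁻¹ = (δ * phi X N x) * phi X N x⁻¹ := by rw [hx2]
            _ = δ := by rw [mul_assoc, phi_mul_inv, mul_one] }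
  have hAFix : A ≤ Fix := by
    intro a₁ ha₁
    have e1 : phi X N a₁ * δ = δ + (phi X N a₁ - 1) * δ := by noncomm_ring
    have e2 : δ * phi X N a₁ = δ + δ * (phi X N a₁ - 1) := by noncomm_ring
    refine ⟨?_, ?_⟩
    · rw [e1, hδ2, mul_add, quad_ring hq ha ha₁, quad_ring hq hasA ha₁, add_zero, add_zero]
    · rw [e2, hδ2, add_mul, quad_ring hq ha₁ ha, quad_ring hq ha₁ hasA, add_zero, add_zero]
  have hBFix : B ≤ Fix := by
    intro b₁ hb₁
    have e1 : phi X N b₁ * δ = δ + (phi X N b₁ - 1) * δ := by noncomm_ring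
    have e2 : δ * phi X N b₁ = δ + δ * (phi X N b₁ - 1) := by noncomm_ring
    refine ⟨?_, ?_⟩
    · rw [e1, hδ1, mul_add, hqB b' hb'B b₁ hb₁, hqB b hb b₁ hb₁, add_zero, add_zero]
    · rw [e2, hδ1, add_mul, hqB b₁ hb₁ b' hb'B, hqB b₁ hb₁ b hb, add_zero, add_zero]
  have hFix : ∀ x : X, phi X N x * δ = δ ∧ δ * phi X N x = δ := by
    intro x
    have : x ∈ A ⊔ B := by rw [htop]; exact Subgroup.mem_top x
    exact (sup_le hAFix hBFix) this
  -- `d` is central modulo the kernel
  have hconjd : ∀ x : X, phi X N (x * (b' * b) * x⁻¹) = phi X N (b' * b) := by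
    intro x
    have hd : phi X N (b' * b) = 1 + δ := by rw [hδ]; abel
    rw [map_mul, map_mul, hd]
    have : phi X N x * (1 + δ) * phi X N x⁻¹ =
        phi X N x * phi X N x⁻¹ + (phi X N x * δ) * phi X N x⁻¹ := by noncomm_ring
    rw [this, phi_mul_inv, (hFix x).1, (hFix x⁻¹).2]
  have hd2 : b' * b ∈ Subgroup.upperCentralSeries X 2 := by
    rw [Subgroup.mem_upperCentralSeries_succ_iff]
    intro y
    rw [Subgroup.upperCentralSeries_one, commutatorElement_def]
    apply hK
    rw [MonoidHom.mem_ker]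
    have e : (b' * b) * y * (b' * b)⁻¹ * y⁻¹ = (b' * b) * (y * (b' * b) * y⁻¹)⁻¹ := by group
    rw [e, map_mul, ← hconjd y, phi_mul_inv]
  rw [(Cfsg.Agent.S5018.result hrank).1] at hd2
  have hd1 : b' * b = 1 :=
    eq_one_of_mem_normalizer (RankOnePair_symm hp) (mul_mem hb'B hb)
      (Subgroup.center_le_normalizer _ hd2)
  -- conclude
  have hfin : b' = b⁻¹ := eq_inv_of_mul_eq_one_left hd1
  rw [hb'def] at hfin
  calc b⁻¹ * a * b = a⁻¹ * (a * (b⁻¹ * a * b) * a⁻¹) * a := by group
    _ = a⁻¹ * b⁻¹ * a := by rw [hfin]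

end Cfsg.Agent.S5019
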