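import Cfsg.Statements.S5034
import Cfsg.Agent.Lib.Helper4.RootLine2

set_option autoImplicit false
open Cfsg

namespace Cfsg.Agent.S5034

open Cfsg.Agent.Lib.Helper4.RankOneGrp Cfsg.Agent.Lib.Helper4.RootSub
  Cfsg.Agent.Lib.Helper4.RootSub2 Cfsg.Agent.Lib.Helper4.RootSub3
  Cfsg.Agent.Lib.Helper4.RootLine Cfsg.Agent.Lib.Helper4.RootLine2
open scoped commutatorElement

/-- Let S be a non-degenerate class of abstract root subgroups of G, A ∈ S and B a rank one partner of A. Then some line partner of A is in the commutator case with B, and (A, B) is a special rank one pair. -/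
theorem result {G : Type*} [Group G] {S : Set (Subgroup G)} (hS : Cfsg.IsRootSubgroupClass S) (hnd : Cfsg.IsNondegenerateRootSet S)
    {A B : Subgroup G} (hA : A ∈ S) (hB : B ∈ Cfsg.rankOnePartners S A) :
    (∃ C ∈ Cfsg.linePartners S A, C ∈ Cfsg.commutatorPartners S B) ∧ Cfsg.IsSpecialRankOnePair A B := by
  obtain ⟨-, hr, hc⟩ := hnd
  have hall := hall_of_class hS hr
  obtain ⟨C', hC'⟩ := exists_linePartner hS hr hc hA
  obtain ⟨hBS, hAB⟩ := hB
  obtain ⟨Q, hQ, hQA, hcase, hFAQ, hsup⟩ := line_point hS.1 hall hA hC' hBS hAB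
  have hC'' := hC'
  obtain ⟨⟨hC'S, hC'A, hcomm⟩, hpart⟩ := hC''
  rw [commutator_eq_bot_iff'] at hcomm
  have hNab : ∀ x ∈ A ⊔ C', ∀ y ∈ A ⊔ C', x * y = y * x :=
    Cfsg.Agent.S5030.sup_abelian (fun x hx y hy => comm_of_mem hS.1 hA hx hy)
      (fun x hx y hy => comm_of_mem hS.1 hC'S hx hy) hcomm
  have hAQ : ∀ x ∈ A, ∀ y ∈ Q, x * y = y * x :=
    fun x hx y hy => hNab x (Subgroup.mem_sup_left hx) y (hQ.2 hy)
  refine ⟨⟨Q, ⟨⟨hQ.1, hQA, ?_⟩, ?_⟩, ⟨hQ.1, ?_⟩⟩, ?_⟩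
  · rw [commutator_eq_bot_iff']; exact hAQ
  · rw [hsup]; exact hpart
  · rw [Subgroup.commutator_comm]; exact hcase.1
  · exact special_of_line hS.1 hA hBS hAB hQ.1 hAQ hcase hFAQ

end Cfsg.Agent.S5034
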