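import Mathlib
import Cfsg.Statements.S0444
import Cfsg.Agent.S0206

set_option autoImplicit false
open Cfsg

namespace Cfsg.Agent.S0444

/-- closure of two involutions is dihedral (no finiteness needed when the order is nonzero) -/
theorem closure_pair_iso {G : Type*} [Group G] (x y : G) (hx : orderOf x = 2) (hy : orderOf y = 2)
    (n : ℕ) (hn : n ≠ 0) (hxy : orderOf (x * y) = n) :
    Nonempty (↥(Subgroup.closure ({x, y} : Set G)) ≃* DihedralGroup n) := by
  subst hxy
  have : NeZero (orderOf (x * y)) := ⟨hn⟩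
  have e1 : DihedralGroup (orderOf (x * y)) ≃* (Cfsg.Agent.S0206.hom hx hy).range :=
    MonoidHom.ofInjective (Cfsg.Agent.S0206.hom_injective hx hy)
  have e2 : (Cfsg.Agent.S0206.hom hx hy).range ≃* Subgroup.closure ({x, y} : Set G) :=
    MulEquiv.subgroupCongr (Cfsg.Agent.S0206.hom_range hx hy)
  exact ⟨(e1.trans e2).symm⟩

theorem dihedral_three : Nonempty (DihedralGroup 3 ≃* Equiv.Perm (Fin 3)) := by
  have hx : orderOf (Equiv.swap (0 : Fin 3) 1) = 2 := by
    rw [orderOf_eq_iff (by norm_num)]
    decide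
  have hy : orderOf (Equiv.swap (1 : Fin 3) 2) = 2 := by
    rw [orderOf_eq_iff (by norm_num)]
    decide
  have hxy : orderOf (Equiv.swap (0 : Fin 3) 1 * Equiv.swap (1 : Fin 3) 2) = 3 := by
    rw [orderOf_eq_iff (by norm_num)]
    decide
  obtain ⟨e⟩ := closure_pair_iso _ _ hx hy 3 (by norm_num) hxy
  have hcard : Nat.card (Subgroup.closure ({Equiv.swap (0 : Fin 3) 1, Equiv.swap (1 : Fin 3) 2} : Set (Equiv.Perm (Fin 3)))) = 6 := by
    rw [Nat.card_congr e.toEquiv, DihedralGroup.nat_card]
  have htop : Subgroup.closure ({Equiv.swap (0 : Fin 3) 1, Equiv.swap (1 : Fin 3) 2} : Set (Equiv.Perm (Fin 3))) = ⊤ := by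
    apply Subgroup.eq_top_of_card_eq
    rw [hcard, Nat.card_eq_fintype_card, Fintype.card_perm, Fintype.card_fin]
    rfl
  exact ⟨e.symm.trans ((MulEquiv.subgroupCongr htop).trans Subgroup.topEquiv)⟩

/-- Two members of a set of 3-transpositions which do not commute generate a subgroup isomorphic to the symmetric group on three letters. -/
theorem result {G : Type*} [Group G] {E : Set G} (hE : Cfsg.IsThreeTranspositionSet E) {d e : G} (hd : d ∈ E) (he : e ∈ E) (h : ¬ Commute d e) : Nonempty (Subgroup.closure ({d, e} : Set G) ≃* Equiv.Perm (Fin 3)) := by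
  have hdo := hE.1 d hd
  have heo := hE.1 e he
  have hdd : d * d = 1 := by
    have := pow_orderOf_eq_one d
    rwa [hdo, pow_two] at this
  have hee : e * e = 1 := by
    have := pow_orderOf_eq_one e
    rwa [heo, pow_two] at this
  have hdi : d⁻¹ = d := inv_eq_of_mul_eq_one_right hdd
  have hei : e⁻¹ = e := inv_eq_of_mul_eq_one_right hee
  have h3 : (d * e) ^ 3 = 1 := by
    rcases hE.2 d hd e he with h2 | h3
    · exfalso
      apply h
      show d * e = e * d
      have h1 : d * e * (d * e) = 1 := by rw [← pow_two]; exact h2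
      have h2' := eq_inv_of_mul_eq_one_left h1
      rw [mul_inv_rev, hdi, hei] at h2'
      exact h2'
    · exact h3
  have hne : d * e ≠ 1 := by
    intro h1
    apply h
    have : d = e⁻¹ := eq_inv_of_mul_eq_one_left h1
    rw [hei] at this
    rw [this]
  have hord : orderOf (d * e) = 3 := by
    have hdvd : orderOf (d * e) ∣ 3 := orderOf_dvd_of_pow_eq_one h3
    rcases (Nat.dvd_prime Nat.prime_three).mp hdvd with h1 | h1
    · exact absurd (orderOf_eq_one_iff.mp h1) hne
    · exact h1
  obtain ⟨e1⟩ := closure_pair_iso d e hdo heo 3 (by norm_num) hord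
  obtain ⟨e2⟩ := dihedral_three
  exact ⟨e1.trans e2⟩

end Cfsg.Agent.S0444
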