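import Cfsg.Statements.S2758
import Mathlib
import Cfsg.Agent.Lib.Helper2.Involves
import Cfsg.Agent.S0206

set_option autoImplicit false
open Cfsg

namespace Cfsg.Agent.S2758


open Cfsg.Agent.Lib.Helper2.Inv

section

variable {G : Type*} [Group G] {p : ℕ} [Fact p.Prime]

/-- (A) implies (B). -/
theorem exists_inverted_of_not_centralizing {x : G} {P : Subgroup G} {k : ℕ}
    (hx : orderOf x = 2 ^ k) (hP : IsPGroup p ↥P)
    (hxN : x ∈ Subgroup.normalizer (P : Set G)) (hxC : x ∉ Subgroup.centralizer (P : Set G)) :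
    ∃ x y : G, (∃ k : ℕ, orderOf x = 2 ^ k) ∧ (∃ k : ℕ, orderOf y = p ^ k) ∧ y ≠ 1 ∧
      x * y * x⁻¹ = y⁻¹ := by
  classical
  have hex : ∃ j, x ^ (2 ^ j) ∈ Subgroup.centralizer (P : Set G) :=
    ⟨k, by rw [← hx, pow_orderOf_eq_one]; exact one_mem _⟩
  have hj₀spec := Nat.find_spec hex
  have hj₀ne : Nat.find hex ≠ 0 := by
    intro h0
    rw [h0, pow_zero, pow_one] at hj₀spec
    exact hxC hj₀spec
  obtain ⟨j, hj⟩ := Nat.exists_eq_succ_of_ne_zero hj₀ne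
  have hjlt : ¬ x ^ (2 ^ j) ∈ Subgroup.centralizer (P : Set G) :=
    Nat.find_min hex (by omega)
  have hx'2 : (x ^ (2 ^ j)) ^ 2 ∈ Subgroup.centralizer (P : Set G) := by
    rw [← pow_mul, ← pow_succ, ← Nat.succ_eq_add_one, ← hj]
    exact hj₀spec
  have hx'N : x ^ (2 ^ j) ∈ Subgroup.normalizer (P : Set G) := Subgroup.pow_mem _ hxN _
  have hx'o : ∃ i, orderOf (x ^ (2 ^ j)) = 2 ^ i := by
    have h1 : orderOf (x ^ (2 ^ j)) ∣ 2 ^ k := by
      apply orderOf_dvd_of_pow_eq_one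
      rw [← pow_mul, mul_comm, pow_mul, ← hx, pow_orderOf_eq_one, one_pow]
    obtain ⟨i, -, hi⟩ := (Nat.dvd_prime_pow Nat.prime_two).1 h1
    exact ⟨i, hi⟩
  generalize x ^ (2 ^ j) = x' at hjlt hx'2 hx'N hx'o
  rw [Subgroup.mem_centralizer_iff] at hjlt
  push Not at hjlt
  obtain ⟨g, hgP, hg⟩ := hjlt
  have hgP' : g ∈ P := hgP
  have hconj : x' * g * x'⁻¹ ∈ P := (Subgroup.mem_normalizer_iff.1 hx'N g).1 hgP'
  have hyP : g⁻¹ * (x' * g * x'⁻¹) ∈ P := P.mul_mem (P.inv_mem hgP') hconj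
  refine ⟨x', g⁻¹ * (x' * g * x'⁻¹), hx'o, ?_, ?_, ?_⟩
  · obtain ⟨i, hi⟩ := hP ⟨_, hyP⟩
    have h1 : (g⁻¹ * (x' * g * x'⁻¹)) ^ (p ^ i) = 1 := by
      have := congrArg Subtype.val hi
      simpa using this
    obtain ⟨i', -, hi'⟩ := (Nat.dvd_prime_pow (Fact.out : p.Prime)).1 (orderOf_dvd_of_pow_eq_one h1)
    exact ⟨i', hi'⟩
  · intro h1
    apply hg
    have h2 : x' * g * x'⁻¹ = g := by
      have := congrArg (fun z => g * z) h1
      simpa using this
    have h3 := congrArg (fun z => z * x') h2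
    simp only [inv_mul_cancel_right] at h3
    exact h3.symm
  · have hc : g * x' ^ 2 = x' ^ 2 * g := (Subgroup.mem_centralizer_iff.1 hx'2) g hgP
    have h4 : x' * (x' * g * x'⁻¹) * x'⁻¹ = g := by
      have : x' * (x' * g * x'⁻¹) * x'⁻¹ = (x' ^ 2 * g) * (x' ^ 2)⁻¹ := by
        rw [pow_two]; group
      rw [this, ← hc]; group
    calc x' * (g⁻¹ * (x' * g * x'⁻¹)) * x'⁻¹
        = (x' * g * x'⁻¹)⁻¹ * (x' * (x' * g * x'⁻¹) * x'⁻¹) := by group
      _ = (x' * g * x'⁻¹)⁻¹ * g := by rw [h4]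
      _ = (g⁻¹ * (x' * g * x'⁻¹))⁻¹ := by group

/-- (B), with `y` of order `p`, gives a dihedral section. -/
theorem involves_of_inverted_prime [Finite G] (hp : p ≠ 2) {x y : G} {k : ℕ}
    (hx : orderOf x = 2 ^ k) (hy : orderOf y = p) (hxy : x * y * x⁻¹ = y⁻¹) :
    Cfsg.Involves (DihedralGroup p) G := by
  classical
  have hpp : p.Prime := Fact.out
  have hodd : Odd p := hpp.odd_of_ne_two hp
  have hy1 : y ≠ 1 := by
    intro h; rw [h, orderOf_one] at hy; exact hpp.one_lt.ne hy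
  have hyp : y ^ p = 1 := by rw [← hy]; exact pow_orderOf_eq_one y
  -- `x² ` commutes with `y`
  have hcomm : Commute (x ^ 2) y := by
    have h1 : x ^ 2 * y * (x ^ 2)⁻¹ = y := by
      calc x ^ 2 * y * (x ^ 2)⁻¹ = x * (x * y * x⁻¹) * x⁻¹ := by rw [pow_two]; group
        _ = x * y⁻¹ * x⁻¹ := by rw [hxy]
        _ = (x * y * x⁻¹)⁻¹ := by group
        _ = y := by rw [hxy, inv_inv]
    have h2 := congrArg (fun z => z * x ^ 2) h1
    have h3 : x ^ 2 * y = y * x ^ 2 := by simpa using h2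
    exact h3
  set Z : Subgroup G := Subgroup.zpowers (x ^ 2) with hZ
  have hxc : x ∈ Subgroup.centralizer (Z : Set G) := by
    rw [Subgroup.mem_centralizer_iff]
    intro z hz
    obtain ⟨n, rfl⟩ := Subgroup.mem_zpowers_iff.1 hz
    exact (((Commute.refl x).pow_right 2).zpow_right n).eq.symm
  have hyc : y ∈ Subgroup.centralizer (Z : Set G) := by
    rw [Subgroup.mem_centralizer_iff]
    intro z hz
    obtain ⟨n, rfl⟩ := Subgroup.mem_zpowers_iff.1 hz
    exact (hcomm.zpow_left n).eq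
  have hxL : x ∈ Subgroup.normalizer (Z : Set G) := Subgroup.centralizer_le_normalizer _ hxc
  have hyL : y ∈ Subgroup.normalizer (Z : Set G) := Subgroup.centralizer_le_normalizer _ hyc
  -- no nontrivial odd-order elements in `Z`, and `x ∉ Z`
  have hZ2 : ∀ z ∈ Z, z ^ (2 ^ k) = 1 := by
    intro z hz
    obtain ⟨n, rfl⟩ := Subgroup.mem_zpowers_iff.1 hz
    rw [← zpow_natCast, ← zpow_mul, mul_comm, zpow_mul, zpow_natCast, ← pow_mul, mul_comm, pow_mul,
      ← hx, pow_orderOf_eq_one, one_pow, one_zpow]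
  have hyZ : y ∉ Z := by
    intro h
    have h1 := hZ2 y h
    have h2 : orderOf y ∣ 2 ^ k := orderOf_dvd_of_pow_eq_one h1
    rw [hy] at h2
    have := (Nat.prime_dvd_prime_iff_eq hpp Nat.prime_two).1 (hpp.dvd_of_dvd_pow h2)
    exact hp this
  have hx1 : x ≠ 1 := by
    intro h
    simp only [h, one_mul, inv_one, mul_one] at hxy
    have hxy2 : y ^ 2 = 1 := by
      rw [pow_two]; nth_rewrite 1 [hxy]; exact inv_mul_cancel y
    have h2 : orderOf y ∣ 2 := orderOf_dvd_of_pow_eq_one hxy2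
    rw [hy] at h2
    exact hp ((Nat.prime_dvd_prime_iff_eq hpp Nat.prime_two).1 h2)
  have hxZ : x ∉ Z := by
    intro h
    obtain ⟨n, hn⟩ := Subgroup.mem_zpowers_iff.1 h
    -- `x ^ (2n - 1) = 1`
    have hn' : x ^ ((2 : ℤ) * n) = x := by
      rw [zpow_mul]; exact_mod_cast hn
    have h1 : x ^ (2 * n - 1) = 1 := by
      rw [zpow_sub, zpow_one, hn', mul_inv_cancel]
    have h2 : (orderOf x : ℤ) ∣ 2 * n - 1 := orderOf_dvd_iff_zpow_eq_one.2 h1
    rw [hx] at h2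
    rcases Nat.eq_zero_or_pos k with hk | hk
    · rw [hk, pow_zero, orderOf_eq_one_iff] at hx; exact hx1 hx
    · have h3 : (2 : ℤ) ∣ 2 * n - 1 := by
        refine dvd_trans ?_ h2
        push_cast
        exact dvd_pow_self 2 hk.ne'
      omega
  -- the quotient
  set L : Subgroup G := Subgroup.normalizer (Z : Set G) with hL
  set π : L →* L ⧸ Z.subgroupOf L := QuotientGroup.mk' _ with hπ
  have hker : ∀ g : L, π g = 1 ↔ (g : G) ∈ Z := by
    intro g
    rw [hπ, QuotientGroup.mk'_apply, QuotientGroup.eq_one_iff, Subgroup.mem_subgroupOf]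
  set b : L ⧸ Z.subgroupOf L := π ⟨x, hxL⟩ with hb
  set a : L ⧸ Z.subgroupOf L := π ⟨y, hyL⟩ with ha
  have hb1 : b ≠ 1 := fun h => hxZ ((hker _).1 h)
  have ha1 : a ≠ 1 := fun h => hyZ ((hker _).1 h)
  have hb2 : b ^ 2 = 1 := by
    rw [hb, ← map_pow, hker]
    exact Subgroup.mem_zpowers _
  have hap : a ^ p = 1 := by
    rw [ha, ← map_pow, hker]
    show y ^ p ∈ Z
    rw [hyp]; exact one_mem _
  have hbab : b * a * b⁻¹ = a⁻¹ := by
    rw [hb, ha, ← map_inv, ← map_inv, ← map_mul, ← map_mul]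
    congr 1
    apply Subtype.ext
    exact hxy
  have hbo : orderOf b = 2 := orderOf_eq_prime hb2 hb1
  have hao : orderOf a = p := orderOf_eq_prime hap ha1
  have hba2 : (b * a) ^ 2 = 1 := by
    have h1 : b * a = a⁻¹ * b := by
      rw [← hbab]; group
    rw [pow_two]
    calc b * a * (b * a) = a⁻¹ * b * (b * a) := by rw [← h1]
      _ = a⁻¹ * b ^ 2 * a := by rw [pow_two]; group
      _ = 1 := by rw [hb2]; group
  have hba1 : b * a ≠ 1 := by
    intro h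
    have h1 : a = b⁻¹ := (inv_eq_of_mul_eq_one_right h).symm
    have h2 : a ^ 2 = 1 := by rw [h1, inv_pow, hb2, inv_one]
    have h3 : orderOf a ∣ 2 := orderOf_dvd_of_pow_eq_one h2
    rw [hao] at h3
    exact hp ((Nat.prime_dvd_prime_iff_eq hpp Nat.prime_two).1 h3)
  have hco : orderOf (b * a) = 2 := orderOf_eq_prime hba2 hba1
  have hbc : b ≠ b * a := by
    intro h
    apply ha1
    have := congrArg (fun z => b⁻¹ * z) h
    simpa using this.symm
  have hprod : b * (b * a) = a := by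
    rw [← mul_assoc, ← pow_two, hb2, one_mul]
  obtain ⟨e⟩ := Cfsg.Agent.S0206.result b (b * a) hbo hco hbc
  rw [hprod, hao] at e
  have h1 : Cfsg.Involves (DihedralGroup p) (L ⧸ Z.subgroupOf L) :=
    involves_congr e (involves_subgroup _)
  exact involves_of_surjective_hom L π (QuotientGroup.mk'_surjective _) h1

/-- (B) gives a dihedral section. -/
theorem involves_of_inverted [Finite G] (hp : p ≠ 2) {x y : G} {k l : ℕ}
    (hx : orderOf x = 2 ^ k) (hy : orderOf y = p ^ l) (hy1 : y ≠ 1) (hxy : x * y * x⁻¹ = y⁻¹) :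
    Cfsg.Involves (DihedralGroup p) G := by
  have hpp : p.Prime := Fact.out
  have hl : l ≠ 0 := by
    rintro rfl
    rw [pow_zero, orderOf_eq_one_iff] at hy
    exact hy1 hy
  obtain ⟨l', rfl⟩ := Nat.exists_eq_succ_of_ne_zero hl
  have h1 : (y ^ (p ^ l')) ^ p = 1 := by
    rw [← pow_mul, ← pow_succ, ← hy, pow_orderOf_eq_one]
  have h2 : y ^ (p ^ l') ≠ 1 := by
    intro h
    have h3 : orderOf y ∣ p ^ l' := orderOf_dvd_of_pow_eq_one h
    rw [hy] at h3
    have h5 : p ^ (l' + 1) ≤ p ^ l' := Nat.le_of_dvd (pow_pos hpp.pos _) h3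
    have h4 : p ^ l' < p ^ (l' + 1) := Nat.pow_lt_pow_right hpp.one_lt (Nat.lt_succ_self _)
    omega
  have h3 : x * y ^ (p ^ l') * x⁻¹ = (y ^ (p ^ l'))⁻¹ := by
    rw [← conj_pow, hxy, inv_pow]
  exact involves_of_inverted_prime hp hx (orderOf_eq_prime h1 h2) h3

open DihedralGroup in
/-- A surjection onto the dihedral group gives (A). -/
theorem exists_not_centralizing_of_surjective {K : Type*} [Group K] [Finite K] (hp : p ≠ 2)
    (φ : K →* DihedralGroup p) (hφ : Function.Surjective φ) :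
    ∃ (x : K) (P : Subgroup K), (∃ k : ℕ, orderOf x = 2 ^ k) ∧ IsPGroup p ↥P ∧
      x ∈ Subgroup.normalizer (P : Set K) ∧ x ∉ Subgroup.centralizer (P : Set K) := by
  classical
  have hpp : p.Prime := Fact.out
  haveI : NeZero p := ⟨hpp.ne_zero⟩
  -- the preimage of the rotations
  let N : Subgroup K :=
    { carrier := {k | ∃ i, φ k = r i}
      one_mem' := ⟨0, by rw [map_one, one_def]⟩
      mul_mem' := by
        rintro a b ⟨i, hi⟩ ⟨j, hj⟩
        exact ⟨i + j, by rw [map_mul, hi, hj, r_mul_r]⟩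
      inv_mem' := by
        rintro a ⟨i, hi⟩
        exact ⟨-i, by rw [map_inv, hi, inv_r]⟩ }
  have hN : ∀ k, k ∈ N ↔ ∃ i, φ k = r i := fun k => Iff.rfl
  haveI hNn : N.Normal := by
    constructor
    rintro n ⟨i, hi⟩ g
    rw [hN, map_mul, map_mul, map_inv, hi]
    rcases φ g with j | j
    · exact ⟨i, by rw [r_mul_r, inv_r, r_mul_r]; congr 1; ring⟩
    · exact ⟨-i, by rw [sr_mul_r, inv_sr, sr_mul_sr]; congr 1; ring⟩
  -- a `p`-element mapping to a nontrivial rotation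
  obtain ⟨y₀, hy₀⟩ := hφ (r 1)
  obtain ⟨b, m, hm, hbm⟩ := Nat.exists_eq_pow_mul_and_not_dvd (orderOf_pos y₀).ne' p hpp.ne_one
  have hy₁φ : φ (y₀ ^ m) = r (m : ZMod p) := by rw [map_pow, hy₀, r_one_pow]
  have hm0 : (m : ZMod p) ≠ 0 := by
    rw [Ne, ZMod.natCast_eq_zero_iff]; exact hm
  have hy₁p : (y₀ ^ m) ^ (p ^ b) = 1 := by
    rw [← pow_mul, mul_comm, ← hbm, pow_orderOf_eq_one]
  have hy₁N : y₀ ^ m ∈ N := ⟨_, hy₁φ⟩
  have hZp : IsPGroup p ↥(Subgroup.zpowers (⟨y₀ ^ m, hy₁N⟩ : N)) := by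
    rintro ⟨g, hg⟩
    obtain ⟨n, rfl⟩ := Subgroup.mem_zpowers_iff.1 hg
    refine ⟨b, ?_⟩
    apply Subtype.ext
    apply Subtype.ext
    simp only [Subgroup.coe_pow, Subgroup.coe_zpow, Subgroup.coe_one]
    rw [← zpow_natCast, ← zpow_mul, mul_comm, zpow_mul, zpow_natCast, hy₁p, one_zpow]
  obtain ⟨P, hP⟩ := hZp.exists_le_sylow
  have hy₁P : y₀ ^ m ∈ (P : Subgroup N).map N.subtype :=
    ⟨⟨y₀ ^ m, hy₁N⟩, hP (Subgroup.mem_zpowers _), rfl⟩
  -- Frattini
  have hfr := Sylow.normalizer_sup_eq_top P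
  obtain ⟨s₀, hs₀⟩ := hφ (sr 0)
  have hs₀mem : s₀ ∈ Subgroup.normalizer (((P : Subgroup N).map N.subtype : Subgroup K) : Set K) ⊔ N := by
    rw [hfr]; exact Subgroup.mem_top _
  rw [← SetLike.mem_coe, Subgroup.mul_normal, Set.mem_mul] at hs₀mem
  obtain ⟨x₀, hx₀, n₂, hn₂, hprod⟩ := hs₀mem
  obtain ⟨i, hi⟩ := (hN n₂).1 hn₂
  have hx₀φ : φ x₀ = sr (-i) := by
    have : x₀ = s₀ * n₂⁻¹ := by rw [← hprod]; group
    rw [this, map_mul, map_inv, hs₀, hi, inv_r, sr_mul_r, zero_add]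
  -- the 2-part of `x₀`
  obtain ⟨a, m', hm', ham'⟩ := Nat.exists_eq_pow_mul_and_not_dvd (orderOf_pos x₀).ne' 2 (by norm_num)
  have hm'odd : Odd m' := Nat.odd_iff.2 (Nat.two_dvd_ne_zero.1 hm')
  obtain ⟨t, ht⟩ := hm'odd
  have hxφ : φ (x₀ ^ m') = sr (-i) := by
    rw [map_pow, hx₀φ, ht, pow_succ, pow_mul, pow_two, sr_mul_self, one_pow, one_mul]
  have hx2 : (x₀ ^ m') ^ (2 ^ a) = 1 := by
    rw [← pow_mul, mul_comm, ← ham', pow_orderOf_eq_one]
  refine ⟨x₀ ^ m', (P : Subgroup N).map N.subtype, ?_, ?_, ?_, ?_⟩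
  · obtain ⟨i', -, hi'⟩ := (Nat.dvd_prime_pow Nat.prime_two).1 (orderOf_dvd_of_pow_eq_one hx2)
    exact ⟨i', hi'⟩
  · exact P.isPGroup'.map _
  · exact Subgroup.pow_mem _ hx₀ _
  · intro hc
    have h1 : y₀ ^ m * x₀ ^ m' = x₀ ^ m' * y₀ ^ m := (Subgroup.mem_centralizer_iff.1 hc) _ hy₁P
    have h2 := congrArg φ h1
    rw [map_mul, map_mul, hxφ, hy₁φ, r_mul_sr, sr_mul_r] at h2
    have h3 : -i - (m : ZMod p) = -i + (m : ZMod p) := by
      injection h2
    have h4 : (2 : ZMod p) * (m : ZMod p) = 0 := by linear_combination -h3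
    rcases mul_eq_zero.1 h4 with h5 | h5
    · have : ((2 : ℕ) : ZMod p) = 0 := by exact_mod_cast h5
      rw [ZMod.natCast_eq_zero_iff] at this
      exact hp ((Nat.prime_dvd_prime_iff_eq hpp Nat.prime_two).1 this)
    · exact hm0 h5

/-- A dihedral section gives (A). -/
theorem exists_not_centralizing_of_involves [Finite G] (hp : p ≠ 2)
    (h : Cfsg.Involves (DihedralGroup p) G) :
    ∃ (x : G) (P : Subgroup G), (∃ k : ℕ, orderOf x = 2 ^ k) ∧ IsPGroup p ↥P ∧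
      x ∈ Subgroup.normalizer (P : Set G) ∧ x ∉ Subgroup.centralizer (P : Set G) := by
  obtain ⟨K, φ, hφ⟩ := exists_surjective_of_involves h
  obtain ⟨x, P, ⟨k, hk⟩, hP, hxN, hxC⟩ := exists_not_centralizing_of_surjective hp φ hφ
  refine ⟨(x : G), P.map K.subtype, ⟨k, ?_⟩, hP.map _, ?_, ?_⟩
  · rw [Subgroup.orderOf_coe, hk]
  · exact Subgroup.le_normalizer_map K.subtype ⟨x, hxN, rfl⟩
  · intro hc
    apply hxC
    rw [Subgroup.mem_centralizer_iff]
    intro g hg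
    have h1 := (Subgroup.mem_centralizer_iff.1 hc) (g : G) ⟨g, hg, rfl⟩
    exact Subtype.ext h1

end

/-- For an odd prime p and a finite group G the following are equivalent: the dihedral group of order 2p is involved in G; some element of 2-power order normalizes but does not centralize some p-subgroup of G; some element of 2-power order inverts some nonidentity element of p-power order. -/
theorem result {G : Type*} [Group G] [Finite G] {p : ℕ} [Fact p.Prime] (hp : p ≠ 2) : (Cfsg.Involves (DihedralGroup p) G ↔ ∃ (x : G) (P : Subgroup G), (∃ k : ℕ, orderOf x = 2 ^ k) ∧ IsPGroup p ↥P ∧ x ∈ Subgroup.normalizer (P : Set G) ∧ x ∉ Subgroup.centralizer (P : Set G)) ∧ (Cfsg.Involves (DihedralGroup p) G ↔ ∃ x y : G, (∃ k : ℕ, orderOf x = 2 ^ k) ∧ (∃ k : ℕ, orderOf y = p ^ k) ∧ y ≠ 1 ∧ x * y * x⁻¹ = y⁻¹) := by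
  have hAB : (∃ (x : G) (P : Subgroup G), (∃ k : ℕ, orderOf x = 2 ^ k) ∧ IsPGroup p ↥P ∧
      x ∈ Subgroup.normalizer (P : Set G) ∧ x ∉ Subgroup.centralizer (P : Set G)) →
      ∃ x y : G, (∃ k : ℕ, orderOf x = 2 ^ k) ∧ (∃ k : ℕ, orderOf y = p ^ k) ∧ y ≠ 1 ∧
        x * y * x⁻¹ = y⁻¹ := by
    rintro ⟨x, P, ⟨k, hk⟩, hP, hxN, hxC⟩
    exact exists_inverted_of_not_centralizing hk hP hxN hxC
  have hBI : (∃ x y : G, (∃ k : ℕ, orderOf x = 2 ^ k) ∧ (∃ k : ℕ, orderOf y = p ^ k) ∧ y ≠ 1 ∧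
        x * y * x⁻¹ = y⁻¹) → Cfsg.Involves (DihedralGroup p) G := by
    rintro ⟨x, y, ⟨k, hk⟩, ⟨l, hl⟩, hy1, hxy⟩
    exact involves_of_inverted hp hk hl hy1 hxy
  have hIA := exists_not_centralizing_of_involves (G := G) hp
  exact ⟨⟨hIA, fun h => hBI (hAB h)⟩, ⟨fun h => hAB (hIA h), hBI⟩⟩

end Cfsg.Agent.S2758
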