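import Mathlib
import Cfsg.Statements.S0682
import Cfsg.Agent.Lib.Lead.NearField

set_option autoImplicit false
open Cfsg

namespace Cfsg.Agent.S0682

open Cfsg.Agent.Lib.Lead.NearFieldLib

theorem nsmul_mul {F : Type*} [NearField F] (n : ℕ) (x c : F) : (n • x) * c = n • (x * c) := by
  induction n with
  | zero => simp [nf_zero_mul]
  | succ n ih => rw [succ_nsmul, succ_nsmul, NearField.right_distrib, ih]

/-- A finite near-field has prime-power order; its additive group is commutative of prime exponent. -/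
theorem result {F : Type*} [Cfsg.NearField F] [Finite F] : ∃ p j : ℕ, p.Prime ∧ 1 ≤ j ∧ Nat.card F = p ^ j ∧ (∀ x y : F, x + y = y + x) ∧ ∀ x : F, p • x = 0 := by
  haveI : Nontrivial F := ⟨0, 1, NearField.zero_ne_one⟩
  have hcard : 1 < Nat.card F := Finite.one_lt_card
  obtain ⟨p, hp, hpdvd⟩ := Nat.exists_prime_and_dvd (by omega : Nat.card F ≠ 1)
  haveI : Fact p.Prime := ⟨hp⟩
  obtain ⟨x₀, hx₀⟩ := exists_prime_addOrderOf_dvd_card' (G := F) p hpdvd
  have hx₀ne : x₀ ≠ 0 := by
    intro h
    rw [h, addOrderOf_zero] at hx₀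
    exact hp.one_lt.ne hx₀
  have hpx₀ : p • x₀ = 0 := by rw [← hx₀]; exact addOrderOf_nsmul_eq_zero x₀
  have hexp : ∀ y : F, p • y = 0 := by
    intro y
    have : y = x₀ * (nfInv x₀ hx₀ne * y) := by rw [← mul_assoc, mul_nfInv, one_mul]
    rw [this, ← nsmul_mul, hpx₀, nf_zero_mul]
  -- the additive group is a p-group
  have hpg : IsPGroup p (Multiplicative F) := by
    intro g
    refine ⟨1, ?_⟩
    rw [pow_one]
    exact congrArg Multiplicative.ofAdd (hexp (Multiplicative.toAdd g))
  obtain ⟨j, hj⟩ := IsPGroup.iff_card.mp hpg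
  rw [Nat.card_congr Multiplicative.toAdd] at hj
  have hj1 : 1 ≤ j := by
    by_contra h
    have : j = 0 := by omega
    rw [this, pow_zero] at hj
    omega
  -- the centre
  haveI : Nontrivial (Multiplicative F) := ⟨Multiplicative.ofAdd 0, Multiplicative.ofAdd 1,
    fun h => NearField.zero_ne_one (Multiplicative.ofAdd.injective h)⟩
  have hcen : Nontrivial (Subgroup.center (Multiplicative F)) := hpg.center_nontrivial
  obtain ⟨z, hz⟩ := exists_ne (1 : Subgroup.center (Multiplicative F))
  set z₀ : F := Multiplicative.toAdd (z : Multiplicative F) with hz₀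
  have hz₀ne : z₀ ≠ 0 := by
    intro h
    apply hz
    apply Subtype.ext
    exact Multiplicative.toAdd.injective h
  have hz₀c : ∀ y : F, y + z₀ = z₀ + y := by
    intro y
    have := (Subgroup.mem_center_iff.mp z.2) (Multiplicative.ofAdd y)
    exact congrArg Multiplicative.toAdd this
  have hcomm : ∀ x y : F, x + y = y + x := by
    intro x y
    by_cases hx : x = 0
    · rw [hx, zero_add, add_zero]
    set a := nfInv z₀ hz₀ne * x with ha
    have ha0 : a ≠ 0 := nf_mul_ne_zero (nfInv_ne_zero _ hz₀ne) hx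
    have hxa : x = z₀ * a := by rw [ha, ← mul_assoc, mul_nfInv, one_mul]
    have hya : (y * nfInv a ha0) * a = y := by rw [mul_assoc, nfInv_mul, mul_one]
    rw [hxa]
    calc z₀ * a + y = z₀ * a + (y * nfInv a ha0) * a := by rw [hya]
      _ = (z₀ + y * nfInv a ha0) * a := by rw [NearField.right_distrib]
      _ = (y * nfInv a ha0 + z₀) * a := by rw [hz₀c]
      _ = (y * nfInv a ha0) * a + z₀ * a := by rw [NearField.right_distrib]
      _ = y + z₀ * a := by rw [hya]
  exact ⟨p, j, hp, hj1, hj, hcomm, hexp⟩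

end Cfsg.Agent.S0682
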