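import Cfsg.Statements.S3375
import Mathlib

set_option autoImplicit false
set_option linter.style.haveILetI false
open Cfsg

namespace Cfsg.Agent.S3375

section
variable {H : Type*} [Group H] (γ : MulAut H)

/-- the fixed subgroup -/
def fixSub : Subgroup H where
  carrier := {h | γ h = h}
  one_mem' := by simp
  mul_mem' := by
    intro a b ha hb
    simp only [Set.mem_ofPred_eq] at *
    rw [map_mul, ha, hb]
  inv_mem' := by
    intro a ha
    simp only [Set.mem_ofPred_eq] at *
    rw [map_inv, ha]

theorem mem_fixSub (h : H) : h ∈ fixSub γ ↔ γ h = h := Iff.rfl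

/-- the map `h ↦ h * γ(h)⁻¹` -/
def tw (h : H) : H := h * (γ h)⁻¹

theorem tw_eq_iff (h k : H) : tw γ h = tw γ k ↔ k⁻¹ * h ∈ fixSub γ := by
  rw [mem_fixSub, map_mul, map_inv, tw, tw]
  constructor
  · intro e
    have : (γ k)⁻¹ * γ h = k⁻¹ * h := by
      calc (γ k)⁻¹ * γ h = k⁻¹ * (k * (γ k)⁻¹) * γ h := by group
        _ = k⁻¹ * (h * (γ h)⁻¹) * γ h := by rw [e]
        _ = k⁻¹ * h := by group
    exact this
  · intro e
    calc h * (γ h)⁻¹ = k * (k⁻¹ * h) * (γ h)⁻¹ := by group
      _ = k * ((γ k)⁻¹ * γ h) * (γ h)⁻¹ := by rw [e]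
      _ = k * (γ k)⁻¹ := by group

theorem tw_inverted (hγ2 : ∀ h : H, γ (γ h) = h) (h : H) : γ (tw γ h) = (tw γ h)⁻¹ := by
  rw [tw, map_mul, map_inv, hγ2]
  group

theorem card_range_tw [Finite H] : Nat.card (Set.range (tw γ)) = (fixSub γ).index := by
  rw [← Nat.card_congr (Setoid.quotientKerEquivRange (tw γ))]
  rw [Subgroup.index]
  apply Nat.card_congr
  apply Quotient.congr (Equiv.refl H)
  intro a b
  rw [Setoid.ker_def, QuotientGroup.leftRel_apply, Equiv.refl_apply, Equiv.refl_apply]
  rw [tw_eq_iff]
  constructor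
  · intro h
    have := (fixSub γ).inv_mem h
    simpa using this
  · intro h
    have := (fixSub γ).inv_mem h
    simpa using this

end

/-- Let γ be an automorphism of order 2 of a finite group H. (i) If γ fixes only the identity, then H is abelian and γ inverts every element. (ii) If γ has exactly two fixed points and H has a subgroup of index 2, then H has a γ-invariant abelian subgroup of index 2 on which γ acts by inversion. -/
theorem result {H : Type*} [Group H] [Finite H] (γ : MulAut H) (hγ : orderOf γ = 2) :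
    ((∀ h : H, γ h = h → h = 1) → (∀ a b : H, a * b = b * a) ∧ ∀ h : H, γ h = h⁻¹) ∧
    ((Nat.card {h : H // γ h = h} = 2 ∧ ∃ M : Subgroup H, M.index = 2) →
      ∃ A : Subgroup H, A.index = 2 ∧ IsMulCommutative A ∧ (∀ a ∈ A, γ a ∈ A) ∧ ∀ a ∈ A, γ a = a⁻¹) := by
  classical
  have hγ2 : ∀ h : H, γ (γ h) = h := by
    intro h
    have : γ ^ 2 = 1 := by rw [← hγ]; exact pow_orderOf_eq_one γ
    have := congrArg (fun φ : MulAut H => φ h) this
    simpa [pow_two] using this
  constructor
  · intro hfix
    have hinj : Function.Injective (tw γ) := by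
      intro h k e
      rw [tw_eq_iff, mem_fixSub] at e
      have := hfix _ e
      have : h = k * (k⁻¹ * h) := by group
      rw [this, ‹k⁻¹ * h = 1›, mul_one]
    have hsurj : Function.Surjective (tw γ) := Finite.surjective_of_injective hinj
    have hinv : ∀ h : H, γ h = h⁻¹ := by
      intro h
      obtain ⟨x, rfl⟩ := hsurj h
      exact tw_inverted γ hγ2 x
    refine ⟨?_, hinv⟩
    intro a b
    have h1 := hinv (a * b)
    rw [map_mul, hinv a, hinv b, mul_inv_rev] at h1
    have := congrArg (fun x => x⁻¹) h1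
    simpa using this.symm
  · rintro ⟨hcard, M, hM⟩
    -- |range tw| = |H| / 2
    have hF : Nat.card (fixSub γ) = 2 := hcard
    have hI : Nat.card (Set.range (tw γ)) * 2 = Nat.card H := by
      rw [card_range_tw, ← hF, mul_comm]
      exact Subgroup.card_mul_index _
    -- a subgroup A of index 2 containing the range
    have hex : ∃ A : Subgroup H, A.index = 2 ∧ Set.range (tw γ) ⊆ (A : Set H) := by
      by_cases hinvM : ∀ h : H, h ∈ M ↔ γ h ∈ M
      · refine ⟨M, hM, ?_⟩
        rintro _ ⟨h, rfl⟩
        show h * (γ h)⁻¹ ∈ M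
        rw [Subgroup.mul_mem_iff_of_index_two hM, inv_mem_iff]
        exact hinvM h
      · rw [not_forall] at hinvM
        obtain ⟨h₀, hh₀⟩ := hinvM
        let A : Subgroup H :=
          { carrier := {h | h ∈ M ↔ γ h ∈ M}
            one_mem' := by simp [M.one_mem]
            mul_mem' := by
              intro a b ha hb
              simp only [Set.mem_ofPred_eq] at *
              rw [map_mul, Subgroup.mul_mem_iff_of_index_two hM, Subgroup.mul_mem_iff_of_index_two hM, ha, hb]
            inv_mem' := by
              intro a ha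
              simp only [Set.mem_ofPred_eq] at *
              rw [map_inv, inv_mem_iff, inv_mem_iff]
              exact ha }
        have hAmem : ∀ h, h ∈ A ↔ (h ∈ M ↔ γ h ∈ M) := fun h => Iff.rfl
        refine ⟨A, ?_, ?_⟩
        · rw [Subgroup.index_eq_two_iff]
          refine ⟨h₀, fun b => ?_⟩
          rw [hAmem, hAmem, map_mul, Subgroup.mul_mem_iff_of_index_two hM,
            Subgroup.mul_mem_iff_of_index_two hM]
          by_cases h1 : b ∈ M <;> by_cases h2 : γ b ∈ M <;> by_cases h3 : h₀ ∈ M <;>
            by_cases h4 : γ h₀ ∈ M <;> simp [h1, h2, h3, h4, Xor] at hh₀ ⊢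
        · rintro _ ⟨h, rfl⟩
          show tw γ h ∈ A
          rw [hAmem, tw_inverted γ hγ2, inv_mem_iff]
    obtain ⟨A, hA2, hIA⟩ := hex
    have hAcard : Nat.card A * 2 = Nat.card H := by
      rw [← hA2]; exact Subgroup.card_mul_index _
    have heq : Set.range (tw γ) = (A : Set H) := by
      apply Set.eq_of_subset_of_ncard_le hIA _ (Set.toFinite _)
      rw [← Nat.card_coe_set_eq, ← Nat.card_coe_set_eq]
      have : Nat.card (A : Set H) = Nat.card A := rfl
      omega
    have hinvA : ∀ a ∈ A, γ a = a⁻¹ := by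
      intro a ha
      have : a ∈ Set.range (tw γ) := by rw [heq]; exact ha
      obtain ⟨x, rfl⟩ := this
      exact tw_inverted γ hγ2 x
    refine ⟨A, hA2, ?_, ?_, hinvA⟩
    · refine ⟨⟨fun a b => ?_⟩⟩
      apply Subtype.ext
      have h1 := hinvA _ (A.mul_mem a.2 b.2)
      rw [map_mul, hinvA a a.2, hinvA b b.2, mul_inv_rev] at h1
      have := congrArg (fun x => x⁻¹) h1
      simpa using this.symm
    · intro a ha
      rw [hinvA a ha]
      exact A.inv_mem ha

end Cfsg.Agent.S3375
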