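import Cfsg.Statements.S2910
import Cfsg.Agent.Lib.Helper4.Huppert

set_option autoImplicit false
open Cfsg

namespace Cfsg.Agent.S2910

open Cfsg.Agent.Lib.Helper4.Huppert
open scoped Pointwise

theorem result {G : Type*} [Group G] [Finite G] {p : ℕ} [Fact p.Prime] (hp : p ≠ 2) (hdiv : p ∣ Nat.card G) (P : Sylow p G) (hZ : Cfsg.omegaOne p (P : Subgroup G) ≤ Subgroup.center G) : Cfsg.HasNormalPComplement p G ∧ ¬ Cfsg.IsQuasisimple G := by
  have hpP : p.Prime := Fact.out
  have hN : Cfsg.HasNormalPComplement p G := by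
    apply hasNormalPComplement_of_omega
    intro Q hQ g _ _ a ha hap
    have hap' : a ^ p = 1 := by
      rcases hap with h | ⟨h, _⟩
      · exact h
      · exact absurd h hp
    obtain ⟨P', hP'⟩ := hQ.exists_le_sylow
    obtain ⟨x, hx⟩ := MulAction.exists_smul_eq G P P'
    have haP' : a ∈ (P' : Subgroup G) := hP' ha
    rw [← hx, Sylow.coe_subgroup_smul, Subgroup.mem_smul_pointwise_iff_exists] at haP'
    obtain ⟨b, hb, hba⟩ := haP'
    have hba' : x * b * x⁻¹ = a := hba
    have hbp : b ^ p = 1 := by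
      have : (x * b * x⁻¹) ^ p = 1 := by rw [hba']; exact hap'
      rw [conj_pow] at this
      have h2 : b ^ p = x⁻¹ * (x * b ^ p * x⁻¹) * x := by group
      rw [h2, this]; group
    have hbΩ : b ∈ Cfsg.omegaOne p (P : Subgroup G) := Subgroup.subset_closure ⟨hb, hbp⟩
    have hbc := hZ hbΩ
    have hab : a = b := by
      rw [← hba', (Subgroup.mem_center_iff.mp hbc x), mul_inv_cancel_right]
    rw [hab]
    exact (Subgroup.mem_center_iff.mp hbc g)
  refine ⟨hN, ?_⟩
  rintro ⟨hperf, -⟩
  obtain ⟨P', N, hNn, hNc⟩ := hN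
  haveI := hNn
  haveI := hperf
  -- the quotient is a nontrivial p-group
  have hidx : N.index = Nat.card (P' : Subgroup G) := hNc.symm.index_eq_card
  have hPG : IsPGroup p (G ⧸ N) := by
    obtain ⟨k, hk⟩ := IsPGroup.iff_card.mp P'.2
    apply IsPGroup.of_card (n := k)
    rw [← hk, ← hidx]; rfl
  have hnt : Nontrivial (G ⧸ N) := by
    rw [← Finite.one_lt_card_iff_nontrivial]
    show 1 < N.index
    rw [hidx]
    have h1 : p ∣ Nat.card (P' : Subgroup G) := by
      rw [P'.card_eq_multiplicity]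
      exact dvd_pow_self p ((Nat.Prime.factorization_pos_of_dvd hpP Nat.card_pos.ne' hdiv).ne')
    have := Nat.le_of_dvd Nat.card_pos h1
    exact lt_of_lt_of_le hpP.one_lt this
  have hnil : Group.IsNilpotent (G ⧸ N) := hPG.isNilpotent
  exact Group.IsPerfect.not_isNilpotent (G ⧸ N) hnil

end Cfsg.Agent.S2910
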