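import Mathlib
import Cfsg.Statements.S0728
import Cfsg.Agent.Lib.Lead.Sharp3

set_option autoImplicit false
open Cfsg

namespace Cfsg.Agent.S0728

open MulAction Cfsg.Agent.Lib.Lead.Sharp3

section
variable {α G : Type*} [Group G] [MulAction G α]
  (h3 : IsMultiplyPretransitive G α 3) (hsharp : ∀ x : Fin 3 ↪ α, stabilizer G x = ⊥)

include h3 hsharp in
theorem key {a b c₀ : α} (hab : a ≠ b) (hca : c₀ ≠ a) (hcb : c₀ ≠ b) (g₀ g : G)
    (hg₀ : g₀ ≠ 1) (hg₀3 : g₀ ^ 3 = 1) (hg₀a : g₀ • a = a) (hg₀b : g₀ • b = b)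
    (hg : g ≠ 1) (hg3 : g ^ 3 = 1) (hga : g • a = a) (hgb : g • b = b) :
    g = g₀ ∨ ∃ k : G, k • a = b ∧ k • b = a ∧ k • c₀ = c₀ ∧ g = k * g₀ * k⁻¹ := by
  -- distinctness of the cycle through c₀
  have cyc : ∀ f : G, f ≠ 1 → f ^ 3 = 1 → f • a = a → f • b = b →
      c₀ ≠ f • c₀ ∧ c₀ ≠ f • f • c₀ ∧ f • c₀ ≠ f • f • c₀ := by
    intro f hf hf3 hfa hfb
    have h1 : c₀ ≠ f • c₀ := by
      intro h
      exact hf (eq_one_of_fix3 hsharp hab hca.symm hcb.symm f hfa hfb h.symm)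
    refine ⟨h1, ?_, ?_⟩
    · intro h
      apply h1
      have : f • f • f • c₀ = c₀ := by
        have e : f * f * f = f ^ 3 := by rw [pow_succ, pow_two]
        rw [smul_smul, smul_smul, e, hf3, one_smul]
      have h2 : f • c₀ = f • f • f • c₀ := by rw [← h]
      rw [h2, this]
    · intro h
      exact h1 (smul_left_cancel f h)
  obtain ⟨d1, d2, d3⟩ := cyc g₀ hg₀ hg₀3 hg₀a hg₀b
  obtain ⟨e1, e2, e3⟩ := cyc g hg hg3 hga hgb
  obtain ⟨k, hk1, hk2, hk3⟩ := exists_map3 (G := G) h3 d1 d2 d3 e1 e2 e3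
  have hkinv1 : k⁻¹ • c₀ = c₀ := by rw [inv_smul_eq_iff, hk1]
  have hkinv2 : k⁻¹ • g • c₀ = g₀ • c₀ := by rw [inv_smul_eq_iff, hk2]
  have hkinv3 : k⁻¹ • g • g • c₀ = g₀ • g₀ • c₀ := by rw [inv_smul_eq_iff, hk3]
  have hg0cube : g₀ • g₀ • g₀ • c₀ = c₀ := by
    have e : g₀ * g₀ * g₀ = g₀ ^ 3 := by rw [pow_succ, pow_two]
    rw [smul_smul, smul_smul, e, hg₀3, one_smul]
  have hgcube : g • g • g • c₀ = c₀ := by
    have e : g * g * g = g ^ 3 := by rw [pow_succ, pow_two]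
    rw [smul_smul, smul_smul, e, hg3, one_smul]
  have hconj : g = k * g₀ * k⁻¹ := by
    apply eq_of_agree3 hsharp e1 e2 e3
    · rw [mul_smul, mul_smul, hkinv1, hk2]
    · rw [mul_smul, mul_smul, hkinv2, hk3]
    · rw [mul_smul, mul_smul, hkinv3, hg0cube, hk1, hgcube]
  -- k⁻¹ permutes {a, b}
  have hfixpt : ∀ d : α, g₀ • d = d → d = a ∨ d = b := by
    intro d hd
    by_contra hne
    push Not at hne
    exact hg₀ (eq_one_of_fix3 hsharp hab hne.1.symm hne.2.symm g₀ hg₀a hg₀b hd)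
  have hg₀conj : g₀ = k⁻¹ * g * k := by rw [hconj]; group
  have ha' : g₀ • (k⁻¹ • a) = k⁻¹ • a := by
    rw [hg₀conj, mul_smul, mul_smul, smul_inv_smul, hga]
  have hb' : g₀ • (k⁻¹ • b) = k⁻¹ • b := by
    rw [hg₀conj, mul_smul, mul_smul, smul_inv_smul, hgb]
  rcases hfixpt _ ha' with h1 | h1
  · left
    have h2 : k⁻¹ • b = b := by
      rcases hfixpt _ hb' with h2 | h2
      · exfalso
        exact hab (smul_left_cancel k⁻¹ (h1.trans h2.symm))
      · exact h2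
    have hk1' : k = 1 := by
      apply eq_one_of_fix3 hsharp hab hca.symm hcb.symm k
      · rw [← eq_inv_smul_iff, h1]
      · rw [← eq_inv_smul_iff, h2]
      · exact hk1
    rw [hconj, hk1']; group
  · right
    have h2 : k⁻¹ • b = a := by
      rcases hfixpt _ hb' with h2 | h2
      · exact h2
      · exfalso
        exact hab (smul_left_cancel k⁻¹ (h1.trans h2.symm))
    refine ⟨k, ?_, ?_, hk1, hconj⟩
    · rw [← eq_inv_smul_iff, h2]
    · rw [← eq_inv_smul_iff, h1]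

end

/-- In a sharply triply transitive group of even degree at least 6 (degree `q + 1`, `q` odd), a two-point stabiliser has at most one subgroup of order 3. -/
theorem result {α : Type*} [Fintype α] [DecidableEq α] (heven : Even (Fintype.card α)) (h6 : 6 ≤ Fintype.card α) (G : Subgroup (Equiv.Perm α)) (h3 : MulAction.IsMultiplyPretransitive G α 3) (hsharp : ∀ x : Fin 3 ↪ α, MulAction.stabilizer G x = ⊥) {a b : α} (hab : a ≠ b) (A B : Subgroup G) (hA : A ≤ MulAction.stabilizer G a ⊓ MulAction.stabilizer G b) (hB : B ≤ MulAction.stabilizer G a ⊓ MulAction.stabilizer G b) (hA3 : Nat.card A = 3) (hB3 : Nat.card B = 3) : A = B := by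
  -- a third point
  obtain ⟨c₀, hc₀⟩ : ∃ c₀ : α, c₀ ∉ ({a, b} : Finset α) := by
    by_contra hne
    push Not at hne
    have : (Finset.univ : Finset α) ⊆ {a, b} := fun z _ => hne z
    have := Finset.card_le_card this
    rw [Finset.card_univ] at this
    have h2 : ({a, b} : Finset α).card ≤ 2 := Finset.card_le_two
    omega
  simp only [Finset.mem_insert, Finset.mem_singleton, not_or] at hc₀
  obtain ⟨hca, hcb⟩ := hc₀
  haveI : Finite A := Nat.finite_of_card_ne_zero (by omega)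
  haveI : Finite B := Nat.finite_of_card_ne_zero (by omega)
  -- a nonidentity element of A
  obtain ⟨g₀, hg₀A, hg₀⟩ : ∃ g₀ : G, g₀ ∈ A ∧ g₀ ≠ 1 := by
    by_contra hne
    push Not at hne
    have : A = ⊥ := by
      rw [eq_bot_iff]; intro x hx; rw [Subgroup.mem_bot]; exact hne x hx
    rw [this, Subgroup.card_bot] at hA3
    omega
  have cube : ∀ (C : Subgroup G) [Finite C], Nat.card C = 3 → ∀ g ∈ C, g ^ 3 = 1 := by
    intro C _ hC g hg
    have := pow_card_eq_one' (G := C) (x := ⟨g, hg⟩)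
    rw [hC] at this
    exact congrArg Subtype.val this
  have hg₀3 := cube A hA3 g₀ hg₀A
  have hg₀a : g₀ • a = a := (hA hg₀A).1
  have hg₀b : g₀ • b = b := (hA hg₀A).2
  -- g₀² is also in T
  have hsq_ne : g₀ ^ 2 ≠ 1 := by
    intro h
    apply hg₀
    have : g₀ ^ 3 = g₀ ^ 2 * g₀ := pow_succ g₀ 2
    rw [hg₀3, h, one_mul] at this
    exact this.symm
  have hsq3 : (g₀ ^ 2) ^ 3 = 1 := by
    rw [← pow_mul, show 2 * 3 = 3 * 2 from rfl, pow_mul, hg₀3, one_pow]
  have hsqA : g₀ ^ 2 ∈ A := A.pow_mem hg₀A 2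
  have hsq_ne' : g₀ ^ 2 ≠ g₀ := by
    intro h
    apply hg₀
    have : g₀ ^ 2 = g₀ * g₀ := pow_two g₀
    rw [h] at this
    exact (mul_eq_left.mp this.symm)
  have hkey2 := key (G := G) h3 hsharp hab hca hcb g₀ (g₀ ^ 2) hg₀ hg₀3 hg₀a hg₀b hsq_ne hsq3
    (hA hsqA).1 (hA hsqA).2
  obtain ⟨k', hk'a, hk'b, hk'c, hk'⟩ := hkey2.resolve_left hsq_ne'
  have hBA : B ≤ A := by
    intro g hgB
    by_cases hg1 : g = 1
    · rw [hg1]; exact A.one_mem
    · have := key (G := G) h3 hsharp hab hca hcb g₀ g hg₀ hg₀3 hg₀a hg₀b hg1 (cube B hB3 g hgB)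
        (hB hgB).1 (hB hgB).2
      rcases this with h | ⟨k, hka, hkb, hkc, hk⟩
      · rw [h]; exact hg₀A
      · have hkk' : k = k' := by
          apply eq_of_agree3 hsharp hab (Ne.symm hca) (Ne.symm hcb)
          · rw [hka, hk'a]
          · rw [hkb, hk'b]
          · rw [hkc, hk'c]
        rw [hk, hkk', ← hk']; exact hsqA
  exact (Subgroup.eq_of_le_of_card_ge hBA (by rw [hA3, hB3])).symm

end Cfsg.Agent.S0728
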