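import Cfsg.Statements.S3224
import Mathlib
import Cfsg.Agent.Lib.Helper1.MaxClassSelfCentralizing
import Cfsg.Agent.Lib.Helper1.MaxClassTwoC
import Cfsg.Agent.Lib.Helper1.MaxClassTwoA
import Cfsg.Agent.Lib.Helper1.CyclicMaxTwo
import Cfsg.Agent.Lib.Helper1.DihedralRecognition
import Cfsg.Agent.Lib.Helper7.CyclicCharZStar

set_option autoImplicit false
open Cfsg

namespace Cfsg.Agent.S3224

theorem mem_or_mul_mem {S : Type*} [Group S] (H : Subgroup S) (hH : H.index = 2) {b : S}
    (hb : b ∉ H) (g : S) : g ∈ H ∨ g * b ∈ H := by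
  by_cases hg : g ∈ H
  · exact Or.inl hg
  · right
    rw [Subgroup.mul_mem_iff_of_index_two hH]
    exact ⟨fun h => absurd h hg, fun h => absurd h hb⟩

theorem central_of_comm {S : Type*} [Group S] {a b w : S}
    (hH : (Subgroup.zpowers a).index = 2) (hb : b ∉ Subgroup.zpowers a)
    (hwa : w ∈ Subgroup.zpowers a) (hwb : Commute b w) : ∀ g : S, Commute g w := by
  have hpow : ∀ c ∈ Subgroup.zpowers a, Commute c w := by
    intro c hc
    obtain ⟨i, rfl⟩ := Subgroup.mem_zpowers_iff.mp hc
    obtain ⟨j, rfl⟩ := Subgroup.mem_zpowers_iff.mp hwa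
    exact Commute.zpow_zpow_self a i j
  intro g
  rcases mem_or_mul_mem _ hH hb g with h | h
  · exact hpow g h
  · have hg : g = g * b * b⁻¹ := by group
    rw [hg]
    exact (hpow _ h).mul_left hwb.inv_left

theorem index_zpowers_eq_two {S : Type*} [Group S] [Finite S] {n : ℕ} (hn : 1 ≤ n)
    (hS : Nat.card S = 2 ^ n) {a : S} (ha : orderOf a = 2 ^ (n - 1)) :
    (Subgroup.zpowers a).index = 2 := by
  have h1 := Subgroup.card_mul_index (Subgroup.zpowers a)
  rw [Nat.card_zpowers, ha, hS] at h1
  have h2 : 2 ^ n = 2 ^ (n - 1) * 2 := by rw [← pow_succ, Nat.sub_add_cancel hn]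
  rw [h2] at h1
  exact Nat.eq_of_mul_eq_mul_left (by positivity) h1

/-- A finite 2-group containing an involution whose centralizer has order 4 is dihedral, quasi-dihedral (semidihedral), or of order 4. -/
theorem result {S : Type*} [Group S] [Finite S] (hS : IsPGroup 2 S)
    (x : S) (hx : orderOf x = 2) (hC : Nat.card ↥(Subgroup.centralizer ({x} : Set S)) = 4) :
    (∃ n : ℕ, Nonempty (S ≃* DihedralGroup n)) ∨ Cfsg.IsQuasiDihedral S ∨ Nat.card S = 4 := by
    classical
    haveI : Fact (Nat.Prime 2) := ⟨Nat.prime_two⟩
    obtain ⟨n, hn⟩ := hS.exists_card_eq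
    haveI : Group.IsNilpotent S := hS.isNilpotent
    set A := Subgroup.centralizer ({x} : Set S) with hA
    have h4 : 4 ∣ 2 ^ n := by
      rw [← hn, ← hC]; exact Subgroup.card_subgroup_dvd_card A
    have hn2 : 2 ≤ n := by
      by_contra h
      push Not at h
      interval_cases n <;> omega
    by_cases hn3 : n = 2
    · right; right; rw [hn, hn3]; norm_num
    have hn3' : 3 ≤ n := by omega
    have hxx : x * x = 1 := by rw [← pow_two, ← hx, pow_orderOf_eq_one]
    have hx1 : x ≠ 1 := by
      intro h; rw [h, orderOf_one] at hx; omega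
    have hAcomm : IsMulCommutative A :=
      IsPGroup.isMulCommutative_of_card_eq_prime_sq (p := 2) (by rw [hC]; norm_num)
    have hxA : x ∈ A := by
      rw [hA, Subgroup.mem_centralizer_iff]
      intro y hy
      rw [Set.mem_singleton_iff] at hy
      rw [hy]
    have hCA : Subgroup.centralizer (A : Set S) = A := by
      apply le_antisymm
      · intro g hg
        rw [hA, Subgroup.mem_centralizer_iff]
        intro y hy
        rw [Set.mem_singleton_iff] at hy
        subst hy
        exact (Subgroup.mem_centralizer_iff.mp hg) y hxA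
      · intro g hg
        rw [Subgroup.mem_centralizer_iff]
        intro y hy
        have := mul_comm' (⟨y, hy⟩ : A) ⟨g, hg⟩
        exact congrArg Subtype.val this
    have hcl := Cfsg.Agent.Lib.Helper1.max_class_of_self_centralizing (p := 2) n hn A
      (by rw [hC]; norm_num) hCA
    obtain ⟨C, hCc, hCi⟩ := Cfsg.Agent.Lib.Helper1.exists_cyclic_index_two_of_max_class n hn3' hn hcl
    have hna : ∃ u v : S, u * v ≠ v * u := by
      by_contra hno
      push Not at hno
      have := Cfsg.Agent.Lib.Helper1.nilpotencyClass_le_one_of_comm hno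
      omega
    obtain ⟨a, b, hord, hb, hcases⟩ :=
      Cfsg.Agent.Lib.Helper1.two_group_cyclic_index_two_nonabelian n hn3' hn C hCc hCi hna
    obtain ⟨hZ2, -, -⟩ := Cfsg.Agent.Lib.Helper1.max_class_center_card (p := 2) n hn3' hn hcl
    have hidx : (Subgroup.zpowers a).index = 2 := index_zpowers_eq_two (by omega) hn hord
    have hb1 : b ≠ 1 := by
      intro h; apply hb; rw [h]; exact one_mem _
    rcases hcases with ⟨hb2, hba⟩ | ⟨hb2, hba⟩ | ⟨h4n, hb2, hba⟩ | ⟨h4n, hb2, hba⟩
    · -- dihedral
      left
      refine ⟨2 ^ (n - 1), ?_⟩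
      haveI : NeZero (2 ^ (n - 1)) := ⟨by positivity⟩
      refine Cfsg.Agent.Lib.Helper1.nonempty_mulEquiv_dihedralGroup (2 ^ (n - 1)) a b hord hb
        (by rw [← pow_two]; exact hb2) hba ?_
      rw [hn, ← pow_succ', Nat.sub_add_cancel (by omega)]
    · -- generalized quaternion: impossible
      exfalso
      set z := a ^ (2 ^ (n - 2)) with hz
      have hzord : orderOf z = 2 := by
        rw [hz, orderOf_pow_of_dvd (by positivity) (by rw [hord]; exact pow_dvd_pow 2 (by omega)),
          hord, Nat.pow_div (by omega) (by norm_num)]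
        have : n - 1 - (n - 2) = 1 := by omega
        rw [this, pow_one]
      have hzz : z * z = 1 := by rw [← pow_two, ← hzord, pow_orderOf_eq_one]
      have hz1 : z ≠ 1 := by
        intro h; rw [h, orderOf_one] at hzord; omega
      have hzinv : z⁻¹ = z := by
        rw [inv_eq_iff_mul_eq_one]; exact hzz
      have hzmem : z ∈ Subgroup.zpowers a := Subgroup.pow_mem _ (Subgroup.mem_zpowers a) _
      have hbz : Commute b z := by
        have h1 : b * z * b⁻¹ = z := by
          rw [hz, ← conj_pow, hba, inv_pow, ← hz, hzinv]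
        have h2 : b * z = z * b := by
          calc b * z = b * z * b⁻¹ * b := by group
            _ = z * b := by rw [h1]
        exact h2
      have hzc := central_of_comm hidx hb hzmem hbz
      have hxz : x = z := by
        rcases mem_or_mul_mem _ hidx hb x with h | h
        · haveI : IsCyclic (Subgroup.zpowers a) := inferInstance
          have h1 : orderOf (⟨x, h⟩ : Subgroup.zpowers a) = 2 := by
            rw [Subgroup.orderOf_mk]; exact hx
          have h2 : orderOf (⟨z, hzmem⟩ : Subgroup.zpowers a) = 2 := by
            rw [Subgroup.orderOf_mk]; exact hzord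
          have := Cfsg.Agent.Lib.Helper7.eq_of_orderOf_two_of_isCyclic h1 h2
          exact congrArg Subtype.val this
        · exfalso
          obtain ⟨i, hi⟩ := Subgroup.mem_zpowers_iff.mp h
          set c := x * b with hc
          have hbc : b * c * b⁻¹ = c⁻¹ := by
            rw [← hi, ← conj_zpow, hba, inv_zpow]
          have hbc' : b⁻¹ * c * b = c⁻¹ := by
            have : c = b⁻¹ * c⁻¹ * b := by rw [← hbc]; group
            calc b⁻¹ * c * b = b⁻¹ * (b⁻¹ * c⁻¹ * b) * b := by rw [← this]
              _ = (b * b)⁻¹ * c⁻¹ * (b * b) := by group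
              _ = c⁻¹ := by
                rw [← pow_two, hb2]
                have hcz : Commute z c⁻¹ := ((hzc c).inv_left).symm
                calc z⁻¹ * c⁻¹ * z = z⁻¹ * (c⁻¹ * z) := by group
                  _ = z⁻¹ * (z * c⁻¹) := by rw [hcz.eq]
                  _ = c⁻¹ := by group
          have hxc : x = c * b⁻¹ := by rw [hc]; group
          have : x * x = z⁻¹ := by
            calc x * x = c * b⁻¹ * (c * b⁻¹) := by rw [← hxc]
              _ = c * (b⁻¹ * c * b) * (b ^ 2)⁻¹ := by group
              _ = z⁻¹ := by rw [hbc', hb2]; group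
          rw [hxx, hzinv] at this
          exact hz1 this.symm
      have hAtop : A = ⊤ := by
        rw [eq_top_iff]
        intro g _
        rw [hA, Subgroup.mem_centralizer_iff]
        intro y hy
        rw [Set.mem_singleton_iff] at hy
        subst hy
        rw [hxz]
        exact ((hzc g).eq).symm
      rw [hAtop, Subgroup.card_top, hn] at hC
      have : 2 ^ 3 ≤ 2 ^ n := Nat.pow_le_pow_right (by norm_num) hn3'
      omega
    · -- modular: impossible
      exfalso
      set w := a ^ 2 with hw
      have hword : orderOf w = 2 ^ (n - 2) := by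
        rw [hw, orderOf_pow_of_dvd (by norm_num) (by rw [hord]; exact dvd_pow_self 2 (by omega)),
          hord]
        have : 2 ^ (n - 1) = 2 ^ (n - 2) * 2 := by
          rw [← pow_succ]; congr 1; omega
        rw [this, Nat.mul_div_cancel _ (by norm_num)]
      have hwmem : w ∈ Subgroup.zpowers a := Subgroup.pow_mem _ (Subgroup.mem_zpowers a) _
      have hbw : Commute b w := by
        have h1 : b * w * b⁻¹ = w := by
          rw [hw, ← conj_pow, hba, ← pow_mul]
          have : (1 + 2 ^ (n - 2)) * 2 = 2 + 2 ^ (n - 1) := by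
            have : 2 ^ (n - 1) = 2 ^ (n - 2) * 2 := by
              rw [← pow_succ]; congr 1; omega
            rw [this]; ring
          rw [this, pow_add, ← hord, pow_orderOf_eq_one, mul_one]
        have h2 : b * w = w * b := by
          calc b * w = b * w * b⁻¹ * b := by group
            _ = w * b := by rw [h1]
        exact h2
      have hwc := central_of_comm hidx hb hwmem hbw
      have hwZ : w ∈ Subgroup.center S := by
        rw [Subgroup.mem_center_iff]
        intro g
        exact (hwc g).eq
      have h1 : orderOf (⟨w, hwZ⟩ : Subgroup.center S) ∣ 2 := by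
        rw [← hZ2]; exact orderOf_dvd_natCard _
      rw [Subgroup.orderOf_mk, hword] at h1
      have h2 : 2 ^ 2 ≤ 2 ^ (n - 2) := Nat.pow_le_pow_right (by norm_num) (by omega)
      have h3 := Nat.le_of_dvd (by norm_num) h1
      omega
    · -- semidihedral
      right; left
      refine ⟨n - 1, by omega, ?_, a, b, hord, ?_, ?_⟩
      · rw [hn, Nat.sub_add_cancel (by omega)]
      · exact orderOf_eq_prime hb2 hb1
      · have : n - 1 - 1 = n - 2 := by omega
        rw [this]; exact hba

end Cfsg.Agent.S3224
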