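import Cfsg.Statements.S0944
import Mathlib
import Cfsg.Agent.Lib.Helper6.Constituent
import Cfsg.Agent.Lib.Helper6.CharBasic

set_option autoImplicit false
open Cfsg

namespace Cfsg.Agent.S0944

/-- Let χ be an irreducible character of the finite group G and u an involution. Then χ u is a rational integer n with n ≡ χ 1 (mod 2). -/
theorem result {G : Type*} [Group G] [Finite G] (χ : Cfsg.IrrCharacter G) (u : G) (hu : orderOf u = 2) : ∃ n : ℤ, (χ : G → ℂ) u = (n : ℂ) ∧ (2 : ℤ) ∣ (Cfsg.charDegree (χ : G → ℂ) : ℤ) - n := by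
  classical
  have : Fintype G := Fintype.ofFinite G
  obtain ⟨χf, hχ⟩ := χ
  have hχch := Cfsg.Agent.Lib.Helper6.IsIrrCharacter.isCharacter hχ
  have hdeg := Cfsg.Agent.Lib.Helper6.IsCharacter.apply_one_eq_charDegree hχch
  simp only at hdeg ⊢
  obtain ⟨k, ρ, hρirr, hρ⟩ := hχ
  obtain ⟨ι, _, b, μ, hb, hμ⟩ := Cfsg.Agent.Lib.Helper6.exists_eigenbasis_rep ρ u
  rw [hu] at hμ
  have hμ' : ∀ i, μ i = 1 ∨ μ i = -1 := by
    intro i
    have := hμ i
    rw [sq] at this
    exact mul_self_eq_one_iff.mp this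
  have htr : χf u = ∑ i, μ i := by
    rw [← hρ]
    exact Cfsg.Agent.Lib.Helper6.trace_eq_sum_of_eigenbasis b μ (ρ u) hb
  have hcard : (Cfsg.charDegree χf : ℂ) = (Fintype.card ι : ℂ) := by
    rw [← hdeg, ← hρ, Representation.char_one, Module.finrank_eq_card_basis b]
  have hcard' : Cfsg.charDegree χf = Fintype.card ι := by exact_mod_cast hcard
  refine ⟨∑ i, (if μ i = 1 then (1 : ℤ) else -1), ?_, ?_⟩
  · rw [htr]
    push_cast
    apply Finset.sum_congr rfl
    intro i _
    rcases hμ' i with h | h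
    · rw [if_pos h, h]
    · have hne : μ i ≠ 1 := by
        rw [h]
        norm_num
      rw [if_neg hne, h]
  · rw [hcard']
    have h1 : (Fintype.card ι : ℤ) = ∑ _i : ι, (1 : ℤ) := by simp
    rw [h1, ← Finset.sum_sub_distrib]
    apply Finset.dvd_sum
    intro i _
    split_ifs <;> norm_num


end Cfsg.Agent.S0944
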