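import Cfsg.Statements.S4710
import Mathlib
import Cfsg.Agent.Lib.Helper6.BlkContrib

set_option autoImplicit false
open Cfsg

namespace Cfsg.Agent.S4710

open Cfsg.Agent.Lib.Helper6

/-- Let p be a prime, M a maximal ideal of the algebraic integers containing p, and B a p-block of defect d of the finite group G containing k irreducible characters. If B contains a character of positive height then 2k ≤ p^(2d − 2); and every character in B has height 0 when d ≤ 1 and height at most d − 2 when d ≥ 2. -/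
theorem result {G : Type*} [Group G] [Finite G] (p : ℕ) [Fact p.Prime] (M : Ideal Cfsg.AlgInt) (hM : Cfsg.IsPModular p M) (B : Set (Cfsg.IrrCharacter G)) (hB : Cfsg.IsPBlock M B) (d : ℕ) (hd : Cfsg.blockDefect p B = d) : ((∃ χ ∈ B, 0 < Cfsg.blockHeight p B (χ : G → ℂ)) → 2 * Nat.card B ≤ p ^ (2 * d - 2)) ∧ ∀ χ ∈ B, (d ≤ 1 → Cfsg.blockHeight p B (χ : G → ℂ) = 0) ∧ (2 ≤ d → Cfsg.blockHeight p B (χ : G → ℂ) ≤ d - 2) := by
  classical
  have : Fintype G := Fintype.ofFinite G
  have : Fintype (Cfsg.IrrCharacter G) := Fintype.ofFinite _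
  have hp : p.Prime := hM.1
  constructor
  · rintro ⟨χ, hχ, hh⟩
    have hh' : Cfsg.blockHeight p B (χ : G → ℂ) ≠ 0 := hh.ne'
    have hd2 := height_add_two_le_defect hM B hB χ hχ hh'
    rw [hd] at hd2
    have h1 := card_height_zero_le hM B hB χ hχ hh'
    have h2 := four_mul_sum_pow_height_le hM B hB
    rw [hd] at h1 h2
    obtain ⟨K₀, hK₀⟩ : ∃ K₀, K₀ = (Finset.univ.filter (· ∈ B)).filter
      (fun β : Cfsg.IrrCharacter G => Cfsg.blockHeight p B (β : G → ℂ) = 0) := ⟨_, rfl⟩
    obtain ⟨K₁, hK₁⟩ : ∃ K₁, K₁ = (Finset.univ.filter (· ∈ B)).filter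
      (fun β : Cfsg.IrrCharacter G => ¬ Cfsg.blockHeight p B (β : G → ℂ) = 0) := ⟨_, rfl⟩
    rw [← hK₀] at h1
    have hk : Nat.card B = K₀.card + K₁.card := by
      rw [Nat.card_eq_fintype_card, Fintype.card_subtype, hK₀, hK₁]
      exact (Finset.card_filter_add_card_filter_not _).symm
    have hsum : K₀.card + p ^ 2 * K₁.card ≤ ∑ β ∈ Finset.univ.filter (· ∈ B),
        p ^ (2 * Cfsg.blockHeight p B (β : G → ℂ)) := by
      rw [← Finset.sum_filter_add_sum_filter_not (Finset.univ.filter (· ∈ B))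
        (fun β : Cfsg.IrrCharacter G => Cfsg.blockHeight p B (β : G → ℂ) = 0), ← hK₀, ← hK₁]
      apply Nat.add_le_add
      · rw [Finset.card_eq_sum_ones]
        apply Finset.sum_le_sum
        intro β _
        exact Nat.one_le_pow _ _ hp.pos
      · rw [mul_comm, ← smul_eq_mul, ← Finset.sum_const]
        apply Finset.sum_le_sum
        intro β hβ
        rw [hK₁] at hβ
        have hβh := (Finset.mem_filter.mp hβ).2
        apply Nat.pow_le_pow_right hp.pos
        omega
    have hK₀pos : 1 ≤ K₀.card := by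
      obtain ⟨ψ₀, hψ₀B, hψ₀h⟩ := exists_height_zero (p := p) B χ hχ
      apply Finset.card_pos.mpr
      refine ⟨ψ₀, ?_⟩
      rw [hK₀]
      simp [hψ₀B, hψ₀h]
    -- arithmetic
    have hP : p ^ (2 * d) = p ^ 2 * p ^ (2 * d - 2) := by
      rw [← pow_add]
      congr 1
      omega
    obtain ⟨Q, hQ⟩ : ∃ Q, Q = p ^ (2 * d - 2) := ⟨_, rfl⟩
    rw [← hQ] at hP ⊢
    rw [hP] at h1 h2
    obtain ⟨q, hq⟩ : ∃ q, q = p ^ 2 := ⟨_, rfl⟩
    rw [← hq] at h1 h2 hsum
    have hq4 : 4 ≤ q := by
      rw [hq]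
      have := hp.two_le
      nlinarith
    rw [hk]
    -- `4 q k₀ ≤ q Q`, `4 k₀ + 4 q k₁ ≤ q Q + 4`
    have h3 : 4 * K₀.card ≤ Q := by
      have : q * (4 * K₀.card) ≤ q * Q := by nlinarith
      exact Nat.le_of_mul_le_mul_left this (by omega)
    have h4 : 4 * K₀.card + 4 * q * K₁.card ≤ q * Q + 4 := by nlinarith
    have h5 : q * (2 * (K₀.card + K₁.card)) ≤ q * Q := by nlinarith
    exact Nat.le_of_mul_le_mul_left h5 (by omega)
  · intro χ hχ
    constructor
    · intro hd1
      by_contra hh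
      have := height_add_two_le_defect hM B hB χ hχ hh
      omega
    · intro hd2
      by_cases hh : Cfsg.blockHeight p B (χ : G → ℂ) = 0
      · omega
      · have := height_add_two_le_defect hM B hB χ hχ hh
        omega

end Cfsg.Agent.S4710
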