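import Mathlib
import Cfsg.Statements.S0744
import Cfsg.Agent.Lib.Lead.MultiTrans
import Cfsg.Agent.Lib.Lead.OrbitCount

set_option autoImplicit false
open Cfsg

namespace Cfsg.Agent.S0744

open MulAction SubMulAction Cfsg.Agent.Lib.Lead.OrbitCount

/-- Base case: the pointwise stabiliser of a `(k-2)`-set is transitive outside it. -/
theorem base {α : Type*} [Fintype α] [DecidableEq α] (G : Subgroup (Equiv.Perm α)) {k : ℕ}
    (l m : ℕ) (hl : 1 < l)
    (hkm1 : ∀ s : Finset α, s.card = k - 1 → Nat.card (fixingSubgroup G (s : Set α)) = l)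
    (hkm : ∀ s : Finset α, s.card = k → Nat.card (fixingSubgroup G (s : Set α)) = m)
    (u : Finset α) (hu : u.card + 2 = k) (a b : α) (ha : a ∉ u) (hb : b ∉ u) :
    b ∈ orbit (fixingSubgroup G (u : Set α)) a := by
  by_contra hbO
  set K := fixingSubgroup G (u : Set α) with hK
  set F := fixingSubgroup G (insert a (u : Set α)) with hF
  have hab : a ≠ b := by
    rintro rfl; exact hbO (mem_orbit_self a)
  have hFK : F ≤ K := fixingSubgroup_antitone G α (Set.subset_insert _ _)
  -- cardinalities
  have hFl : Nat.card F = l := by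
    have := hkm1 (insert a u) (by rw [Finset.card_insert_of_notMem ha]; omega)
    rwa [Finset.coe_insert] at this
  have hFbl : Nat.card (fixingSubgroup G (insert b (u : Set α))) = l := by
    have := hkm1 (insert b u) (by rw [Finset.card_insert_of_notMem hb]; omega)
    rwa [Finset.coe_insert] at this
  have hm : ∀ c, c ∉ insert a (u : Set α) →
      Nat.card (fixingSubgroup G (insert c (insert a (u : Set α)))) = m := by
    intro c hc
    have hc' : c ∉ insert a u := by
      intro h; apply hc; rw [← Finset.coe_insert]; exact Finset.mem_coe.mpr h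
    have := hkm (insert c (insert a u)) (by
      rw [Finset.card_insert_of_notMem hc', Finset.card_insert_of_notMem ha]; omega)
    rwa [Finset.coe_insert, Finset.coe_insert] at this
  have hO := card_orbit_fixingSubgroup (G := G) (u : Set α) a
  have hO' := card_orbit_fixingSubgroup (G := G) (u : Set α) b
  rw [← hF, hFl, ← hK] at hO
  rw [hFbl, ← hK] at hO'
  have hOO' : (orbit K a).ncard = (orbit K b).ncard := by
    have : (orbit K a).ncard * l = (orbit K b).ncard * l := by rw [hO, hO']
    exact Nat.eq_of_mul_eq_mul_right (by omega) this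
  -- F-orbit sizes
  have hr : ∀ c, c ∉ insert a (u : Set α) → (orbit F c).ncard * m = l := by
    intro c hc
    have := card_orbit_fixingSubgroup (G := G) (insert a (u : Set α)) c
    rw [hm c hc, ← hF, hFl] at this
    exact this
  have hbau : b ∉ insert a (u : Set α) := by
    rintro (h | h)
    · exact hab h.symm
    · exact hb (Finset.mem_coe.mp h)
  have hmpos : 0 < m := by
    rcases Nat.eq_zero_or_pos m with h0 | h0
    · have := hr b hbau
      rw [h0, mul_zero] at this
      omega
    · exact h0
  have hr' : ∀ c, c ∉ insert a (u : Set α) → (orbit F c).ncard = l / m := by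
    intro c hc
    rw [← hr c hc, Nat.mul_div_cancel _ hmpos]
  -- points of K-orbits of points outside u are outside u
  have hout : ∀ x c, c ∉ u → x ∈ orbit K c → x ∉ (u : Set α) := by
    rintro x c hc ⟨g, rfl⟩ hx
    have hx' : g • c ∈ (u : Set α) := hx
    have h1 : (g⁻¹ : K) • (g • c) = g • c :=
      (mem_fixingSubgroup_iff G).mp (g⁻¹).2 _ hx'
    rw [inv_smul_smul] at h1
    rw [← h1] at hx'
    exact hc (Finset.mem_coe.mp hx')
  -- F-invariance
  have hinv : ∀ c : α, ∀ g : F, ∀ x ∈ orbit K c, g • x ∈ orbit K c := by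
    intro c g x hx
    have : (⟨(g : G), hFK g.2⟩ : K) • x ∈ orbit K c := mem_orbit_of_mem_orbit _ hx
    exact this
  have hFa : ∀ g : F, g • a = a := fun g =>
    (mem_fixingSubgroup_iff G).mp g.2 a (Set.mem_insert _ _)
  have haO' : a ∉ orbit K b := by
    intro h
    exact hbO ((mem_orbit_symm).mp h)
  -- r ∣ |O'|
  have hd1 : l / m ∣ (orbit K b).ncard := by
    refine dvd_ncard_of_invariant (A := F) (l / m) _ (orbit K b) rfl (hinv b) ?_
    intro x hx
    apply hr'
    rintro (h | h)
    · rw [h] at hx; exact haO' hx
    · exact hout x b hb hx h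
  -- r ∣ |O| - 1
  have hd2 : l / m ∣ (orbit K a).ncard - 1 := by
    refine dvd_ncard_of_invariant (A := F) (l / m) _ (orbit K a \ {a}) ?_ ?_ ?_
    · rw [Set.ncard_sdiff_singleton_of_mem (mem_orbit_self a)]
    · rintro g x ⟨hx, hxa⟩
      refine ⟨hinv a g x hx, ?_⟩
      intro h
      apply hxa
      rw [Set.mem_singleton_iff] at h ⊢
      have : x = g⁻¹ • a := by rw [← h, inv_smul_smul]
      rw [this, hFa]
    · rintro x ⟨hx, hxa⟩
      apply hr'
      rintro (h | h)
      · exact hxa h
      · exact hout x a ha hx h
  have hOpos : 0 < (orbit K a).ncard :=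
    (Set.ncard_pos (Set.toFinite _)).mpr ⟨a, mem_orbit_self a⟩
  have hr1 : l / m = 1 := by
    rw [← hOO'] at hd1
    have : l / m ∣ 1 := by
      have h3 := Nat.dvd_sub hd1 hd2
      have h4 : (orbit K a).ncard - ((orbit K a).ncard - 1) = 1 := by omega
      rwa [h4] at h3
    exact Nat.dvd_one.mp this
  -- but F is nontrivial and faithful
  have hFnt : ∃ g : F, g ≠ 1 := by
    by_contra hne
    push Not at hne
    have : Nat.card F = 1 := by
      rw [Nat.card_eq_one_iff_unique]
      exact ⟨⟨fun x y => (hne x).trans (hne y).symm⟩, ⟨1⟩⟩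
    omega
  obtain ⟨g, hg⟩ := hFnt
  have hgperm : ((g : G) : Equiv.Perm α) ≠ 1 := by
    intro h
    apply hg
    apply Subtype.ext; apply Subtype.ext
    exact h
  obtain ⟨c, hc⟩ : ∃ c, ((g : G) : Equiv.Perm α) c ≠ c := by
    by_contra hne
    push Not at hne
    exact hgperm (Equiv.Perm.ext hne)
  have hcau : c ∉ insert a (u : Set α) := by
    intro h
    exact hc ((mem_fixingSubgroup_iff G).mp g.2 c h)
  have h1 := hr' c hcau
  rw [hr1, Set.ncard_eq_one] at h1
  obtain ⟨d, hd⟩ := h1
  have hc1 : c ∈ orbit F c := mem_orbit_self c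
  have hc2 : g • c ∈ orbit F c := mem_orbit _ _
  rw [hd, Set.mem_singleton_iff] at hc1 hc2
  apply hc
  show g • c = c
  rw [hc2, hc1]

/-- Pointwise stabilisers of sets of size at most `k - 2` are transitive outside. -/
theorem trans_fix {α : Type*} [Fintype α] [DecidableEq α] (G : Subgroup (Equiv.Perm α)) {k : ℕ}
    (hkn : k ≤ Fintype.card α) (l m : ℕ) (hl : 1 < l)
    (hkm1 : ∀ s : Finset α, s.card = k - 1 → Nat.card (fixingSubgroup G (s : Set α)) = l)
    (hkm : ∀ s : Finset α, s.card = k → Nat.card (fixingSubgroup G (s : Set α)) = m) :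
    ∀ (i : ℕ) (u : Finset α), u.card + 2 + i = k → ∀ a b : α, a ∉ u → b ∉ u →
      b ∈ orbit (fixingSubgroup G (u : Set α)) a := by
  intro i
  induction i with
  | zero =>
    intro u hu a b ha hb
    exact base G l m hl hkm1 hkm u (by omega) a b ha hb
  | succ i ih =>
    intro u hu a b ha hb
    -- pick c outside u, different from a and b
    obtain ⟨c, hc⟩ : ∃ c, c ∉ insert a (insert b u) := by
      by_contra hne
      push Not at hne
      have : insert a (insert b u) = Finset.univ := Finset.eq_univ_iff_forall.mpr hne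
      have h1 : (insert a (insert b u)).card ≤ u.card + 2 := by
        calc (insert a (insert b u)).card ≤ (insert b u).card + 1 := Finset.card_insert_le _ _
          _ ≤ u.card + 1 + 1 := by
            have := Finset.card_insert_le b u
            omega
      rw [this, Finset.card_univ] at h1
      omega
    simp only [Finset.mem_insert, not_or] at hc
    obtain ⟨hca, hcb, hcu⟩ := hc
    have hcard : (insert c u).card + 2 + i = k := by
      rw [Finset.card_insert_of_notMem hcu]; omega
    have ha' : a ∉ insert c u := by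
      simp only [Finset.mem_insert, not_or]; exact ⟨fun h => hca h.symm, ha⟩
    have hb' : b ∉ insert c u := by
      simp only [Finset.mem_insert, not_or]; exact ⟨fun h => hcb h.symm, hb⟩
    obtain ⟨g, hg⟩ := ih (insert c u) hcard a b ha' hb'
    have hle : fixingSubgroup G ((insert c u : Finset α) : Set α) ≤ fixingSubgroup G (u : Set α) := by
      apply fixingSubgroup_antitone
      rw [Finset.coe_insert]; exact Set.subset_insert _ _
    exact ⟨⟨(g : G), hle g.2⟩, hg⟩

/-- If for some `k > 1` the pointwise stabilisers of all `(k-1)`-subsets have the same order `> 1` and those of all `k`-subsets have the same order, then the group is `(k-1)`-transitive. -/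
theorem result {α : Type*} [Fintype α] [DecidableEq α] (G : Subgroup (Equiv.Perm α)) {k : ℕ} (hk : 1 < k) (hkn : k ≤ Fintype.card α) (l m : ℕ) (hl : 1 < l) (hkm1 : ∀ s : Finset α, s.card = k - 1 → Nat.card (fixingSubgroup G (s : Set α)) = l) (hkm : ∀ s : Finset α, s.card = k → Nat.card (fixingSubgroup G (s : Set α)) = m) : MulAction.IsMultiplyPretransitive G α (k - 1) := by
  have key : ∀ j : ℕ, j ≤ k - 1 → MulAction.IsMultiplyPretransitive G α j := by
    intro j
    induction j with
    | zero => intro _; exact MulAction.is_zero_pretransitive'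
    | succ j ih =>
      intro hj
      have hjt := ih (by omega)
      obtain ⟨t, ht⟩ : ∃ t : Finset α, t.card = j := by
        obtain ⟨t, -, ht⟩ := Finset.exists_subset_card_eq (s := (Finset.univ : Finset α)) (n := j)
          (by rw [Finset.card_univ]; omega)
        exact ⟨t, ht⟩
      have hfin : Finite (t : Set α) := Finset.finite_toSet t |>.to_subtype
      have hncard : (t : Set α).ncard = j := by rw [Set.ncard_coe_finset, ht]
      refine Cfsg.Agent.Lib.Lead.MultiTrans.isMultiplyPretransitive_add (t : Set α) hncard hjt ?_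
      rw [MulAction.is_one_pretransitive_iff]
      constructor
      rintro ⟨a, ha⟩ ⟨b, hb⟩
      have ha' : a ∉ t := fun h => (mem_ofFixingSubgroup_iff G).mp ha (Finset.mem_coe.mpr h)
      have hb' : b ∉ t := fun h => (mem_ofFixingSubgroup_iff G).mp hb (Finset.mem_coe.mpr h)
      obtain ⟨g, hg⟩ := trans_fix G hkn l m hl hkm1 hkm (k - 2 - j) t (by omega) a b ha' hb'
      exact ⟨g, Subtype.ext hg⟩
  exact key (k - 1) le_rfl

end Cfsg.Agent.S0744
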