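import Mathlib
import Cfsg.Statements.S0698
import Cfsg.Agent.Lib.Lead.JordanNormal

set_option autoImplicit false

open Cfsg

namespace Cfsg.Agent.S0698

theorem result {α : Type*} [Fintype α] [DecidableEq α] (G : Subgroup (Equiv.Perm α)) {k : ℕ} (hk : 1 < k) (hdeg : k < Fintype.card α) (hG : MulAction.IsMultiplyPretransitive G α k) (N : Subgroup G) [N.Normal] (hN : N ≠ ⊥) : MulAction.IsMultiplyPretransitive N α (k - 1) ∨ (k = 3 ∧ IsMulCommutative N ∧ ∀ n ∈ N, n ^ 2 = 1) := by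
  have hcard : k < Nat.card α := by rw [Nat.card_eq_fintype_card]; exact hdeg
  rcases Cfsg.Agent.Lib.Lead.JordanNormal.jordan_aux k hk G α hcard hG N hN with h | ⟨h3, hexp⟩
  · exact Or.inl h
  · right
    refine ⟨h3, ?_, hexp⟩
    constructor
    constructor
    intro x y
    have h1 := hexp x.1 x.2
    have h2 := hexp y.1 y.2
    have h3 := hexp (x.1 * y.1) (mul_mem x.2 y.2)
    have hxi : x.1⁻¹ = x.1 := by rw [inv_eq_iff_mul_eq_one, ← pow_two, h1]
    have hyi : y.1⁻¹ = y.1 := by rw [inv_eq_iff_mul_eq_one, ← pow_two, h2]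
    have : (x.1 * y.1)⁻¹ = x.1 * y.1 := by rw [inv_eq_iff_mul_eq_one, ← pow_two, h3]
    rw [mul_inv_rev, hxi, hyi] at this
    apply Subtype.ext
    exact this.symm

end Cfsg.Agent.S0698
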