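import Mathlib
import Cfsg.Statements.S0710
import Cfsg.Agent.Lib.Lead.SylowCount
import Cfsg.Agent.Lib.Lead.PrimeDegree

namespace Cfsg.Agent.S0710

open Cfsg.Agent.Lib.Lead.SylowCount Cfsg.Agent.Lib.Lead.PrimeDegree

theorem result {α : Type*} [Fintype α] [DecidableEq α] (hα : Fintype.card α = 13) (G : Subgroup (Equiv.Perm α)) [MulAction.IsPretransitive G α] : Nat.card G ≠ 13 * 12 * 11 * 10 * 9 * 8 := by
  intro hG
  haveI : Fact (Nat.Prime 13) := ⟨by norm_num⟩
  obtain ⟨P⟩ : Nonempty (Sylow 13 G) := inferInstance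
  have hPcard : Nat.card P = 13 :=
    card_sylow_of_card_eq 13 95040 (by rw [hG]) (by norm_num) P
  have hN := card_normalizer_dvd_of_embedding (Or.inl hα) G.subtype G.subtype_injective P hPcard
  have hmod : Nat.card (Sylow 13 G) % 13 = 1 := card_sylow_modEq_one 13 G
  have hnN := card_sylow_mul_card_normalizer 13 P
  rw [hG] at hnN
  have e : Nat.card (Subgroup.normalizer ((P : Subgroup G) : Set G)) =
    Nat.card (Subgroup.normalizer (P : Set G)) := rfl
  rw [← e] at hnN
  have hle : Nat.card (Subgroup.normalizer ((P : Subgroup G) : Set G)) ≤ 156 :=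
    Nat.le_of_dvd (by norm_num) hN
  have hpos : 0 < Nat.card (Subgroup.normalizer ((P : Subgroup G) : Set G)) := Nat.card_pos
  generalize Nat.card (Subgroup.normalizer ((P : Subgroup G) : Set G)) = v at *
  generalize Nat.card (Sylow 13 G) = n at *
  clear e
  interval_cases v <;> omega

end Cfsg.Agent.S0710
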