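import Mathlib
import Cfsg.Statements.S0736
import Cfsg.Agent.Lib.Lead.Homog1

set_option autoImplicit false

open Cfsg

namespace Cfsg.Agent.S0736

theorem result {α : Type*} [Fintype α] [DecidableEq α] (G : Subgroup (Equiv.Perm α)) {k : ℕ} (hk : 2 ≤ k) (hG : MulAction.IsPretransitive G (Set.powersetCard α k)) (hq : ∀ q : ℕ, IsPrimePow q → q ∣ k → k + q - 1 ≤ Fintype.card α) : MulAction.IsPretransitive G (Set.powersetCard α (k - 1)) := by
  exact Cfsg.Agent.Lib.Lead.Homog.homog_pred hk hG hq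

end Cfsg.Agent.S0736
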