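import Cfsg.Statements.S3966
import Mathlib

set_option autoImplicit false
open Cfsg

namespace Cfsg.Agent.S3966

open QuaternionGroup DihedralGroup
open scoped commutatorElement

/-- the reduction `ZMod (2n) → ZMod n` -/
noncomputable def red (n : ℕ) : ZMod (2 * n) →+* ZMod n :=
  ZMod.castHom (dvd_mul_left n 2) (ZMod n)

theorem red_n (n : ℕ) : red n (n : ZMod (2 * n)) = 0 := by
  rw [map_natCast, ZMod.natCast_self]

/-- The natural map from the dicyclic group onto the dihedral group. -/
noncomputable def toDihedral (n : ℕ) : QuaternionGroup n →* DihedralGroup n where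
  toFun
    | a i => r (red n i)
    | xa i => sr (red n i)
  map_one' := by
    show r (red n 0) = 1
    rw [map_zero]; rfl
  map_mul' := by
    rintro (i | i) (j | j)
    · show r (red n (i + j)) = r (red n i) * r (red n j)
      rw [map_add, r_mul_r]
    · show sr (red n (j - i)) = r (red n i) * sr (red n j)
      rw [map_sub, r_mul_sr]
    · show sr (red n (i + j)) = sr (red n i) * r (red n j)
      rw [map_add, sr_mul_r]
    · show r (red n ((n : ZMod (2 * n)) + j - i)) = sr (red n i) * sr (red n j)
      rw [map_sub, map_add, red_n, zero_add, sr_mul_sr]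

theorem toDihedral_a (n : ℕ) (i : ZMod (2 * n)) : toDihedral n (a i) = r (red n i) := rfl
theorem toDihedral_xa (n : ℕ) (i : ZMod (2 * n)) : toDihedral n (xa i) = sr (red n i) := rfl

theorem red_eq_zero {n : ℕ} [NeZero n] (i : ZMod (2 * n)) (h : red n i = 0) :
    i = 0 ∨ i = (n : ZMod (2 * n)) := by
  have : NeZero (2 * n) := ⟨Nat.mul_ne_zero (by norm_num) (NeZero.ne n)⟩
  unfold red at h
  rw [ZMod.castHom_apply, ← ZMod.natCast_val, ZMod.natCast_eq_zero_iff] at h
  obtain ⟨q, hq⟩ := h
  have hlt := ZMod.val_lt i
  have hn : 0 < n := Nat.pos_of_ne_zero (NeZero.ne n)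
  have hq2 : q < 2 := by
    by_contra hq2
    have : 2 ≤ q := by omega
    have : n * 2 ≤ n * q := Nat.mul_le_mul_left n this
    omega
  rw [← ZMod.natCast_zmod_val i, hq]
  interval_cases q
  · left; simp
  · right; simp

theorem mem_ker_toDihedral {n : ℕ} [NeZero n] (g : QuaternionGroup n)
    (hg : g ∈ (toDihedral n).ker) : g = 1 ∨ g = a (n : ZMod (2 * n)) := by
  rw [MonoidHom.mem_ker] at hg
  rcases g with i | i
  · rw [toDihedral_a, DihedralGroup.one_def] at hg
    have h0 : red n i = 0 := by injection hg
    rcases red_eq_zero i h0 with h | h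
    · left; rw [h]; rfl
    · right; rw [h]
  · rw [toDihedral_xa, DihedralGroup.one_def] at hg
    exact absurd hg (by intro h; injection h)


/-- For even `n ≥ 2` the dicyclic group of order `4 n` is a stem extension of the dihedral group of order `2 n` with kernel of order `2`: there is a surjective homomorphism `QuaternionGroup n →* DihedralGroup n` whose kernel is central, lies in the commutator subgroup and has two elements. Together with the order of the multiplier this exhibits the dicyclic group as a Schur covering group of the dihedral group. -/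
theorem result (n : ℕ) [NeZero n] (hn : Even n) : ∃ σ : QuaternionGroup n →* DihedralGroup n, Cfsg.IsStemExtension σ ∧ Nat.card σ.ker = 2 := by
  have hn0 : n ≠ 0 := NeZero.ne n
  have h2n : ((2 * n : ℕ) : ZMod (2 * n)) = 0 := ZMod.natCast_self _
  refine ⟨toDihedral n, ⟨?_, ?_, ?_⟩, ?_⟩
  · -- surjective
    have hs : Function.Surjective (red n) := ZMod.castHom_surjective _
    rintro (k | k)
    · obtain ⟨i, rfl⟩ := hs k
      exact ⟨a i, rfl⟩
    · obtain ⟨i, rfl⟩ := hs k
      exact ⟨xa i, rfl⟩
  · -- central
    intro g hg
    rcases mem_ker_toDihedral g hg with rfl | rfl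
    · exact Subgroup.one_mem _
    · rw [Subgroup.mem_center_iff]
      rintro (j | j)
      · rw [a_mul_a, a_mul_a, add_comm]
      · rw [xa_mul_a, a_mul_xa]
        congr 1
        have : (n : ZMod (2 * n)) + n = 0 := by
          rw [← two_mul]; exact_mod_cast h2n
        linear_combination this
  · -- in the commutator subgroup
    intro g hg
    rcases mem_ker_toDihedral g hg with rfl | rfl
    · exact Subgroup.one_mem _
    · obtain ⟨m, hm⟩ := hn
      have hcomm : ⁅(xa 0 : QuaternionGroup n), a (-(m : ZMod (2 * n)))⁆ =
          a (n : ZMod (2 * n)) := by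
        rw [commutatorElement_def]
        have h1 : (xa (0 : ZMod (2 * n)) : QuaternionGroup n)⁻¹ = xa ((n : ZMod (2 * n)) + 0) := rfl
        have h2 : (a (-(m : ZMod (2 * n))) : QuaternionGroup n)⁻¹ = a (-(-(m : ZMod (2 * n)))) := rfl
        rw [h1, h2, xa_mul_a, xa_mul_xa, a_mul_a]
        congr 1
        have h3 : (n : ZMod (2 * n)) = (m : ZMod (2 * n)) + m := by
          rw [hm]; push_cast; ring
        have h4 : (n : ZMod (2 * n)) + n = 0 := by
          rw [← two_mul]; exact_mod_cast h2n
        rw [h3] at h4 ⊢
        linear_combination h4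
      rw [← hcomm]
      exact Subgroup.commutator_mem_commutator (Subgroup.mem_top _) (Subgroup.mem_top _)
  · -- the kernel has two elements
    have hsurj : Function.Surjective (toDihedral n) := by
      have hs : Function.Surjective (red n) := ZMod.castHom_surjective _
      rintro (k | k)
      · obtain ⟨i, rfl⟩ := hs k
        exact ⟨a i, rfl⟩
      · obtain ⟨i, rfl⟩ := hs k
        exact ⟨xa i, rfl⟩
    have h1 := (toDihedral n).ker.card_mul_index
    have hQ : Nat.card (QuaternionGroup n) = 4 * n := by
      rw [Nat.card_eq_fintype_card, QuaternionGroup.card]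
    rw [Subgroup.index_ker, MonoidHom.range_eq_top.2 hsurj, Subgroup.card_top,
      DihedralGroup.nat_card, hQ] at h1
    have h2 : Nat.card ↥(toDihedral n).ker * (2 * n) = 2 * (2 * n) := by rw [h1]; ring
    exact Nat.eq_of_mul_eq_mul_right (Nat.pos_of_ne_zero (Nat.mul_ne_zero (by norm_num) hn0)) h2

end Cfsg.Agent.S3966
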