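import Cfsg.Statements.S4337
import Mathlib
import Cfsg.Agent.S0144

set_option autoImplicit false
open Cfsg

namespace Cfsg.Agent.S4337

open Equiv

section helpers
variable {α : Type*} [DecidableEq α] [Fintype α]

theorem perm_solvable_of_card_le_four {β : Type*} [DecidableEq β] [Fintype β]
    (h : Fintype.card β ≤ 4) : Group.IsSolvable (Perm β) := by
  have hc : Nat.card (Perm β) = (Fintype.card β).factorial := by
    rw [Nat.card_eq_fintype_card, Fintype.card_perm]
  have : ∃ a b : ℕ, Nat.card (Perm β) = 2 ^ a * 3 ^ b := by
    rw [hc]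
    interval_cases (Fintype.card β)
    · exact ⟨0, 0, by decide⟩
    · exact ⟨0, 0, by decide⟩
    · exact ⟨1, 0, by decide⟩
    · exact ⟨1, 1, by decide⟩
    · exact ⟨3, 1, by decide⟩
  obtain ⟨a, b, hab⟩ := this
  exact Cfsg.Agent.S0144.result 2 3 a b Nat.prime_two Nat.prime_three hab

theorem solvable_of_support_subset (Ω : Finset α) (hΩ : Ω.card ≤ 4) (H : Subgroup (Perm α))
    (hH : ∀ f ∈ H, f.support ⊆ Ω) : Group.IsSolvable H := by
  haveI : Group.IsSolvable (Perm {x // x ∈ Ω}) := by
    apply perm_solvable_of_card_le_four
    rw [Fintype.card_coe]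
    exact hΩ
  let φ : Perm {x // x ∈ Ω} →* Perm α := Perm.ofSubtype
  haveI : Group.IsSolvable φ.range := Group.isSolvable_of_surjective φ.rangeRestrict_surjective
  have hle : H ≤ φ.range := by
    intro f hf
    have hsup := hH f hf
    have h2 : ∀ x, f x ≠ x → x ∈ Ω := fun x hx => hsup (Perm.mem_support.2 hx)
    have h1 : ∀ x, f x ∈ Ω ↔ x ∈ Ω := by
      intro x
      by_cases hx : f x = x
      · rw [hx]
      · constructor
        · intro _
          exact h2 x hx
        · intro _
          apply h2 (f x)
          intro h3
          exact hx (f.injective h3)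
    exact ⟨f.subtypePerm h1, Perm.ofSubtype_subtypePerm h1 h2⟩
  exact Group.isSolvable_of_isSolvable_injective (Subgroup.inclusion_injective hle)

theorem support_subset_of_mem_closure (S : Set (Perm α)) (Ω : Finset α)
    (h : ∀ s ∈ S, s.support ⊆ Ω) : ∀ f ∈ Subgroup.closure S, f.support ⊆ Ω := by
  intro f hf
  induction hf using Subgroup.closure_induction with
  | mem x hx => exact h x hx
  | one => simp
  | mul x y _ _ hx hy => exact (Perm.support_mul_le x y).trans (Finset.union_subset hx hy)
  | inv x _ hx => rwa [Perm.support_inv]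

/-- adjoining a central generator to a solvable subgroup -/
theorem solvable_closure_of_central {G : Type*} [Group G] (a b c : G) (hca : Commute c a)
    (hcb : Commute c b) (hK : Group.IsSolvable (Subgroup.closure ({a, b} : Set G))) :
    Group.IsSolvable (Subgroup.closure ({a, b, c} : Set G)) := by
  set K := Subgroup.closure ({a, b} : Set G) with hKdef
  set C := Subgroup.zpowers c with hC
  have hKc : K ≤ Subgroup.centralizer ({c} : Set G) := by
    rw [hKdef, Subgroup.closure_le]
    rintro x (rfl | rfl)
    · exact Subgroup.mem_centralizer_singleton_iff.2 hca.symm.eq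
    · exact Subgroup.mem_centralizer_singleton_iff.2 hcb.symm.eq
  have hcomm : ∀ (k : K) (z : C), Commute (K.subtype k) (C.subtype z) := by
    rintro ⟨k, hk⟩ ⟨z, hz⟩
    obtain ⟨m, rfl⟩ := Subgroup.mem_zpowers_iff.1 hz
    have h1 : Commute k c := (Subgroup.mem_centralizer_singleton_iff.1 (hKc hk))
    exact h1.zpow_right m
  let φ : K × C →* G := MonoidHom.noncommCoprod K.subtype C.subtype hcomm
  haveI : Group.IsSolvable C := by
    apply isSolvable_of_comm
    rintro ⟨x, hx⟩ ⟨y, hy⟩
    obtain ⟨m, rfl⟩ := Subgroup.mem_zpowers_iff.1 hx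
    obtain ⟨k, rfl⟩ := Subgroup.mem_zpowers_iff.1 hy
    apply Subtype.ext
    exact zpow_mul_comm c m k
  haveI : Group.IsSolvable φ.range := Group.isSolvable_of_surjective φ.rangeRestrict_surjective
  have hle : Subgroup.closure ({a, b, c} : Set G) ≤ φ.range := by
    rw [Subgroup.closure_le]
    rintro x (rfl | rfl | rfl)
    · refine ⟨(⟨x, Subgroup.subset_closure (by simp)⟩, 1), ?_⟩
      simp [φ]
    · refine ⟨(⟨x, Subgroup.subset_closure (by simp)⟩, 1), ?_⟩
      simp [φ]
    · refine ⟨(1, ⟨x, Subgroup.mem_zpowers x⟩), ?_⟩
      simp [φ]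
  exact Group.isSolvable_of_isSolvable_injective (Subgroup.inclusion_injective hle)

theorem card_union_le_three (s t : Finset α) (hs : s.card = 2) (ht : t.card = 2)
    (h : ¬ Disjoint s t) : (s ∪ t).card ≤ 3 := by
  have h1 := Finset.card_union_add_card_inter s t
  have h2 : 0 < (s ∩ t).card := by
    rw [Finset.card_pos, ← Finset.not_disjoint_iff_nonempty_inter]
    exact h
  omega

theorem card_union_le_four (s t u : Finset α) (hs : s.card = 2) (ht : t.card = 2)
    (hu : u.card = 2) (h1 : ¬ Disjoint s t) (h2 : ¬ Disjoint (s ∪ t) u) :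
    (s ∪ t ∪ u).card ≤ 4 := by
  have h3 := card_union_le_three s t hs ht h1
  have h4 := Finset.card_union_add_card_inter (s ∪ t) u
  have h5 : 0 < ((s ∪ t) ∩ u).card := by
    rw [Finset.card_pos, ← Finset.not_disjoint_iff_nonempty_inter]
    exact h2
  omega

theorem not_disjoint_support_of_not_commute {f g : Perm α} (h : ¬ Commute f g) :
    ¬ Disjoint f.support g.support := by
  intro hd
  exact h (Perm.Disjoint.commute (Perm.disjoint_iff_disjoint_support.2 hd))

/-- the connected case -/
theorem solvable_connected (a b c : Perm α) (ha : a.IsSwap) (hb : b.IsSwap) (hc : c.IsSwap)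
    (hab : ¬ Commute a b) (h3 : ¬ Commute a c ∨ ¬ Commute b c) :
    Group.IsSolvable (Subgroup.closure ({a, b, c} : Set (Perm α))) := by
  have ha2 := Perm.card_support_eq_two.2 ha
  have hb2 := Perm.card_support_eq_two.2 hb
  have hc2 := Perm.card_support_eq_two.2 hc
  have h1 := not_disjoint_support_of_not_commute hab
  have h2 : ¬ Disjoint (a.support ∪ b.support) c.support := by
    rw [Finset.disjoint_union_left]
    rintro ⟨h4, h5⟩
    rcases h3 with h | h
    · exact not_disjoint_support_of_not_commute h h4
    · exact not_disjoint_support_of_not_commute h h5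
  have hcard := card_union_le_four _ _ _ ha2 hb2 hc2 h1 h2
  apply solvable_of_support_subset _ hcard
  apply support_subset_of_mem_closure
  rintro x (rfl | rfl | rfl)
  · intro y hy
    simp [hy]
  · intro y hy
    simp [hy]
  · intro y hy
    simp [hy]

theorem solvable_pair (a b : Perm α) (ha : a.IsSwap) (hb : b.IsSwap) :
    Group.IsSolvable (Subgroup.closure ({a, b} : Set (Perm α))) := by
  have ha2 := Perm.card_support_eq_two.2 ha
  have hb2 := Perm.card_support_eq_two.2 hb
  have hcard : (a.support ∪ b.support).card ≤ 4 := by
    have := Finset.card_union_le a.support b.support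
    omega
  apply solvable_of_support_subset _ hcard
  apply support_subset_of_mem_closure
  rintro x (rfl | rfl)
  · exact Finset.subset_union_left
  · exact Finset.subset_union_right

theorem main (a b c : Perm α) (ha : a.IsSwap) (hb : b.IsSwap) (hc : c.IsSwap) :
    Group.IsSolvable (Subgroup.closure ({a, b, c} : Set (Perm α))) := by
  by_cases hab : Commute a b
  · by_cases hac : Commute a c
    · -- `a` central
      have e : ({a, b, c} : Set (Perm α)) = {b, c, a} := by
        ext x; simp only [Set.mem_insert_iff, Set.mem_singleton_iff]; tauto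
      rw [e]
      exact solvable_closure_of_central b c a hab hac (solvable_pair b c hb hc)
    · by_cases hbc : Commute b c
      · -- `b` central
        have e : ({a, b, c} : Set (Perm α)) = {a, c, b} := by
          ext x; simp only [Set.mem_insert_iff, Set.mem_singleton_iff]; tauto
        rw [e]
        exact solvable_closure_of_central a c b hab.symm hbc (solvable_pair a c ha hc)
      · -- `a c` and `b c` do not commute
        have e : ({a, b, c} : Set (Perm α)) = {a, c, b} := by
          ext x; simp only [Set.mem_insert_iff, Set.mem_singleton_iff]; tauto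
        rw [e]
        exact solvable_connected a c b ha hc hb hac (Or.inr (fun h => hbc h.symm))
  · by_cases hac : Commute a c
    · by_cases hbc : Commute b c
      · exact solvable_closure_of_central a b c hac.symm hbc.symm (solvable_pair a b ha hb)
      · exact solvable_connected a b c ha hb hc hab (Or.inr hbc)
    · exact solvable_connected a b c ha hb hc hab (Or.inl hac)

end helpers

/-- In a finite symmetric group, any three transpositions generate a solvable subgroup. -/
theorem result (n : ℕ) (a b c : Equiv.Perm (Fin n))
    (ha : a.IsSwap) (hb : b.IsSwap) (hc : c.IsSwap) :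
    Group.IsSolvable (Subgroup.closure ({a, b, c} : Set (Equiv.Perm (Fin n)))) := by
  exact main a b c ha hb hc

end Cfsg.Agent.S4337
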