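import Cfsg.Statements.S0379
import Cfsg.Agent.Lib.Helper9.M24Q4

set_option autoImplicit false
open Cfsg

namespace Cfsg.Agent.S0379

/-- A two-point stabiliser in the group of the length-24 code is simple. -/
theorem result (p q : Cfsg.GolayPt) (hpq : p ≠ q) : IsSimpleGroup ↥(MulAction.stabilizer Cfsg.M24 p ⊓ MulAction.stabilizer Cfsg.M24 q) := by
  have e := Cfsg.Agent.Lib.Helper9.M24Q3.subEquiv Cfsg.M24
    (MulAction.stabilizer Cfsg.M24 p ⊓ MulAction.stabilizer Cfsg.M24 q)
    (Cfsg.Agent.Lib.Helper9.M24T3.fixL Cfsg.M24 [p, q])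
    (Cfsg.Agent.Lib.Helper9.M24T3.fixL_le _ _) (by
      intro g
      rw [Subgroup.mem_inf, MulAction.mem_stabilizer_iff, MulAction.mem_stabilizer_iff,
        Cfsg.Agent.Lib.Helper9.M24T3.mem_fixL]
      constructor
      · intro h
        refine ⟨g.2, ?_⟩
        intro b hb
        simp only [List.mem_cons, List.not_mem_nil, or_false] at hb
        rcases hb with rfl | rfl
        · exact h.1
        · exact h.2
      · intro h
        exact ⟨h.2 p (by simp), h.2 q (by simp)⟩)
  haveI := Cfsg.Agent.Lib.Helper9.M24Q3.m22_simple p q hpq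
  exact e.isSimpleGroup

end Cfsg.Agent.S0379
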