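import Cfsg.Statements.S1372
import Cfsg.Agent.S1430
import Cfsg.Agent.S1431
import Cfsg.Agent.S1417
import Cfsg.Agent.S1421
import Cfsg.Agent.S1360
import Cfsg.Agent.S1365
import Cfsg.Agent.Lib.Helper1.BGG17

set_option autoImplicit false
open Cfsg

namespace Cfsg.Agent.S1372

/-- Let G be a minimal simple group of odd order and M a maximal subgroup with standard factorisation M = K U M_σ, K ≠ 1 and U ≠ 1. Then K has prime order, and the Fitting subgroup F(M) contains M_σ and is a TI-subset of G. -/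
theorem result {G : Type*} [Group G] [Finite G] (hG : Cfsg.IsMinSimpleOddOrder G)
    (M : Subgroup G) (hM : IsCoatom M) (K U : Subgroup G) (hKU : Cfsg.IsSigmaDecomposition M K U) (hK1 : K ≠ ⊥) (hU1 : U ≠ ⊥) :
    (Nat.card K).Prime ∧ Cfsg.IsTISubset (Cfsg.fittingOf M : Set G) ∧ Cfsg.sigmaCore M ≤ Cfsg.fittingOf M := by
  open Cfsg.Agent.Lib.Helper7 Cfsg.Agent.Lib.Helper7.BGRows in
  have h1430 : Row1430 G := fun hG M hM K hK hK1 => Cfsg.Agent.S1430.result hG M hM K hK hK1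
  open Cfsg.Agent.Lib.Helper7 Cfsg.Agent.Lib.Helper7.BGRows in
  have h1431 : Row1431 G := fun hG M hM K hK hK1 => Cfsg.Agent.S1431.result hG M hM K hK hK1
  open Cfsg.Agent.Lib.Helper7 Cfsg.Agent.Lib.Helper7.BGRows in
  have h1417 : Row1417 G := fun hG M hM p _ hp A hA => Cfsg.Agent.S1417.result hG M hM p hp A hA
  open Cfsg.Agent.Lib.Helper7 Cfsg.Agent.Lib.Helper7.BGRows in
  have h1421 : Row1421 G := fun hG M hM E hE h => Cfsg.Agent.S1421.result hG M hM E hE h
  open Cfsg.Agent.Lib.Helper7 Cfsg.Agent.Lib.Helper7.BGRows in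
  have h1439 : Row1439 G := BGK.s1439_of h1417 h1421 h1430 h1431
  open Cfsg.Agent.Lib.Helper7 Cfsg.Agent.Lib.Helper7.BGRows in
  have h1360 : Row1360 G := fun hG M hM K U hKU => Cfsg.Agent.S1360.result hG M hM K U hKU
  open Cfsg.Agent.Lib.Helper7 Cfsg.Agent.Lib.Helper7.BGRows in
  have h1365 : Row1365 G := fun hG M hM K U hKU hK1 => Cfsg.Agent.S1365.result hG M hM K U hKU hK1
  exact Cfsg.Agent.Lib.Helper1.BGG.s1372_of h1430 h1431 h1439 h1360 h1365 hG M hM K U hKU hK1 hU1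

end Cfsg.Agent.S1372
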