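import Cfsg.Statements.S1320
import Mathlib
import Cfsg.Agent.Lib.Helper8.LayerSub

set_option autoImplicit false
open Cfsg

namespace Cfsg.Agent.S1320

open Cfsg.Agent.Lib.Helper8 in
/-- `F*(A) ∩ B ≤ F*(B)` for a normal subgroup `B`. -/
theorem inf_le {A : Type*} [Group A] [Finite A] (B : Subgroup A) [hB : B.Normal] :
    Cfsg.generalizedFittingSubgroup A ⊓ B ≤
      (Cfsg.generalizedFittingSubgroup ↥B).map B.subtype := by
  classical
  have hFn : (Cfsg.fittingSubgroup A).Normal := Cfsg.Agent.Lib.Helper2.fittingSubgroup_normal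
  have hFnil : Group.IsNilpotent ↥(Cfsg.fittingSubgroup A) :=
    Cfsg.Agent.Lib.Helper2.fittingSubgroup_isNilpotent
  set S₁ : Set (Subgroup A) := {L | Cfsg.IsComponent L ∧ L ≤ B} with hS₁
  set S₂ : Set (Subgroup A) := {L | Cfsg.IsComponent L ∧ ¬ L ≤ B} with hS₂
  have hconjB : ∀ (L : Subgroup A) (g : A), L.map (MulAut.conj g).toMonoidHom ≤ B ↔ L ≤ B := by
    intro L g
    constructor
    · intro h x hx
      have h1 : g * x * g⁻¹ ∈ B := h ⟨x, hx, rfl⟩
      have h2 := hB.conj_mem _ h1 g⁻¹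
      simpa [mul_assoc] using h2
    · rintro h _ ⟨x, hx, rfl⟩
      exact hB.conj_mem x (h hx) g
  have hE₁n : (sSup S₁).Normal := by
    apply sSup_normal_of_conj
    rintro L ⟨hL, hLB⟩ g
    exact ⟨Cfsg.Agent.Lib.Helper2.isComponent_conj g hL, (hconjB L g).2 hLB⟩
  have hE₂n : (sSup S₂).Normal := by
    apply sSup_normal_of_conj
    rintro L ⟨hL, hLB⟩ g
    exact ⟨Cfsg.Agent.Lib.Helper2.isComponent_conj g hL, fun h => hLB ((hconjB L g).1 h)⟩
  have hlayer : Cfsg.layer A = sSup S₁ ⊔ sSup S₂ := by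
    rw [← sSup_union]
    unfold Cfsg.layer
    congr 1
    ext L
    simp only [hS₁, hS₂, Set.mem_union, Set.mem_ofPred_eq]
    tauto
  have hE₁B : sSup S₁ ≤ (Cfsg.layer ↥B).map B.subtype := by
    apply sSup_le
    rintro L ⟨hL, hLB⟩
    exact le_layer_map hL hLB
  have hE₂B : ⁅sSup S₂, B⁆ = ⊥ := by
    rw [eq_bot_iff]
    apply Cfsg.Agent.Lib.Helper2.commutator_sSup_le
    rintro L ⟨hL, hLB⟩
    rcases Cfsg.Agent.Lib.Helper2.isComponent_le_or_commutator_eq_bot hL hB.isSubnormal with h | h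
    · exact absurd h hLB
    · rw [Subgroup.commutator_comm, h]
  have hE₂F : ⁅sSup S₂, Cfsg.fittingSubgroup A⁆ = ⊥ := by
    rw [eq_bot_iff, ← commutator_layer_fitting (G := A), hlayer]
    exact Subgroup.commutator_mono le_sup_right le_rfl
  -- the centre of `E₂` lies in the Fitting subgroup
  have hZ : sSup S₂ ⊓ Subgroup.centralizer ((sSup S₂ : Subgroup A) : Set A) ≤ Cfsg.fittingSubgroup A := by
    have : (Subgroup.centralizer ((sSup S₂ : Subgroup A) : Set A)).Normal := Subgroup.normal_centralizer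
    apply Cfsg.Agent.Lib.Helper2.le_fittingSubgroup
    apply isNilpotent_subgroup_of_comm
    rintro a ⟨ha1, ha2⟩ b ⟨hb1, hb2⟩
    exact (Subgroup.mem_centralizer_iff.1 ha2 b hb1).symm
  rintro x ⟨hxF, hxB⟩
  unfold Cfsg.generalizedFittingSubgroup at hxF
  rw [hlayer, sup_assoc] at hxF
  have hx' : x ∈ ((sSup S₁ ⊔ (sSup S₂ ⊔ Cfsg.fittingSubgroup A) : Subgroup A) : Set A) := hxF
  rw [Subgroup.normal_mul] at hx'
  obtain ⟨e₁, he₁, y, hy, rfl⟩ := hx'
  have hy' : y ∈ ((sSup S₂ ⊔ Cfsg.fittingSubgroup A : Subgroup A) : Set A) := hy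
  rw [Subgroup.normal_mul] at hy'
  obtain ⟨e₂, he₂, f, hf, rfl⟩ := hy'
  have he₁B : e₁ ∈ B := Subgroup.map_subtype_le _ (hE₁B he₁)
  have hyB : e₂ * f ∈ B := by
    have : e₂ * f = e₁⁻¹ * (e₁ * (e₂ * f)) := by group
    rw [this]
    exact B.mul_mem (B.inv_mem he₁B) hxB
  -- `e₂` is central in `E₂`
  have he₂c : e₂ ∈ Subgroup.centralizer ((sSup S₂ : Subgroup A) : Set A) := by
    rw [Subgroup.commutator_eq_bot_iff_le_centralizer] at hE₂B hE₂F
    rw [Subgroup.mem_centralizer_iff]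
    intro z hz
    have h1 : z * (e₂ * f) = (e₂ * f) * z :=
      (Subgroup.mem_centralizer_iff.1 (hE₂B hz) _ hyB).symm
    have h2 : z * f = f * z := (Subgroup.mem_centralizer_iff.1 (hE₂F hz) _ hf).symm
    calc z * e₂ = z * (e₂ * f) * f⁻¹ := by group
      _ = e₂ * f * z * f⁻¹ := by rw [h1]
      _ = e₂ * (f * z) * f⁻¹ := by group
      _ = e₂ * (z * f) * f⁻¹ := by rw [h2]
      _ = e₂ * z := by group
  have he₂F : e₂ ∈ Cfsg.fittingSubgroup A := hZ ⟨he₂, he₂c⟩
  have hyF : e₂ * f ∈ Cfsg.fittingSubgroup A ⊓ B :=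
    ⟨(Cfsg.fittingSubgroup A).mul_mem he₂F hf, hyB⟩
  have hFB : Cfsg.fittingSubgroup A ⊓ B ≤ (Cfsg.fittingSubgroup ↥B).map B.subtype := by
    apply le_fittingSubgroup_map inf_le_right
    · have : (Cfsg.fittingSubgroup A ⊓ B).Normal := inferInstance
      rw [Subgroup.normalizer_eq_top]
      exact le_top
    · exact (Group.isNilpotent_congr (Subgroup.subgroupOfEquivOfLe
        (inf_le_left : Cfsg.fittingSubgroup A ⊓ B ≤ Cfsg.fittingSubgroup A))).1 inferInstance
  unfold Cfsg.generalizedFittingSubgroup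
  rw [Subgroup.map_sup]
  exact Subgroup.mul_mem_sup (hE₁B he₁) (hFB hyF)

/-- Let B be a normal subgroup of the finite group A. Then F*(A) ∩ B = F*(B). -/
theorem result {A : Type*} [Group A] [Finite A] (B : Subgroup A) [B.Normal] : Cfsg.generalizedFittingSubgroup A ⊓ B = (Cfsg.generalizedFittingSubgroup ↥B).map B.subtype := by
  apply le_antisymm (inf_le B)
  apply le_inf _ (Subgroup.map_subtype_le _)
  have hB : B.Normal := inferInstance
  unfold Cfsg.generalizedFittingSubgroup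
  rw [Subgroup.map_sup]
  apply sup_le
  · exact (Cfsg.Agent.Lib.Helper8.layer_map_le hB.isSubnormal).trans le_sup_left
  · exact (Cfsg.Agent.Lib.Helper1.fittingSubgroup_map_le_of_isSubnormal hB.isSubnormal).trans
      le_sup_right

end Cfsg.Agent.S1320
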