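import Mathlib
import Cfsg.Statements.S0985

namespace Cfsg.Agent.S0985

open MulAction in
/-- the stabilizer in `P` of a Sylow subgroup `R` is `R ∩ P`. -/
theorem stabilizer_sylow_eq {G : Type*} [Group G] (p : ℕ) (P R : Sylow p G) :
    stabilizer (P : Subgroup G) R = (R : Subgroup G).subgroupOf (P : Subgroup G) := by
  ext ⟨x, hx⟩
  rw [mem_stabilizer_iff, Subgroup.mem_subgroupOf]
  change x • R = R ↔ x ∈ (R : Subgroup G)
  rw [Sylow.smul_eq_iff_mem_normalizer]
  have h := IsPGroup.inf_normalizer_sylow P.2 R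
  constructor
  · intro hn
    have : x ∈ (P : Subgroup G) ⊓ Subgroup.normalizer (R : Set G) := Subgroup.mem_inf.mpr ⟨hx, hn⟩
    rw [h] at this
    exact (Subgroup.mem_inf.mp this).2
  · intro hR
    exact Subgroup.le_normalizer hR

open MulAction in
/-- the orbit of `R` under `P` has size `[P : P ∩ R]`. -/
theorem card_orbit_sylow {G : Type*} [Group G] (p : ℕ) (P R : Sylow p G) :
    Nat.card (orbit (P : Subgroup G) R) = ((R : Subgroup G).subgroupOf (P : Subgroup G)).index := by
  rw [← stabilizer_sylow_eq, index_stabilizer]; rfl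

/-- Sum over orbits. -/
theorem card_sylow_modEq_of_forall {G : Type*} [Group G] [Finite G] (p m : ℕ) [Fact p.Prime]
    (P : Sylow p G)
    (h : ∀ R : Sylow p G, R ≠ P → m ∣ ((R : Subgroup G).subgroupOf (P : Subgroup G)).index) :
    Nat.card (Sylow p G) ≡ 1 [MOD m] := by
  classical
  let Ω := MulAction.orbitRel.Quotient (P : Subgroup G) (Sylow p G)
  haveI : Fintype Ω := Fintype.ofFinite Ω
  have e := MulAction.selfEquivSigmaOrbits' (P : Subgroup G) (Sylow p G)
  rw [Nat.card_congr e, Nat.card_sigma]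
  let ω₀ : Ω := Quotient.mk'' P
  rw [← Finset.add_sum_erase Finset.univ _ (Finset.mem_univ ω₀)]
  have h0 : Nat.card (MulAction.orbitRel.Quotient.orbit ω₀) = 1 := by
    change Nat.card (MulAction.orbitRel.Quotient.orbit (Quotient.mk'' P)) = 1
    rw [MulAction.orbitRel.Quotient.orbit_mk, card_orbit_sylow, Subgroup.subgroupOf_self,
      Subgroup.index_top]
  have h1 : m ∣ ∑ ω ∈ Finset.univ.erase ω₀, Nat.card (MulAction.orbitRel.Quotient.orbit ω) := by
    apply Finset.dvd_sum
    intro ω hω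
    have hne : ω ≠ ω₀ := (Finset.mem_erase.mp hω).1
    induction ω using Quotient.inductionOn' with
    | h R =>
      rw [MulAction.orbitRel.Quotient.orbit_mk, card_orbit_sylow]
      apply h
      rintro rfl
      exact hne rfl
  obtain ⟨c, hc⟩ := h1
  rw [h0, hc]
  unfold Nat.ModEq
  rw [Nat.add_mul_mod_self_left]

theorem result {G : Type*} [Group G] [Finite G] (p k : ℕ) [Fact p.Prime] (h : ¬ Nat.card (Sylow p G) ≡ 1 [MOD p ^ k]) : ∃ P R : Sylow p G, P ≠ R ∧ ((R : Subgroup G).subgroupOf (P : Subgroup G)).index ≤ p ^ (k - 1) := by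
  have hp : p.Prime := Fact.out
  obtain ⟨P⟩ : Nonempty (Sylow p G) := inferInstance
  by_contra hcon
  push Not at hcon
  apply h
  apply card_sylow_modEq_of_forall p (p ^ k) P
  intro R hR
  have hlt := hcon P R hR.symm
  have hdvd : ((R : Subgroup G).subgroupOf (P : Subgroup G)).index ∣ Nat.card (P : Subgroup G) :=
    Subgroup.index_dvd_card _
  obtain ⟨n, hn⟩ := P.2.exists_card_eq
  rw [hn] at hdvd
  obtain ⟨j, _, hj⟩ := (Nat.dvd_prime_pow hp).mp hdvd
  rw [hj] at hlt ⊢
  have : k - 1 < j := (Nat.pow_lt_pow_iff_right hp.one_lt).mp hlt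
  exact pow_dvd_pow p (by omega)

end Cfsg.Agent.S0985
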