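import Cfsg.Statements.S2332
import Cfsg.Agent.Lib.Helper1.MNDT
import Cfsg.Agent.Lib.Helper9.MNDH

set_option autoImplicit false
open Cfsg

namespace Cfsg.Agent.S2332

open Cfsg.Agent.Lib.Lead.LS1 Cfsg.Agent.Lib.Helper1.MND
open Cfsg.Agent.Lib.Helper9.MND (exists_min)

theorem result {F : Type*} [Field F] [Fintype F] [DecidableEq F] (n : ℕ) (hn : 3 ≤ n)
    (hex : (n, Fintype.card F) ≠ (3, 2) ∧ (n, Fintype.card F) ≠ (3, 4) ∧ (n, Fintype.card F) ≠ (4, 2) ∧ (n, Fintype.card F) ≠ (4, 3)) :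
    (∀ (k : ℕ) (ρ : Representation ℂ (Matrix.SpecialLinearGroup (Fin n) F) (Fin k → ℂ)), ρ.IsIrreducible → 2 ≤ k → (Fintype.card F ^ n - Fintype.card F) / (Fintype.card F - 1) ≤ k) ∧
    (∃ ρ : Representation ℂ (Matrix.SpecialLinearGroup (Fin n) F) (Fin ((Fintype.card F ^ n - Fintype.card F) / (Fintype.card F - 1)) → ℂ), ρ.IsIrreducible) := by
  obtain ⟨m, rfl⟩ : ∃ m, n = m + 1 := ⟨n - 1, by omega⟩
  have hm : 2 ≤ m := by omega
  have hexc : ¬ Exc m (Fintype.card F) := by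
    obtain ⟨h1, h2, h3, h4⟩ := hex
    rintro (⟨rfl, h⟩ | ⟨rfl, h⟩ | ⟨rfl, h⟩ | ⟨rfl, h⟩)
    · exact h1 (by rw [h])
    · exact h2 (by rw [h])
    · exact h3 (by rw [h])
    · exact h4 (by rw [h])
  have e : Fin (m + 1) ≃ Unit ⊕ Fin m := Fintype.equivOfCardEq (by simp [add_comm])
  constructor
  · intro k ρ hρ hk
    have h := good_all hm hexc k
      (MonoidHom.comp ρ (reindexHom F e) : Representation ℂ (GG m F) (Fin k → ℂ))
      (isIrreducible_comp ρ _ (reindexHom_surjective F e) hρ) hk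
    exact h
  · obtain ⟨ρ, hρ⟩ := exists_min (F := F) hm
    exact ⟨(MonoidHom.comp ρ (reindexHom F e.symm) :
      Representation ℂ (Matrix.SpecialLinearGroup (Fin (m + 1)) F) _),
      isIrreducible_comp ρ _ (reindexHom_surjective F e.symm) hρ⟩

end Cfsg.Agent.S2332
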