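import Cfsg.Statements.S1282
import Mathlib
import Cfsg.Agent.Lib.Helper8.Hyperplane
import Cfsg.Agent.Lib.Helper7.ProdSet
import Cfsg.Agent.Lib.Helper2.Nilpotent
import Cfsg.Agent.Lib.Helper1.Coprime

set_option autoImplicit false
open Cfsg

namespace Cfsg.Agent.S1282

theorem exists_coatom {G : Type*} [Group G] [Finite G] {p : ℕ} [Fact p.Prime] {A N D : Subgroup G}
    (hAc : IsMulCommutative ↥A) (hAe : ∀ a ∈ A, a ^ p = 1) (hA1 : A ≠ ⊥)
    (hAN : A ≤ Subgroup.normalizer (N : Set G)) (hN : ¬ p ∣ Nat.card ↥N) (hND : ¬ N ≤ D) :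
    ∃ V : Subgroup G, V ≤ A ∧ V.relIndex A = p ∧
      ¬ (N ⊓ Subgroup.centralizer (V : Set G) ≤ D) := by
  by_contra hcon
  push Not at hcon
  apply hND
  apply Cfsg.Agent.Lib.Helper7.le_of_coatom_centralizers_le A N D hAc hAe hA1 hAN hN
  intro V hVA hco
  exact hcon V hVA (Cfsg.Agent.Lib.Helper8.Hyperplane.relIndex_eq_of_isCoatom hAc hAe hVA hco)

/-- Let A be an elementary abelian p-subgroup of rank at least 3 of the finite group G, q ≠ p a prime, and Q₁, Q₂ q-subgroups normalized by A with D = Q₁ ∩ Q₂ different from both. Then there is a non-identity a ∈ A such that, for i = 1 and i = 2, N_{Q_i}(D) ∩ C_G(a) is not contained in D. -/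
theorem result {G : Type*} [Group G] [Finite G] (p : ℕ) [Fact p.Prime] (A : Subgroup G) (hA : Cfsg.IsElementaryAbelian p A) (hA3 : p ^ 3 ≤ Nat.card ↥A) (q : ℕ) [Fact q.Prime] (hqp : q ≠ p) (Q₁ Q₂ : Subgroup G) (h₁ : IsPGroup q ↥Q₁) (h₂ : IsPGroup q ↥Q₂) (hA₁ : A ≤ Subgroup.normalizer (Q₁ : Set G)) (hA₂ : A ≤ Subgroup.normalizer (Q₂ : Set G)) (hD₁ : Q₁ ⊓ Q₂ ≠ Q₁) (hD₂ : Q₁ ⊓ Q₂ ≠ Q₂) : ∃ a ∈ A, a ≠ 1 ∧ ¬ (Subgroup.normalizer ((Q₁ ⊓ Q₂ : Subgroup G) : Set G) ⊓ Q₁ ⊓ Subgroup.centralizer {a} ≤ Q₁ ⊓ Q₂) ∧ ¬ (Subgroup.normalizer ((Q₁ ⊓ Q₂ : Subgroup G) : Set G) ⊓ Q₂ ⊓ Subgroup.centralizer {a} ≤ Q₁ ⊓ Q₂) := by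
  obtain ⟨hAc, hAe⟩ := hA
  have hp : p.Prime := Fact.out
  have hq : q.Prime := Fact.out
  have hA1 : A ≠ ⊥ := by
    intro h
    rw [h, Subgroup.card_bot] at hA3
    have := hp.one_lt
    have h3 : 1 < p ^ 3 := Nat.one_lt_pow (by norm_num) this
    omega
  set D := Q₁ ⊓ Q₂ with hD
  have hAD : A ≤ Subgroup.normalizer (D : Set G) :=
    Cfsg.Agent.Lib.Helper1.le_normalizer_inf hA₁ hA₂
  have hcard : ∀ Q : Subgroup G, IsPGroup q ↥Q → ∀ N : Subgroup G, N ≤ Q → ¬ p ∣ Nat.card ↥N := by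
    intro Q hQ N hNQ hd
    obtain ⟨k, hk⟩ := IsPGroup.iff_card.1 (hQ.to_le hNQ)
    rw [hk] at hd
    have := (Nat.prime_dvd_prime_iff_eq hp hq).1 (hp.dvd_of_dvd_pow hd)
    exact hqp this.symm
  have hgrow : ∀ Q : Subgroup G, IsPGroup q ↥Q → D ≤ Q → D ≠ Q →
      ¬ (Subgroup.normalizer (D : Set G) ⊓ Q ≤ D) := by
    intro Q hQ hDQ hne hle
    have hnil : Group.IsNilpotent ↥Q := hQ.isNilpotent
    obtain ⟨x, hxQ, hxN, hxD⟩ :=
      Cfsg.Agent.Lib.Helper2.exists_mem_normalizer_not_mem hnil (lt_of_le_of_ne hDQ hne)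
    exact hxD (hle ⟨hxN, hxQ⟩)
  have hinv : ∀ Q : Subgroup G, A ≤ Subgroup.normalizer (Q : Set G) →
      A ≤ Subgroup.normalizer ((Subgroup.normalizer (D : Set G) ⊓ Q : Subgroup G) : Set G) := by
    intro Q hQ
    exact Cfsg.Agent.Lib.Helper1.le_normalizer_inf (hAD.trans Subgroup.le_normalizer) hQ
  obtain ⟨V₁, hV₁A, hV₁p, hV₁⟩ := exists_coatom (p := p) hAc hAe hA1 (hinv Q₁ hA₁)
    (hcard Q₁ h₁ _ inf_le_right) (hgrow Q₁ h₁ inf_le_left hD₁)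
  obtain ⟨V₂, hV₂A, hV₂p, hV₂⟩ := exists_coatom (p := p) hAc hAe hA1 (hinv Q₂ hA₂)
    (hcard Q₂ h₂ _ inf_le_right) (hgrow Q₂ h₂ inf_le_right hD₂)
  have hc1 := Cfsg.Agent.Lib.Helper8.Hyperplane.relIndex_mul_card hV₁A
  have hc2 := Cfsg.Agent.Lib.Helper8.Hyperplane.relIndex_mul_card hV₂A
  rw [hV₁p] at hc1
  rw [hV₂p] at hc2
  have hne : V₁ ⊓ V₂ ≠ ⊥ := by
    intro hbot
    have h1 := Cfsg.Agent.Lib.Helper7.card_mul_card_le_card_sup_mul_card_inf V₁ V₂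
    rw [hbot, Subgroup.card_bot, mul_one] at h1
    have h2 : Nat.card ↥(V₁ ⊔ V₂) ≤ Nat.card ↥A :=
      Nat.le_of_dvd Nat.card_pos (Subgroup.card_dvd_of_le (sup_le hV₁A hV₂A))
    have h3 : Nat.card ↥V₁ * Nat.card ↥V₂ ≤ Nat.card ↥A := h1.trans h2
    have h4 : p * p * (Nat.card ↥V₁ * Nat.card ↥V₂) = Nat.card ↥A * Nat.card ↥A := by
      calc p * p * (Nat.card ↥V₁ * Nat.card ↥V₂)
          = (p * Nat.card ↥V₁) * (p * Nat.card ↥V₂) := by ring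
        _ = Nat.card ↥A * Nat.card ↥A := by rw [hc1, hc2]
    have h5 : p * p * Nat.card ↥A ≥ Nat.card ↥A * Nat.card ↥A := by
      rw [← h4]; exact Nat.mul_le_mul_left _ h3
    have hpos : 0 < Nat.card ↥A := Nat.card_pos
    have h6 : Nat.card ↥A ≤ p * p := by
      by_contra hlt
      push Not at hlt
      have := Nat.mul_lt_mul_of_pos_right hlt hpos
      omega
    have h7 : p * p < p ^ 3 := by
      have : p ^ 3 = p * p * p := by ring
      rw [this]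
      have h1 := hp.one_lt
      have h2 : 0 < p * p := Nat.mul_pos hp.pos hp.pos
      nlinarith
    omega
  obtain ⟨a, ha, ha1⟩ := (Subgroup.bot_or_exists_ne_one _).resolve_left hne
  refine ⟨a, hV₁A ha.1, ha1, ?_, ?_⟩
  · intro h
    apply hV₁
    refine le_trans ?_ h
    refine inf_le_inf_left _ ?_
    exact Subgroup.centralizer_le (by simpa using ha.1)
  · intro h
    apply hV₂
    refine le_trans ?_ h
    refine inf_le_inf_left _ ?_
    exact Subgroup.centralizer_le (by simpa using ha.2)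

end Cfsg.Agent.S1282
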