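import Cfsg.Statements.S3488
import Mathlib
import Cfsg.Agent.Lib.Helper5.AltOrders

set_option autoImplicit false
set_option linter.style.haveILetI false
set_option linter.unusedSimpArgs false
open Cfsg

namespace Cfsg.Agent.S3488

/-- The element orders of `A₆`. -/
theorem range_orderOf_alt6 :
    Set.range (orderOf : alternatingGroup (Fin 6) → ℕ) = ({1, 2, 3, 4, 5} : Set ℕ) := by
  ext N
  rw [Cfsg.Agent.Lib.Helper5.mem_range_orderOf_alt_iff]
  constructor
  · rintro ⟨m, hm2, hsum, hev, rfl⟩
    induction m using Multiset.induction_on with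
    | empty => simp
    | cons a m₁ _ =>
      have ha : 2 ≤ a := hm2 a (Multiset.mem_cons_self a m₁)
      have hm1 : ∀ x ∈ m₁, 2 ≤ x := fun x hx => hm2 x (Multiset.mem_cons_of_mem hx)
      rw [Multiset.sum_cons] at hsum hev
      rw [Multiset.card_cons] at hev
      rw [Multiset.lcm_cons]
      induction m₁ using Multiset.induction_on with
      | empty =>
        simp only [Multiset.sum_zero, Multiset.card_zero, Multiset.lcm_zero] at *
        have ha6 : a ≤ 6 := by omega
        interval_cases a <;> simp_all <;> revert hev <;> decide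
      | cons b m₂ _ =>
        have hb : 2 ≤ b := hm1 b (Multiset.mem_cons_self b m₂)
        have hm2' : ∀ x ∈ m₂, 2 ≤ x := fun x hx => hm1 x (Multiset.mem_cons_of_mem hx)
        rw [Multiset.sum_cons] at hsum hev
        rw [Multiset.card_cons] at hev
        rw [Multiset.lcm_cons]
        induction m₂ using Multiset.induction_on with
        | empty =>
          simp only [Multiset.sum_zero, Multiset.card_zero, Multiset.lcm_zero] at *
          have ha6 : a ≤ 4 := by omega
          have hb6 : b ≤ 4 := by omega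
          interval_cases a <;> interval_cases b <;> simp_all <;> revert hev <;> decide
        | cons c m₃ _ =>
          exfalso
          have hc : 2 ≤ c := hm2' c (Multiset.mem_cons_self c m₃)
          have hm3 : ∀ x ∈ m₃, 2 ≤ x := fun x hx => hm2' x (Multiset.mem_cons_of_mem hx)
          rw [Multiset.sum_cons] at hsum hev
          rw [Multiset.card_cons] at hev
          have h0 : m₃ = 0 := by
            by_contra hne
            obtain ⟨d, hd⟩ := Multiset.exists_mem_of_ne_zero hne
            have hd2 := hm3 d hd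
            have : d ≤ m₃.sum := Multiset.single_le_sum (by intros; omega) d hd
            omega
          subst h0
          simp only [Multiset.sum_zero, Multiset.card_zero] at *
          have : a = 2 := by omega
          have : b = 2 := by omega
          have : c = 2 := by omega
          subst_vars
          revert hev
          decide
  · intro hN
    simp only [Set.mem_insert_iff, Set.mem_singleton_iff] at hN
    rcases hN with rfl | rfl | rfl | rfl | rfl
    · exact ⟨0, by simp, by simp, by simp, by simp⟩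
    · exact ⟨{2, 2}, by simp, by simp, by decide, by decide⟩
    · exact ⟨{3}, by simp, by simp, by decide, by decide⟩
    · exact ⟨{4, 2}, by simp, by simp, by decide, by decide⟩
    · exact ⟨{5}, by simp, by simp, by decide, by decide⟩


section Field4

variable {F : Type*} [Field F] [Fintype F]

theorem two_eq_zero (hF : Fintype.card F = 4) : (2 : F) = 0 := by
  have h4 : (Fintype.card F) • (1 : F) = 0 := card_nsmul_eq_zero
  rw [hF] at h4
  have h4' : (2 : F) * 2 = 0 := by
    have : (4 : ℕ) • (1 : F) = 2 * 2 := by norm_num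
    rw [← this]; exact h4
  exact mul_self_eq_zero.mp h4'

theorem cases_elt (hF : Fintype.card F = 4) (t : F) : t = 0 ∨ t = 1 ∨ t ^ 2 + t + 1 = 0 := by
  have hp : t ^ 4 = t := by
    have := FiniteField.pow_card t
    rwa [hF] at this
  have h : t * ((t - 1) * (t ^ 2 + t + 1)) = 0 := by linear_combination hp
  rcases mul_eq_zero.mp h with h | h
  · exact Or.inl h
  · rcases mul_eq_zero.mp h with h | h
    · exact Or.inr (Or.inl (sub_eq_zero.mp h))
    · exact Or.inr (Or.inr h)

theorem exists_omega (hF : Fintype.card F = 4) : ∃ ω : F, ω ^ 2 + ω + 1 = 0 := by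
  have h2 : 2 < Fintype.card F := by omega
  obtain ⟨a, b, c, hab, hac, hbc⟩ := Fintype.two_lt_card_iff.mp h2
  rcases cases_elt hF a with ha | ha | ha
  · rcases cases_elt hF b with hb | hb | hb
    · exact absurd (ha.trans hb.symm) hab
    · rcases cases_elt hF c with hc | hc | hc
      · exact absurd (ha.trans hc.symm) hac
      · exact absurd (hb.trans hc.symm) hbc
      · exact ⟨c, hc⟩
    · exact ⟨b, hb⟩
  · rcases cases_elt hF b with hb | hb | hb
    · rcases cases_elt hF c with hc | hc | hc
      · exact absurd (hb.trans hc.symm) hbc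
      · exact absurd (ha.trans hc.symm) hac
      · exact ⟨c, hc⟩
    · exact absurd (ha.trans hb.symm) hab
    · exact ⟨b, hb⟩
  · exact ⟨a, ha⟩

/-- the key computation -/
theorem pow_cases (hF : Fintype.card F = 4) (M : Matrix (Fin 3) (Fin 3) F)
    (h0 : M 2 0 = 0) (h1 : M 2 1 = 0) (h2 : M 2 2 = 1) (hdet : M.det = 1) :
    M ^ 4 = 1 ∨ M ^ 3 = 1 ∨ M ^ 5 = 1 := by
  have hc2 := two_eq_zero hF
  obtain ⟨a, ha⟩ : ∃ a, a = M 0 0 := ⟨_, rfl⟩
  obtain ⟨b, hb⟩ : ∃ a, a = M 0 1 := ⟨_, rfl⟩
  obtain ⟨x, hx⟩ : ∃ a, a = M 0 2 := ⟨_, rfl⟩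
  obtain ⟨c, hc⟩ : ∃ a, a = M 1 0 := ⟨_, rfl⟩
  obtain ⟨d, hd⟩ : ∃ a, a = M 1 1 := ⟨_, rfl⟩
  obtain ⟨y, hy⟩ : ∃ a, a = M 1 2 := ⟨_, rfl⟩
  have hM : M = !![a, b, x; c, d, y; 0, 0, 1] := by
    ext i j
    fin_cases i <;> fin_cases j <;> simp [ha, hb, hx, hc, hd, hy, h0, h1, h2]
  have hdet' : a * d - b * c = 1 := by
    rw [hM, Matrix.det_fin_three] at hdet
    simp at hdet
    linear_combination hdet
  rw [hM]
  rcases cases_elt hF (a + d) with ht | ht | ht
  · left
    ext i j
    fin_cases i <;> fin_cases j <;>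
      simp [pow_succ, Matrix.mul_apply, Fin.sum_univ_three, Matrix.one_apply] <;> grind
  · right; left
    ext i j
    fin_cases i <;> fin_cases j <;>
      simp [pow_succ, Matrix.mul_apply, Fin.sum_univ_three, Matrix.one_apply] <;> grind
  · right; right
    ext i j
    fin_cases i <;> fin_cases j <;>
      simp [pow_succ, Matrix.mul_apply, Fin.sum_univ_three, Matrix.one_apply] <;> grind

omit [Fintype F] in
theorem last_row_of_mem (M : Matrix.SpecialLinearGroup (Fin 3) F)
    (hM : M ∈ Subgroup.closure {M : Matrix.SpecialLinearGroup (Fin 3) F |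
        (M : Matrix (Fin 3) (Fin 3) F) 2 0 = 0 ∧ (M : Matrix (Fin 3) (Fin 3) F) 2 1 = 0 ∧
          (M : Matrix (Fin 3) (Fin 3) F) 2 2 = 1}) :
    (M : Matrix (Fin 3) (Fin 3) F) 2 0 = 0 ∧ (M : Matrix (Fin 3) (Fin 3) F) 2 1 = 0 ∧
      (M : Matrix (Fin 3) (Fin 3) F) 2 2 = 1 := by
  induction hM using Subgroup.closure_induction with
  | mem x hx => exact hx
  | one => simp
  | mul x y _ _ hx hy =>
    obtain ⟨hx0, hx1, hx2⟩ := hx
    obtain ⟨hy0, hy1, hy2⟩ := hy
    simp [Matrix.SpecialLinearGroup.coe_mul, Matrix.mul_apply, Fin.sum_univ_three, hx0, hx1, hx2,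
      hy0, hy1, hy2]
  | inv x _ hx =>
    obtain ⟨hx0, hx1, hx2⟩ := hx
    have hdet := x.2
    rw [Matrix.det_fin_three] at hdet
    simp only [hx0, hx1, hx2] at hdet
    rw [Matrix.SpecialLinearGroup.coe_inv, Matrix.adjugate_fin_three]
    simp [hx0, hx1, hx2]
    linear_combination hdet

omit [Fintype F] in
theorem mem_range_of_matrix (M : Matrix (Fin 3) (Fin 3) F) (hdet : M.det = 1)
    (h0 : M 2 0 = 0) (h1 : M 2 1 = 0) (h2 : M 2 2 = 1) :
    orderOf M ∈ Set.range (orderOf : Subgroup.closure {M : Matrix.SpecialLinearGroup (Fin 3) F |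
        (M : Matrix (Fin 3) (Fin 3) F) 2 0 = 0 ∧ (M : Matrix (Fin 3) (Fin 3) F) 2 1 = 0 ∧
          (M : Matrix (Fin 3) (Fin 3) F) 2 2 = 1} → ℕ) := by
  obtain ⟨A, hA⟩ : ∃ A : Matrix.SpecialLinearGroup (Fin 3) F,
      (A : Matrix (Fin 3) (Fin 3) F) = M := ⟨⟨M, hdet⟩, rfl⟩
  subst hA
  refine ⟨⟨A, Subgroup.subset_closure ⟨h0, h1, h2⟩⟩, ?_⟩
  rw [orderOf_eq_orderOf_iff]
  intro n
  constructor
  · intro h
    have := congrArg (fun x : Subgroup.closure {M : Matrix.SpecialLinearGroup (Fin 3) F |
        (M : Matrix (Fin 3) (Fin 3) F) 2 0 = 0 ∧ (M : Matrix (Fin 3) (Fin 3) F) 2 1 = 0 ∧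
          (M : Matrix (Fin 3) (Fin 3) F) 2 2 = 1} =>
        ((x : Matrix.SpecialLinearGroup (Fin 3) F) : Matrix (Fin 3) (Fin 3) F)) h
    simpa using this
  · intro h
    apply Subtype.ext
    apply Subtype.ext
    simpa using h

end Field4

/-- Let F be the field with four elements. The affine group F² ⋊ SL(2,F), realised as the subgroup of SL(3,F) of matrices with last row (0, 0, 1), has exactly the same set of element orders as the alternating group of degree 6 (namely {1, 2, 3, 4, 5}); so the alternating group of degree 6 is not determined by its element orders. -/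
theorem result {F : Type*} [Field F] [Fintype F] (hF : Fintype.card F = 4) :
    Set.range (orderOf : Subgroup.closure {M : Matrix.SpecialLinearGroup (Fin 3) F |
        (M : Matrix (Fin 3) (Fin 3) F) 2 0 = 0 ∧ (M : Matrix (Fin 3) (Fin 3) F) 2 1 = 0 ∧ (M : Matrix (Fin 3) (Fin 3) F) 2 2 = 1} → ℕ) =
      Set.range (orderOf : alternatingGroup (Fin 6) → ℕ) := by
  rw [range_orderOf_alt6]
  have hc2 := two_eq_zero hF
  apply Set.eq_of_subset_of_subset
  · rintro _ ⟨g, rfl⟩
    have hrow := last_row_of_mem g.1 g.2
    have key : ∀ k : ℕ, (g.1 : Matrix (Fin 3) (Fin 3) F) ^ k = 1 → orderOf g ∣ k := by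
      intro k hk
      apply orderOf_dvd_of_pow_eq_one
      apply Subtype.ext
      apply Subtype.ext
      simp only [Subgroup.coe_pow, Matrix.SpecialLinearGroup.coe_pow, Subgroup.coe_one,
        Matrix.SpecialLinearGroup.coe_one]
      exact hk
    obtain ⟨n, hn⟩ : ∃ n, n = orderOf g := ⟨_, rfl⟩
    rw [← hn] at key ⊢
    simp only [Set.mem_insert_iff, Set.mem_singleton_iff]
    rcases pow_cases hF (g.1 : Matrix (Fin 3) (Fin 3) F) hrow.1 hrow.2.1 hrow.2.2 g.1.2 with
      h | h | h
    · have hd := key 4 h
      have := Nat.le_of_dvd (by norm_num) hd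
      interval_cases n <;> revert hd <;> decide
    · have hd := key 3 h
      have := Nat.le_of_dvd (by norm_num) hd
      interval_cases n <;> revert hd <;> decide
    · have hd := key 5 h
      have := Nat.le_of_dvd (by norm_num) hd
      interval_cases n <;> revert hd <;> decide
  · obtain ⟨ω, hω⟩ := exists_omega hF
    intro N hN
    simp only [Set.mem_insert_iff, Set.mem_singleton_iff] at hN
    rcases hN with rfl | rfl | rfl | rfl | rfl
    · exact ⟨1, orderOf_one⟩
    · -- order 2
      have h := mem_range_of_matrix (F := F) !![1, 1, 0; 0, 1, 0; 0, 0, 1]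
        (by rw [Matrix.det_fin_three]; simp) (by simp) (by simp) (by simp)
      have ho : orderOf (!![1, 1, 0; 0, 1, 0; 0, 0, 1] : Matrix (Fin 3) (Fin 3) F) = 2 := by
        haveI : Fact (Nat.Prime 2) := ⟨Nat.prime_two⟩
        apply orderOf_eq_prime
        · ext i j
          fin_cases i <;> fin_cases j <;>
            simp [pow_succ, Matrix.mul_apply, Fin.sum_univ_three, Matrix.one_apply] <;> grind
        · intro h1
          have := congrFun (congrFun h1 0) 1
          simp at this
      rwa [ho] at h
    · -- order 3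
      have h := mem_range_of_matrix (F := F) !![ω, 0, 0; 0, ω ^ 2, 0; 0, 0, 1]
        (by rw [Matrix.det_fin_three]; simp; grind) (by simp) (by simp) (by simp)
      have ho : orderOf (!![ω, 0, 0; 0, ω ^ 2, 0; 0, 0, 1] : Matrix (Fin 3) (Fin 3) F) = 3 := by
        haveI : Fact (Nat.Prime 3) := ⟨Nat.prime_three⟩
        apply orderOf_eq_prime
        · ext i j
          fin_cases i <;> fin_cases j <;>
            simp [pow_succ, Matrix.mul_apply, Fin.sum_univ_three, Matrix.one_apply] <;> grind
        · intro h1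
          have := congrFun (congrFun h1 0) 0
          simp at this
          grind
      rwa [ho] at h
    · -- order 4
      have h := mem_range_of_matrix (F := F) !![1, 1, 0; 0, 1, 1; 0, 0, 1]
        (by rw [Matrix.det_fin_three]; simp) (by simp) (by simp) (by simp)
      have ho : orderOf (!![1, 1, 0; 0, 1, 1; 0, 0, 1] : Matrix (Fin 3) (Fin 3) F) = 2 ^ (1 + 1) := by
        haveI : Fact (Nat.Prime 2) := ⟨Nat.prime_two⟩
        apply orderOf_eq_prime_pow
        · intro h1
          have := congrFun (congrFun h1 0) 2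
          simp [pow_succ, Matrix.mul_apply, Fin.sum_univ_three, Matrix.one_apply] at this
        · ext i j
          fin_cases i <;> fin_cases j <;>
            simp [pow_succ, Matrix.mul_apply, Fin.sum_univ_three, Matrix.one_apply] <;> grind
      rwa [ho] at h
    · -- order 5
      have h := mem_range_of_matrix (F := F) !![ω, 1, 0; 1, 0, 0; 0, 0, 1]
        (by rw [Matrix.det_fin_three]; simp; grind) (by simp) (by simp) (by simp)
      have ho : orderOf (!![ω, 1, 0; 1, 0, 0; 0, 0, 1] : Matrix (Fin 3) (Fin 3) F) = 5 := by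
        haveI : Fact (Nat.Prime 5) := ⟨Nat.prime_five⟩
        apply orderOf_eq_prime
        · ext i j
          fin_cases i <;> fin_cases j <;>
            simp [pow_succ, Matrix.mul_apply, Fin.sum_univ_three, Matrix.one_apply] <;> grind
        · intro h1
          have := congrFun (congrFun h1 0) 1
          simp at this
      rwa [ho] at h

end Cfsg.Agent.S3488
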