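import Cfsg.Statements.S3979
import Mathlib

set_option autoImplicit false
open Cfsg

namespace Cfsg.Agent.S3979

/-- A finite cyclic group has trivial Schur multiplier: every finite stem extension of it is an isomorphism, said through `HasCyclicSchurMultiplier G 1`. -/
theorem result {G : Type*} [Group G] [Finite G] [IsCyclic G] : Cfsg.HasCyclicSchurMultiplier G 1 := by
  constructor
  · refine ⟨G, inferInstance, inferInstance, MonoidHom.id G, ⟨Function.surjective_id, ?_, ?_⟩, ?_⟩
    · rw [MonoidHom.ker_id]; exact bot_le
    · rw [MonoidHom.ker_id]; exact bot_le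
    · rw [MonoidHom.ker_id]
      have : Unique (Multiplicative (ZMod 1)) := by
        show Unique (ZMod 1)
        infer_instance
      exact ⟨MulEquiv.ofUnique⟩
  · intro Γ _ _ σ hσ
    obtain ⟨hsurj, hcent, hcomm⟩ := hσ
    have hΓ : IsMulCommutative Γ := σ.isMulCommutative_of_isCyclic_of_ker_le_center hcent
    have hc : commutator Γ = ⊥ := by
      rw [commutator_eq_bot_iff_center_eq_top, eq_top_iff]
      intro x _
      rw [Subgroup.mem_center_iff]
      intro g
      exact hΓ.is_comm.comm g x
    have hker : σ.ker = ⊥ := by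
      rw [eq_bot_iff, ← hc]; exact hcomm
    refine ⟨1, ?_⟩
    intro y
    refine ⟨1, ?_⟩
    apply Subtype.ext
    have h1 : (y : Γ) ∈ (⊥ : Subgroup Γ) := hker ▸ y.2
    rw [Subgroup.mem_bot] at h1
    simp [h1]

end Cfsg.Agent.S3979
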