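import Mathlib
import Cfsg.Statements.S0255
import Cfsg.Agent.S0495
import Cfsg.Agent.S0249

set_option autoImplicit false
open Cfsg

namespace Cfsg.Agent.S0255

open Cfsg.Agent.Lib.Helper4

theorem psl32_card {K : Type*} [Field K] [Fintype K] (hK : Fintype.card K = 2) :
    Nat.card (Matrix.ProjectiveSpecialLinearGroup (Fin 3) K) = 168 := by
  classical
  have h1 := card_PSL_mul (F := K) 3 (by norm_num)
  have h2 := card_SL_mul (F := K) 3 (by norm_num)
  rw [Matrix.card_GL_field, Fin.prod_univ_three, hK] at h2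
  rw [hK] at h1
  generalize Nat.card (Matrix.SpecialLinearGroup (Fin 3) K) = a at h1 h2
  generalize Nat.card (Matrix.ProjectiveSpecialLinearGroup (Fin 3) K) = b at h1 ⊢
  norm_num at h1 h2
  omega

/-- PSL_2(7) is isomorphic to PSL_3(2). -/
theorem result {F K : Type*} [Field F] [Fintype F] [Field K] [Fintype K] (hF : Fintype.card F = 7) (hK : Fintype.card K = 2) : Nonempty (Matrix.ProjectiveSpecialLinearGroup (Fin 2) F ≃* Matrix.ProjectiveSpecialLinearGroup (Fin 3) K) := by
  obtain ⟨hsimple, hcard⟩ := Cfsg.Agent.S0495.psl27_simple_card hF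
  haveI := hsimple
  haveI : Finite (Matrix.ProjectiveSpecialLinearGroup (Fin 2) F) :=
    Nat.finite_of_card_ne_zero (by rw [hcard]; norm_num)
  have hc3 := psl32_card hK
  haveI : IsSimpleGroup (Matrix.ProjectiveSpecialLinearGroup (Fin 3) K) :=
    Cfsg.Agent.S0249.result 3 le_rfl
  haveI : Finite (Matrix.ProjectiveSpecialLinearGroup (Fin 3) K) :=
    Nat.finite_of_card_ne_zero (by rw [hc3]; norm_num)
  exact Cfsg.Agent.Lib.Helper2.S168.iso_of_card_168 hcard hc3

end Cfsg.Agent.S0255
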