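import Mathlib
import Cfsg.Statements.S0428
import Cfsg.Agent.Lib.Helper5.Steiner22Graph

set_option autoImplicit false
open Cfsg

namespace Cfsg.Agent.S0428

/-- The point-block graph of an S(3, 6, 22) is strongly regular with parameters (100, 22, 0, 6). -/
theorem result {α : Type*} [Fintype α] (hα : Fintype.card α = 22) {B : Set (Finset α)} (hB : Cfsg.IsSteinerSystem 3 6 B) [Fintype B] [DecidableRel (Cfsg.pointBlockGraph B).Adj] : (Cfsg.pointBlockGraph B).IsSRGWith 100 22 0 6 := by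
  classical
  have hmem : ∀ b, b ∈ B.toFinset ↔ b ∈ B := fun b => Set.mem_toFinset
  have hsys : Cfsg.Agent.Lib.Helper5.Steiner22.Sys B.toFinset := by
    refine ⟨hα, fun b hb => hB.1 b ((hmem b).mp hb), fun s hs => ?_⟩
    obtain ⟨b, ⟨hb1, hb2⟩, hb3⟩ := hB.2 s hs
    exact ⟨b, ⟨(hmem b).mpr hb1, hb2⟩, fun c hc => hb3 c ⟨(hmem c).mp hc.1, hc.2⟩⟩
  exact Cfsg.Agent.Lib.Helper5.Steiner22Graph.srg hsys

end Cfsg.Agent.S0428
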