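import Mathlib
import Cfsg.Statements.S1185
import Cfsg.Agent.Lib.Lead.Isolated

set_option autoImplicit false
open Cfsg
open Cfsg.Agent.Lib.Lead

namespace Cfsg.Agent.S1185

/-- conjugating `z` by an element inverted by `z` -/
theorem conj_of_inverted {G : Type*} [Group G] {z k : G} (hz : orderOf z = 2)
    (hk : z * k * z⁻¹ = k⁻¹) : k * z * k⁻¹ = k ^ 2 * z := by
  have h1 : z * k⁻¹ * z⁻¹ = k := by
    have : z * k⁻¹ * z⁻¹ = (z * k * z⁻¹)⁻¹ := by group
    rw [this, hk, inv_inv]
  have h2 : z * k⁻¹ = k * z := mul_inv_eq_iff_eq_mul.mp h1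
  rw [mul_assoc, h2, pow_two, mul_assoc]

/-- Let z be an isolated involution of the finite group G with centralizer C. Then for every g ∈ G there is exactly one element k in the coset gC that has odd order and is inverted by z. -/
theorem result {G : Type*} [Group G] [Finite G] (z : G) (hz : Cfsg.IsIsolatedInvolution z) (g : G) : ∃! k : G, (Odd (orderOf k) ∧ z * k * z⁻¹ = k⁻¹) ∧ g⁻¹ * k ∈ Subgroup.centralizer ({z} : Set G) := by
  obtain ⟨m, hodd, hinv, hconj⟩ := isolated_rep hz g
  set k := (z * (g * z * g⁻¹)) ^ m with hk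
  refine ⟨k, ⟨⟨hodd, hinv⟩, ?_⟩, ?_⟩
  · rw [Subgroup.mem_centralizer_singleton_iff]
    have h1 : k * z = g * z * g⁻¹ * k := by rw [← hconj]; group
    calc g⁻¹ * k * z = g⁻¹ * (k * z) := by group
      _ = g⁻¹ * (g * z * g⁻¹ * k) := by rw [h1]
      _ = z * (g⁻¹ * k) := by group
  · rintro k' ⟨⟨hodd', hinv'⟩, hmem⟩
    rw [Subgroup.mem_centralizer_singleton_iff] at hmem
    have hconj' : k' * z * k'⁻¹ = g * z * g⁻¹ := by
      have : k' * z = g * (g⁻¹ * k' * z) := by group
      rw [this, hmem]; group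
    have h1 := conj_of_inverted hz.1 hinv
    have h2 := conj_of_inverted hz.1 hinv'
    rw [hconj] at h1
    rw [hconj'] at h2
    have h3 : k' ^ 2 = k ^ 2 := mul_right_cancel (h2.symm.trans h1)
    exact odd_sq_inj hodd' hodd h3

end Cfsg.Agent.S1185
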