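import Mathlib
import Cfsg.Statements.S0220
import Cfsg.Agent.Lib.Lead.Invol
import Cfsg.Agent.S0219
import Cfsg.Agent.S0216

set_option autoImplicit false
open Cfsg
open Cfsg.Agent.Lib.Lead

namespace Cfsg.Agent.S0220

theorem cyclic_invol_unique {H : Type*} [Group H] [Finite H] [IsCyclic H] {a b : H}
    (ha : orderOf a = 2) (hb : orderOf b = 2) : a = b := by
  classical
  haveI := Fintype.ofFinite H
  have hd : 2 ∣ Fintype.card H := by
    rw [← ha, ← Nat.card_eq_fintype_card]; exact orderOf_dvd_natCard a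
  have h := IsCyclic.card_orderOf_eq_totient (α := H) hd
  rw [Nat.totient_two] at h
  have hle := Finset.card_le_one.mp h.le
  exact hle a (by simp [ha]) b (by simp [hb])

theorem aux {G : Type*} [Group G] [Finite G] (x : G) (hx : orderOf x = 2) (C : Subgroup G)
    (hC : C = Subgroup.centralizer ({x} : Set G)) (S : Sylow 2 ↥C)
    (hS : IsCyclic (S : Subgroup ↥C)) : ∃ H : Subgroup G, H.index = 2 := by
  haveI : Fact (Nat.Prime 2) := ⟨Nat.prime_two⟩
  have hxC : x ∈ C := by rw [hC, Subgroup.mem_centralizer_singleton_iff]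
  set SG : Subgroup G := (S : Subgroup C).map C.subtype with hSG
  have hSG2 : IsPGroup 2 SG := S.2.map _
  obtain ⟨T, hT⟩ := hSG2.exists_le_sylow
  -- x lies in S
  have hxS : (⟨x, hxC⟩ : C) ∈ S := by
    have hp : IsPGroup 2 (Subgroup.zpowers (⟨x, hxC⟩ : C)) := by
      apply IsPGroup.of_card (n := 1)
      rw [Nat.card_zpowers, Subgroup.orderOf_mk, hx, pow_one]
    obtain ⟨S', hS'⟩ := hp.exists_le_sylow
    obtain ⟨c, hc⟩ := MulAction.exists_smul_eq C S S'
    have h1 : (⟨x, hxC⟩ : C) ∈ S' := hS' (Subgroup.mem_zpowers _)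
    rw [← hc, Cfsg.Agent.S0216.mem_smul_sylow] at h1
    have h2 : c⁻¹ * (⟨x, hxC⟩ : C) * c = ⟨x, hxC⟩ := by
      have hcc : (c : G) ∈ Subgroup.centralizer ({x} : Set G) := hC ▸ c.2
      rw [Subgroup.mem_centralizer_singleton_iff] at hcc
      apply Subtype.ext
      simp only [Subgroup.coe_mul, Subgroup.coe_inv]
      rw [mul_assoc, ← hcc, inv_mul_cancel_left]
    rwa [h2] at h1
  have hxSG : x ∈ SG := ⟨⟨x, hxC⟩, hxS, rfl⟩
  -- T ⊓ C ≤ SG
  have key1 : ∀ g : G, g ∈ T → g ∈ C → g ∈ SG := by
    intro g hgT hgC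
    set R : Subgroup C := ((T : Subgroup G) ⊓ C).subgroupOf C with hR
    have hR2 : IsPGroup 2 R := (T.2.to_le inf_le_left).comap_subtype
    have hSR : (S : Subgroup C) ≤ R := by
      intro s hs
      rw [hR, Subgroup.mem_subgroupOf]
      exact Subgroup.mem_inf.mpr ⟨hT ⟨s, hs, rfl⟩, s.2⟩
    have hRS : R = S := S.3 hR2 hSR
    have hgR : (⟨g, hgC⟩ : C) ∈ R := by
      rw [hR, Subgroup.mem_subgroupOf]
      exact Subgroup.mem_inf.mpr ⟨hgT, hgC⟩
    rw [hRS] at hgR
    exact ⟨⟨g, hgC⟩, hgR, rfl⟩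
  -- SG is cyclic
  haveI hSGc : IsCyclic SG := by
    haveI := hS
    have hsurj : Function.Surjective ((C.subtype).subgroupMap (S : Subgroup C)) :=
      MonoidHom.subgroupMap_surjective _ _
    exact isCyclic_of_surjective _ hsurj
  -- key2 : elements of T sending x into SG centralize x
  have key2 : ∀ n : G, n * x * n⁻¹ ∈ SG → n ∈ C := by
    intro n hn
    have h1 : orderOf (⟨n * x * n⁻¹, hn⟩ : SG) = 2 := by
      rw [Subgroup.orderOf_mk]
      have hsc : SemiconjBy n x (n * x * n⁻¹) := by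
        unfold SemiconjBy; group
      rw [← hsc.orderOf_eq n]; exact hx
    have h2 : orderOf (⟨x, hxSG⟩ : SG) = 2 := by
      rw [Subgroup.orderOf_mk]; exact hx
    have h3 := cyclic_invol_unique h1 h2
    have h4 : n * x * n⁻¹ = x := congrArg Subtype.val h3
    rw [hC, Subgroup.mem_centralizer_singleton_iff]
    exact (mul_inv_eq_iff_eq_mul.mp h4)
  -- SG = T
  have hST : SG = T := by
    by_contra hne
    haveI : Group.IsNilpotent (T : Subgroup G) := T.2.isNilpotent
    have hnc := Group.normalizerCondition_of_isNilpotent (G := (T : Subgroup G))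
    have hlt : SG.subgroupOf T < ⊤ := by
      rw [lt_top_iff_ne_top]
      intro h
      apply hne
      apply le_antisymm hT
      rw [Subgroup.subgroupOf_eq_top] at h
      exact h
    have h1 := hnc _ hlt
    obtain ⟨n, hnN, hnH⟩ := SetLike.exists_of_lt h1
    have hxT : x ∈ (T : Subgroup G) := hT hxSG
    have h2 : (⟨x, hxT⟩ : (T : Subgroup G)) ∈ SG.subgroupOf T := by
      rw [Subgroup.mem_subgroupOf]; exact hxSG
    have h3 := (Subgroup.mem_normalizer_iff.mp hnN _).mp h2
    rw [Subgroup.mem_subgroupOf] at h3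
    simp only [Subgroup.coe_mul, Subgroup.coe_inv] at h3
    have h4 := key2 (n : G) h3
    apply hnH
    rw [Subgroup.mem_subgroupOf]
    exact key1 n n.2 h4
  have hTc : IsCyclic (T : Subgroup G) := by rw [← hST]; exact hSGc
  have heven : Even (Nat.card G) := by
    rw [even_iff_two_dvd, ← hx]; exact orderOf_dvd_natCard x
  exact Cfsg.Agent.S0219.index_two_of_cyclic_sylow heven T hTc

/-- If x is an involution of a finite group G and a Sylow 2-subgroup of the centralizer of x is cyclic, then G has a subgroup of index 2; in particular G is not simple unless it has order 2. -/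
theorem result {G : Type*} [Group G] [Finite G] (x : G) (hx : orderOf x = 2) (S : Sylow 2 ↥(Subgroup.centralizer ({x} : Set G))) (hS : IsCyclic (S : Subgroup ↥(Subgroup.centralizer ({x} : Set G)))) : ∃ H : Subgroup G, H.index = 2 :=
  aux x hx _ rfl S hS

end Cfsg.Agent.S0220
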