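import Mathlib
import Cfsg.Statements.S0213
import Cfsg.Agent.Lib.Lead.Invol
import Cfsg.Agent.Lib.Lead.ConjCount
import Cfsg.Agent.S0208
import Cfsg.Agent.S0209
import Cfsg.Agent.S0220

set_option autoImplicit false
open Cfsg
open Cfsg.Agent.Lib.Lead

namespace Cfsg.Agent.S0213

variable {G : Type*} [Group G]

theorem orderOf_of_isConj {a b : G} (h : IsConj a b) : orderOf b = orderOf a := by
  obtain ⟨g, hg⟩ := isConj_iff.mp h
  have hsc : SemiconjBy g a b := by unfold SemiconjBy; rw [← hg]; group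
  exact (hsc.orderOf_eq g).symm

/-- the fibre count is invariant under conjugation -/
theorem card_fibre_conj [Finite G] (x₁ x₂ y g : G) :
    Nat.card {p : G × G // IsConj x₁ p.1 ∧ IsConj x₂ p.2 ∧ g * y * g⁻¹ ∈ Subgroup.zpowers (p.1 * p.2)} =
    Nat.card {p : G × G // IsConj x₁ p.1 ∧ IsConj x₂ p.2 ∧ y ∈ Subgroup.zpowers (p.1 * p.2)} := by
  have hconj : ∀ (a : G) (x u : G), IsConj x u → IsConj x (a * u * a⁻¹) := by
    intro a x u h
    exact h.trans (isConj_iff.mpr ⟨a, rfl⟩)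
  have hz : ∀ (a u v w : G), w ∈ Subgroup.zpowers (u * v) →
      a * w * a⁻¹ ∈ Subgroup.zpowers ((a * u * a⁻¹) * (a * v * a⁻¹)) := by
    rintro a u v w ⟨k, rfl⟩
    refine ⟨k, ?_⟩
    simp only
    have : a * u * a⁻¹ * (a * v * a⁻¹) = a * (u * v) * a⁻¹ := by group
    rw [this, conj_zpow]
  apply Nat.card_congr
  refine
    { toFun := fun p => ⟨(g⁻¹ * p.1.1 * g, g⁻¹ * p.1.2 * g), ?_, ?_, ?_⟩
      invFun := fun p => ⟨(g * p.1.1 * g⁻¹, g * p.1.2 * g⁻¹), ?_, ?_, ?_⟩
      left_inv := ?_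
      right_inv := ?_ }
  · have := hconj g⁻¹ x₁ p.1.1 p.2.1; rwa [inv_inv] at this
  · have := hconj g⁻¹ x₂ p.1.2 p.2.2.1; rwa [inv_inv] at this
  · have := hz g⁻¹ p.1.1 p.1.2 _ p.2.2.2
    rw [inv_inv] at this
    have e : g⁻¹ * (g * y * g⁻¹) * g = y := by group
    rwa [e] at this
  · exact hconj g x₁ p.1.1 p.2.1
  · exact hconj g x₂ p.1.2 p.2.2.1
  · exact hz g p.1.1 p.1.2 y p.2.2.2
  · rintro ⟨⟨u, v⟩, h1, h2, h3⟩
    apply Subtype.ext
    simp only [Prod.mk.injEq]
    constructor <;> group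
  · rintro ⟨⟨u, v⟩, h1, h2, h3⟩
    apply Subtype.ext
    simp only [Prod.mk.injEq]
    constructor <;> group

/-- Thompson Order Formula, two-class case: if every involution of the finite group G is conjugate to exactly one of the non-conjugate involutions x₁, x₂, and nᵢ is the number of pairs (u, v) with u conjugate to x₁, v conjugate to x₂ and xᵢ in the cyclic group generated by uv, then |G| = |C(x₂)| n₁ + |C(x₁)| n₂. -/
theorem result {G : Type*} [Group G] [Finite G] (x₁ x₂ : G) (h₁ : orderOf x₁ = 2) (h₂ : orderOf x₂ = 2) (hnc : ¬ IsConj x₁ x₂) (hall : ∀ t : G, orderOf t = 2 → IsConj x₁ t ∨ IsConj x₂ t) : Nat.card G = Nat.card (Subgroup.centralizer ({x₂} : Set G)) * Nat.card {p : G × G // IsConj x₁ p.1 ∧ IsConj x₂ p.2 ∧ x₁ ∈ Subgroup.zpowers (p.1 * p.2)} + Nat.card (Subgroup.centralizer ({x₁} : Set G)) * Nat.card {p : G × G // IsConj x₁ p.1 ∧ IsConj x₂ p.2 ∧ x₂ ∈ Subgroup.zpowers (p.1 * p.2)} := by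
  classical
  haveI : Fintype G := Fintype.ofFinite G
  set N := Nat.card G with hN
  set c₁ := Nat.card (Subgroup.centralizer ({x₁} : Set G)) with hc₁
  set c₂ := Nat.card (Subgroup.centralizer ({x₂} : Set G)) with hc₂
  set n₁ := Nat.card {p : G × G // IsConj x₁ p.1 ∧ IsConj x₂ p.2 ∧ x₁ ∈ Subgroup.zpowers (p.1 * p.2)} with hn₁
  set n₂ := Nat.card {p : G × G // IsConj x₁ p.1 ∧ IsConj x₂ p.2 ∧ x₂ ∈ Subgroup.zpowers (p.1 * p.2)} with hn₂
  set K₁ : Finset G := Finset.univ.filter (fun u : G => IsConj x₁ u) with hK₁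
  set K₂ : Finset G := Finset.univ.filter (fun u : G => IsConj x₂ u) with hK₂
  have hk₁ : K₁.card * c₁ = N := by
    have := card_conj_mul_card_centralizer x₁
    rw [Nat.card_eq_fintype_card (α := {b : G // IsConj x₁ b}), Fintype.card_subtype] at this
    exact this
  have hk₂ : K₂.card * c₂ = N := by
    have := card_conj_mul_card_centralizer x₂
    rw [Nat.card_eq_fintype_card (α := {b : G // IsConj x₂ b}), Fintype.card_subtype] at this
    exact this
  -- the central involution of a pair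
  let f : G × G → G := fun p => (p.1 * p.2) ^ (orderOf (p.1 * p.2) / 2)
  have hpair : ∀ p ∈ K₁ ×ˢ K₂, orderOf (f p) = 2 := by
    rintro ⟨u, v⟩ hp
    simp only [Finset.mem_product, hK₁, hK₂, Finset.mem_filter, Finset.mem_univ, true_and] at hp
    have hu : orderOf u = 2 := (orderOf_of_isConj hp.1).trans h₁
    have hv : orderOf v = 2 := (orderOf_of_isConj hp.2).trans h₂
    have heven : Even (orderOf (u * v)) := by
      by_contra hne
      rw [Nat.not_even_iff_odd] at hne
      obtain ⟨d, -, hd⟩ := Cfsg.Agent.S0208.result u v hu hv hne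
      exact hnc ((hp.1.trans (isConj_iff.mpr ⟨d, hd⟩)).trans hp.2.symm)
    exact (Cfsg.Agent.S0209.result u v hu hv heven).1
  set Ifin : Finset G := K₁ ∪ K₂ with hI
  have hmaps : ∀ p ∈ K₁ ×ˢ K₂, f p ∈ Ifin := by
    intro p hp
    have h := hpair p hp
    rw [hI, Finset.mem_union, hK₁, hK₂, Finset.mem_filter, Finset.mem_filter]
    rcases hall _ h with h' | h'
    · left; exact ⟨Finset.mem_univ _, h'⟩
    · right; exact ⟨Finset.mem_univ _, h'⟩
  have hfib := Finset.card_eq_sum_card_fiberwise (f := f) (s := K₁ ×ˢ K₂) (t := Ifin) hmaps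
  rw [Finset.card_product] at hfib
  -- identify the fibres
  have hfibre : ∀ y ∈ Ifin, ((K₁ ×ˢ K₂).filter (fun p => f p = y)).card =
      Nat.card {p : G × G // IsConj x₁ p.1 ∧ IsConj x₂ p.2 ∧ y ∈ Subgroup.zpowers (p.1 * p.2)} := by
    intro y hy
    have hyo : orderOf y = 2 := by
      rw [hI, Finset.mem_union, hK₁, hK₂, Finset.mem_filter, Finset.mem_filter] at hy
      rcases hy with hy | hy
      · exact (orderOf_of_isConj hy.2).trans h₁
      · exact (orderOf_of_isConj hy.2).trans h₂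
    rw [Nat.card_eq_fintype_card, Fintype.card_subtype]
    congr 1
    ext ⟨u, v⟩
    simp only [Finset.mem_filter, Finset.mem_product, hK₁, hK₂, Finset.mem_univ, true_and]
    constructor
    · rintro ⟨⟨hu, hv⟩, hf⟩
      refine ⟨hu, hv, ?_⟩
      rw [← hf]
      exact Subgroup.npow_mem_zpowers _ _
    · rintro ⟨hu, hv, hy'⟩
      refine ⟨⟨hu, hv⟩, ?_⟩
      have hfo : orderOf (f (u, v)) = 2 :=
        hpair (u, v) (Finset.mem_product.mpr ⟨Finset.mem_filter.mpr ⟨Finset.mem_univ _, hu⟩,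
          Finset.mem_filter.mpr ⟨Finset.mem_univ _, hv⟩⟩)
      have hfm : f (u, v) ∈ Subgroup.zpowers (u * v) := Subgroup.npow_mem_zpowers _ _
      have e1 : orderOf (⟨f (u, v), hfm⟩ : Subgroup.zpowers (u * v)) = 2 := by
        rw [Subgroup.orderOf_mk]; exact hfo
      have e2 : orderOf (⟨y, hy'⟩ : Subgroup.zpowers (u * v)) = 2 := by
        rw [Subgroup.orderOf_mk]; exact hyo
      exact congrArg Subtype.val (Cfsg.Agent.S0220.cyclic_invol_unique e1 e2)
  -- the two classes are disjoint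
  have hdisj : Disjoint K₁ K₂ := by
    rw [Finset.disjoint_left]
    intro u hu hv
    rw [hK₁, Finset.mem_filter] at hu
    rw [hK₂, Finset.mem_filter] at hv
    exact hnc (hu.2.trans hv.2.symm)
  have hsum : K₁.card * K₂.card = K₁.card * n₁ + K₂.card * n₂ := by
    rw [hfib, Finset.sum_congr rfl hfibre, hI, Finset.sum_union hdisj]
    congr 1
    · rw [← smul_eq_mul, ← Finset.sum_const]
      apply Finset.sum_congr rfl
      intro y hy
      rw [hK₁, Finset.mem_filter] at hy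
      obtain ⟨g, hg⟩ := isConj_iff.mp hy.2
      rw [← hg]
      exact card_fibre_conj x₁ x₂ x₁ g
    · rw [← smul_eq_mul, ← Finset.sum_const]
      apply Finset.sum_congr rfl
      intro y hy
      rw [hK₂, Finset.mem_filter] at hy
      obtain ⟨g, hg⟩ := isConj_iff.mp hy.2
      rw [← hg]
      exact card_fibre_conj x₁ x₂ x₂ g
  -- arithmetic
  have hNpos : 0 < N := Nat.card_pos
  have key : N * N = N * (c₂ * n₁ + c₁ * n₂) := by
    calc N * N = (K₁.card * c₁) * (K₂.card * c₂) := by rw [hk₁, hk₂]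
      _ = (K₁.card * K₂.card) * (c₁ * c₂) := by ring
      _ = (K₁.card * n₁ + K₂.card * n₂) * (c₁ * c₂) := by rw [hsum]
      _ = (K₁.card * c₁) * (c₂ * n₁) + (K₂.card * c₂) * (c₁ * n₂) := by ring
      _ = N * (c₂ * n₁ + c₁ * n₂) := by rw [hk₁, hk₂]; ring
  exact Nat.eq_of_mul_eq_mul_left hNpos key

end Cfsg.Agent.S0213
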