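import Mathlib
import Cfsg.Statements.S2616
import Cfsg.Agent.Lib.Helper5.QuadPlane

set_option autoImplicit false
open Cfsg

namespace Cfsg.Agent.S2616

open Module QuadraticMap Cfsg.Agent.Lib.Helper5

theorem main {F V : Type*} [Field F] [Finite F] [AddCommGroup V] [Module F V] [FiniteDimensional F V] (k : ℕ) (hV : Module.finrank F V = 2 * (k + 1)) (Q : QuadraticForm F V) (hQ : (QuadraticMap.polarBilin Q).Nondegenerate) : (∃ b : Module.Basis (Fin (k + 1) ⊕ Fin (k + 1)) F V, (∀ i, Q (b (Sum.inl i)) = 0 ∧ Q (b (Sum.inr i)) = 0) ∧ (∀ i j, QuadraticMap.polar ⇑Q (b (Sum.inl i)) (b (Sum.inr j)) = if i = j then 1 else 0) ∧ (∀ i j, QuadraticMap.polar ⇑Q (b (Sum.inl i)) (b (Sum.inl j)) = 0 ∧ QuadraticMap.polar ⇑Q (b (Sum.inr i)) (b (Sum.inr j)) = 0)) ∨ (∃ (b : Module.Basis ((Fin k ⊕ Fin k) ⊕ Fin 2) F V) (ζ : F), (∀ t : F, t ^ 2 + t + ζ ≠ 0) ∧ (∀ i, Q (b (Sum.inl (Sum.inl i))) = 0 ∧ Q (b (Sum.inl (Sum.inr i)))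 = 0) ∧ (∀ i j, QuadraticMap.polar ⇑Q (b (Sum.inl (Sum.inl i))) (b (Sum.inl (Sum.inr j))) = if i = j then 1 else 0) ∧ (∀ i j, QuadraticMap.polar ⇑Q (b (Sum.inl (Sum.inl i))) (b (Sum.inl (Sum.inl j))) = 0 ∧ QuadraticMap.polar ⇑Q (b (Sum.inl (Sum.inr i))) (b (Sum.inl (Sum.inr j))) = 0) ∧ (∀ i (k : Fin 2), QuadraticMap.polar ⇑Q (b (Sum.inl (Sum.inl i))) (b (Sum.inr k)) = 0 ∧ QuadraticMap.polar ⇑Q (b (Sum.inl (Sum.inr i))) (b (Sum.inr k)) = 0) ∧ Q (b (Sum.inr 0)) = 1 ∧ QuadraticMap.polar ⇑Q (b (Sum.inr 0)) (b (Sum.inr 1)) = 1 ∧ Q (b (Sum.inr 1)) = ζ) := by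
  classical
  have hQ' : ∀ z : V, (∀ z', polar Q z z' = 0) → z = 0 := fun z hz => hQ.1 z hz
  obtain ⟨e, f, R, h1, h2, h3, h4, h5, h6⟩ :=
    exists_hyperbolic_family k Q hQ' 2 (by norm_num) (by rw [hV]; ring)
  by_cases han : ∀ z ∈ R, Q z = 0 → z = 0
  · -- elliptic case
    right
    obtain ⟨x, hxR, y, hyR, hQx, hxy, hli, hirr⟩ := exists_elliptic_pair Q R h5 h6 han
    have h4' : ∀ i (j : Fin 2), polar Q (e i) (![x, y] j) = 0 ∧ polar Q (f i) (![x, y] j) = 0 := by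
      intro i j
      fin_cases j
      · exact h4 i x hxR
      · exact h4 i y hyR
    have hli' := linearIndependent_hyperbolic' Q e f h2 h3 ![x, y] hli h4'
    have hcard : Fintype.card ((Fin k ⊕ Fin k) ⊕ Fin 2) = finrank F V := by
      rw [hV]; simp; ring
    refine ⟨basisOfLinearIndependentOfCardEqFinrank hli' hcard, Q y, hirr, ?_⟩
    rw [coe_basisOfLinearIndependentOfCardEqFinrank]
    simp only [Sum.elim_inl, Sum.elim_inr]
    refine ⟨h1, h2, h3, h4', ?_, ?_, ?_⟩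
    · simpa using hQx
    · simpa using hxy
    · simp
  · -- hyperbolic case
    left
    push Not at han
    obtain ⟨v, hvR, hQv, hv0⟩ := han
    -- partner inside `R`
    have hQR : ∀ z : R, (∀ z' : R, polar (Q.comp R.subtype) z z' = 0) → z = 0 := by
      intro z hz
      apply Subtype.ext
      apply h6 z.1 z.2
      intro z' hz'
      exact hz ⟨z', hz'⟩
    obtain ⟨⟨w, hwR⟩, hQw, hvw⟩ := exists_partner (Q.comp R.subtype) hQR ⟨v, hvR⟩
      (fun h => hv0 (congrArg Subtype.val h)) hQv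
    have hQw' : Q w = 0 := hQw
    have hvw' : polar Q v w = 1 := hvw
    have hwv : polar Q w v = 1 := by rw [polar_comm, hvw']
    have hvv : polar Q v v = 0 := by rw [polar_self, hQv, smul_zero]
    have hww : polar Q w w = 0 := by rw [polar_self, hQw', smul_zero]
    set e₁ : Fin (k + 1) → V := Fin.cons v e with he₁
    set f₁ : Fin (k + 1) → V := Fin.cons w f with hf₁
    have H1 : ∀ i, Q (e₁ i) = 0 ∧ Q (f₁ i) = 0 := by
      intro i
      refine Fin.cases ?_ (fun i => ?_) i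
      · simp [he₁, hf₁, hQv, hQw']
      · simpa [he₁, hf₁] using h1 i
    have H2 : ∀ i j, polar Q (e₁ i) (f₁ j) = if i = j then 1 else 0 := by
      intro i j
      refine Fin.cases ?_ (fun i => ?_) i <;> refine Fin.cases ?_ (fun j => ?_) j
      · simp [he₁, hf₁, hvw']
      · simp only [he₁, hf₁, Fin.cons_zero, Fin.cons_succ]
        rw [polar_comm, (h4 j v hvR).2, if_neg (Fin.succ_ne_zero j).symm]
      · simp only [he₁, hf₁, Fin.cons_zero, Fin.cons_succ]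
        rw [(h4 i w hwR).1, if_neg (Fin.succ_ne_zero i)]
      · simp only [he₁, hf₁, Fin.cons_succ, Fin.succ_inj]
        exact h2 i j
    have H3 : ∀ i j, polar Q (e₁ i) (e₁ j) = 0 ∧ polar Q (f₁ i) (f₁ j) = 0 := by
      intro i j
      refine Fin.cases ?_ (fun i => ?_) i <;> refine Fin.cases ?_ (fun j => ?_) j
      · simp [he₁, hf₁, hvv, hww]
      · simp only [he₁, hf₁, Fin.cons_zero, Fin.cons_succ]
        rw [polar_comm, (h4 j v hvR).1, polar_comm, (h4 j w hwR).2]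
        exact ⟨rfl, rfl⟩
      · simp only [he₁, hf₁, Fin.cons_zero, Fin.cons_succ]
        exact ⟨(h4 i v hvR).1, (h4 i w hwR).2⟩
      · simp only [he₁, hf₁, Fin.cons_succ]
        exact h3 i j
    have hli := linearIndependent_hyperbolic Q e₁ f₁ H2 H3 (fun x : Empty => x.elim)
      linearIndependent_empty_type (fun _ j => j.elim)
    have hli' : LinearIndependent F (Sum.elim e₁ f₁) := by
      have := hli.comp Sum.inr Sum.inr_injective
      convert this using 1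
      funext x
      rfl
    have hcard : Fintype.card (Fin (k + 1) ⊕ Fin (k + 1)) = finrank F V := by
      rw [hV]; simp; ring
    refine ⟨basisOfLinearIndependentOfCardEqFinrank hli' hcard, ?_⟩
    rw [coe_basisOfLinearIndependentOfCardEqFinrank]
    simp only [Sum.elim_inl, Sum.elim_inr]
    exact ⟨H1, H2, H3⟩

/-- A non-degenerate quadratic space of even dimension 2m over a finite field has either a hyperbolic basis or an elliptic basis (m − 1 hyperbolic pairs plus an anisotropic plane x, y with Q(x) = 1, f(x,y) = 1, Q(y) = ζ, t² + t + ζ irreducible). -/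
theorem result {F V : Type*} [Field F] [Finite F] [AddCommGroup V] [Module F V] [FiniteDimensional F V] {m : ℕ} (hm : 1 ≤ m) (hV : Module.finrank F V = 2 * m) (Q : QuadraticForm F V) (hQ : (QuadraticMap.polarBilin Q).Nondegenerate) : (∃ b : Module.Basis (Fin m ⊕ Fin m) F V, (∀ i, Q (b (Sum.inl i)) = 0 ∧ Q (b (Sum.inr i)) = 0) ∧ (∀ i j, QuadraticMap.polar ⇑Q (b (Sum.inl i)) (b (Sum.inr j)) = if i = j then 1 else 0) ∧ (∀ i j, QuadraticMap.polar ⇑Q (b (Sum.inl i)) (b (Sum.inl j)) = 0 ∧ QuadraticMap.polar ⇑Q (b (Sum.inr i)) (b (Sum.inr j)) = 0)) ∨ (∃ (b : Module.Basis ((Fin (m - 1) ⊕ Fin (m - 1)) ⊕ Fin 2) F V) (ζ : F), (∀ t : F, t ^ 2 + t + ζ ≠ 0) ∧ (∀ i, Q (b (Sum.inl (Sum.inl i))) = 0 ∧ Q (b (Sum.inl (Sum.inr i))) = 0) ∧ (∀ i j, QuadraticMap.polar ⇑Q (b (Sum.inl (Sum.inl i))) (b (Sum.inl (Sum.inr j))) = if i = j then 1 else 0) ∧ (∀ i j, QuadraticMap.polar ⇑Q (b (Sum.inl (Sum.inl i))) (b (Sum.inl (Sum.inl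 j))) = 0 ∧ QuadraticMap.polar ⇑Q (b (Sum.inl (Sum.inr i))) (b (Sum.inl (Sum.inr j))) = 0) ∧ (∀ i (k : Fin 2), QuadraticMap.polar ⇑Q (b (Sum.inl (Sum.inl i))) (b (Sum.inr k)) = 0 ∧ QuadraticMap.polar ⇑Q (b (Sum.inl (Sum.inr i))) (b (Sum.inr k)) = 0) ∧ Q (b (Sum.inr 0)) = 1 ∧ QuadraticMap.polar ⇑Q (b (Sum.inr 0)) (b (Sum.inr 1)) = 1 ∧ Q (b (Sum.inr 1)) = ζ) := by
  obtain ⟨k, rfl⟩ : ∃ k, m = k + 1 := ⟨m - 1, by omega⟩
  exact main k hV Q hQ

end Cfsg.Agent.S2616
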