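import Mathlib
import Cfsg.Statements.S2622

set_option autoImplicit false
open Cfsg

namespace Cfsg.Agent.S2622

open Module LinearMap LinearMap.BilinForm

section
variable {F : Type*} [Field F] [Finite F] [CharP F 2]

lemma exists_mul_self (a : F) : ∃ c : F, c * c = a := by
  obtain ⟨c, hc⟩ := FiniteField.isSquare_of_char_two (ringChar.eq F 2) a
  exact ⟨c, hc.symm⟩

omit [Finite F] in
lemma add_self' (a : F) : a + a = 0 := CharTwo.add_self_eq_zero a

variable {V : Type*} [AddCommGroup V] [Module F V] [FiniteDimensional F V]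

/-- the key step: a unit vector whose orthogonal complement is not alternating (or is zero) -/
lemma exists_good (B : LinearMap.BilinForm F V) (hS : B.IsSymm) (hB : B.Nondegenerate)
    (hna : ∃ v : V, B v v ≠ 0) :
    ∃ v : V, B v v = 1 ∧ (finrank F V = 1 ∨ ∃ w : V, B v w = 0 ∧ B w w ≠ 0) := by
  obtain ⟨v₀, hv₀⟩ := hna
  obtain ⟨c, hc⟩ := exists_mul_self (B v₀ v₀)⁻¹
  set v₁ := c • v₀ with hv₁def
  have hv₁ : B v₁ v₁ = 1 := by
    simp only [hv₁def, map_smul, LinearMap.smul_apply, smul_eq_mul]
    rw [← mul_assoc, hc, inv_mul_cancel₀ hv₀]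
  have hv₁' : B v₁ v₁ ≠ 0 := by rw [hv₁]; exact one_ne_zero
  by_cases hgood : ∃ w : V, B v₁ w = 0 ∧ B w w ≠ 0
  · exact ⟨v₁, hv₁, Or.inr hgood⟩
  push Not at hgood
  -- the complement is alternating
  set W := B.orthogonal (F ∙ v₁) with hW
  have hWmem : ∀ w, w ∈ W ↔ B v₁ w = 0 := by
    intro w
    rw [hW, mem_orthogonal_iff]
    constructor
    · intro h; exact h v₁ (Submodule.mem_span_singleton_self _)
    · intro h n hn
      obtain ⟨a, rfl⟩ := Submodule.mem_span_singleton.1 hn
      rw [map_smul, LinearMap.smul_apply, h, smul_zero]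
    
  have hcompl := LinearMap.BilinForm.isCompl_span_singleton_orthogonal hv₁'
  have hnd := restrict_nondegenerate_orthogonal_spanSingleton B hB hS.isRefl hv₁'
  by_cases hW0 : W = ⊥
  · refine ⟨v₁, hv₁, Or.inl ?_⟩
    have h1 := Submodule.finrank_add_eq_of_isCompl hcompl
    rw [← hW, hW0, finrank_bot, finrank_span_singleton (ne_zero_of_map hv₁'), add_zero] at h1
    exact h1.symm
  · obtain ⟨e, heW, he0⟩ := Submodule.exists_mem_ne_zero_of_ne_bot hW0
    -- find f in W with B e f ≠ 0
    have : ∃ f : W, B e f ≠ 0 := by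
      by_contra hcon
      push Not at hcon
      have := hnd.1 ⟨e, heW⟩ (fun f => hcon f)
      exact he0 (congrArg Subtype.val this)
    obtain ⟨⟨f₀, hf₀W⟩, hef₀⟩ := this
    simp only at hef₀
    set f := (B e f₀)⁻¹ • f₀ with hfdef
    have hfW : f ∈ W := Submodule.smul_mem _ _ hf₀W
    have hef : B e f = 1 := by
      rw [hfdef, map_smul, smul_eq_mul, inv_mul_cancel₀ hef₀]
    have hve : B v₁ e = 0 := (hWmem e).1 heW
    have hvf : B v₁ f = 0 := (hWmem f).1 hfW
    have hee : B e e = 0 := hgood e hve
    have hff : B f f = 0 := hgood f hvf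
    have hev : B e v₁ = 0 := by rw [hS.eq, hve]
    have hfv : B f v₁ = 0 := by rw [hS.eq, hvf]
    have hfe : B f e = 1 := by rw [hS.eq, hef]
    refine ⟨v₁ + e, ?_, Or.inr ⟨v₁ + f, ?_, ?_⟩⟩
    · simp only [map_add, LinearMap.add_apply, hv₁, hve, hev, hee]
      ring
    · simp only [map_add, LinearMap.add_apply, hv₁, hvf, hev, hef]
      have := add_self' (1 : F)
      linear_combination this
    · simp only [map_add, LinearMap.add_apply, hv₁, hvf, hfv, hff]
      simp

theorem main (n : ℕ) : ∀ {V : Type*} [AddCommGroup V] [Module F V] [FiniteDimensional F V],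
    finrank F V = n → ∀ (B : LinearMap.BilinForm F V), B.IsSymm → B.Nondegenerate →
    (n = 0 ∨ ∃ v : V, B v v ≠ 0) →
    ∃ b : Module.Basis (Fin n) F V, ∀ i j, B (b i) (b j) = if i = j then 1 else 0 := by
  induction n with
  | zero =>
    intro V _ _ _ hd B _ _ _
    exact ⟨basisOfFinrankZero hd, fun i => i.elim0⟩
  | succ d ih =>
    intro V _ _ _ hd B hS hB hna
    have hna' : ∃ v : V, B v v ≠ 0 := by
      rcases hna with h | h
      · omega
      · exact h
    obtain ⟨x, hx1, hgood⟩ := exists_good B hS hB hna'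
    have hx : B x x ≠ 0 := by rw [hx1]; exact one_ne_zero
    have hcompl := LinearMap.BilinForm.isCompl_span_singleton_orthogonal hx
    have hd' := hd
    rw [← Submodule.finrank_add_eq_of_isCompl hcompl,
      finrank_span_singleton (ne_zero_of_map hx)] at hd'
    have hdW : finrank F (B.orthogonal (F ∙ x)) = d := by omega
    have hnd := restrict_nondegenerate_orthogonal_spanSingleton B hB hS.isRefl hx
    have hmemW : ∀ w, B x w = 0 → w ∈ B.orthogonal (F ∙ x) := by
      intro w h
      rw [mem_orthogonal_iff]
      intro n hn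
      obtain ⟨a, rfl⟩ := Submodule.mem_span_singleton.1 hn
      rw [map_smul, LinearMap.smul_apply, h, smul_zero]
    have hthird : d = 0 ∨ ∃ w : B.orthogonal (F ∙ x),
        (B.restrict (B.orthogonal (F ∙ x))) w w ≠ 0 := by
      rcases hgood with h | ⟨w, hxw, hww⟩
      · left; omega
      · right
        exact ⟨⟨w, hmemW w hxw⟩, hww⟩
    obtain ⟨v', hv'⟩ := ih hdW (B.restrict (B.orthogonal (F ∙ x))) (hS.restrict _) hnd hthird
    let b :=
      Basis.mkFinCons x v'
        (by
          rintro c y hy hc
          rw [add_eq_zero_iff_neg_eq] at hc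
          rw [← hc, Submodule.neg_mem_iff] at hy
          have := hcompl.disjoint
          rw [Submodule.disjoint_def] at this
          have := this (c • x) (Submodule.smul_mem _ _ <| Submodule.mem_span_singleton_self _) hy
          exact (smul_eq_zero.1 this).resolve_right fun h => hx <| h.symm ▸ map_zero _)
        (by
          intro y
          refine ⟨-B x y / B x x, fun z hz => ?_⟩
          obtain ⟨c, rfl⟩ := Submodule.mem_span_singleton.1 hz
          rw [map_smul, LinearMap.smul_apply, map_add, map_smul, smul_eq_mul, smul_eq_mul,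
            div_mul_cancel₀ _ hx, add_neg_cancel, mul_zero])
    refine ⟨b, ?_⟩
    intro i j
    have hb : (b : Fin (d + 1) → V) = Fin.cons x ((↑) ∘ v') := Basis.coe_mkFinCons _ _ _ _
    rw [hb]
    refine Fin.cases ?_ (fun i => ?_) i <;> refine Fin.cases ?_ (fun j => ?_) j
    · simp [hx1]
    · simp only [Fin.cons_zero, Fin.cons_succ, Function.comp_apply]
      rw [if_neg (Fin.succ_ne_zero j).symm]
      exact (v' j).prop _ (Submodule.mem_span_singleton_self x)
    · simp only [Fin.cons_zero, Fin.cons_succ, Function.comp_apply]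
      rw [if_neg (Fin.succ_ne_zero i), ← hS.eq]
      exact (v' i).prop _ (Submodule.mem_span_singleton_self x)
    · simp only [Fin.cons_succ, Function.comp_apply]
      have := hv' i j
      simp only [LinearMap.BilinForm.restrict_apply, LinearMap.domRestrict_apply] at this
      rw [this]
      simp [Fin.succ_inj]

end

/-- Over a finite field of characteristic two, a non-degenerate symmetric bilinear form that is not alternating (some vector v has B(v, v) ≠ 0) admits an orthonormal basis. -/
theorem result {F V : Type*} [Field F] [Finite F] [CharP F 2] [AddCommGroup V] [Module F V] [FiniteDimensional F V] {n : ℕ} (hV : Module.finrank F V = n) (B : LinearMap.BilinForm F V) (hS : B.IsSymm) (hB : B.Nondegenerate) (hna : ∃ v : V, B v v ≠ 0) : ∃ b : Module.Basis (Fin n) F V, ∀ i j, B (b i) (b j) = if i = j then 1 else 0 :=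
  main n hV B hS hB (Or.inr hna)

end Cfsg.Agent.S2622
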