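import Mathlib
import Cfsg.Statements.S2618
import Cfsg.Agent.Lib.Helper5.QuadWitt

set_option autoImplicit false
open Cfsg

namespace Cfsg.Agent.S2618

open Module QuadraticMap Cfsg.Agent.Lib.Helper5

/-- A non-degenerate quadratic space of odd dimension 2m+1 over a finite field has a basis of m hyperbolic pairs plus an orthogonal vector x with Q(x) ≠ 0. -/
theorem result {F V : Type*} [Field F] [Finite F] [AddCommGroup V] [Module F V] [FiniteDimensional F V] {m : ℕ} (hV : Module.finrank F V = 2 * m + 1) (Q : QuadraticForm F V) (hQ : (QuadraticMap.polarBilin Q).Nondegenerate) : ∃ b : Module.Basis (Unit ⊕ (Fin m ⊕ Fin m)) F V, Q (b (Sum.inl ())) ≠ 0 ∧ (∀ i, QuadraticMap.polar ⇑Q (b (Sum.inl ())) (b (Sum.inr (Sum.inl i))) = 0 ∧ QuadraticMap.polar ⇑Q (b (Sum.inl ())) (b (Sum.inr (Sum.inr i))) = 0) ∧ (∀ i, Q (b (Sum.inr (Sum.inl i))) = 0 ∧ Q (b (Sum.inr (Sum.inr i))) = 0) ∧ (∀ i j, QuadraticMap.polar ⇑Q (b (Sum.inr (Sum.inl i))) (b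 (Sum.inr (Sum.inr j))) = if i = j then 1 else 0) ∧ (∀ i j, QuadraticMap.polar ⇑Q (b (Sum.inr (Sum.inl i))) (b (Sum.inr (Sum.inl j))) = 0 ∧ QuadraticMap.polar ⇑Q (b (Sum.inr (Sum.inr i))) (b (Sum.inr (Sum.inr j))) = 0) := by
  classical
  have hQ' : ∀ z : V, (∀ z', polar Q z z' = 0) → z = 0 := fun z hz => hQ.1 z hz
  obtain ⟨e, f, R, h1, h2, h3, h4, h5, h6⟩ := exists_hyperbolic_family m Q hQ' 1 le_rfl hV
  obtain ⟨⟨x, hxR⟩, hx0, hxspan⟩ := finrank_eq_one_iff'.1 h5
  have hx0' : x ≠ 0 := fun h => hx0 (Subtype.ext h)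
  have hQx : Q x ≠ 0 := by
    intro h0
    apply hx0'
    apply h6 x hxR
    intro z' hz'
    obtain ⟨c, hc⟩ := hxspan ⟨z', hz'⟩
    have : z' = c • x := by
      have := congrArg Subtype.val hc
      simpa using this.symm
    rw [this, polar_smul_right, polar_self, h0]
    simp
  let g : Unit → V := fun _ => x
  have hg : LinearIndependent F g := by
    rw [linearIndependent_unique_iff]
    exact hx0'
  have h4' : ∀ i (j : Unit), polar Q (e i) (g j) = 0 ∧ polar Q (f i) (g j) = 0 :=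
    fun i _ => h4 i x hxR
  have hli := linearIndependent_hyperbolic Q e f h2 h3 g hg h4'
  have hcard : Fintype.card (Unit ⊕ (Fin m ⊕ Fin m)) = finrank F V := by
    rw [hV]; simp; ring
  refine ⟨basisOfLinearIndependentOfCardEqFinrank hli hcard, ?_⟩
  rw [coe_basisOfLinearIndependentOfCardEqFinrank]
  simp only [Sum.elim_inl, Sum.elim_inr, g]
  refine ⟨hQx, ?_, h1, h2, h3⟩
  intro i
  rw [polar_comm, (h4 i x hxR).1, polar_comm, (h4 i x hxR).2]
  exact ⟨rfl, rfl⟩

end Cfsg.Agent.S2618
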