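import Mathlib
import Cfsg.Statements.S0760
import Cfsg.Agent.Lib.Helper5.QuadIsom

set_option autoImplicit false
open Cfsg

namespace Cfsg.Agent.S0760

open Module QuadraticMap

theorem finrank_le_of_maximal {F V : Type*} [Field F] [AddCommGroup V] [Module F V]
    [FiniteDimensional F V] (Q : QuadraticForm F V) (hQ : (polarBilin Q).Nondegenerate)
    (W₁ W₂ : Submodule F V) (h₁ : ∀ w ∈ W₁, Q w = 0) (h₂ : ∀ w ∈ W₂, Q w = 0)
    (hmax₁ : ∀ W : Submodule F V, W₁ ≤ W → (∀ w ∈ W, Q w = 0) → W = W₁) :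
    finrank F W₂ ≤ finrank F W₁ := by
  by_contra hlt
  push Not at hlt
  let b₁ := Module.finBasis F W₁
  let b₂ := Module.finBasis F W₂
  set x : Fin (finrank F W₁) → V := fun i => (b₁ i : V) with hx
  set y : Fin (finrank F W₁) → V := fun i => (b₂ (Fin.castLE hlt.le i) : V) with hy
  have hxli : LinearIndependent F x :=
    b₁.linearIndependent.map' W₁.subtype (Submodule.ker_subtype _)
  have hyli : LinearIndependent F y :=
    (b₂.linearIndependent.comp (Fin.castLE hlt.le) (Fin.castLE_injective _)).map' W₂.subtype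
      (Submodule.ker_subtype _)
  have hpol : ∀ (W : Submodule F V), (∀ w ∈ W, Q w = 0) → ∀ u ∈ W, ∀ v ∈ W, polar Q u v = 0 := by
    intro W hW u hu v hv
    simp only [polar]
    rw [hW _ (W.add_mem hu hv), hW u hu, hW v hv]
    simp
  obtain ⟨g, hg, hgx⟩ := Cfsg.Agent.Lib.Helper5.QuadIsom.witt_family Q hQ _ x y hxli hyli
    (fun i => by rw [h₁ _ (b₁ i).2, h₂ _ (b₂ _).2])
    (fun i j => by rw [hpol W₁ h₁ _ (b₁ i).2 _ (b₁ j).2, hpol W₂ h₂ _ (b₂ _).2 _ (b₂ _).2])
  have hW₁ : W₁ = Submodule.span F (Set.range x) := by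
    have h := b₁.span_eq
    have h' := congrArg (Submodule.map W₁.subtype) h
    rw [Submodule.map_span, Submodule.map_subtype_top, ← Set.range_comp] at h'
    exact h'.symm
  have hle : W₁ ≤ W₂.comap (g : V →ₗ[F] V) := by
    rw [hW₁, Submodule.span_le]
    rintro _ ⟨i, rfl⟩
    show g (x i) ∈ W₂
    rw [hgx i]
    exact (b₂ _).2
  have hts : ∀ w ∈ W₂.comap (g : V →ₗ[F] V), Q w = 0 := by
    intro w hw
    rw [← hg w]
    exact h₂ _ hw
  have heq := hmax₁ _ hle hts
  have hfin : finrank F (W₂.comap (g : V →ₗ[F] V)) = finrank F W₂ := by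
    rw [Submodule.comap_equiv_eq_map_symm]
    exact LinearEquiv.finrank_map_eq g.symm W₂
  rw [heq] at hfin
  omega

/-- Witt index is well defined: if Q is a quadratic form on a finite-dimensional space V over a finite field with non-degenerate polar form, and W₁, W₂ are subspaces on which Q vanishes that are maximal with this property, then W₁ and W₂ have the same dimension, and twice this dimension is at most dim V. -/
theorem result {F V : Type*} [Field F] [Finite F] [AddCommGroup V] [Module F V] [FiniteDimensional F V] (Q : QuadraticForm F V) (hQ : (QuadraticMap.polarBilin Q).Nondegenerate) (W₁ W₂ : Submodule F V) (h₁ : ∀ w ∈ W₁, Q w = 0) (h₂ : ∀ w ∈ W₂, Q w = 0) (hmax₁ : ∀ W : Submodule F V, W₁ ≤ W → (∀ w ∈ W, Q w = 0) → W = W₁) (hmax₂ : ∀ W : Submodule F V, W₂ ≤ W → (∀ w ∈ W, Q w = 0) → W = W₂) : Module.finrank F W₁ = Module.finrank F W₂ ∧ 2 * Module.finrank F W₁ ≤ Module.finrank F V := by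
  constructor
  · exact le_antisymm (finrank_le_of_maximal Q hQ W₂ W₁ h₂ h₁ hmax₂)
      (finrank_le_of_maximal Q hQ W₁ W₂ h₁ h₂ hmax₁)
  · have hle : W₁ ≤ LinearMap.BilinForm.orthogonal (polarBilin Q) W₁ := by
      intro w hw n hn
      show polarBilin Q n w = 0
      rw [polarBilin_apply_apply]
      simp only [polar]
      rw [h₁ _ (W₁.add_mem hn hw), h₁ n hn, h₁ w hw]
      simp
    have h1 := Submodule.finrank_mono hle
    have h2 := LinearMap.BilinForm.finrank_orthogonal hQ W₁
    have h3 : finrank F W₁ ≤ finrank F V := Submodule.finrank_le W₁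
    omega

end Cfsg.Agent.S0760
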