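import Mathlib
import Cfsg.Statements.S2613
import Cfsg.Agent.Lib.Helper5.SpinorHyp
import Cfsg.Agent.Lib.Helper5.PlusGeom

set_option autoImplicit false
open Cfsg

namespace Cfsg.Agent.S2613

open Matrix QuadraticMap Cfsg.Agent.Lib.Helper5 Cfsg.Agent.Lib.Helper5.SpinorNorm
  Cfsg.Agent.Lib.Helper5.SpinorHyp

/-- the first `i` hyperbolic pairs of the plus form -/
theorem plus_hypFamily {F : Type*} [Field F] {m i : ℕ} (him : i ≤ m) :
    IsHypFamily (plusForm m F) (fun t : Fin i => (Sum.inl (Fin.castLE him t) : Fin m ⊕ Fin m))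
      (fun t : Fin i => (Sum.inr (Fin.castLE him t) : Fin m ⊕ Fin m)) where
  inj_α := fun s t hst => Fin.castLE_injective him (Sum.inl_injective hst)
  inj_β := fun s t hst => Fin.castLE_injective him (Sum.inr_injective hst)
  disj := fun s t => Sum.inl_ne_inr
  polar_α := fun t v => by rw [polar_comm, PlusGeom.polar_single_inl]
  polar_β := fun t v => by rw [polar_comm, PlusGeom.polar_single_inr]
  sing_α := fun t => PlusGeom.plus_single_inl _ _ _
  sing_β := fun t => PlusGeom.plus_single_inr _ _ _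

/-- core statement, for the bundled form -/
theorem core {F : Type*} [Field F] [Fintype F] {q : ℕ} (hF : Fintype.card F = q) (hq : Odd q)
    {m : ℕ} (i : ℕ) (hi : 1 ≤ i) (him : i ≤ m) :
    (∃ g : ↥(Cfsg.isometryGroup F ⇑(plusForm m F)),
      g ∈ commutator ↥(Cfsg.isometryGroup F ⇑(plusForm m F)) ∧
      ((g : Matrix.GeneralLinearGroup (Fin m ⊕ Fin m) F) : Matrix (Fin m ⊕ Fin m) (Fin m ⊕ Fin m) F) =
        Matrix.diagonal (fun k : Fin m ⊕ Fin m => if (Sum.elim (fun j : Fin m => (j : ℕ))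
          (fun j : Fin m => (j : ℕ)) k) < i then (-1 : F) else 1)) ↔ q ^ i % 4 = 1 := by
  apply hyp_involution_iff hF hq (PlusGeom.plus_nondegenerate m)
    (by rw [Fintype.card_sum, Fintype.card_fin]; omega) (plus_hypFamily him)
  · intro t
    simp
  · intro t
    simp
  · intro k h1 h3
    rcases k with j | j
    · have : ¬ (j : ℕ) < i := by
        intro hlt
        exact h1 ⟨j, hlt⟩ (by simp [Fin.castLE])
      simp [this]
    · have : ¬ (j : ℕ) < i := by
        intro hlt
        exact h3 ⟨j, hlt⟩ (by simp [Fin.castLE])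
      simp [this]

/-- For the hyperbolic form Σ x_j y_j on F^(2m), F finite with q elements, q odd, and 1 ≤ i ≤ m: the involution negating the first i hyperbolic pairs (x_j, y_j ↦ −x_j, −y_j for j < i) and fixing the rest lies in Ω⁺_2m(q) (commutator subgroup of the orthogonal group) if and only if q^i ≡ 1 (mod 4); its (−1)-eigenspace is a hyperbolic 2i-space. -/
theorem result {F : Type*} [Field F] [Fintype F] {q : ℕ} (hF : Fintype.card F = q) (hq : Odd q) {m : ℕ} (i : ℕ) (hi : 1 ≤ i) (him : i ≤ m) : (∃ g : ↥(Cfsg.isometryGroup F (Cfsg.quadFormPlus m F)), g ∈ Cfsg.Omega F (Cfsg.quadFormPlus m F) ∧ ((g : Matrix.GeneralLinearGroup (Fin m ⊕ Fin m) F) : Matrix (Fin m ⊕ Fin m) (Fin m ⊕ Fin m) F) = Matrix.diagonal (fun k : Fin m ⊕ Fin m => if (Sum.elim (fun j : Fin m => (j : ℕ)) (fun j : Fin m => (j : ℕ)) k) < i then (-1 : F) else 1)) ↔ q ^ i % 4 = 1 := by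
  have := core hF hq i hi him
  rw [coe_plusForm] at this
  exact this

end Cfsg.Agent.S2613
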