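import Mathlib
import Cfsg.Statements.S0293
import Cfsg.Agent.Lib.Helper5.POmegaCard
import Cfsg.Agent.S2613
import Cfsg.Agent.S0287

set_option autoImplicit false
open Cfsg

namespace Cfsg.Agent.S0293

open Matrix QuadraticMap Cfsg.Agent.Lib.Helper5 Cfsg.Agent.Lib.Helper5.SpinorNorm
  Cfsg.Agent.Lib.Helper5.SpinorHyp Cfsg.Agent.Lib.Helper5.SpinorDiag
  Cfsg.Agent.Lib.Helper5.POmegaCard

/-- parity of the cardinality versus the characteristic -/
theorem even_card_of_two_eq_zero {F : Type*} [Field F] [Fintype F] (h2 : (2 : F) = 0) :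
    Even (Fintype.card F) := by
  have : CharP F 2 := CharTwo.of_one_ne_zero_of_two_eq_zero one_ne_zero h2
  have := FiniteField.even_card_of_char_two (ringChar.eq F 2)
  exact Nat.even_iff.mpr this

theorem odd_card_of_two_ne_zero {F : Type*} [Field F] [Fintype F] (h2 : (2 : F) ≠ 0) :
    Odd (Fintype.card F) := by
  have h : ringChar F ≠ 2 := by
    intro hc
    have : CharP F 2 := ringChar.of_eq hc
    exact h2 CharTwo.two_eq_zero
  exact Nat.odd_iff.mpr (FiniteField.odd_card_of_char_ne_two h)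

/-- `-1 ∈ Ω⁺_{2m}(q)` iff `q^m ≡ 1 (mod 4)` -/
theorem negOne_mem_iff {F : Type*} [Field F] [Fintype F] {q : ℕ} (hF : Fintype.card F = q)
    (hq : Odd q) (m : ℕ) (hm : 1 ≤ m) :
    negOne (plusForm m F) ∈ Omega F ⇑(plusForm m F) ↔ q ^ m % 4 = 1 := by
  rw [← Cfsg.Agent.S2613.core hF hq m hm le_rfl]
  have hd : (Matrix.diagonal (fun k : Fin m ⊕ Fin m => if (Sum.elim (fun j : Fin m => (j : ℕ))
      (fun j : Fin m => (j : ℕ)) k) < m then (-1 : F) else 1)) = -1 := by
    ext x y
    rcases x with x | x <;> rcases y with y | y <;>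
      simp [Matrix.diagonal_apply, Matrix.one_apply] <;> split_ifs <;> simp
  rw [hd]
  constructor
  · intro h
    exact ⟨negOne (plusForm m F), h, rfl⟩
  · rintro ⟨g, hg, hg1⟩
    have : g = negOne (plusForm m F) := by
      apply Subtype.ext
      apply Units.ext
      rw [hg1]
      rfl
    rw [← this]
    exact hg

theorem core {F : Type*} [Field F] [Fintype F] {q : ℕ} (hF : Fintype.card F = q) (m : ℕ)
    (hm : 4 ≤ m) :
    Nat.gcd 4 (q ^ m - 1) * Nat.card (Cfsg.POmega F ⇑(plusForm m F)) =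
      q ^ (m * (m - 1)) * (q ^ m - 1) * ∏ i ∈ Finset.range (m - 1), (q ^ (2 * (i + 1)) - 1) := by
  have hO := Cfsg.Agent.S0287.result hF m (by omega)
  rw [← coe_plusForm] at hO
  have hQ := PlusGeom.plus_nondegenerate (F := F) m
  have hfam := Cfsg.Agent.S2613.plus_hypFamily (F := F) (le_refl m)
  have hcard : Fintype.card (Fin m ⊕ Fin m) = m + m := by
    rw [Fintype.card_sum, Fintype.card_fin]
  have : Nonempty (Fin m ⊕ Fin m) := ⟨Sum.inl ⟨0, by omega⟩⟩
  have hq2 : 2 ≤ q := by rw [← hF]; exact Fintype.one_lt_card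
  have hqm : 1 ≤ q ^ m := Nat.one_le_pow _ _ (by omega)
  by_cases h2 : (2 : F) = 0
  · have heven : Even q := by rw [← hF]; exact even_card_of_two_eq_zero h2
    have h1 := card_of_char_two h2 hQ hfam (by omega) (by rw [hcard]; omega)
    have hodd : Odd (q ^ m - 1) := by
      have : Even (q ^ m) := (Nat.even_pow.mpr ⟨heven, by omega⟩)
      obtain ⟨k, hk⟩ := this
      exact ⟨k - 1, by omega⟩
    have hg : Nat.gcd 4 (q ^ m - 1) = 1 := by
      have : Nat.Coprime (2 ^ 2) (q ^ m - 1) :=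
        Nat.Coprime.pow_left 2 (Nat.coprime_two_left.mpr hodd)
      exact this
    rw [hg, one_mul]
    rw [hO] at h1
    have h3 : 2 * Nat.card (Cfsg.POmega F ⇑(plusForm m F)) = 2 * (q ^ (m * (m - 1)) * (q ^ m - 1) *
        ∏ i ∈ Finset.range (m - 1), (q ^ (2 * (i + 1)) - 1)) := by
      rw [h1]; ring
    exact Nat.eq_of_mul_eq_mul_left (by norm_num) h3
  · have hodd : Odd q := by rw [← hF]; exact odd_card_of_two_ne_zero h2
    have hmod : q ^ m % 4 = 1 ∨ q ^ m % 4 = 3 := by
      have : Odd (q ^ m) := hodd.pow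
      obtain ⟨k, hk⟩ := this
      omega
    rcases hmod with hmod | hmod
    · have hneg := (negOne_mem_iff hF hodd m (by omega)).mpr hmod
      have h1 := card_of_mem h2 hQ hfam (by omega) (by rw [hcard]; omega) hneg
      have hg : Nat.gcd 4 (q ^ m - 1) = 4 := Nat.gcd_eq_left (by omega)
      rw [hg]
      rw [hO] at h1
      have h3 : 2 * (4 * Nat.card (Cfsg.POmega F ⇑(plusForm m F))) =
          2 * (q ^ (m * (m - 1)) * (q ^ m - 1) *
            ∏ i ∈ Finset.range (m - 1), (q ^ (2 * (i + 1)) - 1)) := by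
        rw [← mul_assoc, show 2 * 4 = 8 by norm_num, h1]; ring
      exact Nat.eq_of_mul_eq_mul_left (by norm_num) h3
    · have hneg : negOne (plusForm m F) ∉ Omega F ⇑(plusForm m F) := by
        rw [negOne_mem_iff hF hodd m (by omega)]; omega
      have h1 := card_of_not_mem h2 hQ hfam (by omega) (by rw [hcard]; omega) hneg
      have hg : Nat.gcd 4 (q ^ m - 1) = 2 := by
        obtain ⟨k, hk⟩ : ∃ k, q ^ m - 1 = 4 * k + 2 := ⟨q ^ m / 4, by omega⟩
        rw [hk]; simp
      rw [hg]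
      rw [hO] at h1
      have h3 : 2 * (2 * Nat.card (Cfsg.POmega F ⇑(plusForm m F))) =
          2 * (q ^ (m * (m - 1)) * (q ^ m - 1) *
            ∏ i ∈ Finset.range (m - 1), (q ^ (2 * (i + 1)) - 1)) := by
        rw [← mul_assoc, show 2 * 2 = 4 by norm_num, h1]; ring
      exact Nat.eq_of_mul_eq_mul_left (by norm_num) h3


/-- gcd(4, q^m - 1) |PΩ^+_{2m}(q)| = q^(m(m-1)) (q^m - 1) prod_{i=1}^{m-1} (q^(2i) - 1), m at least 4 (type D_m). -/
theorem result {F : Type*} [Field F] [Fintype F] {q : ℕ} (hF : Fintype.card F = q) (m : ℕ) (hm : 4 ≤ m) : Nat.gcd 4 (q ^ m - 1) * Nat.card (Cfsg.POmega F (Cfsg.quadFormPlus m F)) = q ^ (m * (m - 1)) * (q ^ m - 1) * ∏ i ∈ Finset.range (m - 1), (q ^ (2 * (i + 1)) - 1) := by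
  have := core hF m hm
  rw [coe_plusForm] at this
  exact this

end Cfsg.Agent.S0293
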