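import Mathlib
import Cfsg.Statements.S2615
import Cfsg.Agent.Lib.Helper5.SpinorHyp2

set_option autoImplicit false
open Cfsg

namespace Cfsg.Agent.S2615

open Matrix QuadraticMap Cfsg.Agent.Lib.Helper5 Cfsg.Agent.Lib.Helper5.SpinorNorm
  Cfsg.Agent.Lib.Helper5.SpinorHyp Cfsg.Agent.Lib.Helper5.SpinorHyp2
  Cfsg.Agent.Lib.Helper5.OrthCard Cfsg.Agent.Lib.Helper5.OrthPlane

theorem minus_eq {F : Type*} [Field F] (k : ℕ) (a b : F) :
    ⇑(genForm (binForm a b) k) = Cfsg.quadFormMinus k F a b := by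
  funext v
  rw [genForm_apply, binForm_apply]
  simp only [Cfsg.quadFormMinus]
  ring

/-- core statement, for the bundled form -/
theorem core {F : Type*} [Field F] [Fintype F] {q : ℕ} (hF : Fintype.card F = q) (hq : Odd q)
    {k : ℕ} (a b : F)
    (hab : ∀ z₁ z₂ : F, z₁ ^ 2 + a * z₁ * z₂ + b * z₂ ^ 2 = 0 → z₁ = 0 ∧ z₂ = 0)
    (i : ℕ) (hi : 1 ≤ i) (hik : i ≤ k) :
    (∃ g : ↥(Cfsg.isometryGroup F ⇑(genForm (binForm a b) k)),
      g ∈ commutator ↥(Cfsg.isometryGroup F ⇑(genForm (binForm a b) k)) ∧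
      ((g : Matrix.GeneralLinearGroup ((Fin k ⊕ Fin k) ⊕ Fin 2) F) :
        Matrix ((Fin k ⊕ Fin k) ⊕ Fin 2) ((Fin k ⊕ Fin k) ⊕ Fin 2) F) =
        Matrix.diagonal (fun x : (Fin k ⊕ Fin k) ⊕ Fin 2 => if (Sum.elim
          (Sum.elim (fun j : Fin k => (j : ℕ)) (fun j : Fin k => (j : ℕ)))
          (fun _ : Fin 2 => i) x) < i then (-1 : F) else 1)) ↔ q ^ i % 4 = 1 := by
  have han := anisotropic_of a b hab
  apply hyp_involution_iff hF hq
    (genForm_nondegenerate (binForm a b) (binForm_nondegenerate a b han) k)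
    (by simp only [Fintype.card_sum, Fintype.card_fin]; omega)
    (genForm_hypFamily (binForm a b) hik)
  · intro t
    simp
  · intro t
    simp
  · intro x h1 h3
    rcases x with (j | j) | j
    · have : ¬ (j : ℕ) < i := by
        intro hlt
        exact h1 ⟨j, hlt⟩ (by simp [Fin.castLE])
      simp [this]
    · have : ¬ (j : ℕ) < i := by
        intro hlt
        exact h3 ⟨j, hlt⟩ (by simp [Fin.castLE])
      simp [this]
    · simp

/-- For an elliptic form Σ_(j<m−1) x_j y_j + (z₁² + a z₁z₂ + b z₂²) (anisotropic binary part) on F^(2m), F finite with q elements, q odd, and 1 ≤ i ≤ m − 1: the involution negating the first i hyperbolic pairs and fixing the rest lies in Ω⁻_2m(q) (commutator subgroup of the orthogonal group) if and only if q^i ≡ 1 (mod 4). -/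
theorem result {F : Type*} [Field F] [Fintype F] {q : ℕ} (hF : Fintype.card F = q) (hq : Odd q) {m : ℕ} (a b : F) (hab : ∀ z₁ z₂ : F, z₁ ^ 2 + a * z₁ * z₂ + b * z₂ ^ 2 = 0 → z₁ = 0 ∧ z₂ = 0) (i : ℕ) (hi : 1 ≤ i) (him : i + 1 ≤ m) : (∃ g : ↥(Cfsg.isometryGroup F (Cfsg.quadFormMinus (m - 1) F a b)), g ∈ Cfsg.Omega F (Cfsg.quadFormMinus (m - 1) F a b) ∧ ((g : Matrix.GeneralLinearGroup ((Fin (m - 1) ⊕ Fin (m - 1)) ⊕ Fin 2) F) : Matrix ((Fin (m - 1) ⊕ Fin (m - 1)) ⊕ Fin 2) ((Fin (m - 1) ⊕ Fin (m - 1)) ⊕ Fin 2) F) = Matrix.diagonal (fun k : (Fin (m - 1) ⊕ Fin (m - 1)) ⊕ Fin 2 => if (Sum.elim (Sum.elim (fun j : Fin (m - 1) => (j : ℕ)) (fun j : Fin (m - 1) => (j : ℕ))) (fun _ : Fin 2 => i) k) < i then (-1 : F) else 1)) ↔ q ^ i % 4 = 1 := by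
  have := core hF hq a b hab i hi (show i ≤ m - 1 by omega)
  rw [minus_eq] at this
  exact this

end Cfsg.Agent.S2615
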