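import Mathlib
import Cfsg.Statements.S0294
import Cfsg.Agent.Lib.Helper5.POmegaCard
import Cfsg.Agent.S2615
import Cfsg.Agent.S0288
import Cfsg.Agent.S0293

set_option autoImplicit false
set_option linter.unusedSectionVars false
open Cfsg

namespace Cfsg.Agent.S0294

open Matrix QuadraticMap Cfsg.Agent.Lib.Helper5 Cfsg.Agent.Lib.Helper5.SpinorNorm
  Cfsg.Agent.Lib.Helper5.SpinorHyp Cfsg.Agent.Lib.Helper5.SpinorHyp2 Cfsg.Agent.Lib.Helper5.SpinorDiag
  Cfsg.Agent.Lib.Helper5.POmegaCard Cfsg.Agent.Lib.Helper5.OrthCard Cfsg.Agent.Lib.Helper5.OrthPlane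

section
variable {F : Type*} [Field F] (a b : F) (k : ℕ)

/-- first anisotropic vector -/
def xvec : (Fin k ⊕ Fin k) ⊕ Fin 2 → F := Pi.single (Sum.inr 0) 1

/-- second anisotropic vector, orthogonal to the first -/
def yvec : (Fin k ⊕ Fin k) ⊕ Fin 2 → F := Pi.single (Sum.inr 0) (-a) + Pi.single (Sum.inr 1) 2

theorem quad_xvec : genForm (binForm a b) k (xvec k) = 1 := by
  rw [genForm_apply, binForm_apply]
  simp [xvec]

theorem quad_yvec : genForm (binForm a b) k (yvec a k) = 4 * b - a * a := by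
  rw [genForm_apply, binForm_apply]
  simp [yvec]
  ring

theorem polar_xvec (v : (Fin k ⊕ Fin k) ⊕ Fin 2 → F) :
    polar ⇑(genForm (binForm a b) k) (xvec k) v = 2 * v (Sum.inr 0) + a * v (Sum.inr 1) := by
  rw [polar_genForm, polar_binForm]
  simp [xvec]

theorem polar_yvec (v : (Fin k ⊕ Fin k) ⊕ Fin 2 → F) :
    polar ⇑(genForm (binForm a b) k) (yvec a k) v = (4 * b - a * a) * v (Sum.inr 1) := by
  rw [polar_genForm, polar_binForm]
  simp [yvec]
  ring

end

section
variable {F : Type*} [Field F] [Fintype F] (a b : F) (k : ℕ)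

/-- the hyperbolic coordinates -/
def αk : Fin k → (Fin k ⊕ Fin k) ⊕ Fin 2 := fun t => Sum.inl (Sum.inl (Fin.castLE (le_refl k) t))

/-- the hyperbolic coordinates -/
def βk : Fin k → (Fin k ⊕ Fin k) ⊕ Fin 2 := fun t => Sum.inl (Sum.inr (Fin.castLE (le_refl k) t))

theorem hfam : IsHypFamily (genForm (binForm a b) k) (αk k) (βk k) :=
  genForm_hypFamily (binForm a b) (le_refl k)

/-- an orthogonal basis -/
def fullList : List ((Fin k ⊕ Fin k) ⊕ Fin 2 → F) :=
  hypList (F := F) (αk k) (βk k) ++ [xvec k, yvec a k]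

theorem fullList_ne (h2 : (2 : F) ≠ 0) (han : ∀ v : Fin 2 → F, binForm a b v = 0 → v = 0) :
    ∀ v ∈ fullList a k, genForm (binForm a b) k v ≠ 0 := by
  intro v hv
  unfold fullList at hv
  rcases List.mem_append.mp hv with hv | hv
  · exact hypList_ne (hfam a b k) v hv
  · simp only [List.mem_cons, List.not_mem_nil, or_false] at hv
    rcases hv with rfl | rfl
    · rw [quad_xvec]; exact one_ne_zero
    · rw [quad_yvec]; exact disc_ne_zero a b han h2

theorem fullList_pairwise :
    (fullList a k).Pairwise (fun u v => polar ⇑(genForm (binForm a b) k) u v = 0) := by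
  unfold fullList
  rw [List.pairwise_append]
  refine ⟨hypList_pairwise (hfam a b k), ?_, ?_⟩
  · simp only [List.pairwise_cons, List.mem_cons, List.not_mem_nil, or_false, forall_eq,
      IsEmpty.forall_iff, implies_true, List.Pairwise.nil, and_true]
    rw [polar_xvec]
    simp [yvec]
    ring
  · intro u hu v hv
    simp only [List.mem_cons, List.not_mem_nil, or_false] at hv
    rcases hv with rfl | rfl
    · exact polar_hypList_eq_zero (hfam a b k) _ (by intro t; simp [xvec, αk])
        (by intro t; simp [xvec, βk]) u hu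
    · exact polar_hypList_eq_zero (hfam a b k) _ (by intro t; simp [yvec, αk])
        (by intro t; simp [yvec, βk]) u hu

theorem rprod_fullList (h2 : (2 : F) ≠ 0) (han : ∀ v : Fin 2 → F, binForm a b v = 0 → v = 0) :
    rprod (genForm (binForm a b) k) (fullList a k) = -1 := by
  have hd : (-1 : Matrix ((Fin k ⊕ Fin k) ⊕ Fin 2) ((Fin k ⊕ Fin k) ⊕ Fin 2) F) =
      Matrix.diagonal (fun _ => (-1 : F)) := by
    ext x y
    simp only [Matrix.neg_apply, Matrix.one_apply, Matrix.diagonal_apply]
    split_ifs <;> simp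
  rw [hd]
  apply rprod_eq_diagonal _ _ (fullList_ne a b k h2 han) (fullList_pairwise a b k)
  intro j
  left
  refine ⟨rfl, ?_⟩
  have hmono : Submodule.span F {v | v ∈ hypList (F := F) (αk k) (βk k)} ≤
      Submodule.span F {v | v ∈ fullList a k} := by
    apply Submodule.span_mono
    intro v hv
    unfold fullList
    exact List.mem_append_left _ hv
  have hx : xvec k ∈ Submodule.span F {v | v ∈ fullList a k} := by
    apply Submodule.subset_span
    unfold fullList
    simp
  have hy : yvec a k ∈ Submodule.span F {v | v ∈ fullList a k} := by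
    apply Submodule.subset_span
    unfold fullList
    simp
  rcases j with (t | t) | t
  · have := hmono (single_α_mem_span (α := αk k) (β := βk k) h2 t)
    simpa [αk] using this
  · have := hmono (single_β_mem_span (α := αk k) (β := βk k) h2 t)
    simpa [βk] using this
  · fin_cases t
    · exact hx
    · have : (Pi.single (Sum.inr 1) 1 : (Fin k ⊕ Fin k) ⊕ Fin 2 → F) =
          (2 : F)⁻¹ • (yvec a k + a • xvec k) := by
        ext j
        simp only [yvec, xvec, Pi.add_apply, Pi.smul_apply, smul_eq_mul, Pi.single_apply]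
        by_cases h0 : j = Sum.inr 0
        · subst h0; simp
        · by_cases h1 : j = Sum.inr 1
          · subst h1; simp; field_simp
          · simp [h0, h1]
      show (Pi.single (Sum.inr 1) 1 : (Fin k ⊕ Fin k) ⊕ Fin 2 → F) ∈ _
      rw [this]
      exact Submodule.smul_mem _ _ (Submodule.add_mem _ hy (Submodule.smul_mem _ _ hx))

theorem fullList_length : (fullList a k).length = k + k + 2 := by
  unfold fullList
  rw [List.length_append, hypList_length]
  rfl

theorem fullList_prod :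
    ((fullList a k).map (genForm (binForm a b) k)).prod = (-1) ^ k * (4 * b - a * a) := by
  unfold fullList
  rw [List.map_append, List.prod_append, hypList_prod (hfam a b k)]
  simp [quad_xvec, quad_yvec]

end

section
variable {F : Type*} [Field F] [Fintype F] (a b : F) (k : ℕ)

theorem not_isSquare_disc (h2 : (2 : F) ≠ 0)
    (han : ∀ v : Fin 2 → F, binForm a b v = 0 → v = 0) : ¬ IsSquare (a * a - 4 * b) := by
  rintro ⟨s, hs⟩
  have h := han ![(s - a) / 2, 1] (by
    rw [binForm_apply]
    simp only [Matrix.cons_val_zero, Matrix.cons_val_one]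
    field_simp
    linear_combination -hs)
  have := congrFun h 1
  simp at this

theorem isSquare_mul_nonsquare (c d : F) (hc : c ≠ 0) (hd : ¬ IsSquare d) :
    IsSquare (c * d) ↔ ¬ IsSquare c := by
  classical
  have hd0 : d ≠ 0 := by
    rintro rfl
    exact hd ⟨0, by simp⟩
  rw [← quadraticChar_one_iff_isSquare (mul_ne_zero hc hd0), map_mul,
    quadraticChar_neg_one_iff_not_isSquare.mpr hd, ← quadraticChar_neg_one_iff_not_isSquare]
  constructor
  · intro h; linear_combination -h
  · intro h; rw [h]; norm_num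

theorem negOne_mem_iff {q : ℕ} (hF : Fintype.card F = q) (hq : Odd q)
    (han : ∀ v : Fin 2 → F, binForm a b v = 0 → v = 0) :
    negOne (genForm (binForm a b) k) ∈ Omega F ⇑(genForm (binForm a b) k) ↔
      q ^ (k + 1) % 4 = 3 := by
  have h2 : (2 : F) ≠ 0 := two_ne_zero_of_odd_card (by rw [hF]; exact hq)
  have hQ := genForm_nondegenerate (binForm a b) (binForm_nondegenerate a b han) k
  have hn : 2 ≤ Fintype.card ((Fin k ⊕ Fin k) ⊕ Fin 2) := by
    simp only [Fintype.card_sum, Fintype.card_fin]; omega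
  have key := exists_mem_commutator_iff (genForm (binForm a b) k) h2 hQ hn (fullList a k)
    (fullList_ne a b k h2 han) (-1) (rprod_fullList a b k h2 han)
  have h1 : negOne (genForm (binForm a b) k) ∈ Omega F ⇑(genForm (binForm a b) k) ↔
      ∃ g : ↥(isometryGroup F ⇑(genForm (binForm a b) k)),
        g ∈ commutator ↥(isometryGroup F ⇑(genForm (binForm a b) k)) ∧
        ((g : Matrix.GeneralLinearGroup ((Fin k ⊕ Fin k) ⊕ Fin 2) F) :
          Matrix ((Fin k ⊕ Fin k) ⊕ Fin 2) ((Fin k ⊕ Fin k) ⊕ Fin 2) F) = -1 := by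
    constructor
    · intro h
      exact ⟨negOne (genForm (binForm a b) k), h, rfl⟩
    · rintro ⟨g, hg, hg1⟩
      have : g = negOne (genForm (binForm a b) k) := by
        apply Subtype.ext
        apply Units.ext
        rw [hg1]
        rfl
      rw [← this]
      exact hg
  rw [h1, key, fullList_length, fullList_prod]
  have hrew : (-1 : F) ^ k * (4 * b - a * a) = (-1) ^ (k + 1) * (a * a - 4 * b) := by
    rw [pow_succ]; ring
  rw [hrew, isSquare_mul_nonsquare _ _ (pow_ne_zero _ (neg_ne_zero.mpr one_ne_zero))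
    (not_isSquare_disc a b h2 han), isSquare_neg_one_pow_iff' hF hq]
  have hodd : Odd (q ^ (k + 1)) := hq.pow
  obtain ⟨t, ht⟩ := hodd
  constructor
  · rintro ⟨-, h⟩
    omega
  · intro h
    exact ⟨⟨k + 1, by ring⟩, by omega⟩

theorem core {q : ℕ} (hF : Fintype.card F = q) (m : ℕ) (hm : 4 ≤ m)
    (hab : ∀ z₁ z₂ : F, z₁ ^ 2 + a * z₁ * z₂ + b * z₂ ^ 2 = 0 → z₁ = 0 ∧ z₂ = 0) :
    Nat.gcd 4 (q ^ m + 1) * Nat.card (Cfsg.POmega F ⇑(genForm (binForm a b) (m - 1))) =
      q ^ (m * (m - 1)) * (q ^ m + 1) * ∏ i ∈ Finset.range (m - 1), (q ^ (2 * (i + 1)) - 1) := by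
  have han := anisotropic_of a b hab
  have hO := Cfsg.Agent.S0288.result hF m (by omega) a b hab
  rw [← Cfsg.Agent.S2615.minus_eq] at hO
  have hQ := genForm_nondegenerate (binForm a b) (binForm_nondegenerate a b han) (m - 1)
  have hfam := hfam a b (m - 1)
  have hcard : Fintype.card ((Fin (m - 1) ⊕ Fin (m - 1)) ⊕ Fin 2) = (m - 1) + (m - 1) + 2 := by
    simp only [Fintype.card_sum, Fintype.card_fin]
  have : Nonempty ((Fin (m - 1) ⊕ Fin (m - 1)) ⊕ Fin 2) := ⟨Sum.inr 0⟩
  have hq2 : 2 ≤ q := by rw [← hF]; exact Fintype.one_lt_card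
  have hqm : 1 ≤ q ^ m := Nat.one_le_pow _ _ (by omega)
  have hm1 : m - 1 + 1 = m := by omega
  by_cases h2 : (2 : F) = 0
  · have heven : Even q := by rw [← hF]; exact Cfsg.Agent.S0293.even_card_of_two_eq_zero h2
    have h1 := card_of_char_two h2 hQ hfam (by omega) (by rw [hcard]; omega)
    have hodd : Odd (q ^ m + 1) := by
      have : Even (q ^ m) := (Nat.even_pow.mpr ⟨heven, by omega⟩)
      obtain ⟨t, ht⟩ := this
      exact ⟨t, by omega⟩
    have hg : Nat.gcd 4 (q ^ m + 1) = 1 := by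
      have : Nat.Coprime (2 ^ 2) (q ^ m + 1) :=
        Nat.Coprime.pow_left 2 (Nat.coprime_two_left.mpr hodd)
      exact this
    rw [hg, one_mul]
    rw [hO] at h1
    have h3 : 2 * Nat.card (Cfsg.POmega F ⇑(genForm (binForm a b) (m - 1))) =
        2 * (q ^ (m * (m - 1)) * (q ^ m + 1) *
          ∏ i ∈ Finset.range (m - 1), (q ^ (2 * (i + 1)) - 1)) := by
      rw [h1]; ring
    exact Nat.eq_of_mul_eq_mul_left (by norm_num) h3
  · have hodd : Odd q := by rw [← hF]; exact Cfsg.Agent.S0293.odd_card_of_two_ne_zero h2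
    have hmod : q ^ m % 4 = 1 ∨ q ^ m % 4 = 3 := by
      have : Odd (q ^ m) := hodd.pow
      obtain ⟨t, ht⟩ := this
      omega
    have hiff := negOne_mem_iff a b (m - 1) hF hodd han
    rw [hm1] at hiff
    rcases hmod with hmod | hmod
    · have hneg : negOne (genForm (binForm a b) (m - 1)) ∉
          Omega F ⇑(genForm (binForm a b) (m - 1)) := by
        rw [hiff]; omega
      have h1 := card_of_not_mem h2 hQ hfam (by omega) (by rw [hcard]; omega) hneg
      have hg : Nat.gcd 4 (q ^ m + 1) = 2 := by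
        obtain ⟨t, ht⟩ : ∃ t, q ^ m + 1 = 4 * t + 2 := ⟨q ^ m / 4, by omega⟩
        rw [ht]; simp
      rw [hg]
      rw [hO] at h1
      have h3 : 2 * (2 * Nat.card (Cfsg.POmega F ⇑(genForm (binForm a b) (m - 1)))) =
          2 * (q ^ (m * (m - 1)) * (q ^ m + 1) *
            ∏ i ∈ Finset.range (m - 1), (q ^ (2 * (i + 1)) - 1)) := by
        rw [← mul_assoc, show 2 * 2 = 4 by norm_num, h1]; ring
      exact Nat.eq_of_mul_eq_mul_left (by norm_num) h3
    · have hneg := hiff.mpr hmod
      have h1 := card_of_mem h2 hQ hfam (by omega) (by rw [hcard]; omega) hneg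
      have hg : Nat.gcd 4 (q ^ m + 1) = 4 := Nat.gcd_eq_left (by omega)
      rw [hg]
      rw [hO] at h1
      have h3 : 2 * (4 * Nat.card (Cfsg.POmega F ⇑(genForm (binForm a b) (m - 1)))) =
          2 * (q ^ (m * (m - 1)) * (q ^ m + 1) *
            ∏ i ∈ Finset.range (m - 1), (q ^ (2 * (i + 1)) - 1)) := by
        rw [← mul_assoc, show 2 * 4 = 8 by norm_num, h1]; ring
      exact Nat.eq_of_mul_eq_mul_left (by norm_num) h3

end

/-- gcd(4, q^m + 1) |PΩ^-_{2m}(q)| = q^(m(m-1)) (q^m + 1) prod_{i=1}^{m-1} (q^(2i) - 1), m at least 4 (type ²D_m). -/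
theorem result {F : Type*} [Field F] [Fintype F] {q : ℕ} (hF : Fintype.card F = q) (m : ℕ) (hm : 4 ≤ m) (a b : F) (hab : ∀ z₁ z₂ : F, z₁ ^ 2 + a * z₁ * z₂ + b * z₂ ^ 2 = 0 → z₁ = 0 ∧ z₂ = 0) : Nat.gcd 4 (q ^ m + 1) * Nat.card (Cfsg.POmega F (Cfsg.quadFormMinus (m - 1) F a b)) = q ^ (m * (m - 1)) * (q ^ m + 1) * ∏ i ∈ Finset.range (m - 1), (q ^ (2 * (i + 1)) - 1) := by
  have := core a b hF m hm hab
  rw [Cfsg.Agent.S2615.minus_eq] at this
  exact this

end Cfsg.Agent.S0294
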