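import Cfsg.Statements.S2694
import Cfsg.Agent.Lib.Helper9.AOR23
import Cfsg.Agent.Lib.Helper5.SpinorHyp2

set_option autoImplicit false
open Cfsg

namespace Cfsg.Agent.S2694

/-- For m ≥ 3 and a finite field F of odd order, the automorphism group of the orthogonal group Ω_{2m+1}(F) (realised as PΩ of the form x₀² + Σ xᵢ yᵢ, whose centre is trivial) is generated by the automorphisms induced by the semisimilarities v ↦ g σ(v) of the form (the image of the projective semisimilarity group); there are no graph or graph-field automorphisms. -/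
theorem result {F : Type*} [Field F] [Fintype F] (hodd : Odd (Fintype.card F)) {m : ℕ} (hm : 3 ≤ m) :
    Cfsg.gammaPOmega F (Cfsg.quadFormOdd m F) = ⊤ := by
  obtain ⟨p, hp⟩ := CharP.exists F
  haveI := hp
  haveI : Fact p.Prime := ⟨CharP.char_is_prime F p⟩
  have h2 : (2 : F) ≠ 0 := by
    intro h2
    have : CharP F 2 := CharTwo.of_one_ne_zero_of_two_eq_zero one_ne_zero h2
    have h := FiniteField.even_card_of_char_two (ringChar.eq F 2)
    rcases hodd with ⟨k, hk⟩
    omega
  rw [← Cfsg.Agent.Lib.Helper5.SpinorHyp2.coe_oddForm]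
  have hn : Fintype.card (Unit ⊕ (Fin m ⊕ Fin m)) = 2 * m + 1 := by
    simp only [Fintype.card_sum, Fintype.card_fin, Fintype.card_unit]; omega
  have H := Cfsg.Agent.Lib.Helper5.OmegaSimple.Hyp.of_hypFamily
    (Cfsg.Agent.Lib.Helper5.SpinorHyp2.oddForm_nondegenerate h2 m)
    (Cfsg.Agent.Lib.Helper5.SpinorHyp2.oddForm_hypFamily (F := F) (le_refl m)) hm (by omega)
  refine Cfsg.Agent.Lib.Helper9.AOR.gamma_eq_top p H (by omega) ?_
  intro Y hY hle
  exfalso
  have h1 := Cfsg.Agent.Lib.Helper5.MaxTS.finrank_orth _ H.nondeg Y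
  have h3 : Cfsg.Agent.Lib.Helper5.MaxTS.orth (Cfsg.Agent.Lib.Helper5.SpinorHyp2.oddForm m F) Y = Y :=
    le_antisymm hle (Cfsg.Agent.Lib.Helper5.MaxTS.le_orth_of_ts _ Y hY)
  rw [h3, Module.finrank_fintype_fun_eq_card, hn] at h1
  have h4 := Submodule.finrank_le Y
  rw [Module.finrank_fintype_fun_eq_card, hn] at h4
  omega

end Cfsg.Agent.S2694
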