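import Mathlib
import Cfsg.Statements.S0783
import Cfsg.Agent.Lib.Helper5.HermCenter
import Cfsg.Agent.Lib.Helper5.HermCard

set_option autoImplicit false
open Cfsg

namespace Cfsg.Agent.S0783

open Matrix Cfsg.Agent.Lib.Helper5.Herm Cfsg.Agent.Lib.Helper5.HermBlock
  Cfsg.Agent.Lib.Helper5.HermCount Cfsg.Agent.Lib.Helper5.HermCenter Cfsg.Agent.Lib.Helper5.HermCard

section
variable {F : Type*} [Field F] [Fintype F] {q : ℕ} (hF : Fintype.card F = q ^ 2) (n : ℕ)

/-- the norm-one group -/
abbrev K (F : Type*) [Field F] (q : ℕ) : Subgroup Fˣ := (normHom F q).ker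

include hF in
theorem card_K : Nat.card ↥(K F q) = q + 1 := card_ker hF

/-- the determinant as a map to the norm-one group -/
noncomputable def detK : ↥(Cfsg.GU n F q) →* ↥(K F q) :=
  MonoidHom.codRestrict (detGU F q n) (K F q) (detGU_mem_ker hF)

theorem detK_surjective (hn : 1 ≤ n) : Function.Surjective (detK hF n) := by
  intro x
  obtain ⟨g, hg⟩ := exists_detGU_eq hF hn x.1 x.2
  exact ⟨g, Subtype.ext hg⟩

theorem detK_val (g : ↥(Cfsg.GU n F q)) :
    (((detK hF n g : ↥(K F q)) : Fˣ) : F) =
      ((g : Matrix.GeneralLinearGroup (Fin n) F) : Matrix (Fin n) (Fin n) F).det := rfl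

/-- scalar element of `GU` -/
noncomputable def scalarGU (l : ↥(K F q)) : ↥(Cfsg.GU n F q) :=
  ⟨Matrix.GeneralLinearGroup.mkOfDetNeZero (Matrix.diagonal (fun _ : Fin n => ((l.1 : Fˣ) : F))) (by
      rw [det_scalar]
      exact pow_ne_zero _ l.1.ne_zero), by
    rw [mem_GU_iff' hF]
    apply isU_diagonal hF
    intro i
    have := l.2
    rw [MonoidHom.mem_ker] at this
    have h3 : l.1 ^ (q + 1) = 1 := this
    rw [← Units.val_pow_eq_pow_val, h3, Units.val_one]⟩

theorem scalarGU_val (l : ↥(K F q)) :
    ((scalarGU hF n l : Matrix.GeneralLinearGroup (Fin n) F) : Matrix (Fin n) (Fin n) F) =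
      Matrix.diagonal (fun _ : Fin n => ((l.1 : Fˣ) : F)) := rfl

theorem scalarGU_mem_center (l : ↥(K F q)) :
    scalarGU hF n l ∈ Subgroup.center ↥(Cfsg.GU n F q) := by
  rw [Subgroup.mem_center_iff]
  intro g
  apply Subtype.ext
  apply Units.ext
  show (g.1 : Matrix (Fin n) (Fin n) F) * _ = _ * (g.1 : Matrix (Fin n) (Fin n) F)
  rw [scalarGU_val]
  exact scalar_comm n _ _

theorem detK_scalarGU (l : ↥(K F q)) : detK hF n (scalarGU hF n l) = l ^ n := by
  apply Subtype.ext
  apply Units.ext
  rw [detK_val, scalarGU_val, det_scalar]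
  rfl

include hF in
/-- central elements of `GU` are scalar -/
theorem center_scalar (z : ↥(Cfsg.GU n F q)) (hz : z ∈ Subgroup.center ↥(Cfsg.GU n F q)) :
    ∃ l : F, ((z : Matrix.GeneralLinearGroup (Fin n) F) : Matrix (Fin n) (Fin n) F) =
      Matrix.diagonal (fun _ => l) := by
  rw [Subgroup.mem_center_iff] at hz
  apply scalar_of_commute_SU hF
  intro g hg
  have hg' : Matrix.SpecialLinearGroup.toGL g ∈ Cfsg.GU n F q := hg
  have := hz ⟨_, hg'⟩
  have h2 := congrArg (fun x : ↥(Cfsg.GU n F q) =>
    ((x.1 : Matrix.GeneralLinearGroup (Fin n) F) : Matrix (Fin n) (Fin n) F)) this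
  exact h2.symm

end

section cyclic
variable {C : Type*} [CommGroup C] [Finite C] [IsCyclic C]

/-- in a cyclic group of order `N = d * e` with `d = gcd(n, N)`: `x^e = 1` iff `x` is an `n`-th power -/
theorem exists_pow_eq (N n d e : ℕ) (hN : Nat.card C = N) (hd : d = Nat.gcd n N) (hde : d * e = N)
    (hNpos : 0 < N) (x : C) (hx : x ^ e = 1) : ∃ l : C, l ^ n = x := by
  have hdpos : 0 < d := by
    rcases Nat.eq_zero_or_pos d with h | h
    · rw [h, zero_mul] at hde; omega
    · exact h
  have hepos : 0 < e := by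
    rcases Nat.eq_zero_or_pos e with h | h
    · rw [h, mul_zero] at hde; omega
    · exact h
  have hle : (powMonoidHom n : C →* C).range ≤ (powMonoidHom e : C →* C).ker := by
    rintro _ ⟨y, rfl⟩
    rw [MonoidHom.mem_ker, powMonoidHom_apply, powMonoidHom_apply, ← pow_mul]
    obtain ⟨k, hk⟩ : d ∣ n := hd ▸ Nat.gcd_dvd_left n N
    have : n * e = N * k := by rw [hk, ← hde]; ring
    rw [this, pow_mul, ← hN, pow_card_eq_one', one_pow]
  have h1 : Nat.card (powMonoidHom n : C →* C).range = e := by
    rw [IsCyclic.card_powMonoidHom_range, hN, Nat.gcd_comm, ← hd]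
    exact Nat.div_eq_of_eq_mul_right hdpos hde.symm
  have h2 : Nat.card (powMonoidHom e : C →* C).ker = e := by
    rw [IsCyclic.card_powMonoidHom_ker, hN]
    exact Nat.gcd_eq_right (Dvd.intro_left d hde)
  have heq : (powMonoidHom n : C →* C).range = (powMonoidHom e : C →* C).ker :=
    Subgroup.eq_of_le_of_card_ge hle (by rw [h1, h2])
  have hxm : x ∈ (powMonoidHom e : C →* C).ker := by
    rw [MonoidHom.mem_ker, powMonoidHom_apply]; exact hx
  rw [← heq] at hxm
  obtain ⟨l, hl⟩ := hxm
  exact ⟨l, hl⟩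

theorem card_range_pow (N d e : ℕ) (hN : Nat.card C = N) (hde : d * e = N) (hNpos : 0 < N) :
    Nat.card (powMonoidHom e : C →* C).range = d := by
  have hepos : 0 < e := by
    rcases Nat.eq_zero_or_pos e with h | h
    · rw [h, mul_zero] at hde; omega
    · exact h
  rw [IsCyclic.card_powMonoidHom_range, hN, Nat.gcd_eq_right (Dvd.intro_left d hde)]
  exact Nat.div_eq_of_eq_mul_left hepos hde.symm

end cyclic

/-- PGU_n(q)/PSU_n(q) is cyclic of order (n, q+1): for n ≥ 2 and |F| = q² there is a surjective homomorphism from GU_n(q) onto the cyclic group of order gcd(n, q + 1) whose kernel is generated by the determinant-one elements together with the centre. -/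
theorem result {F : Type*} [Field F] [Fintype F] {q : ℕ} (hF : Fintype.card F = q ^ 2) (n : ℕ) (hn : 2 ≤ n) : ∃ φ : ↥(Cfsg.GU n F q) →* Multiplicative (ZMod (Nat.gcd n (q + 1))), Function.Surjective φ ∧ φ.ker = (Matrix.GeneralLinearGroup.det : Matrix.GeneralLinearGroup (Fin n) F →* Fˣ).ker.subgroupOf (Cfsg.GU n F q) ⊔ Subgroup.center ↥(Cfsg.GU n F q) := by
  classical
  have hq := two_le_q hF
  obtain ⟨e, he⟩ : Nat.gcd n (q + 1) ∣ q + 1 := Nat.gcd_dvd_right _ _
  have hK := card_K hF
  have hdpos : 0 < Nat.gcd n (q + 1) := Nat.gcd_pos_of_pos_left _ (by omega)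
  haveI : NeZero (Nat.gcd n (q + 1)) := ⟨by omega⟩
  have hR : Nat.card (powMonoidHom e : ↥(K F q) →* ↥(K F q)).range = Nat.gcd n (q + 1) :=
    card_range_pow (q + 1) _ e hK he.symm (by omega)
  let iso : ↥(powMonoidHom e : ↥(K F q) →* ↥(K F q)).range ≃* Multiplicative (ZMod (Nat.gcd n (q + 1))) :=
    mulEquivOfCyclicCardEq (by
      rw [hR, Nat.card_eq_fintype_card, Fintype.card_multiplicative, ZMod.card])
  refine ⟨iso.toMonoidHom.comp ((powMonoidHom e : ↥(K F q) →* ↥(K F q)).rangeRestrict.comp (detK hF n)),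
    ?_, ?_⟩
  · exact iso.surjective.comp
      ((MonoidHom.rangeRestrict_surjective _).comp (detK_surjective hF n (by omega)))
  · have hker : ∀ g : ↥(Cfsg.GU n F q),
        g ∈ (iso.toMonoidHom.comp ((powMonoidHom e : ↥(K F q) →* ↥(K F q)).rangeRestrict.comp
          (detK hF n))).ker ↔ (detK hF n g) ^ e = 1 := by
      intro g
      rw [MonoidHom.mem_ker, MonoidHom.comp_apply, MulEquiv.coe_toMonoidHom,
        MulEquiv.map_eq_one_iff, MonoidHom.comp_apply]
      constructor
      · intro h
        have := congrArg Subtype.val h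
        exact this
      · intro h
        exact Subtype.ext h
    apply le_antisymm
    · intro g hg
      rw [hker] at hg
      obtain ⟨l, hl⟩ := exists_pow_eq (q + 1) n _ e hK rfl he.symm (by omega) _ hg
      have hs := scalarGU_mem_center hF n l
      have hg2 : g = (g * (scalarGU hF n l)⁻¹) * scalarGU hF n l := by group
      rw [hg2]
      apply Subgroup.mul_mem_sup _ hs
      rw [Subgroup.mem_subgroupOf, MonoidHom.mem_ker]
      have h1 : detK hF n (g * (scalarGU hF n l)⁻¹) = 1 := by
        rw [map_mul, map_inv, detK_scalarGU, hl, mul_inv_cancel]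
      have h2 := congrArg Subtype.val h1
      exact h2
    · apply sup_le
      · intro g hg
        rw [hker]
        rw [Subgroup.mem_subgroupOf, MonoidHom.mem_ker] at hg
        have h1 : detK hF n g = 1 := Subtype.ext hg
        rw [h1, one_pow]
      · intro z hz
        rw [hker]
        obtain ⟨l, hl⟩ := center_scalar hF n z hz
        have hU : l ^ (q + 1) = 1 := by
          have h1 := (mem_GU_iff' hF z.1).mp z.2
          rw [hl] at h1
          unfold IsU at h1
          rw [Matrix.diagonal_transpose, Matrix.diagonal_map (by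
            show (0 : F) ^ q = 0
            exact zero_pow (q_ne_zero hF)), Matrix.diagonal_mul_diagonal] at h1
          have h2 := congrFun (congrFun h1 ⟨0, by omega⟩) ⟨0, by omega⟩
          rw [Matrix.diagonal_apply_eq, Matrix.one_apply_eq] at h2
          rw [pow_succ']
          exact h2
        apply Subtype.ext
        apply Units.ext
        show (((detK hF n z : ↥(K F q)) : Fˣ) : F) ^ e = 1
        rw [detK_val, hl, det_scalar, ← pow_mul]
        obtain ⟨k, hk⟩ : Nat.gcd n (q + 1) ∣ n := Nat.gcd_dvd_left _ _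
        have : n * e = (q + 1) * k := by
          rw [he]
          nth_rewrite 1 [hk]
          ring
        rw [this, pow_mul, hU, one_pow]

end Cfsg.Agent.S0783
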