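import Mathlib
import Cfsg.Statements.S0304
import Cfsg.Agent.Lib.Helper5.SpinorHyp2
import Cfsg.Agent.Lib.Helper5.PlusGeom
import Cfsg.Agent.Lib.Helper5.SympBridge
import Cfsg.Agent.Lib.Helper5.OrthCard
import Cfsg.Agent.Lib.Helper5.Siegel

set_option autoImplicit false
set_option linter.unusedSectionVars false
open Cfsg

namespace Cfsg.Agent.S0304

open Matrix QuadraticMap Cfsg.Agent.Lib.Helper5 Cfsg.Agent.Lib.Helper5.OrthCard
  Cfsg.Agent.Lib.Helper5.SympBridge Cfsg.Agent.Lib.Helper5.SpinorHyp2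
  Cfsg.Agent.Lib.Helper5.CartanDieudonne Cfsg.Agent.Lib.Helper5.Siegel

section
variable {F : Type*} [Field F] (m : ℕ)

theorem sympForm_explicit (u v : Fin m ⊕ Fin m → F) :
    sympForm m F u v = ∑ i, (u (Sum.inr i) * v (Sum.inl i) - u (Sum.inl i) * v (Sum.inr i)) := by
  unfold sympForm
  simp only [dotProduct, Fintype.sum_sum_type, J, Matrix.mulVec, fromBlocks_apply₁₁,
    fromBlocks_apply₁₂, fromBlocks_apply₂₁, fromBlocks_apply₂₂, Matrix.zero_apply, zero_mul,
    Finset.sum_const_zero, zero_add, add_zero, Matrix.neg_apply, Matrix.one_apply, neg_mul,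
    ite_mul, one_mul, Finset.sum_neg_distrib, Finset.sum_ite_eq, Finset.mem_univ, if_true,
    mul_neg]
  rw [Finset.sum_sub_distrib]
  ring

theorem sympForm_eq_polar [CharP F 2] (u v : Fin m ⊕ Fin m → F) :
    sympForm m F u v = polar (plusForm m F) u v := by
  rw [sympForm_explicit, PlusGeom.polar_plus]
  apply Finset.sum_congr rfl
  intro i _
  rw [CharTwo.sub_eq_add]
  ring

end

section main
variable {F : Type*} [Field F] [CharP F 2] (m : ℕ)

/-- the radical vector -/
def e0 : Unit ⊕ (Fin m ⊕ Fin m) → F := Pi.single (Sum.inl ()) 1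

/-- extension by zero -/
def ext0 (y : Fin m ⊕ Fin m → F) : Unit ⊕ (Fin m ⊕ Fin m) → F := Sum.elim 0 y

theorem ext0_inr (y : Fin m ⊕ Fin m → F) : (ext0 m y) ∘ Sum.inr = y := rfl

theorem polar_odd_eq (u v : Unit ⊕ (Fin m ⊕ Fin m) → F) :
    polar (oddForm m F) u v = polar (plusForm m F) (u ∘ Sum.inr) (v ∘ Sum.inr) := by
  rw [polar_oddForm, PlusGeom.polar_plus, CharTwo.two_eq_zero, zero_mul, zero_add]
  rfl

theorem odd_apply (v : Unit ⊕ (Fin m ⊕ Fin m) → F) :
    oddForm m F v = v (Sum.inl ()) ^ 2 + plusForm m F (v ∘ Sum.inr) := by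
  rw [oddForm_apply, plusForm_apply]
  rfl

theorem eq_zero_of_polar_plus (w : Fin m ⊕ Fin m → F)
    (h : ∀ z, polar (plusForm m F) w z = 0) : w = 0 := by
  ext j
  rcases j with j | j
  · have := h (Pi.single (Sum.inr j) 1)
    rwa [PlusGeom.polar_single_inr] at this
  · have := h (Pi.single (Sum.inl j) 1)
    rwa [PlusGeom.polar_single_inl] at this

theorem act_e0 (g : ↥(isometryGroup F ⇑(oddForm m F))) :
    act (oddForm m F) g (e0 m) = e0 m := by
  set w := act (oddForm m F) g (e0 m) with hw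
  have h1 : ∀ z, polar (oddForm m F) w z = 0 := by
    intro z
    rw [← act_inv_act (oddForm m F) g z, hw, polar_act, polar_odd_eq]
    have : (e0 m : Unit ⊕ (Fin m ⊕ Fin m) → F) ∘ Sum.inr = 0 := by
      ext j
      simp [e0]
    rw [this]
    simp [polar]
  have h2 : w ∘ Sum.inr = 0 := by
    apply eq_zero_of_polar_plus
    intro z
    have := h1 (ext0 m z)
    rwa [polar_odd_eq, ext0_inr] at this
  have h3 : oddForm m F w = 1 := by
    rw [hw, quad_act, odd_apply]
    have : (e0 m : Unit ⊕ (Fin m ⊕ Fin m) → F) ∘ Sum.inr = 0 := by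
      ext j
      simp [e0]
    rw [this, map_zero]
    simp [e0]
  rw [odd_apply, h2, map_zero, add_zero] at h3
  have h4 : w (Sum.inl ()) = 1 := by
    have : w (Sum.inl ()) ^ 2 = 1 ^ 2 := by rw [h3, one_pow]
    exact CharTwo.sq_inj.mp this
  ext j
  rcases j with ⟨⟩ | j
  · rw [h4]; simp [e0]
  · have := congrFun h2 j
    simp only [Function.comp_apply, Pi.zero_apply] at this
    rw [this]; simp [e0]

/-- the symplectic block of an isometry -/
def blockA (g : ↥(isometryGroup F ⇑(oddForm m F))) : Matrix (Fin m ⊕ Fin m) (Fin m ⊕ Fin m) F :=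
  ((g : Matrix.GeneralLinearGroup (Unit ⊕ (Fin m ⊕ Fin m)) F) :
    Matrix (Unit ⊕ (Fin m ⊕ Fin m)) (Unit ⊕ (Fin m ⊕ Fin m)) F).toBlocks₂₂

theorem act_inr (g : ↥(isometryGroup F ⇑(oddForm m F))) (v : Unit ⊕ (Fin m ⊕ Fin m) → F) :
    (act (oddForm m F) g v) ∘ Sum.inr = blockA m g *ᵥ (v ∘ Sum.inr) := by
  ext j
  have h0 : ((g : Matrix.GeneralLinearGroup (Unit ⊕ (Fin m ⊕ Fin m)) F) :
      Matrix (Unit ⊕ (Fin m ⊕ Fin m)) (Unit ⊕ (Fin m ⊕ Fin m)) F) (Sum.inr j) (Sum.inl ()) = 0 := by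
    have := congrFun (act_e0 m g) (Sum.inr j)
    unfold act e0 at this
    rw [Matrix.mulVec_single_one] at this
    simpa using this
  simp only [Function.comp_apply, act, Matrix.mulVec, dotProduct, Fintype.sum_sum_type,
    Finset.univ_unique, Finset.sum_singleton, blockA, Matrix.toBlocks₂₂, Matrix.of_apply]
  rw [show (default : Unit) = () from rfl, h0, zero_mul, zero_add]

theorem blockA_mulVec (g : ↥(isometryGroup F ⇑(oddForm m F))) (y : Fin m ⊕ Fin m → F) :
    blockA m g *ᵥ y = (act (oddForm m F) g (ext0 m y)) ∘ Sum.inr := by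
  rw [act_inr, ext0_inr]

theorem blockA_mem (g : ↥(isometryGroup F ⇑(oddForm m F))) :
    blockA m g ∈ symplecticGroup (Fin m) F := by
  rw [mem_symplectic_iff]
  intro u v
  rw [sympForm_eq_polar, sympForm_eq_polar, blockA_mulVec, blockA_mulVec, ← polar_odd_eq,
    polar_act, polar_odd_eq, ext0_inr, ext0_inr]

theorem blockA_mul (g h : ↥(isometryGroup F ⇑(oddForm m F))) :
    blockA m (g * h) = blockA m g * blockA m h := by
  rw [ext_iff_mulVec]
  intro y
  rw [← mulVec_mulVec, blockA_mulVec m (g * h), act_mul, act_inr, ← blockA_mulVec m h]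

theorem blockA_one : blockA m (1 : ↥(isometryGroup F ⇑(oddForm m F))) = 1 := by
  rw [ext_iff_mulVec]
  intro y
  rw [blockA_mulVec, one_mulVec]
  show ((1 : Matrix _ _ F) *ᵥ ext0 m y) ∘ Sum.inr = y
  rw [one_mulVec, ext0_inr]

/-- the homomorphism to the symplectic group -/
def Phi : ↥(isometryGroup F ⇑(oddForm m F)) →* symplecticGroup (Fin m) F where
  toFun g := ⟨blockA m g, blockA_mem m g⟩
  map_one' := Subtype.ext (blockA_one m)
  map_mul' g h := Subtype.ext (blockA_mul m g h)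

theorem Phi_injective : Function.Injective (Phi (F := F) m) := by
  rw [injective_iff_map_eq_one]
  intro g hg
  have hA : blockA m g = 1 := congrArg Subtype.val hg
  have hv : ∀ v, act (oddForm m F) g v = v := by
    intro v
    have h1 : (act (oddForm m F) g v) ∘ Sum.inr = v ∘ Sum.inr := by
      rw [act_inr, hA, one_mulVec]
    have h2 := quad_act (oddForm m F) g v
    rw [odd_apply, odd_apply, h1] at h2
    have h3 := CharTwo.sq_inj.mp (add_right_cancel h2)
    ext j
    rcases j with ⟨⟩ | j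
    · exact h3
    · exact congrFun h1 j
  apply Subtype.ext
  apply Units.ext
  rw [ext_iff_mulVec]
  intro v
  rw [Subgroup.coe_one, Units.val_one, one_mulVec]
  exact hv v

end main

section surj
variable {F : Type*} [Field F] [Fintype F] [CharP F 2] (m : ℕ)

theorem exists_sqrt (x : F) : ∃ y : F, y ^ 2 = x :=
  Finite.surjective_of_injective (CharTwo.sq_injective (R := F)) x

/-- square root in a finite field of characteristic two -/
noncomputable def sqrtF (x : F) : F := Classical.choose (exists_sqrt x)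

theorem sqrtF_sq (x : F) : sqrtF x ^ 2 = x := Classical.choose_spec (exists_sqrt x)

/-- the defect form of a symplectic matrix -/
noncomputable def defect (A : Matrix (Fin m ⊕ Fin m) (Fin m ⊕ Fin m) F) :
    QuadraticForm F (Fin m ⊕ Fin m → F) :=
  plusForm m F - (plusForm m F).comp (Matrix.toLin' A)

theorem defect_apply (A : Matrix (Fin m ⊕ Fin m) (Fin m ⊕ Fin m) F) (y : Fin m ⊕ Fin m → F) :
    defect m A y = plusForm m F y - plusForm m F (A *ᵥ y) := by
  simp [defect]

theorem defect_add (A : Matrix (Fin m ⊕ Fin m) (Fin m ⊕ Fin m) F)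
    (hA : A ∈ symplecticGroup (Fin m) F) (x y : Fin m ⊕ Fin m → F) :
    defect m A (x + y) = defect m A x + defect m A y := by
  have h1 := (mem_symplectic_iff m A).mp hA x y
  rw [sympForm_eq_polar, sympForm_eq_polar] at h1
  unfold polar at h1
  rw [defect_apply, defect_apply, defect_apply, mulVec_add]
  linear_combination (-1 : F) * h1

theorem defect_sum (A : Matrix (Fin m ⊕ Fin m) (Fin m ⊕ Fin m) F)
    (hA : A ∈ symplecticGroup (Fin m) F) (y : Fin m ⊕ Fin m → F) :
    defect m A y = ∑ j, y j ^ 2 * defect m A (Pi.single j 1) := by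
  let D : (Fin m ⊕ Fin m → F) →+ F := AddMonoidHom.mk' (defect m A) (defect_add m A hA)
  have h1 : y = ∑ j, y j • (Pi.single j (1 : F) : Fin m ⊕ Fin m → F) := by
    ext i
    simp [Finset.sum_apply, Pi.single_apply]
  conv_lhs => rw [h1]
  show D (∑ j, y j • (Pi.single j (1 : F) : Fin m ⊕ Fin m → F)) = _
  rw [map_sum]
  apply Finset.sum_congr rfl
  intro j _
  show defect m A (y j • Pi.single j 1) = _
  rw [QuadraticMap.map_smul, smul_eq_mul, _root_.sq]

/-- the row vector of square roots of the defects -/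
noncomputable def beta (A : Matrix (Fin m ⊕ Fin m) (Fin m ⊕ Fin m) F) : Fin m ⊕ Fin m → F :=
  fun j => sqrtF (defect m A (Pi.single j 1))

/-- the lifted matrix -/
noncomputable def liftMat (A : Matrix (Fin m ⊕ Fin m) (Fin m ⊕ Fin m) F) :
    Matrix (Unit ⊕ (Fin m ⊕ Fin m)) (Unit ⊕ (Fin m ⊕ Fin m)) F :=
  fromBlocks 1 (Matrix.of fun _ j => beta m A j) 0 A

theorem liftMat_mulVec (A : Matrix (Fin m ⊕ Fin m) (Fin m ⊕ Fin m) F)
    (v : Unit ⊕ (Fin m ⊕ Fin m) → F) :
    liftMat m A *ᵥ v =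
      Sum.elim (fun _ => v (Sum.inl ()) + beta m A ⬝ᵥ (v ∘ Sum.inr)) (A *ᵥ (v ∘ Sum.inr)) := by
  unfold liftMat
  rw [fromBlocks_mulVec]
  ext j
  rcases j with ⟨⟩ | j
  · simp [Matrix.mulVec, dotProduct]
  · simp

theorem quad_liftMat (A : Matrix (Fin m ⊕ Fin m) (Fin m ⊕ Fin m) F)
    (hA : A ∈ symplecticGroup (Fin m) F) (v : Unit ⊕ (Fin m ⊕ Fin m) → F) :
    oddForm m F (liftMat m A *ᵥ v) = oddForm m F v := by
  rw [odd_apply, odd_apply, liftMat_mulVec]
  have h1 : (Sum.elim (fun _ => v (Sum.inl ()) + beta m A ⬝ᵥ (v ∘ Sum.inr))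
      (A *ᵥ (v ∘ Sum.inr)) : Unit ⊕ (Fin m ⊕ Fin m) → F) ∘ Sum.inr = A *ᵥ (v ∘ Sum.inr) := rfl
  rw [h1, Sum.elim_inl, CharTwo.add_sq]
  have h2 : (beta m A ⬝ᵥ (v ∘ Sum.inr)) ^ 2 = defect m A (v ∘ Sum.inr) := by
    rw [defect_sum m A hA, dotProduct, CharTwo.sum_sq]
    apply Finset.sum_congr rfl
    intro j _
    rw [mul_pow, beta, sqrtF_sq, mul_comm]
  rw [h2, defect_apply]
  ring

theorem det_liftMat (A : Matrix (Fin m ⊕ Fin m) (Fin m ⊕ Fin m) F) :
    (liftMat m A).det = A.det := by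
  unfold liftMat
  rw [Matrix.det_fromBlocks_zero₂₁, Matrix.det_one, one_mul]

/-- the lifted isometry -/
noncomputable def Psi (A : symplecticGroup (Fin m) F) : ↥(isometryGroup F ⇑(oddForm m F)) :=
  ⟨Matrix.GeneralLinearGroup.mk'' (liftMat m A.1) (by
      rw [det_liftMat]; exact SymplecticGroup.symplectic_det A.2), by
    rw [mem_isometryGroup_iff]
    intro v
    exact quad_liftMat m A.1 A.2 v⟩

theorem Phi_Psi (A : symplecticGroup (Fin m) F) : Phi m (Psi m A) = A := by
  apply Subtype.ext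
  show blockA m (Psi m A) = A.1
  unfold blockA Psi liftMat
  exact Matrix.toBlocks_fromBlocks₂₂ _ _ _ _

theorem Phi_surjective : Function.Surjective (Phi (F := F) m) :=
  fun A => ⟨Psi m A, Phi_Psi m A⟩

end surj

/-- In characteristic 2, O_{2m+1}(q) is isomorphic to Sp_{2m}(q). -/
theorem result {F : Type*} [Field F] [Fintype F] [CharP F 2] (m : ℕ) : Nonempty (Cfsg.isometryGroup F (Cfsg.quadFormOdd m F) ≃* Matrix.symplecticGroup (Fin m) F) := by
  have e1 : ↥(isometryGroup F (quadFormOdd m F)) ≃* ↥(isometryGroup F ⇑(oddForm m F)) :=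
    MulEquiv.subgroupCongr (by rw [coe_oddForm])
  exact ⟨e1.trans (MulEquiv.ofBijective (Phi m) ⟨Phi_injective m, Phi_surjective m⟩)⟩

end Cfsg.Agent.S0304
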