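import Mathlib
import Cfsg.Statements.S2573

set_option autoImplicit false
open Cfsg

namespace Cfsg.Agent.S2573

open Module

section
variable {F : Type*} [Field F] {V : Type*} [AddCommGroup V] [Module F V] [FiniteDimensional F V]

lemma finrank_ker_pow_succ_le (f : Module.End F V) (k : ℕ) :
    finrank F (LinearMap.ker (f ^ (k + 1))) ≤
      finrank F (LinearMap.ker (f ^ k)) + finrank F (LinearMap.ker f) := by
  let g : LinearMap.ker (f ^ (k + 1)) →ₗ[F] V := (f ^ k).domRestrict (LinearMap.ker (f ^ (k + 1)))
  have hg : ∀ x : LinearMap.ker (f ^ (k + 1)), g x = (f ^ k) x.1 := fun _ => rfl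
  have h1 := LinearMap.finrank_range_add_finrank_ker g
  have h2 : finrank F (LinearMap.range g) ≤ finrank F (LinearMap.ker f) := by
    apply Submodule.finrank_mono
    rintro _ ⟨x, rfl⟩
    rw [LinearMap.mem_ker, hg]
    have h0 : (f ^ (k + 1)) x.1 = 0 := LinearMap.mem_ker.mp x.2
    have h00 : ∀ y : V, (f ^ (k + 1)) y = f ((f ^ k) y) := fun y => by
      rw [pow_succ']; rfl
    rw [← h00]
    exact h0
  have h3 : finrank F (LinearMap.ker g) ≤ finrank F (LinearMap.ker (f ^ k)) := by
    let h : LinearMap.ker g →ₗ[F] LinearMap.ker (f ^ k) :=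
      LinearMap.codRestrict (LinearMap.ker (f ^ k)) ((LinearMap.ker (f ^ (k + 1))).subtype ∘ₗ (LinearMap.ker g).subtype)
        (fun x => by
          rw [LinearMap.mem_ker]
          have := x.2
          rw [LinearMap.mem_ker, hg] at this
          exact this)
    apply LinearMap.finrank_le_finrank_of_injective (f := h)
    intro x y hxy
    have := congrArg Subtype.val hxy
    apply Subtype.ext
    apply Subtype.ext
    exact this
  omega

lemma finrank_ker_pow_le (f : Module.End F V) (hf : finrank F (LinearMap.ker f) ≤ 1) (k : ℕ) :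
    finrank F (LinearMap.ker (f ^ k)) ≤ k := by
  induction k with
  | zero =>
    rw [pow_zero]
    have : LinearMap.ker (1 : Module.End F V) = ⊥ := LinearMap.ker_id
    rw [this, finrank_bot]
  | succ k ih =>
    have := finrank_ker_pow_succ_le f k
    omega

lemma eq_ker_pow (f : Module.End F V) (hf : finrank F (LinearMap.ker f) ≤ 1) (n : ℕ)
    (hn : f ^ n = 0) (W : Submodule F V) (hW : ∀ v ∈ W, f v ∈ W) :
    W = LinearMap.ker (f ^ finrank F W) := by
  have h1 : (f.restrict hW) ^ n = 0 := by
    rw [Module.End.pow_restrict n hW]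
    ext x
    rw [LinearMap.restrict_apply]
    simp [hn]
  have h2 : (f.restrict hW) ^ finrank F W = 0 := by
    have h3 := Module.End.ker_pow_le_ker_pow_finrank (f.restrict hW) n
    rw [h1, LinearMap.ker_zero, top_le_iff] at h3
    exact LinearMap.ker_eq_top.mp h3
  have h4 : W ≤ LinearMap.ker (f ^ finrank F W) := by
    intro w hw
    rw [LinearMap.mem_ker]
    have := congrArg (fun φ => (φ ⟨w, hw⟩ : W).1) h2
    simp only [Module.End.pow_restrict _ hW, LinearMap.restrict_apply, LinearMap.zero_apply,
      ZeroMemClass.coe_zero] at this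
    exact this
  exact Submodule.eq_of_le_of_finrank_le h4 (finrank_ker_pow_le f hf _)

end

lemma mulVecLin_pow {F : Type*} [Field F] {n : ℕ} (M : Matrix (Fin n) (Fin n) F) (k : ℕ) :
    Matrix.mulVecLin (M ^ k) = (Matrix.mulVecLin M) ^ k := by
  induction k with
  | zero => simp [Module.End.one_eq_id]
  | succ k ih => rw [pow_succ, Matrix.mulVecLin_mul, ih, pow_succ]; rfl

theorem result {F : Type*} [Field F] [Finite F] {n : ℕ} (u : Matrix (Fin n) (Fin n) F) (hnil : (u - 1) ^ n = 0) (hreg : (u - 1).rank = n - 1) (W : Submodule F (Fin n → F)) (hW : ∀ v ∈ W, u.mulVec v ∈ W) : W = LinearMap.ker (Matrix.mulVecLin ((u - 1) ^ Module.finrank F W)) := by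
  rw [mulVecLin_pow]
  set f : Module.End F (Fin n → F) := Matrix.mulVecLin (u - 1) with hf
  have hfn : f ^ n = 0 := by
    rw [hf, ← mulVecLin_pow, hnil]
    simp
  have hker : finrank F (LinearMap.ker f) ≤ 1 := by
    have h1 := LinearMap.finrank_range_add_finrank_ker f
    have h2 : finrank F (LinearMap.range f) = n - 1 := hreg
    rw [Module.finrank_fin_fun] at h1
    omega
  have hWf : ∀ v ∈ W, f v ∈ W := by
    intro v hv
    have : f v = u.mulVec v - v := by
      rw [hf, Matrix.mulVecLin_apply, Matrix.sub_mulVec, Matrix.one_mulVec]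
    rw [this]
    exact Submodule.sub_mem _ (hW v hv) hv
  exact eq_ker_pow f hker n hfn W hWf

end Cfsg.Agent.S2573
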