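import Cfsg.Statements.S0955
import Mathlib
import Cfsg.Agent.Lib.Helper6.BlkFirstMain

set_option autoImplicit false
open Cfsg

namespace Cfsg.Agent.S0955

open Cfsg.Agent.Lib.Helper6

/-- Let D be a defect group of a block of the finite group G relative to a maximal ideal M of the algebraic integers containing the prime p. Then D is the largest normal p-subgroup of its own normalizer: O_p(N_G(D)) = D. -/
theorem result {G : Type*} [Group G] [Finite G] (p : ℕ) [Fact p.Prime] (M : Ideal Cfsg.AlgInt) (hM : Cfsg.IsPModular p M) (B : Set (Cfsg.IrrCharacter G)) (hB : Cfsg.IsPBlock M B) (D : Subgroup G) (hD : Cfsg.IsDefectGroup p M B D) : (Cfsg.pCore p (Subgroup.normalizer (D : Set G))).map (Subgroup.normalizer (D : Set G)).subtype = D := by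
  classical
  have : Fintype G := Fintype.ofFinite G
  have : Fintype (Subgroup.normalizer (D : Set G)) := Fintype.ofFinite _
  have hDp : IsPGroup p D := by
    obtain ⟨χ₀, rfl⟩ := hB
    exact IsDefectGroup.isPGroup hD
  obtain ⟨b, hb, hDb, hind⟩ := firstMain_exists hM D hDp B hB hD
  have h1 := Cfsg.Agent.S0912.result p M hM b hb _ hDb
  have hPn := subgroupOf_normalizer_normal D
  have hPp : IsPGroup p (D.subgroupOf (Subgroup.normalizer (D : Set G))) := by
    rw [← Subgroup.comap_subtype]
    exact hDp.comap_subtype
  have h2 : D.subgroupOf (Subgroup.normalizer (D : Set G))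
      ≤ Cfsg.pCore p (Subgroup.normalizer (D : Set G)) := le_sSup ⟨hPn, hPp⟩
  rw [le_antisymm h1 h2]
  exact Subgroup.map_subgroupOf_eq_of_le Subgroup.le_normalizer

end Cfsg.Agent.S0955
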