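import Cfsg.Statements.S3917
import Cfsg.Agent.Lib.Helper2.AbelianCyclic
import Cfsg.Agent.Lib.Helper2.Cores

set_option autoImplicit false
open Cfsg

namespace Cfsg.Agent.S3917
open Cfsg.Agent.Lib.Helper2

/-- Say that a group has self-centralizing non-cyclic subgroups when every non-cyclic subgroup H satisfies C_G(H) ≤ H. A finite abelian group with self-centralizing non-cyclic subgroups is cyclic or elementary abelian of order p² for a prime p. -/
theorem result {G : Type*} [CommGroup G] [Finite G] (hX : (∀ H : Subgroup G, ¬ IsCyclic ↥H → Subgroup.centralizer (H : Set G) ≤ H)) :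
    IsCyclic G ∨ ∃ p : ℕ, p.Prime ∧ Nat.card G = p ^ 2 ∧ Monoid.exponent G = p := by
  by_cases hc : IsCyclic G
  · left; exact hc
  right
  have hX' : ∀ H : Subgroup G, ¬ IsCyclic ↥H → H = ⊤ := by
    intro H hH
    have := hX H hH
    have htop : Subgroup.centralizer (H : Set G) = ⊤ := by
      rw [eq_top_iff]
      intro x _
      rw [Subgroup.mem_centralizer_iff]
      intro h _
      exact mul_comm _ _
    rw [htop] at this
    exact top_le_iff.1 this
  obtain ⟨p, hp, hlt⟩ := exists_prime_lt_card_torsionSub hc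
  have hT : torsionSub G p = ⊤ := by
    apply hX'
    intro hcyc
    have := card_le_of_isCyclic_of_pow_eq_one (H := torsionSub G p) hp.pos (by
      intro x
      apply Subtype.ext
      exact mem_torsionSub.1 x.2)
    omega
  have hexp : ∀ x : G, x ^ p = 1 := fun x => mem_torsionSub.1 (hT ▸ Subgroup.mem_top x)
  rw [hT, Subgroup.card_top] at hlt
  have : Nontrivial G := by
    by_contra hnt
    rw [not_nontrivial_iff_subsingleton] at hnt
    exact hc inferInstance
  obtain ⟨x, hx⟩ := exists_ne (1 : G)
  have hox : orderOf x = p := by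
    have h1 : orderOf x ∣ p := orderOf_dvd_of_pow_eq_one (hexp x)
    rcases (Nat.dvd_prime hp).1 h1 with h2 | h2
    · exact absurd (orderOf_eq_one_iff.1 h2) hx
    · exact h2
  have hzx : Nat.card (Subgroup.zpowers x) = p := by rw [Nat.card_zpowers, hox]
  have hne : Subgroup.zpowers x ≠ ⊤ := by
    intro htop
    apply hc
    refine ⟨⟨x, fun g => ?_⟩⟩
    have : g ∈ Subgroup.zpowers x := by rw [htop]; exact Subgroup.mem_top g
    exact this
  obtain ⟨y, hy⟩ : ∃ y : G, y ∉ Subgroup.zpowers x := by
    by_contra hall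
    push Not at hall
    exact hne (eq_top_iff.2 fun g _ => hall g)
  have hH : Subgroup.zpowers x ⊔ Subgroup.zpowers y = ⊤ := by
    apply hX'
    intro hcyc
    have h1 := card_le_of_isCyclic_of_pow_eq_one (H := ↥(Subgroup.zpowers x ⊔ Subgroup.zpowers y))
      hp.pos (by
      intro g
      apply Subtype.ext
      exact hexp g)
    have h2 : Subgroup.zpowers x = Subgroup.zpowers x ⊔ Subgroup.zpowers y :=
      Subgroup.eq_of_le_of_card_ge le_sup_left (by rw [hzx]; exact h1)
    apply hy
    rw [h2]
    exact (le_sup_right : Subgroup.zpowers y ≤ _) (Subgroup.mem_zpowers y)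
  have hdvd := card_sup_dvd (Subgroup.zpowers x) (Subgroup.zpowers y)
  rw [hH, Subgroup.card_top, hzx] at hdvd
  have hzy : Nat.card (Subgroup.zpowers y) ∣ p := by
    rw [Nat.card_zpowers]; exact orderOf_dvd_of_pow_eq_one (hexp y)
  have hdvd2 : Nat.card G ∣ p ^ 2 := by
    rw [pow_two]; exact hdvd.trans (Nat.mul_dvd_mul_left p hzy)
  obtain ⟨m, hm, hm2⟩ := (Nat.dvd_prime_pow hp).1 hdvd2
  have hcard : Nat.card G = p ^ 2 := by
    interval_cases m
    · rw [hm2, pow_zero] at hlt; have := hp.one_lt; omega
    · rw [hm2, pow_one] at hlt; omega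
    · exact hm2
  refine ⟨p, hp, hcard, ?_⟩
  rw [Monoid.exponent_eq_prime_iff hp]
  intro g hg
  have h1 : orderOf g ∣ p := orderOf_dvd_of_pow_eq_one (hexp g)
  rcases (Nat.dvd_prime hp).1 h1 with h2 | h2
  · exact absurd (orderOf_eq_one_iff.1 h2) hg
  · exact h2

end Cfsg.Agent.S3917
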