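import Cfsg.Statements.S3918
import Cfsg.Agent.Lib.Helper2.PGroupOdd
import Cfsg.Agent.Lib.Helper2.PGroup

set_option autoImplicit false
open Cfsg

namespace Cfsg.Agent.S3918
open Cfsg.Agent.Lib.Helper2

/-- Say that a group has self-centralizing non-cyclic subgroups when every non-cyclic subgroup H satisfies C_G(H) ≤ H. For an odd prime p, a finite non-abelian p-group has self-centralizing non-cyclic subgroups if and only if it has order p³. -/
theorem result {G : Type*} [Group G] [Finite G] {p : ℕ} [Fact p.Prime] (hp : p ≠ 2) (hG : IsPGroup p G) (hna : ¬ IsMulCommutative G) :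
    (∀ H : Subgroup G, ¬ IsCyclic ↥H → Subgroup.centralizer (H : Set G) ≤ H) ↔ Nat.card G = p ^ 3 := by
  have hpp : p.Prime := Fact.out
  have hncyc : ¬ IsCyclic G := by
    intro hc
    apply hna
    exact ⟨⟨fun a b => by
      let _ := hc
      exact IsCyclic.commGroup.mul_comm a b⟩⟩
  constructor
  · intro hSC
    obtain ⟨E, hEn, hEc, hEp⟩ := exists_normal_elementary_sq hp hG hncyc
    have hEnc : ¬ IsCyclic ↥E := by
      intro hc
      have := card_le_of_isCyclic_of_pow_eq_one (H := ↥E) hpp.pos (by
        intro x
        apply Subtype.ext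
        exact hEp x x.2)
      rw [hEc] at this
      have := hpp.one_lt
      nlinarith
    have hEab : IsMulCommutative ↥E := IsPGroup.isMulCommutative_of_card_eq_prime_sq hEc
    have hCE : Subgroup.centralizer (E : Set G) = E := by
      apply le_antisymm (hSC E hEnc)
      intro x hx
      rw [Subgroup.mem_centralizer_iff]
      intro y hy
      exact congrArg Subtype.val (hEab.is_comm.comm (⟨y, hy⟩ : E) ⟨x, hx⟩)
    have hidx := index_centralizer_dvd_prime hG E hEc
    rw [hCE] at hidx
    have hmul := Subgroup.card_mul_index E
    rcases (Nat.dvd_prime hpp).1 hidx with h1 | h1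
    · exfalso
      rw [Subgroup.index_eq_one] at h1
      apply hna
      refine ⟨⟨fun a b => ?_⟩⟩
      have ha : a ∈ E := h1 ▸ Subgroup.mem_top a
      have hb : b ∈ E := h1 ▸ Subgroup.mem_top b
      exact congrArg Subtype.val (hEab.is_comm.comm (⟨a, ha⟩ : E) ⟨b, hb⟩)
    · rw [h1, hEc] at hmul
      rw [← hmul]; ring
  · intro hcard H hH
    have hdvd : Nat.card H ∣ p ^ 3 := hcard ▸ Subgroup.card_subgroup_dvd_card H
    obtain ⟨m, hm, hm2⟩ := (Nat.dvd_prime_pow hpp).1 hdvd
    interval_cases m
    · exfalso
      rw [pow_zero, Subgroup.card_eq_one] at hm2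
      apply hH
      rw [hm2]
      infer_instance
    · exfalso
      rw [pow_one] at hm2
      exact hH (isCyclic_of_prime_card hm2)
    · -- order p²
      have hHab : IsMulCommutative ↥H := IsPGroup.isMulCommutative_of_card_eq_prime_sq hm2
      have hHi : H.index = p := by
        have := Subgroup.card_mul_index H
        rw [hm2, hcard] at this
        have h3 : p ^ 2 * H.index = p ^ 2 * p := by rw [this]; ring
        exact Nat.eq_of_mul_eq_mul_left (pow_pos hpp.pos 2) h3
      have hco := isCoatom_of_index_prime hpp hHi
      have hle : H ≤ Subgroup.centralizer (H : Set G) := by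
        intro x hx
        rw [Subgroup.mem_centralizer_iff]
        intro y hy
        exact congrArg Subtype.val (hHab.is_comm.comm (⟨y, hy⟩ : H) ⟨x, hx⟩)
      rcases eq_or_lt_of_le hle with h | h
      · rw [← h]
      · exfalso
        have htop := hco.2 _ h
        have hHZ : H ≤ Subgroup.center G := Subgroup.centralizer_eq_top_iff_subset.1 htop
        have hZi : (Subgroup.center G).index ∣ p := by
          have := Subgroup.index_dvd_of_le hHZ
          rwa [hHi] at this
        apply hna
        rcases (Nat.dvd_prime hpp).1 hZi with h1 | h1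
        · rw [Subgroup.index_eq_one] at h1
          refine ⟨⟨fun a b => ?_⟩⟩
          have hb : b ∈ Subgroup.center G := h1 ▸ Subgroup.mem_top b
          exact (Subgroup.mem_center_iff.1 hb a)
        · have : IsCyclic (G ⧸ Subgroup.center G) := by
            apply isCyclic_of_prime_card (p := p)
            rw [← Subgroup.index_eq_card]; exact h1
          exact isMulCommutative_of_isCyclic_quotient_center_self G
    · have : H = ⊤ := by
        apply Subgroup.eq_top_of_card_eq
        rw [hm2, hcard]
      rw [this]
      exact le_top

end Cfsg.Agent.S3918
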