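import Cfsg.Statements.S3919
import Mathlib
import Cfsg.Agent.Lib.Helper1.MaxClassTwoF
import Cfsg.Agent.Lib.Helper1.MaxClassTwoC
import Cfsg.Agent.Lib.Helper1.MaxClassTwoA
import Cfsg.Agent.Lib.Helper1.FrattiniP
import Cfsg.Agent.Lib.Helper4.ConjClass
import Cfsg.Agent.Lib.Helper7.UniqueOrderP
import Cfsg.Agent.Lib.Lead.UniqueP
import Cfsg.Agent.Lib.Helper2.Cores

set_option autoImplicit false
open Cfsg

namespace Cfsg.Agent.S3919

open Cfsg.Agent.Lib

universe u

theorem comm_of_index_commutator_dvd {G : Type*} [Group G] [Finite G] (p : ℕ) [hp : Fact p.Prime]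
    (hG : IsPGroup p G) (h : (commutator G).index ∣ p) : ∀ a b : G, a * b = b * a := by
  have hex : ∃ g : G, Subgroup.zpowers g ⊔ commutator G = ⊤ := by
    by_cases htop : commutator G = ⊤
    · exact ⟨1, by rw [htop]; simp⟩
    · obtain ⟨g, hg⟩ : ∃ g, g ∉ commutator G := by
        by_contra hc
        push Not at hc
        exact htop (eq_top_iff.mpr fun x _ => hc x)
      refine ⟨g, ?_⟩
      have h1 : (Subgroup.zpowers g ⊔ commutator G).index ∣ p :=
        (Subgroup.index_dvd_of_le le_sup_right).trans h
      rcases (Nat.dvd_prime hp.out).mp h1 with h1 | h1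
      · exact Subgroup.index_eq_one.mp h1
      · exfalso
        have h2 : (commutator G).index = p := by
          rcases (Nat.dvd_prime hp.out).mp h with h3 | h3
          · exact absurd (Subgroup.index_eq_one.mp h3) htop
          · exact h3
        have h3 := Subgroup.relIndex_mul_index
          (show commutator G ≤ Subgroup.zpowers g ⊔ commutator G from le_sup_right)
        rw [h1, h2] at h3
        have h4 : (commutator G).relIndex (Subgroup.zpowers g ⊔ commutator G) = 1 := by
          have hp0 : 0 < p := hp.out.pos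
          exact Nat.eq_of_mul_eq_mul_right hp0 (by rw [h3, one_mul])
        have h5 := Subgroup.relIndex_eq_one.mp h4
        exact hg (h5 (le_sup_left (a := Subgroup.zpowers g) (Subgroup.mem_zpowers g)))
  obtain ⟨g, hg⟩ := hex
  have h1 : Subgroup.zpowers g ⊔ frattini G = ⊤ := by
    rw [eq_top_iff, ← hg]
    exact sup_le_sup_left (Helper1.commutator_le_frattini_of_isPGroup p hG) _
  have h2 : Subgroup.zpowers g = ⊤ := frattini_nongenerating h1
  intro a b
  have ha : a ∈ Subgroup.zpowers g := by rw [h2]; trivial
  have hb : b ∈ Subgroup.zpowers g := by rw [h2]; trivial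
  obtain ⟨i, rfl⟩ := Subgroup.mem_zpowers_iff.mp ha
  obtain ⟨j, rfl⟩ := Subgroup.mem_zpowers_iff.mp hb
  rw [← zpow_add, ← zpow_add, add_comm]

theorem index_commutator_le_card_centralizer {G : Type*} [Group G] [Finite G] (x : G) :
    (commutator G).index ≤ Nat.card (Subgroup.centralizer ({x} : Set G)) := by
  have h1 := Helper4.card_carrier_mul_card_centralizer x
  have h2 : Nat.card (ConjClasses.mk x).carrier ≤ Nat.card (commutator G) := by
    refine Nat.card_le_card_of_injective
      (fun c : (ConjClasses.mk x).carrier => (⟨(c : G) * x⁻¹, ?_⟩ : commutator G)) ?_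
    · have hc := c.2
      rw [ConjClasses.mem_carrier_iff_mk_eq, ConjClasses.mk_eq_mk_iff_isConj, isConj_comm, isConj_iff] at hc
      obtain ⟨y, hy⟩ := hc
      rw [← hy]
      exact Subgroup.commutator_mem_commutator (Subgroup.mem_top y) (Subgroup.mem_top x)
    · intro c d hcd
      have : (c : G) * x⁻¹ = (d : G) * x⁻¹ := congrArg Subtype.val hcd
      exact Subtype.ext (mul_right_cancel this)
  have h3 := (commutator G).card_mul_index
  have hpos : 0 < Nat.card (commutator G) := Nat.card_pos
  have h4 : Nat.card (commutator G) * (commutator G).index ≤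
      Nat.card (commutator G) * Nat.card (Subgroup.centralizer ({x} : Set G)) := by
    rw [h3, ← h1]
    exact Nat.mul_le_mul_right _ h2
  exact Nat.le_of_mul_le_mul_left h4 hpos

theorem suzuki_two {G : Type u} [Group G] [Finite G] (n : ℕ) (hn : 3 ≤ n)
    (hG : Nat.card G = 2 ^ n) (x : G)
    (hx : Nat.card (Subgroup.centralizer ({x} : Set G)) ≤ 4) :
    Group.nilpotencyClass G = n - 1 := by
  haveI : Fact (Nat.Prime 2) := ⟨Nat.prime_two⟩
  have hGp : IsPGroup 2 G := IsPGroup.of_card hG
  apply Helper1.max_class_of_index_commutator_aux n hn G hG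
  have h1 := index_commutator_le_card_centralizer x
  have h2 : (commutator G).index ∣ 2 ^ n := by
    rw [← hG]; exact Subgroup.index_dvd_card _
  obtain ⟨j, hj, hj2⟩ := (Nat.dvd_prime_pow Nat.prime_two).mp h2
  have hndvd : ¬ (commutator G).index ∣ 2 := by
    intro hd
    have hcomm := comm_of_index_commutator_dvd 2 hGp hd
    have htop : Subgroup.centralizer ({x} : Set G) = ⊤ := by
      rw [eq_top_iff]
      intro y _
      rw [Subgroup.mem_centralizer_singleton_iff]
      exact hcomm y x
    rw [htop, Subgroup.card_top, hG] at hx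
    have : 2 ^ 3 ≤ 2 ^ n := Nat.pow_le_pow_right (by norm_num) hn
    omega
  rw [hj2] at hndvd h1 ⊢
  have hj3 : j ≤ 2 := by
    by_contra hc
    push Not at hc
    have : 2 ^ 3 ≤ 2 ^ j := Nat.pow_le_pow_right (by norm_num) hc
    omega
  interval_cases j
  · exact absurd (by norm_num) hndvd
  · exact absurd (by norm_num) hndvd
  · norm_num

theorem quat_centralizer (k : ℕ) [NeZero k] :
    Nat.card (Subgroup.centralizer ({QuaternionGroup.xa 0} : Set (QuaternionGroup k))) ≤ 4 := by
  classical
  have hsub : ((Subgroup.centralizer ({QuaternionGroup.xa 0} : Set (QuaternionGroup k)) :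
      Subgroup (QuaternionGroup k)) : Set (QuaternionGroup k)) ⊆
      (({QuaternionGroup.a 0, QuaternionGroup.a (k : ZMod (2 * k)), QuaternionGroup.xa 0,
        QuaternionGroup.xa (k : ZMod (2 * k))} : Finset (QuaternionGroup k)) :
        Set (QuaternionGroup k)) := by
    intro g hg
    rw [SetLike.mem_coe, Subgroup.mem_centralizer_singleton_iff] at hg
    rw [Finset.mem_coe]
    cases g with
    | a i =>
      rw [QuaternionGroup.a_mul_xa, QuaternionGroup.xa_mul_a] at hg
      have h' : 0 - i = 0 + i := QuaternionGroup.xa.inj hg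
      have h2 : i + i = 0 := by
        have : i + i = (0 + i) - (0 - i) := by ring
        rw [this, h', sub_self]
      rcases Helper7.zmod_two_mul_self_eq_zero i h2 with h0 | h0
      · rw [h0]; simp
      · rw [h0]; simp
    | xa i =>
      rw [QuaternionGroup.xa_mul_xa, QuaternionGroup.xa_mul_xa] at hg
      have h' : (k : ZMod (2 * k)) + 0 - i = (k : ZMod (2 * k)) + i - 0 := QuaternionGroup.a.inj hg
      have h2 : i + i = 0 := by
        have : i + i = ((k : ZMod (2 * k)) + i - 0) - ((k : ZMod (2 * k)) + 0 - i) := by ring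
        rw [this, h', sub_self]
      rcases Helper7.zmod_two_mul_self_eq_zero i h2 with h0 | h0
      · rw [h0]; simp
      · rw [h0]; simp
  change Nat.card ((Subgroup.centralizer ({QuaternionGroup.xa 0} : Set (QuaternionGroup k)) :
      Subgroup (QuaternionGroup k)) : Set (QuaternionGroup k)) ≤ 4
  rw [Nat.card_coe_set_eq]
  calc _ ≤ Set.ncard _ := Set.ncard_le_ncard hsub (Finset.finite_toSet _)
    _ = Finset.card _ := Set.ncard_coe_finset _
    _ ≤ 4 := Finset.card_le_four

/-- Say that a group has self-centralizing non-cyclic subgroups when every non-cyclic subgroup H satisfies C_G(H) ≤ H. A finite non-abelian 2-group G of order 2^n has self-centralizing non-cyclic subgroups if and only if G has nilpotency class n − 1 (that is, G is dihedral, semidihedral or generalized quaternion). -/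
theorem result {G : Type*} [Group G] [Finite G] (hna : ¬ IsMulCommutative G) (n : ℕ) (hG : Nat.card G = 2 ^ n) :
    (∀ H : Subgroup G, ¬ IsCyclic ↥H → Subgroup.centralizer (H : Set G) ≤ H) ↔ (⊤ : Subgroup G).lowerCentralSeries (n - 2) ≠ ⊥ := by
  haveI : Fact (Nat.Prime 2) := ⟨Nat.prime_two⟩
  have hGp : IsPGroup 2 G := IsPGroup.of_card hG
  haveI hnil : Group.IsNilpotent G := hGp.isNilpotent
  have hn : 3 ≤ n := by
    by_contra hlt
    push Not at hlt
    apply hna
    have : n = 0 ∨ n = 1 ∨ n = 2 := by omega
    rcases this with rfl | rfl | rfl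
    · rw [pow_zero] at hG
      haveI : Subsingleton G := (Nat.card_eq_one_iff_unique.mp hG).1
      exact ⟨⟨fun a b => Subsingleton.elim _ _⟩⟩
    · rw [pow_one] at hG
      haveI := isCyclic_of_prime_card hG
      exact ⟨⟨fun a b => Lead.UniqueP.comm_of_isCyclic a b⟩⟩
    · exact IsPGroup.isMulCommutative_of_card_eq_prime_sq hG
  have hclass_iff : (⊤ : Subgroup G).lowerCentralSeries (n - 2) ≠ ⊥ ↔
      Group.nilpotencyClass G = n - 1 := by
    rw [Ne, Subgroup.lowerCentralSeries_eq_bot_iff_nilpotencyClass_le]
    have := Helper1.nilpotencyClass_le_of_card_pow 2 n hG (by omega)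
    omega
  rw [hclass_iff]
  constructor
  · intro hP
    -- a central involution
    obtain ⟨k, hk0, hk⟩ := IsPGroup.card_center_eq_prime_pow hG (by omega : 0 < n)
    have h2dvd : 2 ∣ Nat.card (Subgroup.center G) := by
      rw [hk]; exact dvd_pow_self 2 (by omega)
    obtain ⟨z', hz'⟩ := exists_prime_orderOf_dvd_card' (G := Subgroup.center G) 2 h2dvd
    obtain ⟨z, hzdef⟩ : ∃ z : G, z = (z' : G) := ⟨_, rfl⟩
    have hzZ : z ∈ Subgroup.center G := by rw [hzdef]; exact z'.2
    have hz2 : orderOf z = 2 := by rw [hzdef, Subgroup.orderOf_coe]; exact hz'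
    have hz1 : z ≠ 1 := by
      intro h; rw [h, orderOf_one] at hz2; omega
    by_cases hcase : ∃ t : G, orderOf t = 2 ∧ t ≠ z
    · obtain ⟨t, ht2, htz⟩ := hcase
      obtain ⟨H, hHdef⟩ : ∃ H : Subgroup G, H = Subgroup.zpowers t ⊔ Subgroup.zpowers z := ⟨_, rfl⟩
      have htH : t ∈ H := by
        rw [hHdef]; exact le_sup_left (a := Subgroup.zpowers t) (Subgroup.mem_zpowers t)
      have hzH : z ∈ H := by
        rw [hHdef]; exact le_sup_right (b := Subgroup.zpowers z) (Subgroup.mem_zpowers z)
      have hHnc : ¬ IsCyclic ↥H := by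
        intro hcyc
        have hu := Helper7.uniqueOrderP_of_isCyclic (P := ↥H) 2
        have h1 := hu ⟨t, htH⟩ ⟨z, hzH⟩
          (by apply Subtype.ext; rw [Subgroup.coe_pow, Subgroup.coe_one, ← ht2]; exact pow_orderOf_eq_one t)
          (by apply Subtype.ext; rw [Subgroup.coe_pow, Subgroup.coe_one, ← hz2]; exact pow_orderOf_eq_one z)
          (by
            intro h
            have : t = 1 := congrArg Subtype.val h
            rw [this, orderOf_one] at ht2; omega)
        obtain ⟨j, hj⟩ := Subgroup.mem_zpowers_iff.mp h1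
        have hj' : t ^ j = z := by
          have := congrArg Subtype.val hj
          rw [Subgroup.coe_zpow] at this
          exact this
        rw [← zpow_mod_orderOf, ht2] at hj'
        have hcast : ((2 : ℕ) : ℤ) = 2 := rfl
        rw [hcast] at hj'
        rcases Int.emod_two_eq_zero_or_one j with h0 | h0
        · rw [h0, zpow_zero] at hj'
          exact hz1 hj'.symm
        · rw [h0, zpow_one] at hj'
          exact htz hj'
      have hCH := hP H hHnc
      haveI hzn : (Subgroup.zpowers z).Normal := by
        constructor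
        intro x hx g
        have hxZ : x ∈ Subgroup.center G := (Subgroup.zpowers_le.mpr hzZ) hx
        have : g * x * g⁻¹ = x := by
          rw [(Subgroup.mem_center_iff.mp hxZ) g]; group
        rw [this]; exact hx
      have hcardH : Nat.card H ≤ 4 := by
        have h1 := Helper2.card_sup_dvd (Subgroup.zpowers t) (Subgroup.zpowers z)
        rw [Nat.card_zpowers, Nat.card_zpowers, ht2, hz2, ← hHdef] at h1
        exact Nat.le_of_dvd (by norm_num) h1
      have hle : Subgroup.centralizer ({t} : Set G) ≤ H := by
        refine le_trans ?_ hCH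
        intro g hg
        rw [Subgroup.mem_centralizer_singleton_iff] at hg
        have hHle : H ≤ Subgroup.centralizer ({g} : Set G) := by
          rw [hHdef]
          apply sup_le
          · rw [Subgroup.zpowers_le, Subgroup.mem_centralizer_singleton_iff]
            exact hg.symm
          · rw [Subgroup.zpowers_le, Subgroup.mem_centralizer_singleton_iff]
            exact (Subgroup.mem_center_iff.mp hzZ g).symm
        rw [Subgroup.mem_centralizer_iff]
        intro h hh
        have := hHle hh
        rw [Subgroup.mem_centralizer_singleton_iff] at this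
        exact this
      exact suzuki_two n hn hG t ((Subgroup.card_le_of_le hle).trans hcardH)
    · push Not at hcase
      have huop : Lead.UniqueP.UOP 2 G := by
        intro x y hx hy hx1
        have hxz : x = z := hcase x (orderOf_eq_prime hx hx1)
        by_cases hy1 : y = 1
        · rw [hy1]; exact Subgroup.one_mem _
        · have hyz : y = z := hcase y (orderOf_eq_prime hy hy1)
          rw [hxz, hyz]; exact Subgroup.mem_zpowers z
      rcases Lead.UniqueP.cyclic_or_quaternion 2 hGp huop with hcyc | ⟨-, m, ⟨e⟩⟩
      · exfalso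
        apply hna
        exact ⟨⟨fun a b => Lead.UniqueP.comm_of_isCyclic a b⟩⟩
      · haveI : NeZero (2 ^ m) := ⟨by positivity⟩
        apply suzuki_two n hn hG (e.symm (QuaternionGroup.xa 0))
        refine le_trans ?_ (quat_centralizer (2 ^ m))
        refine Nat.card_le_card_of_injective
          (fun g : Subgroup.centralizer ({e.symm (QuaternionGroup.xa 0)} : Set G) =>
            (⟨e (g : G), ?_⟩ : Subgroup.centralizer
              ({QuaternionGroup.xa 0} : Set (QuaternionGroup (2 ^ m))))) ?_
        · have hg := g.2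
          rw [Subgroup.mem_centralizer_singleton_iff] at hg ⊢
          have := congrArg e hg
          rw [map_mul, map_mul, e.apply_symm_apply] at this
          exact this
        · intro g1 g2 h12
          have : e (g1 : G) = e (g2 : G) := congrArg Subtype.val h12
          exact Subtype.ext (e.injective this)
  · intro hc
    obtain ⟨A, hAcyc, hAi⟩ := Helper1.exists_cyclic_index_two_of_max_class n hn hG hc
    obtain ⟨hZ2, -, -⟩ := Helper1.max_class_center_card (p := 2) n hn hG hc
    have hAcomm : ∀ x ∈ A, ∀ y ∈ A, x * y = y * x := by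
      intro x hx y hy
      have := Lead.UniqueP.comm_of_isCyclic (H := ↥A) ⟨x, hx⟩ ⟨y, hy⟩
      exact congrArg Subtype.val this
    have key1 : ∀ x ∈ A, ∀ h : G, h ∉ A → x * h = h * x → x ∈ Subgroup.center G := by
      intro x hx h hh hxh
      rw [Subgroup.mem_center_iff]
      intro g
      by_cases hg : g ∈ A
      · exact hAcomm g hg x hx
      · have hinv : h⁻¹ ∉ A := fun hi => hh (by simpa using Subgroup.inv_mem _ hi)
        have h1 : g * h⁻¹ ∈ A := by
          rw [Subgroup.mul_mem_iff_of_index_two hAi]
          exact ⟨fun h' => absurd h' hg, fun h' => absurd h' hinv⟩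
        have h2 := hAcomm (g * h⁻¹) h1 x hx
        calc g * x = (g * h⁻¹) * (h * x) := by group
          _ = (g * h⁻¹) * (x * h) := by rw [hxh]
          _ = ((g * h⁻¹) * x) * h := by group
          _ = (x * (g * h⁻¹)) * h := by rw [h2]
          _ = x * g := by group
    -- the central involution
    obtain ⟨z', hz'1, hz'u⟩ := (Nat.card_eq_two_iff' (1 : Subgroup.center G)).mp hZ2
    obtain ⟨z, hzdef⟩ : ∃ z : G, z = (z' : G) := ⟨_, rfl⟩
    have hzZ : z ∈ Subgroup.center G := by rw [hzdef]; exact z'.2
    have hz1 : z ≠ 1 := by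
      intro h; apply hz'1; apply Subtype.ext; rw [← hzdef, h]; rfl
    have hZall : ∀ w ∈ Subgroup.center G, w = 1 ∨ w = z := by
      intro w hw
      by_cases hw1 : w = 1
      · exact Or.inl hw1
      · right
        have := hz'u ⟨w, hw⟩ (fun h => hw1 (congrArg Subtype.val h))
        rw [hzdef, ← this]
    have hAcard : Nat.card A = 2 ^ (n - 1) := by
      have h1 := A.card_mul_index
      rw [hAi, hG] at h1
      have h2 : 2 ^ n = 2 ^ (n - 1) * 2 := by rw [← pow_succ, Nat.sub_add_cancel (by omega)]
      rw [h2] at h1
      exact Nat.eq_of_mul_eq_mul_right (by norm_num) h1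
    have hzA : z ∈ A := by
      by_contra hzA
      have hle : A ≤ Subgroup.center G := by
        intro x hx
        exact key1 x hx z hzA (Subgroup.mem_center_iff.mp hzZ x)
      have := Subgroup.card_le_of_le hle
      rw [hAcard, hZ2] at this
      have h4 : 2 ^ 2 ≤ 2 ^ (n - 1) := Nat.pow_le_pow_right (by norm_num) (by omega)
      omega
    have hz2 : z ^ 2 = 1 := by
      have h1 : (z' : Subgroup.center G) ^ 2 = 1 := by
        rw [← hZ2]; exact pow_card_eq_one'
      have := congrArg Subtype.val h1
      rw [Subgroup.coe_pow, Subgroup.coe_one, ← hzdef] at this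
      exact this
    intro H hH
    have hHA : ¬ H ≤ A := by
      intro hle
      exact hH (Subgroup.isCyclic_of_le hle)
    obtain ⟨h, hhH, hhA⟩ : ∃ h ∈ H, h ∉ A := by
      by_contra hcon
      push Not at hcon
      exact hHA hcon
    have hinv : h⁻¹ ∉ A := fun hi => hhA (by simpa using Subgroup.inv_mem _ hi)
    -- a nontrivial element of `H ⊓ A`
    obtain ⟨w, hwH, hwA, hw1⟩ : ∃ w ∈ H, w ∈ A ∧ w ≠ 1 := by
      have hne : ¬ H ≤ Subgroup.zpowers h := by
        intro hle
        exact hH (Subgroup.isCyclic_of_le hle)
      obtain ⟨g, hgH, hgh⟩ : ∃ g ∈ H, g ∉ Subgroup.zpowers h := by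
        by_contra hcon
        push Not at hcon
        exact hne hcon
      by_cases hgA : g ∈ A
      · refine ⟨g, hgH, hgA, ?_⟩
        rintro rfl
        exact hgh (Subgroup.one_mem _)
      · refine ⟨g * h⁻¹, H.mul_mem hgH (H.inv_mem hhH), ?_, ?_⟩
        · rw [Subgroup.mul_mem_iff_of_index_two hAi]
          exact ⟨fun h' => absurd h' hgA, fun h' => absurd h' hinv⟩
        · intro h1
          apply hgh
          have : g = h := by
            calc g = (g * h⁻¹) * h := by group
              _ = h := by rw [h1, one_mul]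
          rw [this]; exact Subgroup.mem_zpowers h
    -- an involution in `H ⊓ A`
    have hzH : z ∈ H := by
      obtain ⟨r, hr⟩ := (hGp.to_subgroup (Subgroup.zpowers w)).exists_card_eq
      have hr0 : r ≠ 0 := by
        rintro rfl
        rw [pow_zero, Nat.card_zpowers, orderOf_eq_one_iff] at hr
        exact hw1 hr
      have h2dvd : 2 ∣ Nat.card (Subgroup.zpowers w) := by
        rw [hr]; exact dvd_pow_self 2 hr0
      obtain ⟨y', hy'⟩ := exists_prime_orderOf_dvd_card' (G := Subgroup.zpowers w) 2 h2dvd
      have hyH : (y' : G) ∈ H := (Subgroup.zpowers_le.mpr hwH) y'.2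
      have hyA : (y' : G) ∈ A := (Subgroup.zpowers_le.mpr hwA) y'.2
      have hy2 : orderOf (y' : G) = 2 := by rw [Subgroup.orderOf_coe]; exact hy'
      have hu := Helper7.uniqueOrderP_of_isCyclic (P := ↥A) 2
      have h1 := hu ⟨(y' : G), hyA⟩ ⟨z, hzA⟩
        (by apply Subtype.ext; rw [Subgroup.coe_pow, Subgroup.coe_one, ← hy2]; exact pow_orderOf_eq_one _)
        (by apply Subtype.ext; rw [Subgroup.coe_pow, Subgroup.coe_one]; exact hz2)
        (by
          intro h
          have : (y' : G) = 1 := congrArg Subtype.val h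
          rw [this, orderOf_one] at hy2; omega)
      obtain ⟨j, hj⟩ := Subgroup.mem_zpowers_iff.mp h1
      have hj' : (y' : G) ^ j = z := by
        have := congrArg Subtype.val hj
        rw [Subgroup.coe_zpow] at this
        exact this
      rw [← hj']
      exact H.zpow_mem hyH j
    have hZH : ∀ w ∈ Subgroup.center G, w ∈ H := by
      intro w hw
      rcases hZall w hw with rfl | rfl
      · exact H.one_mem
      · exact hzH
    intro g hg
    have hgh : h * g = g * h := (Subgroup.mem_centralizer_iff.mp hg) h hhH
    by_cases hgA : g ∈ A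
    · exact hZH g (key1 g hgA h hhA hgh.symm)
    · have h1 : g * h⁻¹ ∈ A := by
        rw [Subgroup.mul_mem_iff_of_index_two hAi]
        exact ⟨fun h' => absurd h' hgA, fun h' => absurd h' hinv⟩
      have h2 : (g * h⁻¹) * h = h * (g * h⁻¹) := by
        calc (g * h⁻¹) * h = g := by group
          _ = (h * g) * h⁻¹ := by rw [hgh]; group
          _ = h * (g * h⁻¹) := by group
      have h3 := hZH _ (key1 _ h1 h hhA h2)
      have : g = (g * h⁻¹) * h := by group
      rw [this]
      exact H.mul_mem h3 hhH

end Cfsg.Agent.S3919
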