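import Mathlib
import Cfsg.Statements.S5892
import Cfsg.Agent.Lib.Helper5.PSL2MaxOdd.LocalMax
import Cfsg.Agent.Lib.Helper5.PSL2MaxOdd.TameChar

set_option autoImplicit false
open Cfsg
open Matrix Cfsg.Agent.Lib.Helper4 Cfsg.Agent.Lib.Helper5.Mob Cfsg.Agent.Lib.Helper5.MobPGL
  Cfsg.Agent.Lib.Helper5.MobWild Cfsg.Agent.Lib.Helper5.MobRat Cfsg.Agent.Lib.Helper5.DicksonBorel
  Cfsg.Agent.Lib.Helper5.DicksonMain Cfsg.Agent.Lib.Helper5.DicksonOrders
  Cfsg.Agent.Lib.Helper5.DicksonMax Cfsg.Agent.Lib.Helper5.PSL2Tori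
  Cfsg.Agent.Lib.Helper5.PSL2MaxOdd
open scoped LinearAlgebra.Projectivization MatrixGroups

namespace Cfsg.Agent.S5892

/-- Let F be a finite field of odd order q ≥ 5 and characteristic p, and let M be a maximal subgroup of PSL₂(F). Then one of the following holds: |M| = q(q − 1)/2 (the stabiliser of a point of the projective line); q ≥ 13 and M is dihedral of order q − 1; q ∉ {7, 9} and M is dihedral of order q + 1; q = q₀² and M ≅ PGL₂(F₀) with |F₀| = q₀; q = q₀^r for an odd prime r and M ≅ PSL₂(F₀) with |F₀| = q₀; q ≡ ±1 (mod 10) with q = p or q = p², p ≡ ±3 (mod 10), and M ≅ A₅; q = p ≡ ±3 (mod 8), q ≢ ±1 (mod 10), and M ≅ A₄; or q = p ≡ ±1 (mod 8) and M ≅ S₄. -/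
theorem result {F : Type*} [Field F] [Fintype F] (p : ℕ)
    [Fact p.Prime] [CharP F p] (hodd : Odd (Fintype.card F)) (h5 : 5 ≤ Fintype.card F)
    (M : Subgroup (Matrix.ProjectiveSpecialLinearGroup (Fin 2) F)) (hM : IsCoatom M) :
    2 * Nat.card M = Fintype.card F * (Fintype.card F - 1) ∨
    (13 ≤ Fintype.card F ∧ (∃ k : ℕ, 2 * k = Fintype.card F - 1 ∧ Nonempty (M ≃* DihedralGroup k))) ∨
    (Fintype.card F ≠ 7 ∧ Fintype.card F ≠ 9 ∧ (∃ k : ℕ, 2 * k = Fintype.card F + 1 ∧ Nonempty (M ≃* DihedralGroup k))) ∨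
    (∃ (F₀ : Type) (_ : Field F₀) (_ : Fintype F₀), Fintype.card F = Fintype.card F₀ ^ 2 ∧
        Nonempty (M ≃* Matrix.ProjGenLinGroup (Fin 2) F₀)) ∨
    (∃ (F₀ : Type) (_ : Field F₀) (_ : Fintype F₀) (r : ℕ), r.Prime ∧ Odd r ∧ Fintype.card F = Fintype.card F₀ ^ r ∧
        Nonempty (M ≃* Matrix.ProjectiveSpecialLinearGroup (Fin 2) F₀)) ∨
    ((Fintype.card F % 10 = 1 ∨ Fintype.card F % 10 = 9) ∧
        (Fintype.card F = p ∨ (Fintype.card F = p ^ 2 ∧ (p % 10 = 3 ∨ p % 10 = 7))) ∧
        Nonempty (M ≃* alternatingGroup (Fin 5))) ∨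
    (Fintype.card F = p ∧ (p % 8 = 3 ∨ p % 8 = 5) ∧ ¬ (p % 10 = 1 ∨ p % 10 = 9) ∧
        Nonempty (M ≃* alternatingGroup (Fin 4))) ∨
    (Fintype.card F = p ∧ (p % 8 = 1 ∨ p % 8 = 7) ∧ Nonempty (M ≃* Equiv.Perm (Fin 4))) := by
  classical
  have hq2 : Fintype.card F % 2 = 1 := Nat.odd_iff.mp hodd
  have hpp : p.Prime := Fact.out
  have : CharP (AlgebraicClosure F) p :=
    charP_of_injective_algebraMap (algebraMap F (AlgebraicClosure F)).injective p
  set j := algebraMap F (AlgebraicClosure F) with hj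
  have hd : Nat.gcd 2 (Fintype.card F - 1) = 2 := gcd_two_of_odd hq2
  have h2F : (2 : F) ≠ 0 := Cfsg.Agent.Lib.Helper5.SumTwoSq.two_ne_zero_of_odd hq2
  have hG2 := two_mul_card_PSL2 (F := F) hq2
  have hGbig : 60 ≤ Nat.card (Matrix.ProjectiveSpecialLinearGroup (Fin 2) F) := by
    have : 5 * (4 * 6) ≤
        Fintype.card F * ((Fintype.card F - 1) * (Fintype.card F + 1)) :=
      Nat.mul_le_mul h5 (Nat.mul_le_mul (by omega) (by omega))
    omega
  -- `M` is not trivial
  have hM2 : 2 ≤ Nat.card M := by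
    by_contra hlt
    have hpos : 0 < Nat.card M := Nat.card_pos
    have h1 : Nat.card M = 1 := by omega
    have hbot : M = ⊥ := Subgroup.card_eq_one.mp h1
    obtain ⟨hne, hsq⟩ := (Cfsg.Agent.Lib.Helper5.PSL2Pairs.inv_iff_trace h2F
      (Cfsg.Agent.Lib.Helper5.SL2Quat.qi F)).mpr Cfsg.Agent.Lib.Helper5.SL2Four.qi_trace
    set g : Matrix.ProjectiveSpecialLinearGroup (Fin 2) F :=
      QuotientGroup.mk (Cfsg.Agent.Lib.Helper5.SL2Quat.qi F) with hg
    have h3 : M < Subgroup.zpowers g := by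
      rw [hbot, bot_lt_iff_ne_bot, Ne, Subgroup.zpowers_eq_bot]
      exact hne
    have h7 := hM.2 _ h3
    have : Fact (Nat.Prime 2) := ⟨Nat.prime_two⟩
    have ho : orderOf g = 2 := orderOf_eq_prime (by rw [pow_two]; exact hsq) hne
    have h8 : Nat.card (Subgroup.zpowers g) = 2 := by rw [Nat.card_zpowers, ho]
    rw [h7, Subgroup.card_top] at h8
    omega
  by_cases hfix : ∃ z : ℙ (AlgebraicClosure F) (Fin 2 → AlgebraicClosure F),
      ∀ g : img j M, g • z = z
  · left
    obtain ⟨z, hz⟩ := hfix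
    have := max_of_fixed j p M (by omega) hM hM2 z hz
    rw [hd] at this
    exact this
  have hH2 : 2 ≤ Nat.card (img j M) := by
    rw [← Nat.card_congr (imgIso j M).toEquiv]; exact hM2
  rcases (subMob (img j M) p).cases hH2 with h | ⟨x, hn2, -⟩ | h | h | h | h | h
  · exact absurd h hfix
  · -- dihedral subgroups
    have := max_of_orbit_two j p M (by omega) hM x hn2 hfix
    rw [hd] at this
    rcases this with ⟨⟨e⟩⟩ | ⟨⟨e⟩⟩
    · right; left
      refine ⟨?_, (Fintype.card F - 1) / 2, by omega, ⟨e⟩⟩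
      by_contra hlt
      have hcases : Fintype.card F = 5 ∨ Fintype.card F = 7 ∨ Fintype.card F = 9 ∨
          Fintype.card F = 11 := by omega
      apply no_dihedral_small hq2 M hM _ e
      rcases hcases with h | h | h | h
      · left; exact ⟨h, by rw [h]⟩
      · right; left; exact ⟨h, by rw [h]⟩
      · right; right; right; left; exact ⟨h, by rw [h]⟩
      · right; right; right; right; right; exact ⟨h, by rw [h]⟩
    · right; right; left
      refine ⟨?_, ?_, (Fintype.card F + 1) / 2, by omega, ⟨e⟩⟩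
      · intro h
        apply no_dihedral_small hq2 M hM _ e
        right; right; left; exact ⟨h, by rw [h]⟩
      · intro h
        apply no_dihedral_small hq2 M hM _ e
        right; right; right; right; left; exact ⟨h, by rw [h]⟩
  · -- tetrahedral subgroups
    obtain ⟨n2, n3, -⟩ := IsMob.Tame3.not_dvd _ h
    obtain ⟨e'⟩ := IsMob.tetrahedral _ h
    have e : M ≃* alternatingGroup (Fin 4) := (imgIso j M).trans e'
    have hp12 : ¬ p ∣ 12 := by
      intro hdvd
      have h12 : (12 : ℕ) = 2 * 2 * 3 := by norm_num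
      rw [h12] at hdvd
      rcases (Nat.Prime.dvd_mul hpp).mp hdvd with h' | h'
      · rcases (Nat.Prime.dvd_mul hpp).mp h' with h' | h'
        · exact n2 h'
        · exact n2 h'
      · exact n3 h'
    have hqp := card_eq_p_of_A4 p hq2 M hM e hp12
    have h8 := A4_mod8 hq2 h5 M hM e
    have h10 := A4_mod10 hq2 h5 h8 M hM e
    rw [hqp] at h8 h10
    right; right; right; right; right; right; left
    exact ⟨hqp, h8, h10, ⟨e⟩⟩
  · -- octahedral subgroups
    obtain ⟨n2, n3, -⟩ := IsMob.Tame3.not_dvd _ h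
    obtain ⟨e'⟩ := IsMob.octahedral _ h
    have e : M ≃* Equiv.Perm (Fin 4) := (imgIso j M).trans e'
    have hp24 : ¬ p ∣ 24 := by
      intro hdvd
      have h24 : (24 : ℕ) = 2 * 2 * 2 * 3 := by norm_num
      rw [h24] at hdvd
      rcases (Nat.Prime.dvd_mul hpp).mp hdvd with h' | h'
      · rcases (Nat.Prime.dvd_mul hpp).mp h' with h' | h'
        · rcases (Nat.Prime.dvd_mul hpp).mp h' with h' | h'
          · exact n2 h'
          · exact n2 h'
        · exact n2 h'
      · exact n3 h'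
    have hqp := card_eq_p_of_S4 p hq2 M hM e hp24
    have h16 := Cfsg.Agent.Lib.Helper5.PSL2S4.sq_mod_of_S4 hq2 M e
    have h8 : Fintype.card F % 8 = 1 ∨ Fintype.card F % 8 = 7 := by
      have hlt : Fintype.card F % 16 < 16 := Nat.mod_lt _ (by norm_num)
      rw [Nat.pow_mod] at h16
      have hmod : Fintype.card F % 8 = (Fintype.card F % 16) % 8 := by omega
      rw [hmod]
      revert h16
      generalize Fintype.card F % 16 = r at hlt
      intro h16
      interval_cases r <;> simp at h16 <;> omega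
    rw [hqp] at h8
    right; right; right; right; right; right; right
    exact ⟨hqp, h8, ⟨e⟩⟩
  · -- icosahedral subgroups, tame case
    obtain ⟨-, -, n5⟩ := IsMob.Tame3.not_dvd _ h
    obtain ⟨e'⟩ := IsMob.icosahedral_tame _ h
    have e : M ≃* alternatingGroup (Fin 5) := (imgIso j M).trans e'
    have hp5 : p ≠ 5 := by rintro rfl; exact n5 (dvd_refl 5)
    obtain ⟨c1, c2⟩ := A5_facts p hq2 M hM e hp5
    right; right; right; right; right; left
    exact ⟨c1, c2, ⟨e⟩⟩
  · -- subfield subgroups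
    rcases max_of_wild_odd j p M hodd hM h with h' | h'
    · right; right; right; left; exact h'
    · right; right; right; right; left; exact h'
  · -- icosahedral subgroups in characteristic three
    have hp3 := IsMob.WildA5.eq_three _ h
    obtain ⟨e'⟩ := IsMob.icosahedral_wild _ h
    have e : M ≃* alternatingGroup (Fin 5) := (imgIso j M).trans e'
    have hp5 : p ≠ 5 := by omega
    obtain ⟨c1, c2⟩ := A5_facts p hq2 M hM e hp5
    right; right; right; right; right; left
    exact ⟨c1, c2, ⟨e⟩⟩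

end Cfsg.Agent.S5892
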