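import Cfsg.Statements.S5119
import Cfsg.Agent.Lib.Helper2.StrongInv2

set_option autoImplicit false
open Cfsg Cfsg.FusionSystem Cfsg.Agent.Lib.Helper9 Cfsg.Agent.Lib.Helper2.StrongInv

namespace Cfsg.Agent.S5119

/-- Let F be a saturated fusion system over a finite p-group S and E a subsystem of F over a subgroup T that is strongly closed in F. Then E is invariant in F (invariance under Aut_F(T) plus the Frattini condition) if and only if the strong invariance condition holds: for P ≤ Q ≤ T, every map φ of E from P into Q and every map ψ of F with source Q, the transported map ψ φ ψ⁻¹ on ψ(P) is a map of E. -/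
theorem result {Ω : Type*} [Group Ω] {S : Subgroup Ω} [Finite S] (p : ℕ) [Fact p.Prime] (hS : IsPGroup p S) (F : Cfsg.FusionSystem S) (hF : F.IsSaturated p) {T : Subgroup Ω} (E : Cfsg.FusionSystem T) (hE : E.IsSubsystemOf F) (hT : F.StronglyClosed T) : E.IsInvariantIn F ↔ ∀ (P Q : Subgroup Ω) (hPQ : P ≤ Q) (_ : Q ≤ T) (φ : P →* Ω) (_ : φ ∈ E.Hom P) (hφQ : ∀ x : P, φ x ∈ Q) (ψ : Q →* Ω) (_ : ψ ∈ F.Hom Q), ∃ χ ∈ E.Hom ((P.subgroupOf Q).map ψ), ∀ (x : P) (hx : ψ (Subgroup.inclusion hPQ x) ∈ (P.subgroupOf Q).map ψ), χ ⟨ψ (Subgroup.inclusion hPQ x), hx⟩ = ψ ⟨φ x, hφQ x⟩ := by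
  constructor
  · intro hinv
    have hInv := inv_of_invariant hinv
    obtain ⟨-, -, -, hFrat⟩ := hinv
    intro P Q hPQ hQT φ hφ hφQ ψ hψ
    obtain ⟨α, hα, ψ₀, hψ₀, hψe⟩ := hFrat Q hQT ψ hψ
    have hψ₀T : ∀ y, ψ₀ y ∈ T := (E.le_of_mem hψ₀).2
    have hψ₀P : ψ₀.comp (Subgroup.inclusion hPQ) ∈ E.Hom P := restrict_mem E hψ₀ hPQ
    obtain ⟨P₁, hP₁⟩ : ∃ P₁, (ψ₀.comp (Subgroup.inclusion hPQ)).range = P₁ := ⟨_, rfl⟩
    obtain ⟨θ, hθ, hθψ, hθr, -⟩ := inv_hom E hψ₀P hP₁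
    have hP₁T : P₁ ≤ T := (E.le_of_mem hθ).1
    have h1 : ∀ y : P₁, θ y ∈ P := fun y => hθr.le ⟨y, rfl⟩
    obtain ⟨γ₁, hγ₁, hγ₁e⟩ := comp_hom E hθ hφ h1
    have h2 : ∀ y : P₁, γ₁ y ∈ Q := fun y => by rw [hγ₁e]; exact hφQ _
    obtain ⟨γ, hγ, hγe⟩ := comp_hom E hγ₁ hψ₀ h2
    have hγT : ∀ y, γ y ∈ T := (E.le_of_mem hγ).2
    have hcond : ∀ y : Ω, y ∈ (P.subgroupOf Q).map ψ ↔
        ∃ (z : Ω) (hz : z ∈ P₁), ((α ⟨z, hP₁T hz⟩ : T) : Ω) = y := by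
      intro y
      constructor
      · rintro ⟨x, hx, rfl⟩
        have hxP : (x : Ω) ∈ P := Subgroup.mem_subgroupOf.mp hx
        refine ⟨ψ₀ x, hP₁.le ⟨⟨x, hxP⟩, rfl⟩, ?_⟩
        exact (hψe x (hψ₀T x)).symm
      · rintro ⟨z, hz, rfl⟩
        obtain ⟨x, hx⟩ := hP₁.ge hz
        subst hx
        refine ⟨Subgroup.inclusion hPQ x, Subgroup.mem_subgroupOf.mpr x.2, ?_⟩
        exact hψe (Subgroup.inclusion hPQ x) _
    obtain ⟨χ, hχ, hχe⟩ := hInv P₁ _ hP₁T γ hγ α hα hcond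
    refine ⟨χ, hχ, ?_⟩
    intro x hx
    have hz : ψ₀ (Subgroup.inclusion hPQ x) ∈ P₁ := hP₁.le ⟨x, rfl⟩
    have e0 := hψe (Subgroup.inclusion hPQ x) (hψ₀T _)
    have h2' : ((α ⟨ψ₀ (Subgroup.inclusion hPQ x), hP₁T hz⟩ : T) : Ω) ∈
        (P.subgroupOf Q).map ψ := by
      rw [← e0]; exact hx
    have e3 := hχe ⟨ψ₀ (Subgroup.inclusion hPQ x), hz⟩ h2' (hγT _)
    have e4 : χ ⟨ψ (Subgroup.inclusion hPQ x), hx⟩ =
        χ ⟨((α ⟨ψ₀ (Subgroup.inclusion hPQ x), hP₁T hz⟩ : T) : Ω), h2'⟩ := by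
      congr 1
      exact Subtype.ext e0
    rw [e4, e3, hψe ⟨φ x, hφQ x⟩ (hψ₀T _)]
    have e5 : γ ⟨ψ₀ (Subgroup.inclusion hPQ x), hz⟩ = ψ₀ ⟨φ x, hφQ x⟩ := by
      rw [hγe]
      congr 1
      apply Subtype.ext
      show γ₁ ⟨ψ₀ (Subgroup.inclusion hPQ x), hz⟩ = φ x
      rw [hγ₁e]
      congr 1
      apply Subtype.ext
      exact hθψ x hz
    have e6 : (⟨γ ⟨ψ₀ (Subgroup.inclusion hPQ x), hz⟩, hγT _⟩ : T) =
        ⟨ψ₀ ⟨φ x, hφQ x⟩, hψ₀T _⟩ := Subtype.ext e5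
    rw [e6]
  · intro hSI
    have hInv : Inv F E := inv_of_SI hT.1 hSI
    refine ⟨hE, hT, ?_, ?_⟩
    · intro P hPT φ hφ α hα
      obtain ⟨χ, hχ, hχe⟩ := hInv P ((P.subgroupOf T).map (T.subtype.comp α.toMonoidHom))
        hPT φ hφ α hα (by
          intro y
          constructor
          · rintro ⟨x, hx, rfl⟩
            exact ⟨x.1, Subgroup.mem_subgroupOf.mp hx, rfl⟩
          · rintro ⟨x, hx, rfl⟩
            exact ⟨⟨x, hPT hx⟩, Subgroup.mem_subgroupOf.mpr hx, rfl⟩)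
      exact ⟨χ, hχ, fun x hφx hαx => hχe x hαx hφx⟩
    · intro P hPT φ hφ
      exact frattini_of_SI hS hF hE hT hSI _ P hPT rfl φ hφ

end Cfsg.Agent.S5119
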