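import Mathlib
import Cfsg.Statements.S0904
import Cfsg.Agent.Lib.Helper5.BrauerTuan.Key

set_option autoImplicit false
open Cfsg

namespace Cfsg.Agent.S0904

/-- Let G be a finite simple group of order p ^ a * q ^ b * r with p, q, r distinct primes. Then every Sylow r-subgroup S of G satisfies C_G(S) = S. -/
theorem result {G : Type*} [Group G] [Finite G] [IsSimpleGroup G] (p q r a b : ℕ) (hp : p.Prime) (hq : q.Prime) [Fact r.Prime] (hpq : p ≠ q) (hpr : p ≠ r) (hqr : q ≠ r) (hcard : Nat.card G = p ^ a * q ^ b * r) (S : Sylow r G) : Subgroup.centralizer (S : Set G) = (S : Subgroup G) := by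
  classical
  have hr : r.Prime := Fact.out
  have hGpos : 0 < Nat.card G := Nat.card_pos
  -- the order of S is r
  have hcop_r : Nat.Coprime (p ^ a * q ^ b) r := by
    apply Nat.Coprime.mul_left
    · exact Nat.Coprime.pow_left _ ((Nat.coprime_primes hp hr).2 hpr)
    · exact Nat.Coprime.pow_left _ ((Nat.coprime_primes hq hr).2 hqr)
  have hScard : Nat.card (S : Subgroup G) = r := by
    obtain ⟨k, hk⟩ := IsPGroup.exists_card_eq S.isPGroup'
    have hidx : Nat.card (S : Subgroup G) * (S : Subgroup G).index = Nat.card G :=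
      Subgroup.card_mul_index _
    have hnd : ¬ r ∣ (S : Subgroup G).index := S.not_dvd_index
    rcases Nat.lt_trichotomy k 1 with hk1 | hk1 | hk1
    · exfalso
      have hk0 : k = 0 := by omega
      rw [hk, hk0, pow_zero, one_mul] at hidx
      apply hnd
      rw [hidx, hcard]
      exact dvd_mul_left _ _
    · rw [hk, hk1, pow_one]
    · exfalso
      have h2 : r ^ 2 ∣ Nat.card G := by
        rw [← hidx, hk]
        exact dvd_mul_of_dvd_left (pow_dvd_pow r hk1) _
      rw [hcard, pow_two] at h2
      have h3 : r ∣ p ^ a * q ^ b := Nat.dvd_of_mul_dvd_mul_right hr.pos h2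
      have := Nat.Coprime.eq_one_of_dvd hcop_r.symm h3
      exact hr.one_lt.ne' this
  -- S is abelian, so S ≤ C(S)
  have hScyc : IsCyclic (S : Subgroup G) := isCyclic_of_prime_card hScard
  have hle : (S : Subgroup G) ≤ Subgroup.centralizer (S : Set G) := by
    intro x hx
    rw [Subgroup.mem_centralizer_iff]
    intro h hh
    letI := IsCyclic.commGroup (α := (S : Subgroup G))
    have := mul_comm (⟨h, hh⟩ : (S : Subgroup G)) ⟨x, hx⟩
    exact congrArg Subtype.val this
  by_contra hne
  by_cases hab : ∀ x y : G, x * y = y * x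
  · -- abelian case: G has prime order r, so S = ⊤
    letI : CommGroup G := { ‹Group G› with mul_comm := hab }
    have hprime : (Nat.card G).Prime := IsSimpleGroup.prime_card
    have hrG : r ∣ Nat.card G := by rw [hcard]; exact dvd_mul_left _ _
    have hGr : Nat.card G = r := ((Nat.prime_dvd_prime_iff_eq hr hprime).1 hrG).symm
    have htop : (S : Subgroup G) = ⊤ := Subgroup.eq_top_of_card_eq _ (by rw [hScard, hGr])
    apply hne
    apply le_antisymm _ hle
    rw [htop]
    exact le_top
  · -- nonabelian case
    have hna : ∃ x y : G, x * y ≠ y * x := by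
      by_contra h
      apply hab
      intro x y
      by_contra hxy
      exact h ⟨x, y, hxy⟩
    set C : Subgroup G := Subgroup.centralizer (S : Set G) with hC
    have hSC : Nat.card (S : Subgroup G) ∣ Nat.card C := Subgroup.card_dvd_of_le hle
    have hCG : Nat.card C ∣ Nat.card G := Subgroup.card_subgroup_dvd_card C
    obtain ⟨m, hm⟩ := hSC
    rw [hScard] at hm
    have hm1 : m ≠ 1 := by
      intro h1
      apply hne
      apply le_antisymm _ hle
      have hcardle : Nat.card C ≤ Nat.card (S : Subgroup G) := by rw [hm, h1, hScard, mul_one]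
      have := Subgroup.eq_of_le_of_card_ge hle hcardle
      rw [← this]
    have hmdvd : m ∣ p ^ a * q ^ b := by
      rw [hm, hcard, mul_comm r m] at hCG
      exact Nat.dvd_of_mul_dvd_mul_right hr.pos hCG
    obtain ⟨l, hl, hlm⟩ := Nat.exists_prime_and_dvd hm1
    have hlC : l ∣ Nat.card C := by rw [hm]; exact dvd_mul_of_dvd_right hlm _
    haveI : Fact l.Prime := ⟨hl⟩
    obtain ⟨z, hz⟩ := exists_prime_orderOf_dvd_card' l hlC
    have hrS : r ∣ Nat.card (S : Subgroup G) := by rw [hScard]
    obtain ⟨g, hg⟩ := exists_prime_orderOf_dvd_card' r hrS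
    have hzo : orderOf (z : G) = l := by rw [Subgroup.orderOf_coe]; exact hz
    have hgo : orderOf (g : G) = r := by rw [Subgroup.orderOf_coe]; exact hg
    have hcomm : Commute (g : G) (z : G) := by
      have := (Subgroup.mem_centralizer_iff.1 z.2) (g : G) g.2
      exact this
    have hlpq : l = p ∨ l = q := by
      have h1 : l ∣ p ^ a * q ^ b := dvd_trans hlm hmdvd
      rcases (Nat.Prime.dvd_mul hl).1 h1 with h | h
      · left; exact (Nat.prime_dvd_prime_iff_eq hl hp).1 (hl.dvd_of_dvd_pow h)
      · right; exact (Nat.prime_dvd_prime_iff_eq hl hq).1 (hl.dvd_of_dvd_pow h)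
    have hlr : l ≠ r := by
      rcases hlpq with h | h
      · rw [h]; exact hpr
      · rw [h]; exact hqr
    have hyo : orderOf ((g : G) * (z : G)) = r * l := by
      rw [hcomm.orderOf_mul_eq_mul_orderOf_of_coprime, hgo, hzo]
      rw [hgo, hzo]
      exact (Nat.coprime_primes hr hl).2 (Ne.symm hlr)
    rcases hlpq with h | h
    · subst h
      exact Cfsg.Agent.Lib.Helper5.BrauerTuan.no_sr_element hna l q r a b hq hr hpr hqr hcard
        ((g : G) * (z : G)) (by rw [hyo]; exact dvd_mul_left _ _) (by rw [hyo]; exact dvd_mul_right _ _)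
    · subst h
      have hcard' : Nat.card G = l ^ b * p ^ a * r := by rw [hcard]; ring
      exact Cfsg.Agent.Lib.Helper5.BrauerTuan.no_sr_element hna l p r b a hp hr hqr hpr hcard'
        ((g : G) * (z : G)) (by rw [hyo]; exact dvd_mul_left _ _) (by rw [hyo]; exact dvd_mul_right _ _)

end Cfsg.Agent.S0904
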