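import Cfsg.Statements.S0732
import Cfsg.Agent.Lib.Helper6.ZqD
import Cfsg.Agent.Lib.Helper6.ZqE

set_option autoImplicit false
open Cfsg

namespace Cfsg.Agent.S0732

open Cfsg.Agent.Lib.Helper6.Zq Cfsg.Agent.Lib.Helper6.Zs MulAction

/-- A transitive permutation group on `p + 1` points (`p` prime) of order `(p+1) p d` with `d < p` is isomorphic to `PGL(2,p)` with `d = p - 1`, or to `PSL(2,p)` with `2d = p - 1`, or else `p + 1 = 2^q` for a prime `q`, `d = 1` or `d = q`, and the group is permutation-isomorphic to a group of semi-affine maps `x ↦ a φ(x) + b` of the field with `2^q` elements. -/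
theorem result {α : Type*} [Fintype α] [DecidableEq α] {p d : ℕ} (hp : p.Prime) (hα : Fintype.card α = p + 1) (G : Subgroup (Equiv.Perm α)) [MulAction.IsPretransitive G α] (hG : Nat.card G = (p + 1) * p * d) (hd : d < p) : (d = p - 1 ∧ Nonempty (G ≃* Matrix.ProjGenLinGroup (Fin 2) (ZMod p))) ∨ (2 * d = p - 1 ∧ Nonempty (G ≃* Matrix.ProjectiveSpecialLinearGroup (Fin 2) (ZMod p))) ∨ (∃ q : ℕ, q.Prime ∧ p + 1 = 2 ^ q ∧ (d = 1 ∨ d = q) ∧ ∃ e : α ≃ GaloisField 2 q, ∀ g : G, (e.symm.trans (((g : Equiv.Perm α)).trans e)) ∈ Cfsg.semiaffineGroup (GaloisField 2 q)) := by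
  classical
  haveI : Fintype G := Fintype.ofFinite G
  have hfaith : ∀ g : G, (∀ c : α, g • c = c) → g = 1 := by
    intro g hg
    apply Subtype.ext
    apply Equiv.ext
    intro c
    exact hg c
  obtain ⟨x, a, h⟩ := exists_PD hp hα hfaith hG hd
  by_cases hd1 : d = p - 1
  · left
    refine ⟨hd1, ?_⟩
    haveI : Fact p.Prime := ⟨hp⟩
    obtain ⟨Pm, hinj, hne, hsurj, hA, hA', hT⟩ := h.coords hd1
    exact pgl_of_coords G a Pm hinj hne hsurj hA hA' hT (h.three_trans hd1)
  · right
    have hp2ne : p ≠ 2 := by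
      intro e
      have h1 := h.dpos
      have h2 := h.dlt
      omega
    by_cases hreg : ∃ N : Subgroup G, N.Normal ∧
        Function.Bijective (fun n : N => (n : G) • a)
    · right
      obtain ⟨N, hNn, hNreg⟩ := hreg
      obtain ⟨q, hq, hpq, hdq, e, he⟩ := h.semiaffine hp2ne N hNn hNreg
      refine ⟨q, hq, hpq, hdq, e, ?_⟩
      intro g
      obtain ⟨r, β, φ, hrφ⟩ := he g
      show ∃ a : (GaloisField 2 q)ˣ, ∃ b : GaloisField 2 q,
        ∃ φ : GaloisField 2 q ≃+* GaloisField 2 q,
          ∀ y, (e.symm.trans (((g : Equiv.Perm α)).trans e)) y = (a : GaloisField 2 q) * φ y + b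
      refine ⟨r, β, φ, ?_⟩
      intro y
      have := hrφ (e.symm y)
      rw [Equiv.apply_symm_apply] at this
      exact this
    · left
      have hd2 : 2 ≤ d := by
        by_contra hlt
        have hd1' : d = 1 := by
          have := h.dpos
          omega
        subst hd1'
        exact hreg (h.exists_regular_of_one)
      have hZ5 : ∀ N : Subgroup G, N.Normal → MulAction.IsPretransitive N α →
          ∃ c : α, MulAction.stabilizer N c ≠ ⊥ := by
        intro N hNn hNt
        by_contra hcon
        push Not at hcon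
        apply hreg
        refine ⟨N, hNn, ?_, ?_⟩
        · intro n n' e
          have e' : n • a = n' • a := e
          have hmem : n'⁻¹ * n ∈ MulAction.stabilizer N a := by
            rw [MulAction.mem_stabilizer_iff, mul_smul, inv_smul_eq_iff]
            exact e'
          rw [hcon a, Subgroup.mem_bot] at hmem
          exact (inv_mul_eq_one.1 hmem).symm
        · intro c
          obtain ⟨n, hn⟩ := MulAction.exists_smul_eq N a c
          exact ⟨n, hn⟩
      exact h.psl_case hd2 hd1 hZ5


end Cfsg.Agent.S0732
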