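import Cfsg.Statements.S0289
import Cfsg.Agent.Lib.Helper4.QuadCount

set_option autoImplicit false
open Cfsg

namespace Cfsg.Agent.S0289

open Cfsg.Agent.Lib.Helper4 Matrix

/-- The hyperbolic quadratic form on F^(2m), m at least 1, has q^(2m-1) + q^m - q^(m-1) zeros (that is, (q^m - 1)(q^(m-1) + 1) non-zero isotropic vectors). -/
theorem result {F : Type*} [Field F] [Fintype F] {q : ℕ} (hF : Fintype.card F = q) (m : ℕ) (hm : 1 ≤ m) : Nat.card {v : Fin m ⊕ Fin m → F // Cfsg.quadFormPlus m F v = 0} = q ^ (2 * m - 1) + q ^ m - q ^ (m - 1) := by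
  classical
  subst hF
  let e : {v : Fin m ⊕ Fin m → F // Cfsg.quadFormPlus m F v = 0} ≃
      {p : Unit × (Fin m → F) × (Fin m → F) // (fun _ : Unit => (0 : F)) p.1 + p.2.1 ⬝ᵥ p.2.2 = 0} :=
    { toFun := fun v => ⟨((), fun i => v.1 (Sum.inl i), fun i => v.1 (Sum.inr i)), by
        have := v.2
        simp only [zero_add]
        exact this⟩
      invFun := fun p => ⟨Sum.elim p.1.2.1 p.1.2.2, by
        have := p.2
        simp only [zero_add] at this
        exact this⟩
      left_inv := fun v => by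
        apply Subtype.ext
        funext i
        cases i <;> rfl
      right_inv := fun p => by
        apply Subtype.ext
        rfl }
  have h1 := card_triples (F := F) (fun _ : Unit => (0 : F)) m
  rw [← Nat.card_congr e] at h1
  have hZ : Nat.card {w : Unit // (fun _ : Unit => (0 : F)) w = 0} = 1 := by
    rw [Nat.card_eq_fintype_card, Fintype.card_subtype]
    simp
  rw [hZ] at h1
  set q := Fintype.card F with hq
  have hq2 : 2 ≤ q := Fintype.one_lt_card
  obtain ⟨k, rfl⟩ : ∃ k, m = k + 1 := ⟨m - 1, by omega⟩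
  set N := Nat.card {v : Fin (k + 1) ⊕ Fin (k + 1) → F // Cfsg.quadFormPlus (k + 1) F v = 0}
  simp only [Fintype.card_unit, one_mul] at h1
  have hA : 1 ≤ q ^ k := Nat.one_le_pow _ _ (by omega)
  have e1 : 2 * (k + 1) - 1 = 2 * k + 1 := by omega
  have e2 : k + 1 - 1 = k := by omega
  rw [e1, e2]
  apply Nat.eq_of_mul_eq_mul_right (show 0 < q by omega)
  rw [h1]
  have h3 : 1 ≤ q ^ (k + 1) := Nat.one_le_pow _ _ (by omega)
  have h4 : q ^ k ≤ q ^ (2 * k + 1) + q ^ (k + 1) :=
    le_trans (Nat.pow_le_pow_right (by omega) (by omega)) (Nat.le_add_left _ _)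
  zify [h3, h4]
  ring

end Cfsg.Agent.S0289
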