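import Mathlib
import Cfsg.Statements.S0992
import Cfsg.Agent.Lib.Lead.SylowCount
import Cfsg.Agent.Lib.Lead.SmallSimple

namespace Cfsg.Agent.S0992

open Cfsg.Agent.Lib.Lead.SylowCount Cfsg.Agent.Lib.Lead.SmallSimple

/-- a noncyclic group of order four is a Klein four group. -/
theorem isKleinFour_of_card_four {H : Type*} [Group H] (h4 : Nat.card H = 4) (hc : ¬ IsCyclic H) :
    IsKleinFour H := by
  haveI : Finite H := Nat.finite_of_card_ne_zero (by rw [h4]; norm_num)
  have hsq : ∀ x : H, x ^ 2 = 1 := by
    intro x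
    have hd : orderOf x ∣ 4 := h4 ▸ orderOf_dvd_natCard x
    have hle : orderOf x ≤ 4 := Nat.le_of_dvd (by norm_num) hd
    have hpos : 0 < orderOf x := orderOf_pos x
    have hne4 : orderOf x ≠ 4 := by
      intro h
      exact hc (isCyclic_of_orderOf_eq_card x (h.trans h4.symm))
    have hd2 : orderOf x ∣ 2 := by
      interval_cases (orderOf x) <;> omega
    exact orderOf_dvd_iff_pow_eq_one.mp hd2
  refine ⟨h4, ?_⟩
  have h1 : Monoid.exponent H ∣ 2 := Monoid.exponent_dvd_of_forall_pow_eq_one hsq
  rcases (Nat.dvd_prime Nat.prime_two).mp h1 with h | h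
  · exfalso
    rw [Monoid.exp_eq_one_iff] at h
    have := Nat.card_eq_one_iff_unique.mpr ⟨h, ⟨1⟩⟩
    omega
  · exact h

theorem result {G : Type*} [Group G] [Finite G] [IsSimpleGroup G] (hG : ¬ IsMulCommutative G) (h2 : Even (Nat.card G)) (h8 : ¬ 8 ∣ Nat.card G) (T : Sylow 2 G) : IsKleinFour ↥(T : Subgroup G) ∧ (Subgroup.centralizer ((T : Subgroup G) : Set G)).relIndex (Subgroup.normalizer ((T : Subgroup G) : Set G)) = 3 := by
  haveI : Fact (Nat.Prime 2) := ⟨Nat.prime_two⟩
  have hgt : 2 < Nat.card G := by
    by_contra hle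
    have hpos : 0 < Nat.card G := Nat.card_pos
    have h2' : Nat.card G = 2 := by
      obtain ⟨k, hk⟩ := h2
      omega
    haveI : IsCyclic G := isCyclic_of_prime_card h2'
    exact hG ⟨⟨fun a b => (IsCyclic.commGroup (α := G)).mul_comm a b⟩⟩
  have hncyc : ¬ IsCyclic (T : Subgroup G) := by
    intro hc
    obtain ⟨H, hH⟩ := Cfsg.Agent.S0219.index_two_of_cyclic_sylow h2 T hc
    exact no_index_two hgt H hH
  obtain ⟨k, hk⟩ := T.2.exists_card_eq
  have hdvd : 2 ^ k ∣ Nat.card G := hk ▸ Subgroup.card_subgroup_dvd_card (T : Subgroup G)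
  have hk2 : k ≤ 2 := by
    by_contra hlt
    have : 2 ^ 3 ∣ 2 ^ k := pow_dvd_pow 2 (by omega)
    exact h8 (this.trans hdvd)
  have hT4 : Nat.card (T : Subgroup G) = 4 := by
    have hk' : k = 0 ∨ k = 1 ∨ k = 2 := by omega
    rcases hk' with rfl | rfl | rfl
    · exfalso
      apply hncyc
      have h1 : Nat.card (T : Subgroup G) = 1 := by simpa using hk
      haveI : Subsingleton (T : Subgroup G) := (Nat.card_eq_one_iff_unique.mp h1).1
      exact isCyclic_of_subsingleton
    · exfalso
      apply hncyc
      exact isCyclic_of_prime_card (p := 2) (by simpa using hk)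
    · simpa using hk
  have hK : IsKleinFour (T : Subgroup G) := isKleinFour_of_card_four hT4 hncyc
  refine ⟨hK, ?_⟩
  set r := (Subgroup.centralizer ((T : Subgroup G) : Set G)).relIndex
    (Subgroup.normalizer ((T : Subgroup G) : Set G)) with hr
  have hTC : (T : Subgroup G) ≤ Subgroup.centralizer ((T : Subgroup G) : Set G) := by
    haveI := hK
    haveI : IsMulCommutative (T : Subgroup G) := IsKleinFour.isMulCommutative
    intro x hx
    rw [Subgroup.mem_centralizer_iff]
    intro y hy
    have := IsMulCommutative.is_comm.comm (⟨y, hy⟩ : (T : Subgroup G)) ⟨x, hx⟩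
    exact congrArg Subtype.val this
  -- r divides 24
  have h24 : r ∣ 24 := by
    have h1 := relIndex_centralizer_normalizer_dvd (T : Subgroup G)
    have h3 : Nat.card (MulAut (T : Subgroup G)) ∣ Nat.card (Equiv.Perm (T : Subgroup G)) :=
      Subgroup.card_dvd_of_injective (MulAut.toPerm (T : Subgroup G))
        (fun a b hab => by
          apply MulEquiv.ext
          intro x
          have := congrArg (fun e : Equiv.Perm (T : Subgroup G) => e x) hab
          exact this)
    rw [Nat.card_perm, hT4] at h3
    exact h1.trans h3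
  -- r is odd
  have hodd : ¬ 2 ∣ r := by
    intro h
    have h1 : r ∣ (T : Subgroup G).relIndex (Subgroup.normalizer ((T : Subgroup G) : Set G)) :=
      Subgroup.relIndex_dvd_of_le_left _ hTC
    have h2 : (T : Subgroup G).relIndex (Subgroup.normalizer ((T : Subgroup G) : Set G)) ∣
        (T : Subgroup G).index := Subgroup.relIndex_dvd_index_of_le Subgroup.le_normalizer
    exact T.not_dvd_index (h.trans (h1.trans h2))
  have hr13 : r = 1 ∨ r = 3 := by
    have hle : r ≤ 24 := Nat.le_of_dvd (by norm_num) h24
    interval_cases r <;> omega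
  rcases hr13 with h1 | h3
  · exfalso
    have hle : Subgroup.normalizer ((T : Subgroup G) : Set G) ≤
        Subgroup.centralizer ((T : Subgroup G) : Set G) := Subgroup.relIndex_eq_one.mp h1
    have hc := MonoidHom.ker_transferSylow_isComplement' T hle
    have hcard := hc.card_mul_card
    have hn : (MonoidHom.transferSylow T hle).ker.Normal := inferInstance
    rcases hn.eq_bot_or_eq_top with e | e
    · rw [e, Subgroup.card_bot, one_mul] at hcard
      have hG4 : Nat.card G = 2 ^ 2 := by
        have : Nat.card (T : Subgroup G) = Nat.card G := hcard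
        omega
      exact hG (IsPGroup.isMulCommutative_of_card_eq_prime_sq hG4)
    · rw [e, Subgroup.card_top] at hcard
      have : Nat.card (T : Subgroup G) = 4 := hT4
      have hpos : 0 < Nat.card G := Nat.card_pos
      nlinarith
  · exact h3

end Cfsg.Agent.S0992
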