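import Cfsg.Statements.S0974
import Mathlib
import Cfsg.Agent.Lib.Helper6.BLSimple2
import Cfsg.Agent.Lib.Lead.SylowCount

set_option autoImplicit false
open Cfsg

namespace Cfsg.Agent.S0974

open Cfsg.Agent.Lib.Helper6 Cfsg.Agent.Lib.Lead.SylowCount

/-- No finite simple group has order 3648 = 2^6 * 3 * 19. -/
theorem result {G : Type*} [Group G] [Finite G] [IsSimpleGroup G] : Nat.card G ≠ 3648 := by

  intro hG
  haveI : Fact (Nat.Prime 19) := ⟨by norm_num⟩
  obtain ⟨P⟩ : Nonempty (Sylow 19 G) := inferInstance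
  have hPcard : Nat.card P = 19 := card_sylow_of_card_eq 19 192 (by rw [hG]) (by norm_num) P
  have hdvd : Nat.card (Sylow 19 G) ∣ 192 :=
    card_sylow_dvd_of_card P hPcard (by rw [hG]) (by norm_num)
  have hmod : Nat.card (Sylow 19 G) % 19 = 1 := card_sylow_modEq_one 19 G
  have hne1 : Nat.card (Sylow 19 G) ≠ 1 :=
    card_sylow_ne_one_of_card P hPcard (by norm_num) (by rw [hG]; norm_num)
  have hle : Nat.card (Sylow 19 G) ≤ 192 := Nat.le_of_dvd (by norm_num) hdvd
  have hN := card_sylow_mul_card_normalizer 19 P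
  rw [hG] at hN
  have h96 : Nat.card (Sylow 19 G) = 96 := by
    generalize Nat.card (Sylow 19 G) = n at *
    interval_cases n <;> omega
  rw [h96] at hN
  have hN' : Nat.card (Subgroup.normalizer ((P : Subgroup G) : Set G)) = 19 * 2 := by
    have : Nat.card (Subgroup.normalizer ((P : Subgroup G) : Set G)) =
      Nat.card (Subgroup.normalizer (P : Set G)) := rfl
    omega
  obtain ⟨d, e, a, δ, ha, hδ, hd, he, hd1, hmodd, hrel, hsq⟩ :=
    simple_e2 19 P hPcard hN' (by norm_num) (by rw [hG]; norm_num)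
  rw [hG] at hd he hsq
  rw [Int.modEq_iff_dvd] at hmodd
  have hd60 : d ≤ 60 := by nlinarith
  rcases ha with rfl | rfl <;> interval_cases d <;> omega


end Cfsg.Agent.S0974
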