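import Cfsg.Statements.S0975
import Mathlib
import Cfsg.Agent.Lib.Helper6.BLSimple2
import Cfsg.Agent.Lib.Lead.SylowCount

set_option autoImplicit false
open Cfsg

namespace Cfsg.Agent.S0975

open Cfsg.Agent.Lib.Helper6 Cfsg.Agent.Lib.Lead.SylowCount

/-- No finite simple group has order 3744 = 2^5 * 3^2 * 13. -/
theorem result {G : Type*} [Group G] [Finite G] [IsSimpleGroup G] : Nat.card G ≠ 3744 := by

  intro hG
  haveI : Fact (Nat.Prime 13) := ⟨by norm_num⟩
  obtain ⟨P⟩ : Nonempty (Sylow 13 G) := inferInstance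
  have hPcard : Nat.card P = 13 := card_sylow_of_card_eq 13 288 (by rw [hG]) (by norm_num) P
  have hdvd : Nat.card (Sylow 13 G) ∣ 288 :=
    card_sylow_dvd_of_card P hPcard (by rw [hG]) (by norm_num)
  have hmod : Nat.card (Sylow 13 G) % 13 = 1 := card_sylow_modEq_one 13 G
  have hne1 : Nat.card (Sylow 13 G) ≠ 1 :=
    card_sylow_ne_one_of_card P hPcard (by norm_num) (by rw [hG]; norm_num)
  have hle : Nat.card (Sylow 13 G) ≤ 288 := Nat.le_of_dvd (by norm_num) hdvd
  have hN := card_sylow_mul_card_normalizer 13 P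
  rw [hG] at hN
  have h144 : Nat.card (Sylow 13 G) = 144 := by
    generalize Nat.card (Sylow 13 G) = n at *
    interval_cases n <;> omega
  rw [h144] at hN
  have hN' : Nat.card (Subgroup.normalizer ((P : Subgroup G) : Set G)) = 13 * 2 := by
    have : Nat.card (Subgroup.normalizer ((P : Subgroup G) : Set G)) =
      Nat.card (Subgroup.normalizer (P : Set G)) := rfl
    omega
  obtain ⟨d, e, a, δ, ha, hδ, hd, he, hd1, hmodd, hrel, hsq⟩ :=
    simple_e2 13 P hPcard hN' (by norm_num) (by rw [hG]; norm_num)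
  rw [hG] at hd he hsq
  rw [Int.modEq_iff_dvd] at hmodd
  have hd61 : d ≤ 61 := by nlinarith
  have hda : d = 12 ∧ a = -1 := by
    rcases ha with rfl | rfl <;> interval_cases d <;> first | omega | exact ⟨rfl, rfl⟩
  obtain ⟨rfl, rfl⟩ := hda
  have he11 : e = 11 := by
    rcases hδ with rfl | rfl <;> omega
  subst he11
  omega


end Cfsg.Agent.S0975
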