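import Cfsg.Statements.S0979
import Mathlib
import Cfsg.Agent.Lib.Helper6.BLSimple2
import Cfsg.Agent.Lib.Lead.SylowCount

set_option autoImplicit false
open Cfsg

namespace Cfsg.Agent.S0979

open Cfsg.Agent.Lib.Helper6 Cfsg.Agent.Lib.Lead.SylowCount

/-- No finite simple group has order 5472 = 2^5 * 3^2 * 19. -/
theorem result {G : Type*} [Group G] [Finite G] [IsSimpleGroup G] : Nat.card G ≠ 5472 := by

  intro hG
  haveI : Fact (Nat.Prime 19) := ⟨by norm_num⟩
  obtain ⟨P⟩ : Nonempty (Sylow 19 G) := inferInstance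
  have hPcard : Nat.card P = 19 := card_sylow_of_card_eq 19 288 (by rw [hG]) (by norm_num) P
  have hdvd : Nat.card (Sylow 19 G) ∣ 288 :=
    card_sylow_dvd_of_card P hPcard (by rw [hG]) (by norm_num)
  have hmod : Nat.card (Sylow 19 G) % 19 = 1 := card_sylow_modEq_one 19 G
  have hne1 : Nat.card (Sylow 19 G) ≠ 1 :=
    card_sylow_ne_one_of_card P hPcard (by norm_num) (by rw [hG]; norm_num)
  have hle : Nat.card (Sylow 19 G) ≤ 288 := Nat.le_of_dvd (by norm_num) hdvd
  have hN := card_sylow_mul_card_normalizer 19 P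
  rw [hG] at hN
  have h96 : Nat.card (Sylow 19 G) = 96 := by
    generalize Nat.card (Sylow 19 G) = n at *
    interval_cases n <;> omega
  rw [h96] at hN
  have hN' : Nat.card (Subgroup.normalizer ((P : Subgroup G) : Set G)) = 19 * 3 := by
    have : Nat.card (Subgroup.normalizer ((P : Subgroup G) : Set G)) =
      Nat.card (Subgroup.normalizer (P : Set G)) := rfl
    omega
  obtain ⟨d₁, d₂, e, a₁, a₂, δ, ha₁, ha₂, hδ, hd₁, hd₂, he, hd₁1, hd₂1, hmod₁, hmod₂, hrel, hsq⟩ :=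
    simple_e3 19 P hPcard hN' (by norm_num) (by rw [hG]; norm_num)
  rw [hG] at hd₁ hd₂ he hsq
  rw [Int.modEq_iff_dvd] at hmod₁ hmod₂
  have hb₁ : d₁ ≤ 73 := by nlinarith
  have hb₂ : d₂ ≤ 73 := by nlinarith
  have h₁ : d₁ = 18 ∧ a₁ = -1 := by
    rcases ha₁ with rfl | rfl <;> interval_cases d₁ <;> first | omega | exact ⟨rfl, rfl⟩
  have h₂ : d₂ = 18 ∧ a₂ = -1 := by
    rcases ha₂ with rfl | rfl <;> interval_cases d₂ <;> first | omega | exact ⟨rfl, rfl⟩
  obtain ⟨rfl, rfl⟩ := h₁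
  obtain ⟨rfl, rfl⟩ := h₂
  have he35 : e = 35 := by
    rcases hδ with rfl | rfl <;> omega
  subst he35
  omega


end Cfsg.Agent.S0979
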