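import Cfsg.Statements.S0998
import Cfsg.Agent.Lib.Helper7.Bt11
import Cfsg.Agent.S0494
import Cfsg.Agent.S0253
import Cfsg.Agent.S0495

set_option autoImplicit false
set_option linter.style.haveILetI false
open Cfsg

namespace Cfsg.Agent.S0998

/-- A non-cyclic finite simple group whose order has the form p * r * q^b for distinct primes p, q, r is isomorphic to the projective special linear group of dimension 2 over the field with 5 or with 7 elements. -/
theorem result {G : Type*} [Group G] [Finite G] [IsSimpleGroup G] (hG : ¬ IsCyclic G) (p q r b : ℕ) (hp : p.Prime) (hq : q.Prime) (hr : r.Prime) (hpq : p ≠ q) (hpr : p ≠ r) (hqr : q ≠ r) (hG' : Nat.card G = p * r * q ^ b) : (∃ (F : Type) (_ : Field F) (_ : Fintype F), Fintype.card F = 5 ∧ Nonempty (G ≃* Matrix.ProjectiveSpecialLinearGroup (Fin 2) F)) ∨ (∃ (F : Type) (_ : Field F) (_ : Fintype F), Fintype.card F = 7 ∧ Nonempty (G ≃* Matrix.ProjectiveSpecialLinearGroup (Fin 2) F)) := by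
  classical
  haveI : Fintype G := Fintype.ofFinite G
  have hna : ∃ a b : G, a * b ≠ b * a := by
    by_contra h
    have h' : ∀ a b : G, a * b = b * a := by
      intro a b
      by_contra hab
      exact h ⟨a, b, hab⟩
    let inst : CommGroup G := { (inferInstance : Group G) with mul_comm := h' }
    exact hG (@IsSimpleGroup.isCyclic G inst ‹IsSimpleGroup G›)
  have finish : (Nat.card G = 60 ∨ Nat.card G = 168) →
      (∃ (F : Type) (_ : Field F) (_ : Fintype F), Fintype.card F = 5 ∧
        Nonempty (G ≃* Matrix.ProjectiveSpecialLinearGroup (Fin 2) F)) ∨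
      (∃ (F : Type) (_ : Field F) (_ : Fintype F), Fintype.card F = 7 ∧
        Nonempty (G ≃* Matrix.ProjectiveSpecialLinearGroup (Fin 2) F)) := by
    rintro (h60 | h168)
    · left
      haveI : Fact (Nat.Prime 5) := ⟨by norm_num⟩
      refine ⟨ZMod 5, inferInstance, inferInstance, ZMod.card 5, ?_⟩
      obtain ⟨e1⟩ := Cfsg.Agent.S0494.result h60
      obtain ⟨e2⟩ := Cfsg.Agent.S0253.result (F := ZMod 5) (ZMod.card 5)
      exact ⟨e1.trans e2.symm⟩
    · right
      haveI : Fact (Nat.Prime 7) := ⟨by norm_num⟩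
      refine ⟨ZMod 7, inferInstance, inferInstance, ZMod.card 7, ?_⟩
      exact Cfsg.Agent.S0495.result h168 (ZMod.card 7)
  rcases Nat.lt_or_gt_of_ne hpr with h | h
  · have c : Cfsg.Agent.Lib.Helper7.Bt.Ctx G r p q b :=
      { hp := hr, hr := hp, hq := hq, hpq := hqr.symm, hpr := hpr.symm, hqr := hpq.symm,
        hcard := by rw [hG']; ring, hna := hna }
    exact finish (Cfsg.Agent.Lib.Helper7.Bt.card_cases c h)
  · have c : Cfsg.Agent.Lib.Helper7.Bt.Ctx G p r q b :=
      { hp := hp, hr := hr, hq := hq, hpq := hpq, hpr := hpr, hqr := hqr,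
        hcard := hG', hna := hna }
    exact finish (Cfsg.Agent.Lib.Helper7.Bt.card_cases c h)

end Cfsg.Agent.S0998
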