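-- Statement S0690 (Zassenhaus: perfect fixed-point-free automorphism group is SL(2,5)).
-- Assembly (helper7): part R/W/T/D reduction `Zf.main_of_G` (Lib/Helper7/ZfMain) applied to part G,
-- which is `Helper1.ZaG.main_of` (Lib/Helper1/ZaG3) fed with helper9's dihedral eliminations
-- `Zfg.exists_three_elt` (Lib/Helper9/ZfgC) and `Zfg.n_eq_one` (Lib/Helper9/ZfgD).
import Cfsg.Statements.S0690
import Cfsg.Agent.Lib.Helper7.ZfMain
import Cfsg.Agent.Lib.Helper1.ZaG3
import Cfsg.Agent.Lib.Helper9.ZfgD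

set_option autoImplicit false
open Cfsg

namespace Cfsg.Agent.S0690

/-- Zassenhaus: a perfect non-trivial group of fixed-point-free automorphisms of a finite group is isomorphic to `SL(2,5)`. -/
theorem result {K : Type*} [Group K] [Finite K] (G : Subgroup (MulAut K)) (hfpf : ∀ φ ∈ G, φ ≠ 1 → ∀ k : K, φ k = k → k = 1) (hperf : commutator G = ⊤) (hne : G ≠ ⊥) : Nonempty (G ≃* Matrix.SpecialLinearGroup (Fin 2) (ZMod 5)) := by
  refine Cfsg.Agent.Lib.Helper7.Zf.main_of_G ?_ G hfpf hperf hne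
  intro Γ _ _ hperf' S n hn hS hodd exE uniq
  refine Cfsg.Agent.Lib.Helper1.ZaG.main_of ?_ ?_ hperf' S n hn hS hodd exE uniq
  · intro S' n' hn' hS' hconj E hE hES
    obtain ⟨g, hk, hg1, hnorm, hact, -⟩ :=
      Cfsg.Agent.Lib.Helper9.Zfg.exists_three_elt S' n' hn' hS' hconj E hE hES
    exact ⟨g, hk, hg1, hnorm, hact⟩
  · intro S' n' hn' hS' hodd' hconj hex uniq'
    exact Cfsg.Agent.Lib.Helper9.Zfg.n_eq_one S' n' hn' hS' hodd' hconj hex uniq'

end Cfsg.Agent.S0690
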