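import Cfsg.Statements.S3800
import Cfsg.Agent.Lib.Helper2.PSub

set_option autoImplicit false
open Cfsg

namespace Cfsg.Agent.S3800

open Cfsg.Agent.Lib.Helper2

/-- in a finite group, `g P g⁻¹ ≤ P` implies `g ∈ N(P)` -/
theorem mem_normalizer_of_conj_le {G : Type*} [Group G] [Finite G] (P : Subgroup G) (g : G)
    (h : ∀ u ∈ P, g * u * g⁻¹ ∈ P) : g ∈ Subgroup.normalizer (P : Set G) := by
  rw [Subgroup.mem_normalizer_iff_map_conj_eq]
  have hle : P.map (MulAut.conj g : G →* G) ≤ P := by
    rintro _ ⟨u, hu, rfl⟩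
    simpa using h u hu
  apply Subgroup.eq_of_le_of_card_ge hle
  have : Nat.card (P.map (MulAut.conj g : G →* G)) = Nat.card P :=
    Nat.card_congr ((MulAut.conj g).subgroupMap P).symm.toEquiv
  rw [this]

/-- Let G be a finite group, N a normal subgroup of G whose order is prime to p, and P a p-subgroup of G. Then in G/N the normalizer of the image of P is the image of N_G(P), and the centralizer of the image of P is the image of C_G(P). -/
theorem result {G : Type*} [Group G] [Finite G] {p : ℕ} [Fact p.Prime] (N : Subgroup G) [N.Normal] (hN : (Nat.card N).Coprime p) (P : Subgroup G) (hP : IsPGroup p P) : Subgroup.normalizer ((P.map (QuotientGroup.mk' N)) : Set (G ⧸ N)) = (Subgroup.normalizer (P : Set G)).map (QuotientGroup.mk' N) ∧ Subgroup.centralizer ((P.map (QuotientGroup.mk' N)) : Set (G ⧸ N)) = (Subgroup.centralizer (P : Set G)).map (QuotientGroup.mk' N) := by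
  set π := QuotientGroup.mk' N with hπ
  have hkerπ : π.ker = N := QuotientGroup.ker_mk' N
  have hnorm : Subgroup.normalizer ((P.map π) : Set (G ⧸ N)) ≤
      (Subgroup.normalizer (P : Set G)).map π := by
    intro xbar hx
    obtain ⟨x, rfl⟩ := QuotientGroup.mk'_surjective N xbar
    set Q := P.map (MulAut.conj x).toMonoidHom with hQ
    have hQp : IsPGroup p Q := hP.map _
    have hQK : Q ≤ P ⊔ N := by
      rintro _ ⟨u, hu, rfl⟩
      have h1 : π (x * u * x⁻¹) ∈ P.map π := by
        have := (Subgroup.mem_normalizer_iff.1 hx (π u)).1 ⟨u, hu, rfl⟩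
        rw [map_mul, map_mul, map_inv]
        exact this
      have h2 : x * u * x⁻¹ ∈ (P.map π).comap π := h1
      rw [Subgroup.comap_map_eq, hkerπ] at h2
      simpa using h2
    obtain ⟨n, hn, hconj⟩ := exists_conj_mem_of_le_sup hN hP hQp hQK
    have hmem : n⁻¹ * x ∈ Subgroup.normalizer (P : Set G) := by
      apply mem_normalizer_of_conj_le
      intro u hu
      have := hconj (x * u * x⁻¹) ⟨u, hu, by simp⟩
      have e : n⁻¹ * x * u * (n⁻¹ * x)⁻¹ = n⁻¹ * (x * u * x⁻¹) * n := by group
      rw [e]; exact this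
    refine ⟨n⁻¹ * x, hmem, ?_⟩
    have : π n = 1 := by
      rw [← MonoidHom.mem_ker, hkerπ]; exact hn
    rw [map_mul, map_inv, this, inv_one, one_mul]
  constructor
  · exact le_antisymm hnorm (Subgroup.le_normalizer_map π)
  · apply le_antisymm
    · intro xbar hx
      have hx' : xbar ∈ Subgroup.normalizer ((P.map π) : Set (G ⧸ N)) :=
        Subgroup.centralizer_le_normalizer _ hx
      obtain ⟨y, hy, rfl⟩ := hnorm hx'
      refine ⟨y, ?_, rfl⟩
      rw [SetLike.mem_coe, Subgroup.mem_centralizer_iff]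
      intro u hu
      have h1 : π u * π y = π y * π u :=
        Subgroup.mem_centralizer_iff.1 hx (π u) ⟨u, hu, rfl⟩
      have h2 : y * u * y⁻¹ * u⁻¹ ∈ N := by
        rw [← hkerπ, MonoidHom.mem_ker]
        simp only [map_mul, map_inv]
        rw [← h1]; group
      have h3 : y * u * y⁻¹ * u⁻¹ ∈ P :=
        P.mul_mem ((Subgroup.mem_normalizer_iff.1 hy u).1 hu) (P.inv_mem hu)
      have h4 : y * u * y⁻¹ * u⁻¹ ∈ P ⊓ N := ⟨h3, h2⟩
      rw [inf_eq_bot_of_isPGroup_of_coprime hP hN, Subgroup.mem_bot] at h4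
      have h5 : y * u * y⁻¹ = u := by rw [← mul_inv_eq_one]; exact h4
      exact (mul_inv_eq_iff_eq_mul.1 h5).symm
    · rintro _ ⟨y, hy, rfl⟩
      rw [Subgroup.mem_centralizer_iff]
      rintro _ ⟨u, hu, rfl⟩
      rw [← map_mul, ← map_mul, Subgroup.mem_centralizer_iff.1 hy u hu]

end Cfsg.Agent.S3800
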