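import Cfsg.Statements.S5016
import Cfsg.Agent.S5013

set_option autoImplicit false
open Cfsg

namespace Cfsg.Agent.S5016

open Cfsg.Agent.Lib.Helper4.RankOneGrp Matrix

variable {k : Type*} [Field k]

/-- lower unitriangular matrix -/
def Lm (t : k) : Matrix.SpecialLinearGroup (Fin 2) k :=
  ⟨!![1, 0; t, 1], by simp [Matrix.det_fin_two]⟩

/-- upper unitriangular matrix -/
def Um (t : k) : Matrix.SpecialLinearGroup (Fin 2) k :=
  ⟨!![1, t; 0, 1], by simp [Matrix.det_fin_two]⟩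

theorem Lm_val (t : k) : (Lm t).1 = !![1, 0; t, 1] := rfl
theorem Um_val (t : k) : (Um t).1 = !![1, t; 0, 1] := rfl

omit [Field k] in
theorem mk_eq {a b c d a' b' c' d' : k} (h1 : a = a') (h2 : b = b') (h3 : c = c') (h4 : d = d') :
    !![a, b; c, d] = !![a', b'; c', d'] := by subst h1 h2 h3 h4; rfl

theorem Lm_mul (s t : k) : Lm s * Lm t = Lm (s + t) := by
  apply Subtype.ext
  simp only [Matrix.SpecialLinearGroup.coe_mul, Lm_val, Matrix.mul_fin_two]
  apply mk_eq <;> ring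

theorem Um_mul (s t : k) : Um s * Um t = Um (s + t) := by
  apply Subtype.ext
  simp only [Matrix.SpecialLinearGroup.coe_mul, Um_val, Matrix.mul_fin_two]
  apply mk_eq <;> ring

theorem Lm_zero : Lm (0 : k) = 1 := by
  apply Subtype.ext
  rw [Lm_val, Matrix.SpecialLinearGroup.coe_one, Matrix.one_fin_two]

theorem Um_zero : Um (0 : k) = 1 := by
  apply Subtype.ext
  rw [Um_val, Matrix.SpecialLinearGroup.coe_one, Matrix.one_fin_two]

theorem Lm_inv (t : k) : (Lm t)⁻¹ = Lm (-t) := by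
  apply inv_eq_of_mul_eq_one_right
  rw [Lm_mul, add_neg_cancel, Lm_zero]

theorem Um_inv (t : k) : (Um t)⁻¹ = Um (-t) := by
  apply inv_eq_of_mul_eq_one_right
  rw [Um_mul, add_neg_cancel, Um_zero]

theorem Lm_injective : Function.Injective (Lm : k → _) := by
  intro s t h
  have := congrArg (fun g : Matrix.SpecialLinearGroup (Fin 2) k => g.1 1 0) h
  simpa [Lm_val] using this

theorem Um_injective : Function.Injective (Um : k → _) := by
  intro s t h
  have := congrArg (fun g : Matrix.SpecialLinearGroup (Fin 2) k => g.1 0 1) h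
  simpa [Um_val] using this

/-- the homomorphisms -/
def Lhom : Multiplicative k →* Matrix.SpecialLinearGroup (Fin 2) k where
  toFun t := Lm (Multiplicative.toAdd t)
  map_one' := Lm_zero
  map_mul' _ _ := (Lm_mul _ _).symm

def Uhom : Multiplicative k →* Matrix.SpecialLinearGroup (Fin 2) k where
  toFun t := Um (Multiplicative.toAdd t)
  map_one' := Um_zero
  map_mul' _ _ := (Um_mul _ _).symm

theorem mem_Lrange {g : Matrix.SpecialLinearGroup (Fin 2) k} :
    g ∈ (Lhom (k := k)).range ↔ ∃ t, Lm t = g := by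
  constructor
  · rintro ⟨t, rfl⟩; exact ⟨_, rfl⟩
  · rintro ⟨t, rfl⟩; exact ⟨Multiplicative.ofAdd t, rfl⟩

theorem mem_Urange {g : Matrix.SpecialLinearGroup (Fin 2) k} :
    g ∈ (Uhom (k := k)).range ↔ ∃ t, Um t = g := by
  constructor
  · rintro ⟨t, rfl⟩; exact ⟨_, rfl⟩
  · rintro ⟨t, rfl⟩; exact ⟨Multiplicative.ofAdd t, rfl⟩

theorem lower_eq : lowerUnipotentSL2 k = (Lhom (k := k)).range := by
  unfold lowerUnipotentSL2
  have : {g : Matrix.SpecialLinearGroup (Fin 2) k | (g : Matrix (Fin 2) (Fin 2) k) 0 1 = 0 ∧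
      (g : Matrix (Fin 2) (Fin 2) k) 0 0 = 1 ∧ (g : Matrix (Fin 2) (Fin 2) k) 1 1 = 1} =
      ((Lhom (k := k)).range : Set _) := by
    ext g
    rw [SetLike.mem_coe, mem_Lrange]
    constructor
    · rintro ⟨h1, h2, h3⟩
      refine ⟨g.1 1 0, ?_⟩
      apply Subtype.ext
      have e := Matrix.eta_fin_two g.1
      rw [h1, h2, h3] at e
      rw [Lm_val]
      exact e.symm
    · rintro ⟨t, rfl⟩
      simp [Lm_val]
  rw [this, Subgroup.closure_eq]

theorem upper_eq : upperUnipotentSL2 k = (Uhom (k := k)).range := by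
  unfold upperUnipotentSL2
  have : {g : Matrix.SpecialLinearGroup (Fin 2) k | (g : Matrix (Fin 2) (Fin 2) k) 1 0 = 0 ∧
      (g : Matrix (Fin 2) (Fin 2) k) 0 0 = 1 ∧ (g : Matrix (Fin 2) (Fin 2) k) 1 1 = 1} =
      ((Uhom (k := k)).range : Set _) := by
    ext g
    rw [SetLike.mem_coe, mem_Urange]
    constructor
    · rintro ⟨h1, h2, h3⟩
      refine ⟨g.1 0 1, ?_⟩
      apply Subtype.ext
      have e := Matrix.eta_fin_two g.1
      rw [h1, h2, h3] at e
      rw [Um_val]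
      exact e.symm
    · rintro ⟨t, rfl⟩
      simp [Um_val]
  rw [this, Subgroup.closure_eq]

theorem mem_lower {g : Matrix.SpecialLinearGroup (Fin 2) k} :
    g ∈ lowerUnipotentSL2 k ↔ ∃ t, Lm t = g := by rw [lower_eq, mem_Lrange]

theorem mem_upper {g : Matrix.SpecialLinearGroup (Fin 2) k} :
    g ∈ upperUnipotentSL2 k ↔ ∃ t, Um t = g := by rw [upper_eq, mem_Urange]

/-- key conjugation identity -/
theorem key (t s : k) (ht : t ≠ 0) :
    Um t⁻¹ * Lm (-t) * Um s = Lm (-t ^ 2 * s) * (Um t⁻¹ * Lm (-t)) := by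
  apply Subtype.ext
  simp only [Matrix.SpecialLinearGroup.coe_mul, Lm_val, Um_val, Matrix.mul_fin_two]
  apply mk_eq <;> field_simp <;> ring

theorem key' (t s : k) (ht : t ≠ 0) :
    Lm t⁻¹ * Um (-t) * Lm s = Um (-t ^ 2 * s) * (Lm t⁻¹ * Um (-t)) := by
  apply Subtype.ext
  simp only [Matrix.SpecialLinearGroup.coe_mul, Lm_val, Um_val, Matrix.mul_fin_two]
  apply mk_eq <;> field_simp <;> ring

/-- `A^b = B^a` for `a = L(t)`, `b = U(1/t)` -/
theorem conj_eq (t : k) (ht : t ≠ 0) :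
    conjBy (lowerUnipotentSL2 k) (Um t⁻¹)⁻¹ = conjBy (upperUnipotentSL2 k) (Lm t)⁻¹ := by
  rw [conjBy_eq_iff, inv_inv, conjBy_conjBy, Lm_inv]
  ext x
  rw [mem_lower]
  constructor
  · rintro ⟨r, rfl⟩
    refine ⟨Um (-r / t ^ 2), mem_upper.mpr ⟨_, rfl⟩, ?_⟩
    simp only [MulEquiv.toMonoidHom_eq_coe, MonoidHom.coe_coe, MulAut.conj_apply]
    rw [key _ _ ht, mul_inv_cancel_right]
    congr 1
    field_simp
  · rintro ⟨y, hy, rfl⟩
    obtain ⟨s, rfl⟩ := mem_upper.mp hy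
    refine ⟨-t ^ 2 * s, ?_⟩
    simp only [MulEquiv.toMonoidHom_eq_coe, MonoidHom.coe_coe, MulAut.conj_apply]
    rw [key _ _ ht, mul_inv_cancel_right]

theorem conj_eq' (t : k) (ht : t ≠ 0) :
    conjBy (upperUnipotentSL2 k) (Lm t⁻¹)⁻¹ = conjBy (lowerUnipotentSL2 k) (Um t)⁻¹ := by
  rw [conjBy_eq_iff, inv_inv, conjBy_conjBy, Um_inv]
  ext x
  rw [mem_upper]
  constructor
  · rintro ⟨r, rfl⟩
    refine ⟨Lm (-r / t ^ 2), mem_lower.mpr ⟨_, rfl⟩, ?_⟩
    simp only [MulEquiv.toMonoidHom_eq_coe, MonoidHom.coe_coe, MulAut.conj_apply]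
    rw [key' _ _ ht, mul_inv_cancel_right]
    congr 1
    field_simp
  · rintro ⟨y, hy, rfl⟩
    obtain ⟨s, rfl⟩ := mem_lower.mp hy
    refine ⟨-t ^ 2 * s, ?_⟩
    simp only [MulEquiv.toMonoidHom_eq_coe, MonoidHom.coe_coe, MulAut.conj_apply]
    rw [key' _ _ ht, mul_inv_cancel_right]

theorem Lm_ne_one {t : k} (ht : t ≠ 0) : Lm t ≠ 1 := by
  rw [← Lm_zero]; exact fun h => ht (Lm_injective h)

theorem Um_ne_one {t : k} (ht : t ≠ 0) : Um t ≠ 1 := by
  rw [← Um_zero]; exact fun h => ht (Um_injective h)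

theorem lower_comm : ∀ x ∈ lowerUnipotentSL2 k, ∀ y ∈ lowerUnipotentSL2 k, x * y = y * x := by
  intro x hx y hy
  obtain ⟨s, rfl⟩ := mem_lower.mp hx
  obtain ⟨t, rfl⟩ := mem_lower.mp hy
  rw [Lm_mul, Lm_mul, add_comm]

theorem upper_comm : ∀ x ∈ upperUnipotentSL2 k, ∀ y ∈ upperUnipotentSL2 k, x * y = y * x := by
  intro x hx y hy
  obtain ⟨s, rfl⟩ := mem_upper.mp hx
  obtain ⟨t, rfl⟩ := mem_upper.mp hy
  rw [Um_mul, Um_mul, add_comm]

theorem isMulComm_of {G : Type*} [Group G] (H : Subgroup G)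
    (h : ∀ x ∈ H, ∀ y ∈ H, x * y = y * x) : IsMulCommutative H :=
  ⟨⟨fun x y => Subtype.ext (h x.1 x.2 y.1 y.2)⟩⟩

theorem nilpotent_of {G : Type*} [Group G] (H : Subgroup G)
    (h : ∀ x ∈ H, ∀ y ∈ H, x * y = y * x) : Group.IsNilpotent H := by
  let _ : CommGroup H := { (inferInstance : Group H) with
    mul_comm := fun x y => Subtype.ext (h x.1 x.2 y.1 y.2) }
  exact CommGroup.isNilpotent

/-- generation -/
theorem sup_eq_top : lowerUnipotentSL2 k ⊔ upperUnipotentSL2 k = ⊤ := by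
  rw [eq_top_iff]
  have hL : ∀ t : k, Lm t ∈ lowerUnipotentSL2 k ⊔ upperUnipotentSL2 k :=
    fun t => Subgroup.mem_sup_left (mem_lower.mpr ⟨t, rfl⟩)
  have hU : ∀ t : k, Um t ∈ lowerUnipotentSL2 k ⊔ upperUnipotentSL2 k :=
    fun t => Subgroup.mem_sup_right (mem_upper.mpr ⟨t, rfl⟩)
  have main : ∀ g : Matrix.SpecialLinearGroup (Fin 2) k, g.1 1 0 ≠ 0 →
      g ∈ lowerUnipotentSL2 k ⊔ upperUnipotentSL2 k := by
    intro g hr
    have hdet := g.2
    rw [Matrix.det_fin_two] at hdet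
    have : g = Um ((g.1 0 0 - 1) / g.1 1 0) * Lm (g.1 1 0) * Um ((g.1 1 1 - 1) / g.1 1 0) := by
      apply Subtype.ext
      simp only [Matrix.SpecialLinearGroup.coe_mul, Lm_val, Um_val, Matrix.mul_fin_two]
      conv_lhs => rw [Matrix.eta_fin_two g.1]
      apply mk_eq
      · field_simp; ring
      · field_simp
        linear_combination (-1 : k) * hdet
      · ring
      · field_simp; ring
    rw [this]
    exact mul_mem (mul_mem (hU _) (hL _)) (hU _)
  intro g _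
  by_cases hr : g.1 1 0 = 0
  · have hdet := g.2
    rw [Matrix.det_fin_two, hr, mul_zero, sub_zero] at hdet
    have hp : g.1 0 0 ≠ 0 := fun h => by rw [h, zero_mul] at hdet; exact zero_ne_one hdet
    have h1 : (Lm 1 * g).1 1 0 ≠ 0 := by
      rw [Matrix.SpecialLinearGroup.coe_mul, Lm_val, Matrix.eta_fin_two g.1, Matrix.mul_fin_two]
      simp [hr, hp]
    have h2 := main _ h1
    have h3 : g = (Lm 1)⁻¹ * (Lm 1 * g) := by group
    rw [h3]
    exact mul_mem (inv_mem (hL 1)) h2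
  · exact main g hr

theorem rankOnePair : IsRankOnePair (lowerUnipotentSL2 k) (upperUnipotentSL2 k) where
  ne := by
    intro h
    have h1 : Lm (1 : k) ∈ upperUnipotentSL2 k := h ▸ mem_lower.mpr ⟨1, rfl⟩
    obtain ⟨t, ht⟩ := mem_upper.mp h1
    have := congrArg (fun g : Matrix.SpecialLinearGroup (Fin 2) k => g.1 1 0) ht
    simp [Lm_val, Um_val] at this
  nilpotent_left := nilpotent_of _ lower_comm
  nilpotent_right := nilpotent_of _ upper_comm
  cond_left := by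
    intro a ha ha1
    obtain ⟨t, rfl⟩ := mem_lower.mp ha
    have ht : t ≠ 0 := by
      rintro rfl; exact ha1 Lm_zero
    exact ⟨Um t⁻¹, mem_upper.mpr ⟨_, rfl⟩, Um_ne_one (inv_ne_zero ht), conj_eq t ht⟩
  cond_right := by
    intro b hb hb1
    obtain ⟨t, rfl⟩ := mem_upper.mp hb
    have ht : t ≠ 0 := by
      rintro rfl; exact hb1 Um_zero
    exact ⟨Lm t⁻¹, mem_lower.mpr ⟨_, rfl⟩, Lm_ne_one (inv_ne_zero ht), conj_eq' t ht⟩

theorem special_identity (t : k) (ht : t ≠ 0) :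
    (Um t⁻¹)⁻¹ * Lm t * Um t⁻¹ = (Lm t)⁻¹ * (Um t⁻¹)⁻¹ * Lm t := by
  rw [Um_inv, Lm_inv]
  apply Subtype.ext
  simp only [Matrix.SpecialLinearGroup.coe_mul, Lm_val, Um_val, Matrix.mul_fin_two]
  apply mk_eq <;> field_simp <;> ring

/-- For any field k, the special linear group SL₂(k) is a special rank one group with abelian unipotent subgroups, the unipotent subgroups being the group of lower unitriangular matrices and the group of upper unitriangular matrices. -/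
theorem result (k : Type*) [Field k] :
    Cfsg.IsRankOneGroup (Matrix.SpecialLinearGroup (Fin 2) k) (Cfsg.lowerUnipotentSL2 k) (Cfsg.upperUnipotentSL2 k) ∧
    Cfsg.IsSpecialRankOnePair (Cfsg.lowerUnipotentSL2 k) (Cfsg.upperUnipotentSL2 k) ∧
    Cfsg.HasAbelianUnipotents (Cfsg.lowerUnipotentSL2 k) (Cfsg.upperUnipotentSL2 k) := by
  refine ⟨⟨sup_eq_top, rankOnePair⟩, ⟨rankOnePair, ?_⟩,
    isMulComm_of _ lower_comm, isMulComm_of _ upper_comm⟩
  intro a ha ha1 b hb hb1 hconj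
  obtain ⟨t, rfl⟩ := mem_lower.mp ha
  have ht : t ≠ 0 := by
    rintro rfl; exact ha1 Lm_zero
  obtain ⟨b₀, -, huniq⟩ := (Cfsg.Agent.S5013.result (rankOnePair (k := k))).1 (Lm t) ha ha1
  have h1 := huniq b ⟨hb, hb1, hconj⟩
  have h2 := huniq (Um t⁻¹) ⟨mem_upper.mpr ⟨_, rfl⟩, Um_ne_one (inv_ne_zero ht), conj_eq t ht⟩
  rw [h1, ← h2]
  exact special_identity t ht

end Cfsg.Agent.S5016
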