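import Mathlib
import Cfsg.Agent.Lib.Helper5.SL2Gen5
import Cfsg.Agent.Lib.Helper5.DicksonMax5
import Cfsg.Statements.S0801

set_option autoImplicit false
open Cfsg
open Matrix Cfsg.Agent.Lib.Helper4 Cfsg.Agent.Lib.Helper5.Mob Cfsg.Agent.Lib.Helper5.MobPGL
  Cfsg.Agent.Lib.Helper5.MobWild Cfsg.Agent.Lib.Helper5.MobRat Cfsg.Agent.Lib.Helper5.DicksonBorel
  Cfsg.Agent.Lib.Helper5.DicksonMain Cfsg.Agent.Lib.Helper5.DicksonOrders
  Cfsg.Agent.Lib.Helper5.DicksonMax Cfsg.Agent.Lib.Helper5.PSL2Tori Cfsg.Agent.Lib.Helper5.SL2Gen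
  Cfsg.Agent.Lib.Helper5.SL2Quat Cfsg.Agent.Lib.Helper5.PSL2Pairs
open Cfsg.Agent.Lib.Helper1.SL2Three
open scoped LinearAlgebra.Projectivization MatrixGroups

namespace Cfsg.Agent.S0801

/-- Let F be a finite field of odd characteristic and λ ≠ 0 an element generating F as a field. Then the lower and upper unitriangular matrices with off-diagonal entries 1 and λ generate SL_2(F), unless |F| = 9 and λ² = −1, in which case they generate a subgroup of order 120. -/
theorem result {F : Type*} [Field F] [Fintype F] (h2 : (2 : F) ≠ 0) (lam : F) (hlam : lam ≠ 0) (hgen : Subfield.closure ({lam} : Set F) = ⊤) : (Subgroup.closure {g : Matrix.SpecialLinearGroup (Fin 2) F | (g : Matrix (Fin 2) (Fin 2) F) = !![1, 0; 1, 1] ∨ (g : Matrix (Fin 2) (Fin 2) F) = !![1, lam; 0, 1]} = ⊤ ∧ ¬ (Fintype.card F = 9 ∧ lam ^ 2 = -1)) ∨ (Fintype.card F = 9 ∧ lam ^ 2 = -1 ∧ Nat.card ↥(Subgroup.closure {g : Matrix.SpecialLinearGroup (Fin 2) F | (g : Matrix (Fin 2) (Fin 2) F) = !![1, 0; 1, 1] ∨ (g : Matrix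 (Fin 2) (Fin 2) F) = !![1, lam; 0, 1]}) = 120) := by
  classical
  -- the generating set
  have hS : {g : Matrix.SpecialLinearGroup (Fin 2) F |
      (g : Matrix (Fin 2) (Fin 2) F) = !![1, 0; 1, 1] ∨
      (g : Matrix (Fin 2) (Fin 2) F) = !![1, lam; 0, 1]} = {ymat F 1, xmat F lam} := by
    ext g
    simp only [Set.mem_ofPred_eq, Set.mem_insert_iff, Set.mem_singleton_iff]
    constructor
    · rintro (h | h)
      · left; exact Subtype.ext h
      · right; exact Subtype.ext h
    · rintro (rfl | rfl)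
      · left; rfl
      · right; rfl
  rw [hS]
  set H := Subgroup.closure ({ymat F 1, xmat F lam} : Set (Matrix.SpecialLinearGroup (Fin 2) F))
    with hH
  have haH : ymat F 1 ∈ H := Subgroup.subset_closure (Or.inl rfl)
  have hbH : xmat F lam ∈ H := Subgroup.subset_closure (Or.inr rfl)
  -- the characteristic
  obtain ⟨p, hp⟩ := CharP.exists F
  have hpp : Fact p.Prime := ⟨CharP.char_is_prime F p⟩
  have hp2 : p ≠ 2 := by
    rintro rfl
    apply h2
    have := CharP.cast_eq_zero F 2
    exact_mod_cast this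
  obtain ⟨n, -, hn⟩ := FiniteField.card F p
  have hodd : Fintype.card F % 2 = 1 := by
    rw [hn, ← Nat.odd_iff]
    exact Odd.pow (hpp.out.odd_of_ne_two hp2)
  have : CharP (AlgebraicClosure F) p :=
    charP_of_injective_algebraMap (algebraMap F (AlgebraicClosure F)).injective p
  set j := algebraMap F (AlgebraicClosure F) with hj
  -- the image in the projective group
  set Hb := H.map (QuotientGroup.mk' (Subgroup.center (Matrix.SpecialLinearGroup (Fin 2) F)))
    with hHb
  have haHb : (QuotientGroup.mk (ymat F 1) :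
      Matrix.ProjectiveSpecialLinearGroup (Fin 2) F) ∈ Hb := ⟨_, haH, rfl⟩
  have hbHb : (QuotientGroup.mk (xmat F lam) :
      Matrix.ProjectiveSpecialLinearGroup (Fin 2) F) ∈ Hb := ⟨_, hbH, rfl⟩
  have hHbcl : Hb = Subgroup.closure ({(QuotientGroup.mk (ymat F 1) :
      Matrix.ProjectiveSpecialLinearGroup (Fin 2) F), QuotientGroup.mk (xmat F lam)} :
      Set (Matrix.ProjectiveSpecialLinearGroup (Fin 2) F)) := by
    rw [hHb, hH, MonoidHom.map_closure, Set.image_pair]
    rfl
  have hu : aff 1 (j lam) ∈ img j Hb :=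
    (mem_img_iff j Hb _).mpr ⟨_, hbHb, pslHom_xmat j lam⟩
  have hv : low (1 : AlgebraicClosure F) ∈ img j Hb :=
    (mem_img_iff j Hb _).mpr ⟨_, haHb, by rw [pslHom_ymat, map_one]⟩
  have hjl : j lam ≠ 0 := (map_ne_zero j).mpr hlam
  have hcardG := card_PSL2_mul (F := F)
  rw [gcd_two_of_odd hodd] at hcardG
  rcases wild_of_unipotent_pair p (img j Hb) hp2 hjl one_ne_zero hu hv with hw | hw
  · -- the subfield case
    left
    have htop : Hb = ⊤ := eq_top_of_wild j p Hb lam hlam hgen hbHb haHb hw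
    refine ⟨eq_top_of_map_eq_top hodd H htop, ?_⟩
    rintro ⟨h9, hl⟩
    have : CharP F 3 := by
      have : Fact (Nat.Prime 3) := ⟨Nat.prime_three⟩
      exact charP_of_card_eq_prime_pow (p := 3) (f := 2) (by rw [h9]; norm_num)
    have h60 := card_closure_le_sixty lam hl
    rw [← hHbcl, htop, Subgroup.card_top] at h60
    rw [h9] at hcardG
    omega
  · -- the icosahedral case
    right
    have hp3 : p = 3 := IsMob.WildA5.eq_three _ hw
    subst hp3
    obtain ⟨e0⟩ := (subMob (img j Hb) 3).icosahedral_wild hw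
    have e : Hb ≃* alternatingGroup (Fin 5) := (imgIso j Hb).trans e0
    have hcHb : Nat.card Hb = 60 := by rw [Nat.card_congr e.toEquiv, card_A5]
    have hbig : 3 < Fintype.card F := by
      by_contra hle
      push Not at hle
      have h1 : Nat.card Hb ≤ Nat.card (Matrix.ProjectiveSpecialLinearGroup (Fin 2) F) :=
        Subgroup.card_le_card_group Hb
      have h3 : Fintype.card F * ((Fintype.card F - 1) * (Fintype.card F + 1)) ≤ 3 * (2 * 4) :=
        Nat.mul_le_mul hle (Nat.mul_le_mul (by omega) (by omega))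
      omega
    have hP : ∀ g ∈ H, g ^ 2 ∈ Subgroup.center (Matrix.SpecialLinearGroup (Fin 2) F) ∨
        g ^ 3 ∈ Subgroup.center (Matrix.SpecialLinearGroup (Fin 2) F) ∨
        g ^ 5 ∈ Subgroup.center (Matrix.SpecialLinearGroup (Fin 2) F) := by
      intro g hg
      have hmem : QuotientGroup.mk' (Subgroup.center (Matrix.SpecialLinearGroup (Fin 2) F)) g ∈
          Hb := ⟨g, hg, rfl⟩
      have key : ∀ k : ℕ, orderOf (e ⟨_, hmem⟩) ∣ k →
          g ^ k ∈ Subgroup.center (Matrix.SpecialLinearGroup (Fin 2) F) := by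
        intro k hk
        have h1 : (e ⟨_, hmem⟩) ^ k = 1 := orderOf_dvd_iff_pow_eq_one.mp hk
        rw [← map_pow] at h1
        have h3 : (⟨_, hmem⟩ : Hb) ^ k = 1 := e.injective (by rw [h1, map_one])
        have h4 := congrArg Subtype.val h3
        rw [Subgroup.coe_pow, Subgroup.coe_one, ← map_pow] at h4
        exact (QuotientGroup.eq_one_iff _).mp h4
      rcases orderOf_A5 (e ⟨_, hmem⟩) with h | h | h
      · left; exact key 2 h
      · right; left; exact key 3 h
      · right; right; exact key 5 h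
    have hbH' : xmat F (-lam) ∈ H := by
      rw [← xmat_inv]; exact H.inv_mem hbH
    obtain ⟨h9, hl⟩ := char3_conclusion lam hgen hbig (hP _ (H.mul_mem haH hbH))
      (hP _ (H.mul_mem haH hbH'))
    refine ⟨h9, hl, ?_⟩
    have hneg := negOne_mem_of_even h2 H (by rw [← hHb, hcHb]; norm_num)
    rw [card_eq_two_mul hodd H hneg, ← hHb, hcHb]

end Cfsg.Agent.S0801
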