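import Mathlib
import Cfsg.Statements.S0684
import Cfsg.Agent.Lib.Lead.FpfLinear

set_option autoImplicit false

open Cfsg

namespace Cfsg.Agent.S0684

theorem result {p : ℕ} [Fact p.Prime] {V : Type*} [AddCommGroup V] [Module (ZMod p) V] [Finite V] (H : Subgroup (V ≃ₗ[ZMod p] V)) (hreg : ∀ v w : V, v ≠ 0 → w ≠ 0 → ∃! h : H, (h : V ≃ₗ[ZMod p] V) v = w) (hI : ∀ A : Subgroup H, A.Normal → IsCyclic A → ∃ W : Submodule (ZMod p) V, W ≠ ⊥ ∧ W ≠ ⊤ ∧ ∀ a ∈ A, ∀ v ∈ W, ((a : H) : V ≃ₗ[ZMod p] V) v ∈ W) (A : Subgroup H) (hAn : A.Normal) (hAc : IsMulCommutative A) (hAmax : ∀ B : Subgroup H, B.Normal → IsMulCommutative B → A ≤ B → B = A) : IsCyclic A ∧ ∃ W : Submodule (ZMod p) V, W ≠ ⊥ ∧ W ≠ ⊤ ∧ (∀ a ∈ A, ∀ v ∈ W, ((a : H) : V ≃ₗ[ZMod p] V) v ∈ W) ∧ (∀ W' : Submodule (ZMod p) V, W' ≤ W → (∀ a ∈ A, ∀ v ∈ W', ((a : H) : V ≃ₗ[ZMod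 p] V) v ∈ W') → W' = ⊥ ∨ W' = W) ∧ Nat.card A ∣ p ^ Module.finrank (ZMod p) W - 1 := by
  -- `V` is nontrivial
  obtain ⟨W₁, hW₁, -, -⟩ := hI ⊥ inferInstance inferInstance
  haveI : Nontrivial V := by
    by_contra hnt
    rw [not_nontrivial_iff_subsingleton] at hnt
    apply hW₁
    rw [eq_bot_iff]
    intro v _
    rw [Submodule.mem_bot]
    exact Subsingleton.elim v 0
  have hcyc : IsCyclic A := Cfsg.Agent.Lib.Lead.FpfLinear.cyclic_of_regular H hreg A hAc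
  refine ⟨hcyc, ?_⟩
  obtain ⟨W₀, hW₀b, hW₀t, hW₀inv⟩ := hI A hAn hcyc
  obtain ⟨W, hWle, hW0, hWinv, hWmin⟩ :=
    Cfsg.Agent.Lib.Lead.FpfLinear.exists_min_inv H A W₀ hW₀b hW₀inv
  refine ⟨W, hW0, ?_, hWinv, hWmin, Cfsg.Agent.Lib.Lead.FpfLinear.card_dvd H hreg A W hWinv⟩
  intro h
  apply hW₀t
  rw [eq_top_iff, ← h]
  exact hWle

end Cfsg.Agent.S0684
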