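import Cfsg.Statements.S4574
import Mathlib
import Cfsg.Agent.Lib.Helper3.BurnsideIneq
import Cfsg.Agent.Lib.Helper6.CharBasic
import Cfsg.Agent.Lib.Helper6.Constituent
-- import your own Cfsg.Agent.* helpers here

set_option autoImplicit false
open Cfsg

namespace Cfsg.Agent.S4574

open Cfsg.Agent.Lib.Helper3.BurnsideIneq Cfsg.Agent.Lib.Helper6


/-- In a finite group, `g` is a natural power of `g ^ k` for `k` coprime to the group order. -/
theorem exists_pow_pow_eq {G : Type*} [Group G] [Finite G] (g : G) {k : ℕ}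
    (hk : Nat.Coprime k (Nat.card G)) : ∃ l : ℕ, (g ^ k) ^ l = g := by
  have h1 : g ∈ Subgroup.zpowers (g ^ k) :=
    mem_of_pow_mem (Subgroup.zpowers (g ^ k)) hk (Subgroup.mem_zpowers _)
  rw [← mem_powers_iff_mem_zpowers] at h1
  exact h1


/-- The centre of a character is closed under extraction of coprime roots. -/
theorem norm_eq_of_pow {G : Type*} [Group G] [Finite G] {n : ℕ}
    (ρ : Representation ℂ G (Fin n → ℂ)) (g : G) {k : ℕ} (hk : Nat.Coprime k (Nat.card G))
    (h : ‖ρ.character (g ^ k)‖ = (n : ℝ)) : ‖ρ.character g‖ = (n : ℝ) := by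
  have hfr : Module.finrank ℂ (Fin n → ℂ) = n := by simp
  obtain ⟨l, hl⟩ := exists_pow_pow_eq g hk
  have h' : ‖ρ.character (g ^ k)‖ = (Module.finrank ℂ (Fin n → ℂ) : ℝ) := by rw [hfr]; exact h
  obtain ⟨ω, hω⟩ := (norm_character_eq_iff ρ (g ^ k)).mp h'
  have : ‖ρ.character g‖ = (Module.finrank ℂ (Fin n → ℂ) : ℝ) := by
    rw [norm_character_eq_iff]
    refine ⟨ω ^ l, ?_⟩
    rw [← hl, map_pow, hω]
    ext v
    simp [smul_pow]
  rw [this, hfr]


theorem result' {G : Type*} [Group G] [Fintype G] [DecidableEq G] (χ : G → ℂ) (hχ : Cfsg.IsIrrCharacter G χ) : (Cfsg.charDegree χ ^ 2 - 1) * (Finset.univ.filter (fun g : G => ‖χ g‖ = (Cfsg.charDegree χ : ℝ))).card ≤ (Finset.univ.filter (fun g : G => χ g = 0)).card ∧ ((∀ g : G, ‖χ g‖ = 0 ∨ ‖χ g‖ = 1 ∨ ‖χ g‖ = (Cfsg.charDegree χ : ℝ)) → (Cfsg.charDegree χ ^ 2 - 1) * (Finset.univ.filter (fun g : G => ‖χ g‖ = (Cfsg.charDegree χ : ℝ))).card = (Finset.univ.filter (fun g : G => χ g = 0)).card) := by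
  classical
  have hchar : Cfsg.IsCharacter G χ := by
    obtain ⟨n, ρ, _, h⟩ := hχ
    exact ⟨n, ρ, h⟩
  have hdpos := IsIrrCharacter.charDegree_pos hχ
  set d := Cfsg.charDegree χ with hd
  -- closure of the complement of the centre
  set Z : Finset G := Finset.univ.filter (fun g : G => ‖χ g‖ = (d : ℝ)) with hZ
  set T : Finset G := Finset.univ.filter (fun g : G => ¬ ‖χ g‖ = (d : ℝ)) with hT
  have hTclosed : ∀ t ∈ T, ∀ k : ℕ, Nat.Coprime k (Nat.card G) → t ^ k ∈ T := by
    intro t ht k hk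
    rw [hT, Finset.mem_filter] at ht ⊢
    refine ⟨Finset.mem_univ _, fun h => ht.2 ?_⟩
    obtain ⟨n, ρ, _, rfl⟩ := hχ
    have hn : d = n := by
      have h1 := IsCharacter.apply_one_eq_charDegree hchar
      rw [← hd] at h1
      have h2 : ρ.character 1 = (n : ℂ) := by simp
      rw [h2] at h1
      exact_mod_cast h1.symm
    rw [hn] at h ⊢
    exact norm_eq_of_pow ρ t hk h
  have hB := card_filter_le_sum_norm_sq hchar T hTclosed
  have hsplit : ∑ g ∈ Z, ‖χ g‖ ^ 2 + ∑ g ∈ T, ‖χ g‖ ^ 2 = (Nat.card G : ℝ) := by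
    rw [← sum_norm_sq_eq_card hχ, hZ, hT, Finset.sum_filter_add_sum_filter_not]
  have hZsum : ∑ g ∈ Z, ‖χ g‖ ^ 2 = (d : ℝ) ^ 2 * Z.card := by
    rw [Finset.sum_congr rfl (fun g hg => by rw [(Finset.mem_filter.mp hg).2]),
      Finset.sum_const, nsmul_eq_mul, mul_comm]
  have hcard : Z.card + T.card = Nat.card G := by
    rw [hZ, hT, Finset.card_filter_add_card_filter_not, Finset.card_univ,
      Nat.card_eq_fintype_card]
  have hzeros : Finset.univ.filter (fun g : G => χ g = 0) = T.filter (fun t => χ t = 0) := by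
    ext x
    simp only [hT, Finset.mem_filter, Finset.mem_univ, true_and]
    constructor
    · intro h
      refine ⟨?_, h⟩
      rw [h, norm_zero]
      intro h0
      have : (d : ℝ) ≠ 0 := by exact_mod_cast hdpos.ne'
      exact this h0.symm
    · exact fun h => h.2
  have hTsplit : (T.filter (fun t => χ t ≠ 0)).card + (T.filter (fun t => χ t = 0)).card
      = T.card := by
    rw [add_comm]
    exact Finset.card_filter_add_card_filter_not (fun t => χ t = 0)
  have e1 : ((T.filter (fun t => χ t ≠ 0)).card : ℝ) + ((T.filter (fun t => χ t = 0)).card : ℝ)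
      = (T.card : ℝ) := by exact_mod_cast hTsplit
  have e2 : (Z.card : ℝ) + (T.card : ℝ) = (Nat.card G : ℝ) := by exact_mod_cast hcard
  have hcast : (((d ^ 2 - 1 : ℕ) * Z.card : ℕ) : ℝ) = ((d : ℝ) ^ 2 - 1) * Z.card := by
    rw [Nat.cast_mul, Nat.cast_sub (Nat.one_le_pow _ _ hdpos)]
    simp
  rw [hzeros]
  constructor
  · have : ((d : ℝ) ^ 2 - 1) * Z.card ≤ ((T.filter (fun t => χ t = 0)).card : ℝ) := by
      nlinarith
    rw [← hcast] at this
    exact_mod_cast this
  · intro hval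
    have hTsum : ∑ g ∈ T, ‖χ g‖ ^ 2 = ((T.filter (fun t => χ t ≠ 0)).card : ℝ) := by
      rw [Finset.card_filter, Nat.cast_sum]
      refine Finset.sum_congr rfl fun g hg => ?_
      have hgT : ¬ ‖χ g‖ = (d : ℝ) := (Finset.mem_filter.mp hg).2
      rcases hval g with h | h | h
      · have : χ g = 0 := norm_eq_zero.mp h
        simp [this]
      · have : χ g ≠ 0 := by
          intro h0
          rw [h0, norm_zero] at h
          exact zero_ne_one h
        simp [this, h]
      · exact absurd h hgT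
    have : ((d : ℝ) ^ 2 - 1) * Z.card = ((T.filter (fun t => χ t = 0)).card : ℝ) := by
      nlinarith
    rw [← hcast] at this
    exact_mod_cast this





/-- Let χ be an irreducible character of the finite group G, of degree d, and let Z(χ) be the set of elements g with |χ g| = d (the centre of χ). Then χ vanishes on at least (d ^ 2 - 1) · |Z(χ)| elements of G, with equality when every value |χ g| is 0, 1 or d. -/
theorem result {G : Type*} [Group G] [Fintype G] [DecidableEq G] (χ : G → ℂ) (hχ : Cfsg.IsIrrCharacter G χ) : (Cfsg.charDegree χ ^ 2 - 1) * (Finset.univ.filter (fun g : G => ‖χ g‖ = (Cfsg.charDegree χ : ℝ))).card ≤ (Finset.univ.filter (fun g : G => χ g = 0)).card ∧ ((∀ g : G, ‖χ g‖ = 0 ∨ ‖χ g‖ = 1 ∨ ‖χ g‖ = (Cfsg.charDegree χ : ℝ)) → (Cfsg.charDegree χ ^ 2 - 1) * (Finset.univ.filter (fun g : G => ‖χ g‖ = (Cfsg.charDegree χ : ℝ))).card = (Finset.univ.filter (fun g : G => χ g = 0)).card) := by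
  exact result' χ hχ

end Cfsg.Agent.S4574
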