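import Cfsg.Statements.S3752
import Cfsg.Agent.Lib.Helper8.FStar
import Cfsg.Agent.Lib.Helper8.LayerSub
import Cfsg.Agent.Lib.Helper8.FStarEquiv
import Cfsg.Agent.Lib.Helper2.Components
import Cfsg.Agent.Lib.Helper2.Components3
import Cfsg.Agent.Lib.Helper2.Semisimple
import Cfsg.Agent.Lib.Helper2.PSub
import Cfsg.Agent.Lib.Helper1.FittingCentralizer
import Cfsg.Agent.Lib.Helper7.CharP

set_option autoImplicit false
open Cfsg

namespace Cfsg.Agent.S3752

variable {G : Type*} [Group G]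

/-- `F*(M)` in the ambient group. -/
noncomputable def gfsIn (M : Subgroup G) : Subgroup G :=
  (generalizedFittingSubgroup ↥M).map M.subtype

/-- `E(M)` in the ambient group. -/
noncomputable def layerIn (M : Subgroup G) : Subgroup G := (layer ↥M).map M.subtype

/-- `F(M)` in the ambient group. -/
noncomputable def fitIn (M : Subgroup G) : Subgroup G := (fittingSubgroup ↥M).map M.subtype

theorem gfsIn_le (M : Subgroup G) : gfsIn M ≤ M := Subgroup.map_subtype_le _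

theorem gfsIn_eq (M : Subgroup G) : gfsIn M = layerIn M ⊔ fitIn M := by
  unfold gfsIn layerIn fitIn generalizedFittingSubgroup
  rw [Subgroup.map_sup]

theorem le_normalizer_map_subtype {M : Subgroup G} (K : Subgroup ↥M) [K.Normal] :
    M ≤ Subgroup.normalizer (K.map M.subtype : Set G) := by
  have h1 := Subgroup.le_normalizer_map (H := K) M.subtype
  rw [Subgroup.normalizer_eq_top, ← MonoidHom.range_eq_map, Subgroup.range_subtype] at h1
  exact h1

theorem le_normalizer_gfsIn (M : Subgroup G) : M ≤ Subgroup.normalizer (gfsIn M : Set G) := by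
  haveI : (generalizedFittingSubgroup ↥M).Normal :=
    Cfsg.Agent.Lib.Helper8.generalizedFittingSubgroup_normal
  exact le_normalizer_map_subtype _

theorem le_normalizer_layerIn (M : Subgroup G) : M ≤ Subgroup.normalizer (layerIn M : Set G) := by
  haveI : (layer ↥M).Normal := Cfsg.Agent.Lib.Helper2.layer_normal
  exact le_normalizer_map_subtype _

theorem mem_gfsIn_of_centralizes [Finite G] {M : Subgroup G} {x : G} (hx : x ∈ M)
    (h : ∀ f ∈ gfsIn M, f * x = x * f) : x ∈ gfsIn M := by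
  have h1 : (⟨x, hx⟩ : ↥M) ∈ Subgroup.centralizer (generalizedFittingSubgroup ↥M : Set ↥M) := by
    rw [Subgroup.mem_centralizer_iff]
    intro f hf
    apply Subtype.ext
    exact h f ⟨f, hf, rfl⟩
  exact ⟨⟨x, hx⟩, Cfsg.Agent.Lib.Helper8.centralizer_generalizedFittingSubgroup_le h1, rfl⟩

theorem layer_perfect (X : Type*) [Group X] : ⁅layer X, layer X⁆ = layer X := by
  haveI : (layer X).Normal := Cfsg.Agent.Lib.Helper2.layer_normal
  apply le_antisymm (Subgroup.commutator_le_left _ _)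
  unfold layer
  apply sSup_le
  intro L hL
  have h1 : ⁅L, L⁆ = L := Cfsg.Agent.Lib.Helper2.isComponent_perfect hL
  rw [← h1]
  exact Subgroup.commutator_mono (le_sSup hL) (le_sSup hL)

/-- A perfect subgroup of `F*(X)` lies in `E(X)`. -/
theorem le_layer_of_perfect {X : Type*} [Group X] [Finite X] {K : Subgroup X}
    (hK : K ≤ generalizedFittingSubgroup X) (hperf : ⁅K, K⁆ = K) : K ≤ layer X := by
  haveI hEn : (layer X).Normal := Cfsg.Agent.Lib.Helper2.layer_normal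
  set π := QuotientGroup.mk' (layer X) with hπ
  have h1 : K.map π ≤ (fittingSubgroup X).map π := by
    refine (Subgroup.map_mono hK).trans ?_
    unfold generalizedFittingSubgroup
    rw [Subgroup.map_sup]
    apply sup_le
    · have : (layer X).map π = ⊥ := by
        rw [Subgroup.map_eq_bot_iff, QuotientGroup.ker_mk']
      rw [this]; exact bot_le
    · exact le_rfl
  haveI : Group.IsNilpotent ↥(fittingSubgroup X) :=
    Cfsg.Agent.Lib.Helper2.fittingSubgroup_isNilpotent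
  have h2 : Group.IsSolvable ↥((fittingSubgroup X).map π) := by
    have hsurj : Function.Surjective ((π.subgroupMap (fittingSubgroup X))) :=
      MonoidHom.subgroupMap_surjective _ _
    exact Group.isSolvable_of_surjective hsurj
  have h3 : Group.IsSolvable ↥(K.map π) :=
    Group.isSolvable_of_isSolvable_injective (Subgroup.inclusion_injective h1)
  have h4 : ⁅K.map π, K.map π⁆ = K.map π := by
    rw [← Subgroup.map_commutator, hperf]
  have h5 : K.map π = ⊥ := by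
    by_contra hne
    haveI : Nontrivial ↥(K.map π) := (Subgroup.nontrivial_iff_ne_bot _).2 hne
    haveI : Group.IsPerfect ↥(K.map π) := Subgroup.isPerfect_iff.2 h4
    exact Group.IsPerfect.not_isSolvable ↥(K.map π) h3
  rw [Subgroup.map_eq_bot_iff, QuotientGroup.ker_mk'] at h5
  exact h5

/-- The hypotheses on the pair, in symmetric form. -/
structure Pair (M₁ M₂ : Subgroup G) : Prop where
  ne : M₁ ≠ M₂
  prim₁ : ∀ A : Subgroup G, A ≠ ⊥ → A ≤ M₁ ⊓ M₂ → M₁ ≤ Subgroup.normalizer (A : Set G) →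
    M₂ ⊓ Subgroup.normalizer (A : Set G) = M₁ ⊓ M₂
  prim₂ : ∀ A : Subgroup G, A ≠ ⊥ → A ≤ M₁ ⊓ M₂ → M₂ ≤ Subgroup.normalizer (A : Set G) →
    M₁ ⊓ Subgroup.normalizer (A : Set G) = M₁ ⊓ M₂
  h₁ : gfsIn M₁ ≤ M₂
  h₂ : gfsIn M₂ ≤ M₁

theorem Pair.symm {M₁ M₂ : Subgroup G} (h : Pair M₁ M₂) : Pair M₂ M₁ where
  ne := h.ne.symm
  prim₁ := fun A hA hAM hn => by
    rw [inf_comm M₂ M₁] at hAM ⊢
    exact h.prim₂ A hA hAM hn
  prim₂ := fun A hA hAM hn => by
    rw [inf_comm M₂ M₁] at hAM ⊢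
    exact h.prim₁ A hA hAM hn
  h₁ := h.h₂
  h₂ := h.h₁

/-- A nontrivial subgroup of `M₁ ∩ M₂` normal in both is impossible. -/
theorem Pair.not_both_normal {M₁ M₂ : Subgroup G} (h : Pair M₁ M₂) {A : Subgroup G}
    (hA : A ≠ ⊥) (hA₁ : A ≤ M₁) (hA₂ : A ≤ M₂)
    (hn₁ : M₁ ≤ Subgroup.normalizer (A : Set G)) (hn₂ : M₂ ≤ Subgroup.normalizer (A : Set G)) :
    False := by
  have k₁ := h.prim₁ A hA (le_inf hA₁ hA₂) hn₁
  have k₂ := h.prim₂ A hA (le_inf hA₁ hA₂) hn₂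
  rw [inf_eq_left.2 hn₂] at k₁
  rw [inf_eq_left.2 hn₁] at k₂
  apply h.ne
  rw [k₁]
  exact k₂

/-- Elements of `M₁` normalizing a nontrivial `M₂`-normal subgroup of `M₁ ∩ M₂` lie in `M₂`. -/
theorem Pair.mem_of_normalizes₂ {M₁ M₂ : Subgroup G} (h : Pair M₁ M₂) {A : Subgroup G}
    (hA : A ≠ ⊥) (hA₁ : A ≤ M₁) (hA₂ : A ≤ M₂)
    (hn₂ : M₂ ≤ Subgroup.normalizer (A : Set G)) {x : G} (hx : x ∈ M₁)
    (hxn : x ∈ Subgroup.normalizer (A : Set G)) : x ∈ M₂ := by
  have k₂ := h.prim₂ A hA (le_inf hA₁ hA₂) hn₂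
  have : x ∈ M₁ ⊓ Subgroup.normalizer (A : Set G) := Subgroup.mem_inf.mpr ⟨hx, hxn⟩
  rw [k₂] at this
  exact this.2

theorem Pair.component_le [Finite G] {M₁ M₂ : Subgroup G} (h : Pair M₁ M₂) (K : Subgroup ↥M₁)
    (hK : IsComponent K) : K.map M₁.subtype ≤ gfsIn M₂ := by
  set N : Subgroup ↥M₁ := (gfsIn M₂).subgroupOf M₁ with hN
  have hKgfs : ∀ k ∈ K, (k : G) ∈ gfsIn M₁ := by
    intro k hk
    refine ⟨k, ?_, rfl⟩
    unfold generalizedFittingSubgroup
    exact le_sup_left (α := Subgroup ↥M₁) (Cfsg.Agent.Lib.Helper2.le_layer hK hk)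
  have hKN : K ≤ Subgroup.normalizer (N : Set ↥M₁) := by
    intro k hk
    have h1 : (k : G) ∈ Subgroup.normalizer (gfsIn M₂ : Set G) :=
      le_normalizer_gfsIn M₂ (h.h₁ (hKgfs k hk))
    rw [Subgroup.mem_normalizer_iff] at h1 ⊢
    intro n
    rw [hN, Subgroup.mem_subgroupOf, Subgroup.mem_subgroupOf]
    exact h1 n
  rcases Cfsg.Agent.Lib.Helper2.isComponent_le_or_commutator_eq_bot_of_le_normalizer hK hKN
    with h1 | h1
  · rintro _ ⟨k, hk, rfl⟩
    exact Subgroup.mem_subgroupOf.1 (h1 hk)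
  · rintro _ ⟨k, hk, rfl⟩
    apply mem_gfsIn_of_centralizes (h.h₁ (hKgfs k hk))
    intro f hf
    have hfM : f ∈ M₁ := h.h₂ hf
    rw [Subgroup.commutator_eq_bot_iff_le_centralizer] at h1
    have h2 : (⟨f, hfM⟩ : ↥M₁) ∈ N := Subgroup.mem_subgroupOf.2 hf
    have h3 := Subgroup.mem_centralizer_iff.1 (h1 h2) k hk
    exact (congrArg Subtype.val h3).symm

theorem Pair.layerIn_le_gfsIn [Finite G] {M₁ M₂ : Subgroup G} (h : Pair M₁ M₂) :
    layerIn M₁ ≤ gfsIn M₂ := by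
  unfold layerIn layer
  apply Cfsg.Agent.Lib.Helper8.map_sSup_le_of_forall
  intro K hK
  exact h.component_le K hK

theorem layerIn_le_gfsIn_self (M : Subgroup G) : layerIn M ≤ gfsIn M := by
  rw [gfsIn_eq]; exact le_sup_left

theorem layerIn_perfect (M : Subgroup G) : ⁅layerIn M, layerIn M⁆ = layerIn M := by
  unfold layerIn
  rw [← Subgroup.map_commutator, layer_perfect]

theorem Pair.layerIn_le [Finite G] {M₁ M₂ : Subgroup G} (h : Pair M₁ M₂) :
    layerIn M₁ ≤ layerIn M₂ := by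
  have hle : layerIn M₁ ≤ M₂ := h.layerIn_le_gfsIn.trans (gfsIn_le M₂)
  set K : Subgroup ↥M₂ := (layerIn M₁).subgroupOf M₂ with hK
  have hKmap : K.map M₂.subtype = layerIn M₁ := Subgroup.map_subgroupOf_eq_of_le hle
  have h1 : K ≤ generalizedFittingSubgroup ↥M₂ := by
    intro x hx
    have h2 : (x : G) ∈ gfsIn M₂ := h.layerIn_le_gfsIn (Subgroup.mem_subgroupOf.1 hx)
    obtain ⟨y, hy, hyx⟩ := h2
    have : y = x := Subtype.ext hyx
    rw [← this]; exact hy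
  have h2 : ⁅K, K⁆ = K := by
    apply Subgroup.map_injective M₂.subtype_injective
    rw [Subgroup.map_commutator, hKmap, layerIn_perfect]
  have h3 := le_layer_of_perfect h1 h2
  rw [← hKmap]
  exact Subgroup.map_mono h3

theorem Pair.layerIn_eq_bot [Finite G] {M₁ M₂ : Subgroup G} (h : Pair M₁ M₂) :
    layerIn M₁ = ⊥ := by
  have e : layerIn M₁ = layerIn M₂ := le_antisymm h.layerIn_le h.symm.layerIn_le
  by_contra hne
  refine h.not_both_normal hne ((layerIn_le_gfsIn_self M₁).trans (gfsIn_le M₁)) ?_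
    (le_normalizer_layerIn M₁) ?_
  · rw [e]; exact (layerIn_le_gfsIn_self M₂).trans (gfsIn_le M₂)
  · rw [e]; exact le_normalizer_layerIn M₂

theorem Pair.gfsIn_eq_fitIn [Finite G] {M₁ M₂ : Subgroup G} (h : Pair M₁ M₂) :
    gfsIn M₁ = fitIn M₁ := by
  rw [gfsIn_eq, h.layerIn_eq_bot, bot_sup_eq]

open Cfsg.Agent.Lib.Helper7 in
theorem fitIn_eq_iSup [Finite G] (M : Subgroup G) :
    fitIn M = ⨆ r : Nat.Primes, pCoreIn (r : ℕ) M := by
  unfold fitIn pCoreIn
  rw [Cfsg.Agent.Lib.Helper1.fittingSubgroup_eq_iSup_pCore, Subgroup.map_iSup]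

open Cfsg.Agent.Lib.Helper7 in
theorem pCoreIn_le_fitIn [Finite G] (M : Subgroup G) (r : ℕ) [hr : Fact r.Prime] :
    pCoreIn r M ≤ fitIn M := by
  rw [fitIn_eq_iSup]
  exact le_iSup (fun r : Nat.Primes => pCoreIn (r : ℕ) M) ⟨r, hr.out⟩

theorem commute_of_normalize_disjoint {H K : Subgroup G}
    (hHK : H ≤ Subgroup.normalizer (K : Set G)) (hKH : K ≤ Subgroup.normalizer (H : Set G))
    (hd : H ⊓ K = ⊥) : ∀ h ∈ H, ∀ k ∈ K, h * k = k * h := by
  intro h hh k hk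
  have h1 : h * k * h⁻¹ * k⁻¹ ∈ H ⊓ K := by
    refine Subgroup.mem_inf.mpr ⟨?_, ?_⟩
    · have h2 : k * h⁻¹ * k⁻¹ ∈ H :=
        (Subgroup.mem_normalizer_iff.mp (hKH hk) h⁻¹).mp (H.inv_mem hh)
      have e : h * k * h⁻¹ * k⁻¹ = h * (k * h⁻¹ * k⁻¹) := by group
      rw [e]; exact H.mul_mem hh h2
    · have h2 : h * k * h⁻¹ ∈ K := (Subgroup.mem_normalizer_iff.mp (hHK hh) k).mp hk
      exact K.mul_mem h2 (K.inv_mem hk)
  rw [hd, Subgroup.mem_bot] at h1
  have e : h * k = (h * k * h⁻¹ * k⁻¹) * (k * h) := by group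
  rw [e, h1, one_mul]

/-- Iterating a conjugation which multiplies by a fixed commuting element. -/
theorem conj_pow_eq {x y z : G} (h : x⁻¹ * y * x = y * z) (hxz : x * z = z * x) (k : ℕ) :
    (x ^ k)⁻¹ * y * x ^ k = y * z ^ k := by
  induction k with
  | zero => simp
  | succ k ih =>
    have hxz' : x⁻¹ * z ^ k * x = z ^ k := by
      have : Commute x (z ^ k) := (show Commute x z from hxz).pow_right k
      rw [mul_assoc, ← this.eq]; group
    calc (x ^ (k + 1))⁻¹ * y * x ^ (k + 1)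
        = x⁻¹ * ((x ^ k)⁻¹ * y * x ^ k) * x := by rw [pow_succ]; group
      _ = x⁻¹ * (y * z ^ k) * x := by rw [ih]
      _ = (x⁻¹ * y * x) * (x⁻¹ * z ^ k * x) := by group
      _ = y * z * z ^ k := by rw [h, hxz']
      _ = y * z ^ (k + 1) := by rw [pow_succ']; group

theorem eq_one_of_pow_eq_one_of_coprime {z : G} {m n : ℕ} (hm : z ^ m = 1) (hn : z ^ n = 1)
    (h : m.Coprime n) : z = 1 := by
  have h1 : orderOf z ∣ m := orderOf_dvd_of_pow_eq_one hm
  have h2 : orderOf z ∣ n := orderOf_dvd_of_pow_eq_one hn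
  have h3 : orderOf z ∣ Nat.gcd m n := Nat.dvd_gcd h1 h2
  rw [h] at h3
  exact orderOf_eq_one_iff.1 (Nat.dvd_one.1 h3)

section StepB

open Cfsg.Agent.Lib.Helper7

variable [Finite G] {M₁ M₂ : Subgroup G}

theorem Pair.pCoreIn_le₂ (h : Pair M₁ M₂) (r : ℕ) [Fact r.Prime] : pCoreIn r M₁ ≤ M₂ := by
  refine (pCoreIn_le_fitIn M₁ r).trans ?_
  rw [← h.gfsIn_eq_fitIn]
  exact h.h₁

/-- `O_p(M₁)` and `O_q(M₂)` commute for `p ≠ q`. -/
theorem Pair.cross_commute (h : Pair M₁ M₂) {p q : ℕ} [Fact p.Prime] [Fact q.Prime] (hpq : p ≠ q) :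
    ∀ a ∈ pCoreIn p M₁, ∀ b ∈ pCoreIn q M₂, a * b = b * a := by
  apply commute_of_normalize_disjoint
  · exact (h.pCoreIn_le₂ p).trans (le_normalizer_pCoreIn q M₂)
  · exact (h.symm.pCoreIn_le₂ q).trans (le_normalizer_pCoreIn p M₁)
  · exact disjoint_iff.1 (IsPGroup.disjoint_of_ne p q hpq _ _ (pCoreIn_isPGroup p M₁)
      (pCoreIn_isPGroup q M₂))

/-- `O_p(M)` and `O_q(M)` commute for `p ≠ q`. -/
theorem self_commute (M : Subgroup G) {p q : ℕ} [Fact p.Prime] [Fact q.Prime] (hpq : p ≠ q) :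
    ∀ a ∈ pCoreIn p M, ∀ b ∈ pCoreIn q M, a * b = b * a := by
  apply commute_of_normalize_disjoint
  · exact (pCoreIn_le p M).trans (le_normalizer_pCoreIn q M)
  · exact (pCoreIn_le q M).trans (le_normalizer_pCoreIn p M)
  · exact disjoint_iff.1 (IsPGroup.disjoint_of_ne p q hpq _ _ (pCoreIn_isPGroup p M)
      (pCoreIn_isPGroup q M))

/-- `O_{p'}(M)` in the ambient group. -/
noncomputable def ppIn (p : ℕ) (M : Subgroup G) : Subgroup G := (pPrimeCore p ↥M).map M.subtype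

theorem ppIn_coprime (p : ℕ) (M : Subgroup G) : (Nat.card (ppIn p M)).Coprime p := by
  unfold ppIn
  rw [Subgroup.card_map_of_injective M.subtype_injective]
  exact Cfsg.Agent.Lib.Helper2.pPrimeCore_card_coprime p

theorem le_normalizer_ppIn (p : ℕ) (M : Subgroup G) :
    M ≤ Subgroup.normalizer (ppIn p M : Set G) := by
  haveI : (pPrimeCore p ↥M).Normal := (Cfsg.Agent.Lib.Helper2.pPrimeCore_mem p).1
  exact le_normalizer_map_subtype _

theorem pCoreIn_le_ppIn (M : Subgroup G) {p q : ℕ} [Fact p.Prime] [Fact q.Prime] (hqp : q ≠ p) :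
    pCoreIn q M ≤ ppIn p M :=
  Subgroup.map_mono (Cfsg.Agent.Lib.Helper1.pCore_le_pPrimeCore hqp)

theorem le_normalizer_fitIn (M : Subgroup G) : M ≤ Subgroup.normalizer (fitIn M : Set G) := by
  haveI : (fittingSubgroup ↥M).Normal := Cfsg.Agent.Lib.Helper2.fittingSubgroup_normal
  exact le_normalizer_map_subtype _

theorem fitIn_le (M : Subgroup G) : fitIn M ≤ M := Subgroup.map_subtype_le _

/-- If all `O_r(M)` with `r ≠ p` lie in `Y` and `O_p(M) ≤ A` then `F(M) ≤ A ⊔ Y`. -/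
theorem fitIn_le_sup (M : Subgroup G) (p : ℕ) [Fact p.Prime] :
    fitIn M ≤ pCoreIn p M ⊔ (ppIn p M ⊓ fitIn M) := by
  conv_lhs => rw [fitIn_eq_iSup]
  apply iSup_le
  intro r
  haveI : Fact (r : ℕ).Prime := ⟨r.2⟩
  by_cases hr : (r : ℕ) = p
  · rw [hr]; exact le_sup_left
  · exact le_trans (le_inf (pCoreIn_le_ppIn M hr) (pCoreIn_le_fitIn M r)) le_sup_right

/-- Key claim: `p'`-elements of `C_{M₁}(O_p(M₁))` centralize `O_p(M₂)`. -/
theorem Pair.key (h : Pair M₁ M₂) {p : ℕ} [Fact p.Prime] {x : G} (hx : x ∈ M₁)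
    (hxA : x ∈ Subgroup.centralizer (pCoreIn p M₁ : Set G)) (hxo : (orderOf x).Coprime p)
    {y : G} (hy : y ∈ pCoreIn p M₂) : x * y = y * x := by
  have hp : p.Prime := Fact.out
  set A := pCoreIn p M₁ with hA
  set Bp := pCoreIn p M₂ with hBp
  set Y := ppIn p M₁ ⊓ fitIn M₁ with hY
  have hYM₁ : Y ≤ M₁ := inf_le_right.trans (fitIn_le M₁)
  have hYM₂ : Y ≤ M₂ := by
    refine inf_le_right.trans ?_
    rw [← h.gfsIn_eq_fitIn]; exact h.h₁
  have hYn : M₁ ≤ Subgroup.normalizer (Y : Set G) :=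
    (le_inf (le_normalizer_ppIn p M₁) (le_normalizer_fitIn M₁)).trans
      Subgroup.inf_normalizer_le_normalizer_inf
  have hYcop : (Nat.card Y).Coprime p :=
    Nat.Coprime.coprime_dvd_left (Subgroup.card_dvd_of_le inf_le_left) (ppIn_coprime p M₁)
  have hBpM₁ : Bp ≤ M₁ := h.symm.pCoreIn_le₂ p
  have hAn : M₁ ≤ Subgroup.normalizer (A : Set G) := le_normalizer_pCoreIn p M₁
  have hBpn : M₂ ≤ Subgroup.normalizer (Bp : Set G) := le_normalizer_pCoreIn p M₂
  have hAp : IsPGroup p A := pCoreIn_isPGroup p M₁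
  have hBpp : IsPGroup p Bp := pCoreIn_isPGroup p M₂
  -- `Bp` and `Y` commute
  have hBpY : ∀ b ∈ Bp, ∀ w ∈ Y, b * w = w * b := by
    apply commute_of_normalize_disjoint (hBpM₁.trans hYn) (hYM₂.trans hBpn)
    exact Cfsg.Agent.Lib.Helper2.inf_eq_bot_of_isPGroup_of_coprime hBpp hYcop
  -- `A` and `Y` commute
  have hAY : ∀ a ∈ A, ∀ w ∈ Y, a * w = w * a := by
    apply commute_of_normalize_disjoint ((pCoreIn_le p M₁).trans hYn) (hYM₁.trans hAn)
    exact Cfsg.Agent.Lib.Helper2.inf_eq_bot_of_isPGroup_of_coprime hAp hYcop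
  have hyM₁ : y ∈ M₁ := hBpM₁ hy
  set z := y⁻¹ * (x⁻¹ * y * x) with hz
  have hzM : z ∈ M₁ :=
    M₁.mul_mem (M₁.inv_mem hyM₁) (M₁.mul_mem (M₁.mul_mem (M₁.inv_mem hx) hyM₁) hx)
  -- `z` centralizes `A`
  have hzA : z ∈ Subgroup.centralizer (A : Set G) := by
    have h1 : y⁻¹ ∈ Subgroup.normalizer ((Subgroup.centralizer (A : Set G) : Subgroup G) : Set G) :=
      normalizer_le_normalizer_centralizer A (Subgroup.inv_mem _ (hAn hyM₁))
    have h2 : y⁻¹ * x⁻¹ * y⁻¹⁻¹ ∈ Subgroup.centralizer (A : Set G) :=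
      (Subgroup.mem_normalizer_iff.mp h1 x⁻¹).mp (Subgroup.inv_mem _ hxA)
    have e : z = (y⁻¹ * x⁻¹ * y⁻¹⁻¹) * x := by rw [hz]; group
    rw [e]
    exact Subgroup.mul_mem _ h2 hxA
  -- `z` centralizes `Y`
  have hyY : y ∈ Subgroup.centralizer (Y : Set G) := by
    rw [Subgroup.mem_centralizer_iff]
    intro w hw
    exact (hBpY y hy w hw).symm
  have hzY : z ∈ Subgroup.centralizer (Y : Set G) := by
    have h1 : x⁻¹ ∈ Subgroup.normalizer ((Subgroup.centralizer (Y : Set G) : Subgroup G) : Set G) :=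
      normalizer_le_normalizer_centralizer Y (Subgroup.inv_mem _ (hYn hx))
    have h2 : x⁻¹ * y * x⁻¹⁻¹ ∈ Subgroup.centralizer (Y : Set G) :=
      (Subgroup.mem_normalizer_iff.mp h1 y).mp hyY
    have e : z = y⁻¹ * (x⁻¹ * y * x⁻¹⁻¹) := by rw [hz]; group
    rw [e]
    exact Subgroup.mul_mem _ (Subgroup.inv_mem _ hyY) h2
  -- `z ∈ F(M₁)`
  have hzF : z ∈ fitIn M₁ := by
    rw [← h.gfsIn_eq_fitIn]
    apply mem_gfsIn_of_centralizes hzM
    intro f hf
    rw [h.gfsIn_eq_fitIn] at hf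
    have h1 : A ⊔ Y ≤ Subgroup.centralizer ({z} : Set G) := by
      apply sup_le
      · intro a ha
        rw [Subgroup.mem_centralizer_singleton_iff]
        exact (Subgroup.mem_centralizer_iff.1 hzA a ha)
      · intro w hw
        rw [Subgroup.mem_centralizer_singleton_iff]
        exact (Subgroup.mem_centralizer_iff.1 hzY w hw)
    exact Subgroup.mem_centralizer_singleton_iff.1 (h1 (fitIn_le_sup M₁ p hf))
  obtain ⟨a, ha, w, hw, hzaw⟩ :=
    Cfsg.Agent.Lib.Helper2.exists_mul_of_mem_sup_of_commute hAY (fitIn_le_sup M₁ p hzF)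
  -- `w = 1`
  have hw1 : w = 1 := by
    have hsup : IsPGroup p (Bp ⊔ A : Subgroup G) :=
      IsPGroup.to_sup_of_normal_right' hBpp hAp (hBpM₁.trans hAn)
    obtain ⟨N, hN⟩ := IsPGroup.iff_card.mp hsup
    set n := Nat.card (Bp ⊔ A : Subgroup G) with hn
    have h1 : (y * a) ^ n = 1 := by
      have hmem : y * a ∈ Bp ⊔ A :=
        Subgroup.mul_mem _ (Subgroup.mem_sup_left hy) (Subgroup.mem_sup_right ha)
      have := pow_card_eq_one' (G := ↥(Bp ⊔ A : Subgroup G)) (x := ⟨y * a, hmem⟩)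
      exact congrArg Subtype.val this
    have h2 : y ^ n = 1 := by
      have hmem : y ∈ Bp ⊔ A := Subgroup.mem_sup_left hy
      have := pow_card_eq_one' (G := ↥(Bp ⊔ A : Subgroup G)) (x := ⟨y, hmem⟩)
      exact congrArg Subtype.val this
    have h3 : (x⁻¹ * y * x) ^ n = 1 := by
      have e : x⁻¹ * y * x = x⁻¹ * y * x⁻¹⁻¹ := by group
      rw [e, conj_pow, h2]; group
    have h4 : x⁻¹ * y * x = (y * a) * w := by
      have : x⁻¹ * y * x = y * z := by rw [hz]; group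
      rw [this, hzaw]; group
    have hcomm : Commute (y * a) w :=
      (show Commute y w from hBpY y hy w hw).mul_left (show Commute a w from hAY a ha w hw)
    rw [h4, hcomm.mul_pow, h1, one_mul] at h3
    have h5 : w ^ Nat.card Y = 1 := by
      have := pow_card_eq_one' (G := ↥Y) (x := ⟨w, hw⟩)
      exact congrArg Subtype.val this
    apply eq_one_of_pow_eq_one_of_coprime h3 h5
    rw [hN]
    exact Nat.Coprime.pow_left N (Nat.Coprime.symm hYcop)
  have hza : z = a := by rw [hzaw, hw1, mul_one]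
  have hzA' : z ∈ A := by rw [hza]; exact ha
  have hxz : x * z = z * x := (Subgroup.mem_centralizer_iff.1 hxA z hzA').symm
  have hconj : x⁻¹ * y * x = y * z := by rw [hz]; group
  have h6 := conj_pow_eq hconj hxz (orderOf x)
  rw [pow_orderOf_eq_one] at h6
  have h7 : z ^ orderOf x = 1 := by
    have : y = y * z ^ orderOf x := by simpa using h6
    exact (mul_eq_left.mp this.symm)
  have h8 : z = 1 := by
    obtain ⟨k, hk⟩ := hAp ⟨z, hzA'⟩
    have hk' : z ^ p ^ k = 1 := congrArg Subtype.val hk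
    apply eq_one_of_pow_eq_one_of_coprime h7 hk'
    exact Nat.Coprime.pow_right k hxo
  rw [h8, mul_one] at hconj
  calc x * y = x * (x⁻¹ * y * x) := by rw [hconj]
    _ = y * x := by group

/-- Lemma X: if `O_p(M₂) ≠ 1` and `q ≠ p` then `O_q(M₂) ≤ O_q(M₁)`. -/
theorem Pair.lemmaX (h : Pair M₁ M₂) {p q : ℕ} [Fact p.Prime] [Fact q.Prime] (hpq : p ≠ q)
    (hBp : pCoreIn p M₂ ≠ ⊥) : pCoreIn q M₂ ≤ pCoreIn q M₁ := by
  have hp : p.Prime := Fact.out
  have hq : q.Prime := Fact.out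
  set S : Set G := {x | x ∈ M₁ ∧ x ∈ Subgroup.centralizer (pCoreIn p M₁ : Set G) ∧
    (orderOf x).Coprime p} with hS
  set B := Subgroup.closure S with hB
  have hBM₁ : B ≤ M₁ := by
    rw [hB, Subgroup.closure_le]
    intro x hx; exact hx.1
  have hBcent : B ≤ Subgroup.centralizer (pCoreIn p M₂ : Set G) := by
    rw [hB, Subgroup.closure_le]
    intro x hx
    rw [SetLike.mem_coe, Subgroup.mem_centralizer_iff]
    intro y hy
    exact (h.key hx.1 hx.2.1 hx.2.2 hy).symm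
  have hAn : M₁ ≤ Subgroup.normalizer (pCoreIn p M₁ : Set G) := le_normalizer_pCoreIn p M₁
  have hBnorm : M₁ ≤ Subgroup.normalizer (B : Set G) := by
    intro m hm
    apply mem_normalizer_of_map_conj_le
    rw [hB, MonoidHom.map_closure, Subgroup.closure_le]
    rintro _ ⟨x, hx, rfl⟩
    apply Subgroup.subset_closure
    refine ⟨?_, ?_, ?_⟩
    · exact M₁.mul_mem (M₁.mul_mem hm hx.1) (M₁.inv_mem hm)
    · have h1 := normalizer_le_normalizer_centralizer (pCoreIn p M₁) (hAn hm)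
      exact (Subgroup.mem_normalizer_iff.mp h1 x).mp hx.2.1
    · show (orderOf (m * x * m⁻¹)).Coprime p
      have : orderOf (m * x * m⁻¹) = orderOf x := by
        have := orderOf_injective (MulAut.conj m).toMonoidHom (MulAut.conj m).injective x
        simpa [MulAut.conj_apply] using this
      rw [this]; exact hx.2.2
  have hBpM₁ : pCoreIn p M₂ ≤ M₁ := h.symm.pCoreIn_le₂ p
  have hBM₂ : B ≤ M₂ := by
    intro x hx
    exact h.mem_of_normalizes₂ hBp hBpM₁ (pCoreIn_le p M₂) (le_normalizer_pCoreIn p M₂)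
      (hBM₁ hx) (Subgroup.centralizer_le_normalizer _ (hBcent hx))
  have hBqB : pCoreIn q M₂ ≤ B := by
    intro b hb
    apply Subgroup.subset_closure
    refine ⟨h.symm.pCoreIn_le₂ q hb, ?_, ?_⟩
    · rw [Subgroup.mem_centralizer_iff]
      intro a ha
      exact h.cross_commute hpq a ha b hb
    · obtain ⟨k, hk⟩ := (pCoreIn_isPGroup q M₂) ⟨b, hb⟩
      have hk' : b ^ q ^ k = 1 := congrArg Subtype.val hk
      have h1 : orderOf b ∣ q ^ k := orderOf_dvd_of_pow_eq_one hk'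
      refine Nat.Coprime.coprime_dvd_left h1 ?_
      exact Nat.Coprime.pow_left k ((Nat.coprime_primes hq hp).2 hpq.symm)
  have h1 : pCoreIn q M₂ ≤ pCoreIn q B :=
    le_pCoreIn hBqB (pCoreIn_isPGroup q M₂) (hBM₂.trans (le_normalizer_pCoreIn q M₂))
  have h2 : pCoreIn q B ≤ pCoreIn q M₁ :=
    le_pCoreIn ((pCoreIn_le q B).trans hBM₁) (pCoreIn_isPGroup q B)
      (hBnorm.trans (normalizer_le_normalizer_pCoreIn q B))
  exact h1.trans h2

/-- Lemma Z: if `O_q(M₁) = 1` then `O_q(M₂) = 1`. -/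
theorem Pair.lemmaZ (h : Pair M₁ M₂) {q : ℕ} [Fact q.Prime] (hA : pCoreIn q M₁ = ⊥) :
    pCoreIn q M₂ = ⊥ := by
  have hBM₁ : pCoreIn q M₂ ≤ M₁ := h.symm.pCoreIn_le₂ q
  -- `O_q(M₂)` centralizes `F(M₁)`
  have h1 : fitIn M₁ ≤ Subgroup.centralizer (pCoreIn q M₂ : Set G) := by
    rw [fitIn_eq_iSup]
    apply iSup_le
    intro r
    haveI : Fact (r : ℕ).Prime := ⟨r.2⟩
    by_cases hr : (r : ℕ) = q
    · rw [hr, hA]; exact bot_le
    · intro a ha
      rw [Subgroup.mem_centralizer_iff]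
      intro b hb
      exact (h.cross_commute hr a ha b hb).symm
  have h2 : pCoreIn q M₂ ≤ fitIn M₁ := by
    intro b hb
    rw [← h.gfsIn_eq_fitIn]
    apply mem_gfsIn_of_centralizes (hBM₁ hb)
    intro f hf
    rw [h.gfsIn_eq_fitIn] at hf
    exact (Subgroup.mem_centralizer_iff.1 (h1 hf) b hb).symm
  have h3 : fitIn M₁ ≤ ppIn q M₁ := by
    rw [fitIn_eq_iSup]
    apply iSup_le
    intro r
    haveI : Fact (r : ℕ).Prime := ⟨r.2⟩
    by_cases hr : (r : ℕ) = q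
    · rw [hr, hA]; exact bot_le
    · exact pCoreIn_le_ppIn M₁ hr
  have h4 := Cfsg.Agent.Lib.Helper2.inf_eq_bot_of_isPGroup_of_coprime
    (pCoreIn_isPGroup q M₂) (ppIn_coprime q M₁)
  rw [eq_bot_iff, ← h4]
  exact le_inf le_rfl (h2.trans h3)

theorem Pair.ne_bot (h : Pair M₁ M₂) : M₂ ≠ ⊥ := by
  intro h2
  have h1 : M₁ = ⊥ := by
    rw [eq_bot_iff]
    intro x hx
    have : x ∈ gfsIn M₁ := by
      apply mem_gfsIn_of_centralizes hx
      intro f hf
      have := h.h₁ hf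
      rw [h2, Subgroup.mem_bot] at this
      rw [this, one_mul, mul_one]
    have := h.h₁ this
    rwa [h2] at this
  exact h.ne (h1.trans h2.symm)

/-- Some `O_q(M₂)` is nontrivial. -/
theorem Pair.exists_ne_bot (h : Pair M₁ M₂) :
    ∃ q : Nat.Primes, pCoreIn (q : ℕ) M₂ ≠ ⊥ := by
  by_contra hcon
  push Not at hcon
  have h1 : fitIn M₂ = ⊥ := by
    rw [fitIn_eq_iSup, eq_bot_iff]
    apply iSup_le
    intro r
    rw [hcon r]
  apply h.ne_bot
  rw [eq_bot_iff]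
  intro x hx
  have : x ∈ gfsIn M₂ := by
    apply mem_gfsIn_of_centralizes hx
    intro f hf
    rw [h.symm.gfsIn_eq_fitIn, h1, Subgroup.mem_bot] at hf
    rw [hf, one_mul, mul_one]
  rw [h.symm.gfsIn_eq_fitIn, h1] at this
  exact this

theorem Pair.fitIn_eq (h : Pair M₁ M₂) {q : ℕ} [hq : Fact q.Prime]
    (hall : ∀ r : Nat.Primes, (r : ℕ) ≠ q → pCoreIn (r : ℕ) M₁ = ⊥) :
    fitIn M₁ = pCoreIn q M₁ := by
  apply le_antisymm _ (pCoreIn_le_fitIn M₁ q)
  rw [fitIn_eq_iSup]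
  apply iSup_le
  intro r
  by_cases hr : (r : ℕ) = q
  · rw [hr]
  · rw [hall r hr]; exact bot_le

theorem Pair.charp (h : Pair M₁ M₂) {q : ℕ} [hq : Fact q.Prime]
    (hall : ∀ r : Nat.Primes, (r : ℕ) ≠ q → pCoreIn (r : ℕ) M₁ = ⊥) :
    Subgroup.centralizer (Cfsg.pCore q ↥M₁ : Set ↥M₁) ≤ Cfsg.pCore q ↥M₁ := by
  intro x hx
  have h1 : (x : G) ∈ gfsIn M₁ := by
    apply mem_gfsIn_of_centralizes x.2
    intro f hf
    rw [h.gfsIn_eq_fitIn, h.fitIn_eq hall] at hf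
    obtain ⟨f', hf', rfl⟩ := hf
    have := Subgroup.mem_centralizer_iff.1 hx f' hf'
    exact congrArg Subtype.val this
  rw [h.gfsIn_eq_fitIn, h.fitIn_eq hall] at h1
  exact (mem_pCoreIn_iff x.2).1 h1

end StepB

open Cfsg.Agent.Lib.Helper7 in
/-- Bender's Theorem on primitive pairs. Two distinct subgroups M₁, M₂ of G form a primitive pair when, for {i, j} = {1, 2}, every non-trivial normal subgroup A of M_i contained in M₁ ∩ M₂ satisfies N_{M_j}(A) = M₁ ∩ M₂; the pair has characteristic p when moreover C_{M_i}(O_p(M_i)) ≤ O_p(M_i) for both i and O_p(M₁)O_p(M₂) ≤ M₁ ∩ M₂. If (M₁, M₂) is a primitive pair of the finite group G with F*(M₁) ≤ M₂ and F*(M₂) ≤ M₁, then for some prime p the pair has characteristic p. -/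
theorem result {G : Type*} [Group G] [Finite G] (M₁ M₂ : Subgroup G) (hne : M₁ ≠ M₂) (hP : ∀ A : Subgroup G, A ≠ ⊥ → A ≤ M₁ ⊓ M₂ → (M₁ ≤ Subgroup.normalizer (A : Set G) → M₂ ⊓ Subgroup.normalizer (A : Set G) = M₁ ⊓ M₂) ∧ (M₂ ≤ Subgroup.normalizer (A : Set G) → M₁ ⊓ Subgroup.normalizer (A : Set G) = M₁ ⊓ M₂)) (h₁ : (Cfsg.generalizedFittingSubgroup ↥M₁).map M₁.subtype ≤ M₂) (h₂ : (Cfsg.generalizedFittingSubgroup ↥M₂).map M₂.subtype ≤ M₁) : ∃ p : ℕ, p.Prime ∧ Subgroup.centralizer (Cfsg.pCore p ↥M₁ : Set ↥M₁) ≤ Cfsg.pCore p ↥M₁ ∧ Subgroup.centralizer (Cfsg.pCore p ↥M₂ : Set ↥M₂) ≤ Cfsg.pCore p ↥M₂ ∧ (Cfsg.pCore p ↥M₁).map M₁.subtype ⊔ (Cfsg.pCore p ↥M₂).map M₂.subtype ≤ M₁ ⊓ M₂ := by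
  classical
  have h : Pair M₁ M₂ :=
    { ne := hne
      prim₁ := fun A hA hAM hn => (hP A hA hAM).1 hn
      prim₂ := fun A hA hAM hn => (hP A hA hAM).2 hn
      h₁ := h₁
      h₂ := h₂ }
  obtain ⟨q, hq⟩ := h.exists_ne_bot
  haveI : Fact (q : ℕ).Prime := ⟨q.2⟩
  -- no other prime occurs in `F(M₂)`
  have hall₂ : ∀ r : Nat.Primes, (r : ℕ) ≠ q → pCoreIn (r : ℕ) M₂ = ⊥ := by
    intro r hr
    haveI : Fact (r : ℕ).Prime := ⟨r.2⟩
    by_contra hrne
    -- then `O_q(M₁) = O_q(M₂) ≠ 1`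
    have hAr : pCoreIn (r : ℕ) M₁ ≠ ⊥ := fun h0 => hrne (h.lemmaZ h0)
    have k₁ : pCoreIn (q : ℕ) M₂ ≤ pCoreIn (q : ℕ) M₁ := h.lemmaX hr hrne
    have k₂ : pCoreIn (q : ℕ) M₁ ≤ pCoreIn (q : ℕ) M₂ := h.symm.lemmaX hr hAr
    have e : pCoreIn (q : ℕ) M₁ = pCoreIn (q : ℕ) M₂ := le_antisymm k₂ k₁
    refine h.not_both_normal hq (h.symm.pCoreIn_le₂ q) (pCoreIn_le q M₂) ?_
      (le_normalizer_pCoreIn q M₂)
    rw [← e]
    exact le_normalizer_pCoreIn q M₁
  have hall₁ : ∀ r : Nat.Primes, (r : ℕ) ≠ q → pCoreIn (r : ℕ) M₁ = ⊥ := by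
    intro r hr
    haveI : Fact (r : ℕ).Prime := ⟨r.2⟩
    exact h.symm.lemmaZ (hall₂ r hr)
  refine ⟨q, q.2, h.charp hall₁, h.symm.charp hall₂, ?_⟩
  apply sup_le
  · exact le_inf (pCoreIn_le q M₁) (h.pCoreIn_le₂ q)
  · exact le_inf (h.symm.pCoreIn_le₂ q) (pCoreIn_le q M₂)

end Cfsg.Agent.S3752
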