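import Cfsg.Statements.S4657
import Mathlib
import Cfsg.Agent.Lib.Helper6.BlkPairs

set_option autoImplicit false
open Cfsg

namespace Cfsg.Agent.S4657

open Cfsg.Agent.Lib.Helper6

/-- Fix a prime p and a maximal ideal M of the algebraic integers containing p. Every Brauer pair (P, e) of the finite group G is a Brauer pair of exactly one p-block B of G. -/
theorem result {G : Type*} [Group G] [Fintype G] (p : ℕ) [Fact p.Prime] (M : Ideal Cfsg.AlgInt) (hM : Cfsg.IsPModular p M) (P : Subgroup G) (e : Set (Cfsg.IrrCharacter (Subgroup.centralizer (P : Set G)))) (hPe : Cfsg.IsBrauerPair p M P e) : ∃! B : Set (Cfsg.IrrCharacter G), Cfsg.IsBrauerPairOf p M B P e := by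
  classical
  have : Fintype (Subgroup.centralizer (P : Set G)) := Fintype.ofFinite _
  obtain ⟨hPp, ξ₀, heξ⟩ := hPe
  obtain ⟨χ, hind⟩ := inducedBlockDefined_centralizer hM P hPp ξ₀
  rw [← heξ] at hind
  refine ⟨Cfsg.blockOf M (χ : G → ℂ), (isBrauerPairOf_iff_isInducedBlock hM P hPp e _).mpr hind, ?_⟩
  intro B' hB'
  have h' := (isBrauerPairOf_iff_isInducedBlock hM P hPp e _).mp hB'
  exact IsInducedBlock.unique _ hM h' hind


end Cfsg.Agent.S4657
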