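import Cfsg.Statements.S0914
import Mathlib
import Cfsg.Agent.Lib.Helper6.BlkDefect
import Cfsg.Agent.Lib.Helper6.Multiplicity
import Cfsg.Agent.Lib.Helper6.BlkCenter

set_option autoImplicit false
open Cfsg

namespace Cfsg.Agent.S0914

open Cfsg.Agent.Lib.Helper6

/-- Let χ be an irreducible character of the finite group G, p a prime and M a maximal ideal of the algebraic integers containing p. Then p does not divide the integer (Nat.card G) / χ(1) if and only if the block of χ relative to M consists of χ alone. -/
theorem result {G : Type*} [Group G] [Finite G] (p : ℕ) [Fact p.Prime] (M : Ideal Cfsg.AlgInt) (hM : Cfsg.IsPModular p M) (χ : Cfsg.IrrCharacter G) : ¬ p ∣ Nat.card G / Cfsg.charDegree (χ : G → ℂ) ↔ Cfsg.blockOf M (χ : G → ℂ) = {χ} := by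
  classical
  have : Fintype G := Fintype.ofFinite G
  have hp : p.Prime := hM.1
  set d := Cfsg.charDegree (χ : G → ℂ) with hd
  have hd0 : 0 < d := IsIrrCharacter.charDegree_pos χ.2
  have hdvd : d ∣ Nat.card G := IsIrrCharacter.charDegree_dvd_card χ.2
  have hχ1 : (χ : G → ℂ) 1 = (d : ℂ) :=
    IsCharacter.apply_one_eq_charDegree (IsIrrCharacter.isCharacter χ.2)
  have hG0 : Nat.card G ≠ 0 := Nat.card_pos.ne'
  constructor
  · intro hq
    apply Set.Subset.antisymm
    · apply blockOf_subset_of_memLocalRing hM {χ} ?_ χ (Set.mem_singleton χ)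
      intro g
      have e1 : Cfsg.blockCoeff ({χ} : Set (Cfsg.IrrCharacter G)) g
          = (starRingEnd ℂ) ((χ : G → ℂ) g) * ((Nat.card G / d : ℕ) : ℂ)⁻¹ := by
        unfold Cfsg.blockCoeff
        rw [finsum_mem_singleton, hχ1]
        have e2 : (Nat.card G : ℂ) = (d : ℂ) * ((Nat.card G / d : ℕ) : ℂ) := by
          have := Nat.mul_div_cancel' hdvd
          exact_mod_cast this.symm
        have hd0' : (d : ℂ) ≠ 0 := by exact_mod_cast hd0.ne'
        have hq0 : ((Nat.card G / d : ℕ) : ℂ) ≠ 0 := by
          have : Nat.card G / d ≠ 0 := by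
            intro h0
            rw [h0] at hq
            exact hq (dvd_zero p)
          exact_mod_cast this
        rw [e2]
        field_simp
      rw [e1]
      apply MemLocalRing.mul hM
      · exact memLocalRing_of_isIntegral hM
          (isIntegral_conj (IsCharacter.isIntegral_apply (IsIrrCharacter.isCharacter χ.2) g))
      · exact memLocalRing_inv_natCast hM hq
    · exact Set.singleton_subset_iff.mpr (sameBlock_refl hM _)
  · intro hB
    -- χ vanishes on p-singular elements
    have hvan : ∀ y : G, p ∣ orderOf y → (χ : G → ℂ) y = 0 := by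
      intro y hy
      have h1 := weak_block_orthogonality hM χ 1 y (by rw [orderOf_one]; exact hp.not_dvd_one) hy
      rw [hB, finsum_mem_singleton, hχ1] at h1
      have hd0' : (d : ℂ) ≠ 0 := by exact_mod_cast hd0.ne'
      rcases mul_eq_zero.mp h1 with h2 | h2
      · exact absurd h2 hd0'
      · exact (map_eq_zero _).mp h2
    obtain ⟨P⟩ : Nonempty (Sylow p G) := inferInstance
    have hint := IsCharacter.isIntegral_avg (IsIrrCharacter.isCharacter χ.2) (P : Subgroup G) 1
      (fun w _ => by rw [one_mul, mul_one])
    have hsum : ∑ w : (P : Subgroup G), (χ : G → ℂ) (1 * (w : G)) = (d : ℂ) := by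
      rw [Finset.sum_eq_single (1 : (P : Subgroup G))]
      · simp [hχ1]
      · intro w _ hw1
        rw [one_mul]
        apply hvan
        obtain ⟨j, hj⟩ := (IsPGroup.iff_orderOf.mp P.isPGroup') w
        rw [Subgroup.orderOf_coe, hj]
        have hj0 : j ≠ 0 := by
          rintro rfl
          rw [pow_zero] at hj
          exact hw1 (orderOf_eq_one_iff.mp hj)
        exact dvd_pow_self p hj0
      · intro h0; exact absurd (Finset.mem_univ _) h0
    rw [hsum, inv_mul_eq_div] at hint
    have hPcard : Nat.card (P : Subgroup G) = p ^ (Nat.card G).factorization p :=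
      P.card_eq_multiplicity
    have hdvd2 : Nat.card (P : Subgroup G) ∣ d :=
      nat_dvd_of_isIntegral_div Nat.card_pos.ne' hint
    rw [hPcard] at hdvd2
    have h3 : (Nat.card G).factorization p ≤ d.factorization p :=
      (hp.pow_dvd_iff_le_factorization hd0.ne').mp hdvd2
    intro hq
    have hq0 : Nat.card G / d ≠ 0 := by
      intro h0
      have := Nat.mul_div_cancel' hdvd
      rw [h0, mul_zero] at this
      exact hG0 this.symm
    have h4 := hp.factorization_pos_of_dvd hq0 hq
    rw [Nat.factorization_div hdvd] at h4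
    simp only [Finsupp.coe_tsub, Pi.sub_apply] at h4
    omega

end Cfsg.Agent.S0914
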