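import Cfsg.Statements.S4446
import Mathlib
import Cfsg.Agent.Lib.Helper3.GlauCyc9
-- import your own Cfsg.Agent.* helpers here

set_option autoImplicit false
open Cfsg

namespace Cfsg.Agent.S4446

open Cfsg.Agent.Lib.Helper3.GlauCyc Cfsg.Agent.Lib.Helper6


theorem gen_eq {Γ : Type*} [Group Γ] (S : Subgroup Γ) (hcyc : IsCyclic S) :
    ∃ s₀ : Γ, Subgroup.zpowers s₀ = S := by
  obtain ⟨g, hg⟩ := hcyc.exists_generator
  refine ⟨(g : Γ), ?_⟩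
  ext x
  constructor
  · intro hx
    obtain ⟨k, rfl⟩ := Subgroup.mem_zpowers_iff.mp hx
    exact S.zpow_mem g.2 k
  · intro hx
    obtain ⟨k, hk⟩ := Subgroup.mem_zpowers_iff.mp (hg ⟨x, hx⟩)
    rw [Subgroup.mem_zpowers_iff]
    refine ⟨k, ?_⟩
    have := congrArg Subtype.val hk
    simpa using this


theorem result' {Γ : Type*} [Group Γ] [Fintype Γ] (G S : Subgroup Γ) [Fintype G] (hnorm : ∀ s ∈ S, ∀ g ∈ G, s * g * s⁻¹ ∈ G) (hcop : (Nat.card G).Coprime (Nat.card S)) (htop : G ⊔ S = ⊤) (hcyc : IsCyclic S) (C : Subgroup Γ) [Fintype C] (hC : C = G ⊓ Subgroup.centralizer (S : Set Γ)) (hCG : C ≤ G) : (∀ (χ : Cfsg.IrrCharacter G) (χh : Cfsg.IrrCharacter Γ), (∀ s ∈ S, ∀ g g' : G, (g' : Γ) = s * g * s⁻¹ → (χ : G → ℂ) g' = (χ : G → ℂ) g) → (∀ g : G, (χh : Γ → ℂ) g = (χ : G → ℂ) g) → (Cfsg.detOrder (χh : Γ → ℂ)).Coprime (Nat.card S) → (∃! βε : Cfsg.IrrCharacter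 C × ℤ, (βε.2 = 1 ∨ βε.2 = -1) ∧ ∀ c : C, ∀ s : Γ, Subgroup.zpowers s = S → (χh : Γ → ℂ) ((c : Γ) * s) = (βε.2 : ℂ) * (βε.1 : C → ℂ) c) ∧ ∀ β : Cfsg.IrrCharacter C, ∀ ε : ℤ, (ε = 1 ∨ ε = -1) → (∀ c : C, ∀ s : Γ, Subgroup.zpowers s = S → (χh : Γ → ℂ) ((c : Γ) * s) = (ε : ℂ) * (β : C → ℂ) c) → Cfsg.classInner (fun c : C => (χ : G → ℂ) ⟨c, hCG c.2⟩) (β : C → ℂ) ≠ 0) ∧ (∀ (χ χ' : Cfsg.IrrCharacter G) (χh χh' : Cfsg.IrrCharacter Γ), (∀ s ∈ S, ∀ g g' : G, (g' : Γ) = s * g * s⁻¹ → (χ : G → ℂ) g' = (χ : G → ℂ) g) → (∀ s ∈ S, ∀ g g' : G, (g' : Γ) = s * g * s⁻¹ → (χ' : G → ℂ) g' = (χ' : G → ℂ) g) → (∀ g : G, (χh : Γ → ℂ) g = (χ : G → ℂ) g) → (∀ g : G, (χh' : Γ → ℂ) g = (χ' : G → ℂ) g) → (Cfsg.detOrder (χh : Γ → ℂ)).Coprime (Nat.card S) → (Cfsg.detOrder (χh' : Γ → ℂ)).Coprime (Nat.card S) → ∀ β : Cfsg.IrrCharacter C, ∀ ε ε' : ℤ, (ε = 1 ∨ ε = -1) → (ε' = 1 ∨ ε'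 = -1) → (∀ c : C, ∀ s : Γ, Subgroup.zpowers s = S → (χh : Γ → ℂ) ((c : Γ) * s) = (ε : ℂ) * (β : C → ℂ) c) → (∀ c : C, ∀ s : Γ, Subgroup.zpowers s = S → (χh' : Γ → ℂ) ((c : Γ) * s) = (ε' : ℂ) * (β : C → ℂ) c) → χ = χ') ∧ (∀ β : Cfsg.IrrCharacter C, ∃ (χ : Cfsg.IrrCharacter G) (χh : Cfsg.IrrCharacter Γ) (ε : ℤ), (∀ s ∈ S, ∀ g g' : G, (g' : Γ) = s * g * s⁻¹ → (χ : G → ℂ) g' = (χ : G → ℂ) g) ∧ (∀ g : G, (χh : Γ → ℂ) g = (χ : G → ℂ) g) ∧ (Cfsg.detOrder (χh : Γ → ℂ)).Coprime (Nat.card S) ∧ (ε = 1 ∨ ε = -1) ∧ ∀ c : C, ∀ s : Γ, Subgroup.zpowers s = S → (χh : Γ → ℂ) ((c : Γ) * s) = (ε : ℂ) * (β : C → ℂ) c) := by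
  classical
  subst hC
  obtain ⟨s₀, hs₀⟩ := gen_eq S hcyc
  have hG : G.Normal := normal_of_sup G S hnorm htop
  -- generator independence
  have hgen : ∀ (χh : Cfsg.IrrCharacter Γ), Cfsg.IsIrrCharacter G (fun g : G => (χh : Γ → ℂ) g) →
      (Cfsg.detOrder (χh : Γ → ℂ)).Coprime (Nat.card S) →
      ∀ (c : fixC G S) (s : Γ), Subgroup.zpowers s = S →
        (χh : Γ → ℂ) ((c : Γ) * s) = (χh : Γ → ℂ) ((c : Γ) * s₀) := by
    intro χh hχ hdet c s hs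
    obtain ⟨k, hk, rfl⟩ := exists_pow_of_zpowers_eq S hs₀ hs
    exact apply_mul_pow_eq G S hcop htop hs₀ χh.2 hχ hdet k hk c.2
  have hrestr : ∀ (χ : Cfsg.IrrCharacter G) (χh : Cfsg.IrrCharacter Γ),
      (∀ g : G, (χh : Γ → ℂ) g = (χ : G → ℂ) g) →
      Cfsg.IsIrrCharacter G (fun g : G => (χh : Γ → ℂ) g) := by
    intro χ χh hext
    have : (fun g : G => (χh : Γ → ℂ) g) = (χ : G → ℂ) := funext hext
    rw [this]
    exact χ.2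
  -- uniqueness of (β, ε)
  have huniq : ∀ (β β' : Cfsg.IrrCharacter (fixC G S)) (ε ε' : ℤ), (ε = 1 ∨ ε = -1) →
      (ε' = 1 ∨ ε' = -1) →
      (∀ c : fixC G S, (ε' : ℂ) * (β' : fixC G S → ℂ) c = (ε : ℂ) * (β : fixC G S → ℂ) c) →
      β' = β ∧ ε' = ε := by
    intro β β' ε ε' hε hε' h
    have h1 := h 1
    rw [IsCharacter.apply_one_eq_charDegree (IsIrrCharacter.isCharacter β.2),
      IsCharacter.apply_one_eq_charDegree (IsIrrCharacter.isCharacter β'.2)] at h1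
    have hd := IsIrrCharacter.charDegree_pos β.2
    have hd' := IsIrrCharacter.charDegree_pos β'.2
    have h2 : ε' * (Cfsg.charDegree (β' : fixC G S → ℂ) : ℤ)
        = ε * (Cfsg.charDegree (β : fixC G S → ℂ) : ℤ) := by exact_mod_cast h1
    have hεε : ε' = ε := by
      rcases hε with rfl | rfl <;> rcases hε' with rfl | rfl
      · rfl
      · exfalso; omega
      · exfalso; omega
      · rfl
    refine ⟨?_, hεε⟩
    apply Subtype.ext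
    funext c
    have h3 := h c
    rw [hεε] at h3
    have hε0 : (ε : ℂ) ≠ 0 := by
      rcases hε with rfl | rfl <;> norm_num
    exact mul_left_cancel₀ hε0 h3
  refine ⟨?_, ?_, ?_⟩
  · intro χ χh hinv hext hdet
    have hχ := hrestr χ χh hext
    obtain ⟨β, ε, hε, hval, hcon⟩ :=
      exists_correspondent G S hnorm hcop htop hcyc hs₀ χh.2 hχ hdet
    have hall : ∀ c : fixC G S, ∀ s : Γ, Subgroup.zpowers s = S →
        (χh : Γ → ℂ) ((c : Γ) * s) = (ε : ℂ) * (β : fixC G S → ℂ) c := by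
      intro c s hs
      rw [hgen χh hχ hdet c s hs, hval c]
    constructor
    · refine ⟨(β, ε), ⟨hε, hall⟩, ?_⟩
      rintro ⟨β', ε'⟩ ⟨hε', hall'⟩
      simp only at hε' hall'
      have := huniq β β' ε ε' hε hε' (fun c => by rw [← hall' c s₀ hs₀, hval c])
      exact Prod.ext this.1 this.2
    · intro β' ε' hε' hall'
      have := huniq β β' ε ε' hε hε' (fun c => by rw [← hall' c s₀ hs₀, hval c])
      rw [this.1]
      have h2 : (fun c : fixC G S => (χ : G → ℂ) ⟨c, hCG c.2⟩)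
          = fun c : fixC G S => (χh : Γ → ℂ) (c : Γ) := by
        funext c
        exact (hext ⟨c, hCG c.2⟩).symm
      rw [h2]
      exact hcon
  · intro χ χ' χh χh' hinv hinv' hext hext' hdet hdet' β ε ε' hε hε' h h'
    have hχ := hrestr χ χh hext
    have hχ' := hrestr χ' χh' hext'
    have h1 := restrict_eq_of_same_correspondent G S hnorm hcop htop hcyc hs₀ χh.2 χh'.2 hχ hχ'
      β.2 hε hε' (fun c => h c s₀ hs₀) (fun c => h' c s₀ hs₀)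
    apply Subtype.ext
    funext g
    rw [← hext g, ← hext' g]
    exact congrFun h1 g
  · intro β
    obtain ⟨χh, ε, hχh, hχ, hdet, hε, hval⟩ :=
      exists_of_correspondent G S hnorm hcop htop hcyc hs₀ β
    refine ⟨⟨fun g : G => χh g, hχ⟩, ⟨χh, hχh⟩, ε, ?_, fun g => rfl, hdet, hε, ?_⟩
    · intro s _ g g' hgg'
      show χh g' = χh g
      rw [hgg']
      exact IsIrrCharacter.isClassFunction hχh g s
    · intro c s hs
      rw [hgen ⟨χh, hχh⟩ hχ hdet c s hs]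
      exact hval c





/-- Let the finite group Γ be generated by a normal subgroup G and a cyclic subgroup S of coprime orders, C = G ⊓ C(S), and let χ be an S-invariant irreducible character of G with canonical extension χ̂ to Γ (the extension whose determinantal order is coprime to the order of S). Then there are exactly one irreducible character β of C and one sign ε such that χ̂(c s) = ε β(c) for every c ∈ C and every generator s of S; this β is a constituent of the restriction of χ to C; distinct S-invariant χ give distinct β; and every irreducible character of C arises in this way. -/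
theorem result {Γ : Type*} [Group Γ] [Fintype Γ] (G S : Subgroup Γ) [Fintype G] (hnorm : ∀ s ∈ S, ∀ g ∈ G, s * g * s⁻¹ ∈ G) (hcop : (Nat.card G).Coprime (Nat.card S)) (htop : G ⊔ S = ⊤) (hcyc : IsCyclic S) (C : Subgroup Γ) [Fintype C] (hC : C = G ⊓ Subgroup.centralizer (S : Set Γ)) (hCG : C ≤ G) : (∀ (χ : Cfsg.IrrCharacter G) (χh : Cfsg.IrrCharacter Γ), (∀ s ∈ S, ∀ g g' : G, (g' : Γ) = s * g * s⁻¹ → (χ : G → ℂ) g' = (χ : G → ℂ) g) → (∀ g : G, (χh : Γ → ℂ) g = (χ : G → ℂ) g) → (Cfsg.detOrder (χh : Γ → ℂ)).Coprime (Nat.card S) → (∃! βε : Cfsg.IrrCharacter C × ℤ, (βε.2 = 1 ∨ βε.2 = -1) ∧ ∀ c : C, ∀ s : Γ, Subgroup.zpowers s = S → (χh : Γ → ℂ) ((c : Γ) * s) = (βε.2 : ℂ) * (βε.1 : C → ℂ) c) ∧ ∀ β : Cfsg.IrrCharacter C, ∀ ε : ℤ, (ε = 1 ∨ ε = -1) → (∀ c : C, ∀ s : Γ, Subgroup.zpowers s = S → (χh : Γ → ℂ) ((c : Γ) * s) = (ε : ℂ) * (β : C → ℂ) c) → Cfsg.classInner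 (fun c : C => (χ : G → ℂ) ⟨c, hCG c.2⟩) (β : C → ℂ) ≠ 0) ∧ (∀ (χ χ' : Cfsg.IrrCharacter G) (χh χh' : Cfsg.IrrCharacter Γ), (∀ s ∈ S, ∀ g g' : G, (g' : Γ) = s * g * s⁻¹ → (χ : G → ℂ) g' = (χ : G → ℂ) g) → (∀ s ∈ S, ∀ g g' : G, (g' : Γ) = s * g * s⁻¹ → (χ' : G → ℂ) g' = (χ' : G → ℂ) g) → (∀ g : G, (χh : Γ → ℂ) g = (χ : G → ℂ) g) → (∀ g : G, (χh' : Γ → ℂ) g = (χ' : G → ℂ) g) → (Cfsg.detOrder (χh : Γ → ℂ)).Coprime (Nat.card S) → (Cfsg.detOrder (χh' : Γ → ℂ)).Coprime (Nat.card S) → ∀ β : Cfsg.IrrCharacter C, ∀ ε ε' : ℤ, (ε = 1 ∨ ε = -1) → (ε' = 1 ∨ ε' = -1) → (∀ c : C, ∀ s : Γ, Subgroup.zpowers s = S → (χh : Γ → ℂ) ((c : Γ) * s) = (ε : ℂ) * (β : C → ℂ) c) → (∀ c : C, ∀ s : Γ, Subgroup.zpowers s = S → (χh' : Γ → ℂ) ((c : Γ) * s) = (ε' : ℂ) * (β : C → ℂ) c) → χ = χ') ∧ (∀ β : Cfsg.IrrCharacter C, ∃ (χ : Cfsg.IrrCharacter G) (χh : Cfsg.IrrCharacter Γ) (ε :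 ℤ), (∀ s ∈ S, ∀ g g' : G, (g' : Γ) = s * g * s⁻¹ → (χ : G → ℂ) g' = (χ : G → ℂ) g) ∧ (∀ g : G, (χh : Γ → ℂ) g = (χ : G → ℂ) g) ∧ (Cfsg.detOrder (χh : Γ → ℂ)).Coprime (Nat.card S) ∧ (ε = 1 ∨ ε = -1) ∧ ∀ c : C, ∀ s : Γ, Subgroup.zpowers s = S → (χh : Γ → ℂ) ((c : Γ) * s) = (ε : ℂ) * (β : C → ℂ) c) := by
  exact result' G S hnorm hcop htop hcyc C hC hCG

end Cfsg.Agent.S4446
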