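import Cfsg.Statements.S4451
import Cfsg.Agent.Lib.Helper3.GlauCyc13

set_option autoImplicit false
open Cfsg Cfsg.Agent.Lib.Helper6 Cfsg.Agent.Lib.Helper3.GlauCyc

namespace Cfsg.Agent.S4451

/-- Let the finite group Γ be generated by a normal subgroup G and a cyclic subgroup S of coprime orders such that every non-identity element of S has the same centraliser C = G ⊓ C(S) in G. Let χ be an S-invariant irreducible character of G, χ̂ its canonical extension to Γ (determinantal order coprime to the order of S), and β the irreducible character of C with χ̂(c s) = ε₀ β(c) for c ∈ C and generators s of S (ε₀ = ±1). Then there are a sign ε = ±1, which may differ from ε₀, and a linear character μ of S with μ² = 1, such that: (a) χ̂(c x) = ε β(c) μ(x) for all c ∈ C and all x ∈ S other than 1; (b) the restriction of χ to C equals |S|·ϑ + ε β for some character ϑ of C or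 ϑ = 0; (c) |S| divides χ(1) − ε β(1). -/
theorem result {Γ : Type*} [Group Γ] [Fintype Γ] (G S : Subgroup Γ) [Fintype G] (hnorm : ∀ s ∈ S, ∀ g ∈ G, s * g * s⁻¹ ∈ G) (hcop : (Nat.card G).Coprime (Nat.card S)) (htop : G ⊔ S = ⊤) (hcyc : IsCyclic S) (C : Subgroup Γ) [Fintype C] (hC : C = G ⊓ Subgroup.centralizer (S : Set Γ)) (hCG : C ≤ G) (hfpf : ∀ x ∈ S, x ≠ 1 → G ⊓ Subgroup.centralizer ({x} : Set Γ) = C) (χ : Cfsg.IrrCharacter G) (hinv : (∀ s ∈ S, ∀ g g' : G, (g' : Γ) = s * g * s⁻¹ → (χ : G → ℂ) g' = (χ : G → ℂ) g)) (χh : Cfsg.IrrCharacter Γ) (hext : (∀ g : G, (χh : Γ → ℂ) g = (χ : G → ℂ) g)) (hdet : (Cfsg.detOrder (χh : Γ → ℂ)).Coprime (Nat.card S)) (β : Cfsg.IrrCharacter C) (ε₀ : ℤ) (hε₀ : ε₀ = 1 ∨ ε₀ = -1) (hβ : ∀ c : C, ∀ s : Γ, Subgroup.zpowers s = S → (χh : Γ → ℂ) ((c : Γ) * s) = (ε₀ : ℂ) * (β : C → ℂ) c) : ∃ ε : ℤ, (ε = 1 ∨ ε = -1) ∧ (∃ μ : S → ℂ, Cfsg.IsCharacter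 S μ ∧ μ 1 = 1 ∧ (∀ x : S, μ x * μ x = 1) ∧ ∀ c : C, ∀ x : S, x ≠ 1 → (χh : Γ → ℂ) ((c : Γ) * x) = (ε : ℂ) * (β : C → ℂ) c * μ x) ∧ (∃ ϑ : C → ℂ, Cfsg.IsCharacter C ϑ ∧ (fun c : C => (χ : G → ℂ) ⟨c, hCG c.2⟩) = fun c => (Nat.card S : ℂ) * ϑ c + (ε : ℂ) * (β : C → ℂ) c) ∧ (Nat.card S : ℤ) ∣ (Cfsg.charDegree (χ : G → ℂ) : ℤ) - ε * (Cfsg.charDegree (β : C → ℂ) : ℤ) := by
  subst hC
  have hχ : Cfsg.IsIrrCharacter G (fun g : G => (χh : Γ → ℂ) g) := by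
    have : (fun g : G => (χh : Γ → ℂ) g) = (χ : G → ℂ) := funext hext
    rw [this]; exact χ.2
  -- the divisibility from the decomposition
  have hdiv : ∀ (ε : ℤ) (ϑ : (G ⊓ Subgroup.centralizer (S : Set Γ) : Subgroup Γ) → ℂ),
      Cfsg.IsCharacter _ ϑ →
      (∀ c : (G ⊓ Subgroup.centralizer (S : Set Γ) : Subgroup Γ),
        (χh : Γ → ℂ) (c : Γ) = (Nat.card S : ℂ) * ϑ c + (ε : ℂ) * (β : (G ⊓ Subgroup.centralizer (S : Set Γ) : Subgroup Γ) → ℂ) c) →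
      (Nat.card S : ℤ) ∣ (Cfsg.charDegree (χ : G → ℂ) : ℤ) - ε * (Cfsg.charDegree (β : (G ⊓ Subgroup.centralizer (S : Set Γ) : Subgroup Γ) → ℂ) : ℤ) := by
    intro ε ϑ hϑ h
    have h1 := h 1
    rw [Subgroup.coe_one] at h1
    have h2 : (χh : Γ → ℂ) 1 = (Cfsg.charDegree (χ : G → ℂ) : ℂ) := by
      rw [← IsCharacter.apply_one_eq_charDegree (IsIrrCharacter.isCharacter χ.2), ← hext 1]
      rfl
    rw [h2, IsCharacter.apply_one_eq_charDegree hϑ,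
      IsCharacter.apply_one_eq_charDegree (IsIrrCharacter.isCharacter β.2)] at h1
    refine ⟨(Cfsg.charDegree ϑ : ℤ), ?_⟩
    have h3 : ((Cfsg.charDegree (χ : G → ℂ) : ℤ) : ℂ)
        = (((Nat.card S : ℤ) * (Cfsg.charDegree ϑ : ℤ) + ε * (Cfsg.charDegree (β : (G ⊓ Subgroup.centralizer (S : Set Γ) : Subgroup Γ) → ℂ) : ℤ) : ℤ) : ℂ) := by
      push_cast
      exact h1
    have h4 : (Cfsg.charDegree (χ : G → ℂ) : ℤ)
        = (Nat.card S : ℤ) * (Cfsg.charDegree ϑ : ℤ) + ε * (Cfsg.charDegree (β : (G ⊓ Subgroup.centralizer (S : Set Γ) : Subgroup Γ) → ℂ) : ℤ) := by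
      exact_mod_cast h3
    rw [h4]; ring
  have hfun : ∀ (ε : ℤ) (ϑ : (G ⊓ Subgroup.centralizer (S : Set Γ) : Subgroup Γ) → ℂ),
      (∀ c : (G ⊓ Subgroup.centralizer (S : Set Γ) : Subgroup Γ),
        (χh : Γ → ℂ) (c : Γ) = (Nat.card S : ℂ) * ϑ c + (ε : ℂ) * (β : (G ⊓ Subgroup.centralizer (S : Set Γ) : Subgroup Γ) → ℂ) c) →
      (fun c : (G ⊓ Subgroup.centralizer (S : Set Γ) : Subgroup Γ) => (χ : G → ℂ) ⟨c, hCG c.2⟩)
        = fun c => (Nat.card S : ℂ) * ϑ c + (ε : ℂ) * (β : (G ⊓ Subgroup.centralizer (S : Set Γ) : Subgroup Γ) → ℂ) c := by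
    intro ε ϑ h
    funext c
    rw [← h c, ← hext]
  by_cases hn : 2 ≤ Nat.card S
  · obtain ⟨ε, hε, μ, hμ, hμ1, hμ2, ha, ϑ, hϑ, hb⟩ := fpf_main G S hnorm hcop htop hcyc hfpf χh.2 hχ
      hdet β ε₀ hε₀ hβ hn
    exact ⟨ε, hε, ⟨μ, hμ, hμ1, hμ2, ha⟩, ⟨ϑ, hϑ, hfun ε ϑ hb⟩, hdiv ε ϑ hϑ hb⟩
  · have h1 : Nat.card S = 1 := by
      have : 0 < Nat.card S := Nat.card_pos
      omega
    have hS : S = ⊥ := Subgroup.card_eq_one.mp h1
    have hall : ∀ x : S, x = 1 := by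
      intro x
      have h2 : (x : Γ) ∈ (⊥ : Subgroup Γ) := hS ▸ x.2
      rw [Subgroup.mem_bot] at h2
      exact Subtype.ext h2
    have hb : ∀ c : (G ⊓ Subgroup.centralizer (S : Set Γ) : Subgroup Γ),
        (χh : Γ → ℂ) (c : Γ) = (Nat.card S : ℂ) * (0 : (G ⊓ Subgroup.centralizer (S : Set Γ) : Subgroup Γ) → ℂ) c + (ε₀ : ℂ) * (β : (G ⊓ Subgroup.centralizer (S : Set Γ) : Subgroup Γ) → ℂ) c := by
      intro c
      have := hβ c 1 (by rw [Subgroup.zpowers_one_eq_bot, hS])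
      rw [mul_one] at this
      rw [this]
      simp
    refine ⟨ε₀, hε₀, ⟨fun _ => 1, isCharacter_one, rfl, fun _ => by norm_num, ?_⟩,
      ⟨0, IsCharacter.zero, hfun ε₀ 0 hb⟩, hdiv ε₀ 0 IsCharacter.zero hb⟩
    intro c x hx
    exact absurd (hall x) hx

end Cfsg.Agent.S4451
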