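import Cfsg.Statements.S5351
import Cfsg.Agent.Lib.Helper3.TT7
import Cfsg.Agent.S5347

set_option autoImplicit false
open Cfsg

namespace Cfsg.Agent.S5351

/-- Let D be a conjugacy class of 3-transpositions generating the finite group G, with at least two members. Then for every prime p > 3 the largest normal p-subgroup of G is central, and exactly one of the following holds: the largest normal 2-subgroup of G is not central; the largest normal 3-subgroup of G is not central; the layer of G (the product of its components) is non-trivial. -/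
theorem result {G : Type*} [Group G] [Finite G] {D : Set G} (hD : Cfsg.IsThreeTranspositionClass D) (hD2 : ∃ a ∈ D, ∃ b ∈ D, a ≠ b) : (∀ p : ℕ, p.Prime → 3 < p → Cfsg.pCore p G ≤ Subgroup.center G) ∧ ((¬ Cfsg.pCore 2 G ≤ Subgroup.center G ∧ Cfsg.pCore 3 G ≤ Subgroup.center G ∧ Cfsg.layer G = ⊥) ∨ (Cfsg.pCore 2 G ≤ Subgroup.center G ∧ ¬ Cfsg.pCore 3 G ≤ Subgroup.center G ∧ Cfsg.layer G = ⊥) ∨ (Cfsg.pCore 2 G ≤ Subgroup.center G ∧ Cfsg.pCore 3 G ≤ Subgroup.center G ∧ Cfsg.layer G ≠ ⊥)) := by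
  classical
  have hT := Cfsg.Agent.Lib.Helper3.TT.TSet.of_class hD
  have hG : Cfsg.IsThreeTranspositionGroup D := ⟨hD.1, hT.conj, hD.2.2⟩
  -- (A) the cores for `p > 3` are central
  have hA : ∀ p : ℕ, p.Prime → 3 < p → Cfsg.pCore p G ≤ Subgroup.center G := by
    intro p hp hp3 x hx
    have hpf : Fact p.Prime := ⟨hp⟩
    apply Cfsg.Agent.Lib.Helper3.TT.mem_center_of_comm_gen hD.2.2
    intro d hd
    have hn := Cfsg.Agent.Lib.Helper1.pCore_normal (G := G) p
    have hnorm : d ∈ Subgroup.normalizer (Cfsg.pCore p G : Set G) := by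
      rw [Subgroup.normalizer_eq_top]; trivial
    exact (Cfsg.Agent.S5347.result hG hp hp3 (Cfsg.pCore p G)
      (Cfsg.Agent.Lib.Helper1.pCore_isPGroup p) hd hnorm x hx).eq
  refine ⟨hA, ?_⟩
  -- at least one
  have hone : ¬ (Cfsg.pCore 2 G ≤ Subgroup.center G ∧ Cfsg.pCore 3 G ≤ Subgroup.center G ∧
      Cfsg.layer G = ⊥) := by
    rintro ⟨h2, h3, hE⟩
    have hF : Cfsg.fittingSubgroup G ≤ Subgroup.center G := by
      rw [Cfsg.Agent.Lib.Helper1.fittingSubgroup_eq_iSup_pCore]
      apply iSup_le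
      intro p
      by_cases hp3 : 3 < (p : ℕ)
      · exact hA p p.2 hp3
      · have hp2 : 2 ≤ (p : ℕ) := p.2.two_le
        have : (p : ℕ) = 2 ∨ (p : ℕ) = 3 := by omega
        rcases this with hh | hh
        · rw [hh]; exact h2
        · rw [hh]; exact h3
    have hFs : Cfsg.generalizedFittingSubgroup G ≤ Subgroup.center G := by
      unfold Cfsg.generalizedFittingSubgroup
      rw [hE, bot_sup_eq]; exact hF
    have hcen := Cfsg.Agent.Lib.Helper8.centralizer_generalizedFittingSubgroup_le (G := G)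
    have htop : ∀ g : G, g ∈ Subgroup.center G := by
      intro g
      apply hFs
      apply hcen
      rw [Subgroup.mem_centralizer_iff]
      intro z hz
      exact (Subgroup.mem_center_iff.mp (hFs hz) g).symm
    obtain ⟨d0, hd0, -⟩ := hD.2.1
    obtain ⟨e, he, hed⟩ := Cfsg.Agent.Lib.Helper3.TT.exists_not_comm hD hD2 hd0
    exact hed (Subgroup.mem_center_iff.mp (htop d0) e)
  have hcomp : ∀ p : ℕ, p = 2 ∨ p = 3 → ¬ Cfsg.pCore p G ≤ Subgroup.center G →
      Cfsg.layer G = ⊥ := by
    intro p hp hnc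
    unfold Cfsg.layer
    rw [sSup_eq_bot]
    intro L hL
    exact (Cfsg.Agent.Lib.Helper3.TT.no_component_of_pCore_not_central hD hp hnc hL).elim
  by_cases h2 : Cfsg.pCore 2 G ≤ Subgroup.center G
  · by_cases h3 : Cfsg.pCore 3 G ≤ Subgroup.center G
    · right; right
      exact ⟨h2, h3, fun hE => hone ⟨h2, h3, hE⟩⟩
    · right; left
      exact ⟨h2, h3, hcomp 3 (Or.inr rfl) h3⟩
  · left
    refine ⟨h2, ?_, hcomp 2 (Or.inl rfl) h2⟩
    by_contra h3
    exact Cfsg.Agent.Lib.Helper3.TT.pCore_two_three_not_both hD h2 h3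

end Cfsg.Agent.S5351
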