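import Cfsg.Statements.S0344
import Cfsg.Agent.Lib.Helper6.ZpG
import Cfsg.Agent.Lib.Helper2.Zi2D

set_option autoImplicit false
open Cfsg

namespace Cfsg.Agent.S0344

open Cfsg.Agent.Lib.Helper6.Zp Cfsg.Agent.Lib.Helper6.Zs MulAction

/-- A finite simple Zassenhaus group with a two-point stabiliser of even order is isomorphic to `PSL₂(F)` for a finite
field `F` with more than three elements. -/
theorem result {G Ω : Type*} [Group G] [Finite G] [MulAction G Ω] [Finite Ω]
    (hZ : Cfsg.IsZassenhausGroup G Ω) [IsSimpleGroup G]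
    {a b : Ω} (hab : a ≠ b) (heven : Even (Nat.card ↥(MulAction.stabilizer G a ⊓ MulAction.stabilizer G b))) :
    ∃ (F : Type) (_ : Field F) (_ : Fintype F), 3 < Fintype.card F ∧ Nonempty (G ≃* Matrix.ProjectiveSpecialLinearGroup (Fin 2) F) := by
  classical
  haveI : Fintype G := Fintype.ofFinite G
  haveI : Fintype Ω := Fintype.ofFinite Ω
  have h := ZD.of hZ
  obtain ⟨K, hK⟩ := h.exists_kernel a
  set d := Nat.card ↥(stabilizer G a ⊓ stabilizer G b : Subgroup G) with hd
  have hdvd := ZD.card_two_dvd h hab
  have hn := h.card_gt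
  have hd1 := ZD.one_lt_card_two h hab
  have hle : Fintype.card Ω - 2 ≤ 2 * d := (h.even_case hab hK heven).2
  obtain ⟨k, hk⟩ := hdvd
  rw [← hd] at hk hd1
  have hcases : Fintype.card Ω - 2 = d ∨ Fintype.card Ω - 2 = 2 * d := by
    rcases k with _ | _ | _ | k
    · omega
    · left; omega
    · right; omega
    · exfalso
      have : d * (k + 1 + 1 + 1) = d * k + 3 * d := by ring
      omega
  rcases hcases with h1 | h2
  · exfalso
    have hcard1 : d + 2 = Fintype.card Ω := by omega
    obtain ⟨h3, hsharp⟩ := sharp3 h hab hcard1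
    have hevenΩ : Even (Fintype.card Ω) := by
      obtain ⟨r, hr⟩ := heven
      exact ⟨r + 1, by omega⟩
    have h4 : 4 ≤ Fintype.card Ω := by omega
    obtain ⟨N, hN⟩ := Cfsg.Agent.Lib.Helper2.Zi2.index_two_of_sharp3 hevenΩ h4 h3 hsharp
    haveI : N.Normal := Subgroup.normal_of_index_eq_two hN
    rcases Subgroup.Normal.eq_bot_or_eq_top (H := N) inferInstance with hb | ht
    · -- `N = ⊥` means `|G| = 2`, but `d ≥ 2` divides `|G|`
      rw [hb, Subgroup.index_bot] at hN
      have hdd : d ∣ Nat.card G := Subgroup.card_subgroup_dvd_card _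
      rw [hN] at hdd
      have := Nat.le_of_dvd (by norm_num) hdd
      have hd2 : d = 2 := by omega
      -- then the two-point stabilizer is everything, so `G` fixes `a`, contradicting transitivity
      have htop : (stabilizer G a ⊓ stabilizer G b : Subgroup G) = ⊤ := by
        apply Subgroup.eq_top_of_card_eq
        rw [← hd, hd2, hN]
      obtain ⟨g, hga, -⟩ := h.two a b b a hab hab.symm
      have hg : g ∈ (stabilizer G a ⊓ stabilizer G b : Subgroup G) := by rw [htop]; trivial
      have := mem_stabilizer_iff.1 hg.1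
      rw [hga] at this
      exact hab this.symm
    · rw [ht, Subgroup.index_top] at hN
      omega
  · have hcard2 : 2 * d + 2 = Fintype.card Ω := by omega
    obtain ⟨E, fld, ft, hcE, hiso⟩ := main_even h hab hK heven hcard2
    refine ⟨E, fld, ft, ?_, hiso⟩
    obtain ⟨r, hr⟩ := heven
    omega

end Cfsg.Agent.S0344
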