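import Mathlib
import Cfsg.Statements.S0738
import Cfsg.Agent.Lib.Lead.ConjCount

set_option autoImplicit false
open Cfsg

namespace Cfsg.Agent.S0738

theorem result {G Ω : Type*} [Group G] [Finite G] [MulAction G Ω] [Fintype Ω] (hZ : Cfsg.IsZassenhausGroup G Ω) {a b : Ω} (hab : a ≠ b) (hd : Fintype.card Ω - 2 ≤ 2 * Nat.card ↥(MulAction.stabilizer G a ⊓ MulAction.stabilizer G b)) (F : Subgroup G) (hFle : F ≤ MulAction.stabilizer G a) (hFn : (F.subgroupOf (MulAction.stabilizer G a)).Normal) (hreg : ∀ y z : Ω, y ≠ a → z ≠ a → ∃! u : F, (u : G) • y = z) : IsMulCommutative F ∧ ∃ p f : ℕ, p.Prime ∧ (∀ u ∈ F, u ^ p = 1) ∧ Fintype.card Ω = p ^ f + 1 := by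
  classical
  obtain ⟨hfaith, h2t, h3, hex, -⟩ := hZ
  set N := MulAction.stabilizer G a with hN
  set H := MulAction.stabilizer G a ⊓ MulAction.stabilizer G b with hH
  have hFnorm : ∀ g ∈ N, ∀ u ∈ F, g * u * g⁻¹ ∈ F := by
    intro g hg u hu
    have := hFn.conj_mem (⟨u, hFle hu⟩ : N) (Subgroup.mem_subgroupOf.mpr hu) ⟨g, hg⟩
    exact Subgroup.mem_subgroupOf.mp this
  have hfree : ∀ u ∈ F, ∀ y : Ω, y ≠ a → u • y = y → u = 1 := by
    intro u hu y hy huy
    obtain ⟨w, -, hw⟩ := hreg y y hy hy
    have h1 := hw ⟨u, hu⟩ huy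
    have h2 := hw 1 (one_smul _ _)
    have : (⟨u, hu⟩ : F) = 1 := h1.trans h2.symm
    exact congrArg Subtype.val this
  have hFa : ∀ u ∈ F, u • a = a := fun u hu => hFle hu
  have hne_a : ∀ g ∈ N, ∀ y : Ω, y ≠ a → g • y ≠ a := by
    intro g hg y hy h
    apply hy
    have hga : g • a = a := hg
    rw [← hga] at h
    exact smul_left_cancel g h
  have hba : b ≠ a := hab.symm
  -- sizes
  set n := Nat.card F with hn
  set d := Nat.card H with hd'
  have hnpos : 0 < n := Nat.card_pos
  have hdpos : 0 < d := Nat.card_pos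
  -- F ≃ points other than a
  have hcardΩ : Fintype.card Ω = n + 1 := by
    have h1 : Nat.card F = Nat.card {y : Ω // y ≠ a} := by
      refine Nat.card_congr (Equiv.ofBijective
        (fun u => ⟨(u : G) • b, hne_a u.1 (hFle u.2) b hba⟩) ⟨?_, ?_⟩)
      · intro u v huv
        have huv' : (u : G) • b = (v : G) • b := congrArg Subtype.val huv
        obtain ⟨w, -, hw⟩ := hreg b ((v : G) • b) hba (hne_a v.1 (hFle v.2) b hba)
        exact (hw u huv').trans (hw v rfl).symm
      · rintro ⟨y, hy⟩
        obtain ⟨u, hu, -⟩ := hreg b y hba hy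
        exact ⟨u, Subtype.ext hu⟩
    have h2 : Nat.card {y : Ω // y ≠ a} = Fintype.card Ω - 1 := by
      rw [Nat.card_eq_fintype_card, Fintype.card_subtype_compl, Fintype.card_subtype_eq]
    have h3 : 0 < Fintype.card Ω := Fintype.card_pos_iff.mpr ⟨a⟩
    rw [← hn] at h1
    omega
  have hnd : n - 1 ≤ 2 * d := by
    have := hd
    rw [hcardΩ] at this
    omega
  -- |N| = n d
  have hNcard : Nat.card N = n * d := by
    have h1 := Subgroup.card_mul_index (MulAction.stabilizer N b)
    rw [MulAction.index_stabilizer] at h1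
    have h2 : Nat.card (MulAction.stabilizer N b) = d := by
      apply Nat.card_congr
      refine
        { toFun := fun g => ⟨g.1.1, Subgroup.mem_inf.mpr ⟨g.1.2, g.2⟩⟩
          invFun := fun g => ⟨⟨g.1, (Subgroup.mem_inf.mp g.2).1⟩, (Subgroup.mem_inf.mp g.2).2⟩
          left_inv := fun g => rfl
          right_inv := fun g => rfl }
    have h3 : (MulAction.orbit N b).ncard = n := by
      rw [← Nat.card_coe_set_eq]
      symm
      refine Nat.card_congr (Equiv.ofBijective
        (fun u => ⟨(u : G) • b, ⟨⟨u.1, hFle u.2⟩, rfl⟩⟩) ⟨?_, ?_⟩)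
      · intro u v huv
        have huv' : (u : G) • b = (v : G) • b := congrArg Subtype.val huv
        obtain ⟨w, -, hw⟩ := hreg b ((v : G) • b) hba (hne_a v.1 (hFle v.2) b hba)
        exact (hw u huv').trans (hw v rfl).symm
      · rintro ⟨y, ⟨g, rfl⟩⟩
        obtain ⟨u, hu, -⟩ := hreg b ((g : G) • b) hba (hne_a g.1 g.2 b hba)
        exact ⟨u, Subtype.ext hu⟩
    rw [h2, h3] at h1
    rw [← h1, mul_comm]
  -- Frobenius property: centralizers of nonidentity elements of F in N lie in F
  have hfrob : ∀ x ∈ F, x ≠ 1 → ∀ g ∈ N, g * x = x * g → g ∈ F := by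
    intro x hx hx1 g hg hgx
    -- write g = u h
    obtain ⟨u, hu, -⟩ := hreg b (g • b) hba (hne_a g hg b hba)
    set h := (u : G)⁻¹ * g with hh
    have hhN : h ∈ N := mul_mem (inv_mem (hFle u.2)) hg
    have hhb : h • b = b := by
      rw [hh, mul_smul, ← hu, ← mul_smul, inv_mul_cancel, one_smul]
    by_cases hh1 : h = 1
    · have : g = u := by
        have : (u : G) * h = g := by rw [hh]; group
        rw [← this, hh1, mul_one]
      rw [this]; exact u.2
    · exfalso
      -- the map v ↦ v (h v h⁻¹)⁻¹ is injective on F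
      have hψinj : Function.Injective (fun v : F =>
          (⟨(v : G) * (h * v * h⁻¹)⁻¹, mul_mem v.2 (inv_mem (hFnorm h hhN v v.2))⟩ : F)) := by
        intro v w hvw
        have h1 : (v : G) * (h * v * h⁻¹)⁻¹ = (w : G) * (h * w * h⁻¹)⁻¹ := congrArg Subtype.val hvw
        -- w⁻¹ v is fixed by conjugation with h
        have h2 : h * ((w : G)⁻¹ * v) * h⁻¹ = (w : G)⁻¹ * v := by
          have e1 : h * ((w : G)⁻¹ * v) * h⁻¹ = (h * w * h⁻¹)⁻¹ * (h * v * h⁻¹) := by group
          rw [e1]
          have e2 : (h * v * h⁻¹) = (w * (h * w * h⁻¹)⁻¹)⁻¹ * v := by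
            rw [← h1]; group
          rw [e2]; group
        -- so h fixes the point (w⁻¹ v) • b
        have hmem : (w : G)⁻¹ * v ∈ F := mul_mem (inv_mem w.2) v.2
        have h3' : h • (((w : G)⁻¹ * v) • b) = ((w : G)⁻¹ * v) • b := by
          have : h * ((w : G)⁻¹ * v) = ((w : G)⁻¹ * v) * h := by
            have := congrArg (· * h) h2
            simpa [mul_assoc] using this
          rw [← mul_smul, this, mul_smul, hhb]
        by_contra hvw'
        have hne1 : (w : G)⁻¹ * v ≠ 1 := by
          intro h4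
          apply hvw'
          have : (v : G) = w := by
            have := congrArg ((w : G) * ·) h4
            simpa using this
          exact Subtype.ext this
        have hpt_ne_b : ((w : G)⁻¹ * v) • b ≠ b := fun h4 => hne1 (hfree _ hmem b hba h4)
        have hpt_ne_a : ((w : G)⁻¹ * v) • b ≠ a := hne_a _ (hFle hmem) b hba
        exact hh1 (h3 h a b (((w : G)⁻¹ * v) • b) hab hpt_ne_b.symm hpt_ne_a.symm hhN hhb h3')
      have hψsurj := Finite.surjective_of_injective hψinj
      obtain ⟨v, hv⟩ := hψsurj u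
      have hv' : (v : G) * (h * v * h⁻¹)⁻¹ = u := congrArg Subtype.val hv
      -- g fixes c = v • b
      have hgc : g • ((v : G) • b) = (v : G) • b := by
        have hg' : g = u * h := by rw [hh]; group
        have : g * v = v * h := by
          rw [hg', ← hv']; group
        rw [← mul_smul, this, mul_smul, hhb]
      set c := (v : G) • b with hc
      have hca : c ≠ a := hne_a v.1 (hFle v.2) b hba
      have hxc : x • c ≠ c := fun h4 => hx1 (hfree x hx c hca h4)
      have hxca : x • c ≠ a := hne_a x (hFle hx) c hca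
      have hgxc : g • (x • c) = x • c := by
        rw [← mul_smul, hgx, mul_smul, hgc]
      have hg1 : g = 1 := h3 g a c (x • c) hca.symm hxc.symm hxca.symm hg hgc hgxc
      apply hh1
      rw [hh, hg1, mul_one]
      have : (u : G) = 1 := by
        have h5 : (u : G) • b = b := by rw [hu, hg1, one_smul]
        exact hfree u u.2 b hba h5
      rw [this, inv_one]
  -- class counting
  have hclass : ∀ x ∈ F, x ≠ 1 → ∃ K c : ℕ, K * c = n * d ∧ c ∣ n ∧ 0 < c ∧
      c = Nat.card (F ⊓ Subgroup.centralizer ({x} : Set G) : Subgroup G) ∧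
      ∀ (S : Set G), (∀ g ∈ N, g * x * g⁻¹ ∈ S) → K ≤ S.ncard := by
    intro x hx hx1
    set x' : N := ⟨x, hFle hx⟩ with hx'
    have h1 := Cfsg.Agent.Lib.Lead.card_conj_mul_card_centralizer x'
    have hceq : Nat.card (Subgroup.centralizer ({x'} : Set N)) =
        Nat.card (F ⊓ Subgroup.centralizer ({x} : Set G) : Subgroup G) := by
      apply Nat.card_congr
      refine
        { toFun := fun g => ⟨g.1.1, Subgroup.mem_inf.mpr ⟨?_, ?_⟩⟩
          invFun := fun g => ⟨⟨g.1, hFle (Subgroup.mem_inf.mp g.2).1⟩, ?_⟩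
          left_inv := fun g => rfl
          right_inv := fun g => rfl }
      · have hg := Subgroup.mem_centralizer_singleton_iff.mp g.2
        have hg' : (g.1 : G) * x = x * g.1 := by
          have := congrArg Subtype.val hg
          first
            | exact this
            | exact this.symm
        exact hfrob x hx hx1 g.1.1 g.1.2 hg'
      · have hg := Subgroup.mem_centralizer_singleton_iff.mp g.2
        rw [Subgroup.mem_centralizer_singleton_iff]
        have := congrArg Subtype.val hg
        exact this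
      · rw [Subgroup.mem_centralizer_singleton_iff]
        have := Subgroup.mem_centralizer_singleton_iff.mp (Subgroup.mem_inf.mp g.2).2
        exact Subtype.ext this
    refine ⟨Nat.card {y : N // IsConj x' y}, Nat.card (Subgroup.centralizer ({x'} : Set N)), ?_, ?_,
      Nat.card_pos, hceq, ?_⟩
    · rw [h1, hNcard]
    · rw [hceq, hn]
      exact Subgroup.card_dvd_of_le inf_le_left
    · intro S hS
      haveI : Finite S := Set.toFinite S |>.to_subtype
      rw [← Nat.card_coe_set_eq]
      refine Nat.card_le_card_of_injective (fun y => (⟨y.1.1, ?_⟩ : S)) ?_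
      · obtain ⟨g, hg⟩ := isConj_iff.mp y.2
        have : (y.1 : G) = g.1 * x * g.1⁻¹ := by
          rw [← hg]; rfl
        rw [this]
        exact hS g.1 g.2
      · intro y z hyz
        have : (y.1 : G) = z.1 := congrArg (fun z : S => (z : G)) hyz
        exact Subtype.ext (Subtype.ext this)
  -- commutativity
  have hcomm : ∀ x ∈ F, ∀ y ∈ F, x * y = y * x := by
    intro x hx y hy
    by_cases hx1 : x = 1
    · rw [hx1, one_mul, mul_one]
    · obtain ⟨K, c, hKc, hcn, hcpos, hceq, hKS⟩ := hclass x hx hx1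
      have hK : K ≤ n - 1 := by
        have := hKS {u : G | u ∈ F ∧ u ≠ 1} (fun g hg => ⟨hFnorm g hg x hx, fun h => hx1 (by
          have h2 : x = g⁻¹ * (g * x * g⁻¹) * g := by group
          rw [h2, h]; group)⟩)
        refine le_trans this ?_
        have h2 : ({u : G | u ∈ F ∧ u ≠ 1} : Set G) = (F : Set G) \ {1} := by
          ext u; simp
        rw [h2, Set.ncard_sdiff (by simpa using F.one_mem), Set.ncard_singleton]
        have : (F : Set G).ncard = n := by
          rw [← Nat.card_coe_set_eq]; rfl
        rw [this]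
      obtain ⟨m, hm⟩ := hcn
      have hKm : K = m * d := by
        have h1 : K * c = c * (m * d) := by rw [hKc, hm]; ring
        rw [mul_comm] at h1
        exact Nat.eq_of_mul_eq_mul_left hcpos h1
      have hmpos : 0 < m := by
        rcases Nat.eq_zero_or_pos m with h | h
        · rw [h, mul_zero] at hm; omega
        · exact h
      have hm1 : m = 1 := by
        by_contra hne
        have hm2 : 2 ≤ m := by omega
        have h1 : 2 * d ≤ m * d := Nat.mul_le_mul_right d hm2
        have h2 : m * d ≤ 2 * d := by omega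
        have h3' : m * d = 2 * d := le_antisymm h2 h1
        have hm2' : m = 2 := Nat.eq_of_mul_eq_mul_right hdpos h3'
        -- n = 2c even and n - 1 = 2d
        have : n - 1 = 2 * d := by omega
        rw [hm2'] at hm
        omega
      have hcn' : c = n := by rw [hm, hm1, mul_one]
      have hFC : F ≤ Subgroup.centralizer ({x} : Set G) := by
        have : F ⊓ Subgroup.centralizer ({x} : Set G) = F := by
          apply Subgroup.eq_of_le_of_card_ge inf_le_left
          rw [← hceq, hcn']
        rw [← this]; exact inf_le_right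
      have := Subgroup.mem_centralizer_singleton_iff.mp (hFC hy)
      exact this.symm
  refine ⟨⟨⟨fun x y => Subtype.ext (hcomm x.1 x.2 y.1 y.2)⟩⟩, ?_⟩
  -- exponent
  by_cases hn1 : n = 1
  · refine ⟨2, 0, Nat.prime_two, ?_, ?_⟩
    · intro u hu
      have hsub : Subsingleton F := (Nat.card_eq_one_iff_unique.mp hn1).1
      have : (⟨u, hu⟩ : F) = 1 := Subsingleton.elim _ _
      have hu1 : u = 1 := congrArg Subtype.val this
      rw [hu1, one_pow]
    · rw [hcardΩ, hn1, pow_zero]
  · have hn2 : 2 ≤ n := by omega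
    set p := n.minFac with hp
    have hpp : p.Prime := Nat.minFac_prime hn1
    haveI : Fact p.Prime := ⟨hpp⟩
    have hpn : p ∣ Nat.card F := Nat.minFac_dvd n
    obtain ⟨x₀, hx₀⟩ := exists_prime_orderOf_dvd_card' p hpn
    have hx₀1 : (x₀ : G) ≠ 1 := by
      intro h
      have : x₀ = 1 := Subtype.ext h
      rw [this, orderOf_one] at hx₀
      exact hpp.one_lt.ne hx₀
    have hx₀p : (x₀ : G) ^ p = 1 := by
      have : x₀ ^ p = 1 := by rw [← hx₀]; exact pow_orderOf_eq_one _
      exact congrArg Subtype.val this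
    -- the subgroup A of elements of F with u^p = 1
    let A : Subgroup G :=
      { carrier := {u | u ∈ F ∧ u ^ p = 1}
        mul_mem' := by
          rintro u v ⟨hu, hup⟩ ⟨hv, hvp⟩
          refine ⟨mul_mem hu hv, ?_⟩
          have hc : Commute u v := hcomm u hu v hv
          rw [hc.mul_pow, hup, hvp, one_mul]
        one_mem' := ⟨F.one_mem, one_pow _⟩
        inv_mem' := by
          rintro u ⟨hu, hup⟩
          exact ⟨inv_mem hu, by rw [inv_pow, hup, inv_one]⟩ }
    have hAF : A ≤ F := fun u hu => hu.1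
    have hAmem : ∀ u, u ∈ A ↔ u ∈ F ∧ u ^ p = 1 := fun u => Iff.rfl
    have hall : ∀ w ∈ F, w ^ p = 1 := by
      by_contra hcon
      push Not at hcon
      obtain ⟨w, hw, hwp⟩ := hcon
      have hw1 : w ≠ 1 := by rintro rfl; exact hwp (one_pow _)
      set α := Nat.card A with hα
      have hαn : α ∣ n := Subgroup.card_dvd_of_le hAF
      have hα2 : 2 ≤ α := by
        have h1 : (⟨1, A.one_mem⟩ : A) ≠ ⟨x₀, ⟨x₀.2, hx₀p⟩⟩ := by
          intro h; exact hx₀1 (congrArg Subtype.val h).symm
        have : 1 < Nat.card A := Finite.one_lt_card_iff_nontrivial.mpr ⟨⟨_, _, h1⟩⟩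
        exact this
      -- class of x₀ inside A \ {1}
      obtain ⟨K₁, c₁, hKc₁, hcn₁, hcpos₁, -, hKS₁⟩ := hclass x₀ x₀.2 hx₀1
      obtain ⟨K₂, c₂, hKc₂, hcn₂, hcpos₂, -, hKS₂⟩ := hclass w hw hw1
      have hc₁n : c₁ ≤ n := Nat.le_of_dvd hnpos hcn₁
      have hc₂n : c₂ ≤ n := Nat.le_of_dvd hnpos hcn₂
      have hK₁d : d ≤ K₁ := by
        by_contra hlt
        push Not at hlt
        have : K₁ * c₁ < n * d := by
          calc K₁ * c₁ ≤ K₁ * n := Nat.mul_le_mul_left _ hc₁n
            _ < d * n := Nat.mul_lt_mul_of_pos_right hlt hnpos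
            _ = n * d := mul_comm _ _
        omega
      have hK₂d : d ≤ K₂ := by
        by_contra hlt
        push Not at hlt
        have : K₂ * c₂ < n * d := by
          calc K₂ * c₂ ≤ K₂ * n := Nat.mul_le_mul_left _ hc₂n
            _ < d * n := Nat.mul_lt_mul_of_pos_right hlt hnpos
            _ = n * d := mul_comm _ _
        omega
      have hK₁α : K₁ ≤ α - 1 := by
        have := hKS₁ ((A : Set G) \ {1}) (fun g hg => by
          refine ⟨⟨hFnorm g hg x₀ x₀.2, ?_⟩, ?_⟩
          · rw [conj_pow, hx₀p]; group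
          · intro h
            apply hx₀1
            have h2 : (x₀ : G) = g⁻¹ * (g * x₀ * g⁻¹) * g := by group
            rw [h2, h]; group)
        refine le_trans this ?_
        rw [Set.ncard_sdiff (by simpa using A.one_mem), Set.ncard_singleton]
        have : (A : Set G).ncard = α := by
          rw [← Nat.card_coe_set_eq]; rfl
        rw [this]
      have hK₂α : K₂ ≤ n - α := by
        have := hKS₂ ((F : Set G) \ (A : Set G)) (fun g hg => by
          refine ⟨hFnorm g hg w hw, ?_⟩
          intro h
          apply hwp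
          have h1 : (g * w * g⁻¹) ^ p = 1 := h.2
          rw [conj_pow] at h1
          have h2 : w ^ p = g⁻¹ * (g * w ^ p * g⁻¹) * g := by group
          rw [h2, h1]; group)
        refine le_trans this ?_
        rw [Set.ncard_sdiff (by exact_mod_cast hAF)]
        have h1 : (A : Set G).ncard = α := by
          rw [← Nat.card_coe_set_eq]; rfl
        have h2 : (F : Set G).ncard = n := by
          rw [← Nat.card_coe_set_eq]; rfl
        rw [h1, h2]
      have hαle : α ≤ n := Nat.le_of_dvd hnpos hαn
      -- 2α = n + 1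
      have h2α : 2 * α = n + 1 := by omega
      obtain ⟨e, he⟩ := hαn
      -- α ∣ 1
      have : α ∣ 1 := by
        have h1 : α ∣ 2 * α := Dvd.intro_left 2 rfl
        rw [h2α] at h1
        have h2 : α ∣ n := ⟨e, he⟩
        exact (Nat.dvd_add_right h2).mp h1
      have := Nat.le_of_dvd one_pos this
      omega
    have hpg : IsPGroup p F := by
      intro u
      refine ⟨1, ?_⟩
      rw [pow_one]
      exact Subtype.ext (hall u.1 u.2)
    obtain ⟨f, hf⟩ := hpg.exists_card_eq
    refine ⟨p, f, hpp, hall, ?_⟩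
    rw [hcardΩ, hn, hf]

end Cfsg.Agent.S0738
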