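import Cfsg.Statements.S0345
import Cfsg.Agent.Lib.Helper6.ZassOdd2
import Cfsg.Agent.Lib.Helper2.Zi2E

set_option autoImplicit false
open Cfsg

namespace Cfsg.Agent.S0345

open Cfsg.Agent.Lib.Helper6.Zs MulAction

/-- In a finite simple Zassenhaus group the stabiliser `H` of two points `a ≠ b` is cyclic, and some involution
interchanging `a` and `b` inverts every element of `H`. -/
theorem result {G Ω : Type*} [Group G] [Finite G] [MulAction G Ω] [Finite Ω]
    (hZ : Cfsg.IsZassenhausGroup G Ω) [IsSimpleGroup G]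
    {a b : Ω} (hab : a ≠ b) :
    IsCyclic ↥(MulAction.stabilizer G a ⊓ MulAction.stabilizer G b) ∧
      ∃ v : G, orderOf v = 2 ∧ v • a = b ∧ v • b = a ∧ ∀ h ∈ MulAction.stabilizer G a ⊓ MulAction.stabilizer G b, v * h * v⁻¹ = h⁻¹ := by
  classical
  haveI : Fintype G := Fintype.ofFinite G
  haveI : Fintype Ω := Fintype.ofFinite Ω
  have h := ZD.of hZ
  obtain ⟨g, hga, hgb⟩ := h.two a b b a hab hab.symm
  have hord2 : ∀ v : G, v * v = 1 → v • a = b → orderOf v = 2 := by
    intro v hvv hva
    haveI : Fact (Nat.Prime 2) := ⟨Nat.prime_two⟩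
    apply orderOf_eq_prime
    · rw [pow_two, hvv]
    · rintro rfl
      rw [one_smul] at hva
      exact hab hva
  rcases Nat.even_or_odd (Nat.card ↥(stabilizer G a ⊓ stabilizer G b : Subgroup G)) with heven | hodd
  · obtain ⟨hcyc, hsw⟩ := Cfsg.Agent.Lib.Helper2.Zi2.even_main h hab heven
    obtain ⟨hgg, hinv⟩ := hsw g hga hgb
    exact ⟨hcyc, g, hord2 g hgg hga, hga, hgb, hinv⟩
  · have hcardG := ZD.card_two_mul h hab
    have h2G : 2 ∣ Nat.card G := by
      rw [← hcardG]
      apply Dvd.dvd.mul_left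
      have : Even (Fintype.card Ω * Fintype.card Ω - Fintype.card Ω) := by
        have h1 : Fintype.card Ω * Fintype.card Ω - Fintype.card Ω
            = Fintype.card Ω * (Fintype.card Ω - 1) := by
          rw [Nat.mul_sub, mul_one]
        rw [h1]
        exact Nat.even_mul_pred_self _
      exact this.two_dvd
    have hnil : ∀ q : ℕ, q.Prime →
        q ∣ Nat.card ↥(stabilizer G a ⊓ stabilizer G b : Subgroup G) →
        ¬ ∃ N : Subgroup G, N.Normal ∧ N.index = q ^ (Nat.card G).factorization q := by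
      rintro q hq hqd ⟨N, hNn, hNi⟩
      have hqG : q ∣ Nat.card G := hqd.trans (Subgroup.card_subgroup_dvd_card _)
      have hpos : 0 < (Nat.card G).factorization q :=
        hq.factorization_pos_of_dvd Nat.card_pos.ne' hqG
      rcases Subgroup.Normal.eq_bot_or_eq_top hNn with hb | ht
      · rw [hb, Subgroup.index_bot] at hNi
        rw [hNi] at h2G
        have h2q : 2 ∣ q := Nat.Prime.dvd_of_dvd_pow Nat.prime_two h2G
        have hq2 : q = 2 := ((Nat.prime_dvd_prime_iff_eq Nat.prime_two hq).1 h2q).symm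
        rw [hq2] at hqd
        exact (Nat.not_even_iff_odd.2 hodd) (even_iff_two_dvd.2 hqd)
      · rw [ht, Subgroup.index_top] at hNi
        have : 1 < q ^ (Nat.card G).factorization q :=
          Nat.one_lt_pow hpos.ne' hq.one_lt
        omega
    obtain ⟨hcyc, -, hinv⟩ := ZD.odd_two_stab h hab hodd hnil
    refine ⟨hcyc, ?_⟩
    -- build an involution from `g`
    have hggH : g * g ∈ (stabilizer G a ⊓ stabilizer G b : Subgroup G) := by
      rw [Subgroup.mem_inf, mem_stabilizer_iff, mem_stabilizer_iff, mul_smul, mul_smul, hga, hgb,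
        hga]
      exact ⟨rfl, rfl⟩
    set m := orderOf (g * g) with hm
    have hmd : m ∣ Nat.card ↥(stabilizer G a ⊓ stabilizer G b : Subgroup G) := by
      have h1 : orderOf (⟨g * g, hggH⟩ : ↥(stabilizer G a ⊓ stabilizer G b : Subgroup G))
          = orderOf (g * g) := Subgroup.orderOf_mk _ _
      rw [hm, ← h1]
      exact orderOf_dvd_natCard _
    have hmodd : Odd m := Odd.of_dvd_nat hodd hmd
    obtain ⟨r, hr⟩ := hmodd
    have hpowH : (g * g) ^ r ∈ (stabilizer G a ⊓ stabilizer G b : Subgroup G) :=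
      Subgroup.pow_mem _ hggH r
    have hv : g ^ m = (g * g) ^ r * g := by
      rw [hr, pow_succ, pow_mul, pow_two]
    have hva : g ^ m • a = b := by
      rw [hv, mul_smul, hga]
      exact mem_stabilizer_iff.1 hpowH.2
    have hvb : g ^ m • b = a := by
      rw [hv, mul_smul, hgb]
      exact mem_stabilizer_iff.1 hpowH.1
    have hvv : g ^ m * g ^ m = 1 := by
      rw [← pow_add, ← two_mul, pow_mul, pow_two, hm, pow_orderOf_eq_one]
    exact ⟨g ^ m, hord2 _ hvv hva, hva, hvb, hinv _ hva hvb⟩

end Cfsg.Agent.S0345
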