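import Mathlib
import Cfsg.Statements.S0740
import Cfsg.Agent.Lib.Lead.FixedMod

set_option autoImplicit false
open Cfsg

namespace Cfsg.Agent.S0740

open MulAction

section
variable {G Ω : Type*} [Group G] [MulAction G Ω]

/-- Conjugating an involution moving `c` to one swapping `a` and `b`. -/
theorem exists_swap_of_invol (h2 : IsMultiplyPretransitive G Ω 2) {a b : Ω} (hab : a ≠ b)
    (u : G) (hu : orderOf u = 2) (c : Ω) (hc : u • c ≠ c) :
    ∃ s : G, orderOf s = 2 ∧ s • a = b ∧ s • b = a ∧
      Nat.card (fixedBy Ω s) = Nat.card (fixedBy Ω u) := by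
  obtain ⟨k, hk1, hk2⟩ := (is_two_pretransitive_iff.mp h2) (Ne.symm hc) hab
  have hu2 : u * u = 1 := by
    rw [← pow_two, ← hu]; exact pow_orderOf_eq_one u
  have hkc : k⁻¹ • a = c := by rw [inv_smul_eq_iff, hk1]
  have hkuc : k⁻¹ • b = u • c := by rw [inv_smul_eq_iff, hk2]
  refine ⟨k * u * k⁻¹, ?_, ?_, ?_, ?_⟩
  · rw [← hu]
    exact orderOf_eq_orderOf_iff.mpr (fun n => by
      constructor
      · intro h
        have : k * u ^ n * k⁻¹ = 1 := by rw [← conj_pow]; exact h
        have h3 : u ^ n = k⁻¹ * (k * u ^ n * k⁻¹) * k := by group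
        rw [h3, this]; group
      · intro h
        rw [conj_pow, h]; group)
  · rw [mul_smul, mul_smul, hkc, hk2]
  · rw [mul_smul, mul_smul, hkuc, smul_smul u u, hu2, one_smul, hk1]
  · symm
    refine Nat.card_congr
      { toFun := fun x => ⟨k • (x : Ω), ?_⟩
        invFun := fun y => ⟨k⁻¹ • (y : Ω), ?_⟩
        left_inv := fun x => Subtype.ext (inv_smul_smul k _)
        right_inv := fun y => Subtype.ext (smul_inv_smul k _) }
    · rw [mem_fixedBy, mul_smul, mul_smul, inv_smul_smul]
      have := x.2
      rw [mem_fixedBy] at this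
      rw [this]
    · have := y.2
      rw [mem_fixedBy, mul_smul, mul_smul] at this
      rw [mem_fixedBy]
      have h3 : k⁻¹ • (k • u • k⁻¹ • (y : Ω)) = k⁻¹ • (y : Ω) := by rw [this]
      rwa [inv_smul_smul] at h3

end

/-- In a finite Zassenhaus group any two points `a ≠ b` are swapped by an involution; every such involution has exactly one fixed point when the degree is odd and 0 or 2 fixed points when the degree is even; and if the two-point stabiliser has even order, some such involution has exactly 2 fixed points. -/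
theorem result {G Ω : Type*} [Group G] [Finite G] [MulAction G Ω] [Fintype Ω] (hZ : Cfsg.IsZassenhausGroup G Ω) {a b : Ω} (hab : a ≠ b) : (∃ s : G, orderOf s = 2 ∧ s • a = b ∧ s • b = a) ∧ (∀ s : G, orderOf s = 2 → s • a = b → s • b = a → (Odd (Fintype.card Ω) → Nat.card (MulAction.fixedBy Ω s) = 1) ∧ (Even (Fintype.card Ω) → Nat.card (MulAction.fixedBy Ω s) = 0 ∨ Nat.card (MulAction.fixedBy Ω s) = 2)) ∧ (Even (Fintype.card Ω) → Even (Nat.card ↥(MulAction.stabilizer G a ⊓ MulAction.stabilizer G b)) → ∃ s : G, orderOf s = 2 ∧ s • a = b ∧ s • b = a ∧ Nat.card (MulAction.fixedBy Ω s) = 2) := by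
  obtain ⟨hfaith, h2, h3pt, -, -⟩ := hZ
  haveI : Fact (Nat.Prime 2) := ⟨Nat.prime_two⟩
  -- an involution moves some point
  have hmoves : ∀ u : G, orderOf u = 2 → ∃ c : Ω, u • c ≠ c := by
    intro u hu
    by_contra hne
    push Not at hne
    have : u = 1 := by
      apply hfaith.eq_of_smul_eq_smul
      intro x
      rw [hne x, one_smul]
    rw [this, orderOf_one] at hu
    omega
  -- fixed point count of an involution
  have hle2 : ∀ u : G, orderOf u = 2 → Nat.card (fixedBy Ω u) ≤ 2 := by
    intro u hu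
    by_contra hgt
    push Not at hgt
    rw [Nat.card_coe_set_eq] at hgt
    obtain ⟨x, y, z, hx, hy, hz, hxy, hxz, hyz⟩ := (Set.two_lt_ncard_iff).mp hgt
    have := h3pt u x y z hxy hyz hxz hx hy hz
    rw [this, orderOf_one] at hu
    omega
  have hpar : ∀ u : G, orderOf u = 2 → Fintype.card Ω ≡ Nat.card (fixedBy Ω u) [MOD 2] := by
    intro u hu
    have := Cfsg.Agent.Lib.Lead.FixedMod.card_modEq_card_fixedBy (Ω := Ω) (p := 2) u 1 (by
      rw [pow_one, ← hu]; exact pow_orderOf_eq_one u)
    rwa [Nat.card_eq_fintype_card] at this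
  refine ⟨?_, ?_, ?_⟩
  · -- existence
    obtain ⟨g, hga, hgb⟩ := (is_two_pretransitive_iff.mp h2) hab (Ne.symm hab)
    have hdvd : 2 ∣ orderOf g := by
      by_contra hodd
      have hodd' : Odd (orderOf g) := Nat.odd_iff.mpr (by omega)
      obtain ⟨m, hm⟩ := hodd'
      have hg2a : (g * g) • a = a := by rw [mul_smul, hga, hgb]
      have hpow : ∀ k : ℕ, ((g * g) ^ k) • a = a := by
        intro k
        induction k with
        | zero => simp
        | succ k ih => rw [pow_succ, mul_smul, hg2a, ih]
      have : g = (g * g) ^ (m + 1) := by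
        rw [← pow_two, ← pow_mul, show 2 * (m + 1) = orderOf g + 1 by omega, pow_succ,
          pow_orderOf_eq_one, one_mul]
      have h4 := hpow (m + 1)
      rw [← this, hga] at h4
      exact hab h4.symm
    have hcard : 2 ∣ Nat.card G := hdvd.trans (orderOf_dvd_natCard g)
    obtain ⟨u, hu⟩ := exists_prime_orderOf_dvd_card' 2 hcard
    obtain ⟨c, hc⟩ := hmoves u hu
    obtain ⟨s, hs, hsa, hsb, -⟩ := exists_swap_of_invol h2 hab u hu c hc
    exact ⟨s, hs, hsa, hsb⟩
  · intro s hs _ _
    have h1 := hle2 s hs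
    have h2' := hpar s hs
    constructor
    · intro hodd
      have : Nat.card (fixedBy Ω s) % 2 = 1 := by
        rw [← h2']; exact Nat.odd_iff.mp hodd
      omega
    · intro heven
      have : Nat.card (fixedBy Ω s) % 2 = 0 := by
        rw [← h2']; exact Nat.even_iff.mp heven
      omega
  · intro heven hH
    obtain ⟨u, hu⟩ := exists_prime_orderOf_dvd_card' 2 hH.two_dvd
    have hu' : orderOf (u : G) = 2 := by rw [Subgroup.orderOf_coe]; exact hu
    have hua : (u : G) • a = a := u.2.1
    have hub : (u : G) • b = b := u.2.2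
    have hfix2 : Nat.card (fixedBy Ω (u : G)) = 2 := by
      have h1 := hle2 u hu'
      have h2' : 2 ≤ Nat.card (fixedBy Ω (u : G)) := by
        rw [Nat.card_coe_set_eq]
        have : ({a, b} : Set Ω) ⊆ fixedBy Ω (u : G) := by
          intro x hx
          rcases hx with rfl | hx
          · exact hua
          · rw [Set.mem_singleton_iff] at hx
            rw [hx]; exact hub
        calc 2 = ({a, b} : Set Ω).ncard := (Set.ncard_pair hab).symm
          _ ≤ _ := Set.ncard_le_ncard this (Set.toFinite _)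
      omega
    obtain ⟨c, hc⟩ := hmoves u hu'
    obtain ⟨s, hs, hsa, hsb, hcard⟩ := exists_swap_of_invol h2 hab u hu' c hc
    exact ⟨s, hs, hsa, hsb, hcard.trans hfix2⟩

end Cfsg.Agent.S0740
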