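import Cfsg.Statements.S0882
import Mathlib
import Cfsg.Agent.Lib.Helper6.ZassSimple
import Cfsg.Agent.Lib.Helper6.ZassKer

set_option autoImplicit false
open Cfsg

namespace Cfsg.Agent.S0882

open Cfsg.Agent.Lib.Helper6

/-- Let G be a finite simple Zassenhaus group on Ω with n = h + 1 points whose two-point stabilizer E has odd order e with 2e < h - 1. Then any two involutions of G are conjugate, and the number of involutions is e * (h + 1) if h is even and e * h if h is odd. -/
theorem result {G Ω : Type*} [Group G] [Finite G] [MulAction G Ω] [Fintype Ω] (hZ : Cfsg.IsZassenhausGroup G Ω) {a b : Ω} (hab : a ≠ b) [IsSimpleGroup G] (h e : ℕ) (hh : Fintype.card Ω = h + 1) (he : Nat.card ↥(MulAction.stabilizer G a ⊓ MulAction.stabilizer G b : Subgroup G) = e) (hodd : Odd e) (hlt : 2 * e < h - 1) : (∀ x y : G, orderOf x = 2 → orderOf y = 2 → IsConj x y) ∧ Nat.card {x : G // orderOf x = 2} = (if Even h then e * (h + 1) else e * h) := by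
  classical
  haveI : Fintype G := Fintype.ofFinite G
  have h0 := Zs.ZD.of hZ
  obtain ⟨H, hK⟩ := h0.exists_kernel a
  have hperf := h0.perfect_of_simple
  have hcardH : Nat.card H = h := by have := hK.card; omega
  have hoddE : Odd (Nat.card ↥(MulAction.stabilizer G a ⊓ MulAction.stabilizer G b : Subgroup G)) := by
    rw [he]; exact hodd
  obtain ⟨hp2, hnodd, hex⟩ := Zs.perfect_package h0 hab hK hperf hoddE (by rw [he, hcardH]; omega)
  have hheven : Even h := by
    rw [hh] at hnodd
    by_contra hne
    rw [Nat.not_even_iff_odd] at hne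
    have := hne.add_one
    rw [← Nat.not_odd_iff_even] at this
    exact this hnodd
  refine ⟨fun x y hx hy => h0.isConj_of_orderOf_two hab hoddE hx hy, ?_⟩
  rw [if_pos hheven, ← he, ← hh]
  have h1 : Nat.card {x : G // orderOf x = 2}
      = (Finset.univ.filter (fun x : G => orderOf x = 2)).card := by
    rw [← Fintype.card_subtype, Nat.card_eq_fintype_card]
  rw [h1]
  exact h0.card_involutions hnodd hab hex

end Cfsg.Agent.S0882
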