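import Mathlib
import Cfsg.Statements.S1139
import Cfsg.Agent.Lib.Lead.Sz2E

set_option autoImplicit false

open Cfsg

namespace Cfsg.Agent.S1139

theorem result {P : Type*} [Group P] (hP : Cfsg.IsSuzukiTwoGroup P)
    (hcard : Nat.card P = Nat.card (Subgroup.center P) ^ 2) :
    ∃ (F : Type) (_ : Field F) (_ : Fintype F) (φ : F ≃+* F), Fintype.card F = Nat.card (Subgroup.center P) ∧
      φ ≠ RingEquiv.refl F ∧ Odd (orderOf φ) ∧ Nonempty (P ≃* Cfsg.suzukiTypeA F (φ : F →+* F)) := by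
  exact Cfsg.Agent.Lib.Lead.Sz2E.typeA hP hcard

end Cfsg.Agent.S1139
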