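import Cfsg.Statements.S4269
import Mathlib
-- import your own Cfsg.Agent.* helpers here

set_option autoImplicit false
open Cfsg

namespace Cfsg.Agent.S4269

open scoped Pointwise commutatorElement
variable {G : Type*} [Group G]


theorem map_conj_mul (H : Subgroup G) (a b : G) :
    H.map (MulAut.conj (a * b)).toMonoidHom =
      (H.map (MulAut.conj b).toMonoidHom).map (MulAut.conj a).toMonoidHom := by
  rw [Subgroup.map_map]
  congr 1
  ext x
  simp [mul_assoc]


theorem map_conj_one (H : Subgroup G) : H.map (MulAut.conj (1 : G)).toMonoidHom = H := by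
  ext x
  simp


theorem map_conj_of_mem (H : Subgroup G) {h : G} (hh : h ∈ H) :
    H.map (MulAut.conj h).toMonoidHom = H :=
  Subgroup.mem_normalizer_iff_map_conj_eq.1 (Subgroup.le_normalizer hh)


/-- Elements of a join of two elementwise commuting subgroups are products. -/
theorem mem_sup_of_commute (A B : Subgroup G) (hc : ∀ a ∈ A, ∀ b ∈ B, a * b = b * a) {x : G}
    (hx : x ∈ A ⊔ B) : ∃ a ∈ A, ∃ b ∈ B, x = a * b := by
  have hc' : ∀ (m : A) (n : B), Commute (A.subtype m) (B.subtype n) := fun a b => hc a a.2 b b.2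
  have hr : (MonoidHom.noncommCoprod A.subtype B.subtype hc').range = A ⊔ B := by
    rw [MonoidHom.noncommCoprod_range, Subgroup.range_subtype, Subgroup.range_subtype]
  rw [← hr] at hx
  obtain ⟨⟨a, b⟩, hab⟩ := hx
  exact ⟨a, a.2, b, b.2, hab.symm⟩


/-- The commutator `[H, U]` is normal in `G = HV` when `U ≤ V` is `H`-invariant and `V` abelian. -/
theorem commutator_normal (V : Subgroup G) [V.Normal] (hV : IsMulCommutative ↥V) (H : Subgroup G)
    (hHV : H ⊔ V = ⊤) (U : Subgroup G) (hUV : U ≤ V)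
    (hU : ∀ h ∈ H, U.map (MulAut.conj h).toMonoidHom = U) :
    ⁅H, U⁆ ≤ U ∧ (⁅H, U⁆ : Subgroup G).Normal := by
  have hCU : ⁅H, U⁆ ≤ U := by
    rw [Subgroup.commutator_le]
    intro h hh u hu
    rw [commutatorElement_def]
    apply U.mul_mem _ (U.inv_mem hu)
    have : h * u * h⁻¹ ∈ U.map (MulAut.conj h).toMonoidHom := ⟨u, hu, rfl⟩
    rwa [hU h hh] at this
  refine ⟨hCU, ?_⟩
  rw [← Subgroup.normalizer_eq_top_iff, eq_top_iff, ← hHV]
  apply sup_le
  · intro h hh
    rw [Subgroup.mem_normalizer_iff_map_conj_eq]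
    have := Subgroup.map_commutator H U (MulAut.conj h).toMonoidHom
    rw [map_conj_of_mem H hh, hU h hh] at this
    exact this
  · have h1 : V ≤ Subgroup.centralizer ((⁅H, U⁆ : Subgroup G) : Set G) := by
      intro v hv c hc
      have hcV : c ∈ V := hUV (hCU hc)
      have := hV.is_comm.comm (⟨c, hcV⟩ : V) ⟨v, hv⟩
      exact congrArg Subtype.val this
    exact h1.trans (Subgroup.centralizer_le_normalizer _)




theorem forward (V : Subgroup G) [V.Normal] (hV : IsMulCommutative ↥V) (H : Subgroup G)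
    (hHV : H ⊔ V = ⊤) (hpro : Cfsg.IsPronormal H) (U : Subgroup G) (hUV : U ≤ V)
    (hU : ∀ h ∈ H, U.map (MulAut.conj h).toMonoidHom = U) :
    U = (U ⊓ Subgroup.normalizer (H : Set G)) ⊔ ⁅H, U⁆ := by
  obtain ⟨hCU, hCn⟩ := commutator_normal V hV H hHV U hUV hU
  haveI := hCn
  apply le_antisymm
  · intro u hu
    obtain ⟨x, hx, hxe⟩ := hpro u
    have hJ : H ⊔ H.map (MulAut.conj u).toMonoidHom ≤ ⁅H, U⁆ ⊔ H := by
      apply sup_le le_sup_right
      rintro _ ⟨h, hh, rfl⟩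
      have : (MulAut.conj u).toMonoidHom h = ⁅h, u⁆⁻¹ * h := by
        simp [commutatorElement_def, mul_assoc]
      rw [this]
      exact Subgroup.mul_mem _
        (le_sup_left (a := ⁅H, U⁆) (Subgroup.inv_mem _ (Subgroup.commutator_mem_commutator hh hu)))
        (le_sup_right (a := ⁅H, U⁆) hh)
    have hx' : x ∈ ((⁅H, U⁆ ⊔ H : Subgroup G) : Set G) := hJ hx
    rw [Subgroup.normal_mul] at hx'
    obtain ⟨c, hc, h, hh, hch⟩ := hx'
    have hch' : c * h = x := hch
    have hxc : H.map (MulAut.conj u).toMonoidHom = H.map (MulAut.conj c).toMonoidHom := by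
      rw [hxe, ← hch', map_conj_mul, map_conj_of_mem H hh]
    have hn : c⁻¹ * u ∈ Subgroup.normalizer (H : Set G) := by
      rw [Subgroup.mem_normalizer_iff_map_conj_eq]
      show H.map (MulAut.conj (c⁻¹ * u)).toMonoidHom = H
      rw [map_conj_mul, hxc, ← map_conj_mul, inv_mul_cancel, map_conj_one]
    have : u = c * (c⁻¹ * u) := by group
    rw [this]
    exact Subgroup.mul_mem _ (le_sup_right (a := U ⊓ Subgroup.normalizer (H : Set G)) hc)
      (le_sup_left (b := ⁅H, U⁆) ⟨U.mul_mem (U.inv_mem (hCU hc)) hu, hn⟩)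
  · exact sup_le inf_le_left hCU




/-- If all conjugations by elements of `H` map `S` into itself, they fix `S`. -/
theorem map_conj_eq_of_le (H S : Subgroup G)
    (h : ∀ k ∈ H, S.map (MulAut.conj k).toMonoidHom ≤ S) :
    ∀ k ∈ H, S.map (MulAut.conj k).toMonoidHom = S := by
  intro k hk
  apply le_antisymm (h k hk)
  have h1 := h k⁻¹ (H.inv_mem hk)
  have h2 := Subgroup.map_mono (f := (MulAut.conj k).toMonoidHom) h1
  rw [← map_conj_mul, mul_inv_cancel, map_conj_one] at h2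
  exact h2


/-- For `u, u'` in an abelian normal subgroup, `[h, u u'] = [h, u] [h, u']`. -/
theorem commutator_mul_right (V : Subgroup G) [V.Normal] (hV : IsMulCommutative ↥V) (h u u' : G)
    (hu : u ∈ V) (hu' : u' ∈ V) : ⁅h, u * u'⁆ = ⁅h, u⁆ * ⁅h, u'⁆ := by
  have hcomm : ∀ a b : G, a ∈ V → b ∈ V → a * b = b * a := by
    intro a b ha hb
    exact congrArg Subtype.val (hV.is_comm.comm (⟨a, ha⟩ : V) ⟨b, hb⟩)
  have hb : h * u' * h⁻¹ ∈ V := Subgroup.Normal.conj_mem inferInstance u' hu' h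
  have h1 : (h * u' * h⁻¹ * u'⁻¹) * u⁻¹ = u⁻¹ * (h * u' * h⁻¹ * u'⁻¹) :=
    hcomm _ _ (V.mul_mem hb (V.inv_mem hu')) (V.inv_mem hu)
  rw [commutatorElement_def, commutatorElement_def, commutatorElement_def]
  calc h * (u * u') * h⁻¹ * (u * u')⁻¹
      = h * u * h⁻¹ * ((h * u' * h⁻¹ * u'⁻¹) * u⁻¹) := by group
    _ = h * u * h⁻¹ * (u⁻¹ * (h * u' * h⁻¹ * u'⁻¹)) := by rw [h1]
    _ = h * u * h⁻¹ * u⁻¹ * (h * u' * h⁻¹ * u'⁻¹) := by group


/-- The subgroup of elements of `V` whose commutators with `H` lie in `J`. -/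
def commSub (V : Subgroup G) [V.Normal] (hV : IsMulCommutative ↥V) (H J : Subgroup G) :
    Subgroup G where
  carrier := {u | u ∈ V ∧ ∀ h ∈ H, ⁅h, u⁆ ∈ J}
  one_mem' := ⟨V.one_mem, fun h _ => by rw [commutatorElement_one_right]; exact J.one_mem⟩
  mul_mem' := by
    rintro a b ⟨ha, ha'⟩ ⟨hb, hb'⟩
    refine ⟨V.mul_mem ha hb, fun h hh => ?_⟩
    rw [commutator_mul_right V hV h a b ha hb]
    exact J.mul_mem (ha' h hh) (hb' h hh)
  inv_mem' := by
    rintro a ⟨ha, ha'⟩
    refine ⟨V.inv_mem ha, fun h hh => ?_⟩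
    have h1 := commutator_mul_right V hV h a a⁻¹ ha (V.inv_mem ha)
    rw [mul_inv_cancel, commutatorElement_one_right] at h1
    have h2 : ⁅h, a⁻¹⁆ = ⁅h, a⁆⁻¹ := by
      rw [eq_comm, inv_eq_iff_mul_eq_one]; exact h1.symm
    rw [h2]
    exact J.inv_mem (ha' h hh)


theorem mem_commSub (V : Subgroup G) [V.Normal] (hV : IsMulCommutative ↥V) (H J : Subgroup G)
    (u : G) : u ∈ commSub V hV H J ↔ u ∈ V ∧ ∀ h ∈ H, ⁅h, u⁆ ∈ J := Iff.rfl


theorem backward (V : Subgroup G) [V.Normal] (hV : IsMulCommutative ↥V) (H : Subgroup G)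
    (hHV : H ⊔ V = ⊤)
    (hyp : ∀ U : Subgroup G, U ≤ V → (∀ h ∈ H, U.map (MulAut.conj h).toMonoidHom = U) →
        U = (U ⊓ Subgroup.normalizer (H : Set G)) ⊔ ⁅H, U⁆) : Cfsg.IsPronormal H := by
  intro g
  have hg : g ∈ ((V ⊔ H : Subgroup G) : Set G) := by rw [sup_comm, hHV]; trivial
  rw [Subgroup.normal_mul] at hg
  obtain ⟨v, hv, h, hh, hvh⟩ := hg
  have hvh' : v * h = g := hvh
  have hgv : H.map (MulAut.conj g).toMonoidHom = H.map (MulAut.conj v).toMonoidHom := by
    rw [← hvh', map_conj_mul, map_conj_of_mem H hh]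
  rw [hgv]
  set J := H ⊔ H.map (MulAut.conj v).toMonoidHom with hJ
  set S := commSub V hV H J with hS
  have hSV : S ≤ V := fun u hu => hu.1
  have hSinv : ∀ k ∈ H, S.map (MulAut.conj k).toMonoidHom = S := by
    apply map_conj_eq_of_le
    rintro k hk _ ⟨u, hu, rfl⟩
    refine ⟨Subgroup.Normal.conj_mem inferInstance u hu.1 k, fun a ha => ?_⟩
    have e : ⁅a, (MulAut.conj k).toMonoidHom u⁆ = k * ⁅k⁻¹ * a * k, u⁆ * k⁻¹ := by
      simp [commutatorElement_def, mul_assoc]
    rw [e]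
    have hkJ : k ∈ J := le_sup_left (a := H) hk
    exact J.mul_mem (J.mul_mem hkJ (hu.2 _ (H.mul_mem (H.mul_mem (H.inv_mem hk) ha) hk)))
      (J.inv_mem hkJ)
  have hvS : v ∈ S := by
    refine ⟨hv, fun a ha => ?_⟩
    have e : ⁅a, v⁆ = a * (MulAut.conj v).toMonoidHom a⁻¹ := by
      simp [commutatorElement_def, mul_assoc]
    rw [e]
    exact J.mul_mem (le_sup_left (a := H) ha)
      (le_sup_right (a := H) ⟨a⁻¹, H.inv_mem ha, rfl⟩)
  have hSeq := hyp S hSV hSinv
  have hCJ : ⁅H, S⁆ ≤ J := by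
    rw [Subgroup.commutator_le]
    intro a ha u hu
    exact hu.2 a ha
  have hCS : ⁅H, S⁆ ≤ S :=
    le_of_le_of_eq (le_sup_right (a := S ⊓ Subgroup.normalizer (H : Set G))) hSeq.symm
  have hvS' : v ∈ (S ⊓ Subgroup.normalizer (H : Set G)) ⊔ ⁅H, S⁆ := hSeq ▸ hvS
  obtain ⟨n, hn, c, hc, hnc⟩ := mem_sup_of_commute _ _ (by
    intro a ha b hb
    exact congrArg Subtype.val (hV.is_comm.comm (⟨a, hSV ha.1⟩ : V) ⟨b, hSV (hCS hb)⟩)) hvS'
  have hnc' : v = c * n := by
    rw [hnc]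
    exact congrArg Subtype.val (hV.is_comm.comm (⟨n, hSV hn.1⟩ : V) ⟨c, hSV (hCS hc)⟩)
  refine ⟨c, hCJ hc, ?_⟩
  have hn2 : H.map (MulAut.conj n).toMonoidHom = H :=
    Subgroup.mem_normalizer_iff_map_conj_eq.1 hn.2
  rw [hnc', map_conj_mul, hn2]





/-- Let G be a finite group, V an abelian normal subgroup and H a subgroup with HV = G. Then H is pronormal in G (H and gHg⁻¹ are conjugate inside the subgroup they generate, for every g) if and only if every H-invariant subgroup U of V satisfies U = N_U(H)·[H, U], that is, U is the join of U ∩ N_G(H) and the commutator subgroup [H, U]. -/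
theorem result {G : Type*} [Group G] [Finite G]
    (V : Subgroup G) [V.Normal] (hV : IsMulCommutative ↥V) (H : Subgroup G) (hHV : H ⊔ V = ⊤) :
    Cfsg.IsPronormal H ↔
      ∀ U : Subgroup G, U ≤ V → (∀ h ∈ H, U.map (MulAut.conj h).toMonoidHom = U) →
        U = (U ⊓ Subgroup.normalizer (H : Set G)) ⊔ ⁅H, U⁆ := by
  exact ⟨fun hpro U hUV hU => forward V hV H hHV hpro U hUV hU, backward V hV H hHV⟩

end Cfsg.Agent.S4269
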