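import Cfsg.Statements.S5560
import Cfsg.Agent.Lib.Helper2.InvolAct
import Cfsg.Agent.Lib.Helper2.ZS10
import Cfsg.Agent.Lib.Helper2.Cores

set_option autoImplicit false
open Cfsg

namespace Cfsg.Agent.S5560

/-- A Z*-type result for an odd prime p. Let G be a finite group and d an involution of G such that the product of any two conjugates of d has order a power of p. Then the product of any two conjugates of d lies in the largest normal p-subgroup O_p(G); in other words the conjugacy class of d lies in the coset O_p(G)d, and d is central modulo O_p(G). -/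
theorem result {G : Type*} [Group G] [Finite G] {p : ℕ} (hp : p.Prime) (hp2 : p ≠ 2)
    (d : G) (hd : orderOf d = 2)
    (hprod : ∀ a ∈ conjugatesOf d, ∀ b ∈ conjugatesOf d, ∃ k : ℕ, orderOf (a * b) = p ^ k) :
    ∀ a ∈ conjugatesOf d, ∀ b ∈ conjugatesOf d, a * b ∈ Cfsg.pCore p G := by
  classical
  haveI : Fact p.Prime := ⟨hp⟩
  have hdd : d * d = 1 := by
    have := pow_orderOf_eq_one d
    rw [hd, pow_two] at this; exact this
  have hdinv : d⁻¹ = d := inv_eq_of_mul_eq_one_right hdd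
  have hconj : ∀ a ∈ conjugatesOf d, ∃ g : G, a = g * d * g⁻¹ := by
    intro a ha
    have ha' : IsConj d a := ha
    rw [isConj_iff] at ha'
    obtain ⟨g, hg⟩ := ha'
    exact ⟨g, hg.symm⟩
  have hconj' : ∀ g : G, g * d * g⁻¹ ∈ conjugatesOf d := by
    intro g
    show IsConj d (g * d * g⁻¹)
    rw [isConj_iff]
    exact ⟨g, rfl⟩
  have hself : d ∈ conjugatesOf d := mem_conjugatesOf_self
  -- `d` is isolated
  have hiso : Cfsg.IsIsolatedInvolution d := by
    refine ⟨hd, ?_⟩
    intro g hc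
    obtain ⟨e, he⟩ : ∃ e, e = g * d * g⁻¹ := ⟨_, rfl⟩
    have hemem : e ∈ conjugatesOf d := by rw [he]; exact hconj' g
    rw [← he] at hc ⊢
    have hee : e * e = 1 := by
      rw [he]
      calc g * d * g⁻¹ * (g * d * g⁻¹) = g * (d * d) * g⁻¹ := by group
        _ = 1 := by rw [hdd]; group
    obtain ⟨k, hk⟩ := hprod d hself e hemem
    have hsq : (d * e) ^ 2 = 1 := by
      rw [pow_two]
      calc d * e * (d * e) = d * (e * d) * e := by group
        _ = d * (d * e) * e := by rw [← hc.eq]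
        _ = (d * d) * (e * e) := by group
        _ = 1 := by rw [hdd, hee, one_mul]
    have hdvd : p ^ k ∣ 2 := by rw [← hk]; exact orderOf_dvd_of_pow_eq_one hsq
    have hk0 : k = 0 := by
      by_contra hk0
      have h1 : p ∣ 2 := dvd_trans (dvd_pow_self p hk0) hdvd
      exact hp2 ((Nat.prime_dvd_prime_iff_eq hp Nat.prime_two).mp h1)
    rw [hk0, pow_zero, orderOf_eq_one_iff] at hk
    calc e = d⁻¹ * (d * e) := by group
      _ = d := by rw [hk, mul_one, hdinv]
  obtain ⟨O, hOdef⟩ : ∃ O : Subgroup G, O = Cfsg.oddCore G := ⟨_, rfl⟩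
  haveI hOn : O.Normal := by
    rw [hOdef]
    haveI := Cfsg.Agent.Lib.Helper2.pPrimeCore_characteristic (G := G) 2
    exact Subgroup.normal_of_characteristic _
  have hOodd : Odd (Nat.card O) := by
    rw [hOdef]
    have hcop := Cfsg.Agent.Lib.Helper2.pPrimeCore_card_coprime (G := G) 2
    rcases Nat.even_or_odd (Nat.card ↥(Cfsg.oddCore G)) with he | ho
    · exfalso
      have h2 : 2 ∣ Nat.card ↥(Cfsg.oddCore G) := he.two_dvd
      have := Nat.Coprime.eq_one_of_dvd hcop.symm h2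
      omega
    · exact ho
  have hz : ∀ g : G, d * g * d * g⁻¹ ∈ O := by
    intro g
    have := Cfsg.Agent.Lib.Helper2.ZS.zstar d hiso g
    rw [hdinv] at this
    rw [hOdef]; exact this
  obtain ⟨σ, hσdef⟩ : ∃ σ : MulAut O, ∀ a : O, ((σ a : O) : G) = d * a * d :=
    ⟨MulAut.conjNormal d, fun a => by rw [MulAut.conjNormal_apply, hdinv]⟩
  have hσ : ∀ a, σ (σ a) = a := by
    intro a
    apply Subtype.ext
    rw [hσdef, hσdef]
    calc d * (d * (a : G) * d) * d = (d * d) * (a : G) * (d * d) := by group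
      _ = (a : G) := by rw [hdd, one_mul, mul_one]
  have hY : ∀ y : O, σ y = y⁻¹ → ∃ k : ℕ, orderOf y = p ^ k := by
    intro y hy
    have hy' : d * (y : G) * d = (y : G)⁻¹ := by
      rw [← hσdef, hy]; rfl
    have hmodd : Odd (orderOf (y : G)) := by
      rw [Subgroup.orderOf_coe]
      exact hOodd.of_dvd_nat (orderOf_dvd_natCard y)
    obtain ⟨t, ht⟩ := hmodd
    obtain ⟨z, hz'⟩ : ∃ z : G, z = (y : G) ^ (t + 1) := ⟨_, rfl⟩
    have hzinv : d * z * d = z⁻¹ := by
      have h1 : d * z * d⁻¹ = z⁻¹ := by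
        rw [hz', ← conj_pow, hdinv, hy', inv_pow]
      rwa [hdinv] at h1
    have hzz : z * z = (y : G) := by
      rw [hz', ← pow_add]
      have : t + 1 + (t + 1) = orderOf (y : G) + 1 := by omega
      rw [this, pow_succ, pow_orderOf_eq_one, one_mul]
    have h1 : d * z⁻¹ * d = z := by
      calc d * z⁻¹ * d = (d⁻¹ * z * d⁻¹)⁻¹ := by group
        _ = (d * z * d)⁻¹ := by rw [hdinv]
        _ = z := by rw [hzinv, inv_inv]
    have hyeq : (y : G) = (z * d * z⁻¹) * d := by
      calc (y : G) = z * z := hzz.symm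
        _ = z * (d * z⁻¹ * d) := by rw [h1]
        _ = z * d * z⁻¹ * d := by group
    obtain ⟨k, hk⟩ := hprod (z * d * z⁻¹) (hconj' z) d hself
    rw [← hyeq] at hk
    exact ⟨k, by rw [← Subgroup.orderOf_coe]; exact hk⟩
  obtain ⟨P, hPp, hPY⟩ :=
    Cfsg.Agent.Lib.Helper2.InvolAct.exists_pgroup_contains_inverted hOodd σ hσ p hY
  have hkey : ∀ a ∈ conjugatesOf d, d * a ∈ P.map O.subtype := by
    intro a ha
    obtain ⟨g, rfl⟩ := hconj a ha
    have hmem : d * (g * d * g⁻¹) ∈ O := by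
      have e : d * (g * d * g⁻¹) = d * g * d * g⁻¹ := by group
      rw [e]; exact hz g
    have hinv : σ ⟨_, hmem⟩ = (⟨_, hmem⟩ : O)⁻¹ := by
      apply Subtype.ext
      rw [hσdef, Subgroup.coe_inv]
      show d * (d * (g * d * g⁻¹)) * d = (d * (g * d * g⁻¹))⁻¹
      calc d * (d * (g * d * g⁻¹)) * d = (d * d) * (g * d * g⁻¹ * d) := by group
        _ = g * d * g⁻¹ * d := by rw [hdd, one_mul]
        _ = (d⁻¹ * (g * d⁻¹ * g⁻¹))⁻¹ := by group
        _ = (d * (g * d * g⁻¹))⁻¹ := by rw [hdinv]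
    exact ⟨⟨_, hmem⟩, hPY _ hinv, rfl⟩
  have hprodmem : ∀ a ∈ conjugatesOf d, ∀ b ∈ conjugatesOf d, a * b ∈ P.map O.subtype := by
    intro a ha b hb
    have h1 := hkey a ha
    have h2 := hkey b hb
    have hainv : a⁻¹ = a := by
      obtain ⟨g, rfl⟩ := hconj a ha
      calc (g * d * g⁻¹)⁻¹ = g * d⁻¹ * g⁻¹ := by group
        _ = g * d * g⁻¹ := by rw [hdinv]
    have : a * b = (d * a)⁻¹ * (d * b) := by
      calc a * b = a⁻¹ * b := by rw [hainv]
        _ = (d * a)⁻¹ * (d * b) := by group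
    rw [this]; exact mul_mem (inv_mem h1) h2
  obtain ⟨S, hS⟩ : ∃ S : Set G,
      S = {x | ∃ a ∈ conjugatesOf d, ∃ b ∈ conjugatesOf d, x = a * b} := ⟨_, rfl⟩
  have hK : Subgroup.normalClosure S ≤ P.map O.subtype := by
    apply (Subgroup.closure_le _).mpr
    intro x hx
    rw [Group.mem_conjugatesOfSet_iff] at hx
    obtain ⟨s, hs, hsx⟩ := hx
    rw [hS] at hs
    obtain ⟨a, ha, b, hb, rfl⟩ := hs
    rw [isConj_iff] at hsx
    obtain ⟨c, rfl⟩ := hsx
    have ha' : c * a * c⁻¹ ∈ conjugatesOf d := by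
      obtain ⟨g, rfl⟩ := hconj a ha
      have : c * (g * d * g⁻¹) * c⁻¹ = (c * g) * d * (c * g)⁻¹ := by group
      rw [this]; exact hconj' _
    have hb' : c * b * c⁻¹ ∈ conjugatesOf d := by
      obtain ⟨g, rfl⟩ := hconj b hb
      have : c * (g * d * g⁻¹) * c⁻¹ = (c * g) * d * (c * g)⁻¹ := by group
      rw [this]; exact hconj' _
    have : c * (a * b) * c⁻¹ = (c * a * c⁻¹) * (c * b * c⁻¹) := by group
    rw [SetLike.mem_coe, this]; exact hprodmem _ ha' _ hb'
  haveI : (Subgroup.normalClosure S).Normal := Subgroup.normalClosure_normal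
  have hKp : IsPGroup p (Subgroup.normalClosure S) := (hPp.map _).to_le hK
  intro a ha b hb
  apply Cfsg.Agent.Lib.Helper2.le_pCore hKp
  apply Subgroup.subset_normalClosure
  rw [hS]; exact ⟨a, ha, b, hb, rfl⟩

end Cfsg.Agent.S5560
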