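import Cfsg.Statements.S5352
import Cfsg.Agent.Lib.Helper3.TT8
import Cfsg.Agent.S5351

set_option autoImplicit false
open Cfsg

namespace Cfsg.Agent.S5352

/-- Let D be a conjugacy class of 3-transpositions generating the finite group G, with at least two members, and suppose the largest normal 2-subgroup and the largest normal 3-subgroup of G are both central. Then G has a quasisimple normal subgroup L such that the generalized Fitting subgroup of G is the product of L and the centre; and either L = G or the image of D in G/L has width 1, in the sense that two members of D whose commutator lies in L have the same image modulo L. -/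
theorem result {G : Type*} [Group G] [Finite G] {D : Set G} (hD : Cfsg.IsThreeTranspositionClass D) (hD2 : ∃ a ∈ D, ∃ b ∈ D, a ≠ b) (h2 : Cfsg.pCore 2 G ≤ Subgroup.center G) (h3 : Cfsg.pCore 3 G ≤ Subgroup.center G) : ∃ L : Subgroup G, L.Normal ∧ Cfsg.IsQuasisimple L ∧ Cfsg.generalizedFittingSubgroup G = L ⊔ Subgroup.center G ∧ (L = ⊤ ∨ ∀ a ∈ D, ∀ b ∈ D, a * b * a⁻¹ * b⁻¹ ∈ L → a⁻¹ * b ∈ L) := by
  classical
  have hT := Cfsg.Agent.Lib.Helper3.TT.TSet.of_class hD
  obtain ⟨hA, htri⟩ := Cfsg.Agent.S5351.result hD hD2
  have hE : Cfsg.layer G ≠ ⊥ := by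
    rcases htri with ⟨hh, -, -⟩ | ⟨-, hh, -⟩ | ⟨-, -, hh⟩
    · exact absurd h2 hh
    · exact absurd h3 hh
    · exact hh
  -- a component
  have hex : ∃ L : Subgroup G, Cfsg.IsComponent L := by
    by_contra hcon
    push Not at hcon
    apply hE
    unfold Cfsg.layer
    rw [sSup_eq_bot]
    intro L hL
    exact absurd hL (hcon L)
  obtain ⟨L, hL⟩ := hex
  have hLn : L.Normal := Cfsg.Agent.Lib.Helper3.TT.comp_normal hD hL
  have hlayer : Cfsg.layer G = L := by
    apply le_antisymm
    · unfold Cfsg.layer
      apply sSup_le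
      intro K hK
      exact le_of_eq (Cfsg.Agent.Lib.Helper3.TT.component_unique hD hK hL)
    · exact le_sSup hL
  have hF : Cfsg.fittingSubgroup G = Subgroup.center G := by
    apply le_antisymm
    · rw [Cfsg.Agent.Lib.Helper1.fittingSubgroup_eq_iSup_pCore]
      apply iSup_le
      intro p
      by_cases hp3 : 3 < (p : ℕ)
      · exact hA p p.2 hp3
      · have hp2 : 2 ≤ (p : ℕ) := p.2.two_le
        have : (p : ℕ) = 2 ∨ (p : ℕ) = 3 := by omega
        rcases this with hh | hh
        · rw [hh]; exact h2
        · rw [hh]; exact h3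
    · apply Cfsg.Agent.Lib.Helper1.le_fittingSubgroup inferInstance
      letI : CommGroup ↥(Subgroup.center G) :=
        { (inferInstance : Group ↥(Subgroup.center G)) with
          mul_comm := fun a b => Subtype.ext (Subgroup.mem_center_iff.mp a.2 (b : G)).symm }
      exact CommGroup.isNilpotent
  refine ⟨L, hLn, hL.2, ?_, ?_⟩
  · unfold Cfsg.generalizedFittingSubgroup
    rw [hlayer, hF]
  · right
    intro a ha b hb hab
    have hinva : a⁻¹ = a := hT.inv ha
    have hinvb : b⁻¹ = b := hT.inv hb
    rw [hinva]
    by_cases hc : a * b = b * a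
    · -- commuting case
      by_contra hnot
      -- every `L`-conjugate of `a` commutes with `b`
      have hcomm : ∀ x ∈ L, (x * a * x⁻¹) * b = b * (x * a * x⁻¹) := by
        intro x hx
        by_contra hne
        have h3' : ((x * a * x⁻¹) * b) ^ 3 = 1 := hT.cube (hT.conj x a ha) hb hne
        have hmk : (QuotientGroup.mk ((x * a * x⁻¹) * b) : G ⧸ L) = QuotientGroup.mk (a * b) := by
          rw [QuotientGroup.eq]
          have e1 : ((x * a * x⁻¹) * b)⁻¹ * (a * b) = b⁻¹ * ((x * a⁻¹ * x⁻¹) * a) * b := by group
          rw [e1]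
          have h4 : (x * a⁻¹ * x⁻¹) * a ∈ L := by
            have : (x * a⁻¹ * x⁻¹) * a = x * (a⁻¹ * x⁻¹ * a⁻¹⁻¹) := by group
            rw [this]
            exact mul_mem hx (hLn.conj_mem _ (inv_mem hx) a⁻¹)
          have := hLn.conj_mem _ h4 b⁻¹
          rwa [inv_inv] at this
        have hab2 : (a * b) ^ 2 = 1 := by
          rw [pow_two]
          calc a * b * (a * b) = a * (b * a) * b := by group
            _ = a * (a * b) * b := by rw [hc]
            _ = (a * a) * (b * b) := by group
            _ = 1 := by rw [hT.sq a ha, hT.sq b hb, one_mul]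
        have q2 : (QuotientGroup.mk (a * b) : G ⧸ L) ^ 2 = 1 := by
          rw [← QuotientGroup.mk_pow, hab2]; rfl
        have q3 : (QuotientGroup.mk (a * b) : G ⧸ L) ^ 3 = 1 := by
          rw [← hmk, ← QuotientGroup.mk_pow, h3']; rfl
        have q1 := Cfsg.Agent.Lib.Helper3.TT.eq_one_of_pow_coprime q2 q3 (by norm_num)
        exact hnot ((QuotientGroup.eq_one_iff _).mp q1)
      have hdL := Cfsg.Agent.Lib.Helper3.TT.comp_conj_mem hT hL ha
      rcases Cfsg.Agent.Lib.Helper3.TT.Kc_eq_or_centralized hL hdL with hK | hK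
      · -- `b` centralizes `Kc L a = L`
        obtain ⟨y, hy, hyb⟩ := Cfsg.Agent.Lib.Helper3.TT.not_centralizes_comp hD hL hb
        apply hyb
        have hle : Cfsg.Agent.Lib.Helper3.TT.Kc L a ≤ Subgroup.centralizer {b} := by
          unfold Cfsg.Agent.Lib.Helper3.TT.Kc
          rw [Subgroup.closure_le]
          rintro z ⟨x, hx, rfl⟩
          show x * a * x⁻¹ * a⁻¹ ∈ Subgroup.centralizer {b}
          rw [Subgroup.mem_centralizer_singleton_iff]
          rw [hinva]
          calc x * a * x⁻¹ * a * b = x * a * x⁻¹ * (a * b) := by group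
            _ = x * a * x⁻¹ * (b * a) := by rw [hc]
            _ = (x * a * x⁻¹ * b) * a := by group
            _ = (b * (x * a * x⁻¹)) * a := by rw [hcomm x hx]
            _ = b * (x * a * x⁻¹ * a) := by group
        rw [hK] at hle
        have := hle hy
        rw [Subgroup.mem_centralizer_singleton_iff] at this
        exact this
      · obtain ⟨y, hy, hya⟩ := Cfsg.Agent.Lib.Helper3.TT.not_centralizes_comp hD hL ha
        exact hya (hK y hy)
    · -- non-commuting case: `a b` has order 3
      have h3' : (a * b) ^ 3 = 1 := hT.cube ha hb hc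
      have e1 : a * b * a⁻¹ * b⁻¹ = (a * b) ^ 2 := by
        rw [hinva, hinvb, pow_two]; group
      rw [e1] at hab
      have e2 : a * b = ((a * b) ^ 2) ^ 2 := by
        rw [← pow_mul]
        have : (a * b) ^ (2 * 2) = (a * b) ^ 3 * (a * b) := by
          rw [← pow_succ]
        rw [this, h3', one_mul]
      rw [e2]
      exact pow_mem hab 2

end Cfsg.Agent.S5352
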