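import Cfsg.Statements.S5353
import Cfsg.Agent.Lib.Helper3.TT11

set_option autoImplicit false
open Cfsg

namespace Cfsg.Agent.S5353

/-- Let D be a conjugacy class of 3-transpositions generating the finite group G, with at least two members, such that the largest normal 2-subgroup and the largest normal 3-subgroup of G are central, and let L be a quasisimple normal subgroup with generalized Fitting subgroup of G equal to L times the centre. If L has index at most 2 then G acts primitively on D by conjugation; and if the commuting graph of D is connected then L has index at most 2. -/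
theorem result {G : Type*} [Group G] [Finite G] {D : Set G} (hD : Cfsg.IsThreeTranspositionClass D) (hD2 : ∃ a ∈ D, ∃ b ∈ D, a ≠ b) (h2 : Cfsg.pCore 2 G ≤ Subgroup.center G) (h3 : Cfsg.pCore 3 G ≤ Subgroup.center G) (L : Subgroup G) [L.Normal] (hL : Cfsg.IsQuasisimple L) (hF : Cfsg.generalizedFittingSubgroup G = L ⊔ Subgroup.center G) : (L.index ≤ 2 → Cfsg.IsPrimitiveUnderConj D) ∧ ((Cfsg.commutingGraph D).Connected → L.index ≤ 2) := by
  classical
  have hT := Cfsg.Agent.Lib.Helper3.TT.TSet.of_class hD
  have hLn : L.Normal := inferInstance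
  have hLc : Cfsg.IsComponent L := ⟨hLn.isSubnormal, hL⟩
  constructor
  · intro hidx
    refine ⟨fun a ha b hb => Cfsg.Agent.Lib.Helper3.TT.class_conj hD ha hb, hD2, ?_⟩
    intro B hBD hblk
    by_cases hs : B.Subsingleton
    · left; exact hs
    · right
      exact Cfsg.Agent.Lib.Helper3.TT.block_eq_of_index_le_two hD hD2 h2 h3 hLc hidx hBD hblk hs
  · intro hconn
    obtain ⟨d, hd, -⟩ := hD.2.1
    -- all members of `D` are congruent modulo `L`
    have hreach : ∀ x y : D, (Cfsg.commutingGraph D).Reachable x y → (x : G) * (y : G) ∈ L := by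
      intro x y hxy
      rw [SimpleGraph.reachable_iff_reflTransGen] at hxy
      induction hxy with
      | refl => rw [hT.sq _ x.2]; exact one_mem L
      | @tail y z _ hadj ih =>
        unfold Cfsg.commutingGraph at hadj
        rw [SimpleGraph.fromRel_adj] at hadj
        have hc : (y : G) * (z : G) = (z : G) * (y : G) := by
          rcases hadj.2 with h | h
          · exact h
          · exact h.symm
        have h1 := Cfsg.Agent.Lib.Helper3.TT.comm_mul_mem_comp hD hLc y.2 z.2 hc
        have e : (x : G) * (z : G) = ((x : G) * (y : G)) * ((y : G) * (z : G)) := by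
          have : (x : G) * (y : G) * ((y : G) * (z : G)) = (x : G) * ((y : G) * (y : G)) * (z : G) := by
            group
          rw [this, hT.sq _ y.2, mul_one]
        rw [e]
        exact mul_mem ih h1
    have hall : ∀ b ∈ D, d * b ∈ L := fun b hb =>
      hreach ⟨d, hd⟩ ⟨b, hb⟩ (hconn.preconnected _ _)
    have htop : Subgroup.zpowers d ⊔ L = ⊤ := by
      rw [eq_top_iff, ← hD.2.2, Subgroup.closure_le]
      intro b hb
      have e : b = d * (d * b) := by rw [← mul_assoc, hT.sq d hd, one_mul]
      rw [e]
      exact Subgroup.mul_mem_sup (Subgroup.mem_zpowers d) (hall b hb)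
    have h1 : L.index = L.relIndex (Subgroup.zpowers d) := by
      rw [← Subgroup.relIndex_top_right, ← htop, Subgroup.relIndex_sup_right]
    have h2' : L.relIndex (Subgroup.zpowers d) ∣ Nat.card (Subgroup.zpowers d) :=
      Subgroup.relIndex_dvd_card _ _
    rw [Nat.card_zpowers, hT.orderOf_eq hd] at h2'
    rw [h1]
    exact Nat.le_of_dvd (by norm_num) h2'

end Cfsg.Agent.S5353
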