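import Cfsg.Statements.S4448
import Mathlib
import Cfsg.Agent.Lib.Helper8.GlauL6
import Cfsg.Agent.Lib.Helper8.GlauP10

set_option autoImplicit false
open Cfsg

namespace Cfsg.Agent.S4448

/-- Inside a finite group Γ let S normalise G and also normalise a normal subgroup N of G, with the order of S coprime to the index of N in G and G/N solvable. Then for every S-invariant irreducible character ϑ of N, the induced character ϑ^G has an S-invariant irreducible constituent. -/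
theorem result {Γ : Type*} [Group Γ] [Fintype Γ] (G S N : Subgroup Γ) [Fintype G] [Fintype N] (hnorm : ∀ s ∈ S, ∀ g ∈ G, s * g * s⁻¹ ∈ G) (hNG : N ≤ G) [hNn : (N.subgroupOf G).Normal] (hNS : ∀ s ∈ S, ∀ n ∈ N, s * n * s⁻¹ ∈ N) (hcop : (N.relIndex G).Coprime (Nat.card S)) (hsolv : Group.IsSolvable (G ⧸ N.subgroupOf G)) (θ : Cfsg.IrrCharacter N) (hinv : (∀ s ∈ S, ∀ g g' : N, (g' : Γ) = s * g * s⁻¹ → (θ : N → ℂ) g' = (θ : N → ℂ) g)) : ∃ χ : Cfsg.IrrCharacter G, Cfsg.classInner (fun n : N => (χ : G → ℂ) ⟨n, hNG n.2⟩) (θ : N → ℂ) ≠ 0 ∧ (∀ s ∈ S, ∀ g g' : G, (g' : Γ) = s * g * s⁻¹ → (χ : G → ℂ) g' = (χ : G → ℂ) g) := by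
  classical
  set φ := Cfsg.Agent.Lib.Helper8.GlauP.conjHom G S hnorm with hφ
  set φN := Cfsg.Agent.Lib.Helper8.GlauP.conjHom N S hNS with hφN
  set ι : ↥N →* ↥G := Subgroup.inclusion hNG with hι
  have hrange : ι.range = N.subgroupOf G := Subgroup.inclusion_range hNG
  obtain ⟨k, hk⟩ := (Group.isSolvable_def (↥G ⧸ N.subgroupOf G)).mp hsolv
  have hder : derivedSeries ↥G k ≤ ι.range := by
    rw [hrange]
    have h1 := map_derivedSeries_eq (QuotientGroup.mk'_surjective (N.subgroupOf G)) k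
    rw [hk] at h1
    intro x hx
    have h2 : QuotientGroup.mk' (N.subgroupOf G) x ∈ (⊥ : Subgroup (↥G ⧸ N.subgroupOf G)) := by
      rw [← h1]
      exact ⟨x, hx, rfl⟩
    rw [Subgroup.mem_bot] at h2
    exact (QuotientGroup.eq_one_iff x).mp h2
  have hθinv : Cfsg.Agent.Lib.Helper8.GlauP.InvChar φN (θ : N → ℂ) := by
    intro s n
    exact hinv s s.2 n _ rfl
  obtain ⟨χ, hχinv, hχover⟩ := Cfsg.Agent.Lib.Helper8.GlauL.exists_invChar_over_of_derivedSeries_le
    (S := ↥S) k ↥G ↥N φ φN ι (Subgroup.inclusion_injective hNG) (by rw [hrange]; exact hNn)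
    (fun s n => rfl) hder (by rw [hrange]; exact hcop) θ hθinv
  refine ⟨χ, ?_, ?_⟩
  · have h1 := Cfsg.Agent.Lib.Helper8.GlauP.rmult_spec ι
      (Cfsg.Agent.Lib.Helper6.IsIrrCharacter.isCharacter χ.2) θ.2
    have h2 : (fun n : N => (χ : G → ℂ) ⟨n, hNG n.2⟩) = fun n : N => (χ : G → ℂ) (ι n) := rfl
    rw [h2, h1]
    exact_mod_cast hχover
  · intro s hs g g' hg'
    have h1 := hχinv ⟨s, hs⟩ g
    have h2 : φ ⟨s, hs⟩ g = g' := by
      apply Subtype.ext
      rw [hg']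
      rfl
    rw [h2] at h1
    exact h1

end Cfsg.Agent.S4448
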