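import Cfsg.Statements.S4449
import Mathlib
import Cfsg.Agent.Lib.Helper8.GlauN3
import Cfsg.Agent.Lib.Helper8.GlauP10

set_option autoImplicit false
open Cfsg

namespace Cfsg.Agent.S4449

/-- Inside a finite group Γ let the solvable subgroup S normalise G with the orders of G and S coprime, and let N be a normal subgroup of G normalised by S. Then for every S-invariant irreducible character ϑ of N, the induced character ϑ^G has an S-invariant irreducible constituent. -/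
theorem result {Γ : Type*} [Group Γ] [Fintype Γ] (G S N : Subgroup Γ) [Fintype G] [Fintype N] (hnorm : ∀ s ∈ S, ∀ g ∈ G, s * g * s⁻¹ ∈ G) (hNG : N ≤ G) (hNnormal : ∀ g ∈ G, ∀ n ∈ N, g * n * g⁻¹ ∈ N) (hNS : ∀ s ∈ S, ∀ n ∈ N, s * n * s⁻¹ ∈ N) (hcop : (Nat.card G).Coprime (Nat.card S)) (hsolv : Group.IsSolvable S) (θ : Cfsg.IrrCharacter N) (hinv : (∀ s ∈ S, ∀ g g' : N, (g' : Γ) = s * g * s⁻¹ → (θ : N → ℂ) g' = (θ : N → ℂ) g)) : ∃ χ : Cfsg.IrrCharacter G, Cfsg.classInner (fun n : N => (χ : G → ℂ) ⟨n, hNG n.2⟩) (θ : N → ℂ) ≠ 0 ∧ (∀ s ∈ S, ∀ g g' : G, (g' : Γ) = s * g * s⁻¹ → (χ : G → ℂ) g' = (χ : G → ℂ) g) := by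
  classical
  have hNn' : (N.subgroupOf G).Normal := by
    constructor
    intro n hn g
    rw [Subgroup.mem_subgroupOf] at hn ⊢
    exact hNnormal g g.2 n hn
  set φ := Cfsg.Agent.Lib.Helper8.GlauP.conjHom G S hnorm with hφ
  have hNs' : ∀ (s : S), ∀ x ∈ N.subgroupOf G, φ s x ∈ N.subgroupOf G := by
    intro s x hx
    rw [Subgroup.mem_subgroupOf] at hx ⊢
    exact hNS s s.2 x hx
  haveI : Fintype (N.subgroupOf G) := Fintype.ofFinite _
  let e : (N.subgroupOf G) ≃* N := Subgroup.subgroupOfEquivOfLe hNG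
  set θ' : Cfsg.IrrCharacter ↥(N.subgroupOf G) := ⟨fun k => (θ : N → ℂ) (e k),
    Cfsg.Agent.Lib.Helper6.IsIrrCharacter.comp_mulEquiv e θ.2⟩ with hθ'
  have hθinv : Cfsg.Agent.Lib.Helper8.GlauP.InvChar
      (Cfsg.Agent.Lib.Helper8.GlauP.restrictHom φ (N.subgroupOf G) hNs')
      (θ' : ↥(N.subgroupOf G) → ℂ) := by
    intro s k
    show (θ : N → ℂ) (e _) = (θ : N → ℂ) (e k)
    exact hinv s s.2 (e k) (e _) rfl
  obtain ⟨χ, hχinv, hχover⟩ := Cfsg.Agent.Lib.Helper8.GlauP.exists_invChar_over (Nat.card S)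
    ↥S ↥G φ (N.subgroupOf G) hNn' hNs' rfl hsolv hcop θ' hθinv
  refine ⟨χ, ?_, ?_⟩
  · have h1 := Cfsg.Agent.Lib.Helper8.GlauP.rmult_spec (N.subgroupOf G).subtype
      (Cfsg.Agent.Lib.Helper6.IsIrrCharacter.isCharacter χ.2) θ'.2
    have h2 := Cfsg.Agent.Lib.Helper6.classInner_comp_mulEquiv e
      (fun n : N => (χ : G → ℂ) ⟨n, hNG n.2⟩) (θ : N → ℂ)
    have h3 : (fun k : ↥(N.subgroupOf G) => (fun n : N => (χ : G → ℂ) ⟨n, hNG n.2⟩) (e k))
        = fun k : ↥(N.subgroupOf G) => (χ : G → ℂ) ((N.subgroupOf G).subtype k) := by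
      funext k
      rfl
    rw [h3] at h2
    rw [← h2]
    have h4 : (fun k : ↥(N.subgroupOf G) => (θ : N → ℂ) (e k)) = (θ' : ↥(N.subgroupOf G) → ℂ) := rfl
    rw [h4, h1]
    exact_mod_cast hχover
  · intro s hs g g' hg'
    have h1 := hχinv ⟨s, hs⟩ g
    have h2 : φ ⟨s, hs⟩ g = g' := by
      apply Subtype.ext
      rw [hg']
      rfl
    rw [h2] at h1
    exact h1

end Cfsg.Agent.S4449
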