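import Cfsg.Statements.S0966
import Mathlib
import Cfsg.Agent.Lib.Helper6.BlkCover3

set_option autoImplicit false
open Cfsg

namespace Cfsg.Agent.S0966

open Cfsg.Agent.Lib.Helper6

/-- Let N be a normal subgroup of p-power index in the finite group G and b a block of N relative to a maximal ideal M of the algebraic integers containing p. Then there is exactly one block B of G containing a character whose restriction to N has a constituent in b. -/
theorem result {G : Type*} [Group G] [Fintype G] (p : ℕ) [Fact p.Prime] (M : Ideal Cfsg.AlgInt) (hM : Cfsg.IsPModular p M) (N : Subgroup G) [N.Normal] [Fintype N] (hidx : ∃ k : ℕ, N.index = p ^ k) (b : Set (Cfsg.IrrCharacter N)) (hb : Cfsg.IsPBlock M b) : ∃! B : Set (Cfsg.IrrCharacter G), Cfsg.IsPBlock M B ∧ ∃ χ ∈ B, ∃ θ ∈ b, Cfsg.classInner (fun n : N => (χ : G → ℂ) n) (θ : N → ℂ) ≠ 0 := by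
  classical
  obtain ⟨θ₀, rfl⟩ := hb
  obtain ⟨χ, hχ⟩ := exists_irr_over N θ₀
  refine ⟨Cfsg.blockOf M (χ : G → ℂ), ⟨⟨χ, rfl⟩, χ, sameBlock_refl hM _, θ₀, sameBlock_refl hM _, hχ⟩, ?_⟩
  rintro B' ⟨⟨χ₀', rfl⟩, χ', hχ'B, θ', hθ'b, hχ'θ'⟩
  have hsb : Cfsg.SameBlock M (χ : G → ℂ) (χ' : G → ℂ) :=
    sameBlock_of_cover_of_index N hM hidx χ χ' θ₀ θ' hθ'b hχ hχ'θ'
  rw [blockOf_eq_of_mem hM hχ'B]
  exact (blockOf_eq_of_sameBlock hM hsb).symm

end Cfsg.Agent.S0966
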