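-- Statement S4216: Grün's first theorem.
import Cfsg.Statements.S4216
import Mathlib

set_option autoImplicit false
open Cfsg

namespace Cfsg.Agent.S4216

open scoped IsMulCommutative commutatorElement

/-- For a `p`-group acting, an invariant function with values of order dividing `p` has the same
product over a stable finite set as over its fixed points in it. -/
theorem prod_eq_prod_fixed {R X A : Type*} [Group R] [MulAction R X] [CommGroup A] [Finite X]
    (p : ℕ) [Fact p.Prime] (hR : IsPGroup p R)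
    (T : Finset X) (hT : ∀ r : R, ∀ s ∈ T, r • s ∈ T) (f : X → A)
    (hf : ∀ r : R, ∀ s ∈ T, f (r • s) = f s) (hfp : ∀ s ∈ T, f s ^ p = 1)
    [DecidablePred (fun s : X => ∀ r : R, r • s = s)] :
    ∏ s ∈ T, f s = ∏ s ∈ T.filter (fun s => ∀ r : R, r • s = s), f s := by
  classical
  let π : X → Quotient (MulAction.orbitRel R X) := fun y => Quotient.mk (MulAction.orbitRel R X) y
  rw [← Finset.prod_fiberwise_of_maps_to (s := T) (t := T.image π) (g := π)
    (fun x hx => Finset.mem_image_of_mem _ hx) f]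
  rw [← Finset.prod_fiberwise_of_maps_to (s := T.filter (fun s => ∀ r : R, r • s = s))
    (t := T.image π) (g := π)
    (fun x hx => Finset.mem_image_of_mem _ (Finset.mem_filter.1 hx).1) f]
  apply Finset.prod_congr rfl
  intro b hb
  obtain ⟨y₀, hy₀, rfl⟩ := Finset.mem_image.1 hb
  have hrel : ∀ a : X, π a = π y₀ ↔ a ∈ MulAction.orbit R y₀ := by
    intro a
    constructor
    · intro h; exact MulAction.orbitRel_apply.1 (Quotient.exact h)
    · intro h; exact Quotient.sound (MulAction.orbitRel_apply.2 h)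
  by_cases hfix : ∀ r : R, r • y₀ = y₀
  · have h1 : T.filter (fun a => π a = π y₀) = {y₀} := by
      ext a
      simp only [Finset.mem_filter, Finset.mem_singleton]
      constructor
      · rintro ⟨_, h⟩
        obtain ⟨r, rfl⟩ := MulAction.mem_orbit_iff.1 ((hrel a).1 h)
        exact hfix r
      · rintro rfl
        exact ⟨hy₀, rfl⟩
    have h2 : (T.filter (fun s => ∀ r : R, r • s = s)).filter (fun a => π a = π y₀) = {y₀} := by
      ext a
      simp only [Finset.mem_filter, Finset.mem_singleton]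
      constructor
      · rintro ⟨_, h⟩
        obtain ⟨r, rfl⟩ := MulAction.mem_orbit_iff.1 ((hrel a).1 h)
        exact hfix r
      · rintro rfl
        exact ⟨⟨hy₀, hfix⟩, rfl⟩
    rw [h1, h2]
  · have h2 : (T.filter (fun s => ∀ r : R, r • s = s)).filter (fun a => π a = π y₀) = ∅ := by
      ext a
      simp only [Finset.mem_filter, Finset.notMem_empty, iff_false]
      rintro ⟨⟨_, hafix⟩, h⟩
      obtain ⟨r, rfl⟩ := MulAction.mem_orbit_iff.1 ((hrel a).1 h)
      apply hfix
      intro r'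
      have h3 := hafix (r * r' * r⁻¹)
      rw [mul_smul, mul_smul, inv_smul_smul] at h3
      have h4 := congrArg (fun z => r⁻¹ • z) h3
      simpa using h4
    rw [h2, Finset.prod_empty]
    have hconst : ∀ a ∈ T.filter (fun a => π a = π y₀), f a = f y₀ := by
      intro a ha
      obtain ⟨_, h⟩ := Finset.mem_filter.1 ha
      obtain ⟨r, rfl⟩ := MulAction.mem_orbit_iff.1 ((hrel a).1 h)
      exact hf r y₀ hy₀
    rw [Finset.prod_congr rfl hconst, Finset.prod_const]
    have hset : ((T.filter (fun a => π a = π y₀) : Finset X) : Set X) = MulAction.orbit R y₀ := by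
      ext a
      simp only [Finset.coe_filter, Set.mem_ofPred_eq]
      constructor
      · rintro ⟨_, h⟩; exact (hrel a).1 h
      · intro h
        refine ⟨?_, (hrel a).2 h⟩
        obtain ⟨r, rfl⟩ := MulAction.mem_orbit_iff.1 h
        exact hT r y₀ hy₀
    have hcard : (T.filter (fun a => π a = π y₀)).card = Nat.card (MulAction.orbit R y₀) := by
      rw [← hset, Nat.card_eq_fintype_card]
      simp
    obtain ⟨j, hj⟩ := hR.card_orbit y₀
    rw [hcard, hj]
    have hj0 : j ≠ 0 := by
      rintro rfl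
      rw [pow_zero] at hj
      apply hfix
      intro r
      have hsub : Subsingleton (MulAction.orbit R y₀) := (Nat.card_eq_one_iff_unique.1 hj).1
      have := @Subsingleton.elim _ hsub ⟨r • y₀, MulAction.mem_orbit y₀ r⟩
        ⟨y₀, MulAction.mem_orbit_self y₀⟩
      exact congrArg Subtype.val this
    obtain ⟨j', rfl⟩ := Nat.exists_eq_succ_of_ne_zero hj0
    rw [pow_succ', pow_mul, hfp y₀ hy₀, one_pow]

section
variable {G : Type*} [Group G] [Finite G] {p : ℕ} [Fact p.Prime]

/-- The main transfer computation, for an abstract target subgroup `D`. -/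
theorem key_step (Q D : Subgroup G) (hQ : IsPGroup p Q) (hidx : ¬ p ∣ Q.index) (hDQ : D ≤ Q)
    (hD1 : ∀ w ∈ Q, w ∈ ⁅Subgroup.normalizer (Q : Set G), Subgroup.normalizer (Q : Set G)⁆ → w ∈ D)
    (hD2 : ∀ z w : G, w ∈ Q → z⁻¹ * w * z ∈ ⁅Q, Q⁆ → w ∈ D)
    (u : G) (hu : u ∈ Q) (huG : u ∈ commutator G)
    (IH : ∀ w ∈ Q, w ∈ commutator G → orderOf w < orderOf u → w ∈ D) : u ∈ D := by
  classical
  by_cases hu1 : u = 1
  · rw [hu1]; exact D.one_mem
  -- basic facts about `D`
  have hPP : ⁅Q, Q⁆ ≤ D := by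
    intro w hw
    have hQQ : ⁅Q, Q⁆ ≤ Q := Subgroup.commutator_le.2 (fun a ha b hb =>
      Q.mul_mem (Q.mul_mem (Q.mul_mem ha hb) (Q.inv_mem ha)) (Q.inv_mem hb))
    apply hD2 1 w (hQQ hw)
    simpa using hw
  let D' : Subgroup Q := D.subgroupOf Q
  have hcomm_le : commutator Q ≤ D' := by
    intro x hx
    show (x : G) ∈ D
    apply hPP
    rw [← Subgroup.map_subtype_commutator]
    exact ⟨x, hx, rfl⟩
  haveI hD'n : D'.Normal := by
    constructor
    intro d hd g
    have h1 : ⁅g, d⁆ ∈ D' := hcomm_le (Subgroup.commutator_mem_commutator (Subgroup.mem_top g) (Subgroup.mem_top d))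
    have h2 : g * d * g⁻¹ = ⁅g, d⁆ * d := by
      simp only [commutatorElement_def]; group
    rw [h2]; exact D'.mul_mem h1 hd
  haveI : IsMulCommutative (Q ⧸ D') :=
    Subgroup.Normal.quotient_commutative_iff_commutator_le.mpr hcomm_le
  let φ : Q →* Q ⧸ D' := QuotientGroup.mk' D'
  have hφ1 : ∀ (w : G) (hw : w ∈ Q), φ ⟨w, hw⟩ = 1 ↔ w ∈ D := by
    intro w hw
    show ((⟨w, hw⟩ : Q) : Q ⧸ D') = 1 ↔ w ∈ D
    rw [QuotientGroup.eq_one_iff]
    exact Subgroup.mem_subgroupOf
  have hφeq : ∀ (w w' : G) (hw : w ∈ Q) (hw' : w' ∈ Q), w * w'⁻¹ ∈ D →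
      φ ⟨w, hw⟩ = φ ⟨w', hw'⟩ := by
    intro w w' hw hw' h
    have h1 : φ (⟨w, hw⟩ * ⟨w', hw'⟩⁻¹) = 1 := by
      have : (⟨w, hw⟩ * ⟨w', hw'⟩⁻¹ : Q) = ⟨w * w'⁻¹, Q.mul_mem hw (Q.inv_mem hw')⟩ := rfl
      rw [this, hφ1]; exact h
    rw [map_mul, map_inv, mul_inv_eq_one] at h1
    exact h1
  -- order facts
  obtain ⟨e, he⟩ := (IsPGroup.iff_orderOf.1 hQ) ⟨u, hu⟩
  rw [Subgroup.orderOf_mk] at he
  have he0 : e ≠ 0 := by
    rintro rfl
    rw [pow_zero, orderOf_eq_one_iff] at he
    exact hu1 he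
  have hp : p.Prime := Fact.out
  have hupow : ∀ k : G, k⁻¹ * u ^ p * k ∈ Q → k⁻¹ * u ^ p * k ∈ D := by
    intro k hk
    apply IH _ hk
    · exact (inferInstance : (commutator G).Normal).conj_mem' _ ((commutator G).pow_mem huG p) k
    · have h1 : orderOf (k⁻¹ * u ^ p * k) = orderOf (u ^ p) := by
        have := orderOf_injective (MulAut.conj k⁻¹).toMonoidHom (MulEquiv.injective _) (u ^ p)
        simpa [MulAut.conj_apply] using this
      rw [h1, orderOf_pow_of_dvd hp.ne_zero (he ▸ dvd_pow_self p he0), he]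
      exact Nat.div_lt_self (pow_pos hp.pos e) hp.one_lt
  have hconjpow : ∀ (k v : G) (n : ℕ), (k⁻¹ * v * k) ^ n = k⁻¹ * v ^ n * k := by
    intro k v n
    have := conj_pow (a := k⁻¹) (b := v) (i := n)
    simpa using this
  -- fixedness criterion
  have hfixmem : ∀ (v : G) (c : G ⧸ Q), v • c = c ↔ (Quotient.out c)⁻¹ * v * Quotient.out c ∈ Q := by
    intro v c
    conv_lhs => rw [← QuotientGroup.out_eq' c]
    have : v • ((Quotient.out c : G) : G ⧸ Q) = ((v * Quotient.out c : G) : G ⧸ Q) := rfl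
    rw [this, eq_comm, QuotientGroup.eq, mul_assoc]
  let ψ : G ⧸ Q → Q ⧸ D' := fun c =>
    if h : (Quotient.out c)⁻¹ * u * Quotient.out c ∈ Q then φ ⟨_, h⟩ else 1
  have hψ : ∀ (c : G ⧸ Q) (h : (Quotient.out c)⁻¹ * u * Quotient.out c ∈ Q),
      ψ c = φ ⟨_, h⟩ := fun c h => dif_pos h
  have hψp : ∀ c : G ⧸ Q, ψ c ^ p = 1 := by
    intro c
    by_cases h : (Quotient.out c)⁻¹ * u * Quotient.out c ∈ Q
    · rw [hψ c h, ← map_pow]
      have h' : (Quotient.out c)⁻¹ * u ^ p * Quotient.out c ∈ Q := by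
        rw [← hconjpow]; exact Q.pow_mem h p
      have : (⟨_, h⟩ : Q) ^ p = ⟨(Quotient.out c)⁻¹ * u ^ p * Quotient.out c, h'⟩ := by
        apply Subtype.ext
        rw [Subgroup.coe_pow]
        exact hconjpow _ _ _
      rw [this, hφ1]
      exact hupow _ h'
    · have : ψ c = 1 := dif_neg h
      rw [this, one_pow]
  have hψinv : ∀ (c : G ⧸ Q) (y : G), y ∈ Q → u • c = c → u • (y • c) = y • c →
      ψ (y • c) = ψ c := by
    intro c y hy hc hyc
    have h1 := (hfixmem u c).1 hc
    have h2 := (hfixmem u (y • c)).1 hyc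
    rw [hψ c h1, hψ _ h2]
    have hz : (y * Quotient.out c)⁻¹ * Quotient.out (y • c) ∈ Q := by
      rw [← QuotientGroup.eq]
      rw [QuotientGroup.out_eq']
      have : ((y * Quotient.out c : G) : G ⧸ Q) = y • ((Quotient.out c : G) : G ⧸ Q) := rfl
      rw [this, QuotientGroup.out_eq']
    generalize Quotient.out c = k at *
    generalize Quotient.out (y • c) = k' at *
    apply hφeq
    have hw₁ : k⁻¹ * (y⁻¹ * u * y) * k ∈ Q := by
      have : k⁻¹ * (y⁻¹ * u * y) * k =
          ((y * k)⁻¹ * k') * (k'⁻¹ * u * k') * ((y * k)⁻¹ * k')⁻¹ := by group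
      rw [this]; exact Q.mul_mem (Q.mul_mem hz h2) (Q.inv_mem hz)
    have e : k'⁻¹ * u * k' * (k⁻¹ * u * k)⁻¹ =
        ⁅((y * k)⁻¹ * k')⁻¹, k⁻¹ * (y⁻¹ * u * y) * k⁆ *
          (k⁻¹ * (y⁻¹ * u * y) * k * (k⁻¹ * u * k)⁻¹) := by
      simp only [commutatorElement_def]; group
    rw [e]
    apply D.mul_mem
    · exact hPP (Subgroup.commutator_mem_commutator (Q.inv_mem hz) hw₁)
    · apply hD2 k⁻¹ _ (Q.mul_mem hw₁ (Q.inv_mem h1))
      have : k⁻¹⁻¹ * (k⁻¹ * (y⁻¹ * u * y) * k * (k⁻¹ * u * k)⁻¹) * k⁻¹ = ⁅y⁻¹, u⁆ := by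
        simp only [commutatorElement_def]; group
      rw [this]
      exact Subgroup.commutator_mem_commutator (Q.inv_mem hy) hu
  have hψfix : ∀ c : G ⧸ Q, (∀ y : G, y ∈ Q → y • c = c) → ψ c = φ ⟨u, hu⟩ := by
    intro c hc
    have h1 := (hfixmem u c).1 (hc u hu)
    rw [hψ c h1]
    have hkN : Quotient.out c ∈ Subgroup.normalizer (Q : Set G) := by
      rw [← Sylow.mem_fixedPoints_mul_left_cosets_iff_mem_normalizer, QuotientGroup.out_eq']
      intro y
      exact hc y y.2
    generalize Quotient.out c = k at *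
    apply hφeq
    apply hD1 _ (Q.mul_mem h1 (Q.inv_mem hu))
    have : k⁻¹ * u * k * u⁻¹ = ⁅k⁻¹, u⁆ := by simp only [commutatorElement_def]; group
    rw [this]
    exact Subgroup.commutator_mem_commutator (Subgroup.inv_mem _ hkN) (Subgroup.le_normalizer hu)
  haveI : Fintype (G ⧸ Q) := Fintype.ofFinite _
  -- the chain argument
  have hchain : ∀ n : ℕ, ∀ R₀ : Subgroup Q, (⟨u, hu⟩ : Q) ∈ R₀ → Nat.card Q - Nat.card R₀ = n →
      ∏ c ∈ Finset.univ.filter (fun c : G ⧸ Q => (¬ ∀ y : G, y ∈ Q → y • c = c) ∧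
        ∀ y : Q, y ∈ R₀ → (y : G) • c = c), ψ c = 1 := by
    intro n
    induction n using Nat.strong_induction_on with
    | _ n IHn =>
    intro R₀ huR hn
    by_cases htop : R₀ = ⊤
    · apply Finset.prod_eq_one
      intro c hc
      exfalso
      obtain ⟨-, h1, h2⟩ := Finset.mem_filter.1 hc
      apply h1
      intro y hy
      exact h2 ⟨y, hy⟩ (htop ▸ Subgroup.mem_top _)
    · have hlt : R₀ < ⊤ := lt_top_iff_ne_top.2 htop
      haveI : Group.IsNilpotent Q := hQ.isNilpotent
      have hnc : R₀ < Subgroup.normalizer (R₀ : Set Q) :=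
        Group.normalizerCondition_of_isNilpotent (G := Q) R₀ hlt
      have hR₁p : IsPGroup p (Subgroup.normalizer (R₀ : Set Q)) := hQ.to_subgroup _
      have hsm : ∀ (r : Subgroup.normalizer (R₀ : Set Q)) (c : G ⧸ Q),
          r • c = ((r : Q) : G) • c := fun r c => rfl
      have hstable : ∀ r : Subgroup.normalizer (R₀ : Set Q),
          ∀ c ∈ Finset.univ.filter (fun c : G ⧸ Q => (¬ ∀ y : G, y ∈ Q → y • c = c) ∧
            ∀ y : Q, y ∈ R₀ → (y : G) • c = c),
          r • c ∈ Finset.univ.filter (fun c : G ⧸ Q => (¬ ∀ y : G, y ∈ Q → y • c = c) ∧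
            ∀ y : Q, y ∈ R₀ → (y : G) • c = c) := by
        intro r c hc
        obtain ⟨-, h1, h2⟩ := Finset.mem_filter.1 hc
        rw [Finset.mem_filter]
        refine ⟨Finset.mem_univ _, ?_, ?_⟩
        · intro hfixed
          apply h1
          intro y hy
          have h3 := hfixed (((r : Q) : G) * y * ((r : Q) : G)⁻¹)
            (Q.mul_mem (Q.mul_mem (r : Q).2 hy) (Q.inv_mem (r : Q).2))
          rw [hsm, ← mul_smul] at h3
          have h4 : ((r : Q) : G) * y * ((r : Q) : G)⁻¹ * ((r : Q) : G) = ((r : Q) : G) * y := by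
            group
          rw [h4, mul_smul] at h3
          exact smul_left_cancel _ h3
        · intro y hy
          have hr := (Subgroup.mem_normalizer_iff''.1 r.2 y).1 hy
          have h3 := h2 _ hr
          rw [hsm, ← mul_smul]
          have h4 : (y : G) * ((r : Q) : G) =
              ((r : Q) : G) * (((r : Q)⁻¹ * y * (r : Q) : Q) : G) := by
            simp only [Subgroup.coe_mul, Subgroup.coe_inv]; group
          rw [h4, mul_smul, h3]
      have hstep := prod_eq_prod_fixed (R := Subgroup.normalizer (R₀ : Set Q)) (X := G ⧸ Q) p hR₁p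
        (Finset.univ.filter (fun c : G ⧸ Q => (¬ ∀ y : G, y ∈ Q → y • c = c) ∧
            ∀ y : Q, y ∈ R₀ → (y : G) • c = c)) hstable ψ
        (by
          intro r c hc
          obtain ⟨-, h1, h2⟩ := Finset.mem_filter.1 hc
          obtain ⟨-, h1', h2'⟩ := Finset.mem_filter.1 (hstable r c hc)
          rw [hsm]
          apply hψinv c _ (r : Q).2 (h2 _ huR)
          have := h2' _ huR
          rw [hsm] at this
          exact this)
        (fun c _ => hψp c)
      rw [hstep]
      have hfilter : (Finset.univ.filter (fun c : G ⧸ Q => (¬ ∀ y : G, y ∈ Q → y • c = c) ∧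
            ∀ y : Q, y ∈ R₀ → (y : G) • c = c)).filter
            (fun s => ∀ r : Subgroup.normalizer (R₀ : Set Q), r • s = s) =
          Finset.univ.filter (fun c : G ⧸ Q => (¬ ∀ y : G, y ∈ Q → y • c = c) ∧
            ∀ y : Q, y ∈ Subgroup.normalizer (R₀ : Set Q) → (y : G) • c = c) := by
        ext c
        simp only [Finset.mem_filter, Finset.mem_univ, true_and]
        constructor
        · rintro ⟨⟨h1, h2⟩, h3⟩
          exact ⟨h1, fun y hy => h3 ⟨y, hy⟩⟩
        · rintro ⟨h1, h2⟩
          exact ⟨⟨h1, fun y hy => h2 y (Subgroup.le_normalizer hy)⟩, fun r => h2 r r.2⟩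
      rw [hfilter]
      have hcardlt : Nat.card R₀ < Nat.card (Subgroup.normalizer (R₀ : Set Q)) := by
        apply lt_of_le_of_ne (Subgroup.card_le_of_le hnc.le)
        intro h
        exact hnc.ne (Subgroup.eq_of_le_of_card_ge hnc.le h.ge)
      have hcardle : Nat.card (Subgroup.normalizer (R₀ : Set Q)) ≤ Nat.card Q :=
        Subgroup.card_le_card_group _
      exact IHn (Nat.card Q - Nat.card (Subgroup.normalizer (R₀ : Set Q))) (by omega) _
        (Subgroup.le_normalizer huR) rfl
  -- the transfer computation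
  have hV1 : MonoidHom.transfer φ u = 1 :=
    Abelianization.commutator_subset_ker (MonoidHom.transfer φ) huG
  haveI : Fintype (Quotient (MulAction.orbitRel (Subgroup.zpowers u) (G ⧸ Q))) :=
    Fintype.ofFinite _
  rw [MonoidHom.transfer_eq_prod_quotient_orbitRel_zpowers_quot] at hV1
  rw [← Finset.prod_filter_mul_prod_filter_not Finset.univ
    (fun q : Quotient (MulAction.orbitRel (Subgroup.zpowers u) (G ⧸ Q)) =>
      Function.minimalPeriod (u • ·) q.out = 1)] at hV1
  -- orbits of length > 1 contribute trivially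
  have hperiodic : ∀ c : G ⧸ Q, Function.minimalPeriod (u • ·) c ∣ p ^ e := by
    intro c
    apply Function.IsPeriodicPt.minimalPeriod_dvd
    show (fun x : G ⧸ Q => u • x)^[p ^ e] c = c
    rw [smul_iterate, ← he, pow_orderOf_eq_one]
    exact one_smul _ _
  have hpart2 : ∏ q ∈ Finset.univ.filter
      (fun q : Quotient (MulAction.orbitRel (Subgroup.zpowers u) (G ⧸ Q)) =>
        ¬ Function.minimalPeriod (u • ·) q.out = 1),
      φ ⟨q.out.out⁻¹ * u ^ Function.minimalPeriod (u • ·) q.out * q.out.out,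
        QuotientGroup.out_conj_pow_minimalPeriod_mem Q u q.out⟩ = 1 := by
    apply Finset.prod_eq_one
    intro q hq
    have hm1 : ¬ Function.minimalPeriod (u • ·) q.out = 1 := (Finset.mem_filter.1 hq).2
    rw [hφ1]
    have hmem := QuotientGroup.out_conj_pow_minimalPeriod_mem Q u q.out
    have hdvd := hperiodic q.out
    generalize Function.minimalPeriod (u • ·) q.out = m at *
    have hm0 : m ≠ 0 := by
      rintro rfl
      have := Nat.eq_zero_of_zero_dvd hdvd
      exact (pow_pos hp.pos e).ne' this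
    apply IH _ hmem
    · exact (inferInstance : (commutator G).Normal).conj_mem' _ ((commutator G).pow_mem huG m) _
    · have h1 : orderOf (q.out.out⁻¹ * u ^ m * q.out.out) = orderOf (u ^ m) := by
        have := orderOf_injective (MulAut.conj (q.out.out)⁻¹).toMonoidHom
          (MulEquiv.injective _) (u ^ m)
        simpa [MulAut.conj_apply] using this
      rw [h1, orderOf_pow_of_dvd hm0 (he ▸ hdvd), he]
      apply Nat.div_lt_self (pow_pos hp.pos e)
      omega
  rw [hpart2, mul_one] at hV1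
  -- orbits of length one correspond to fixed cosets
  have hpart1 : ∏ q ∈ Finset.univ.filter
      (fun q : Quotient (MulAction.orbitRel (Subgroup.zpowers u) (G ⧸ Q)) =>
        Function.minimalPeriod (u • ·) q.out = 1),
      φ ⟨q.out.out⁻¹ * u ^ Function.minimalPeriod (u • ·) q.out * q.out.out,
        QuotientGroup.out_conj_pow_minimalPeriod_mem Q u q.out⟩ =
      ∏ c ∈ Finset.univ.filter (fun c : G ⧸ Q => u • c = c), ψ c := by
    have hout : ∀ c : G ⧸ Q, u • c = c →
        (Quotient.mk (MulAction.orbitRel (Subgroup.zpowers u) (G ⧸ Q)) c).out = c := by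
      intro c hc
      have h1 : (MulAction.orbitRel (Subgroup.zpowers u) (G ⧸ Q))
          (Quotient.mk (MulAction.orbitRel (Subgroup.zpowers u) (G ⧸ Q)) c).out c :=
        Quotient.exact (Quotient.out_eq _)
      rw [MulAction.orbitRel_apply] at h1
      obtain ⟨⟨z, hz⟩, hzc⟩ := MulAction.mem_orbit_iff.1 h1
      obtain ⟨k, rfl⟩ := Subgroup.mem_zpowers_iff.1 hz
      rw [← hzc]
      show (u ^ k) • c = c
      have h2 : ∀ k : ℤ, (u ^ k) • c = c := by
        intro k
        have hmem : u ∈ MulAction.stabilizer G c := hc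
        exact (MulAction.stabilizer G c).zpow_mem hmem k
      exact h2 k
    apply Finset.prod_nbij' (fun q => q.out)
      (fun c => Quotient.mk (MulAction.orbitRel (Subgroup.zpowers u) (G ⧸ Q)) c)
    · intro q hq
      have hm1 := (Finset.mem_filter.1 hq).2
      rw [Finset.mem_filter]
      exact ⟨Finset.mem_univ _, Function.minimalPeriod_eq_one_iff_isFixedPt.1 hm1⟩
    · intro c hc
      have hc' := (Finset.mem_filter.1 hc).2
      rw [Finset.mem_filter]
      refine ⟨Finset.mem_univ _, ?_⟩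
      rw [hout c hc']
      exact Function.minimalPeriod_eq_one_iff_isFixedPt.2 hc'
    · intro q _
      exact Quotient.out_eq q
    · intro c hc
      exact hout c (Finset.mem_filter.1 hc).2
    · intro q hq
      have hm1 := (Finset.mem_filter.1 hq).2
      have hfx : u • q.out = q.out := Function.minimalPeriod_eq_one_iff_isFixedPt.1 hm1
      rw [hψ _ ((hfixmem u q.out).1 hfx)]
      congr 1
      apply Subtype.ext
      show q.out.out⁻¹ * u ^ Function.minimalPeriod (u • ·) q.out * q.out.out = _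
      rw [hm1, pow_one]
  rw [hpart1] at hV1
  -- split the fixed cosets into `Q`-fixed ones and the others
  rw [← Finset.prod_filter_mul_prod_filter_not
    (Finset.univ.filter (fun c : G ⧸ Q => u • c = c))
    (fun c : G ⧸ Q => ∀ y : G, y ∈ Q → y • c = c)] at hV1
  have hsecond : (Finset.univ.filter (fun c : G ⧸ Q => u • c = c)).filter
      (fun c : G ⧸ Q => ¬ ∀ y : G, y ∈ Q → y • c = c) =
      Finset.univ.filter (fun c : G ⧸ Q => (¬ ∀ y : G, y ∈ Q → y • c = c) ∧
        ∀ y : Q, y ∈ Subgroup.zpowers (⟨u, hu⟩ : Q) → (y : G) • c = c) := by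
    ext c
    simp only [Finset.mem_filter, Finset.mem_univ, true_and]
    constructor
    · rintro ⟨h1, h2⟩
      refine ⟨h2, ?_⟩
      intro y hy
      obtain ⟨k, rfl⟩ := Subgroup.mem_zpowers_iff.1 hy
      have hmem : u ∈ MulAction.stabilizer G c := h1
      have := (MulAction.stabilizer G c).zpow_mem hmem k
      simpa using this
    · rintro ⟨h1, h2⟩
      exact ⟨h2 ⟨u, hu⟩ (Subgroup.mem_zpowers _), h1⟩
  rw [hsecond, hchain _ _ (Subgroup.mem_zpowers _) rfl, mul_one] at hV1
  have hfirst : (Finset.univ.filter (fun c : G ⧸ Q => u • c = c)).filter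
      (fun c : G ⧸ Q => ∀ y : G, y ∈ Q → y • c = c) =
      Finset.univ.filter (fun c : G ⧸ Q => ∀ y : G, y ∈ Q → y • c = c) := by
    ext c
    simp only [Finset.mem_filter, Finset.mem_univ, true_and]
    exact ⟨fun h => h.2, fun h => ⟨h u hu, h⟩⟩
  rw [hfirst, Finset.prod_congr rfl (fun c hc => hψfix c (Finset.mem_filter.1 hc).2),
    Finset.prod_const] at hV1
  -- the number of `Q`-fixed cosets is prime to `p`
  have hn₀ : ¬ p ∣ (Finset.univ.filter (fun c : G ⧸ Q => ∀ y : G, y ∈ Q → y • c = c)).card := by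
    have h1 := hQ.card_modEq_card_fixedPoints (G ⧸ Q)
    have h2 : Nat.card (MulAction.fixedPoints Q (G ⧸ Q)) =
        (Finset.univ.filter (fun c : G ⧸ Q => ∀ y : G, y ∈ Q → y • c = c)).card := by
      rw [Nat.card_eq_fintype_card, ← Fintype.card_subtype]
      apply Fintype.card_congr
      apply Equiv.subtypeEquivRight
      intro c
      rw [MulAction.mem_fixedPoints]
      exact ⟨fun h y hy => h ⟨y, hy⟩, fun h y => h y y.2⟩
    rw [h2] at h1
    intro hdvd
    apply hidx
    have : Nat.card (G ⧸ Q) = Q.index := rfl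
    rw [← this]
    exact (Nat.modEq_zero_iff_dvd.1 (h1.trans (Nat.modEq_zero_iff_dvd.2 hdvd)))
  have hcop : Nat.Coprime
      (Finset.univ.filter (fun c : G ⧸ Q => ∀ y : G, y ∈ Q → y • c = c)).card (p ^ e) :=
    ((Nat.Prime.coprime_iff_not_dvd hp).2 hn₀).symm.pow_right e
  have hpe : φ ⟨u, hu⟩ ^ (p ^ e) = 1 := by
    rw [← map_pow]
    have : (⟨u, hu⟩ : Q) ^ (p ^ e) = 1 := by
      apply Subtype.ext
      rw [Subgroup.coe_pow, Subgroup.coe_one, ← he]
      exact pow_orderOf_eq_one u
    rw [this, map_one]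
  have hone : φ ⟨u, hu⟩ = 1 := by
    have h1 := orderOf_dvd_of_pow_eq_one hV1
    have h2 := orderOf_dvd_of_pow_eq_one hpe
    exact orderOf_eq_one_iff.1 (Nat.eq_one_of_dvd_coprimes hcop h1 h2)
  exact (hφ1 u hu).1 hone

end


theorem result {G : Type*} [Group G] [Finite G] {p : ℕ} [Fact p.Prime] (P : Sylow p G) : (P : Subgroup G) ⊓ commutator G = ((P : Subgroup G) ⊓ ⁅Subgroup.normalizer ((P : Subgroup G) : Set G), Subgroup.normalizer ((P : Subgroup G) : Set G)⁆) ⊔ ⨆ z : G, (P : Subgroup G) ⊓ (⁅(P : Subgroup G), (P : Subgroup G)⁆).map (MulAut.conj z).toMonoidHom := by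
  apply le_antisymm
  · have hDQ : ((P : Subgroup G) ⊓ ⁅Subgroup.normalizer ((P : Subgroup G) : Set G), Subgroup.normalizer ((P : Subgroup G) : Set G)⁆) ⊔ ⨆ z : G, (P : Subgroup G) ⊓ (⁅(P : Subgroup G), (P : Subgroup G)⁆).map (MulAut.conj z).toMonoidHom ≤ (P : Subgroup G) :=
      sup_le inf_le_left (iSup_le fun z => inf_le_left)
    have key : ∀ n : ℕ, ∀ u ∈ (P : Subgroup G), u ∈ commutator G → orderOf u = n →
        u ∈ ((P : Subgroup G) ⊓ ⁅Subgroup.normalizer ((P : Subgroup G) : Set G), Subgroup.normalizer ((P : Subgroup G) : Set G)⁆) ⊔ ⨆ z : G, (P : Subgroup G) ⊓ (⁅(P : Subgroup G), (P : Subgroup G)⁆).map (MulAut.conj z).toMonoidHom := by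
      intro n
      induction n using Nat.strong_induction_on with
      | _ n ih =>
      intro u hu huG hn
      refine key_step (P : Subgroup G) _ P.2 P.not_dvd_index hDQ ?_ ?_ u hu huG
        (fun w hw hwG hlt => ih _ (hn ▸ hlt) w hw hwG rfl)
      · intro w hw hw'
        exact Subgroup.mem_sup_left ⟨hw, hw'⟩
      · intro z w hw hw'
        apply Subgroup.mem_sup_right
        apply Subgroup.mem_iSup_of_mem z
        refine ⟨hw, z⁻¹ * w * z, hw', ?_⟩
        simp only [MulEquiv.coe_toMonoidHom, MulAut.conj_apply]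
        group
    intro u hu
    exact key _ u hu.1 hu.2 rfl
  · apply sup_le
    · apply inf_le_inf_left
      rw [commutator_def]
      exact Subgroup.commutator_mono le_top le_top
    · apply iSup_le
      intro z
      apply inf_le_inf_left
      rintro _ ⟨x, hx, rfl⟩
      have hx' : x ∈ commutator G := by
        rw [commutator_def]
        exact Subgroup.commutator_mono le_top le_top hx
      simp only [MulEquiv.coe_toMonoidHom, MulAut.conj_apply]
      exact (inferInstance : (commutator G).Normal).conj_mem x hx' z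

end Cfsg.Agent.S4216
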