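import Cfsg.Statements.S0496
import Cfsg.Agent.Lib.Helper7.SmallB0
import Cfsg.Agent.Lib.Helper7.SmallB1
import Cfsg.Agent.Lib.Helper7.SmallB2
import Cfsg.Agent.Lib.Helper7.SmallB3
import Cfsg.Agent.Lib.Helper7.SmallB4
import Cfsg.Agent.Lib.Helper7.SmallB5
import Cfsg.Agent.Lib.Helper7.SmallB6
import Cfsg.Agent.Lib.Helper7.SmallB7
import Cfsg.Agent.Lib.Helper7.SmallB8
import Cfsg.Agent.Lib.Helper7.SmallB9
import Cfsg.Agent.Lib.Helper7.SmallB10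

set_option autoImplicit false
open Cfsg

namespace Cfsg.Agent.S0496

open Cfsg.Agent.Lib.Helper7

/-- A non-abelian finite simple group of order at most 1092 has order 60, 168, 360, 504, 660 or 1092. -/
theorem result {G : Type*} [Group G] [Finite G] [IsSimpleGroup G]
    (hG : ¬ IsMulCommutative G) (h : Nat.card G ≤ 1092) :
    Nat.card G = 60 ∨ Nat.card G = 168 ∨ Nat.card G = 360 ∨ Nat.card G = 504 ∨ Nat.card G = 660 ∨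
      Nat.card G = 1092 := by
  have hpos : 0 < Nat.card G := Nat.card_pos
  obtain ⟨n, hn⟩ : ∃ n, Nat.card G = n := ⟨_, rfl⟩
  rw [hn] at h hpos ⊢
  have hcases : n ≤ 99 ∨ (100 ≤ n ∧ n ≤ 199) ∨ (200 ≤ n ∧ n ≤ 299) ∨ (300 ≤ n ∧ n ≤ 399) ∨
      (400 ≤ n ∧ n ≤ 499) ∨ (500 ≤ n ∧ n ≤ 599) ∨ (600 ≤ n ∧ n ≤ 699) ∨ (700 ≤ n ∧ n ≤ 799) ∨
      (800 ≤ n ∧ n ≤ 899) ∨ (900 ≤ n ∧ n ≤ 999) ∨ 1000 ≤ n := by omega
  rcases hcases with h1 | ⟨h1, h2⟩ | ⟨h1, h2⟩ | ⟨h1, h2⟩ | ⟨h1, h2⟩ | ⟨h1, h2⟩ | ⟨h1, h2⟩ |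
    ⟨h1, h2⟩ | ⟨h1, h2⟩ | ⟨h1, h2⟩ | h1
  · exact Cfsg.Agent.Lib.Helper7.Small.block0 hG hn hpos h1
  · exact Cfsg.Agent.Lib.Helper7.Small.block1 hG hn h1 h2
  · exact Cfsg.Agent.Lib.Helper7.Small.block2 hG hn h1 h2
  · exact Cfsg.Agent.Lib.Helper7.Small.block3 hG hn h1 h2
  · exact Cfsg.Agent.Lib.Helper7.Small.block4 hG hn h1 h2
  · exact Cfsg.Agent.Lib.Helper7.Small.block5 hG hn h1 h2
  · exact Cfsg.Agent.Lib.Helper7.Small.block6 hG hn h1 h2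
  · exact Cfsg.Agent.Lib.Helper7.Small.block7 hG hn h1 h2
  · exact Cfsg.Agent.Lib.Helper7.Small.block8 hG hn h1 h2
  · exact Cfsg.Agent.Lib.Helper7.Small.block9 hG hn h1 h2
  · exact Cfsg.Agent.Lib.Helper7.Small.block10 hG hn h1 h

end Cfsg.Agent.S0496
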