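import Mathlib
import Cfsg.Statements.S0270
import Cfsg.Agent.Lib.Helper5.SympPrimitive

set_option autoImplicit false
open Cfsg

namespace Cfsg.Agent.S0270

open Matrix Cfsg.Agent.Lib.Helper5.SympTv Cfsg.Agent.Lib.Helper5.SympGen
  Cfsg.Agent.Lib.Helper5.SympPerfect Cfsg.Agent.Lib.Helper5.SympPrimitive

theorem nontrivial_sp {F : Type*} [Field F] (m : ℕ) (hm : 1 ≤ m) :
    Nontrivial (symplecticGroup (Fin m) F) := by
  let i0 : Fin m := ⟨0, by omega⟩
  refine ⟨⟨tv m (Pi.single (Sum.inl i0) 1) 1, 1, ?_⟩⟩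
  intro h
  have h1 := congrArg (fun g : symplecticGroup (Fin m) F => g.1 *ᵥ (Pi.single (Sum.inr i0) (1 : F))) h
  simp only [tv_coe] at h1
  rw [sympTransvection_mulVec, sympForm_single_inl] at h1
  have h2 := congrFun h1 (Sum.inl i0)
  simp at h2

/-- PSp_{2m}(q) is simple for m at least 2 and (m, q) other than (2, 2). -/
theorem result {F : Type*} [Field F] [Fintype F] (m : ℕ) (hm : 2 ≤ m) (h : m = 2 → 3 ≤ Fintype.card F) : IsSimpleGroup (Cfsg.PSp m F) := by
  have hperf : commutator (symplecticGroup (Fin m) F) = ⊤ := by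
    apply perfect m
    by_cases h3 : 3 ≤ m
    · exact Or.inl h3
    · have h2 : m = 2 := by omega
      exact Or.inr (Or.inl ⟨h2, h h2⟩)
  have := nontrivial_sp (F := F) m (by omega)
  exact isSimpleGroup_quotient_center hperf
    (fun N hN => by
      have := hN
      exact normal_le_center_or_eq_top m hperf N)

end Cfsg.Agent.S0270
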