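import Cfsg.Statements.S5349
import Cfsg.Agent.Lib.Helper3.TT3

set_option autoImplicit false
open Cfsg

namespace Cfsg.Agent.S5349

/-- Let D be a conjugacy class of 3-transpositions generating the finite group G, with at least two members, and d a member of D. Then the set of members of D commuting with exactly the same members of D as d coincides with the set of members of D lying in the coset of d modulo the largest normal 2-subgroup of G, and also with the orbit of d under conjugation by that normal 2-subgroup. -/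
theorem result {G : Type*} [Group G] [Finite G] {D : Set G} (hD : Cfsg.IsThreeTranspositionClass D) (hD2 : ∃ a ∈ D, ∃ b ∈ D, a ≠ b) {d : G} (hd : d ∈ D) : {v : G | v ∈ D ∧ ∀ e ∈ D, Commute v e ↔ Commute d e} = {v : G | v ∈ D ∧ d⁻¹ * v ∈ Cfsg.pCore 2 G} ∧ {v : G | v ∈ D ∧ ∀ e ∈ D, Commute v e ↔ Commute d e} = {v : G | ∃ g ∈ Cfsg.pCore 2 G, v = g * d * g⁻¹} := by
  classical
  have hT := Cfsg.Agent.Lib.Helper3.TT.TSet.of_class hD
  have hn := Cfsg.Agent.Lib.Helper1.pCore_normal (G := G) 2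
  -- the three sets
  have hAC : {v : G | v ∈ D ∧ ∀ e ∈ D, Commute v e ↔ Commute d e} ⊆
      {v : G | ∃ g ∈ Cfsg.pCore 2 G, v = g * d * g⁻¹} := by
    rintro v ⟨hv, hs⟩
    have hs' : Cfsg.Agent.Lib.Helper3.TT.SameP D d v := hs
    have hmem := hT.sameP_mul_mem_pCore hd hv hs'
    obtain ⟨e, he, hed⟩ := Cfsg.Agent.Lib.Helper3.TT.exists_not_comm hD hD2 hd
    have hev : e * v ≠ v * e := by
      intro hh
      exact hed ((hs' e he).mp hh.symm).symm
    have hdv : d * v = v * d := hs'.comm hv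
    refine ⟨e * (d * v) * e, ?_, (hT.string_conj hd he hv hed hev hdv).symm⟩
    have := hn.conj_mem _ hmem e
    rwa [hT.inv he] at this
  have hCB : {v : G | ∃ g ∈ Cfsg.pCore 2 G, v = g * d * g⁻¹} ⊆
      {v : G | v ∈ D ∧ d⁻¹ * v ∈ Cfsg.pCore 2 G} := by
    rintro v ⟨g, hg, rfl⟩
    refine ⟨hT.conj g d hd, ?_⟩
    have h1 : d⁻¹ * g * d⁻¹⁻¹ ∈ Cfsg.pCore 2 G := hn.conj_mem _ hg d⁻¹
    have h2 := mul_mem h1 (inv_mem hg)
    have e1 : d⁻¹ * g * d⁻¹⁻¹ * g⁻¹ = d⁻¹ * (g * d * g⁻¹) := by group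
    rwa [e1] at h2
  have hBA : {v : G | v ∈ D ∧ d⁻¹ * v ∈ Cfsg.pCore 2 G} ⊆
      {v : G | v ∈ D ∧ ∀ e ∈ D, Commute v e ↔ Commute d e} := by
    rintro v ⟨hv, hq⟩
    exact ⟨hv, hT.sameP_of_mem_pCore_two hd hv hq⟩
  exact ⟨Set.Subset.antisymm (hAC.trans hCB) hBA, Set.Subset.antisymm hAC (hCB.trans hBA)⟩

end Cfsg.Agent.S5349
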