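import Cfsg.Statements.S5350
import Cfsg.Agent.Lib.Helper3.TT5

set_option autoImplicit false
open Cfsg

namespace Cfsg.Agent.S5350

/-- Let D be a conjugacy class of 3-transpositions generating the finite group G, with at least two members, and d a member of D. Then the set of members w of D whose commuting partners in D (other than w) are exactly those of d (other than d) coincides with the set of members of D lying in the coset of d modulo the largest normal 3-subgroup of G, and also with the orbit of d under conjugation by that normal 3-subgroup. -/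
theorem result {G : Type*} [Group G] [Finite G] {D : Set G} (hD : Cfsg.IsThreeTranspositionClass D) (hD2 : ∃ a ∈ D, ∃ b ∈ D, a ≠ b) {d : G} (hd : d ∈ D) : {w : G | w ∈ D ∧ {y : G | y ∈ D ∧ y ≠ d ∧ Commute d y} = {y : G | y ∈ D ∧ y ≠ w ∧ Commute w y}} = {w : G | w ∈ D ∧ d⁻¹ * w ∈ Cfsg.pCore 3 G} ∧ {w : G | w ∈ D ∧ {y : G | y ∈ D ∧ y ≠ d ∧ Commute d y} = {y : G | y ∈ D ∧ y ≠ w ∧ Commute w y}} = {w : G | ∃ g ∈ Cfsg.pCore 3 G, w = g * d * g⁻¹} := by
  classical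
  have hT := Cfsg.Agent.Lib.Helper3.TT.TSet.of_class hD
  have hn := Cfsg.Agent.Lib.Helper1.pCore_normal (G := G) 3
  have hAC : {w : G | w ∈ D ∧ {y : G | y ∈ D ∧ y ≠ d ∧ Commute d y} =
        {y : G | y ∈ D ∧ y ≠ w ∧ Commute w y}} ⊆
      {w : G | ∃ g ∈ Cfsg.pCore 3 G, w = g * d * g⁻¹} := by
    rintro w hw
    have hw' : w ∈ Cfsg.Agent.Lib.Helper3.TT.Wc D d := hw
    by_cases hwd : w = d
    · exact ⟨1, one_mem _, by rw [hwd]; group⟩
    · have hmem := Cfsg.Agent.Lib.Helper3.TT.Wc_mul_mem_pCore hD hd hw'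
      have hnc : d * w ≠ w * d := Cfsg.Agent.Lib.Helper3.TT.Wc_not_comm hw' hwd
      exact ⟨d * w, hmem, (hT.conj_eq hd hw'.1 hnc).symm⟩
  have hCB : {w : G | ∃ g ∈ Cfsg.pCore 3 G, w = g * d * g⁻¹} ⊆
      {w : G | w ∈ D ∧ d⁻¹ * w ∈ Cfsg.pCore 3 G} := by
    rintro v ⟨g, hg, rfl⟩
    refine ⟨hT.conj g d hd, ?_⟩
    have h1 : d⁻¹ * g * d⁻¹⁻¹ ∈ Cfsg.pCore 3 G := hn.conj_mem _ hg d⁻¹
    have h2 := mul_mem h1 (inv_mem hg)
    have e1 : d⁻¹ * g * d⁻¹⁻¹ * g⁻¹ = d⁻¹ * (g * d * g⁻¹) := by group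
    rwa [e1] at h2
  have hBA : {w : G | w ∈ D ∧ d⁻¹ * w ∈ Cfsg.pCore 3 G} ⊆
      {w : G | w ∈ D ∧ {y : G | y ∈ D ∧ y ≠ d ∧ Commute d y} =
        {y : G | y ∈ D ∧ y ≠ w ∧ Commute w y}} := by
    rintro w ⟨hw, hq⟩
    exact hT.mem_Wc_of_mem_pCore_three hd hw hq
  exact ⟨Set.Subset.antisymm (hAC.trans hCB) hBA, Set.Subset.antisymm hAC (hCB.trans hBA)⟩

end Cfsg.Agent.S5350
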