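import Mathlib
import Cfsg.Statements.S0200
import Cfsg.Agent.Lib.Lead.BaerSuzuki
import Cfsg.Agent.Lib.Lead.Dihedral
import Cfsg.Agent.S0206

set_option autoImplicit false
open Cfsg
open Cfsg.Agent.Lib.Lead

namespace Cfsg.Agent.S0200

/-- An involution lying in no normal 2-subgroup of a finite group inverts a nontrivial element of odd order (a consequence of the Baer–Suzuki Theorem). -/
theorem result {G : Type*} [Group G] [Finite G] (t : G) (ht : orderOf t = 2) (hO : ∀ N : Subgroup G, N.Normal → IsPGroup 2 N → t ∉ N) : ∃ h : G, h ≠ 1 ∧ Odd (orderOf h) ∧ t * h * t⁻¹ = h⁻¹ := by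
  haveI : Fact (Nat.Prime 2) := ⟨Nat.prime_two⟩
  by_contra hno
  push Not at hno
  set X := Subgroup.zpowers t with hX
  have hXp : IsPGroup 2 X := by
    apply IsPGroup.of_card (n := 1)
    rw [Nat.card_zpowers, ht, pow_one]
  have hpair : ∀ g : G, IsPGroup 2 ↥(X ⊔ BaerSuzuki.cj X g) := by
    intro g
    set v := g * t * g⁻¹ with hv
    have hvo : orderOf v = 2 := by
      have hsc : SemiconjBy g t v := by unfold SemiconjBy; rw [hv]; group
      rw [← hsc.orderOf_eq g]; exact ht
    have hcj : BaerSuzuki.cj X g = Subgroup.zpowers v := by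
      unfold BaerSuzuki.cj
      rw [hX, MonoidHom.map_zpowers]
      rfl
    have hsup : X ⊔ BaerSuzuki.cj X g = Subgroup.closure ({t, v} : Set G) := by
      rw [hcj, hX, Subgroup.zpowers_eq_closure, Subgroup.zpowers_eq_closure,
        ← Subgroup.closure_union, Set.singleton_union]
    rw [hsup]
    by_cases htv : t = v
    · rw [← htv, Set.pair_eq_singleton, ← Subgroup.zpowers_eq_closure]
      exact hXp
    · obtain ⟨e⟩ := Cfsg.Agent.S0206.result t v ht hvo htv
      have hcard : Nat.card ↥(Subgroup.closure ({t, v} : Set G)) = 2 * orderOf (t * v) := by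
        rw [Nat.card_congr e.toEquiv, DihedralGroup.nat_card]
      have hn0 : orderOf (t * v) ≠ 0 := (orderOf_pos (t * v)).ne'
      obtain ⟨a, m, hm, hn⟩ := Nat.exists_eq_two_pow_mul_odd hn0
      have hm1 : m = 1 := by
        by_contra hm1
        set w := (t * v) ^ (2 ^ a) with hw
        have hwo : orderOf w = m := by
          rw [hw, orderOf_pow_of_dvd (by positivity) ⟨m, hn⟩, hn]
          exact Nat.mul_div_cancel_left m (by positivity)
        have hw1 : w ≠ 1 := by
          intro h
          rw [h, orderOf_one] at hwo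
          exact hm1 hwo.symm
        have hinv : t * w * t⁻¹ = w⁻¹ := by
          have := invol_conj_mul_zpow ht hvo ((2 ^ a : ℕ) : ℤ)
          rw [zpow_neg, zpow_natCast] at this
          exact this
        exact hno w hw1 (hwo ▸ hm) hinv
      apply IsPGroup.of_card (n := a + 1)
      rw [hcard, hn, hm1, mul_one, pow_succ, mul_comm]
  obtain ⟨N, hN, hNp, hXN⟩ := BaerSuzuki.baer_suzuki X hpair hXp
  exact hO N hN hNp (hXN (Subgroup.mem_zpowers t))

end Cfsg.Agent.S0200
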