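import Cfsg.Statements.S1471
import Cfsg.Agent.Lib.Helper4.NormTwo3

set_option autoImplicit false
open Cfsg

namespace Cfsg.Agent.S1471

/-- Let p and q be odd primes with (p^q − 1)/(p − 1) coprime to p − 1. Then there are at least two elements a of the field with p ^ q elements such that both a and 2 − a have norm 1 to the prime field. -/
theorem result (p q : ℕ) [Fact p.Prime] [Fact q.Prime] (hp : p ≠ 2) (hq : q ≠ 2) (hA : Nat.Coprime ((p ^ q - 1) / (p - 1)) (p - 1)) :
    2 ≤ Set.ncard {a : GaloisField p q | Algebra.norm (ZMod p) a = 1 ∧ Algebra.norm (ZMod p) (2 - a) = 1} := by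
  classical
  have hq2 : 2 ≤ q := (Fact.out : q.Prime).two_le
  by_cases hq3 : q = 3
  · subst hq3
    obtain ⟨a, ha1, ha2, ha3⟩ := Cfsg.Agent.Lib.Helper4.NormTwo3.exists_ne_one_cubic p
    have hfin : Set.Finite {a : GaloisField p 3 | Algebra.norm (ZMod p) a = 1 ∧ Algebra.norm (ZMod p) (2 - a) = 1} :=
      Set.toFinite _
    have : 1 < Set.ncard {a : GaloisField p 3 | Algebra.norm (ZMod p) a = 1 ∧ Algebra.norm (ZMod p) (2 - a) = 1} := by
      rw [Set.one_lt_ncard_iff hfin]
      refine ⟨a, 1, ⟨ha2, ha3⟩, ⟨by simp, ?_⟩, ha1⟩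
      have : (2 : GaloisField p 3) - 1 = 1 := by ring
      rw [this]; simp
    exact this
  · have hq5 : 4 ≤ q := by
      by_contra h
      have : q = 2 ∨ q = 3 := by omega
      rcases this with h | h
      · exact hq h
      · exact hq3 h
    letI : Fintype (GaloisField p q) := Fintype.ofFinite _
    have hcard : Fintype.card (GaloisField p q) = p ^ q := by
      rw [← Nat.card_eq_fintype_card]
      exact GaloisField.card p q (by omega)
    have hQ : p ^ 4 ≤ Fintype.card (GaloisField p q) := by
      rw [hcard]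
      exact Nat.pow_le_pow_right (Fact.out : p.Prime).pos hq5
    have h := Cfsg.Agent.Lib.Helper4.NormTwo2.two_le_card_sol (p := p) (F := GaloisField p q) hp hQ
    have hset : {a : GaloisField p q | Algebra.norm (ZMod p) a = 1 ∧ Algebra.norm (ZMod p) (2 - a) = 1} =
        ((Cfsg.Agent.Lib.Helper4.NormTwo2.sol p (GaloisField p q) : Finset (GaloisField p q)) : Set (GaloisField p q)) := by
      ext a
      simp [Cfsg.Agent.Lib.Helper4.NormTwo2.sol]
    rw [hset, Set.ncard_coe_finset]
    exact h

end Cfsg.Agent.S1471
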