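import Mathlib
import Cfsg.Statements.S1067
import Cfsg.Agent.Lib.Helper5.Tw3D4Card
import Cfsg.Agent.Lib.Helper5.ChevOrder

set_option autoImplicit false
open Cfsg

namespace Cfsg.Agent.S1067

/-- `|³D₄(q)| = q¹² (q² - 1)(q⁶ - 1)(q⁸ + q⁴ + 1)`, the group being realised inside D₄ over the field with `q³` elements. -/
theorem result {K : Type*} [Field K] [Fintype K] {q : ℕ} (hq : IsPrimePow q) (hK : Fintype.card K = q ^ 3) :
    Nat.card ↥(Cfsg.Lie.twistedD4 K q) = q ^ 12 * (q ^ 2 - 1) * (q ^ 6 - 1) * (q ^ 8 + q ^ 4 + 1) := by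
  open Cfsg.Agent.Lib.Helper5.ChevSym Cfsg.Agent.Lib.Helper5.ChevStruct Cfsg.Agent.Lib.Helper5.Tw3D4 in
  have hq1 : 1 ≤ q := by have := hq.two_le; omega
  have hB := card_twisted hq hK
  have hA := card_diag_twisted hq hK
  have hC : evalP polyD4 q * (q ^ 2 + q + 1)
      = ([2, 6].map fun d => ∑ e ∈ Finset.range d, q ^ e).prod * (q ^ 8 + q ^ 4 + 1) := by
    have h1 := congrArg (fun P => evalP P q) polyD4_mul
    simp only [evalP_mulP, evalP_degPoly] at h1
    have e1 : evalP [1, 1, 1] q = q ^ 2 + q + 1 := by simp [evalP]; ring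
    have e2 : evalP [1, 0, 0, 0, 1, 0, 0, 0, 1] q = q ^ 8 + q ^ 4 + 1 := by simp [evalP]; ring
    rw [e1, e2] at h1
    exact h1
  have hD := pow_length_mul_prod_geom q hq1 [2, 6]
  simp only [List.length_cons, List.length_nil, List.map_cons, List.map_nil, List.prod_cons,
    List.prod_nil, mul_one, zero_add, Nat.reduceAdd] at hD hC
  rw [hB, hA]
  calc q ^ 12 * ((q - 1) ^ 2 * (q ^ 2 + q + 1)) * evalP polyD4 q
      = q ^ 12 * (q - 1) ^ 2 * (evalP polyD4 q * (q ^ 2 + q + 1)) := by ring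
    _ = q ^ 12 * ((q - 1) ^ 2 * ((∑ e ∈ Finset.range 2, q ^ e) * ∑ e ∈ Finset.range 6, q ^ e)) *
          (q ^ 8 + q ^ 4 + 1) := by rw [hC]; ring
    _ = _ := by rw [hD]; ring

end Cfsg.Agent.S1067
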