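import Cfsg.Statements.S4028
import Mathlib
import Cfsg.Agent.Lib.Helper3.Irrational

set_option autoImplicit false
open Cfsg
open Pointwise
open Cfsg.Agent.Lib.Helper3

namespace Cfsg.Agent.S4028


theorem two_elt_of_isPGroup {G : Type*} [Group G] (x : G) (k : ℕ) (hk : x ^ 2 ^ k = 1) :
    ∀ r : ℕ, r.Prime → r ∣ orderOf x → r = 2 := by
  intro r hr hrx
  have h1 : orderOf x ∣ 2 ^ k := orderOf_dvd_of_pow_eq_one hk
  have h2 : r ∣ 2 ^ k := dvd_trans hrx h1
  exact (Nat.prime_dvd_prime_iff_eq hr Nat.prime_two).1 (hr.dvd_of_dvd_pow h2)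

theorem orderOf_two_pow_of_two_elt {G : Type*} [Group G] [Finite G] (x : G)
    (hx : ∀ r : ℕ, r.Prime → r ∣ orderOf x → r = 2) : ∃ k : ℕ, orderOf x = 2 ^ k := by
  have hpos : orderOf x ≠ 0 := (orderOf_pos x).ne'
  obtain ⟨k, m, hm, hkm⟩ := Nat.exists_eq_two_pow_mul_odd hpos
  refine ⟨k, ?_⟩
  have hm1 : m = 1 := by
    by_contra hne
    obtain ⟨r, hr, hrm⟩ := Nat.exists_prime_and_dvd hne
    have h2 : r = 2 := hx r hr (hkm ▸ Dvd.dvd.mul_left hrm _)
    rw [h2] at hrm
    exact (Nat.not_even_iff_odd.2 hm) (even_iff_two_dvd.2 hrm)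
  rw [hkm, hm1, mul_one]

/-- The normalizer condition inside a subgroup versus in the ambient group. -/
theorem coe_mem_normalizer_zpowers_iff {G : Type*} [Group G] [Finite G] (P : Subgroup G) (g y : P) :
    g ∈ Subgroup.normalizer ((Subgroup.zpowers y : Subgroup P) : Set P) ↔
      (g : G) ∈ Subgroup.normalizer ((Subgroup.zpowers (y : G) : Subgroup G) : Set G) := by
  rw [mem_normalizer_zpowers_iff, mem_normalizer_zpowers_iff]
  constructor
  · rintro ⟨k, hk⟩
    refine ⟨k, ?_⟩
    simp only at hk ⊢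
    have := congrArg Subtype.val hk
    simpa using this
  · rintro ⟨k, hk⟩
    refine ⟨k, ?_⟩
    simp only at hk ⊢
    apply Subtype.ext
    simpa using hk

/-- Let G be a finite group with Sylow 2-subgroup P. Then N_G(⟨x⟩) = C_G(x) holds for every 2-element x of G if and only if N_P(⟨y⟩) = C_P(y) holds for every y ∈ P (computed inside P). -/
theorem result {G : Type*} [Group G] [Finite G] (P : Sylow 2 G) :
    (∀ x : G, (∀ r : ℕ, r.Prime → r ∣ orderOf x → r = 2) →
      Subgroup.normalizer ((Subgroup.zpowers x : Subgroup G) : Set G) ≤ Subgroup.centralizer {x}) ↔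
    (∀ y : ↥(P : Subgroup G), Subgroup.normalizer ((Subgroup.zpowers y : Subgroup ↥(P : Subgroup G)) : Set ↥(P : Subgroup G)) ≤
        Subgroup.centralizer {y}) := by
  constructor
  · intro h y g hg
    obtain ⟨k, hk⟩ := P.2 y
    have hk' : (y : G) ^ 2 ^ k = 1 := by
      have := congrArg Subtype.val hk
      simpa using this
    have h1 := h (y : G) (two_elt_of_isPGroup (y : G) k hk')
    have h2 := h1 ((coe_mem_normalizer_zpowers_iff (P : Subgroup G) g y).1 hg)
    rw [Subgroup.mem_centralizer_singleton_iff] at h2 ⊢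
    apply Subtype.ext
    simpa using h2
  · intro h x hx g hg
    obtain ⟨k, hk⟩ := orderOf_two_pow_of_two_elt x hx
    set H := Subgroup.zpowers x with hH
    -- two-elements of the normalizer centralize x
    have hB : ∀ t : G, t ∈ Subgroup.normalizer ((H : Subgroup G) : Set G) → (∃ b : ℕ, orderOf t = 2 ^ b) →
        t ∈ Subgroup.centralizer {x} := by
      intro t ht ⟨b, hb⟩
      have hp1 : IsPGroup 2 (Subgroup.zpowers t) := by
        apply IsPGroup.of_card (n := b)
        rw [Nat.card_zpowers, hb]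
      have hp2 : IsPGroup 2 H := by
        apply IsPGroup.of_card (n := k)
        rw [hH, Nat.card_zpowers, hk]
      have hle : Subgroup.zpowers t ≤ Subgroup.normalizer ((H : Subgroup G) : Set G) := by
        rw [Subgroup.zpowers_le]; exact ht
      have hp3 : IsPGroup 2 (Subgroup.zpowers t ⊔ H : Subgroup G) := hp1.to_sup_of_normal_right' hp2 hle
      obtain ⟨Q, hQ⟩ := hp3.exists_le_sylow
      obtain ⟨c, hc⟩ := MulAction.exists_smul_eq G P Q
      have htQ : t ∈ (Q : Subgroup G) := hQ (Subgroup.mem_sup_left (Subgroup.mem_zpowers t))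
      have hxQ : x ∈ (Q : Subgroup G) := hQ (Subgroup.mem_sup_right (Subgroup.mem_zpowers x))
      have hmemQ : ∀ u : G, u ∈ (Q : Subgroup G) ↔ c⁻¹ * u * c ∈ (P : Subgroup G) := by
        intro u
        rw [← hc, Sylow.coe_subgroup_smul, Subgroup.mem_pointwise_smul_iff_inv_smul_mem]
        simp [MulAut.smul_def]
      set y : ↥(P : Subgroup G) := ⟨c⁻¹ * x * c, (hmemQ x).1 hxQ⟩ with hy
      set s : ↥(P : Subgroup G) := ⟨c⁻¹ * t * c, (hmemQ t).1 htQ⟩ with hs
      have hs1 : s ∈ Subgroup.normalizer ((Subgroup.zpowers y : Subgroup ↥(P : Subgroup G)) : Set ↥(P : Subgroup G)) := by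
        rw [coe_mem_normalizer_zpowers_iff, mem_normalizer_zpowers_iff]
        obtain ⟨j, hj⟩ := (mem_normalizer_zpowers_iff t x).1 ht
        refine ⟨j, ?_⟩
        simp only at hj ⊢
        change (c⁻¹ * x * c) ^ j = c⁻¹ * t * c * (c⁻¹ * x * c) * (c⁻¹ * t * c)⁻¹
        have e1 : c⁻¹ * x * c = c⁻¹ * x * c⁻¹⁻¹ := by rw [inv_inv]
        rw [e1, conj_zpow, hj]; group
      have hs2 := h y hs1
      rw [Subgroup.mem_centralizer_singleton_iff] at hs2 ⊢
      have hs3 : (c⁻¹ * t * c) * (c⁻¹ * x * c) = (c⁻¹ * x * c) * (c⁻¹ * t * c) := by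
        have := congrArg Subtype.val hs2
        simpa using this
      calc t * x = c * ((c⁻¹ * t * c) * (c⁻¹ * x * c)) * c⁻¹ := by group
        _ = c * ((c⁻¹ * x * c) * (c⁻¹ * t * c)) * c⁻¹ := by rw [hs3]
        _ = x * t := by group
    -- odd-order elements of the normalizer centralize x
    have hA : ∀ u : G, u ∈ Subgroup.normalizer ((H : Subgroup G) : Set G) → Odd (orderOf u) →
        u ∈ Subgroup.centralizer {x} := by
      intro u hu hodd
      rw [Subgroup.mem_centralizer_singleton_iff]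
      exact commute_of_mem_normalizer_zpowers_of_odd x u k hk hu hodd
    -- decompose g
    have hgpos : orderOf g ≠ 0 := (orderOf_pos g).ne'
    obtain ⟨a, m, hm, ham⟩ := Nat.exists_eq_two_pow_mul_odd hgpos
    have hm0 : m ≠ 0 := by
      rintro rfl
      simp at hm
    have h1 : orderOf (g ^ m) = 2 ^ a := by
      rw [orderOf_pow_of_dvd hm0 ⟨2 ^ a, by rw [ham, mul_comm]⟩, ham]
      exact Nat.mul_div_cancel _ (Nat.pos_of_ne_zero hm0)
    have h2 : orderOf (g ^ 2 ^ a) = m := by
      rw [orderOf_pow_of_dvd (pow_ne_zero _ two_ne_zero) ⟨m, ham⟩, ham]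
      exact Nat.mul_div_cancel_left _ (pow_pos two_pos a)
    have h3 : g ^ m ∈ Subgroup.centralizer {x} :=
      hB (g ^ m) (Subgroup.pow_mem _ hg m) ⟨a, h1⟩
    have h4 : g ^ 2 ^ a ∈ Subgroup.centralizer {x} :=
      hA (g ^ 2 ^ a) (Subgroup.pow_mem _ hg _) (h2 ▸ hm)
    apply mem_of_pow_mem_of_pow_mem_coprime _ g m (2 ^ a) _ h3 h4
    apply Nat.Coprime.pow_right
    exact Nat.coprime_two_right.2 hm

end Cfsg.Agent.S4028
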