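import Cfsg.Statements.S4032
import Mathlib
import Cfsg.Agent.Lib.Helper3.SZRel
import Cfsg.Agent.Lib.Helper3.PiLift

set_option autoImplicit false
open Cfsg
open Pointwise

namespace Cfsg.Agent.S4032


theorem mem_zpowers_conj_iff {G : Type*} [Group G] (g x u : G) :
    u ∈ Subgroup.zpowers (g * x * g⁻¹) ↔ g⁻¹ * u * g ∈ Subgroup.zpowers x := by
  constructor
  · rintro ⟨k, rfl⟩
    refine ⟨k, ?_⟩
    simp only
    rw [conj_zpow]; group
  · rintro ⟨k, hk⟩
    refine ⟨k, ?_⟩
    simp only at hk ⊢
    rw [conj_zpow, hk]; group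

/-- The irrationality condition passes to quotients by normal `π'`-subgroups, one element at a
time: if `x` is a `π`-element with `N(⟨x⟩) = C(x)` and `N` is a normal subgroup of order coprime
to that of `x`, then the image of `x` in `G/N` has the same property. -/
theorem quotient_irrational_aux {G : Type*} [Group G] [Finite G] (N : Subgroup G) [N.Normal]
    (x : G) (hcop : (Nat.card N).Coprime (orderOf x))
    (hirr : Subgroup.normalizer ((Subgroup.zpowers x : Subgroup G) : Set G) ≤ Subgroup.centralizer {x}) :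
    Subgroup.normalizer ((Subgroup.zpowers (QuotientGroup.mk' N x) : Subgroup (G ⧸ N)) : Set (G ⧸ N)) ≤
      Subgroup.centralizer {QuotientGroup.mk' N x} := by
  intro gbar hg
  obtain ⟨g, rfl⟩ := QuotientGroup.mk'_surjective N gbar
  set y := QuotientGroup.mk' N x with hy
  set x' := g * x * g⁻¹ with hx'
  set H := Subgroup.zpowers x with hH
  set K := Subgroup.zpowers x' with hK
  have hcardK : Nat.card K = Nat.card H := by
    rw [hK, hH, Nat.card_zpowers, Nat.card_zpowers]
    have := (MulAut.conj g).orderOf_eq x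
    rw [MulAut.conj_apply] at this
    exact this
  have hKle : K ≤ H ⊔ N := by
    rw [hK, Subgroup.zpowers_le]
    have h1 := (Subgroup.mem_normalizer_iff.1 hg y).1 (Subgroup.mem_zpowers y)
    obtain ⟨k, hk⟩ := h1
    simp only at hk
    have h2 : QuotientGroup.mk' N (x ^ k) = QuotientGroup.mk' N x' := by
      rw [map_zpow, ← hy, hk, hx', map_mul, map_mul, map_inv]
    have h3 : (x ^ k)⁻¹ * x' ∈ N := by
      have := (QuotientGroup.eq (s := N)).1 h2
      exact this
    have h4 : x' = x ^ k * ((x ^ k)⁻¹ * x') := by group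
    rw [h4]
    exact Subgroup.mul_mem_sup (Subgroup.zpow_mem_zpowers x k) h3
  have hcop' : (Nat.card N).Coprime (Nat.card H) := by
    rw [hH, Nat.card_zpowers]; exact hcop
  have hsolv : Group.IsSolvable N ∨ Group.IsSolvable H := by
    right
    haveI : IsCyclic H := by rw [hH]; infer_instance
    haveI : IsMulCommutative H := IsCyclic.commutative
    exact isSolvable_of_comm (fun a b => mul_comm' a b)
  obtain ⟨n, hnN, hn⟩ := Cfsg.Agent.Lib.Helper3.sz_conj_rel N H K hcop' hKle hcardK hsolv
  have hw : n⁻¹ * g ∈ Subgroup.normalizer ((H : Subgroup G) : Set G) := by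
    rw [Subgroup.mem_normalizer_iff]
    intro h
    have key : n⁻¹ * g * h * (n⁻¹ * g)⁻¹ ∈ H ↔ g * h * g⁻¹ ∈ K := by
      rw [← hn, Cfsg.Agent.Lib.Helper3.mem_conj_smul_iff]
      have : n⁻¹ * g * h * (n⁻¹ * g)⁻¹ = n⁻¹ * (g * h * g⁻¹) * n := by group
      rw [this]
    rw [key, hK, hx', mem_zpowers_conj_iff]
    have : g⁻¹ * (g * h * g⁻¹) * g = h := by group
    rw [this]
  have hc := hirr hw
  rw [Subgroup.mem_centralizer_singleton_iff] at hc ⊢
  have hgn : QuotientGroup.mk' N (n⁻¹ * g) = QuotientGroup.mk' N g := by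
    rw [map_mul, map_inv]
    have : QuotientGroup.mk' N n = 1 := (QuotientGroup.eq_one_iff n).2 hnN
    rw [this, inv_one, one_mul]
  rw [← hgn, ← map_mul, ← map_mul, hc]

/-- Let π be a set of primes and G a finite group in which N_G(⟨x⟩) = C_G(x) for every π-element x. If N is a normal subgroup of G whose order is divisible by no prime of π, then G/N has the same property: N_{G/N}(⟨y⟩) = C_{G/N}(y) for every π-element y of G/N. -/
theorem result {G : Type*} [Group G] [Finite G] (π : Set ℕ)
    (hirr : ∀ x : G, (∀ r : ℕ, r.Prime → r ∣ orderOf x → r ∈ π) →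
      Subgroup.normalizer ((Subgroup.zpowers x : Subgroup G) : Set G) ≤ Subgroup.centralizer {x})
    (N : Subgroup G) [N.Normal] (hN : ∀ r : ℕ, r.Prime → r ∣ Nat.card N → r ∉ π) :
    ∀ y : G ⧸ N, (∀ r : ℕ, r.Prime → r ∣ orderOf y → r ∈ π) →
      Subgroup.normalizer ((Subgroup.zpowers y : Subgroup (G ⧸ N)) : Set (G ⧸ N)) ≤ Subgroup.centralizer {y} := by
  intro y hy
  obtain ⟨x, hxy, hx⟩ := Cfsg.Agent.Lib.Helper3.exists_pi_lift (QuotientGroup.mk' N)
    (QuotientGroup.mk'_surjective N) π y hy
  have hcop : (Nat.card N).Coprime (orderOf x) := by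
    apply Nat.Coprime.symm
    apply Nat.coprime_of_dvd
    intro r hr hrx hrN
    exact hN r hr hrN (hx r hr hrx)
  rw [← hxy]
  exact quotient_irrational_aux N x hcop (hirr x hx)

end Cfsg.Agent.S4032
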