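import Cfsg.Statements.S4027
import Mathlib
import Cfsg.Agent.Lib.Helper3.Irrational
import Cfsg.Agent.Lib.Helper1.MaxInter
import Cfsg.Agent.S4028
import Cfsg.Agent.S4032

set_option autoImplicit false
open Cfsg
open Pointwise
open Cfsg.Agent.Lib.Helper3

universe u

namespace Cfsg.Agent.S4027


/-- Every odd-order element `x` has `N(⟨x⟩) = C(x)`. -/
def OddIrr (G : Type*) [Group G] : Prop :=
  ∀ x : G, (∀ r : ℕ, r.Prime → r ∣ orderOf x → r ≠ 2) →
    Subgroup.normalizer ((Subgroup.zpowers x : Subgroup G) : Set G) ≤ Subgroup.centralizer {x}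

theorem OddIrr.subgroup {G : Type*} [Group G] [Finite G] (h : OddIrr G) (M : Subgroup G) :
    OddIrr ↥M := by
  intro x hx g hg
  have h1 : ∀ r : ℕ, r.Prime → r ∣ orderOf (x : G) → r ≠ 2 := by
    intro r hr hrx
    rw [Subgroup.orderOf_coe] at hrx
    exact hx r hr hrx
  have h2 := h (x : G) h1 ((Cfsg.Agent.S4028.coe_mem_normalizer_zpowers_iff M g x).1 hg)
  rw [Subgroup.mem_centralizer_singleton_iff] at h2 ⊢
  apply Subtype.ext
  simpa using h2

theorem OddIrr.quotient {G : Type*} [Group G] [Finite G] (h : OddIrr G) (N : Subgroup G)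
    [N.Normal] (hN : IsPGroup 2 N) : OddIrr (G ⧸ N) := by
  have hN' : ∀ r : ℕ, r.Prime → r ∣ Nat.card N → r ∉ {r : ℕ | r ≠ 2} := by
    intro r hr hrN
    obtain ⟨k, hk⟩ := IsPGroup.iff_card.1 hN
    rw [hk] at hrN
    have : r = 2 := (Nat.prime_dvd_prime_iff_eq hr Nat.prime_two).1 (hr.dvd_of_dvd_pow hrN)
    simp [this]
  exact Cfsg.Agent.S4032.result {r : ℕ | r ≠ 2} h N hN'

/-- A variant of the maximal intersection argument. -/
theorem false_of_max_inter {G : Type u} [Group G] [Finite G] (X : Set (Subgroup G))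
    (hnil : ∀ P ∈ X, Group.IsNilpotent P)
    (hanti : ∀ P ∈ X, ∀ Q ∈ X, P ≤ Q → P = Q)
    (P₁ P₂ : Subgroup G) (h₁ : P₁ ∈ X) (h₂ : P₂ ∈ X) (hne : P₁ ≠ P₂)
    (hmax : ∀ Q₁ ∈ X, ∀ Q₂ ∈ X, Q₁ ≠ Q₂ →
      Nat.card (Q₁ ⊓ Q₂ : Subgroup G) ≤ Nat.card (P₁ ⊓ P₂ : Subgroup G))
    (P₃ : Subgroup G) (h₃ : P₃ ∈ X)
    (hle : ∀ P ∈ X, P ⊓ Subgroup.normalizer ((P₁ ⊓ P₂ : Subgroup G) : Set G) ≤ P₃) : False := by
  set D := P₁ ⊓ P₂ with hD
  have hD3 : D ≤ P₃ := by
    intro d hd
    exact hle P₁ h₁ ⟨hd.1, Subgroup.le_normalizer hd⟩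
  have key : ∀ P ∈ X, D < P → P₃ = P := by
    intro P hP hlt
    by_contra hne3
    obtain ⟨x, hxP, hxN, hxD⟩ :=
      Cfsg.Agent.Lib.Helper1.exists_mem_normalizer_not_mem_of_lt (hnil P hP) hlt
    have h1 := hmax P₃ h₃ P hP hne3
    have h2 : D < P₃ ⊓ P := by
      refine lt_of_le_of_ne (le_inf hD3 hlt.le) ?_
      intro heq
      apply hxD
      rw [heq]
      exact ⟨hle P hP ⟨hxP, hxN⟩, hxP⟩
    have h3 : Nat.card D < Nat.card (P₃ ⊓ P : Subgroup G) :=
      Set.ncard_lt_ncard h2 (Set.toFinite _)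
    omega
  have hlt1 : D < P₁ := by
    refine lt_of_le_of_ne inf_le_left ?_
    intro heq
    have : P₁ ≤ P₂ := by rw [← heq]; exact inf_le_right
    exact hne (hanti P₁ h₁ P₂ h₂ this)
  have hlt2 : D < P₂ := by
    refine lt_of_le_of_ne inf_le_right ?_
    intro heq
    have : P₂ ≤ P₁ := by rw [← heq]; exact inf_le_left
    exact hne (hanti P₂ h₂ P₁ h₁ this).symm
  exact hne ((key P₁ h₁ hlt1).symm.trans (key P₂ h₂ hlt2))

/-- If every proper subgroup has a normal Sylow `p`-subgroup and `O_p(G) = 1`, then the Sylow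
`p`-subgroups of `G` intersect trivially. -/
theorem sylow_TI_of_proper_closed {G : Type u} [Group G] [Finite G] (p : ℕ) [Fact p.Prime]
    (hprop : ∀ M : Subgroup G, M ≠ ⊤ → ∀ R : Sylow p ↥M, (R : Subgroup ↥M).Normal)
    (hO : ∀ N : Subgroup G, N.Normal → IsPGroup p N → N = ⊥)
    (S T : Sylow p G) (hST : S ≠ T) : (S : Subgroup G) ⊓ (T : Subgroup G) = ⊥ := by
  by_contra hbot
  set X : Set (Subgroup G) := Set.range (fun S : Sylow p G => (S : Subgroup G)) with hX
  have hSX : (S : Subgroup G) ∈ X := ⟨S, rfl⟩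
  have hTX : (T : Subgroup G) ∈ X := ⟨T, rfl⟩
  have hne : (S : Subgroup G) ≠ (T : Subgroup G) := fun h => hST (Sylow.ext h)
  obtain ⟨P₁, h₁, P₂, h₂, hne12, hcard, hmax⟩ :=
    Cfsg.Agent.Lib.Helper1.exists_max_inter X (S : Subgroup G) (T : Subgroup G) hSX hTX hne
  have hnil : ∀ P ∈ X, Group.IsNilpotent P := by
    rintro _ ⟨Q, rfl⟩
    exact Q.2.isNilpotent
  have hanti : ∀ P ∈ X, ∀ Q ∈ X, P ≤ Q → P = Q := by
    rintro _ ⟨Q₁, rfl⟩ _ ⟨Q₂, rfl⟩ hle
    apply Subgroup.eq_of_le_of_card_ge hle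
    rw [Sylow.card_eq_multiplicity, Sylow.card_eq_multiplicity]
  set D := P₁ ⊓ P₂ with hD
  have hDne : D ≠ ⊥ := by
    intro h
    apply hbot
    apply Subgroup.eq_bot_of_card_le
    rw [h, Subgroup.card_bot] at hcard
    exact hcard
  obtain ⟨Q₁, hQ₁⟩ := h₁
  have hDQ : D ≤ (Q₁ : Subgroup G) := by
    have : (Q₁ : Subgroup G) = P₁ := hQ₁
    rw [this]; exact inf_le_left
  have hDp : IsPGroup p D := Q₁.2.to_le hDQ
  set N := Subgroup.normalizer ((D : Subgroup G) : Set G) with hN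
  have hNtop : N ≠ ⊤ := by
    intro h
    have : D.Normal := Subgroup.normalizer_eq_top_iff.1 h
    exact hDne (hO D this hDp)
  -- the normal Sylow subgroup of N
  obtain ⟨R⟩ : Nonempty (Sylow p ↥N) := inferInstance
  have hRn : (R : Subgroup ↥N).Normal := hprop N hNtop R
  have hRp : IsPGroup p ((R : Subgroup ↥N).map N.subtype) := R.2.map N.subtype
  obtain ⟨Q₃, hQ₃⟩ := hRp.exists_le_sylow
  apply false_of_max_inter X hnil hanti P₁ P₂ ⟨Q₁, hQ₁⟩ h₂ hne12 hmax (Q₃ : Subgroup G) ⟨Q₃, rfl⟩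
  rintro _ ⟨Q, rfl⟩
  intro x hx
  apply hQ₃
  have hxN : x ∈ N := hx.2
  -- the p-subgroup (Q ⊓ N) of N lies in R
  have hp1 : IsPGroup p (((Q : Subgroup G) ⊓ N).subgroupOf N) := by
    have : IsPGroup p ((Q : Subgroup G) ⊓ N : Subgroup G) := Q.2.to_le inf_le_left
    exact this.comap_of_injective N.subtype N.subtype_injective
  obtain ⟨R', hR'⟩ := hp1.exists_le_sylow
  haveI := Sylow.unique_of_normal R hRn
  have hRR' : R' = R := Subsingleton.elim _ _
  rw [hRR'] at hR'
  have : (⟨x, hxN⟩ : N) ∈ (R : Subgroup ↥N) := hR' (by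
    rw [Subgroup.mem_subgroupOf]; exact hx)
  exact ⟨⟨x, hxN⟩, this, rfl⟩

/-- Under odd-irrationality, two involutions lie in a common Sylow 2-subgroup. -/
theorem exists_sylow_of_involutions {G : Type*} [Group G] [Finite G] (h : OddIrr G) (s t : G)
    (hs : orderOf s = 2) (ht : orderOf t = 2) :
    ∃ Q : Sylow 2 G, s ∈ (Q : Subgroup G) ∧ t ∈ (Q : Subgroup G) := by
  have hs2 : s * s = 1 := by rw [← pow_two, ← hs, pow_orderOf_eq_one]
  have ht2 : t * t = 1 := by rw [← pow_two, ← ht, pow_orderOf_eq_one]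
  have hsinv : s⁻¹ = s := inv_eq_of_mul_eq_one_left hs2
  have htinv : t⁻¹ = t := inv_eq_of_mul_eq_one_left ht2
  set d := s * t with hd
  have hsd : s * d * s⁻¹ = d⁻¹ := by
    rw [hd, mul_inv_rev, hsinv, htinv, ← mul_assoc, hs2, one_mul]
  have hdpos : orderOf d ≠ 0 := (orderOf_pos d).ne'
  obtain ⟨a, m, hm, ham⟩ := Nat.exists_eq_two_pow_mul_odd hdpos
  set d' := d ^ 2 ^ a with hd'
  have hod' : orderOf d' = m := by
    rw [hd', orderOf_pow_of_dvd (pow_ne_zero _ two_ne_zero) ⟨m, ham⟩, ham]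
    exact Nat.mul_div_cancel_left _ (pow_pos two_pos a)
  have hsd' : s * d' * s⁻¹ = d'⁻¹ := by
    rw [hd', ← conj_pow, hsd, inv_pow]
  have hsN : s ∈ Subgroup.normalizer ((Subgroup.zpowers d' : Subgroup G) : Set G) := by
    rw [mem_normalizer_zpowers_iff, hsd']
    exact Subgroup.inv_mem _ (Subgroup.mem_zpowers d')
  have hd'odd : ∀ r : ℕ, r.Prime → r ∣ orderOf d' → r ≠ 2 := by
    intro r _ hrd h2
    rw [hod', h2] at hrd
    exact (Nat.not_even_iff_odd.2 hm) (even_iff_two_dvd.2 hrd)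
  have hc := h d' hd'odd hsN
  rw [Subgroup.mem_centralizer_singleton_iff] at hc
  have hd'1 : d' = d'⁻¹ := by
    calc d' = s * d' * s⁻¹ := by rw [hc]; group
      _ = d'⁻¹ := hsd'
  have hd'2 : d' ^ 2 = 1 := by
    rw [pow_two]
    nth_rewrite 1 [hd'1]
    simp
  have hm1 : m = 1 := by
    have h1 : m ∣ 2 := hod' ▸ orderOf_dvd_of_pow_eq_one hd'2
    have h2 : m.Coprime 2 := Nat.coprime_two_right.2 hm
    exact h2.eq_one_of_dvd h1
  have hod : orderOf d = 2 ^ a := by rw [ham, hm1, mul_one]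
  have hp1 : IsPGroup 2 (Subgroup.zpowers s) := by
    apply IsPGroup.of_card (n := 1)
    rw [Nat.card_zpowers, hs, pow_one]
  have hp2 : IsPGroup 2 (Subgroup.zpowers d) := by
    apply IsPGroup.of_card (n := a)
    rw [Nat.card_zpowers, hod]
  have hle : Subgroup.zpowers s ≤ Subgroup.normalizer ((Subgroup.zpowers d : Subgroup G) : Set G) := by
    rw [Subgroup.zpowers_le, mem_normalizer_zpowers_iff, hsd]
    exact Subgroup.inv_mem _ (Subgroup.mem_zpowers d)
  have hp3 : IsPGroup 2 (Subgroup.zpowers s ⊔ Subgroup.zpowers d : Subgroup G) :=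
    hp1.to_sup_of_normal_right' hp2 hle
  obtain ⟨Q, hQ⟩ := hp3.exists_le_sylow
  have hsQ : s ∈ (Q : Subgroup G) := hQ (Subgroup.mem_sup_left (Subgroup.mem_zpowers s))
  have hdQ : d ∈ (Q : Subgroup G) := hQ (Subgroup.mem_sup_right (Subgroup.mem_zpowers d))
  refine ⟨Q, hsQ, ?_⟩
  have : t = s⁻¹ * d := by rw [hd]; group
  rw [this]
  exact Subgroup.mul_mem _ (Subgroup.inv_mem _ hsQ) hdQ

theorem main (n : ℕ) : ∀ (G : Type u) [Group G] [Finite G], Nat.card G = n → OddIrr G →
    ∀ P : Sylow 2 G, (P : Subgroup G).Normal := by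
  induction n using Nat.strong_induction_on with
  | _ n ih =>
  intro G _ _ hcard hirr P
  haveI : Fact (Nat.Prime 2) := ⟨Nat.prime_two⟩
  set O := (P : Subgroup G).normalCore with hOdef
  have hOP : O ≤ (P : Subgroup G) := Subgroup.normalCore_le _
  have hOp : IsPGroup 2 O := P.2.to_le hOP
  by_cases hO : O = ⊥
  · -- every proper subgroup is 2-closed
    have hprop : ∀ M : Subgroup G, M ≠ ⊤ → ∀ R : Sylow 2 ↥M, (R : Subgroup ↥M).Normal := by
      intro M hM R
      have hlt : Nat.card M < n := by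
        rw [← hcard]
        exact lt_of_le_of_ne (Subgroup.card_le_card_group M) (fun h => hM (Subgroup.eq_top_of_card_eq M h))
      exact ih (Nat.card M) hlt ↥M rfl (hirr.subgroup M) R
    have hO' : ∀ N : Subgroup G, N.Normal → IsPGroup 2 N → N = ⊥ := by
      intro N hN hNp
      obtain ⟨Q, hQ⟩ := hNp.exists_le_sylow
      obtain ⟨c, hc⟩ := MulAction.exists_smul_eq G Q P
      have hNP : N ≤ (P : Subgroup G) := by
        intro x hx
        have h1 : c⁻¹ * x * c ∈ (Q : Subgroup G) := by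
          apply hQ
          have := hN.conj_mem x hx c⁻¹
          simpa using this
        rw [← hc, Sylow.coe_subgroup_smul, Subgroup.mem_pointwise_smul_iff_inv_smul_mem]
        simpa [MulAut.smul_def] using h1
      have : N ≤ O := (Subgroup.normal_le_normalCore (hN := hN)).2 hNP
      rw [hO] at this
      exact le_bot_iff.1 this
    have hTI := sylow_TI_of_proper_closed 2 hprop hO'
    by_cases h2 : 2 ∣ Nat.card G
    · obtain ⟨s₀, hs₀⟩ := exists_prime_orderOf_dvd_card' 2 h2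
      have hs₀1 : s₀ ≠ 1 := by
        intro h; rw [h, orderOf_one] at hs₀; omega
      have hp0 : IsPGroup 2 (Subgroup.zpowers s₀) := by
        apply IsPGroup.of_card (n := 1)
        rw [Nat.card_zpowers, hs₀, pow_one]
      obtain ⟨S, hS⟩ := hp0.exists_le_sylow
      have hs₀S : s₀ ∈ (S : Subgroup G) := hS (Subgroup.mem_zpowers s₀)
      have hinv : ∀ t : G, orderOf t = 2 → t ∈ (S : Subgroup G) := by
        intro t ht
        obtain ⟨Q, hsQ, htQ⟩ := exists_sylow_of_involutions hirr s₀ t hs₀ ht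
        have : Q = S := by
          by_contra hne
          have h1 := hTI Q S hne
          have h2 : s₀ ∈ (Q : Subgroup G) ⊓ (S : Subgroup G) := ⟨hsQ, hs₀S⟩
          rw [h1, Subgroup.mem_bot] at h2
          exact hs₀1 h2
        rw [← this]; exact htQ
      have hfix : ∀ g : G, g • S = S := by
        intro g
        by_contra hne
        have h1 := hTI (g • S) S hne
        have h3 : orderOf (g * s₀ * g⁻¹) = 2 := by
          have := (MulAut.conj g).orderOf_eq s₀
          rw [MulAut.conj_apply] at this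
          rw [this, hs₀]
        have h4 : g * s₀ * g⁻¹ ∈ ((g • S : Sylow 2 G) : Subgroup G) := by
          rw [Sylow.coe_subgroup_smul, Subgroup.mem_pointwise_smul_iff_inv_smul_mem]
          simpa [MulAut.smul_def, mul_assoc] using hs₀S
        have h5 : g * s₀ * g⁻¹ ∈ ((g • S : Sylow 2 G) : Subgroup G) ⊓ (S : Subgroup G) :=
          ⟨h4, hinv _ h3⟩
        rw [h1, Subgroup.mem_bot] at h5
        apply hs₀1
        have : s₀ = g⁻¹ * (g * s₀ * g⁻¹) * g := by group
        rw [this, h5]; group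
      obtain ⟨c, hc⟩ := MulAction.exists_smul_eq G S P
      rw [hfix c] at hc
      rw [← hc]
      apply Subgroup.normalizer_eq_top_iff.1
      rw [eq_top_iff]
      intro g _
      exact Sylow.smul_eq_iff_mem_normalizer.1 (hfix g)
    · have hPbot : (P : Subgroup G) = ⊥ := by
        obtain ⟨k, hk⟩ := IsPGroup.iff_card.1 P.2
        have hdvd : Nat.card (P : Subgroup G) ∣ Nat.card G := Subgroup.card_subgroup_dvd_card _
        cases k with
        | zero =>
          rw [pow_zero] at hk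
          exact Subgroup.eq_bot_of_card_eq _ hk
        | succ k =>
          exfalso; apply h2
          rw [hk] at hdvd
          exact dvd_trans (dvd_pow_self 2 (Nat.succ_ne_zero k)) hdvd
      rw [hPbot]
      infer_instance
  · -- pass to the quotient by O
    have hirrQ : OddIrr (G ⧸ O) := hirr.quotient O hOp
    have hlt : Nat.card (G ⧸ O) < n := by
      rw [← hcard, Subgroup.card_eq_card_quotient_mul_card_subgroup O]
      have h1 : 1 < Nat.card O := by
        rw [Subgroup.one_lt_card_iff_ne_bot]; exact hO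
      have h2 : 0 < Nat.card (G ⧸ O) := Nat.card_pos
      nlinarith
    set P' : Sylow 2 (G ⧸ O) := P.mapSurjective (QuotientGroup.mk'_surjective O) with hP'
    have hP'n : (P' : Subgroup (G ⧸ O)).Normal := ih _ hlt (G ⧸ O) rfl hirrQ P'
    have hcomap : (P' : Subgroup (G ⧸ O)).comap (QuotientGroup.mk' O) = (P : Subgroup G) := by
      rw [hP', Sylow.coe_mapSurjective, Subgroup.comap_map_eq, QuotientGroup.ker_mk']
      exact sup_eq_left.2 hOP
    rw [← hcomap]
    exact hP'n.comap _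

/-- Let G be a finite group in which every element x of odd order satisfies N_G(⟨x⟩) = C_G(x). Then the Sylow 2-subgroups of G are normal. -/
theorem result {G : Type*} [Group G] [Finite G]
    (hirr : ∀ x : G, (∀ r : ℕ, r.Prime → r ∣ orderOf x → r ≠ 2) →
      Subgroup.normalizer ((Subgroup.zpowers x : Subgroup G) : Set G) ≤ Subgroup.centralizer {x}) (P : Sylow 2 G) :
    (P : Subgroup G).Normal := by
  exact main _ G rfl hirr P

end Cfsg.Agent.S4027
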