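import Cfsg.Statements.S4454
import Cfsg.Agent.Lib.Helper3.GallagherDecomp2
import Cfsg.Agent.Lib.Helper3.GlauCyc12
import Cfsg.Agent.Lib.Helper6.Ramified
import Cfsg.Agent.Lib.Helper6.Auto
import Cfsg.Agent.S0886
import Cfsg.Agent.S0146

set_option autoImplicit false
open Cfsg Cfsg.Agent.Lib.Helper6 Cfsg.Agent.Lib.Helper3.GlauCyc Cfsg.Agent.Lib.Helper3.GallagherDecomp
open scoped ComplexConjugate

namespace Cfsg.Agent.S4454

/-- the induced function of a `Γ`-invariant function is `Γ`-invariant -/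
theorem indFun_conj_invariant {Γ : Type*} [Group Γ] [Fintype Γ] (G N : Subgroup Γ) [hG : G.Normal]
    [hN : N.Normal] [Fintype G] (θ : N → ℂ)
    (hinv : ∀ (x : Γ) (n : N), θ ⟨x * n * x⁻¹, hN.conj_mem n n.2 x⟩ = θ n) (x : Γ) (g : G) :
    Cfsg.indFun (N.subgroupOf G) (fun n : N.subgroupOf G => θ ⟨(n : G), n.2⟩)
        ⟨x * g * x⁻¹, hG.conj_mem g g.2 x⟩
      = Cfsg.indFun (N.subgroupOf G) (fun n : N.subgroupOf G => θ ⟨(n : G), n.2⟩) g := by
  classical
  unfold Cfsg.indFun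
  congr 1
  set θ' : N.subgroupOf G → ℂ := fun n => θ ⟨(n : G), n.2⟩ with hθ'
  let α : G ≃* G := MulAut.conjNormal x
  have hα : ∀ z : G, ((α z : G) : Γ) = x * z * x⁻¹ := fun z => by
    simp only [α, MulAut.conjNormal_apply]
  have hext : ∀ z : G, Cfsg.extendByZero (N.subgroupOf G) θ' (α z)
      = Cfsg.extendByZero (N.subgroupOf G) θ' z := by
    intro z
    by_cases hz : z ∈ N.subgroupOf G
    · have hz' : α z ∈ N.subgroupOf G := by
        rw [Subgroup.mem_subgroupOf, hα]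
        exact hN.conj_mem _ hz x
      rw [extendByZero_of_mem _ _ hz, extendByZero_of_mem _ _ hz']
      simp only [hθ']
      have := hinv x ⟨(z : Γ), hz⟩
      rw [← this]
      congr 1
    · have hz' : α z ∉ N.subgroupOf G := by
        intro h
        apply hz
        rw [Subgroup.mem_subgroupOf] at h ⊢
        rw [hα] at h
        have := hN.conj_mem _ h x⁻¹
        simpa [mul_assoc] using this
      rw [extendByZero_of_not_mem _ _ hz, extendByZero_of_not_mem _ _ hz']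
  rw [← Equiv.sum_comp α.toEquiv]
  apply Finset.sum_congr rfl
  intro y _
  rw [← hext (y⁻¹ * g * y)]
  congr 1
  apply Subtype.ext
  simp only [MulEquiv.toEquiv_eq_coe, EquivLike.coe_coe, Subgroup.coe_mul, Subgroup.coe_inv, hα]
  group


/-- Let N ≤ G be normal subgroups of the finite group Γ with Γ/G cyclic and Γ/N a Frobenius group with kernel G/N: G ≠ Γ, N ≠ G, and no element of Γ outside G fixes a non-identity coset of N in G under conjugation. Let ϑ be an irreducible character of N invariant under conjugation by Γ and suppose ϑ is fully ramified in G: the character of G induced from ϑ equals e·χ for an irreducible character χ of G and a natural number e. Then the index of G in Γ divides e − 1 or e + 1. -/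
theorem result {Γ : Type*} [Group Γ] [Fintype Γ] (G N : Subgroup Γ) [hG : G.Normal] [hN : N.Normal] [Fintype G] [Fintype N] (hNG : N ≤ G) (hGlt : G ≠ ⊤) (hNlt : N ≠ G) (hcyc : IsCyclic (Γ ⧸ G)) (hfrob : ∀ x : Γ, x ∉ G → ∀ g : Γ, g ∈ G → x * g * x⁻¹ * g⁻¹ ∈ N → g ∈ N) (θ : Cfsg.IrrCharacter N) (hinv : ∀ (x : Γ) (n : N), (θ : N → ℂ) ⟨x * n * x⁻¹, hN.conj_mem n n.2 x⟩ = (θ : N → ℂ) n) (χ : Cfsg.IrrCharacter G) (e : ℕ) (hram : Cfsg.indFun (N.subgroupOf G) (fun n : N.subgroupOf G => (θ : N → ℂ) ⟨(n : G), n.2⟩) = fun g => (e : ℂ) * (χ : G → ℂ) g) : (G.index : ℤ) ∣ (e : ℤ) - 1 ∨ (G.index : ℤ) ∣ (e : ℤ) + 1 := by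
  classical
  -- Step 0 : the character θ' of N' = N ∩ G
  have hN'n : (N.subgroupOf G).Normal := inferInstance
  have : Fintype (N.subgroupOf G) := Fintype.ofFinite _
  set θ' : N.subgroupOf G → ℂ := fun n => (θ : N → ℂ) ⟨(n : G), n.2⟩ with hθ'
  have hθ'irr : Cfsg.IsIrrCharacter (N.subgroupOf G) θ' :=
    IsIrrCharacter.comp_mulEquiv (Subgroup.subgroupOfEquivOfLe hNG) θ.2
  have hθ1 : (θ : N → ℂ) 1 ≠ 0 := IsIrrCharacter.apply_one_ne_zero θ.2
  have he0 : (e : ℂ) ≠ 0 := by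
    intro h0
    have h1 := congrFun hram 1
    rw [indFun_one, h0, zero_mul] at h1
    rcases mul_eq_zero.mp h1 with h | h
    · have : (N.subgroupOf G).index ≠ 0 := Subgroup.index_ne_zero_of_finite
      exact this (by exact_mod_cast h)
    · exact hθ1 h
  -- Step 2 : χ is Γ-invariant
  have hχinv : ∀ (x : Γ) (g : G), (χ : G → ℂ) ⟨x * g * x⁻¹, hG.conj_mem g g.2 x⟩ = (χ : G → ℂ) g := by
    intro x g
    have h1 := indFun_conj_invariant G N (θ : N → ℂ) hinv x g
    rw [hram] at h1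
    exact mul_left_cancel₀ he0 h1
  -- Step 3 : the extension of χ
  obtain ⟨χh, hχh, hχhext⟩ := Cfsg.Agent.S0886.result G hcyc (χ : G → ℂ) χ.2 hχinv
  have hχres : Cfsg.IsIrrCharacter G (fun g : G => χh g) := by
    rw [funext hχhext]; exact χ.2
  -- Step 4 : χ restricted to N is e θ
  have hrec := Cfsg.Agent.S0146.result (N.subgroupOf G) θ' (χ : G → ℂ)
    (IsIrrCharacter.isClassFunction χ.2)
  have hinner : Cfsg.classInner (fun n : N.subgroupOf G => (χ : G → ℂ) n) θ' = (e : ℂ) := by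
    rw [← classInner_conj_symm, ← hrec, hram]
    have : (fun g : G => (e : ℂ) * (χ : G → ℂ) g) = (e : ℂ) • (χ : G → ℂ) := rfl
    rw [this, classInner_smul_left, classInner_irrCharacter, if_pos rfl, mul_one, map_natCast]
  have hinv' : ∀ g : G, conjFun (N.subgroupOf G) hN'n θ' g = θ' := by
    intro g
    funext n
    rw [conjFun_apply]
    exact hinv (g : Γ) ⟨((n : G) : Γ), n.2⟩
  have hres := restrict_eq_smul_of_invariant (N.subgroupOf G) hN'n χ.2 hθ'irr hinv'
    (by rw [hinner]; exact he0)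
  rw [hinner] at hres
  have hχN : ∀ m : N, χh (m : Γ) = (e : ℂ) * (θ : N → ℂ) m := by
    intro m
    have h1 := congrFun hres ⟨⟨(m : Γ), hNG m.2⟩, m.2⟩
    simp only [Pi.smul_apply, smul_eq_mul] at h1
    rw [← hχhext] at h1
    exact h1
  -- Step 1 : a generator and the subgroup T
  obtain ⟨q₀, hq₀⟩ := hcyc.exists_generator
  obtain ⟨x₀, rfl⟩ := QuotientGroup.mk_surjective q₀
  have hx₀ : x₀ ∉ G := by
    intro h
    apply hGlt
    rw [eq_top_iff]
    intro γ _
    obtain ⟨k, hk⟩ := Subgroup.mem_zpowers_iff.mp (hq₀ (QuotientGroup.mk γ))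
    rw [(QuotientGroup.eq_one_iff x₀).mpr h, one_zpow] at hk
    exact (QuotientGroup.eq_one_iff γ).mp hk.symm
  set T : Subgroup Γ := N ⊔ Subgroup.zpowers x₀ with hT
  have hNT : N ≤ T := le_sup_left
  have hx₀T : x₀ ∈ T := (le_sup_right : Subgroup.zpowers x₀ ≤ T) (Subgroup.mem_zpowers x₀)
  have hmemT : ∀ t ∈ T, ∃ m ∈ N, ∃ k : ℤ, t = m * x₀ ^ k := by
    intro t ht
    obtain ⟨m, hm, z, hz, rfl⟩ := Subgroup.mem_sup_of_normal_left.mp ht
    obtain ⟨k, rfl⟩ := Subgroup.mem_zpowers_iff.mp hz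
    exact ⟨m, hm, k, rfl⟩
  have hpowN : ∀ k : ℤ, x₀ ^ k ∈ G → x₀ ^ k ∈ N := by
    intro k hk
    apply hfrob x₀ hx₀ _ hk
    have : x₀ * x₀ ^ k * x₀⁻¹ * (x₀ ^ k)⁻¹ = 1 := by group
    rw [this]
    exact N.one_mem
  have hTN : ∀ t ∈ T, t ∈ G → t ∈ N := by
    intro t ht htG
    obtain ⟨m, hm, k, rfl⟩ := hmemT t ht
    have h1 : x₀ ^ k ∈ G := by
      have := G.mul_mem (G.inv_mem (hNG hm)) htG
      simpa using this
    exact N.mul_mem hm (hpowN k h1)
  have hTGeq : T ⊓ G = N := by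
    apply le_antisymm
    · intro t ht
      exact hTN t (Subgroup.mem_inf.mp ht).1 (Subgroup.mem_inf.mp ht).2
    · exact le_inf hNT hNG
  have hsupeq : T ⊔ G = ⊤ := by
    rw [eq_top_iff]
    intro γ _
    obtain ⟨k, hk⟩ := Subgroup.mem_zpowers_iff.mp (hq₀ (QuotientGroup.mk γ))
    have h1 : (x₀ ^ k)⁻¹ * γ ∈ G := by
      rw [← QuotientGroup.eq, QuotientGroup.mk_zpow]
      exact hk
    have h2 : γ = x₀ ^ k * ((x₀ ^ k)⁻¹ * γ) := by group
    rw [h2]
    exact Subgroup.mul_mem_sup (T.zpow_mem hx₀T k) h1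
  -- Step 5 : the level of T
  have : Fintype T := Fintype.ofFinite _
  have hN''n : (N.subgroupOf T).Normal := inferInstance
  have : Fintype (N.subgroupOf T) := Fintype.ofFinite _
  set θ'' : N.subgroupOf T → ℂ := fun n => (θ : N → ℂ) ⟨(n : T), n.2⟩ with hθ''
  have hθ''irr : Cfsg.IsIrrCharacter (N.subgroupOf T) θ'' :=
    IsIrrCharacter.comp_mulEquiv (Subgroup.subgroupOfEquivOfLe hNT) θ.2
  have hinvT : ∀ (t : T) (n : N.subgroupOf T),
      θ'' ⟨t * n * t⁻¹, hN''n.conj_mem (n : T) n.2 t⟩ = θ'' n := by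
    intro t n
    exact hinv (t : Γ) ⟨((n : T) : Γ), n.2⟩
  have hcycT : IsCyclic (T ⧸ N.subgroupOf T) := by
    refine ⟨⟨QuotientGroup.mk ⟨x₀, hx₀T⟩, ?_⟩⟩
    intro q
    obtain ⟨t, rfl⟩ := QuotientGroup.mk_surjective q
    obtain ⟨m, hm, k, htk⟩ := hmemT t t.2
    refine ⟨k, ?_⟩
    change (QuotientGroup.mk (⟨x₀, hx₀T⟩ : T) : T ⧸ N.subgroupOf T) ^ k = QuotientGroup.mk t
    rw [← QuotientGroup.mk_zpow, QuotientGroup.eq, Subgroup.mem_subgroupOf]
    simp only [Subgroup.coe_mul, Subgroup.coe_inv, Subgroup.coe_zpow]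
    rw [htk]
    have := hN.conj_mem _ hm (x₀ ^ k)⁻¹
    simpa [mul_assoc] using this
  obtain ⟨θh, hθh, hθhext⟩ := Cfsg.Agent.S0886.result (N.subgroupOf T) hcycT θ'' hθ''irr hinvT
  have hθres : Cfsg.IsIrrCharacter (N.subgroupOf T) (fun n : N.subgroupOf T => θh n) := by
    rw [funext hθhext]; exact hθ''irr
  -- Step 6 : the restriction of χh to T
  have hΨ : Cfsg.IsCharacter T (fun t : T => χh t) :=
    IsCharacter.restrict T (IsIrrCharacter.isCharacter hχh)
  have hΨN : ∀ n : N.subgroupOf T, (fun t : T => χh t) n = (e : ℂ) * θh n := by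
    intro n
    rw [hθhext n]
    exact hχN ⟨((n : T) : Γ), n.2⟩
  -- Step 7 : the Gallagher decomposition
  have : Fintype (T ⧸ N.subgroupOf T) := Fintype.ofFinite _
  have : Fintype (Cfsg.IrrCharacter (T ⧸ N.subgroupOf T)) := Fintype.ofFinite _
  have hab : ∀ x y : T ⧸ N.subgroupOf T, x * y = y * x := by
    have := hcycT
    exact fun x y => IsCyclic.commGroup.mul_comm x y
  obtain ⟨a, hsum, hsq⟩ := exists_decomp (N.subgroupOf T) hab hθh hθres hΨ (e : ℂ) hΨN
  -- Step 8 : the norm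
  have hθnorm : ∑ m : N, (θ : N → ℂ) m * conj ((θ : N → ℂ) m) = (Nat.card N : ℂ) := by
    have h1 := classInner_irrCharacter θ θ
    rw [if_pos rfl] at h1
    unfold Cfsg.classInner at h1
    have hN0 : (Nat.card N : ℂ) ≠ 0 := by exact_mod_cast Nat.card_pos.ne'
    field_simp at h1
    exact h1
  have hnorm := norm_restrict_frob G N T hNG hNT hTN hfrob hχh hχres (θ : N → ℂ) hθnorm (e : ℂ) hχN
  -- Step 9 : the index
  have hindex : (N.subgroupOf T).index = G.index := by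
    have h1 : N.relIndex T = G.index := by
      rw [← hTGeq, Subgroup.inf_relIndex_left, ← Subgroup.relIndex_sup_right, hsupeq,
        Subgroup.relIndex_top_right]
    exact h1
  have hcardT : (Nat.card T : ℂ) = (G.index : ℂ) * (Nat.card N : ℂ) := by
    have h1 : (N.subgroupOf T).index * Nat.card (N.subgroupOf T) = Nat.card T :=
      Subgroup.index_mul_card _
    rw [hindex, Nat.card_congr (Subgroup.subgroupOfEquivOfLe hNT).toEquiv] at h1
    rw [← h1]
    push_cast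
    ring
  have hcardΛ : (Fintype.card (Cfsg.IrrCharacter (T ⧸ N.subgroupOf T)) : ℤ) = (G.index : ℤ) := by
    rw [card_irr_of_abelian hab, ← Subgroup.index_eq_card, hindex]
  have hn2 : 2 ≤ G.index := by
    have h0 : G.index ≠ 0 := Subgroup.index_ne_zero_of_finite
    have h1 : G.index ≠ 1 := fun h => hGlt (Subgroup.index_eq_one.mp h)
    omega
  -- the two numerical facts, in ℤ
  have hsumZ : ∑ β, (a β : ℤ) = (e : ℤ) := by
    have : ((∑ β, (a β : ℤ) : ℤ) : ℂ) = ((e : ℤ) : ℂ) := by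
      push_cast
      exact hsum
    exact_mod_cast this
  have hsqZ : (G.index : ℤ) * ∑ β, (a β : ℤ) ^ 2 = (e : ℤ) ^ 2 + (G.index : ℤ) - 1 := by
    have hN0 : (Nat.card N : ℂ) ≠ 0 := by exact_mod_cast Nat.card_pos.ne'
    have hT0 : (Nat.card T : ℂ) ≠ 0 := by exact_mod_cast Nat.card_pos.ne'
    have h1 : Cfsg.classInner (fun t : T => χh t) (fun t : T => χh t)
        = (Nat.card T : ℂ)⁻¹ * (((e : ℂ) * conj (e : ℂ) - 1) * (Nat.card N : ℂ) + (Nat.card T : ℂ)) := by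
      unfold Cfsg.classInner
      rw [hnorm]
    rw [h1, hcardT, map_natCast] at hsq
    have h2 : (G.index : ℂ) ≠ 0 := by
      have : G.index ≠ 0 := Subgroup.index_ne_zero_of_finite
      exact_mod_cast this
    have h3 : (G.index : ℂ) * ((∑ β, a β * a β : ℕ) : ℂ) = (e : ℂ) ^ 2 + (G.index : ℂ) - 1 := by
      rw [hsq]
      field_simp
      ring
    have h4 : (((G.index : ℤ) * ∑ β, (a β : ℤ) ^ 2 : ℤ) : ℂ)
        = (((e : ℤ) ^ 2 + (G.index : ℤ) - 1 : ℤ) : ℂ) := by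
      push_cast
      push_cast at h3
      rw [← h3]
      congr 1
      apply Finset.sum_congr rfl
      intro β _
      ring
    exact_mod_cast h4
  -- Step 10 : arithmetic
  have hz0 : ∑ β, ((G.index : ℤ) * (a β : ℤ) - (e : ℤ)) = 0 := by
    rw [Finset.sum_sub_distrib, ← Finset.mul_sum, hsumZ, Finset.sum_const, Finset.card_univ,
      nsmul_eq_mul, hcardΛ]
    ring
  have hz2 : ∑ β, ((G.index : ℤ) * (a β : ℤ) - (e : ℤ)) ^ 2
      = (G.index : ℤ) * ((G.index : ℤ) - 1) := by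
    have h1 : ∀ β, ((G.index : ℤ) * (a β : ℤ) - (e : ℤ)) ^ 2
        = (G.index : ℤ) * ((G.index : ℤ) * (a β : ℤ) ^ 2) - 2 * (G.index : ℤ) * (e : ℤ) * (a β : ℤ)
          + (e : ℤ) ^ 2 := by
      intro β; ring
    rw [Finset.sum_congr rfl (fun β _ => h1 β), Finset.sum_add_distrib, Finset.sum_sub_distrib,
      ← Finset.mul_sum, ← Finset.mul_sum, ← Finset.mul_sum, hsumZ, hsqZ, Finset.sum_const,
      Finset.card_univ, nsmul_eq_mul, hcardΛ]
    ring
  obtain ⟨ε, hε, β₀, hβ₀, hβ⟩ := arith_lemma (G.index : ℤ) hcardΛ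
    (fun β => (G.index : ℤ) * (a β : ℤ) - (e : ℤ)) (fun β => (a β : ℤ)) (e : ℤ)
    ((G.index : ℤ) - 1) (fun β => rfl) hz0 hz2 (by omega) le_rfl
  have hex : ∃ β₁ : Cfsg.IrrCharacter (T ⧸ N.subgroupOf T), β₁ ≠ β₀ := by
    have h1 : 1 < Fintype.card (Cfsg.IrrCharacter (T ⧸ N.subgroupOf T)) := by
      have : (1 : ℤ) < (Fintype.card (Cfsg.IrrCharacter (T ⧸ N.subgroupOf T)) : ℤ) := by
        rw [hcardΛ]; omega
      exact_mod_cast this
    exact Fintype.exists_ne_of_one_lt_card h1 β₀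
  obtain ⟨β₁, hβ₁⟩ := hex
  have h1 := hβ β₁ hβ₁
  rcases hε with h | h
  · left
    refine ⟨(a β₁ : ℤ), ?_⟩
    rw [h] at h1
    linarith
  · right
    refine ⟨(a β₁ : ℤ), ?_⟩
    rw [h] at h1
    linarith

end Cfsg.Agent.S4454
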