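import Mathlib
import Cfsg.Statements.S3057
import Cfsg.Agent.S0016
import Cfsg.Agent.Lib.Helper7.SpeSolv

set_option autoImplicit false
open Cfsg

namespace Cfsg.Agent.S3057

open Cfsg.Agent.Lib.Helper7

/-- Let p be a prime and G a finite p-solvable group of order divisible by p, with Sylow p-subgroup P. Then the Sylow p-subgroups of G fail to be chain-connected through nontrivial intersections (equivalently, G has a strongly p-embedded subgroup) if and only if O_p(G) = 1 and P is cyclic or, for p = 2, generalized quaternion. -/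
theorem result {G : Type*} [Group G] [Finite G]
    (p : ℕ) [Fact p.Prime] (hdiv : p ∣ Nat.card G) (hsol : Cfsg.IsPSolvable p G) (P : Sylow p G) :
    ¬ Cfsg.IsSylowChainConnected p G ↔
      Cfsg.pCore p G = ⊥ ∧ (IsCyclic ↥P ∨ (p = 2 ∧ ∃ n : ℕ, Nonempty (↥P ≃* QuaternionGroup (2 ^ n)))) := by
  have hp : p.Prime := Fact.out
  have hP1 : (P : Subgroup G) ≠ ⊥ := P.ne_bot_of_dvd_card hdiv
  constructor
  · intro hnc
    obtain ⟨M, hMtop, hpM, hcl⟩ := not_chainConnected_iff_classical.mp hnc
    have hloc : NormalizersOfPSubgroupsLE p M := local_of_classical hcl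
    obtain ⟨T, hTM⟩ := exists_sylow_le_of_local hloc hpM
    have hT1 : (T : Subgroup G) ≠ ⊥ := T.ne_bot_of_dvd_card hdiv
    constructor
    · by_contra hO
      apply hMtop
      have h1 : pCore p G ≤ M := (pCore_le_sylow T).trans hTM
      have h2 := hloc (pCore p G) h1 (pCore_isPGroup p G) hO
      rw [Subgroup.normalizer_eq_top_iff.mpr (pCore_normal p G)] at h2
      exact eq_top_iff.mpr h2
    · have hu : UniqueOrderP p ↥(T : Subgroup G) :=
        uniqueOrderP_of_local_of_isPSolvable hsol hMtop hloc T hTM hT1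
      obtain ⟨g, hg⟩ := MulAction.exists_smul_eq G T P
      subst hg
      have e : ↥(T : Subgroup G) ≃* ↥((g • T : Sylow p G) : Subgroup G) := Sylow.equivSMul T g
      have huP : UniqueOrderP p ↥((g • T : Sylow p G) : Subgroup G) :=
        uniqueOrderP_of_equiv e.symm hu
      exact Cfsg.Agent.S0016.result (G := ↥((g • T : Sylow p G) : Subgroup G)) p
        (g • T : Sylow p G).isPGroup' (subgroup_eq_of_uniqueOrderP huP)
  · rintro ⟨hO, hcq⟩
    have huP : UniqueOrderP p ↥(P : Subgroup G) := by
      rcases hcq with hc | ⟨_, n, ⟨e⟩⟩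
      · haveI : IsCyclic ↥(P : Subgroup G) := hc
        exact uniqueOrderP_of_isCyclic p
      · exact uniqueOrderP_of_equiv_quaternion P.isPGroup' e
    have hspe := spe_normalizer_omegaOne hO P hP1 huP
    obtain ⟨hloc, hpM, _⟩ := local_of_spe hspe
    rw [not_chainConnected_iff_classical]
    exact ⟨_, hspe.2.1, hpM, classical_of_local hloc hpM⟩

end Cfsg.Agent.S3057
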