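import Cfsg.Statements.S0493
import Cfsg.Agent.Lib.Lead.SmallSimple2

set_option autoImplicit false
open Cfsg

namespace Cfsg.Agent.S0493

open Cfsg.Agent.Lib.Lead.SmallSimple Cfsg.Agent.Lib.Lead.SmallSimple2

/-- the arithmetic test -/
def Test (n : ℕ) : Prop :=
  n.Prime ∨ n = 60 ∨ n = 56 ∨ n ≤ 2 ∨ (n % 2 = 0 ∧ n % 4 ≠ 0) ∨
    (∃ p ≤ n, p.Prime ∧ ∃ k ≤ n, n = p ^ k) ∨
    ∃ p ≤ n, p.Prime ∧ p ∣ n ∧ (∀ k ≤ n, n ≠ p ^ k) ∧
      ∀ d ≤ n, d ∣ n → d % p = 1 % p → d = 1 ∨ ¬ (2 * n ∣ d.factorial)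

instance (n : ℕ) : Decidable (Test n) := by unfold Test; infer_instance

set_option maxRecDepth 100000 in
lemma test_all : ∀ n ≤ 100, Test n := by decide +kernel

theorem result {G : Type*} [Group G] [Finite G] [IsSimpleGroup G]
    (hG : ¬ IsCyclic G) (h : Nat.card G ≤ 100) : Nat.card G = 60 := by
  have hnp : ¬ (Nat.card G).Prime := by
    intro hp
    haveI : Fact (Nat.card G).Prime := ⟨hp⟩
    exact hG (isCyclic_of_prime_card rfl)
  have hnc : ¬ IsMulCommutative G := not_comm_of_not_prime hnp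
  haveI : Nontrivial G := IsSimpleGroup.toNontrivial
  have h1 : 1 < Nat.card G := Finite.one_lt_card
  rcases test_all _ h with ht | ht | ht | ht | ht | ht | ht
  · exact absurd ht hnp
  · exact ht
  · exfalso
    exact case_a3b (G := G) (a := 2) (b := 7) Nat.prime_two (by norm_num) (by norm_num)
      (by rw [ht]; norm_num)
  · exfalso
    have h2 : Nat.card G = 2 := by omega
    exact hnp (h2 ▸ Nat.prime_two)
  · exfalso
    have hgt : 2 < Nat.card G := by
      by_contra hcon
      have h2 : Nat.card G = 2 := by omega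
      exact hnp (h2 ▸ Nat.prime_two)
    exact not_simple_two_odd (G := G) (Nat.even_iff.2 ht.1)
      (fun h4 => ht.2 (Nat.mod_eq_zero_of_dvd h4)) hgt
  · exfalso
    obtain ⟨p, _, hp, k, _, hk⟩ := ht
    haveI : Fact p.Prime := ⟨hp⟩
    have hpg : IsPGroup p G := IsPGroup.of_card hk
    exact hnc (comm_of_simple_pGroup p hpg)
  · exfalso
    obtain ⟨p, _, hp, hpn, hnk, hd⟩ := ht
    haveI : Fact p.Prime := ⟨hp⟩
    have hnpg : ¬ IsPGroup p G := by
      intro hpg
      obtain ⟨k, hk⟩ := (IsPGroup.iff_card).1 hpg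
      have hkn : k ≤ Nat.card G := by
        rw [hk]
        exact (Nat.lt_pow_self hp.one_lt).le
      exact hnk k hkn hk
    have hne1 := card_sylow_ne_one (G := G) p hpn hnpg
    have hfac := two_mul_card_dvd_factorial (G := G) hnc p hne1
    have hmod : Nat.card (Sylow p G) ≡ 1 [MOD p] := card_sylow_modEq_one p G
    have hdvd : Nat.card (Sylow p G) ∣ Nat.card G := by
      obtain P : Sylow p G := default
      rw [Sylow.card_eq_index_normalizer P]
      exact Subgroup.index_dvd_card _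
    have hle : Nat.card (Sylow p G) ≤ Nat.card G := Nat.le_of_dvd (by omega) hdvd
    rcases hd _ hle hdvd hmod with h | h
    · exact hne1 h
    · exact h hfac

end Cfsg.Agent.S0493
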