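import Cfsg.Statements.S1696
import Cfsg.Agent.Lib.Helper4.TCD_Fi22b_Fin
import Cfsg.Agent.Lib.Helper4.TCD_Fi22bO_Fin
import Cfsg.Agent.Lib.Helper4.TCD_Fi22U1_Fin
import Cfsg.Agent.Lib.Helper4.TCD_Fi22U2_Fin
import Cfsg.Agent.Lib.Helper4.TCD_Fi22U3_Fin
import Cfsg.Agent.Lib.Helper4.TCD_Fi22U4_Fin
import Cfsg.Agent.Lib.Helper4.TCD_Fi22L_Fin
import Cfsg.Agent.Lib.Helper4.TCD_Fi22X_Fin
import Cfsg.Agent.Lib.Helper4.TCD_Fi22Q
import Cfsg.Agent.Lib.Helper4.TC13

set_option autoImplicit false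
open Cfsg

namespace Cfsg.Agent.S1696

open Cfsg.Agent.Lib.Helper4.TC Cfsg.Agent.Lib.Helper4.TCD

/-- the order and the faithful permutation representation -/
theorem order_aux : Finite PFi22.P.Grp ∧ Function.Injective Fi22b.inst.phi ∧ Nat.card PFi22.P.Grp = 64561751654400 := by
  have e0 : letG PFi22.P [] = ⊥ := letG_nil _
  have f0 : Finite (letG PFi22.P []) := by rw [e0]; infer_instance
  have c0 : Nat.card (letG PFi22.P []) = 1 := by rw [e0]; exact Subgroup.card_bot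
  obtain ⟨f4, c4⟩ := Fi22U4.card_le f0
  obtain ⟨f3, c3⟩ := Fi22U3.card_le f4
  obtain ⟨f2, c2⟩ := Fi22U2.card_le f3
  obtain ⟨f1, c1⟩ := Fi22U1.card_le f2
  have hs : Inst.subG PFi22.P Fi22b.subs = letG PFi22.P [1, 2, 3, 4, 5, 6, 7, 8] :=
    Fi22b.inst.subG_eq_letG _ (by decide)
  have fs : Finite (Inst.subG PFi22.P Fi22b.subs) := by rw [hs]; exact f1
  have cs : Nat.card (Inst.subG PFi22.P Fi22b.subs) ≤ 364 * (243 * (27 * (1920 * (1)))) := by
    rw [hs]
    calc Nat.card (letG PFi22.P [1, 2, 3, 4, 5, 6, 7, 8]) ≤ 364 * Nat.card (letG PFi22.P [1, 2, 3, 4, 5, 7, 8]) := c1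
      _ ≤ 364 * (243 * (Nat.card (letG PFi22.P [2, 3, 4, 5, 7, 8]))) := Nat.mul_le_mul_left _ (c2)
      _ ≤ 364 * (243 * (27 * (Nat.card (letG PFi22.P [2, 3, 4, 7, 8])))) := Nat.mul_le_mul_left _ (Nat.mul_le_mul_left _ (c3))
      _ ≤ 364 * (243 * (27 * (1920 * (Nat.card (letG PFi22.P []))))) := Nat.mul_le_mul_left _ (Nat.mul_le_mul_left _ (Nat.mul_le_mul_left _ (c4)))
      _ = 364 * (243 * (27 * (1920 * (1)))) := by rw [c0]
  obtain ⟨fG, cG⟩ := Fi22b.inst.card_le _ fs cs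
  have hub : Nat.card PFi22.P.Grp ≤ 64561751654400 := le_trans cG (by decide)
  obtain ⟨hinj, hcard⟩ := Fi22b.inst.card_eq Fi22L.S rfl rfl Fi22L.htab0 Fi22L.ok 64561751654400 (by decide)
    Fi22L.prod_eq fG hub
  exact ⟨fG, hinj, hcard⟩

theorem simple_aux : IsSimpleGroup PFi22.P.Grp := by
  obtain ⟨fG, hinj, hcard⟩ := order_aux
  have hidx := Fi22b.index_eq
  have hH : Nat.card (Inst.subG PFi22.P Fi22b.subs) = 4585351680 := by
    have := (Inst.subG PFi22.P Fi22b.subs).index_mul_card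
    rw [hidx, hcard] at this
    omega
  apply Fi22b.inst.simple hinj fG [1, 3159, 10920] (by decide) _ (by decide) 11 (by norm_num)
    (by rw [hH]; decide) Fi22Q.xw (by decide) Fi22Q.h_xq Fi22X.normalClosure_eq_top (by decide)
  refine ⟨?_, ?_, ?_, trivial⟩
  · intro j j' _ h2 _ h4
    have e1 : j = j' := Fin.ext (by omega)
    exact ⟨1, one_mem _, by rw [one_smul, e1]⟩
  · intro j j' h1 h2 h3 h4
    exact Fi22b.inst.trans_of_orbit_eq 1 3160 (by decide) (by decide)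
      (Fi22b.inst.orbit_eq Fi22b.oparTab Fi22b.olabTab 1 3160 (by decide) (by decide) Fi22bO.orb_inv_0 Fi22bO.orb_tree_0)
      j j' (by omega) (by omega) (by omega) (by omega)
  · intro j j' h1 h2 h3 h4
    exact Fi22b.inst.trans_of_orbit_eq 3160 14080 (by decide) (by decide)
      (Fi22b.inst.orbit_eq Fi22b.oparTab Fi22b.olabTab 3160 14080 (by decide) (by decide) Fi22bO.orb_inv_1 Fi22bO.orb_tree_1)
      j j' (by omega) (by omega) (by omega) (by omega)

/-- The presented Fischer group Fi22 is simple of the expected order (that is, it is a simple group of the order of the Fischer group Fi₂₂). -/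
theorem result : Cfsg.IsFi22 Cfsg.Spor.Fi22 := by
  exact ⟨simple_aux, order_aux.2.2⟩

end Cfsg.Agent.S1696
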