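import Cfsg.Statements.S1694
import Cfsg.Agent.Lib.Helper4.TCD_Suz1_Fin
import Cfsg.Agent.Lib.Helper4.TCD_SuzU1_Fin
import Cfsg.Agent.Lib.Helper4.TCD_SuzU2_Fin
import Cfsg.Agent.Lib.Helper4.TCD_SuzU3_Fin
import Cfsg.Agent.Lib.Helper4.TCD_SuzL_Fin
import Cfsg.Agent.Lib.Helper4.TCD_SuzX_Fin
import Cfsg.Agent.Lib.Helper4.TCD_SuzQ
import Cfsg.Agent.Lib.Helper4.TC13

set_option autoImplicit false
open Cfsg

namespace Cfsg.Agent.S1694

open Cfsg.Agent.Lib.Helper4.TC Cfsg.Agent.Lib.Helper4.TCD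

/-- the order and the faithful permutation representation -/
theorem order_aux : Finite PSuz.P.Grp ∧ Function.Injective Suz1.inst.phi ∧ Nat.card PSuz.P.Grp = 448345497600 := by
  have e0 : letG PSuz.P [] = ⊥ := letG_nil _
  have f0 : Finite (letG PSuz.P []) := by rw [e0]; infer_instance
  have c0 : Nat.card (letG PSuz.P []) = 1 := by rw [e0]; exact Subgroup.card_bot
  obtain ⟨f3, c3⟩ := SuzU3.card_le f0
  obtain ⟨f2, c2⟩ := SuzU2.card_le f3
  obtain ⟨f1, c1⟩ := SuzU1.card_le f2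
  have hs : Inst.subG PSuz.P Suz1.subs = letG PSuz.P [0, 1, 2, 3, 4, 5] :=
    Suz1.inst.subG_eq_letG _ (by decide)
  have fs : Finite (Inst.subG PSuz.P Suz1.subs) := by rw [hs]; exact f1
  have cs : Nat.card (Inst.subG PSuz.P Suz1.subs) ≤ 416 * (280 * (2160 * 1)) := by
    rw [hs]
    calc Nat.card (letG PSuz.P [0, 1, 2, 3, 4, 5]) ≤ 416 * Nat.card (letG PSuz.P [0, 1, 2, 3, 4]) := c1
      _ ≤ 416 * (280 * Nat.card (letG PSuz.P [0, 1, 2, 3])) := Nat.mul_le_mul_left _ c2
      _ ≤ 416 * (280 * (2160 * Nat.card (letG PSuz.P []))) :=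
        Nat.mul_le_mul_left _ (Nat.mul_le_mul_left _ c3)
      _ = 416 * (280 * (2160 * 1)) := by rw [c0]
  obtain ⟨fG, cG⟩ := Suz1.inst.card_le _ fs cs
  have hub : Nat.card PSuz.P.Grp ≤ 448345497600 := le_trans cG (by decide)
  obtain ⟨hinj, hcard⟩ := Suz1.inst.card_eq SuzL.S rfl rfl SuzL.htab0 SuzL.ok 448345497600 (by decide)
    SuzL.prod_eq fG hub
  exact ⟨fG, hinj, hcard⟩

theorem simple_aux : IsSimpleGroup PSuz.P.Grp := by
  obtain ⟨fG, hinj, hcard⟩ := order_aux
  have hidx := Suz1.index_eq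
  have hH : Nat.card (Inst.subG PSuz.P Suz1.subs) = 251596800 := by
    have := (Inst.subG PSuz.P Suz1.subs).index_mul_card
    rw [hidx, hcard] at this
    omega
  apply Suz1.inst.simple hinj fG [1, 416, 1365] (by decide) _ (by decide) 11 (by norm_num)
    (by rw [hH]; decide) SuzQ.xw (by decide) SuzQ.h_xq SuzX.normalClosure_eq_top (by decide)
  refine ⟨?_, ?_, ?_, trivial⟩
  · intro j j' _ h2 _ h4
    have e1 : j = j' := Fin.ext (by omega)
    exact ⟨1, one_mem _, by rw [one_smul, e1]⟩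
  · intro j j' h1 h2 h3 h4
    exact Suz1.inst.trans_of_orbit_eq 1 417 (by decide) (by decide)
      (Suz1.inst.orbit_eq Suz1.oparTab Suz1.olabTab 1 417 (by decide) (by decide) Suz1.orb_inv_0 Suz1.orb_tree_0)
      j j' (by omega) (by omega) (by omega) (by omega)
  · intro j j' h1 h2 h3 h4
    exact Suz1.inst.trans_of_orbit_eq 417 1782 (by decide) (by decide)
      (Suz1.inst.orbit_eq Suz1.oparTab Suz1.olabTab 417 1782 (by decide) (by decide) Suz1.orb_inv_1 Suz1.orb_tree_1)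
      j j' (by omega) (by omega) (by omega) (by omega)

/-- The presented sporadic Suzuki group is simple of the expected order (that is, it is a simple group of the order of the sporadic Suzuki group). -/
theorem result : Cfsg.IsSuz Cfsg.Spor.Suz := by
  exact ⟨simple_aux, order_aux.2.2⟩

end Cfsg.Agent.S1694
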