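import Cfsg.Statements.S1697
import Cfsg.Agent.Lib.Helper4.TCD_Fi23a_Fin
import Cfsg.Agent.Lib.Helper4.TCD_Fi23U1_Fin
import Cfsg.Agent.Lib.Helper4.TCD_Fi23U2_Fin
import Cfsg.Agent.Lib.Helper4.TCD_Fi23U3_Fin
import Cfsg.Agent.Lib.Helper4.TCD_Fi23U4_Fin
import Cfsg.Agent.Lib.Helper4.TCD_Fi23U5_Fin
import Cfsg.Agent.Lib.Helper4.TCD_Fi23L_Fin
import Cfsg.Agent.Lib.Helper4.TCD_Fi23X_Fin
import Cfsg.Agent.Lib.Helper4.TCD_Fi23Q
import Cfsg.Agent.Lib.Helper4.TC13

set_option autoImplicit false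
open Cfsg

namespace Cfsg.Agent.S1697

open Cfsg.Agent.Lib.Helper4.TC Cfsg.Agent.Lib.Helper4.TCD

/-- the order and the faithful permutation representation -/
theorem order_aux : Finite PFi23.P.Grp ∧ Function.Injective Fi23a.inst.phi ∧ Nat.card PFi23.P.Grp = 4089470473293004800 := by
  have e0 : letG PFi23.P [] = ⊥ := letG_nil _
  have f0 : Finite (letG PFi23.P []) := by rw [e0]; infer_instance
  have c0 : Nat.card (letG PFi23.P []) = 1 := by rw [e0]; exact Subgroup.card_bot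
  obtain ⟨f5, c5⟩ := Fi23U5.card_le f0
  obtain ⟨f4, c4⟩ := Fi23U4.card_le f5
  obtain ⟨f3, c3⟩ := Fi23U3.card_le f4
  obtain ⟨f2, c2⟩ := Fi23U2.card_le f3
  obtain ⟨f1, c1⟩ := Fi23U1.card_le f2
  have hs : Inst.subG PFi23.P Fi23a.subs = letG PFi23.P [0, 1, 2, 3, 4, 5, 6, 8, 9] :=
    Fi23a.inst.subG_eq_letG _ (by decide)
  have fs : Finite (Inst.subG PFi23.P Fi23a.subs) := by rw [hs]; exact f1
  have cs : Nat.card (Inst.subG PFi23.P Fi23a.subs) ≤ 14080 * (728 * (243 * (27 * (1920 * (1))))) := by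
    rw [hs]
    calc Nat.card (letG PFi23.P [0, 1, 2, 3, 4, 5, 6, 8, 9]) ≤ 14080 * Nat.card (letG PFi23.P [1, 2, 3, 4, 5, 6, 8, 9]) := c1
      _ ≤ 14080 * (728 * (Nat.card (letG PFi23.P [1, 2, 3, 4, 5, 8, 9]))) := Nat.mul_le_mul_left _ (c2)
      _ ≤ 14080 * (728 * (243 * (Nat.card (letG PFi23.P [2, 3, 4, 5, 8, 9])))) := Nat.mul_le_mul_left _ (Nat.mul_le_mul_left _ (c3))
      _ ≤ 14080 * (728 * (243 * (27 * (Nat.card (letG PFi23.P [2, 3, 4, 8, 9]))))) := Nat.mul_le_mul_left _ (Nat.mul_le_mul_left _ (Nat.mul_le_mul_left _ (c4)))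
      _ ≤ 14080 * (728 * (243 * (27 * (1920 * (Nat.card (letG PFi23.P [])))))) := Nat.mul_le_mul_left _ (Nat.mul_le_mul_left _ (Nat.mul_le_mul_left _ (Nat.mul_le_mul_left _ (c5))))
      _ = 14080 * (728 * (243 * (27 * (1920 * (1))))) := by rw [c0]
  obtain ⟨fG, cG⟩ := Fi23a.inst.card_le _ fs cs
  have hub : Nat.card PFi23.P.Grp ≤ 4089470473293004800 := le_trans cG (by decide)
  obtain ⟨hinj, hcard⟩ := Fi23a.inst.card_eq Fi23L.S rfl rfl Fi23L.htab0 Fi23L.ok 4089470473293004800 (by decide)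
    Fi23L.prod_eq fG hub
  exact ⟨fG, hinj, hcard⟩

theorem simple_aux : IsSimpleGroup PFi23.P.Grp := by
  obtain ⟨fG, hinj, hcard⟩ := order_aux
  have hidx := Fi23a.index_eq
  have hH : Nat.card (Inst.subG PFi23.P Fi23a.subs) = 129123503308800 := by
    have := (Inst.subG PFi23.P Fi23a.subs).index_mul_card
    rw [hidx, hcard] at this
    omega
  apply Fi23a.inst.simple hinj fG [1, 3510, 28160] (by decide) _ (by decide) 17 (by norm_num)
    (by rw [hH]; decide) Fi23Q.xw (by decide) Fi23Q.h_xq Fi23X.normalClosure_eq_top (by decide)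
  refine ⟨?_, ?_, ?_, trivial⟩
  · intro j j' _ h2 _ h4
    have e1 : j = j' := Fin.ext (by omega)
    exact ⟨1, one_mem _, by rw [one_smul, e1]⟩
  · intro j j' h1 h2 h3 h4
    exact Fi23a.inst.trans_of_orbit_eq 1 3511 (by decide) (by decide)
      (Fi23a.inst.orbit_eq Fi23a.oparTab Fi23a.olabTab 1 3511 (by decide) (by decide) Fi23a.orb_inv_0 Fi23a.orb_tree_0)
      j j' (by omega) (by omega) (by omega) (by omega)
  · intro j j' h1 h2 h3 h4
    exact Fi23a.inst.trans_of_orbit_eq 3511 31671 (by decide) (by decide)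
      (Fi23a.inst.orbit_eq Fi23a.oparTab Fi23a.olabTab 3511 31671 (by decide) (by decide) Fi23a.orb_inv_1 Fi23a.orb_tree_1)
      j j' (by omega) (by omega) (by omega) (by omega)

/-- The presented Fischer group Fi23 is simple of the expected order (that is, it is a simple group of the order of the Fischer group Fi₂₃). -/
theorem result : Cfsg.IsFi23 Cfsg.Spor.Fi23 := by
  exact ⟨simple_aux, order_aux.2.2⟩

end Cfsg.Agent.S1697
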