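import Cfsg.Statements.S1691
import Mathlib

set_option autoImplicit false
open Cfsg

namespace Cfsg.Agent.S1691

open Cfsg.Spor

/-- In a commutative group, involutions `x`, `y` with `(xy)^3 = 1` coincide. -/
theorem eq_of_braid {A : Type*} [CommGroup A] {x y : A} (hx : x * x = 1) (hy : y * y = 1)
    (h : (x * y) ^ 3 = 1) : x = y := by
  have h1 : (x * y) ^ 3 = (x * x) * (y * y) * (x * y) := by
    rw [pow_succ, pow_two]
    simp only [mul_left_comm, mul_comm]
  rw [h1, hx, hy, one_mul, one_mul] at h
  have h2 : x = y⁻¹ := eq_inv_of_mul_eq_one_left h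
  have h3 : y = y⁻¹ := eq_inv_of_mul_eq_one_left hy
  rw [h2, ← h3]

theorem node_mem (x : Fi24.Gen) : x ∈ coxNodes Fi24.edges := by
  cases x <;> decide

theorem of_sq (x : Fi24.Gen) :
    (PresentedGroup.of x : Fi24) * PresentedGroup.of x = 1 := by
  have hmem : (FreeGroup.of x * FreeGroup.of x) ^ coxLabel Fi24.edges x x ∈
      coxRelators Fi24.edges ∪ {r | r ∈ Fi24.extra} :=
    Or.inl ⟨x, node_mem x, x, node_mem x, rfl⟩
  have h1 : coxLabel Fi24.edges x x = 1 := by simp [coxLabel]
  rw [h1, pow_one] at hmem
  have := PresentedGroup.one_of_mem hmem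
  rw [map_mul] at this
  exact this

theorem of_braid (x y : Fi24.Gen) (h : coxLabel Fi24.edges x y = 3) :
    ((PresentedGroup.of x : Fi24) * PresentedGroup.of y) ^ 3 = 1 := by
  have hmem : (FreeGroup.of x * FreeGroup.of y) ^ coxLabel Fi24.edges x y ∈
      coxRelators Fi24.edges ∪ {r | r ∈ Fi24.extra} :=
    Or.inl ⟨x, node_mem x, y, node_mem y, rfl⟩
  rw [h] at hmem
  have := PresentedGroup.one_of_mem hmem
  rw [map_pow, map_mul] at this
  exact this

/-- The sign homomorphism: every generator goes to the nontrivial element. -/
theorem sign_rel : ∀ r ∈ coxRelators Fi24.edges ∪ {r | r ∈ Fi24.extra},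
    FreeGroup.lift (fun _ : Fi24.Gen => Multiplicative.ofAdd (1 : ZMod 2)) r = 1 := by
  have hs : (Multiplicative.ofAdd (1 : ZMod 2)) * Multiplicative.ofAdd (1 : ZMod 2) = 1 := by
    decide
  rintro r (⟨x, -, y, -, rfl⟩ | hr)
  · rw [map_pow, map_mul, FreeGroup.lift_apply_of, FreeGroup.lift_apply_of, hs, one_pow]
  · have hr' : r ∈ Fi24.extra := hr
    simp only [Fi24.extra, List.mem_cons, List.not_mem_nil, or_false] at hr'
    rcases hr' with rfl | rfl
    · simp only [map_mul, map_inv, map_pow, FreeGroup.lift_apply_of]
      decide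
    · simp only [map_mul, map_pow, FreeGroup.lift_apply_of]
      decide

/-- The sign homomorphism. -/
noncomputable def sign : Fi24 →* Multiplicative (ZMod 2) :=
  PresentedGroup.toGroup sign_rel

theorem sign_of (x : Fi24.Gen) : sign (PresentedGroup.of x) = Multiplicative.ofAdd 1 :=
  PresentedGroup.toGroup.of sign_rel

/-- All generators have the same image in the abelianization. -/
theorem ab_of_eq (x : Fi24.Gen) :
    (Abelianization.of (PresentedGroup.of x : Fi24)) =
      Abelianization.of (PresentedGroup.of Fi24.Gen.d : Fi24) := by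
  have key : ∀ x y : Fi24.Gen, coxLabel Fi24.edges x y = 3 →
      (Abelianization.of (PresentedGroup.of x : Fi24)) =
        Abelianization.of (PresentedGroup.of y : Fi24) := by
    intro x y h
    apply eq_of_braid
    · rw [← map_mul, of_sq, map_one]
    · rw [← map_mul, of_sq, map_one]
    · rw [← map_mul, ← map_pow, of_braid x y h, map_one]
  have hc := key .c .d (by decide)
  have hb := (key .b .c (by decide)).trans hc
  have ha := (key .a .b (by decide)).trans hb
  have hk := (key .k .a (by decide)).trans ha
  have hl := (key .l .k (by decide)).trans hk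
  have he := key .e .d (by decide)
  have hf := (key .f .e (by decide)).trans he
  have hg := (key .g .f (by decide)).trans hf
  have hj := (key .j .g (by decide)).trans hg
  have hh := key .h .d (by decide)
  have hi := (key .i .h (by decide)).trans hh
  cases x <;> first | assumption | rfl

/-- The commutator subgroup of the presented group Fi₂₄ has index 2 (the presented group is Fi₂₄′:2 with Fi₂₄′ its derived subgroup). -/
theorem result : (commutator Cfsg.Spor.Fi24).index = 2 := by
  set s : Abelianization Fi24 := Abelianization.of (PresentedGroup.of Fi24.Gen.d : Fi24) with hs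
  -- the abelianization is generated by `s`
  have hgen : ∀ g : Fi24, Abelianization.of g ∈ Subgroup.zpowers s := by
    intro g
    have : g ∈ (Subgroup.zpowers s).comap (Abelianization.of : Fi24 →* Abelianization Fi24) := by
      apply PresentedGroup.generated_by
      intro x
      rw [Subgroup.mem_comap, ab_of_eq x]
      exact Subgroup.mem_zpowers s
    exact this
  have htop : Subgroup.zpowers s = ⊤ := by
    rw [eq_top_iff]
    intro y _
    obtain ⟨g, rfl⟩ := QuotientGroup.mk_surjective y
    exact hgen g
  have hs2 : s ^ 2 = 1 := by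
    rw [pow_two, hs, ← map_mul, of_sq, map_one]
  have hs1 : s ≠ 1 := by
    intro h
    have h2 : Abelianization.lift sign s = 1 := by rw [h, map_one]
    rw [hs, Abelianization.lift_apply_of, sign_of] at h2
    exact absurd h2 (by decide)
  have hord : orderOf s = 2 := orderOf_eq_prime hs2 hs1
  have hcard : Nat.card (Abelianization Fi24) = 2 := by
    rw [← hord, ← Nat.card_zpowers, htop]
    exact (Nat.card_congr (Subgroup.topEquiv (G := Abelianization Fi24)).toEquiv).symm
  exact hcard

end Cfsg.Agent.S1691
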