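import Cfsg.Statements.S1695
import Cfsg.Agent.Lib.Helper4.TCD_He1_Fin
import Cfsg.Agent.Lib.Helper4.TCD_HeU1_Fin
import Cfsg.Agent.Lib.Helper4.TCD_HeU2_Fin
import Cfsg.Agent.Lib.Helper4.TCD_HeU3_Fin
import Cfsg.Agent.Lib.Helper4.TCD_HeL_Fin
import Cfsg.Agent.Lib.Helper4.TCD_HeX_Fin
import Cfsg.Agent.Lib.Helper4.TCD_HeQ
import Cfsg.Agent.Lib.Helper4.TC13

set_option autoImplicit false
open Cfsg

namespace Cfsg.Agent.S1695

open Cfsg.Agent.Lib.Helper4.TC Cfsg.Agent.Lib.Helper4.TCD

/-- the order and the faithful permutation representation -/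
theorem order_aux : Finite PHe.P.Grp ∧ Function.Injective He1.inst.phi ∧ Nat.card PHe.P.Grp = 4030387200 := by
  have e0 : letG PHe.P [] = ⊥ := letG_nil _
  have f0 : Finite (letG PHe.P []) := by rw [e0]; infer_instance
  have c0 : Nat.card (letG PHe.P []) = 1 := by rw [e0]; exact Subgroup.card_bot
  obtain ⟨f3, c3⟩ := HeU3.card_le f0
  obtain ⟨f2, c2⟩ := HeU2.card_le f3
  obtain ⟨f1, c1⟩ := HeU1.card_le f2
  have htop : letG PHe.P [0, 1, 2, 3, 4, 5, 6] = ⊤ := letG_all PHe.P PHe.valid
  have fG : Finite PHe.P.Grp := by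
    have h := f1
    rw [htop] at h
    exact Finite.of_equiv _ (Subgroup.topEquiv (G := PHe.P.Grp)).toEquiv
  have cG : Nat.card PHe.P.Grp ≤ 266560 * (315 * (48 * (1))) := by
    rw [← Subgroup.card_top (G := PHe.P.Grp), ← htop]
    calc Nat.card (letG PHe.P [0, 1, 2, 3, 4, 5, 6]) ≤ 266560 * Nat.card (letG PHe.P [0, 1, 2, 3, 4]) := c1
      _ ≤ 266560 * (315 * (Nat.card (letG PHe.P [0, 1, 2]))) := Nat.mul_le_mul_left _ (c2)
      _ ≤ 266560 * (315 * (48 * (Nat.card (letG PHe.P [])))) := Nat.mul_le_mul_left _ (Nat.mul_le_mul_left _ (c3))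
      _ = 266560 * (315 * (48 * (1))) := by rw [c0]
  have hub : Nat.card PHe.P.Grp ≤ 4030387200 := le_trans cG (by decide)
  obtain ⟨hinj, hcard⟩ := He1.inst.card_eq HeL.S rfl rfl HeL.htab0 HeL.ok 4030387200 (by decide)
    HeL.prod_eq fG hub
  exact ⟨fG, hinj, hcard⟩

theorem simple_aux : IsSimpleGroup PHe.P.Grp := by
  obtain ⟨fG, hinj, hcard⟩ := order_aux
  have hidx := He1.index_eq
  have hH : Nat.card (Inst.subG PHe.P He1.subs) = 1958400 := by
    have := (Inst.subG PHe.P He1.subs).index_mul_card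
    rw [hidx, hcard] at this
    omega
  apply He1.inst.simple hinj fG [1, 136, 136, 425, 1360] (by decide) _ (by decide) 7 (by norm_num)
    (by rw [hH]; decide) HeQ.xw (by decide) HeQ.h_xq HeX.normalClosure_eq_top (by decide)
  refine ⟨?_, ?_, ?_, ?_, ?_, trivial⟩
  · intro j j' _ h2 _ h4
    have e1 : j = j' := Fin.ext (by omega)
    exact ⟨1, one_mem _, by rw [one_smul, e1]⟩
  · intro j j' h1 h2 h3 h4
    exact He1.inst.trans_of_orbit_eq 1 137 (by decide) (by decide)
      (He1.inst.orbit_eq He1.oparTab He1.olabTab 1 137 (by decide) (by decide) He1.orb_inv_0 He1.orb_tree_0)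
      j j' (by omega) (by omega) (by omega) (by omega)
  · intro j j' h1 h2 h3 h4
    exact He1.inst.trans_of_orbit_eq 137 273 (by decide) (by decide)
      (He1.inst.orbit_eq He1.oparTab He1.olabTab 137 273 (by decide) (by decide) He1.orb_inv_1 He1.orb_tree_1)
      j j' (by omega) (by omega) (by omega) (by omega)
  · intro j j' h1 h2 h3 h4
    exact He1.inst.trans_of_orbit_eq 273 698 (by decide) (by decide)
      (He1.inst.orbit_eq He1.oparTab He1.olabTab 273 698 (by decide) (by decide) He1.orb_inv_2 He1.orb_tree_2)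
      j j' (by omega) (by omega) (by omega) (by omega)
  · intro j j' h1 h2 h3 h4
    exact He1.inst.trans_of_orbit_eq 698 2058 (by decide) (by decide)
      (He1.inst.orbit_eq He1.oparTab He1.olabTab 698 2058 (by decide) (by decide) He1.orb_inv_3 He1.orb_tree_3)
      j j' (by omega) (by omega) (by omega) (by omega)

/-- The presented Held group is simple of the expected order (that is, it is a simple group of the order of the Held group). -/
theorem result : Cfsg.IsHe Cfsg.Spor.He := by
  exact ⟨simple_aux, order_aux.2.2⟩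

end Cfsg.Agent.S1695
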