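import Cfsg.Statements.S3383
import Mathlib

set_option autoImplicit false
set_option linter.style.haveILetI false
open Cfsg

namespace Cfsg.Agent.S3383

open scoped Pointwise

theorem mem_conj_smul {L : Type*} [Group L] (H : Subgroup L) (g x : L) :
    x ∈ MulAut.conj g • H ↔ g⁻¹ * x * g ∈ H := by
  rw [Subgroup.mem_pointwise_smul_iff_inv_smul_mem]
  simp [MulAut.smul_def]

/-- Let H be a Frobenius complement in a finite group L and K the Frobenius kernel (as a subgroup). Then K is characteristic in L, and every normal subgroup of L either contains K or is contained in K. -/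
theorem result {L : Type*} [Group L] [Finite L]
    (H : Subgroup L) (hH : Cfsg.IsFrobeniusComplement H)
    (K : Subgroup L) (hK : (K : Set L) = Cfsg.frobeniusKernel H) :
    K.Characteristic ∧ ∀ N : Subgroup L, N.Normal → K ≤ N ∨ N ≤ K := by
  classical
  obtain ⟨-, -, hfrob⟩ := hH
  have hKmem : ∀ x : L, x ∈ K ↔ (x = 1 ∨ ∀ g : L, g⁻¹ * x * g ∉ H) := by
    intro x
    have : x ∈ (K : Set L) ↔ x ∈ Cfsg.frobeniusKernel H := by rw [hK]
    rw [SetLike.mem_coe] at this
    rw [this]
    simp only [Cfsg.frobeniusKernel, Set.mem_ofPred_eq, mem_conj_smul]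
  -- K ∩ H = 1
  have hKH : ∀ x ∈ K, x ∈ H → x = 1 := by
    intro x hxK hxH
    rcases (hKmem x).1 hxK with h | h
    · exact h
    · exfalso
      apply h 1
      simpa using hxH
  -- K is normal
  have hKn : K.Normal := by
    constructor
    intro x hx g
    rw [hKmem] at hx ⊢
    rcases hx with rfl | hx
    · left; simp
    · right
      intro k
      have := hx (g⁻¹ * k)
      have e : (g⁻¹ * k)⁻¹ * x * (g⁻¹ * k) = k⁻¹ * (g * x * g⁻¹) * k := by group
      rwa [e] at this
  -- Frobenius condition elementwise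
  have hfrob' : ∀ c x : L, x ∈ H → c * x * c⁻¹ = x → x ≠ 1 → c ∈ H := by
    intro c x hxH hcx hx1
    by_contra hc
    have h1 := hfrob c hc
    have h2 : x ∈ H ⊓ (MulAut.conj c • H) := by
      refine ⟨hxH, ?_⟩
      apply (mem_conj_smul H c x).2
      have : c⁻¹ * x * c = x := by
        calc c⁻¹ * x * c = c⁻¹ * (c * x * c⁻¹) * c := by rw [hcx]
          _ = x := by group
      rw [this]; exact hxH
    rw [h1, Subgroup.mem_bot] at h2
    exact hx1 h2
  have key : ∀ N : Subgroup L, N.Normal → K ≤ N ∨ N ≤ K := by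
    intro N hN
    by_cases hNK : N ≤ K
    · exact Or.inr hNK
    · left
      rw [SetLike.not_le_iff_exists] at hNK
      obtain ⟨y, hyN, hyK⟩ := hNK
      rw [hKmem, not_or, not_forall] at hyK
      obtain ⟨hy1, g, hg⟩ := hyK
      rw [not_not] at hg
      set x := g⁻¹ * y * g with hx
      have hxN : x ∈ N := by
        have := hN.conj_mem y hyN g⁻¹
        rwa [inv_inv] at this
      have hx1 : x ≠ 1 := by
        intro h
        apply hy1
        have : y = g * x * g⁻¹ := by rw [hx]; group
        rw [this, h]; group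
      -- injective map K → K ⊓ N
      let f : K → (K ⊓ N : Subgroup L) := fun k =>
        ⟨(k : L) * x * (k : L)⁻¹ * x⁻¹, by
          refine ⟨?_, ?_⟩
          · have h1 : x * (k : L)⁻¹ * x⁻¹ ∈ K := hKn.conj_mem _ (K.inv_mem k.2) x
            have : (k : L) * x * (k : L)⁻¹ * x⁻¹ = k * (x * (k : L)⁻¹ * x⁻¹) := by group
            rw [this]
            exact K.mul_mem k.2 h1
          · exact N.mul_mem (hN.conj_mem x hxN k) (N.inv_mem hxN)⟩
      have hf : Function.Injective f := by
        intro k k' hkk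
        have h1 : (k : L) * x * (k : L)⁻¹ * x⁻¹ = (k' : L) * x * (k' : L)⁻¹ * x⁻¹ :=
          congrArg Subtype.val hkk
        have h2 : ((k' : L)⁻¹ * k) * x * ((k' : L)⁻¹ * k)⁻¹ = x := by
          have h3 : (k : L) * x * (k : L)⁻¹ = (k' : L) * x * (k' : L)⁻¹ := mul_right_cancel h1
          calc ((k' : L)⁻¹ * k) * x * ((k' : L)⁻¹ * k)⁻¹ = (k' : L)⁻¹ * ((k : L) * x * (k : L)⁻¹) * k' := by group
            _ = (k' : L)⁻¹ * ((k' : L) * x * (k' : L)⁻¹) * k' := by rw [h3]
            _ = x := by group
        have h4 : (k' : L)⁻¹ * k ∈ H := hfrob' _ x hg h2 hx1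
        have h5 : (k' : L)⁻¹ * k ∈ K := K.mul_mem (K.inv_mem k'.2) k.2
        have h6 := hKH _ h5 h4
        apply Subtype.ext
        have : (k : L) = k' * ((k' : L)⁻¹ * k) := by group
        rw [this, h6, mul_one]
      have hcard : Nat.card K ≤ Nat.card (K ⊓ N : Subgroup L) := Nat.card_le_card_of_injective f hf
      have : (K ⊓ N : Subgroup L) = K := Subgroup.eq_of_le_of_card_ge inf_le_left hcard
      rw [← this]
      exact inf_le_right
  refine ⟨?_, key⟩
  rw [Subgroup.characteristic_iff_map_le]
  intro ϕ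
  have hmapn : (K.map ϕ.toMonoidHom).Normal := hKn.map _ ϕ.surjective
  have hcard : Nat.card (K.map ϕ.toMonoidHom) = Nat.card K :=
    Subgroup.card_map_of_injective ϕ.injective
  rcases key _ hmapn with h | h
  · have := Subgroup.eq_of_le_of_card_ge h (le_of_eq hcard)
    rw [← this]
  · exact h

end Cfsg.Agent.S3383
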