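import Mathlib
import Cfsg.Statements.S2579

set_option autoImplicit false
open Cfsg

namespace Cfsg.Agent.S2579

open Module Submodule LinearMap

variable {K : Type*} [Field K]

/-- Transitivity on nonzero vectors between spaces of the same finite dimension. -/
theorem exists_equiv_apply_eq {U U' : Type*} [AddCommGroup U] [Module K U] [AddCommGroup U']
    [Module K U'] [FiniteDimensional K U] [FiniteDimensional K U']
    (h : finrank K U = finrank K U') {u : U} {u' : U'} (hu : u ≠ 0) (hu' : u' ≠ 0) :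
    ∃ e : U ≃ₗ[K] U', e u = u' := by
  let j := LinearEquiv.ofFinrankEq U U' h
  have hju : j u ≠ 0 := by simpa using hu
  let f : (K ∙ j u) ≃ₗ[K] (K ∙ u') :=
    (LinearEquiv.toSpanNonzeroSingleton K U' (j u) hju).symm ≪≫ₗ
      LinearEquiv.toSpanNonzeroSingleton K U' u' hu'
  obtain ⟨a, ha⟩ := Submodule.exists_linearEquiv_restrict_eq f
  refine ⟨j ≪≫ₗ a, ?_⟩
  have h1 := ha ⟨j u, mem_span_singleton_self _⟩
  have h2 : f ⟨j u, mem_span_singleton_self _⟩ = ⟨u', mem_span_singleton_self _⟩ := by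
    simp only [f, LinearEquiv.trans_apply]
    have := LinearEquiv.coord_self K U' (j u) hju
    rw [this]
    simp
  rw [h2] at h1
  simpa using h1.symm

variable {V : Type*} [AddCommGroup V] [Module K V] [FiniteDimensional K V]

theorem range_eq_span (N : V →ₗ[K] V) (hr : finrank K (range N) = 1) (w : V) (hw : N w ≠ 0) :
    range N = K ∙ N w := by
  symm
  apply Submodule.eq_of_le_of_finrank_eq
  · rw [span_singleton_le_iff_mem]; exact LinearMap.mem_range_self N w
  · rw [hr, finrank_span_singleton hw]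

theorem isCompl_span_ker (N : V →ₗ[K] V) (hr : finrank K (range N) = 1) (w : V) (hw : N w ≠ 0) :
    IsCompl (K ∙ w) (ker N) := by
  constructor
  · rw [Submodule.disjoint_def]
    intro x hx hx'
    obtain ⟨a, rfl⟩ := mem_span_singleton.1 hx
    rw [LinearMap.mem_ker, map_smul, smul_eq_zero] at hx'
    rcases hx' with h | h
    · rw [h, zero_smul]
    · exact absurd h hw
  · rw [codisjoint_iff, eq_top_iff']
    intro x
    have hx : N x ∈ range N := LinearMap.mem_range_self N x
    rw [range_eq_span N hr w hw] at hx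
    obtain ⟨a, ha⟩ := mem_span_singleton.1 hx
    rw [Submodule.mem_sup]
    refine ⟨a • w, smul_mem _ _ (mem_span_singleton_self w), x - a • w, ?_, by abel⟩
    rw [LinearMap.mem_ker, map_sub, map_smul, ha, sub_self]

theorem exists_conj (N N' : V →ₗ[K] V) (hN : N ∘ₗ N = 0) (hN' : N' ∘ₗ N' = 0)
    (hr : finrank K (range N) = 1) (hr' : finrank K (range N') = 1) :
    ∃ g : V ≃ₗ[K] V, g.toLinearMap ∘ₗ N = N' ∘ₗ g.toLinearMap := by
  have hex : ∀ M : V →ₗ[K] V, finrank K (range M) = 1 → ∃ w, M w ≠ 0 := by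
    intro M hM
    by_contra hcon
    push Not at hcon
    have : M = 0 := LinearMap.ext hcon
    rw [this, LinearMap.range_zero, finrank_bot] at hM
    exact absurd hM (by norm_num)
  obtain ⟨w, hw⟩ := hex N hr
  obtain ⟨w', hw'⟩ := hex N' hr'
  have hw0 : w ≠ 0 := fun h => hw (by rw [h, map_zero])
  have hw0' : w' ≠ 0 := fun h => hw' (by rw [h, map_zero])
  have hc := isCompl_span_ker N hr w hw
  have hc' := isCompl_span_ker N' hr' w' hw'
  have hk : finrank K (ker N) = finrank K (ker N') := by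
    have h1 := LinearMap.finrank_range_add_finrank_ker N
    have h2 := LinearMap.finrank_range_add_finrank_ker N'
    omega
  have hv : N w ∈ ker N := by
    rw [LinearMap.mem_ker, ← LinearMap.comp_apply, hN, LinearMap.zero_apply]
  have hv' : N' w' ∈ ker N' := by
    rw [LinearMap.mem_ker, ← LinearMap.comp_apply, hN', LinearMap.zero_apply]
  obtain ⟨f₀, hf₀⟩ := exists_equiv_apply_eq (K := K) hk
    (u := (⟨N w, hv⟩ : ker N)) (u' := (⟨N' w', hv'⟩ : ker N'))
    (by simpa [Subtype.ext_iff] using hw) (by simpa [Subtype.ext_iff] using hw')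
  let e₁ : (K ∙ w) ≃ₗ[K] (K ∙ w') :=
    (LinearEquiv.toSpanNonzeroSingleton K V w hw0).symm ≪≫ₗ
      LinearEquiv.toSpanNonzeroSingleton K V w' hw0'
  have he₁ : e₁ ⟨w, mem_span_singleton_self _⟩ = ⟨w', mem_span_singleton_self _⟩ := by
    simp only [e₁, LinearEquiv.trans_apply]
    have := LinearEquiv.coord_self K V w hw0
    rw [this]
    simp
  let g : V ≃ₗ[K] V := (prodEquivOfIsCompl _ _ hc).symm ≪≫ₗ (LinearEquiv.prodCongr e₁ f₀) ≪≫ₗ
    prodEquivOfIsCompl _ _ hc'
  have hg1 : ∀ x : ker N, g x = f₀ x := by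
    intro x
    simp only [g, LinearEquiv.trans_apply, prodEquivOfIsCompl_symm_apply_right]
    simp
  have hg2' : ∀ x : (K ∙ w), g x = e₁ x := by
    intro x
    simp only [g, LinearEquiv.trans_apply, prodEquivOfIsCompl_symm_apply_left]
    simp
  have hg2 : g w = w' := by
    have := hg2' ⟨w, mem_span_singleton_self _⟩
    rw [he₁] at this
    exact this
  refine ⟨g, ?_⟩
  apply LinearMap.ext_on_codisjoint hc.codisjoint
  · intro x hx
    obtain ⟨a, rfl⟩ := mem_span_singleton.1 hx
    simp only [LinearMap.comp_apply, map_smul, LinearEquiv.coe_coe]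
    congr 1
    rw [hg2]
    have := hg1 ⟨N w, hv⟩
    simp only at this
    rw [this, hf₀]
  · intro x hx
    simp only [LinearMap.comp_apply, LinearEquiv.coe_coe]
    have h1 : N x = 0 := hx
    rw [h1, map_zero]
    have := hg1 ⟨x, hx⟩
    simp only at this
    rw [this]
    exact ((f₀ ⟨x, hx⟩).2).symm

theorem exists_commuting_det (N : V →ₗ[K] V) (hN : N ∘ₗ N = 0)
    (hr : finrank K (range N) = 1) (h3 : 3 ≤ finrank K V) (c : K) (hc : c ≠ 0) :
    ∃ d : V ≃ₗ[K] V, d.toLinearMap ∘ₗ N = N ∘ₗ d.toLinearMap ∧ LinearMap.det d.toLinearMap = c := by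
  have hle : range N ≤ ker N := by
    rintro _ ⟨x, rfl⟩
    rw [LinearMap.mem_ker, ← LinearMap.comp_apply, hN, LinearMap.zero_apply]
  have hlt : range N < ker N := by
    refine lt_of_le_of_ne hle ?_
    intro h
    have h1 := LinearMap.finrank_range_add_finrank_ker N
    rw [← h] at h1
    omega
  obtain ⟨z, hz, hz'⟩ := SetLike.exists_of_lt hlt
  obtain ⟨ψ₀, hψz, hψ⟩ := Submodule.exists_dual_map_eq_bot_of_notMem hz' inferInstance
  let ψ : Dual K V := ((c - 1) / ψ₀ z) • ψ₀
  have hψz' : ψ z = c - 1 := by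
    simp only [ψ, LinearMap.smul_apply, smul_eq_mul]
    field_simp
  have hψr : ∀ x, ψ (N x) = 0 := by
    intro x
    have : ψ₀ (N x) ∈ (range N).map ψ₀ := Submodule.mem_map_of_mem (LinearMap.mem_range_self N x)
    rw [hψ, Submodule.mem_bot] at this
    simp [ψ, this]
  have hu : IsUnit (1 + ψ z) := by
    rw [hψz']
    simpa using hc
  refine ⟨LinearEquiv.dilatransvection hu, ?_, ?_⟩
  · rw [LinearEquiv.dilatransvection.coe_toLinearMap]
    ext x
    simp only [LinearMap.comp_apply, LinearMap.transvection.apply, hψr, zero_smul, add_zero,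
      map_add, map_smul]
    have : N z = 0 := hz
    rw [this, smul_zero, add_zero]
  · rw [LinearEquiv.dilatransvection.coe_toLinearMap, LinearMap.transvection.det, hψz']
    ring

/-- In SL_n(F) with n ≥ 3, over a finite field F, any two transvections (matrices t with t − 1 of rank one and square zero) are conjugate by an element of SL_n(F). -/
theorem result {F : Type*} [Field F] [Finite F] {n : ℕ} (hn : 3 ≤ n) (s t : Matrix.SpecialLinearGroup (Fin n) F) (hs : Cfsg.IsTransvection (s : Matrix (Fin n) (Fin n) F)) (ht : Cfsg.IsTransvection (t : Matrix (Fin n) (Fin n) F)) : IsConj s t := by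
  obtain ⟨hs1, hs2⟩ := hs
  obtain ⟨ht1, ht2⟩ := ht
  set A : Matrix (Fin n) (Fin n) F := (s : Matrix (Fin n) (Fin n) F) - 1 with hA
  set B : Matrix (Fin n) (Fin n) F := (t : Matrix (Fin n) (Fin n) F) - 1 with hB
  have hNA : A.mulVecLin ∘ₗ A.mulVecLin = 0 := by
    rw [← Matrix.mulVecLin_mul, hs2, Matrix.mulVecLin_zero]
  have hNB : B.mulVecLin ∘ₗ B.mulVecLin = 0 := by
    rw [← Matrix.mulVecLin_mul, ht2, Matrix.mulVecLin_zero]
  have hrA : finrank F (range A.mulVecLin) = 1 := hs1
  have hrB : finrank F (range B.mulVecLin) = 1 := ht1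
  obtain ⟨g, hg⟩ := exists_conj A.mulVecLin B.mulVecLin hNA hNB hrA hrB
  have hdim : 3 ≤ finrank F (Fin n → F) := by simpa using hn
  have hgdet : LinearMap.det g.toLinearMap ≠ 0 := (LinearEquiv.isUnit_det' g).ne_zero
  obtain ⟨d, hd, hddet⟩ := exists_commuting_det B.mulVecLin hNB hrB hdim
    (LinearMap.det g.toLinearMap)⁻¹ (inv_ne_zero hgdet)
  let P : Matrix (Fin n) (Fin n) F := LinearMap.toMatrix' (d.toLinearMap ∘ₗ g.toLinearMap)
  have hPdet : P.det = 1 := by
    rw [LinearMap.det_toMatrix', LinearMap.det_comp, hddet, inv_mul_cancel₀ hgdet]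
  have hPA : P * A = B * P := by
    have h1 : (d.toLinearMap ∘ₗ g.toLinearMap) ∘ₗ A.mulVecLin =
        B.mulVecLin ∘ₗ (d.toLinearMap ∘ₗ g.toLinearMap) := by
      rw [LinearMap.comp_assoc, hg, ← LinearMap.comp_assoc, hd, LinearMap.comp_assoc]
    rw [← Matrix.toLin'_apply', ← Matrix.toLin'_apply'] at h1
    have h2 := congrArg LinearMap.toMatrix' h1
    simp only [LinearMap.toMatrix'_comp, LinearMap.toMatrix'_toLin'] at h2
    simp only [P, LinearMap.toMatrix'_comp]
    exact h2
  have hPs : P * (s : Matrix (Fin n) (Fin n) F) = (t : Matrix (Fin n) (Fin n) F) * P := by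
    have h1 : P * (A + 1) = (B + 1) * P := by rw [mul_add, add_mul, hPA, mul_one, one_mul]
    simpa [hA, hB] using h1
  rw [isConj_iff]
  let Ps : Matrix.SpecialLinearGroup (Fin n) F := ⟨P, hPdet⟩
  refine ⟨Ps, ?_⟩
  rw [mul_inv_eq_iff_eq_mul]
  apply Subtype.ext
  rw [Matrix.SpecialLinearGroup.coe_mul, Matrix.SpecialLinearGroup.coe_mul]
  exact hPs

end Cfsg.Agent.S2579
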