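import Cfsg.Statements.S1699
import Cfsg.Agent.Lib.Helper4.TCD_ON1_Fin
import Cfsg.Agent.Lib.Helper4.TCD_ON1O_Fin
import Cfsg.Agent.Lib.Helper4.TCD_ONU1_Fin
import Cfsg.Agent.Lib.Helper4.TCD_ONU2_Fin
import Cfsg.Agent.Lib.Helper4.TCD_ONL_Fin
import Cfsg.Agent.Lib.Helper4.TCD_ONX_Fin
import Cfsg.Agent.Lib.Helper4.TCD_ONQ
import Cfsg.Agent.Lib.Helper4.TC13

set_option autoImplicit false
open Cfsg

namespace Cfsg.Agent.S1699

open Cfsg.Agent.Lib.Helper4.TC Cfsg.Agent.Lib.Helper4.TCD

/-- the order and the faithful permutation representation -/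
theorem order_aux : Finite PON.P.Grp ∧ Function.Injective ON1.inst.phi ∧ Nat.card PON.P.Grp = 460815505920 := by
  have e0 : letG PON.P [] = ⊥ := letG_nil _
  have f0 : Finite (letG PON.P []) := by rw [e0]; infer_instance
  have c0 : Nat.card (letG PON.P []) = 1 := by rw [e0]; exact Subgroup.card_bot
  obtain ⟨f2, c2⟩ := ONU2.card_le f0
  obtain ⟨f1, c1⟩ := ONU1.card_le f2
  have hs : Inst.subG PON.P ON1.subs = letG PON.P [2, 3, 4, 5, 6, 7] :=
    ON1.inst.subG_eq_letG _ (by decide)
  have fs : Finite (Inst.subG PON.P ON1.subs) := by rw [hs]; exact f1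
  have cs : Nat.card (Inst.subG PON.P ON1.subs) ≤ 5586 * (672 * (1)) := by
    rw [hs]
    calc Nat.card (letG PON.P [2, 3, 4, 5, 6, 7]) ≤ 5586 * Nat.card (letG PON.P [2, 4, 5, 6, 7]) := c1
      _ ≤ 5586 * (672 * (Nat.card (letG PON.P []))) := Nat.mul_le_mul_left _ (c2)
      _ = 5586 * (672 * (1)) := by rw [c0]
  obtain ⟨fG, cG⟩ := ON1.inst.card_le _ fs cs
  have hub : Nat.card PON.P.Grp ≤ 460815505920 := le_trans cG (by decide)
  obtain ⟨hinj, hcard⟩ := ON1.inst.card_eq ONL.S rfl rfl ONL.htab0 ONL.ok 460815505920 (by decide)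
    ONL.prod_eq fG hub
  exact ⟨fG, hinj, hcard⟩

theorem simple_aux : IsSimpleGroup PON.P.Grp := by
  obtain ⟨fG, hinj, hcard⟩ := order_aux
  have hidx := ON1.index_eq
  have hH : Nat.card (Inst.subG PON.P ON1.subs) = 3753792 := by
    have := (Inst.subG PON.P ON1.subs).index_mul_card
    rw [hidx, hcard] at this
    omega
  apply ON1.inst.simple hinj fG [1, 58653, 52136, 5586, 6384] (by decide) _ (by decide) 5 (by norm_num)
    (by rw [hH]; decide) ONQ.xw (by decide) ONQ.h_xq ONX.normalClosure_eq_top (by decide)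
  refine ⟨?_, ?_, ?_, ?_, ?_, trivial⟩
  · intro j j' _ h2 _ h4
    have e1 : j = j' := Fin.ext (by omega)
    exact ⟨1, one_mem _, by rw [one_smul, e1]⟩
  · intro j j' h1 h2 h3 h4
    exact ON1.inst.trans_of_orbit_eq 1 58654 (by decide) (by decide)
      (ON1.inst.orbit_eq ON1.oparTab ON1.olabTab 1 58654 (by decide) (by decide) ON1O.orb_inv_0 ON1O.orb_tree_0)
      j j' (by omega) (by omega) (by omega) (by omega)
  · intro j j' h1 h2 h3 h4
    exact ON1.inst.trans_of_orbit_eq 58654 110790 (by decide) (by decide)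
      (ON1.inst.orbit_eq ON1.oparTab ON1.olabTab 58654 110790 (by decide) (by decide) ON1O.orb_inv_1 ON1O.orb_tree_1)
      j j' (by omega) (by omega) (by omega) (by omega)
  · intro j j' h1 h2 h3 h4
    exact ON1.inst.trans_of_orbit_eq 110790 116376 (by decide) (by decide)
      (ON1.inst.orbit_eq ON1.oparTab ON1.olabTab 110790 116376 (by decide) (by decide) ON1O.orb_inv_2 ON1O.orb_tree_2)
      j j' (by omega) (by omega) (by omega) (by omega)
  · intro j j' h1 h2 h3 h4
    exact ON1.inst.trans_of_orbit_eq 116376 122760 (by decide) (by decide)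
      (ON1.inst.orbit_eq ON1.oparTab ON1.olabTab 116376 122760 (by decide) (by decide) ON1O.orb_inv_3 ON1O.orb_tree_3)
      j j' (by omega) (by omega) (by omega) (by omega)

/-- The presented O'Nan group is simple of the expected order (that is, it is a simple group of the order of the O'Nan group). -/
theorem result : Cfsg.IsON Cfsg.Spor.ON := by
  exact ⟨simple_aux, order_aux.2.2⟩

end Cfsg.Agent.S1699
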