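import Cfsg.Statements.S4500
import Cfsg.Agent.Lib.Helper6.BlkOrth2
import Cfsg.Agent.Lib.Helper6.BlkPrincipal
import Cfsg.Agent.Lib.Helper6.BlkVanish
import Cfsg.Agent.Lib.Helper6.Mult
import Cfsg.Agent.Lib.Helper6.Multiplicity
import Cfsg.Agent.Lib.Helper6.IrrBasis
import Cfsg.Agent.S4710
import Cfsg.Agent.S0144

set_option autoImplicit false
open Cfsg

namespace Cfsg.Agent.S4500

open Cfsg.Agent.Lib.Helper6
open scoped ComplexConjugate

theorem exists_linear_ne_one {G : Type*} [Group G] [Finite G] (h : commutator G ≠ ⊤) :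
    ∃ χ : Cfsg.IrrCharacter G, (χ : G → ℂ) ≠ (fun _ => 1) ∧ Cfsg.charDegree (χ : G → ℂ) = 1 := by
  classical
  obtain ⟨g, hg⟩ : ∃ g : G, g ∉ commutator G := by
    by_contra hcon
    push Not at hcon
    exact h (eq_top_iff.mpr fun x _ => hcon x)
  have ha : (Abelianization.of g : Abelianization G) ≠ 1 := by
    intro h1
    apply hg
    have : ((g : G) : G ⧸ commutator G) = 1 := h1
    exact (QuotientGroup.eq_one_iff g).mp this
  haveI : Finite (Abelianization G) := by
    unfold Abelianization; infer_instance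
  obtain ⟨φ, hφ⟩ := CommGroup.exists_apply_ne_one_of_hasEnoughRootsOfUnity (Abelianization G) ℂ ha
  let lam : G →* ℂˣ := φ.comp Abelianization.of
  refine ⟨⟨fun x => (lam x : ℂ), isIrrCharacter_of_hom lam⟩, ?_, ?_⟩
  · intro hcon
    have h1 := congrFun hcon g
    simp only at h1
    apply hφ
    have h2 : ((lam g : ℂˣ) : ℂ) = ((1 : ℂˣ) : ℂ) := by simpa using h1
    exact Units.ext h2
  · show Cfsg.charDegree (fun x => ((lam x : ℂˣ) : ℂ)) = 1
    unfold Cfsg.charDegree
    simp

theorem key {G : Type*} [Group G] [Finite G] [Nontrivial G] (p q r a b c : ℕ) (hp : p.Prime)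
    (hq : q.Prime) (hr : r.Prime) (hpq : p ≠ q) (hpr : p ≠ r) (hqr : q ≠ r) (ha : a ≤ 2)
    (hG : Nat.card G = p ^ a * q ^ b * r ^ c) :
    ∃ χ : Cfsg.IrrCharacter G, (χ : G → ℂ) ≠ (fun _ => 1) ∧
      ∃ k : ℕ, Cfsg.charDegree (χ : G → ℂ) = q ^ k := by
  classical
  by_cases hc : commutator G = ⊤
  swap
  · obtain ⟨χ, h1, h2⟩ := exists_linear_ne_one hc
    exact ⟨χ, h1, 0, by rw [h2, pow_zero]⟩
  have hns : ¬ Group.IsSolvable G := by
    intro hs
    haveI := hs
    have := IsSolvable.commutator_lt_top_of_nontrivial G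
    rw [hc] at this
    exact lt_irrefl _ this
  have ha0 : a ≠ 0 := by
    intro h0
    apply hns
    refine Cfsg.Agent.S0144.result q r b c hq hr ?_
    rw [hG, h0, pow_zero, one_mul]
  haveI : Fact p.Prime := ⟨hp⟩
  obtain ⟨M, hM⟩ := exists_isPModular p
  haveI : Fintype G := Fintype.ofFinite G
  haveI : Fintype (Cfsg.IrrCharacter G) := Fintype.ofFinite _
  by_contra hcon
  push Not at hcon
  -- the principal block
  have hB : Cfsg.IsPBlock M (Cfsg.principalBlock M G) := ⟨oneIrr G, principalBlock_eq⟩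
  have hfac : (Nat.card G).factorization p = a := by
    rw [hG, Nat.factorization_def _ hp]
    haveI : Fact q.Prime := ⟨hq⟩
    haveI : Fact r.Prime := ⟨hr⟩
    have e1 : p ^ a ≠ 0 := pow_ne_zero _ hp.ne_zero
    have e2 : q ^ b ≠ 0 := pow_ne_zero _ hq.ne_zero
    have e3 : r ^ c ≠ 0 := pow_ne_zero _ hr.ne_zero
    rw [padicValNat.mul (mul_ne_zero e1 e2) e3,
      padicValNat.mul e1 e2, padicValNat.prime_pow,
      padicValNat.pow, padicValNat.pow,
      padicValNat_primes hpq, padicValNat_primes hpr]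
    simp
  have hd : Cfsg.blockDefect p (Cfsg.principalBlock M G) = a := by
    rw [blockDefect_principal hM, hfac]
  have h10 := Cfsg.Agent.S4710.result p M hM _ hB a hd
  have hone_mem : oneIrr G ∈ Cfsg.principalBlock M G := by
    rw [principalBlock_eq]; exact sameBlock_refl hM _
  have hdeg_one : Cfsg.charDegree ((oneIrr G : Cfsg.IrrCharacter G) : G → ℂ) = 1 := by
    show Cfsg.charDegree (fun _ : G => (1 : ℂ)) = 1
    exact charDegree_one_fun
  have hnp : ∀ χ ∈ Cfsg.principalBlock M G, ¬ p ∣ Cfsg.charDegree (χ : G → ℂ) := by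
    intro χ hχ
    have hh : Cfsg.blockHeight p (Cfsg.principalBlock M G) (χ : G → ℂ) = 0 := by
      obtain ⟨h1, h2⟩ := h10.2 χ hχ
      by_cases ha1 : a ≤ 1
      · exact h1 ha1
      · have : a = 2 := by omega
        have := h2 (by omega)
        omega
    unfold Cfsg.blockHeight at hh
    have hle : sInf ((fun ψ : Cfsg.IrrCharacter G =>
        (Cfsg.charDegree (ψ : G → ℂ)).factorization p) '' (Cfsg.principalBlock M G)) ≤ 0 := by
      apply Nat.sInf_le
      refine ⟨oneIrr G, hone_mem, ?_⟩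
      show (Cfsg.charDegree ((oneIrr G : Cfsg.IrrCharacter G) : G → ℂ)).factorization p = 0
      rw [hdeg_one]; simp
    have h0 : (Cfsg.charDegree (χ : G → ℂ)).factorization p = 0 := by omega
    rcases (Nat.factorization_eq_zero_iff _ _).mp h0 with h | h | h
    · exact absurd hp h
    · exact h
    · exact absurd h (IsIrrCharacter.charDegree_pos χ.2).ne'
  -- every nonprincipal member of the principal block has degree divisible by r
  have hr_dvd : ∀ χ ∈ Cfsg.principalBlock M G, χ ≠ oneIrr G →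
      r ∣ Cfsg.charDegree (χ : G → ℂ) := by
    intro χ hχ hne
    by_contra hrn
    have hdvd : Cfsg.charDegree (χ : G → ℂ) ∣ p ^ a * q ^ b * r ^ c := by
      rw [← hG]; exact IsIrrCharacter.charDegree_dvd_card χ.2
    have hcop1 : Nat.Coprime (Cfsg.charDegree (χ : G → ℂ)) (p ^ a) :=
      Nat.Coprime.pow_right _ ((Nat.Prime.coprime_iff_not_dvd hp).mpr (hnp χ hχ)).symm
    have hcop2 : Nat.Coprime (Cfsg.charDegree (χ : G → ℂ)) (r ^ c) :=
      Nat.Coprime.pow_right _ ((Nat.Prime.coprime_iff_not_dvd hr).mpr hrn).symm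
    have h1 : Cfsg.charDegree (χ : G → ℂ) ∣ p ^ a * q ^ b := hcop2.dvd_of_dvd_mul_right hdvd
    have h2 : Cfsg.charDegree (χ : G → ℂ) ∣ q ^ b := hcop1.dvd_of_dvd_mul_left h1
    obtain ⟨k, -, hk⟩ := (Nat.dvd_prime_pow hq).mp h2
    refine hcon χ ?_ k hk
    intro h3
    apply hne
    exact Subtype.ext h3
  -- an element of order p
  obtain ⟨u, hu⟩ : ∃ u : G, orderOf u = p := by
    apply exists_prime_orderOf_dvd_card p
    rw [← Nat.card_eq_fintype_card, hG, mul_assoc]
    exact Dvd.dvd.mul_right (dvd_pow_self p ha0) _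
  have horth := weak_block_orthogonality_finset hM (oneIrr G) (1 : G) u
    (by rw [orderOf_one]; exact hp.not_dvd_one) (by rw [hu])
  rw [← principalBlock_eq] at horth
  have hone_filter : oneIrr G ∈ Finset.univ.filter (· ∈ Cfsg.principalBlock M G) := by
    simp [hone_mem]
  rw [← Finset.add_sum_erase _ _ hone_filter] at horth
  have hfirst : ((oneIrr G : Cfsg.IrrCharacter G) : G → ℂ) 1 *
      (starRingEnd ℂ) (((oneIrr G : Cfsg.IrrCharacter G) : G → ℂ) u) = 1 := by
    show (1 : ℂ) * (starRingEnd ℂ) (1 : ℂ) = 1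
    simp
  rw [hfirst] at horth
  have hrest : ∑ χ ∈ (Finset.univ.filter (· ∈ Cfsg.principalBlock M G)).erase (oneIrr G),
      (χ : G → ℂ) 1 * (starRingEnd ℂ) ((χ : G → ℂ) u) =
      (r : ℂ) * ∑ χ ∈ (Finset.univ.filter (· ∈ Cfsg.principalBlock M G)).erase (oneIrr G),
        ((Cfsg.charDegree (χ : G → ℂ) / r : ℕ) : ℂ) * (starRingEnd ℂ) ((χ : G → ℂ) u) := by
    rw [Finset.mul_sum]
    apply Finset.sum_congr rfl
    intro χ hχ
    rw [Finset.mem_erase, Finset.mem_filter] at hχ
    have hd := hr_dvd χ hχ.2.2 hχ.1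
    rw [IsCharacter.apply_one_eq_charDegree (IsIrrCharacter.isCharacter χ.2)]
    obtain ⟨m, hm⟩ := hd
    rw [hm, Nat.mul_div_cancel_left _ hr.pos]
    push_cast
    ring
  rw [hrest] at horth
  set α : ℂ := ∑ χ ∈ (Finset.univ.filter (· ∈ Cfsg.principalBlock M G)).erase (oneIrr G),
        ((Cfsg.charDegree (χ : G → ℂ) / r : ℕ) : ℂ) * (starRingEnd ℂ) ((χ : G → ℂ) u) with hα
  have hint : IsIntegral ℤ α := by
    apply IsIntegral.sum
    intro χ _
    apply IsIntegral.mul
    · exact isIntegral_natCast _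
    · exact map_isIntegral_int (starRingEnd ℂ)
        (IsCharacter.isIntegral_apply (IsIrrCharacter.isCharacter χ.2) u)
  have hr0 : (r : ℂ) ≠ 0 := by exact_mod_cast hr.ne_zero
  have hαq : α = ((-(1 : ℚ) / r : ℚ) : ℂ) := by
    push_cast
    field_simp
    linear_combination horth
  obtain ⟨k, hk⟩ := (IsIntegral.exists_int_iff_exists_rat hint).mp ⟨_, hαq⟩
  rw [hk] at horth
  have h4 : (1 : ℤ) + (r : ℤ) * k = 0 := by exact_mod_cast horth
  have h5 : (r : ℤ) ∣ 1 := ⟨-k, by linarith⟩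
  have h6 : r ∣ 1 := by exact_mod_cast h5
  exact hr.one_lt.ne' (Nat.dvd_one.mp h6)

/-- Let G be a non-trivial finite group of order p^a · q^b · r^c with p, q, r distinct primes and a ≤ 2. Then G has a non-principal irreducible character whose degree is a power of q, and a non-principal irreducible character whose degree is a power of r; the power may be the zeroth, so a non-principal linear character serves for both. -/
theorem result {G : Type*} [Group G] [Finite G] [Nontrivial G] (p q r a b c : ℕ) (hp : p.Prime) (hq : q.Prime) (hr : r.Prime) (hpq : p ≠ q) (hpr : p ≠ r) (hqr : q ≠ r) (ha : a ≤ 2) (hG : Nat.card G = p ^ a * q ^ b * r ^ c) : (∃ χ : Cfsg.IrrCharacter G, (χ : G → ℂ) ≠ (fun _ => 1) ∧ ∃ k : ℕ, Cfsg.charDegree (χ : G → ℂ) = q ^ k) ∧ ∃ χ : Cfsg.IrrCharacter G, (χ : G → ℂ) ≠ (fun _ => 1) ∧ ∃ k : ℕ, Cfsg.charDegree (χ : G → ℂ) = r ^ k := by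
  refine ⟨key p q r a b c hp hq hr hpq hpr hqr ha hG, ?_⟩
  refine key p r q a c b hp hr hq hpr hpq hqr.symm ha ?_
  rw [hG]; ring

end Cfsg.Agent.S4500
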