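import Cfsg.Statements.S2428
import Cfsg.Agent.Lib.Helper4.SL2Borel

set_option autoImplicit false
open Cfsg

namespace Cfsg.Agent.S2428

open Cfsg.Agent.Lib.Helper4

variable {F : Type*} [Field F]

abbrev SL2 (F : Type*) [Field F] := Matrix.SpecialLinearGroup (Fin 2) F

/-- monomial elements of `SL₂`: `mono false t = diag(t, t⁻¹)`, `mono true t = [[0,t],[-t⁻¹,0]]` -/
def mono : Bool → Fˣ → SL2 F
  | false, t => ⟨!![(t : F), 0; 0, ((t⁻¹ : Fˣ) : F)], by simp [Matrix.det_fin_two_of]⟩
  | true, t => ⟨!![0, (t : F); -((t⁻¹ : Fˣ) : F), 0], by simp [Matrix.det_fin_two_of]⟩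

theorem mono_false_coe (t : Fˣ) :
    (mono false t : Matrix (Fin 2) (Fin 2) F) = !![(t : F), 0; 0, ((t⁻¹ : Fˣ) : F)] := rfl

theorem mono_true_coe (t : Fˣ) :
    (mono true t : Matrix (Fin 2) (Fin 2) F) = !![0, (t : F); -((t⁻¹ : Fˣ) : F), 0] := rfl

/-- monomial matrices -/
def IsMono (g : SL2 F) : Prop :=
  (g 0 1 = 0 ∧ g 1 0 = 0) ∨ (g 0 0 = 0 ∧ g 1 1 = 0)

theorem mono_isMono (i : Bool) (t : Fˣ) : IsMono (mono i t) := by
  rcases i
  · left; simp [mono_false_coe]
  · right; simp [mono_true_coe]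

theorem exists_mono (g : SL2 F) (h : IsMono g) : ∃ i t, g = mono i t := by
  have hd := sl2_det g
  rcases h with ⟨h1, h2⟩ | ⟨h1, h2⟩
  · rw [h1, zero_mul, sub_zero] at hd
    refine ⟨false, Units.mkOfMulEqOne _ _ hd, ?_⟩
    rw [sl2_ext_iff]
    simp only [mono_false_coe, Matrix.of_apply, Matrix.cons_val', Matrix.cons_val_zero,
      Matrix.cons_val_one, Matrix.cons_val_fin_one]
    refine ⟨?_, h1, h2, ?_⟩
    · simp
    · simp
      exact eq_inv_of_mul_eq_one_right hd
  · rw [h1, zero_mul, zero_sub] at hd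
    have hd' : g 0 1 * (- g 1 0) = 1 := by linear_combination hd
    refine ⟨true, Units.mkOfMulEqOne _ _ hd', ?_⟩
    rw [sl2_ext_iff]
    simp only [mono_true_coe, Matrix.of_apply, Matrix.cons_val', Matrix.cons_val_zero,
      Matrix.cons_val_one, Matrix.cons_val_fin_one]
    refine ⟨h1, ?_, ?_, h2⟩
    · simp
    · simp
      rw [← eq_inv_of_mul_eq_one_right hd', neg_neg]

theorem mono_injective (i j : Bool) (s t : Fˣ) (h : (mono i s : SL2 F) = mono j t) :
    i = j ∧ s = t := by
  rw [sl2_ext_iff] at h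
  rcases i <;> rcases j <;>
    simp only [mono_false_coe, mono_true_coe, Matrix.of_apply, Matrix.cons_val', Matrix.cons_val_zero,
      Matrix.cons_val_one, Matrix.cons_val_fin_one] at h
  · exact ⟨rfl, Units.ext h.1⟩
  · exact absurd h.1 s.ne_zero
  · exact absurd h.1.symm t.ne_zero
  · exact ⟨rfl, Units.ext h.2.1⟩

/-- the commuting relation on parameters -/
def P [DecidableEq F] : Bool × Fˣ → Bool × Fˣ → Bool
  | (false, _), (false, _) => true
  | (false, s), (true, _) => decide (s ^ 2 = 1)
  | (true, _), (false, t) => decide (t ^ 2 = 1)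
  | (true, s), (true, t) => decide (s ^ 2 = t ^ 2)

theorem units_sq_eq_one_iff (s : Fˣ) : s ^ 2 = 1 ↔ (s : F) = ((s⁻¹ : Fˣ) : F) := by
  constructor
  · intro h
    congr 1
    rw [eq_inv_iff_mul_eq_one, ← pow_two, h]
  · intro h
    have h' : s = s⁻¹ := Units.ext h
    rw [pow_two]
    nth_rewrite 2 [h']
    exact mul_inv_cancel s

theorem commute_mono_iff [DecidableEq F] (x y : Bool × Fˣ) :
    Commute (mono x.1 x.2 : SL2 F) (mono y.1 y.2) ↔ P x y = true := by
  obtain ⟨i, s⟩ := x
  obtain ⟨j, t⟩ := y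
  unfold Commute SemiconjBy
  rw [sl2_ext_iff]
  rcases i <;> rcases j <;>
    simp only [P, decide_eq_true_eq, Matrix.SpecialLinearGroup.coe_mul, mono_false_coe, mono_true_coe,
      Matrix.mul_apply,
      Fin.sum_univ_two, Matrix.of_apply, Matrix.cons_val', Matrix.cons_val_zero,
      Matrix.cons_val_one, Matrix.cons_val_fin_one]
  · simp only [iff_true]
    refine ⟨by ring, by ring, by ring, by ring⟩
  · rw [units_sq_eq_one_iff]
    constructor
    · rintro ⟨-, h, -, -⟩
      have ht : (t : F) ≠ 0 := t.ne_zero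
      have : (t : F) * ((s : F) - ((s⁻¹ : Fˣ) : F)) = 0 := by linear_combination h
      rcases mul_eq_zero.mp this with h | h
      · exact absurd h ht
      · exact sub_eq_zero.mp h
    · intro h
      refine ⟨by ring, ?_, ?_, by ring⟩
      · rw [← h]; ring
      · rw [← h]; ring
  · rw [units_sq_eq_one_iff]
    constructor
    · rintro ⟨-, h, -, -⟩
      have hs : (s : F) ≠ 0 := s.ne_zero
      have : (s : F) * (((t⁻¹ : Fˣ) : F) - (t : F)) = 0 := by linear_combination h
      rcases mul_eq_zero.mp this with h | h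
      · exact absurd h hs
      · exact (sub_eq_zero.mp h).symm
    · intro h
      refine ⟨by ring, ?_, ?_, by ring⟩
      · rw [← h]; ring
      · rw [← h]; ring
  · have hs : (s : F) ≠ 0 := s.ne_zero
    have ht : (t : F) ≠ 0 := t.ne_zero
    simp only [Units.val_inv_eq_inv_val]
    constructor
    · rintro ⟨h, -, -, -⟩
      apply Units.ext
      simp only [Units.val_pow_eq_pow_val]
      field_simp at h
      linear_combination -h
    · intro h
      have h' := congrArg Units.val h
      simp only [Units.val_pow_eq_pow_val] at h'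
      refine ⟨?_, by ring, by ring, ?_⟩
      · field_simp
        linear_combination -h'
      · field_simp
        linear_combination h'

theorem card_sq_eq [Fintype F] [DecidableEq F] (h2 : (2 : F) ≠ 0) (s : Fˣ) :
    (Finset.univ.filter (fun t : Fˣ => s ^ 2 = t ^ 2)).card = 2 := by
  have hne : s ≠ -s := by
    intro h
    have h' := congrArg Units.val h
    simp only [Units.val_neg] at h'
    have : (2 : F) * (s : F) = 0 := by linear_combination h'
    rcases mul_eq_zero.mp this with h | h
    · exact h2 h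
    · exact s.ne_zero h
  have : Finset.univ.filter (fun t : Fˣ => s ^ 2 = t ^ 2) = {s, -s} := by
    ext t
    simp only [Finset.mem_filter, Finset.mem_univ, true_and, Finset.mem_insert, Finset.mem_singleton]
    constructor
    · intro h
      have h' := congrArg Units.val h
      simp only [Units.val_pow_eq_pow_val] at h'
      have : ((t : F) - (s : F)) * ((t : F) + (s : F)) = 0 := by linear_combination -h'
      rcases mul_eq_zero.mp this with h | h
      · left; exact Units.ext (sub_eq_zero.mp h)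
      · right; apply Units.ext; simp only [Units.val_neg]; linear_combination h
    · rintro (rfl | rfl)
      · rfl
      · simp
  rw [this, Finset.card_pair hne]

theorem card_P [Fintype F] [DecidableEq F] (h2 : (2 : F) ≠ 0) :
    Nat.card {p : (Bool × Fˣ) × (Bool × Fˣ) // P p.1 p.2 = true} =
      (Fintype.card F - 1) * (Fintype.card F + 5) := by
  rw [Nat.card_eq_fintype_card, Fintype.card_subtype, Finset.card_filter,
    Fintype.sum_prod_type, Fintype.sum_prod_type]
  simp only [Fintype.sum_prod_type, Fintype.sum_bool, P, decide_eq_true_eq]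
  have e1 : ∀ s : Fˣ, (∑ t : Fˣ, if s ^ 2 = t ^ 2 then 1 else 0) = 2 := by
    intro s
    rw [← Finset.card_filter]
    exact card_sq_eq h2 s
  have e2 : (∑ t : Fˣ, if t ^ 2 = 1 then 1 else 0) = 2 := by
    have := e1 1
    simp only [one_pow] at this
    refine (Finset.sum_congr rfl ?_).trans this
    intro t _
    by_cases h : t ^ 2 = 1
    · rw [if_pos h, if_pos h.symm]
    · rw [if_neg h, if_neg (fun h' => h h'.symm)]
  simp only [e1, e2, if_true, Finset.sum_const, Finset.card_univ, smul_eq_mul, Fintype.card_units,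
    mul_one]
  have hq : 1 ≤ Fintype.card F := Fintype.card_pos
  rw [Finset.sum_add_distrib, ← Finset.mul_sum, e2, Finset.sum_const, Finset.card_univ,
    Fintype.card_units, smul_eq_mul]
  obtain ⟨m, hm⟩ : ∃ m, Fintype.card F = m + 1 := ⟨Fintype.card F - 1, by omega⟩
  rw [hm, Nat.add_sub_cancel]
  ring

/-- parametrisation of a subgroup consisting of the monomial elements -/
noncomputable def monoEquiv (N : Subgroup (SL2 F)) (hN : ∀ g, g ∈ N ↔ IsMono g) : Bool × Fˣ ≃ N :=
  Equiv.ofBijective (fun x => ⟨mono x.1 x.2, (hN _).mpr (mono_isMono _ _)⟩) (by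
    constructor
    · rintro ⟨i, s⟩ ⟨j, t⟩ h
      have h' := congrArg Subtype.val h
      simp only at h'
      obtain ⟨h1, h2⟩ := mono_injective i j s t h'
      rw [h1, h2]
    · rintro ⟨g, hg⟩
      obtain ⟨i, t, rfl⟩ := exists_mono g ((hN g).mp hg)
      exact ⟨(i, t), rfl⟩)

theorem monoEquiv_coe (N : Subgroup (SL2 F)) (hN : ∀ g, g ∈ N ↔ IsMono g) (x : Bool × Fˣ) :
    ((monoEquiv N hN x : N) : SL2 F) = mono x.1 x.2 := rfl

theorem card_of_mono [Fintype F] (N : Subgroup (SL2 F)) (hN : ∀ g, g ∈ N ↔ IsMono g) :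
    Nat.card N = 2 * (Fintype.card F - 1) := by
  classical
  rw [← Nat.card_congr (monoEquiv N hN), Nat.card_prod, Nat.card_eq_fintype_card,
    Nat.card_eq_fintype_card, Fintype.card_bool, Fintype.card_units]

theorem card_conjClasses_of_mono [Fintype F] (hodd : Odd (Fintype.card F)) (h2 : (2 : F) ≠ 0)
    (N : Subgroup (SL2 F)) (hN : ∀ g, g ∈ N ↔ IsMono g) :
    Nat.card (ConjClasses N) = (Fintype.card F + 5) / 2 := by
  classical
  have h1 := card_comm_eq_card_conjClasses_mul_card N
  have h3 : Nat.card { p : N × N // Commute p.1 p.2 } =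
      Nat.card {p : (Bool × Fˣ) × (Bool × Fˣ) // P p.1 p.2 = true} := by
    symm
    apply Nat.card_congr
    refine Equiv.subtypeEquiv (Equiv.prodCongr (monoEquiv N hN) (monoEquiv N hN)) ?_
    rintro ⟨x, y⟩
    simp only [Equiv.prodCongr_apply, Prod.map_apply]
    rw [← commute_mono_iff]
    constructor
    · intro h
      apply Subtype.ext
      exact h
    · intro h
      exact congrArg Subtype.val h
  rw [h3, card_P h2, card_of_mono N hN] at h1
  obtain ⟨k, hk⟩ := hodd
  have hq : 2 ≤ Fintype.card F := by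
    have := Fintype.one_lt_card (α := F)
    omega
  have hk1 : 1 ≤ k := by omega
  rw [hk] at h1 ⊢
  have e1 : 2 * k + 1 - 1 = 2 * k := by omega
  have e2 : 2 * k + 1 + 5 = 2 * (k + 3) := by ring
  rw [e1, e2] at h1
  rw [e2, Nat.mul_div_cancel_left _ (by norm_num : 0 < 2)]
  have h4 : 2 * k * (2 * (k + 3)) = (k + 3) * (2 * (2 * k)) := by ring
  rw [h4] at h1
  exact (Nat.eq_of_mul_eq_mul_right (by omega) h1).symm

theorem mem_centralizer_iff (d : SL2 F) (hd01 : d 0 1 = 0) (hd10 : d 1 0 = 0) (hda : d 0 0 ^ 2 ≠ 1)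
    (g : SL2 F) :
    g ∈ Subgroup.centralizer ({d} : Set (SL2 F)) ↔ (g 0 1 = 0 ∧ g 1 0 = 0) := by
  have hd := sl2_det d
  rw [hd01, zero_mul, sub_zero] at hd
  have hne : d 0 0 - d 1 1 ≠ 0 := by
    intro h
    apply hda
    have : d 0 0 = d 1 1 := sub_eq_zero.mp h
    rw [pow_two]
    nth_rewrite 2 [this]
    exact hd
  rw [Subgroup.mem_centralizer_singleton_iff, sl2_ext_iff]
  simp only [Matrix.SpecialLinearGroup.coe_mul, Matrix.mul_apply, Fin.sum_univ_two, hd01, hd10,
    mul_zero, zero_mul, add_zero, zero_add]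
  constructor
  · rintro ⟨-, h1, h2, -⟩
    constructor
    · have : g 0 1 * (d 0 0 - d 1 1) = 0 := by linear_combination -h1
      rcases mul_eq_zero.mp this with h | h
      · exact h
      · exact absurd h hne
    · have : g 1 0 * (d 0 0 - d 1 1) = 0 := by linear_combination h2
      rcases mul_eq_zero.mp this with h | h
      · exact h
      · exact absurd h hne
  · rintro ⟨h1, h2⟩
    rw [h1, h2]
    refine ⟨by ring, by ring, by ring, by ring⟩

theorem mem_normalizer_iff (d : SL2 F) (hd01 : d 0 1 = 0) (hd10 : d 1 0 = 0) (hda : d 0 0 ^ 2 ≠ 1)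
    (g : SL2 F) :
    g ∈ Subgroup.normalizer ((Subgroup.centralizer ({d} : Set (SL2 F)) : Subgroup (SL2 F)) : Set (SL2 F)) ↔
      IsMono g := by
  have hd := sl2_det d
  rw [hd01, zero_mul, sub_zero] at hd
  have hne : d 0 0 - d 1 1 ≠ 0 := by
    intro h
    apply hda
    have : d 0 0 = d 1 1 := sub_eq_zero.mp h
    rw [pow_two]
    nth_rewrite 2 [this]
    exact hd
  have hg := sl2_det g
  rw [Subgroup.mem_normalizer_iff]
  have key : ∀ h : SL2 F,
      ((g * h * g⁻¹ : SL2 F) : Matrix (Fin 2) (Fin 2) F) 0 1 =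
        - g 0 0 * g 0 1 * h 0 0 + g 0 0 * g 0 0 * h 0 1 - g 0 1 * g 0 1 * h 1 0 + g 0 0 * g 0 1 * h 1 1 ∧
      ((g * h * g⁻¹ : SL2 F) : Matrix (Fin 2) (Fin 2) F) 1 0 =
        g 1 0 * g 1 1 * h 0 0 - g 1 0 * g 1 0 * h 0 1 + g 1 1 * g 1 1 * h 1 0 - g 1 0 * g 1 1 * h 1 1 := by
    intro h
    rw [Matrix.SpecialLinearGroup.coe_mul, Matrix.SpecialLinearGroup.coe_mul,
      Matrix.SpecialLinearGroup.coe_inv, Matrix.adjugate_fin_two]
    simp only [Matrix.mul_apply, Fin.sum_univ_two, Matrix.of_apply, Matrix.cons_val_zero,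
      Matrix.cons_val_one, Matrix.cons_val', Matrix.cons_val_fin_one]
    constructor <;> ring
  constructor
  · intro h
    have h1 := (h d).mp (by rw [mem_centralizer_iff d hd01 hd10 hda]; exact ⟨hd01, hd10⟩)
    rw [mem_centralizer_iff d hd01 hd10 hda, (key d).1, (key d).2, hd01, hd10] at h1
    obtain ⟨h3, h4⟩ := h1
    have h3' : g 0 0 * g 0 1 * (d 0 0 - d 1 1) = 0 := by linear_combination -h3
    have h4' : g 1 0 * g 1 1 * (d 0 0 - d 1 1) = 0 := by linear_combination h4
    have h5 : g 0 0 * g 0 1 = 0 := by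
      rcases mul_eq_zero.mp h3' with h | h
      · exact h
      · exact absurd h hne
    have h6 : g 1 0 * g 1 1 = 0 := by
      rcases mul_eq_zero.mp h4' with h | h
      · exact h
      · exact absurd h hne
    rcases mul_eq_zero.mp h5 with h | h
    · right
      refine ⟨h, ?_⟩
      rcases mul_eq_zero.mp h6 with h' | h'
      · exfalso
        rw [h, h'] at hg
        simp at hg
      · exact h'
    · left
      refine ⟨h, ?_⟩
      rcases mul_eq_zero.mp h6 with h' | h'
      · exact h'
      · exfalso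
        rw [h, h'] at hg
        simp at hg
  · intro hm h
    rw [mem_centralizer_iff d hd01 hd10 hda, mem_centralizer_iff d hd01 hd10 hda, (key h).1, (key h).2]
    rcases hm with ⟨h1, h2⟩ | ⟨h1, h2⟩
    · rw [h1, h2] at hg ⊢
      have h00 : g 0 0 ≠ 0 := by rintro h0; rw [h0] at hg; simp at hg
      have h11 : g 1 1 ≠ 0 := by rintro h0; rw [h0] at hg; simp at hg
      constructor
      · rintro ⟨h3, h4⟩
        rw [h3, h4]
        constructor <;> ring
      · rintro ⟨h3, h4⟩
        constructor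
        · have : g 0 0 * g 0 0 * h 0 1 = 0 := by linear_combination h3
          rcases mul_eq_zero.mp this with h' | h'
          · exact absurd (mul_self_eq_zero.mp h') h00
          · exact h'
        · have : g 1 1 * g 1 1 * h 1 0 = 0 := by linear_combination h4
          rcases mul_eq_zero.mp this with h' | h'
          · exact absurd (mul_self_eq_zero.mp h') h11
          · exact h'
    · rw [h1, h2] at hg ⊢
      have h01 : g 0 1 ≠ 0 := by rintro h0; rw [h0] at hg; simp at hg
      have h10 : g 1 0 ≠ 0 := by rintro h0; rw [h0] at hg; simp at hg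
      constructor
      · rintro ⟨h3, h4⟩
        rw [h3, h4]
        constructor <;> ring
      · rintro ⟨h3, h4⟩
        constructor
        · have : g 1 0 * g 1 0 * h 0 1 = 0 := by linear_combination -h4
          rcases mul_eq_zero.mp this with h' | h'
          · exact absurd (mul_self_eq_zero.mp h') h10
          · exact h'
        · have : g 0 1 * g 0 1 * h 1 0 = 0 := by linear_combination -h3
          rcases mul_eq_zero.mp this with h' | h'
          · exact absurd (mul_self_eq_zero.mp h') h01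
          · exact h'

theorem result {F : Type*} [Field F] [Fintype F] (hodd : Odd (Fintype.card F))
    (d : Matrix.SpecialLinearGroup (Fin 2) F) (hd01 : (d : Matrix (Fin 2) (Fin 2) F) 0 1 = 0) (hd10 : (d : Matrix (Fin 2) (Fin 2) F) 1 0 = 0) (hda : (d : Matrix (Fin 2) (Fin 2) F) 0 0 ^ 2 ≠ 1) :
    (∀ g : Matrix.SpecialLinearGroup (Fin 2) F, g ∈ Subgroup.centralizer ({d} : Set (Matrix.SpecialLinearGroup (Fin 2) F)) ↔ ((g : Matrix (Fin 2) (Fin 2) F) 0 1 = 0 ∧ (g : Matrix (Fin 2) (Fin 2) F) 1 0 = 0)) ∧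
    Nat.card (Subgroup.normalizer ((Subgroup.centralizer ({d} : Set (Matrix.SpecialLinearGroup (Fin 2) F))) : Set (Matrix.SpecialLinearGroup (Fin 2) F))) = 2 * (Fintype.card F - 1) ∧
    Nat.card (ConjClasses (Subgroup.normalizer ((Subgroup.centralizer ({d} : Set (Matrix.SpecialLinearGroup (Fin 2) F))) : Set (Matrix.SpecialLinearGroup (Fin 2) F)))) = (Fintype.card F + 5) / 2 ∧
    ∀ g : Matrix.SpecialLinearGroup (Fin 2) F, g ∈ Subgroup.normalizer ((Subgroup.centralizer ({d} : Set (Matrix.SpecialLinearGroup (Fin 2) F))) : Set (Matrix.SpecialLinearGroup (Fin 2) F)) →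
      g ∉ Subgroup.centralizer ({d} : Set (Matrix.SpecialLinearGroup (Fin 2) F)) → ((g * g) : Matrix (Fin 2) (Fin 2) F) = -1 := by
  have hchar : ringChar F ≠ 2 := by
    intro h
    have : Fintype.card F % 2 = 0 := FiniteField.even_card_iff_char_two.mp h
    have h2 := Nat.odd_iff.mp hodd
    omega
  have h2 : (2 : F) ≠ 0 := Ring.two_ne_zero hchar
  refine ⟨mem_centralizer_iff d hd01 hd10 hda, card_of_mono _ (mem_normalizer_iff d hd01 hd10 hda),
    card_conjClasses_of_mono hodd h2 _ (mem_normalizer_iff d hd01 hd10 hda), ?_⟩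
  intro g hg hgc
  rw [mem_normalizer_iff d hd01 hd10 hda] at hg
  rw [mem_centralizer_iff d hd01 hd10 hda] at hgc
  rcases hg with hg | ⟨h1, h3⟩
  · exact absurd hg hgc
  · have hdet := sl2_det g
    rw [h1, h3] at hdet
    ext i j
    fin_cases i <;> fin_cases j <;>
      simp [Matrix.mul_apply, Fin.sum_univ_two, h1, h3] <;> linear_combination -hdet

end Cfsg.Agent.S2428
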