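import Mathlib
import Cfsg.Statements.S1119
import Cfsg.Agent.Lib.Helper4.RankOne

set_option autoImplicit false
open Cfsg

namespace Cfsg.Agent.S1119

open Cfsg.Agent.Lib.Helper4.RankOne MulAction

variable {G Ω : Type*} [Group G] [MulAction G Ω] {a : Ω} {t : G} {Q : Subgroup G}

/-- The parametrisation of the points. -/
noncomputable def pt (a : Ω) (t : G) (Q : Subgroup G) : Option Q → Ω
  | none => a
  | some x => (x : G) • t • a

theorem pt_bijective (hS : Cfsg.IsRankOneSetup G Ω a t Q) : Function.Bijective (pt a t Q) := by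
  constructor
  · intro u v huv
    rcases u with _ | ⟨x, hx⟩ <;> rcases v with _ | ⟨y, hy⟩
    · rfl
    · exact absurd huv.symm (Q_smul_ne hS hy (ta_ne hS))
    · exact absurd huv (Q_smul_ne hS hx (ta_ne hS))
    · change x • t • a = y • t • a at huv
      have h1 : (y⁻¹ * x) • t • a = t • a := by rw [mul_smul, huv, inv_smul_smul]
      have h2 := Q_free hS (Q.mul_mem (Q.inv_mem hy) hx) (ta_ne hS) h1
      rw [inv_mul_eq_one] at h2
      subst h2
      rfl
  · intro b
    by_cases hb : b = a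
    · exact ⟨none, hb.symm⟩
    · obtain ⟨x, hx, rfl⟩ := exists_Q_smul hS hb
      exact ⟨some ⟨x, hx⟩, rfl⟩

theorem card_Omega (hS : Cfsg.IsRankOneSetup G Ω a t Q) [Finite G] : Nat.card Ω = Nat.card Q + 1 := by
  rw [← Nat.card_congr (Equiv.ofBijective _ (pt_bijective hS)), Finite.card_option]

/-- `Q × D ≃ G_a`. -/
noncomputable def prodMap (a : Ω) (t : G) (Q : Subgroup G) (hQ : Q ≤ stabilizer G a) :
    Q × DD G a t → stabilizer G a :=
  fun p => ⟨(p.1 : G) * (p.2 : G), Subgroup.mul_mem _ (hQ p.1.2) p.2.2.1⟩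

theorem prodMap_bijective (hS : Cfsg.IsRankOneSetup G Ω a t Q) :
    Function.Bijective (prodMap a t Q hS.le) := by
  constructor
  · rintro ⟨⟨x, hx⟩, ⟨d, hd⟩⟩ ⟨⟨x', hx'⟩, ⟨d', hd'⟩⟩ h
    have h1 : x * d = x' * d' := congrArg Subtype.val h
    have h2 : x'⁻¹ * x = d' * d⁻¹ := by
      calc x'⁻¹ * x = x'⁻¹ * (x * d) * d⁻¹ := by group
        _ = x'⁻¹ * (x' * d') * d⁻¹ := by rw [h1]
        _ = _ := by group
    have h3 : x'⁻¹ * x = 1 := by
      apply Q_inf_D hS (Q.mul_mem (Q.inv_mem hx') hx)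
      rw [h2]
      exact Subgroup.mul_mem _ hd' (Subgroup.inv_mem _ hd)
    have hxx : x = x' := by rw [inv_mul_eq_one] at h3; exact h3.symm
    subst hxx
    have hdd : d = d' := mul_left_cancel h1
    subst hdd
    rfl
  · rintro ⟨g, hg⟩
    obtain ⟨x, hx, d, hd, rfl⟩ := exists_mul_of_mem_stab hS hg
    exact ⟨⟨⟨x, hx⟩, ⟨d, hd⟩⟩, rfl⟩

theorem card_stab (hS : Cfsg.IsRankOneSetup G Ω a t Q) [Finite G] :
    Nat.card (stabilizer G a) = Nat.card Q * Nat.card (DD G a t) := by
  rw [← Nat.card_congr (Equiv.ofBijective _ (prodMap_bijective hS)), Nat.card_prod]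

theorem card_G (hS : Cfsg.IsRankOneSetup G Ω a t Q) [Finite G] :
    Nat.card G = Nat.card Q * Nat.card (DD G a t) * (Nat.card Q + 1) := by
  have h2 := hS.two_transitive
  have : IsPretransitive G Ω := MulAction.isPretransitive_of_is_two_pretransitive
  have h1 := Subgroup.card_mul_index (stabilizer G a)
  rw [MulAction.index_stabilizer_of_transitive, card_stab hS, card_Omega hS] at h1
  exact h1.symm

theorem exists_sylow (hS : Cfsg.IsRankOneSetup G Ω a t Q) [Finite G] :
    ∃ P : Sylow 2 G, (P : Subgroup G) ≤ Q := by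
  haveI : Fact (Nat.Prime 2) := ⟨Nat.prime_two⟩
  obtain ⟨P0⟩ : Nonempty (Sylow 2 Q) := inferInstance
  have hc0 := P0.card_eq_multiplicity
  have hcard : Nat.card ((P0 : Subgroup Q).map Q.subtype) = 2 ^ (Nat.card G).factorization 2 := by
    rw [Subgroup.card_map_of_injective Q.subtype_injective, hc0]
    congr 1
    rw [card_G hS]
    have hQ0 : Nat.card Q ≠ 0 := Nat.card_pos.ne'
    have hD0 : Nat.card (DD G a t) ≠ 0 := Nat.card_pos.ne'
    rw [Nat.factorization_mul (mul_ne_zero hQ0 hD0) (Nat.succ_ne_zero _),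
      Nat.factorization_mul hQ0 hD0]
    have hDodd : ¬ 2 ∣ Nat.card (DD G a t) := by
      have := hS.odd_card
      intro h
      rw [← even_iff_two_dvd] at h
      exact (Nat.not_even_iff_odd.mpr this) h
    have hQodd : ¬ 2 ∣ Nat.card Q + 1 := by
      have := hS.even_card
      intro h
      rw [← even_iff_two_dvd] at h
      exact (Nat.even_add_one.mp h) this
    rw [Finsupp.add_apply, Finsupp.add_apply, Nat.factorization_eq_zero_of_not_dvd hDodd,
      Nat.factorization_eq_zero_of_not_dvd hQodd, add_zero, add_zero]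
  refine ⟨Sylow.ofCard _ hcard, ?_⟩
  rw [Sylow.coe_ofCard]
  exact Subgroup.map_subtype_le _

theorem canon (hS : Cfsg.IsRankOneSetup G Ω a t Q) (g : G) (hg : g ∉ stabilizer G a) :
    ∃! p : G × G, p.1 ∈ stabilizer G a ∧ p.2 ∈ Q ∧ g = p.1 * t * p.2 := by
  have hne : g⁻¹ • a ≠ a := by
    intro h
    apply hg
    rw [mem_stabilizer_iff]
    rw [inv_smul_eq_iff] at h
    exact h.symm
  obtain ⟨y, hy, hya⟩ := exists_Q_smul hS hne
  refine ⟨(g * y * t, y⁻¹), ⟨?_, Q.inv_mem hy, ?_⟩, ?_⟩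
  · rw [mem_stabilizer_iff, mul_smul, mul_smul, hya, smul_inv_smul]
  · have : g * y * t * t * y⁻¹ = g * y * (t * t) * y⁻¹ := by group
    rw [this, hS.mul_self]; group
  · rintro ⟨x', y'⟩ ⟨hx', hy', hgg⟩
    simp only at hx' hy' hgg
    have h1 : g⁻¹ • a = y'⁻¹ • t • a := by
      have : g⁻¹ = y'⁻¹ * t * x'⁻¹ := by
        rw [hgg, mul_inv_rev, mul_inv_rev, t_inv hS]; group
      rw [this, mul_smul, mul_smul]
      have : x'⁻¹ • a = a := Subgroup.inv_mem _ hx'
      rw [this]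
    rw [← hya] at h1
    have h2 : (y' * y) • t • a = t • a := by
      rw [mul_smul, h1, smul_inv_smul]
    have h3 := Q_free hS (Q.mul_mem hy' hy) (ta_ne hS) h2
    have hy'' : y' = y⁻¹ := eq_inv_of_mul_eq_one_left h3
    subst hy''
    have hx'' : x' = g * y * t := by
      rw [hgg]
      have : x' * t * y⁻¹ * y * t = x' * (t * t) := by group
      rw [this, hS.mul_self, mul_one]
    rw [hx'']

/-- In the rank-one set-up (`G` finite and doubly transitive on `Ω`, `t` an involution moving `a`, `Q` normal in `G_a` with `G_a = Q D`, `Q ⊓ D = 1` for the two-point stabiliser `D = G_a ⊓ G_{t • a}`, `|Q|` even, `|D|` odd): `Q` acts regularly on `Ω` minus `a`; hence `|Ω| = |Q| + 1`, `|G| = |Q| |D| (|Q| + 1)`, some Sylow 2-subgroup of `G` lies in `Q`, and each `g ∉ G_a` is uniquely `x t y` with `x ∈ G_a`, `y ∈ Q` (canonical form). -/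
theorem result {G Ω : Type*} [Group G] [Finite G] [MulAction G Ω] {a : Ω} {t : G} {Q : Subgroup G}
    (hS : Cfsg.IsRankOneSetup G Ω a t Q) :
    (∀ b c : Ω, b ≠ a → c ≠ a → ∃! x : Q, (x : G) • b = c) ∧
      Nat.card Ω = Nat.card Q + 1 ∧
      Nat.card G = Nat.card Q * Nat.card ↥(MulAction.stabilizer G a ⊓ MulAction.stabilizer G (t • a)) * (Nat.card Q + 1) ∧
      (∃ P : Sylow 2 G, (P : Subgroup G) ≤ Q) ∧
      ∀ g : G, g ∉ MulAction.stabilizer G a → ∃! p : G × G, p.1 ∈ MulAction.stabilizer G a ∧ p.2 ∈ Q ∧ g = p.1 * t * p.2 :=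
  ⟨fun _ _ hb hc => existsUnique_Q hS hb hc, card_Omega hS, card_G hS, exists_sylow hS, canon hS⟩

end Cfsg.Agent.S1119
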