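import Mathlib
import Cfsg.Statements.S1121
import Cfsg.Agent.Lib.Helper4.RankOne
import Cfsg.Agent.S1119

set_option autoImplicit false
open Cfsg

namespace Cfsg.Agent.S1121

open Cfsg.Agent.Lib.Helper4.RankOne MulAction

variable {G Ω : Type*} [Group G] [MulAction G Ω] {a : Ω} {t : G} {Q : Subgroup G}

/-- Involutions of `G_a` lie in `Q`. -/
theorem invol_mem_Q (hS : Cfsg.IsRankOneSetup G Ω a t Q) [Finite G] {s : G} (hs : s ∈ stabilizer G a)
    (hs2 : s * s = 1) : s ∈ Q := by
  obtain ⟨x, hx, d, hd, rfl⟩ := exists_mul_of_mem_stab hS hs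
  have h1 : d * d = (x * (d * x * d⁻¹))⁻¹ := by
    have : x * (d * x * d⁻¹) * (d * d) = (x * d) * (x * d) := by group
    rw [hs2] at this
    exact eq_inv_of_mul_eq_one_right this
  have h2 : d * d ∈ Q := by
    rw [h1]
    exact Q.inv_mem (Q.mul_mem hx (hS.conj_mem d hd.1 x hx))
  have h3 : d * d = 1 := Q_inf_D hS h2 (Subgroup.mul_mem _ hd hd)
  have h4 : orderOf d ∣ 2 := orderOf_dvd_of_pow_eq_one (by rw [pow_two]; exact h3)
  have h5 : orderOf d ∣ Nat.card (DD G a t) := Subgroup.orderOf_dvd_natCard _ hd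
  have h6 : Nat.Coprime 2 (Nat.card (DD G a t)) := by
    exact (Nat.coprime_two_left).mpr hS.odd_card
  have h7 : orderOf d = 1 := Nat.eq_one_of_dvd_coprimes h6 h4 h5
  rw [orderOf_eq_one_iff] at h7
  rw [h7, mul_one]
  exact hx

/-- An involution has a fixed point. -/
theorem exists_fixed (hS : Cfsg.IsRankOneSetup G Ω a t Q) [Finite G] {v : G} (hv1 : v ≠ 1)
    (hv2 : v * v = 1) : ∃ b : Ω, v • b = b := by
  have : Fact (Nat.Prime 2) := ⟨Nat.prime_two⟩
  have hord : orderOf v = 2 := orderOf_eq_prime (by rw [pow_two]; exact hv2) hv1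
  have hP : IsPGroup 2 (Subgroup.zpowers v) := by
    apply IsPGroup.of_card (n := 1)
    rw [Nat.card_zpowers, hord, pow_one]
  have hodd : ¬ 2 ∣ Nat.card Ω := by
    rw [S1119.card_Omega hS]
    intro h
    rw [← even_iff_two_dvd] at h
    exact (Nat.even_add_one.mp h) hS.even_card
  obtain ⟨b, hb⟩ := hP.nonempty_fixed_point_of_prime_not_dvd_card Ω hodd
  refine ⟨b, ?_⟩
  have := hb ⟨v, Subgroup.mem_zpowers v⟩
  exact this

/-- An involution has exactly one fixed point. -/
theorem unique_fixed (hS : Cfsg.IsRankOneSetup G Ω a t Q) [Finite G] {v : G} (hv1 : v ≠ 1)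
    (hv2 : v * v = 1) {b c : Ω} (hb : v • b = b) (hc : v • c = c) : b = c := by
  have h2 := hS.two_transitive
  have : IsPretransitive G Ω := MulAction.isPretransitive_of_is_two_pretransitive
  obtain ⟨k, rfl⟩ := MulAction.exists_smul_eq G a b
  have h1 : (k⁻¹ * v * k) • a = a := by
    rw [mul_smul, mul_smul, hb, inv_smul_smul]
  have h3 : (k⁻¹ * v * k) * (k⁻¹ * v * k) = 1 := by
    have : (k⁻¹ * v * k) * (k⁻¹ * v * k) = k⁻¹ * (v * v) * k := by group
    rw [this, hv2]; group
  have h4 : k⁻¹ * v * k ≠ 1 := by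
    intro h
    apply hv1
    have : v = k * (k⁻¹ * v * k) * k⁻¹ := by group
    rw [this, h]; group
  have h5 := invol_mem_Q hS (mem_stabilizer_iff.mpr h1) h3
  by_contra hne
  have h6 : k⁻¹ • c ≠ a := by
    intro h
    apply hne
    rw [inv_smul_eq_iff] at h
    exact h.symm
  have h7 : (k⁻¹ * v * k) • k⁻¹ • c = k⁻¹ • c := by
    rw [mul_smul, mul_smul, smul_inv_smul, hc]
  exact h4 (Q_free hS h5 h6 h7)

/-- Conjugacy of two involutions with product of odd order. -/
theorem conj_of_odd {s u : G} (hs2 : s * s = 1) (hu2 : u * u = 1) (hodd : Odd (orderOf (s * u))) :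
    ∃ g : G, g * s * g⁻¹ = u := by
  obtain ⟨m, hm⟩ := hodd
  have hsi : s⁻¹ = s := inv_eq_of_mul_eq_one_left hs2
  have hui : u⁻¹ = u := inv_eq_of_mul_eq_one_left hu2
  have hc : (s * u) ^ (2 * m + 1) = 1 := by rw [← hm]; exact pow_orderOf_eq_one _
  refine ⟨(s * u) ^ m, ?_⟩
  -- s * (s*u)⁻¹^m = (s*u)^m * s
  have h1 : s * ((s * u) ^ m)⁻¹ * s⁻¹ = (s * u) ^ m := by
    rw [← inv_pow, ← conj_pow]
    congr 1
    rw [mul_inv_rev, hsi, hui]
    have : s * (u * s) * s = s * u * (s * s) := by group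
    rw [this, hs2, mul_one]
  have h2 : (s * u) ^ m * s * ((s * u) ^ m)⁻¹ = (s * u) ^ m * (s * ((s * u) ^ m)⁻¹ * s⁻¹) * s := by
    group
  rw [h2, h1, ← pow_add]
  have h3 : (s * u) ^ (m + m) = (s * u)⁻¹ := by
    apply eq_inv_of_mul_eq_one_left
    rw [← pow_succ, ← hc]
    congr 1
    ring
  rw [h3, mul_inv_rev, hsi, hui, mul_assoc, hs2, mul_one]

/-- The main step: product of odd order. -/
theorem odd_order (hS : Cfsg.IsRankOneSetup G Ω a t Q) [Finite G] {s u : G} {b : Ω}
    (hsb : s • b = b) (hs1 : s ≠ 1) (hs2 : s * s = 1) (hub : u • b ≠ b) (hu1 : u ≠ 1) (hu2 : u * u = 1) :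
    Odd (orderOf (s * u)) := by
  by_contra hne
  rw [Nat.not_odd_iff_even] at hne
  obtain ⟨m, hm⟩ := hne
  have hsi : s⁻¹ = s := inv_eq_of_mul_eq_one_left hs2
  have hui : u⁻¹ = u := inv_eq_of_mul_eq_one_left hu2
  have hpos : 0 < orderOf (s * u) := orderOf_pos _
  have hm0 : m ≠ 0 := by omega
  set w := (s * u) ^ m with hw
  have hw1 : w ≠ 1 := pow_ne_one_of_lt_orderOf hm0 (by omega)
  have hw2 : w * w = 1 := by
    rw [hw, ← pow_add, ← hm]; exact pow_orderOf_eq_one _
  have hwi : w⁻¹ = w := inv_eq_of_mul_eq_one_left hw2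
  have hinv : (s * u)⁻¹ = u * s := by rw [mul_inv_rev, hsi, hui]
  -- s commutes with w
  have hsw : s * w * s⁻¹ = w := by
    rw [hw, ← conj_pow]
    have : s * (s * u) * s⁻¹ = (s * u)⁻¹ := by
      rw [hinv, hsi]
      have : s * (s * u) * s = (s * s) * u * s := by group
      rw [this, hs2, one_mul]
    rw [this, inv_pow, ← hw, hwi]
  have huw : u * w * u⁻¹ = w := by
    rw [hw, ← conj_pow]
    have : u * (s * u) * u⁻¹ = (s * u)⁻¹ := by
      rw [hinv]; group
    rw [this, inv_pow, ← hw, hwi]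
  -- w fixes b
  have hwb : w • b = b := by
    apply unique_fixed hS hs1 hs2 _ hsb
    have : s * w = w * s := by
      have := congrArg (fun z => z * s) hsw
      simpa using this
    rw [← mul_smul, this, mul_smul, hsb]
  -- u fixes b
  apply hub
  apply unique_fixed hS hw1 hw2 _ hwb
  have : w * u = u * w := by
    have := congrArg (fun z => z * u) huw
    simp only [inv_mul_cancel_right] at this
    exact this.symm
  rw [← mul_smul, this, mul_smul, hwb]

/-- In the rank-one set-up (`G` finite and doubly transitive on `Ω`, `t` an involution moving `a`, `Q` normal in `G_a` with `G_a = Q D`, `Q ⊓ D = 1` for the two-point stabiliser `D = G_a ⊓ G_{t • a}`, `|Q|` even, `|D|` odd): if `s` is an involution of `G_a` and `u` an involution outside `G_a`, then `s u` has odd order; and any two involutions of `G` are conjugate. -/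
theorem result {G Ω : Type*} [Group G] [Finite G] [MulAction G Ω] {a : Ω} {t : G} {Q : Subgroup G}
    (hS : Cfsg.IsRankOneSetup G Ω a t Q) :
    (∀ s u : G, s ∈ MulAction.stabilizer G a → s ≠ 1 → s * s = 1 → u ∉ MulAction.stabilizer G a → u ≠ 1 → u * u = 1 → Odd (orderOf (s * u))) ∧
      ∀ u v : G, u ≠ 1 → u * u = 1 → v ≠ 1 → v * v = 1 → ∃ g : G, g * u * g⁻¹ = v := by
  constructor
  · intro s u hs hs1 hs2 hu hu1 hu2
    exact odd_order hS (mem_stabilizer_iff.mp hs) hs1 hs2 (fun h => hu (mem_stabilizer_iff.mpr h)) hu1 hu2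
  · intro u v hu1 hu2 hv1 hv2
    obtain ⟨b, hb⟩ := exists_fixed hS hu1 hu2
    obtain ⟨c, hc⟩ := exists_fixed hS hv1 hv2
    by_cases hbc : b = c
    · subst hbc
      have h2 := hS.two_transitive
      have : IsPretransitive G Ω := MulAction.isPretransitive_of_is_two_pretransitive
      obtain ⟨k, rfl⟩ := MulAction.exists_smul_eq G a b
      -- the involution k t k⁻¹ moves b
      have ht1 : k * t * k⁻¹ ≠ 1 := by
        intro h
        apply hS.ne_one
        have : t = k⁻¹ * (k * t * k⁻¹) * k := by group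
        rw [this, h]; group
      have ht2 : (k * t * k⁻¹) * (k * t * k⁻¹) = 1 := by
        have : (k * t * k⁻¹) * (k * t * k⁻¹) = k * (t * t) * k⁻¹ := by group
        rw [this, hS.mul_self]; group
      have htb : (k * t * k⁻¹) • k • a ≠ k • a := by
        rw [mul_smul, mul_smul, inv_smul_smul]
        intro h
        exact ta_ne hS (MulAction.injective k h)
      obtain ⟨g₁, hg₁⟩ := conj_of_odd hu2 ht2 (odd_order hS hb hu1 hu2 htb ht1 ht2)
      obtain ⟨g₂, hg₂⟩ := conj_of_odd hv2 ht2 (odd_order hS hc hv1 hv2 htb ht1 ht2)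
      refine ⟨g₂⁻¹ * g₁, ?_⟩
      have : g₂⁻¹ * g₁ * u * (g₂⁻¹ * g₁)⁻¹ = g₂⁻¹ * (g₁ * u * g₁⁻¹) * g₂ := by group
      rw [this, hg₁, ← hg₂]; group
    · have hvb : v • b ≠ b := fun h => hbc (unique_fixed hS hv1 hv2 h hc)
      exact conj_of_odd hu2 hv2 (odd_order hS hb hu1 hu2 hvb hv1 hv2)

end Cfsg.Agent.S1121
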