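import Cfsg.Statements.S5029
import Cfsg.Agent.Lib.Helper4.RootSub3
import Cfsg.Agent.S5025
import Cfsg.Agent.S5028

set_option autoImplicit false
open Cfsg

namespace Cfsg.Agent.S5029

open Cfsg.Agent.Lib.Helper4.RankOneGrp Cfsg.Agent.Lib.Helper4.RootSub
  Cfsg.Agent.Lib.Helper4.RootSub2 Cfsg.Agent.Lib.Helper4.RootSub3
open scoped commutatorElement

variable {G : Type*} [Group G]

theorem conj_eq_mul_kap (a b : G) : b⁻¹ * a * b = a * kap a b := by
  unfold kap; group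

/-- a member of `S` inside the commutator group `C = ⁅A, B⁆` equals it -/
theorem sub_eq {S : Set (Subgroup G)} (hS : IsRootSubgroupSet S) {A B D E : Subgroup G}
    (hAS : A ∈ S) (hcase : RootCommutatorCase S A B) (hD : D ∈ S)
    (hAD : IsRankOnePair A D) (hE : E ∈ S) (hle : E ≤ ⁅A, B⁆) : E = ⁅A, B⁆ := by
  have hC := hcase.1
  have hCA : ∀ c ∈ ⁅A, B⁆, ∀ a ∈ A, c * a = a * c :=
    fun c hc a ha => hcase.2.1 c hc a (Subgroup.mem_sup_left ha)
  have claim1 : ∀ c ∈ ⁅A, B⁆, c ≠ 1 → ¬ (∀ d ∈ D, c * d = d * c) := by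
    intro c hc hc1 hcD
    obtain ⟨a₀, ha₀, ha₀1⟩ := exists_ne_one_of_ne_bot (hS.ne_bot A hAS)
    obtain ⟨b, hb, hbc⟩ := kap_surj_right hcase ha₀ ha₀1 hc
    have h1 : c * a₀ = b⁻¹ * a₀ * b := by
      rw [hCA c hc a₀ ha₀, conj_eq_mul_kap, hbc]
    have h2 : c * a₀ ∈ rootElements S := by
      refine ⟨?_, conjBy A b⁻¹, hS.conj_mem A hAS _, ?_⟩
      · rw [h1]
        intro h3
        apply ha₀1
        have : a₀ = b * (b⁻¹ * a₀ * b) * b⁻¹ := by group
        rw [this, h3]; group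
      · rw [h1]
        have := conj_mem_conjBy (g := b⁻¹) ha₀
        rwa [inv_inv] at this
    exact Cfsg.Agent.S5025.no_translate hS hAS hD hAD (hCA c hc) hcD hc1 ha₀ ha₀1 h2
  obtain ⟨e, he, he1⟩ := exists_ne_one_of_ne_bot (hS.ne_bot E hE)
  rcases hS.pair E hE D hD with h | h | hEDcase
  · exact (claim1 e (hle he) he1 (fun d hd => commutator_eq_bot_iff'.mp h e he d hd)).elim
  · exact (eq_of_common hS hE hD h hC he (hle he) he1).symm
  rcases hS.pair _ hC D hD with h | h | hCDcase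
  · exact (claim1 e (hle he) he1 (fun d hd => commutator_eq_bot_iff'.mp h e (hle he) d hd)).elim
  · exact eq_of_common hS hC hD h hE (hle he) he he1
  have hncD := fun c hc hc1 d hd hd1 =>
    not_comm_of_right hS hD hCDcase hAS (RankOnePair_symm hAD) (a := c) (b := d) hc hc1 hd hd1
  obtain ⟨d, hd, hd1⟩ := exists_ne_one_of_ne_bot (hS.ne_bot D hD)
  have heq : ⁅E, D⁆ = ⁅⁅A, B⁆, D⁆ :=
    (hEDcase.2.2.1 e he he1).symm.trans (hCDcase.2.2.1 e (hle he) he1)
  apply le_antisymm hle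
  intro c hc
  have h1 : kap c d ∈ ⁅E, D⁆ := by rw [heq]; exact kap_mem hc hd
  obtain ⟨e', he', hke'⟩ := kap_surj_left hEDcase hd hd1 h1
  have h2 : kap (c * e'⁻¹) d = 1 := by
    rw [kap_mul_left hCDcase hc (inv_mem (hle he')) hd, kap_inv_left hCDcase (hle he') hd, hke',
      mul_inv_cancel]
  rw [kap_eq_one_iff] at h2
  have h3 : c * e'⁻¹ = 1 := by
    by_contra h4
    exact hncD _ (mul_mem hc (inv_mem (hle he'))) h4 d hd hd1 h2
  have h5 : c = e' := by
    rw [mul_inv_eq_one] at h3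
    exact h3
  rw [h5]; exact he'

/-- Let S be a set of abstract root subgroups of G, A ∈ S having a rank one partner in S, and B ∈ S with C = ⁅A, B⁆ ∈ S. Then the members of S contained in AC are the conjugates of A by elements of B together with C, they partition AC, the members of S inside AC partition AC so that A is a line partner of C, and for every non-identity a ∈ A the map b ↦ a⁻¹ b⁻¹ a b is an isomorphism from B onto C. -/
theorem result {G : Type*} [Group G] {S : Set (Subgroup G)} (hS : Cfsg.IsRootSubgroupSet S)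
    {A B : Subgroup G} (hA : ¬ Cfsg.IsIsolatedIn (Cfsg.FAdj S) S A) (hAS : A ∈ S) (hB : B ∈ S) (hC : ⁅A, B⁆ ∈ S) :
    Cfsg.membersIn S (A ⊔ ⁅A, B⁆) = (fun b : G => Cfsg.conjBy A b) '' (B : Set G) ∪ {⁅A, B⁆} ∧
    Cfsg.IsSubgroupPartition (A ⊔ ⁅A, B⁆) (Cfsg.membersIn S (A ⊔ ⁅A, B⁆)) ∧
    A ∈ Cfsg.linePartners S ⁅A, B⁆ ∧
    ∀ a ∈ A, a ≠ 1 → ∃ φ : ↥B ≃* ↥⁅A, B⁆, ∀ b : ↥B, (φ b : G) = a⁻¹ * (b : G)⁻¹ * a * b := by
  obtain ⟨D, hD, hAD⟩ := Cfsg.Agent.S5028.exists_partner hA hAS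
  have hcase := commutatorCase_of_mem hS hAS hB hC
  have hCA : ∀ c ∈ ⁅A, B⁆, ∀ a ∈ A, c * a = a * c :=
    fun c hc a ha => hcase.2.1 c hc a (Subgroup.mem_sup_left ha)
  have hnc : ∀ a ∈ A, a ≠ 1 → ∀ b ∈ B, b ≠ 1 → a * b ≠ b * a :=
    fun a ha ha1 b hb hb1 => not_comm_of_left hS hAS hcase hD hAD ha ha1 hb hb1
  have hmemsup := fun x => mem_sup_iff_of_comm (A := A) (C := ⁅A, B⁆) hCA (x := x)
  -- conjugates of `A` by elements of `B`
  have hconjS : ∀ b : G, conjBy A b ∈ S := fun b => hS.conj_mem A hAS b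
  have hconjD : ∀ b : G, IsRankOnePair (conjBy A b) (conjBy D b) := fun b => rankOnePair_conj hAD b
  have hconj_le : ∀ b ∈ B, conjBy A b ≤ A ⊔ ⁅A, B⁆ := by
    intro b hb x hx
    rw [mem_conjBy] at hx
    rw [hmemsup]
    refine ⟨b⁻¹ * x * b, hx, kap (b⁻¹ * x * b) b⁻¹, kap_mem hx (inv_mem hb), ?_⟩
    unfold kap; group
  -- covering
  have hcover : ∀ x ∈ A ⊔ ⁅A, B⁆, x ≠ 1 → x ∈ ⁅A, B⁆ ∨ ∃ b ∈ B, x ∈ conjBy A b := by
    intro x hx hx1
    rw [hmemsup] at hx
    obtain ⟨a, ha, c, hc, rfl⟩ := hx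
    by_cases ha1 : a = 1
    · left; rw [ha1, one_mul]; exact hc
    · right
      obtain ⟨b, hb, rfl⟩ := kap_surj_right hcase ha ha1 hc
      refine ⟨b⁻¹, inv_mem hb, ?_⟩
      rw [← conj_eq_mul_kap]
      have := conj_mem_conjBy (g := b⁻¹) ha
      rwa [inv_inv] at this
  -- classification of the members inside `A ⊔ C`
  have hmem : ∀ E ∈ S, E ≤ A ⊔ ⁅A, B⁆ → E = ⁅A, B⁆ ∨ ∃ b ∈ B, E = conjBy A b := by
    intro E hE hle
    by_cases hex : ∃ e ∈ E, e ≠ 1 ∧ ∃ b ∈ B, e ∈ conjBy A b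
    · obtain ⟨e, he, he1, b, hb, heb⟩ := hex
      exact Or.inr ⟨b, hb, eq_of_common hS (hconjS b) (hS.conj_mem D hD b) (hconjD b) hE heb he he1⟩
    · push Not at hex
      left
      apply sub_eq hS hAS hcase hD hAD hE
      intro e he
      by_cases he1 : e = 1
      · rw [he1]; exact one_mem _
      · rcases hcover e (hle he) he1 with h | ⟨b, hb, h⟩
        · exact h
        · exact absurd h (hex e he he1 b hb)
  have hset : Cfsg.membersIn S (A ⊔ ⁅A, B⁆) =
      (fun b : G => Cfsg.conjBy A b) '' (B : Set G) ∪ {⁅A, B⁆} := by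
    ext E
    constructor
    · rintro ⟨hE, hle⟩
      rcases hmem E hE hle with h | ⟨b, hb, h⟩
      · right; exact h
      · left; exact ⟨b, hb, h.symm⟩
    · rintro (⟨b, hb, rfl⟩ | h)
      · exact ⟨hconjS b, hconj_le b hb⟩
      · rw [Set.mem_singleton_iff] at h
        rw [h]
        exact ⟨hC, le_sup_right⟩
  have hpart : Cfsg.IsSubgroupPartition (A ⊔ ⁅A, B⁆) (Cfsg.membersIn S (A ⊔ ⁅A, B⁆)) := by
    refine ⟨fun F hF => hF.2, ?_, ?_⟩
    · intro x hx hx1
      rcases hcover x hx hx1 with h | ⟨b, hb, h⟩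
      · exact ⟨_, ⟨hC, le_sup_right⟩, h⟩
      · exact ⟨_, ⟨hconjS b, hconj_le b hb⟩, h⟩
    · rintro F ⟨hF, hFle⟩ F' ⟨hF', hF'le⟩ hne
      rcases hmem F hF hFle with h | ⟨b, hb, h⟩
      · rcases hmem F' hF' hF'le with h' | ⟨b', hb', h'⟩
        · exact absurd (h.trans h'.symm) hne
        · rw [inf_comm, h']
          exact inf_eq_bot_of_ne hS (hconjS b') (hS.conj_mem D hD b') (hconjD b') hF
            (fun he => hne (he.trans h'.symm))
      · rw [h]
        exact inf_eq_bot_of_ne hS (hconjS b) (hS.conj_mem D hD b) (hconjD b) hF'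
          (fun he => hne (h.trans he.symm))
  refine ⟨hset, hpart, ?_, ?_⟩
  · refine ⟨⟨hAS, (commutator_ne_left hS hcase).symm, commutator_eq_bot_iff'.mpr hCA⟩, ?_⟩
    rw [sup_comm]
    exact hpart
  · intro a ha ha1
    let f : ↥B →* ↥⁅A, B⁆ :=
      { toFun := fun b => ⟨kap a b, kap_mem ha b.2⟩
        map_one' := by
          apply Subtype.ext
          exact kap_one_right a
        map_mul' := by
          intro b b'
          apply Subtype.ext
          exact kap_mul_right hcase ha b.2 b'.2 }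
    have hinj : Function.Injective f := by
      rw [injective_iff_map_eq_one]
      intro b hb
      have h1 : kap a b = 1 := congrArg Subtype.val hb
      rw [kap_eq_one_iff] at h1
      by_contra hb1
      exact hnc a ha ha1 b b.2 (fun h => hb1 (Subtype.ext h)) h1
    have hsurj : Function.Surjective f := by
      rintro ⟨c, hc⟩
      obtain ⟨b, hb, hbc⟩ := kap_surj_right hcase ha ha1 hc
      exact ⟨⟨b, hb⟩, Subtype.ext hbc⟩
    refine ⟨MulEquiv.ofBijective f ⟨hinj, hsurj⟩, ?_⟩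
    intro b
    rfl

end Cfsg.Agent.S5029
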