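import Cfsg.Statements.S5030
import Cfsg.Agent.Lib.Helper4.RootSub3
import Cfsg.Agent.Lib.Helper4.NilSeries
import Cfsg.Agent.S5025

set_option autoImplicit false
open Cfsg

namespace Cfsg.Agent.S5030

open Cfsg.Agent.Lib.Helper4.RankOneGrp Cfsg.Agent.Lib.Helper4.RootSub
  Cfsg.Agent.Lib.Helper4.RootSub2 Cfsg.Agent.Lib.Helper4.RootSub3
  Cfsg.Agent.Lib.Helper4.NilSeries
open scoped commutatorElement

variable {G : Type*} [Group G]

/-- commuting with two subgroups gives commuting with their join -/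
theorem forall_sup_comm {H₁ H₂ K : Subgroup G} (h₁ : ∀ x ∈ H₁, ∀ y ∈ K, x * y = y * x)
    (h₂ : ∀ x ∈ H₂, ∀ y ∈ K, x * y = y * x) : ∀ x ∈ H₁ ⊔ H₂, ∀ y ∈ K, x * y = y * x := by
  have hle : H₁ ⊔ H₂ ≤ Subgroup.centralizer (K : Set G) := by
    apply sup_le
    · intro x hx
      rw [Subgroup.mem_centralizer_iff]
      intro y hy
      exact (h₁ x hx y hy).symm
    · intro x hx
      rw [Subgroup.mem_centralizer_iff]
      intro y hy
      exact (h₂ x hx y hy).symm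
  intro x hx y hy
  exact ((Subgroup.mem_centralizer_iff.mp (hle hx)) y hy).symm

theorem forall_sup_comm' {H K₁ K₂ : Subgroup G} (h₁ : ∀ x ∈ H, ∀ y ∈ K₁, x * y = y * x)
    (h₂ : ∀ x ∈ H, ∀ y ∈ K₂, x * y = y * x) : ∀ x ∈ H, ∀ y ∈ K₁ ⊔ K₂, x * y = y * x := by
  intro x hx y hy
  exact (forall_sup_comm (fun y hy x hx => (h₁ x hx y hy).symm)
    (fun y hy x hx => (h₂ x hx y hy).symm) y hy x hx).symm

/-- the join of two commuting abelian subgroups is abelian -/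
theorem sup_abelian {H K : Subgroup G} (hH : ∀ x ∈ H, ∀ y ∈ H, x * y = y * x)
    (hK : ∀ x ∈ K, ∀ y ∈ K, x * y = y * x) (hHK : ∀ x ∈ H, ∀ y ∈ K, x * y = y * x) :
    ∀ x ∈ H ⊔ K, ∀ y ∈ H ⊔ K, x * y = y * x :=
  forall_sup_comm (forall_sup_comm' hH hHK)
    (forall_sup_comm' (fun x hx y hy => (hHK y hy x hx).symm) hK)

theorem isMulCommutative_of_forall {H : Subgroup G} (h : ∀ x ∈ H, ∀ y ∈ H, x * y = y * x) :
    IsMulCommutative ↥H :=
  ⟨⟨fun x y => Subtype.ext (h x.1 x.2 y.1 y.2)⟩⟩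

theorem forall_of_isMulCommutative {H : Subgroup G} (h : IsMulCommutative ↥H) :
    ∀ x ∈ H, ∀ y ∈ H, x * y = y * x := by
  intro x hx y hy
  exact congrArg Subtype.val (h.is_comm.comm ⟨x, hx⟩ ⟨y, hy⟩)

/-- the commutator subgroup of the join of two abelian subgroups whose commutator is central -/
theorem commutator_sup_le {H K : Subgroup G} (hH : ∀ x ∈ H, ∀ y ∈ H, x * y = y * x)
    (hK : ∀ x ∈ K, ∀ y ∈ K, x * y = y * x)
    (hc : ∀ z ∈ ⁅H, K⁆, ∀ x ∈ H ⊔ K, z * x = x * z) : ⁅H ⊔ K, H ⊔ K⁆ ≤ ⁅H, K⁆ := by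
  have hcl : H ⊔ K = Subgroup.closure ((H : Set G) ∪ K) := by
    simp only [Subgroup.closure_union, Subgroup.closure_eq]
  have hn : H ⊔ K ≤ Subgroup.normalizer ((⁅H, K⁆ : Subgroup G) : Set G) :=
    le_normalizer_of_commutes hc
  apply commutator_le_of_gens hcl hcl hn hn
  rintro x (hx | hx) y (hy | hy)
  · have : ⁅x, y⁆ = 1 := by
      rw [commutatorElement_eq_one_iff_mul_comm]; exact hH x hx y hy
    rw [this]; exact one_mem _
  · exact Subgroup.commutator_mem_commutator hx hy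
  · rw [← commutatorElement_inv]
    exact inv_mem (Subgroup.commutator_mem_commutator hy hx)
  · have : ⁅x, y⁆ = 1 := by
      rw [commutatorElement_eq_one_iff_mul_comm]; exact hK x hx y hy
    rw [this]; exact one_mem _

theorem class_two {H K : Subgroup G} (hH : ∀ x ∈ H, ∀ y ∈ H, x * y = y * x)
    (hK : ∀ x ∈ K, ∀ y ∈ K, x * y = y * x)
    (hc : ∀ z ∈ ⁅H, K⁆, ∀ x ∈ H ⊔ K, z * x = x * z) : ⁅⁅H ⊔ K, H ⊔ K⁆, H ⊔ K⁆ = ⊥ := by
  rw [commutator_eq_bot_iff']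
  intro z hz x hx
  exact hc z (commutator_sup_le hH hK hc hz) x hx

theorem isNilpotent_of_le {R R' : Subgroup G} (h : R ≤ R') (hn : Group.IsNilpotent ↥R') :
    Group.IsNilpotent ↥R := by
  have : Group.IsNilpotent ↥(R.subgroupOf R') := Subgroup.isNilpotent _
  exact Group.nilpotent_of_mulEquiv (Subgroup.subgroupOfEquivOfLe h)

section main

variable {S : Set (Subgroup G)} (hS : IsRootSubgroupSet S) {A B C : Subgroup G}

/-- conjugates of the left member by `B` -/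
theorem conj_left_le (g : G) (hg : g ∈ B) : conjBy A g ≤ A ⊔ ⁅A, B⁆ := by
  intro x hx
  rw [mem_conjBy] at hx
  have e : x = (g⁻¹ * x * g) * kap (g⁻¹ * x * g) g⁻¹ := by unfold kap; group
  rw [e]
  exact mul_mem (Subgroup.mem_sup_left hx) (Subgroup.mem_sup_right (kap_mem hx (inv_mem hg)))

/-- conjugates of the right member by `B` -/
theorem conj_right_le (g : G) (hg : g ∈ B) : conjBy C g ≤ C ⊔ ⁅B, C⁆ := by
  intro x hx
  rw [mem_conjBy] at hx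
  have e : x = (g⁻¹ * x * g) * kap (g⁻¹ * x * g) g⁻¹ := by unfold kap; group
  rw [e]
  refine mul_mem (Subgroup.mem_sup_left hx) (Subgroup.mem_sup_right ?_)
  rw [Subgroup.commutator_comm]
  exact kap_mem hx (inv_mem hg)

theorem comm_le_left (hAB : RootCommutatorCase S A B) {b : G} (hb : b ∈ B) (hb1 : b ≠ 1) :
    ⁅A, B⁆ ≤ A ⊔ conjBy A b⁻¹ := by
  intro a₁ ha₁
  obtain ⟨a, ha, rfl⟩ := kap_surj_left hAB hb hb1 ha₁
  have e : kap a b = a⁻¹ * (b⁻¹ * a * b⁻¹⁻¹) := by unfold kap; group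
  rw [e]
  exact mul_mem (Subgroup.mem_sup_left (inv_mem ha)) (Subgroup.mem_sup_right (conj_mem_conjBy ha))

theorem comm_le_right (hBC : RootCommutatorCase S B C) {b : G} (hb : b ∈ B) (hb1 : b ≠ 1) :
    ⁅B, C⁆ ≤ C ⊔ conjBy C b⁻¹ := by
  intro c₁ hc₁
  obtain ⟨c, hc, rfl⟩ := kap_surj_right hBC hb hb1 hc₁
  have e : kap b c = (b⁻¹ * c⁻¹ * b⁻¹⁻¹) * c := by unfold kap; group
  rw [e]
  exact mul_mem (Subgroup.mem_sup_right (conj_mem_conjBy (inv_mem hc))) (Subgroup.mem_sup_left hc)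

/-- in a pair of members of `S` that is not a rank one pair the commutator group is central -/
theorem central_pair (hS : IsRootSubgroupSet S) {P₁ P₂ : Subgroup G} (h₁ : P₁ ∈ S) (h₂ : P₂ ∈ S)
    (hno : ¬ IsRankOnePair P₁ P₂) : ∀ z ∈ ⁅P₁, P₂⁆, ∀ x ∈ P₁ ⊔ P₂, z * x = x * z := by
  rcases hS.pair P₁ h₁ P₂ h₂ with h | h | h
  · intro z hz x _
    rw [h, Subgroup.mem_bot] at hz
    rw [hz, one_mul, mul_one]
  · exact absurd h hno
  · exact h.2.1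

include hS in
/-- `A` and the conjugate `b⁻¹ C b` are not a rank one pair -/
theorem not_rankOne_X (hA : A ∈ S) (hC : C ∈ S) (hBC : RootCommutatorCase S B C)
    (hAC : ∀ a ∈ A, ∀ c ∈ C, a * c = c * a) {b : G} (hb : b ∈ B) (hb1 : b ≠ 1) :
    ¬ IsRankOnePair A (conjBy C b⁻¹) := by
  intro hpair
  have hCC₁ : ∀ x ∈ C ⊔ ⁅B, C⁆, ∀ y ∈ C ⊔ ⁅B, C⁆, x * y = y * x :=
    sup_abelian (fun x hx y hy => comm_of_mem hS hC hx hy)
      (fun x hx y hy => comm_of_mem hS hBC.1 hx hy)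
      (fun x hx y hy => (hBC.2.1 y hy x (Subgroup.mem_sup_right hx)).symm)
  obtain ⟨c₁, hc₁, hc₁1⟩ := exists_ne_one_of_ne_bot (hS.ne_bot _ hBC.1)
  obtain ⟨c, hc, hkc⟩ := kap_surj_right hBC hb hb1 hc₁
  have hcne : c ≠ 1 := by
    rintro rfl
    rw [kap_one_right] at hkc
    exact hc₁1 hkc.symm
  have ha' : b⁻¹ * c⁻¹ * b⁻¹⁻¹ ∈ conjBy C b⁻¹ := conj_mem_conjBy (inv_mem hc)
  have ha'1 : b⁻¹ * c⁻¹ * b⁻¹⁻¹ ≠ 1 := by
    intro h
    apply hcne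
    have : c = (b * (b⁻¹ * c⁻¹ * b⁻¹⁻¹) * b⁻¹)⁻¹ := by group
    rw [this, h]; group
  have hzCb : ∀ x ∈ conjBy C b⁻¹, c * x = x * c := fun x hx =>
    hCC₁ c (Subgroup.mem_sup_left hc) x (conj_right_le _ (inv_mem hb) hx)
  have hzA : ∀ x ∈ A, c * x = x * c := fun x hx => (hAC x hx c hc).symm
  have hprod : c * (b⁻¹ * c⁻¹ * b⁻¹⁻¹) = c₁ := by
    rw [hzCb _ ha', ← hkc]; unfold kap; group
  have hroot : c * (b⁻¹ * c⁻¹ * b⁻¹⁻¹) ∈ rootElements S := by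
    rw [hprod]
    exact ⟨hc₁1, _, hBC.1, hc₁⟩
  exact Cfsg.Agent.S5025.no_translate hS (hS.conj_mem C hC _) hA (RankOnePair_symm hpair) hzCb hzA
    hcne ha' ha'1 hroot

include hS in
/-- the conjugate `b⁻¹ A b` and `C` are not a rank one pair -/
theorem not_rankOne_Y (hA : A ∈ S) (hC : C ∈ S) (hAB : RootCommutatorCase S A B)
    (hAC : ∀ a ∈ A, ∀ c ∈ C, a * c = c * a) {b : G} (hb : b ∈ B) (hb1 : b ≠ 1) :
    ¬ IsRankOnePair (conjBy A b⁻¹) C := by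
  intro hpair
  have hAA₁ : ∀ x ∈ A ⊔ ⁅A, B⁆, ∀ y ∈ A ⊔ ⁅A, B⁆, x * y = y * x :=
    sup_abelian (fun x hx y hy => comm_of_mem hS hA hx hy)
      (fun x hx y hy => comm_of_mem hS hAB.1 hx hy)
      (fun x hx y hy => (hAB.2.1 y hy x (Subgroup.mem_sup_left hx)).symm)
  obtain ⟨a₁, ha₁, ha₁1⟩ := exists_ne_one_of_ne_bot (hS.ne_bot _ hAB.1)
  obtain ⟨a, ha, hka⟩ := kap_surj_left hAB hb hb1 ha₁
  have hane : a ≠ 1 := by
    rintro rfl
    rw [kap_one_left] at hka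
    exact ha₁1 hka.symm
  have ha' : b⁻¹ * a * b⁻¹⁻¹ ∈ conjBy A b⁻¹ := conj_mem_conjBy ha
  have ha'1 : b⁻¹ * a * b⁻¹⁻¹ ≠ 1 := by
    intro h
    apply hane
    have : a = b * (b⁻¹ * a * b⁻¹⁻¹) * b⁻¹ := by group
    rw [this, h]; group
  have hzAb : ∀ x ∈ conjBy A b⁻¹, a⁻¹ * x = x * a⁻¹ := fun x hx =>
    hAA₁ a⁻¹ (Subgroup.mem_sup_left (inv_mem ha)) x (conj_left_le _ (inv_mem hb) hx)
  have hzC : ∀ x ∈ C, a⁻¹ * x = x * a⁻¹ := fun x hx => hAC a⁻¹ (inv_mem ha) x hx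
  have hprod : a⁻¹ * (b⁻¹ * a * b⁻¹⁻¹) = a₁ := by
    rw [← hka]; unfold kap; group
  have hroot : a⁻¹ * (b⁻¹ * a * b⁻¹⁻¹) ∈ rootElements S := by
    rw [hprod]
    exact ⟨ha₁1, _, hAB.1, ha₁⟩
  have hz1 : a⁻¹ ≠ 1 := fun h => hane (inv_eq_one.mp h)
  exact Cfsg.Agent.S5025.no_translate hS (hS.conj_mem A hA _) hC hpair hzAb hzC hz1 ha' ha'1 hroot

/-- (i) ⇒ (ii) -/
theorem E1 (hAB : RootCommutatorCase S A B) (hAC : ∀ a ∈ A, ∀ c ∈ C, a * c = c * a) {b : G}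
    (hb : b ∈ B) (hb1 : b ≠ 1) (h : ∀ a ∈ A, ∀ x ∈ conjBy C b⁻¹, a * x = x * a) :
    ∀ a₁ ∈ ⁅A, B⁆, ∀ c ∈ C, a₁ * c = c * a₁ := by
  intro a₁ ha₁ c hc
  have hb1' : b⁻¹ ≠ 1 := fun h => hb1 (inv_eq_one.mp h)
  obtain ⟨a, ha, rfl⟩ := kap_surj_left hAB (inv_mem hb) hb1' ha₁
  have h1 := h a ha _ (conj_mem_conjBy (g := b⁻¹) hc)
  have h2 : (b * a * b⁻¹) * c = c * (b * a * b⁻¹) := by
    have e1 : (b * a * b⁻¹) * c = b * (a * (b⁻¹ * c * b⁻¹⁻¹)) * b⁻¹ := by group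
    rw [e1, h1]; group
  have h3 : a⁻¹ * c = c * a⁻¹ := hAC a⁻¹ (inv_mem ha) c hc
  have e : kap a b⁻¹ = a⁻¹ * (b * a * b⁻¹) := by unfold kap; group
  rw [e, mul_assoc, h2, ← mul_assoc, h3, mul_assoc]

/-- (ii) ⇒ (i) -/
theorem E2 (hAC : ∀ a ∈ A, ∀ c ∈ C, a * c = c * a) {b : G}
    (hb : b ∈ B) (h : ∀ a₁ ∈ ⁅A, B⁆, ∀ c ∈ C, a₁ * c = c * a₁) :
    ∀ a ∈ A, ∀ x ∈ conjBy C b⁻¹, a * x = x * a := by
  intro a ha x hx
  rw [mem_conjBy, inv_inv] at hx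
  have h1 := h _ (kap_mem ha (inv_mem hb)) _ hx
  have h2 := hAC a ha _ hx
  have e : b * a * b⁻¹ = a * kap a b⁻¹ := by unfold kap; group
  have h3 : (b * a * b⁻¹) * (b * x * b⁻¹) = (b * x * b⁻¹) * (b * a * b⁻¹) := by
    rw [e, mul_assoc, h1, ← mul_assoc, h2, mul_assoc]
  have e1 : a * x = b⁻¹ * ((b * a * b⁻¹) * (b * x * b⁻¹)) * b := by group
  rw [e1, h3]; group

/-- (ii) ⇒ (iii) -/
theorem E3 (hAC : ∀ a ∈ A, ∀ c ∈ C, a * c = c * a) {b : G}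
    (hb : b ∈ B) (h : ∀ a₁ ∈ ⁅A, B⁆, ∀ c ∈ C, a₁ * c = c * a₁) :
    ∀ y ∈ conjBy A b⁻¹, ∀ c ∈ C, y * c = c * y := by
  intro y hy c hc
  rw [mem_conjBy, inv_inv] at hy
  have h1 := h _ (kap_mem hy hb) c hc
  have h2 := hAC _ hy c hc
  have e : y = (b * y * b⁻¹) * kap (b * y * b⁻¹) b := by unfold kap; group
  rw [e, mul_assoc, h1, ← mul_assoc, h2, mul_assoc]

/-- (iii) ⇒ (ii) -/
theorem E4 (hAB : RootCommutatorCase S A B) (hAC : ∀ a ∈ A, ∀ c ∈ C, a * c = c * a) {b : G}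
    (hb : b ∈ B) (hb1 : b ≠ 1) (h : ∀ y ∈ conjBy A b⁻¹, ∀ c ∈ C, y * c = c * y) :
    ∀ a₁ ∈ ⁅A, B⁆, ∀ c ∈ C, a₁ * c = c * a₁ := by
  intro a₁ ha₁ c hc
  obtain ⟨a, ha, rfl⟩ := kap_surj_left hAB hb hb1 ha₁
  have h1 := h _ (conj_mem_conjBy (g := b⁻¹) ha) c hc
  have h3 : a⁻¹ * c = c * a⁻¹ := hAC a⁻¹ (inv_mem ha) c hc
  have e : kap a b = a⁻¹ * (b⁻¹ * a * b⁻¹⁻¹) := by unfold kap; group
  rw [e, mul_assoc, h1, ← mul_assoc, h3, mul_assoc]

end main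

/-- Let S be a set of abstract root subgroups of G and A, B, C ∈ S with ⁅A, B⁆ ∈ S and ⁅B, C⁆ ∈ S, where A and C are different and commute. For a non-identity b ∈ B put X = ⟨A, b⁻¹ C b⟩ and Y = ⟨b⁻¹ A b, C⟩ and R = ⟨A, B, C⟩. Then X and Y are either both abelian or both nilpotent of class exactly two; X and Y commute elementwise; XY is normal in R with R = (XY) B; and R is nilpotent. -/
theorem result {G : Type*} [Group G] {S : Set (Subgroup G)} (hS : Cfsg.IsRootSubgroupSet S)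
    {A B C : Subgroup G} (hA : A ∈ S) (hB : B ∈ S) (hC : C ∈ S) (hAB : ⁅A, B⁆ ∈ S) (hBC : ⁅B, C⁆ ∈ S)
    (hAC : C ∈ Cfsg.commutingPartners S A)
    {b : G} (hb : b ∈ B) (hb1 : b ≠ 1) :
    ((IsMulCommutative ↥(A ⊔ Cfsg.conjBy C b⁻¹) ∧ IsMulCommutative ↥(Cfsg.conjBy A b⁻¹ ⊔ C)) ∨
      ((¬ IsMulCommutative ↥(A ⊔ Cfsg.conjBy C b⁻¹) ∧
          ⁅⁅A ⊔ Cfsg.conjBy C b⁻¹, A ⊔ Cfsg.conjBy C b⁻¹⁆, A ⊔ Cfsg.conjBy C b⁻¹⁆ = ⊥) ∧
        (¬ IsMulCommutative ↥(Cfsg.conjBy A b⁻¹ ⊔ C) ∧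
          ⁅⁅Cfsg.conjBy A b⁻¹ ⊔ C, Cfsg.conjBy A b⁻¹ ⊔ C⁆, Cfsg.conjBy A b⁻¹ ⊔ C⁆ = ⊥))) ∧
    ⁅A ⊔ Cfsg.conjBy C b⁻¹, Cfsg.conjBy A b⁻¹ ⊔ C⁆ = ⊥ ∧
    (∀ r ∈ A ⊔ B ⊔ C, Cfsg.conjBy ((A ⊔ Cfsg.conjBy C b⁻¹) ⊔ (Cfsg.conjBy A b⁻¹ ⊔ C)) r =
      (A ⊔ Cfsg.conjBy C b⁻¹) ⊔ (Cfsg.conjBy A b⁻¹ ⊔ C)) ∧
    ((A ⊔ Cfsg.conjBy C b⁻¹) ⊔ (Cfsg.conjBy A b⁻¹ ⊔ C)) ⊔ B = A ⊔ B ⊔ C ∧
    Group.IsNilpotent ↥(A ⊔ B ⊔ C) := by
  have hcaseAB := commutatorCase_of_mem hS hA hB hAB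
  have hcaseBC := commutatorCase_of_mem hS hB hC hBC
  have hACc : ∀ a ∈ A, ∀ c ∈ C, a * c = c * a := commutator_eq_bot_iff'.mp hAC.2.2
  have hbi : b⁻¹ ∈ B := inv_mem hb
  have hAcomm : ∀ x ∈ A, ∀ y ∈ A, x * y = y * x := fun x hx y hy => comm_of_mem hS hA hx hy
  have hCcomm : ∀ x ∈ C, ∀ y ∈ C, x * y = y * x := fun x hx y hy => comm_of_mem hS hC hx hy
  have hCbS : conjBy C b⁻¹ ∈ S := hS.conj_mem C hC _
  have hAbS : conjBy A b⁻¹ ∈ S := hS.conj_mem A hA _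
  have hCbcomm : ∀ x ∈ conjBy C b⁻¹, ∀ y ∈ conjBy C b⁻¹, x * y = y * x :=
    fun x hx y hy => comm_of_mem hS hCbS hx hy
  have hAbcomm : ∀ x ∈ conjBy A b⁻¹, ∀ y ∈ conjBy A b⁻¹, x * y = y * x :=
    fun x hx y hy => comm_of_mem hS hAbS hx hy
  have hAA₁ : ∀ x ∈ A ⊔ ⁅A, B⁆, ∀ y ∈ A ⊔ ⁅A, B⁆, x * y = y * x :=
    sup_abelian hAcomm (fun x hx y hy => comm_of_mem hS hAB hx hy)
      (fun x hx y hy => (hcaseAB.2.1 y hy x (Subgroup.mem_sup_left hx)).symm)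
  have hCC₁ : ∀ x ∈ C ⊔ ⁅B, C⁆, ∀ y ∈ C ⊔ ⁅B, C⁆, x * y = y * x :=
    sup_abelian hCcomm (fun x hx y hy => comm_of_mem hS hBC hx hy)
      (fun x hx y hy => (hcaseBC.2.1 y hy x (Subgroup.mem_sup_right hx)).symm)
  -- the four commuting relations
  have hA_Ab : ∀ x ∈ A, ∀ y ∈ conjBy A b⁻¹, x * y = y * x := fun x hx y hy =>
    hAA₁ x (Subgroup.mem_sup_left hx) y (conj_left_le _ hbi hy)
  have hCb_C : ∀ x ∈ conjBy C b⁻¹, ∀ y ∈ C, x * y = y * x := fun x hx y hy =>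
    hCC₁ x (conj_right_le _ hbi hx) y (Subgroup.mem_sup_left hy)
  have hCb_Ab : ∀ x ∈ conjBy C b⁻¹, ∀ y ∈ conjBy A b⁻¹, x * y = y * x := by
    intro x hx y hy
    rw [mem_conjBy] at hx hy
    have h1 := hACc _ hy _ hx
    have e : x * y = b⁻¹ * ((b⁻¹⁻¹ * x * b⁻¹) * (b⁻¹⁻¹ * y * b⁻¹)) * b⁻¹⁻¹ := by group
    rw [e, ← h1]; group
  have hXY : ∀ x ∈ A ⊔ conjBy C b⁻¹, ∀ y ∈ conjBy A b⁻¹ ⊔ C, x * y = y * x :=
    forall_sup_comm (forall_sup_comm' hA_Ab hACc) (forall_sup_comm' hCb_Ab hCb_C)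
  -- non rank one
  have hnoX := not_rankOne_X hS hA hC hcaseBC hACc hb hb1
  have hnoY := not_rankOne_Y hS hA hC hcaseAB hACc hb hb1
  have hZX := central_pair hS hA hCbS hnoX
  have hZY := central_pair hS hAbS hC hnoY
  -- the group Q
  have hQeq : (A ⊔ conjBy C b⁻¹) ⊔ (conjBy A b⁻¹ ⊔ C) = A ⊔ C ⊔ (⁅A, B⁆ ⊔ ⁅B, C⁆) := by
    apply le_antisymm
    · refine sup_le (sup_le (le_sup_left.trans le_sup_left) ?_) (sup_le ?_ (le_sup_right.trans le_sup_left))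
      · refine (conj_right_le _ hbi).trans (sup_le (le_sup_right.trans le_sup_left) ?_)
        exact le_sup_right.trans le_sup_right
      · refine (conj_left_le _ hbi).trans (sup_le (le_sup_left.trans le_sup_left) ?_)
        exact le_sup_left.trans le_sup_right
    · refine sup_le (sup_le (le_sup_left.trans le_sup_left) (le_sup_right.trans le_sup_right)) ?_
      refine sup_le ?_ ?_
      · exact (comm_le_left hcaseAB hb hb1).trans
          (sup_le (le_sup_left.trans le_sup_left) (le_sup_left.trans le_sup_right))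
      · exact (comm_le_right hcaseBC hb hb1).trans
          (sup_le (le_sup_right.trans le_sup_right) (le_sup_right.trans le_sup_left))
  have hTB : ∀ t ∈ ⁅A, B⁆ ⊔ ⁅B, C⁆, ∀ b' ∈ B, t * b' = b' * t :=
    forall_sup_comm (fun t ht b' hb' => hcaseAB.2.1 t ht b' (Subgroup.mem_sup_right hb'))
      (fun t ht b' hb' => hcaseBC.2.1 t ht b' (Subgroup.mem_sup_left hb'))
  have hBQ : B ≤ Subgroup.normalizer ((A ⊔ C ⊔ (⁅A, B⁆ ⊔ ⁅B, C⁆) : Subgroup G) : Set G) := by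
    apply le_normalizer_of_conj_mem
    intro b' hb'
    apply conj_sup_mem
    · apply conj_sup_mem
      · intro a ha
        have h1 := conj_left_le (A := A) (B := B) b' hb' (conj_mem_conjBy ha)
        exact (sup_le (le_sup_left.trans le_sup_left) (le_sup_left.trans le_sup_right) :
          A ⊔ ⁅A, B⁆ ≤ A ⊔ C ⊔ (⁅A, B⁆ ⊔ ⁅B, C⁆)) h1
      · intro c hc
        have h1 := conj_right_le (B := B) (C := C) b' hb' (conj_mem_conjBy hc)
        exact (sup_le (le_sup_right.trans le_sup_left) (le_sup_right.trans le_sup_right) :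
          C ⊔ ⁅B, C⁆ ≤ A ⊔ C ⊔ (⁅A, B⁆ ⊔ ⁅B, C⁆)) h1
    · intro t ht
      rw [← hTB t ht b' hb', mul_inv_cancel_right]
      exact Subgroup.mem_sup_right ht
  refine ⟨?_, commutator_eq_bot_iff'.mpr hXY, ?_, ?_, ?_⟩
  · -- (1)
    by_cases hi : ∀ a ∈ A, ∀ x ∈ conjBy C b⁻¹, a * x = x * a
    · left
      have hii := E1 hcaseAB hACc hb hb1 hi
      have hiii := E3 hACc hb hii
      exact ⟨isMulCommutative_of_forall (sup_abelian hAcomm hCbcomm hi),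
        isMulCommutative_of_forall (sup_abelian hAbcomm hCcomm hiii)⟩
    · right
      have hiii : ¬ ∀ y ∈ conjBy A b⁻¹, ∀ c ∈ C, y * c = c * y := fun h =>
        hi (E2 hACc hb (E4 hcaseAB hACc hb hb1 h))
      refine ⟨⟨?_, class_two hAcomm hCbcomm hZX⟩, ⟨?_, class_two hAbcomm hCcomm hZY⟩⟩
      · intro hcomm
        apply hi
        intro a ha x hx
        exact forall_of_isMulCommutative hcomm a (Subgroup.mem_sup_left ha) x
          (Subgroup.mem_sup_right hx)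
      · intro hcomm
        apply hiii
        intro y hy c hc
        exact forall_of_isMulCommutative hcomm y (Subgroup.mem_sup_left hy) c
          (Subgroup.mem_sup_right hc)
  · -- (3)
    intro r hr
    rw [conjBy_eq_self_iff, hQeq]
    have hle : A ⊔ B ⊔ C ≤ Subgroup.normalizer
        ((A ⊔ C ⊔ (⁅A, B⁆ ⊔ ⁅B, C⁆) : Subgroup G) : Set G) := by
      refine sup_le (sup_le ?_ hBQ) ?_
      · exact (le_sup_left.trans le_sup_left : A ≤ A ⊔ C ⊔ (⁅A, B⁆ ⊔ ⁅B, C⁆)).trans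
          Subgroup.le_normalizer
      · exact (le_sup_right.trans le_sup_left : C ≤ A ⊔ C ⊔ (⁅A, B⁆ ⊔ ⁅B, C⁆)).trans
          Subgroup.le_normalizer
    exact hle hr
  · -- (4)
    rw [hQeq]
    apply le_antisymm
    · refine sup_le (sup_le (sup_le (le_sup_left.trans le_sup_left) le_sup_right) ?_)
        (le_sup_right.trans le_sup_left)
      refine sup_le ((Subgroup.commutator_le_sup A B).trans le_sup_left) ?_
      exact (Subgroup.commutator_le_sup B C).trans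
        (sup_le (le_sup_right.trans le_sup_left) le_sup_right)
    · exact sup_le (sup_le ((le_sup_left.trans le_sup_left).trans le_sup_left) le_sup_right)
        ((le_sup_right.trans le_sup_left).trans le_sup_left)
  · -- (5)
    have hclass : ∀ z ∈ ⁅A ⊔ C ⊔ (⁅A, B⁆ ⊔ ⁅B, C⁆), A ⊔ C ⊔ (⁅A, B⁆ ⊔ ⁅B, C⁆)⁆,
        ∀ q ∈ A ⊔ C ⊔ (⁅A, B⁆ ⊔ ⁅B, C⁆), z * q = q * z := by
      rw [← hQeq]
      -- the central subgroup
      have hZc : ∀ z ∈ ⁅A, conjBy C b⁻¹⁆ ⊔ ⁅conjBy A b⁻¹, C⁆,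
          ∀ q ∈ (A ⊔ conjBy C b⁻¹) ⊔ (conjBy A b⁻¹ ⊔ C), z * q = q * z := by
        apply forall_sup_comm
        · apply forall_sup_comm' hZX
          intro z hz y hy
          exact hXY z (Subgroup.commutator_le_sup _ _ hz) y hy
        · apply forall_sup_comm' _ hZY
          intro z hz x hx
          exact (hXY x hx z (Subgroup.commutator_le_sup _ _ hz)).symm
      have hcl : (A ⊔ conjBy C b⁻¹) ⊔ (conjBy A b⁻¹ ⊔ C) = Subgroup.closure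
          (((A ⊔ conjBy C b⁻¹ : Subgroup G) : Set G) ∪ (conjBy A b⁻¹ ⊔ C : Subgroup G)) := by
        simp only [Subgroup.closure_union, Subgroup.closure_eq]
      have hn := le_normalizer_of_commutes hZc
      have hle : ⁅(A ⊔ conjBy C b⁻¹) ⊔ (conjBy A b⁻¹ ⊔ C),
          (A ⊔ conjBy C b⁻¹) ⊔ (conjBy A b⁻¹ ⊔ C)⁆ ≤ ⁅A, conjBy C b⁻¹⁆ ⊔ ⁅conjBy A b⁻¹, C⁆ := by
        apply commutator_le_of_gens hcl hcl hn hn
        rintro x (hx | hx) y (hy | hy)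
        · exact Subgroup.mem_sup_left (commutator_sup_le hAcomm hCbcomm hZX
            (Subgroup.commutator_mem_commutator hx hy))
        · have : ⁅x, y⁆ = 1 := by
            rw [commutatorElement_eq_one_iff_mul_comm]; exact hXY x hx y hy
          rw [this]; exact one_mem _
        · have : ⁅x, y⁆ = 1 := by
            rw [commutatorElement_eq_one_iff_mul_comm]; exact (hXY y hy x hx).symm
          rw [this]; exact one_mem _
        · exact Subgroup.mem_sup_right (commutator_sup_le hAbcomm hCcomm hZY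
            (Subgroup.commutator_mem_commutator hx hy))
      intro z hz q hq
      exact hZc z (hle hz) q hq
    have hnil := nil_of_structure (A := A) (B := B) (C := C) (T := ⁅A, B⁆ ⊔ ⁅B, C⁆)
      (fun x hx y hy => comm_of_mem hS hB hx hy) hBQ hTB hclass
      (fun a ha b' hb' => Subgroup.mem_sup_left (Subgroup.commutator_mem_commutator ha hb'))
      (fun c hc b' hb' => Subgroup.mem_sup_right (by
        rw [Subgroup.commutator_comm]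
        exact Subgroup.commutator_mem_commutator hc hb'))
    refine isNilpotent_of_le ?_ hnil
    exact sup_le (sup_le ((le_sup_left.trans le_sup_left).trans le_sup_left) le_sup_right)
      ((le_sup_right.trans le_sup_left).trans le_sup_left)

end Cfsg.Agent.S5030
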