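import Cfsg.Statements.S5031
import Cfsg.Agent.Lib.Helper4.RankOneSub
import Cfsg.Agent.S5030

set_option autoImplicit false
open Cfsg

namespace Cfsg.Agent.S5031

open Cfsg.Agent.Lib.Helper4.RankOneGrp Cfsg.Agent.Lib.Helper4.RootSub
  Cfsg.Agent.Lib.Helper4.RootSub2 Cfsg.Agent.Lib.Helper4.RootSub3
  Cfsg.Agent.Lib.Helper4.RankOneSub
open scoped commutatorElement

variable {G : Type*} [Group G]

theorem rtg_symm {S : Set (Subgroup G)} {A B : Subgroup G}
    (h : Relation.ReflTransGen (FAdj S) A B) : Relation.ReflTransGen (FAdj S) B A := by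
  induction h with
  | refl => exact Relation.ReflTransGen.refl
  | tail _ hbc ih =>
    exact Relation.ReflTransGen.head ⟨hbc.2.1, hbc.1, RankOnePair_symm hbc.2.2⟩ ih

/-- members joined by a path have the same component -/
theorem comp_eq {S : Set (Subgroup G)} {A B : Subgroup G}
    (h : Relation.ReflTransGen (FAdj S) A B) :
    componentOf (FAdj S) S A = componentOf (FAdj S) S B := by
  have h' := rtg_symm h
  ext C
  constructor
  · rintro ⟨hC, hAC⟩
    exact ⟨hC, h'.trans hAC⟩
  · rintro ⟨hC, hBC⟩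
    exact ⟨hC, h.trans hBC⟩

theorem comp_eq_of_pair {S : Set (Subgroup G)} {A B : Subgroup G} (hA : A ∈ S) (hB : B ∈ S)
    (h : IsRankOnePair A B) : componentOf (FAdj S) S A = componentOf (FAdj S) S B :=
  comp_eq (Relation.ReflTransGen.single ⟨hA, hB, h⟩)

/-- a member whose component is not a singleton has a rank one partner -/
theorem exists_partner_of_comp {S : Set (Subgroup G)} {A : Subgroup G}
    (h : ∃ A' ∈ componentOf (FAdj S) S A, A' ≠ A) : ∃ D ∈ S, IsRankOnePair A D := by
  obtain ⟨A', ⟨-, hpath⟩, hne⟩ := h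
  rcases Relation.ReflTransGen.cases_head hpath with h | ⟨D, hD, -⟩
  · exact absurd h.symm hne
  · exact ⟨D, hD.2.1, hD.2.2⟩

/-- The key configuration: a product `a * b` lying in a member `E`, with `D` a rank one
partner of `A` which is not a rank one partner of `B`; then `E` is a rank one partner of `D`. -/
theorem key {S : Set (Subgroup G)} (hS : IsRootSubgroupSet S) {A B D E : Subgroup G}
    (hA : A ∈ S) (hB : B ∈ S) (hD : D ∈ S) (hE : E ∈ S) (hAD : IsRankOnePair A D)
    (hAB : ∀ a ∈ A, ∀ b ∈ B, a * b = b * a) (hEle : E ≤ A ⊔ B) (hEB : E ≠ B)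
    {a b : G} (ha : a ∈ A) (ha1 : a ≠ 1) (hb : b ∈ B) (hb1 : b ≠ 1) (hab : a * b ∈ E)
    (hab1 : a * b ≠ 1) (hDB : ¬ IsRankOnePair D B) : IsRankOnePair E D := by
  -- `(D, B)` is in the commutator case
  have hcaseDB : RootCommutatorCase S D B := by
    rcases hS.pair D hD B hB with h | h | h
    · exfalso
      have hcomm := commutator_eq_bot_iff'.mp h
      have hroot : b * a ∈ rootElements S := by
        rw [← hAB a ha b hb]
        exact ⟨hab1, E, hE, hab⟩
      exact Cfsg.Agent.S5025.no_translate hS hA hD hAD (fun x hx => (hAB x hx b hb).symm)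
        (fun x hx => (hcomm x hx b hb).symm) hb1 ha ha1 hroot
    · exact absurd h hDB
    · exact h
  have hABab : ∀ x ∈ A ⊔ B, ∀ y ∈ A ⊔ B, x * y = y * x :=
    Cfsg.Agent.S5030.sup_abelian (fun x hx y hy => comm_of_mem hS hA hx hy)
      (fun x hx y hy => comm_of_mem hS hB hx hy) hAB
  -- the second unipotent subgroup
  have hD'' : conjBy D a ∈ unipotentSubgroups A D :=
    conjBy_mem_unipotent (right_mem_unipotent hAD) (Subgroup.mem_sup_left ha)
  have hDne : D ≠ conjBy D a := by
    intro he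
    exact ha1 (eq_one_of_mem_normalizer hAD ha (conjBy_eq_self_iff.mp he.symm))
  obtain ⟨hpair'', hsup''⟩ := pair_of_distinct hAD (right_mem_unipotent hAD) hD'' hDne
  rcases hS.pair E hE D hD with h | h | h
  · -- `E` commutes with `D`
    exfalso
    have hcomm := commutator_eq_bot_iff'.mp h
    obtain ⟨d, hd, hd1⟩ := exists_ne_one_of_ne_bot (hS.ne_bot D hD)
    have h1 := hcomm _ hab d hd
    -- `kap a d` lies in `⁅D, B⁆`
    have h2 : kap a d = ⁅b, d⁻¹⁆ := by
      have e1 : d⁻¹ * a * d = a * b * (d⁻¹ * b⁻¹ * d) := by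
        have : d⁻¹ * a * d = d⁻¹ * (a * b * d) * (d⁻¹ * b⁻¹ * d) := by group
        rw [this, h1]; group
      unfold kap
      rw [commutatorElement_def]
      have : a⁻¹ * d⁻¹ * a * d = a⁻¹ * (d⁻¹ * a * d) := by group
      rw [this, e1]; group
    have h3 : kap a d ∈ ⁅D, B⁆ := by
      rw [h2, Subgroup.commutator_comm]
      exact Subgroup.commutator_mem_commutator hb (inv_mem hd)
    have h4 : kap a d ∈ Subgroup.normalizer (D : Set G) :=
      mem_normalizer_of_commutes (fun x hx => hcaseDB.2.1 _ h3 x (Subgroup.mem_sup_left hx))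
    have h5 : conjBy D (a⁻¹ * d⁻¹ * a) = D := by
      have h6 := conjBy_eq_self_iff.mpr h4
      have e : kap a d = (a⁻¹ * d⁻¹ * a) * d := by unfold kap; group
      rwa [e, ← conjBy_conjBy, conjBy_of_mem hd] at h6
    have h7 : conjBy (conjBy D a) d⁻¹ = conjBy D a := by
      rw [conjBy_conjBy]
      have e : d⁻¹ * a = a * (a⁻¹ * d⁻¹ * a) := by group
      rw [e, ← conjBy_conjBy, h5]
    have h8 := eq_one_of_mem_normalizer hpair'' (inv_mem hd) (conjBy_eq_self_iff.mp h7)
    exact hd1 (inv_eq_one.mp h8)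
  · exact h
  · -- the commutator case: use the nilpotent group `⟨B, D, E⟩`
    exfalso
    obtain ⟨d, hd, hd1⟩ := exists_ne_one_of_ne_bot (hS.ne_bot D hD)
    have hBD : ⁅B, D⁆ ∈ S := by rw [Subgroup.commutator_comm]; exact hcaseDB.1
    have hDE : ⁅D, E⁆ ∈ S := by rw [Subgroup.commutator_comm]; exact h.1
    have hEB' : E ∈ commutingPartners S B := by
      refine ⟨hE, hEB, ?_⟩
      rw [commutator_eq_bot_iff']
      intro x hx y hy
      exact hABab x (Subgroup.mem_sup_right hx) y (hEle hy)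
    have hnil := (Cfsg.Agent.S5030.result hS hB hD hE hBD hDE hEB' hd hd1).2.2.2.2
    have haR : a ∈ B ⊔ D ⊔ E := by
      have : a = (a * b) * b⁻¹ := by group
      rw [this]
      exact mul_mem (Subgroup.mem_sup_right hab)
        (Subgroup.mem_sup_left (Subgroup.mem_sup_left (inv_mem hb)))
    have hDR : D ≤ B ⊔ D ⊔ E := le_sup_right.trans le_sup_left
    have hle : A ⊔ D ≤ B ⊔ D ⊔ E := by
      rw [← hsup'']
      exact sup_le hDR (conjBy_le_of_mem hDR haR)
    exact not_nilpotent_of_pair hAD (Cfsg.Agent.S5030.isNilpotent_of_le hle hnil)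

/-- Let S be a set of abstract root subgroups of G and let A, B ∈ S lie in different connected components of the graph of rank one pairs on S, each component having more than one member. Then B is not a line partner of A. -/
theorem result {G : Type*} [Group G] {S : Set (Subgroup G)} (hS : Cfsg.IsRootSubgroupSet S)
    {A B : Subgroup G} (hA : A ∈ S) (hB : B ∈ S)
    (hne : Cfsg.componentOf (Cfsg.FAdj S) S A ≠ Cfsg.componentOf (Cfsg.FAdj S) S B)
    (hA2 : ∃ A' ∈ Cfsg.componentOf (Cfsg.FAdj S) S A, A' ≠ A) (hB2 : ∃ B' ∈ Cfsg.componentOf (Cfsg.FAdj S) S B, B' ≠ B) :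
    B ∉ Cfsg.linePartners S A := by
  rintro ⟨⟨-, hBA, hcomm⟩, hpart⟩
  obtain ⟨D, hD, hAD⟩ := exists_partner_of_comp hA2
  obtain ⟨F, hF, hBF⟩ := exists_partner_of_comp hB2
  have hAB := commutator_eq_bot_iff'.mp hcomm
  have hinf : A ⊓ B = ⊥ :=
    hpart.2.2 A ⟨hA, le_sup_left⟩ B ⟨hB, le_sup_right⟩ (Ne.symm hBA)
  obtain ⟨a, ha, ha1⟩ := exists_ne_one_of_ne_bot (hS.ne_bot A hA)
  obtain ⟨b, hb, hb1⟩ := exists_ne_one_of_ne_bot (hS.ne_bot B hB)
  have hab1 : a * b ≠ 1 := by
    intro h
    have h1 : a = b⁻¹ := eq_inv_of_mul_eq_one_left h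
    have h2 : a ∈ A ⊓ B := Subgroup.mem_inf.mpr ⟨ha, by rw [h1]; exact inv_mem hb⟩
    rw [hinf, Subgroup.mem_bot] at h2
    exact ha1 h2
  obtain ⟨E, ⟨hE, hEle⟩, habE⟩ := hpart.2.1 (a * b)
    (mul_mem (Subgroup.mem_sup_left ha) (Subgroup.mem_sup_right hb)) hab1
  have hEB : E ≠ B := by
    rintro rfl
    have h1 : a = (a * b) * b⁻¹ := by group
    have h2 : a ∈ A ⊓ E := Subgroup.mem_inf.mpr ⟨ha, by rw [h1]; exact mul_mem habE (inv_mem hb)⟩
    rw [hinf, Subgroup.mem_bot] at h2
    exact ha1 h2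
  have hEA : E ≠ A := by
    rintro rfl
    have h1 : b = a⁻¹ * (a * b) := by group
    have h2 : b ∈ E ⊓ B := Subgroup.mem_inf.mpr ⟨by rw [h1]; exact mul_mem (inv_mem ha) habE, hb⟩
    rw [hinf, Subgroup.mem_bot] at h2
    exact hb1 h2
  have hDB : ¬ IsRankOnePair D B := by
    intro h
    exact hne ((comp_eq_of_pair hA hD hAD).trans (comp_eq_of_pair hD hB h))
  have hFA : ¬ IsRankOnePair F A := by
    intro h
    exact hne ((comp_eq_of_pair hF hA h).symm.trans (comp_eq_of_pair hB hF hBF).symm)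
  have h1 := key hS hA hB hD hE hAD hAB hEle hEB ha ha1 hb hb1 habE hab1 hDB
  have hba : b * a = a * b := (hAB a ha b hb).symm
  have h2 := key hS hB hA hF hE hBF (fun x hx y hy => (hAB y hy x hx).symm)
    (by rw [sup_comm]; exact hEle) hEA hb hb1 ha ha1 (by rw [hba]; exact habE)
    (by rw [hba]; exact hab1) hFA
  apply hne
  calc componentOf (FAdj S) S A = componentOf (FAdj S) S D := comp_eq_of_pair hA hD hAD
    _ = componentOf (FAdj S) S E := (comp_eq_of_pair hE hD h1).symm
    _ = componentOf (FAdj S) S F := comp_eq_of_pair hE hF h2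
    _ = componentOf (FAdj S) S B := (comp_eq_of_pair hB hF hBF).symm

end Cfsg.Agent.S5031
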