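import Cfsg.Statements.S5032
import Cfsg.Agent.S5029
import Cfsg.Agent.S5031

set_option autoImplicit false
open Cfsg

namespace Cfsg.Agent.S5032

open Cfsg.Agent.Lib.Helper4.RankOneGrp Cfsg.Agent.Lib.Helper4.RootSub
  Cfsg.Agent.Lib.Helper4.RootSub2 Cfsg.Agent.Lib.Helper4.RootSub3
open scoped commutatorElement

variable {G : Type*} [Group G]

/-- members joined by a path are conjugate -/
theorem conj_of_path {S : Set (Subgroup G)} {A B : Subgroup G}
    (h : Relation.ReflTransGen (FAdj S) A B) : ∃ g : G, B = conjBy A g := by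
  induction h with
  | refl => exact ⟨1, (conjBy_one A).symm⟩
  | tail _ hbc ih =>
    obtain ⟨g, rfl⟩ := ih
    obtain ⟨y, -, hy⟩ := right_mem_unipotent hbc.2.2
    exact ⟨y * g, by rw [hy, conjBy_conjBy]⟩

theorem not_isolated {S : Set (Subgroup G)} {A D : Subgroup G} (hA : A ∈ S) (hD : D ∈ S)
    (hAD : IsRankOnePair A D) : ¬ IsIsolatedIn (FAdj S) S A :=
  fun h => (h.2 D).1 ⟨hA, hD, hAD⟩

/-- conjugating by a root element stays inside the component -/
theorem path_conj_root {S : Set (Subgroup G)} (hS : IsRootSubgroupSet S)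
    (hall : ∀ A ∈ S, ∃ D ∈ S, IsRankOnePair A D) {A B : Subgroup G} (hA : A ∈ S) (hB : B ∈ S)
    {x : G} (hx : x ∈ B) : Relation.ReflTransGen (FAdj S) A (conjBy A x) := by
  by_cases hx1 : x = 1
  · rw [hx1, conjBy_one]
  have hAx : conjBy A x ∈ S := hS.conj_mem A hA x
  obtain ⟨D, hD, hAD⟩ := hall A hA
  rcases hS.pair A hA B hB with h | h | h
  · have hcomm := commutator_eq_bot_iff'.mp h
    have : conjBy A x = A :=
      conjBy_eq_self_iff.mpr (mem_normalizer_of_commutes (fun a ha => (hcomm a ha x hx).symm))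
    rw [this]
  · have h1 : FAdj S A B := ⟨hA, hB, h⟩
    have h2 : FAdj S B (conjBy A x) := by
      refine ⟨hB, hAx, ?_⟩
      have := rankOnePair_conj (RankOnePair_symm h) x
      rwa [conjBy_of_mem hx] at this
    exact (Relation.ReflTransGen.single h1).tail h2
  · by_cases hAA : conjBy A x = A
    · rw [hAA]
    -- `conjBy A x` is a line partner of `A`
    have hC : ⁅A, B⁆ ∈ S := h.1
    have hni : ¬ IsIsolatedIn (FAdj S) S A := not_isolated hA hD hAD
    have hpart := (Cfsg.Agent.S5029.result hS hni hA hB hC).2.1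
    have hCA : ∀ c ∈ ⁅A, B⁆, ∀ a ∈ A, c * a = a * c :=
      fun c hc a ha => h.2.1 c hc a (Subgroup.mem_sup_left ha)
    have hAC : ∀ y ∈ A ⊔ ⁅A, B⁆, ∀ z ∈ A ⊔ ⁅A, B⁆, y * z = z * y :=
      Cfsg.Agent.S5030.sup_abelian (fun y hy z hz => comm_of_mem hS hA hy hz)
        (fun y hy z hz => comm_of_mem hS hC hy hz) (fun y hy z hz => (hCA z hz y hy).symm)
    have hle : conjBy A x ≤ A ⊔ ⁅A, B⁆ := Cfsg.Agent.S5030.conj_left_le x hx
    have hsup : A ⊔ conjBy A x = A ⊔ ⁅A, B⁆ := by
      apply le_antisymm (sup_le le_sup_left hle)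
      have hxi1 : x⁻¹ ≠ 1 := fun h => hx1 (inv_eq_one.mp h)
      have := Cfsg.Agent.S5030.comm_le_left h (inv_mem hx) hxi1
      rw [inv_inv] at this
      exact sup_le le_sup_left this
    have hline : conjBy A x ∈ linePartners S A := by
      refine ⟨⟨hAx, hAA, ?_⟩, ?_⟩
      · rw [commutator_eq_bot_iff']
        intro a ha y hy
        exact hAC a (Subgroup.mem_sup_left ha) y (hle hy)
      · rw [hsup]
        exact hpart
    by_contra hno
    have hne : componentOf (FAdj S) S A ≠ componentOf (FAdj S) S (conjBy A x) := by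
      intro he
      apply hno
      have : conjBy A x ∈ componentOf (FAdj S) S (conjBy A x) :=
        ⟨hAx, Relation.ReflTransGen.refl⟩
      rw [← he] at this
      exact this.2
    obtain ⟨D', hD', hAD'⟩ := hall _ hAx
    have hA2 : ∃ A' ∈ componentOf (FAdj S) S A, A' ≠ A :=
      ⟨D, ⟨hD, Relation.ReflTransGen.single ⟨hA, hD, hAD⟩⟩, hAD.ne.symm⟩
    have hB2 : ∃ B' ∈ componentOf (FAdj S) S (conjBy A x), B' ≠ conjBy A x :=
      ⟨D', ⟨hD', Relation.ReflTransGen.single ⟨hAx, hD', hAD'⟩⟩, hAD'.ne.symm⟩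
    exact Cfsg.Agent.S5031.result hS hA hAx hne hA2 hB2 hline

/-- Let S be a set of abstract root subgroups of G with more than one member. Then the graph of rank one pairs on S is connected if and only if S is a single conjugacy class of G and some member of S has a rank one partner in S. -/
theorem result {G : Type*} [Group G] {S : Set (Subgroup G)} (hS : Cfsg.IsRootSubgroupSet S) (h2 : ∃ A ∈ S, ∃ B ∈ S, A ≠ B) :
    Cfsg.IsConnectedFamily (Cfsg.FAdj S) S ↔
      (Cfsg.IsConjClassOfSubgroups S ∧ ∃ A ∈ S, ¬ Cfsg.IsIsolatedIn (Cfsg.FAdj S) S A) := by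
  obtain ⟨A₀, hA₀, B₀, hB₀, hne₀⟩ := h2
  constructor
  · intro hconn
    refine ⟨⟨⟨A₀, hA₀⟩, fun A hA B hB => conj_of_path (hconn A hA B hB)⟩, A₀, hA₀, ?_⟩
    rcases Relation.ReflTransGen.cases_head (hconn A₀ hA₀ B₀ hB₀) with h | ⟨D, hD, -⟩
    · exact absurd h hne₀
    · exact fun h => (h.2 D).1 hD
  · rintro ⟨⟨-, hconj⟩, A₁, hA₁, hni⟩
    obtain ⟨D₁, hD₁, hAD₁⟩ := Cfsg.Agent.S5028.exists_partner hni hA₁
    have hall : ∀ A ∈ S, ∃ D ∈ S, IsRankOnePair A D := by
      intro A hA
      obtain ⟨g, rfl⟩ := hconj A₁ hA₁ A hA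
      exact ⟨conjBy D₁ g, hS.conj_mem D₁ hD₁ g, rankOnePair_conj hAD₁ g⟩
    -- the subgroup of elements preserving all components
    let H : Subgroup G :=
      { carrier := {g | ∀ A ∈ S, Relation.ReflTransGen (FAdj S) A (conjBy A g) ∧
          Relation.ReflTransGen (FAdj S) A (conjBy A g⁻¹)}
        one_mem' := by
          intro A _
          rw [inv_one, conjBy_one]
          exact ⟨Relation.ReflTransGen.refl, Relation.ReflTransGen.refl⟩
        mul_mem' := by
          intro g h hg hh A hA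
          constructor
          · rw [← conjBy_conjBy]
            exact (hh A hA).1.trans (hg _ (hS.conj_mem A hA h)).1
          · rw [mul_inv_rev, ← conjBy_conjBy]
            exact (hg A hA).2.trans (hh _ (hS.conj_mem A hA g⁻¹)).2
        inv_mem' := by
          intro g hg A hA
          rw [inv_inv]
          exact ⟨(hg A hA).2, (hg A hA).1⟩ }
    have hH : H = ⊤ := by
      rw [eq_top_iff, ← hS.generates]
      apply iSup₂_le
      intro B hB x hx A hA
      exact ⟨path_conj_root hS hall hA hB hx, path_conj_root hS hall hA hB (inv_mem hx)⟩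
    intro A hA B hB
    obtain ⟨g, rfl⟩ := hconj A hA B hB
    have hg : g ∈ H := by rw [hH]; exact Subgroup.mem_top g
    exact (hg A hA).1

end Cfsg.Agent.S5032
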