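import Cfsg.Statements.S5038
import Cfsg.Agent.Lib.Helper4.RootLine

set_option autoImplicit false
open Cfsg

namespace Cfsg.Agent.S5038

open Cfsg.Agent.Lib.Helper4.RankOneGrp Cfsg.Agent.Lib.Helper4.RootSub
  Cfsg.Agent.Lib.Helper4.RootSub2 Cfsg.Agent.Lib.Helper4.RootSub3
  Cfsg.Agent.Lib.Helper4.RootLine
open scoped commutatorElement

/-- Let S be a set of abstract root subgroups of G with no isolated vertex in the graph of rank one pairs, A ∈ S and B ∈ Λ_A. Then the subgroup generated by the members of S normalizing AB acts doubly transitively, by conjugation, on the members of S contained in AB. -/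
theorem result {G : Type*} [Group G] {S : Set (Subgroup G)} (hS : Cfsg.IsRootSubgroupSet S)
    (hF : ∀ A ∈ S, ¬ Cfsg.IsIsolatedIn (Cfsg.FAdj S) S A) {A B : Subgroup G} (hA : A ∈ S) (hB : B ∈ Cfsg.linePartners S A) :
    ∀ C₁ ∈ Cfsg.membersIn S (A ⊔ B), ∀ C₂ ∈ Cfsg.membersIn S (A ⊔ B), ∀ D₁ ∈ Cfsg.membersIn S (A ⊔ B),
      ∀ D₂ ∈ Cfsg.membersIn S (A ⊔ B), C₁ ≠ C₂ → D₁ ≠ D₂ →
        ∃ x ∈ ⨆ E ∈ Cfsg.normalizingMembers S (A ⊔ B), E, Cfsg.conjBy C₁ x = D₁ ∧ Cfsg.conjBy C₂ x = D₂ := by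
  have hall : ∀ A ∈ S, ∃ D ∈ S, IsRankOnePair A D :=
    fun A hA => Cfsg.Agent.S5028.exists_partner (hF A hA) hA
  have hB' := hB
  obtain ⟨⟨hBS, hBA, hcomm⟩, hpart⟩ := hB'
  rw [commutator_eq_bot_iff'] at hcomm
  have hNab : ∀ x ∈ A ⊔ B, ∀ y ∈ A ⊔ B, x * y = y * x :=
    Cfsg.Agent.S5030.sup_abelian (fun x hx y hy => comm_of_mem hS hA hx hy)
      (fun x hx y hy => comm_of_mem hS hBS hx hy) hcomm
  -- first good point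
  obtain ⟨E₁, hE₁, hAE₁⟩ := hall A hA
  obtain ⟨Q₁, hQ₁, hQ₁A, -, hgood₁, hsup₁⟩ := good_of_partner hS hall hA hB hE₁ hAE₁
  -- second good point
  have hsup₁' : Q₁ ⊔ A = A ⊔ B := by rw [sup_comm]; exact hsup₁
  have hAl : A ∈ linePartners S Q₁ := by
    refine ⟨⟨hA, hQ₁A.symm, ?_⟩, ?_⟩
    · rw [commutator_eq_bot_iff']
      exact fun x hx y hy => hNab x (hQ₁.2 hx) y (Subgroup.mem_sup_left hy)
    · rw [hsup₁']; exact hpart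
  obtain ⟨E₂, hE₂, hQE₂⟩ := hall Q₁ hQ₁.1
  obtain ⟨Q₂, hQ₂, hQ₂Q₁, -, hgood₂, -⟩ := good_of_partner hS hall hQ₁.1 hAl hE₂ hQE₂
  rw [hsup₁'] at hQ₂ hgood₂
  -- the group K
  have hK : ∀ x ∈ ⨆ E ∈ normalizingMembers S (A ⊔ B), E, conjBy (A ⊔ B) x = A ⊔ B := by
    intro x hx
    rw [conjBy_eq_self_iff]
    have hle : (⨆ E ∈ normalizingMembers S (A ⊔ B), E) ≤
        Subgroup.normalizer ((A ⊔ B : Subgroup G) : Set G) :=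
      iSup₂_le (fun E hE => hE.2)
    exact hle hx
  have hgoodK : ∀ Q, Good S (A ⊔ B) Q → ∃ F : Subgroup G,
      F ≤ (⨆ E ∈ normalizingMembers S (A ⊔ B), E) ∧ (∀ f ∈ F, conjBy Q f = Q) ∧
      ∀ T₁ ∈ membersIn S (A ⊔ B), ∀ T₂ ∈ membersIn S (A ⊔ B), T₁ ≠ Q → T₂ ≠ Q →
        ∃ f ∈ F, conjBy T₁ f = T₂ := by
    rintro Q ⟨F, hFS, hFN, hFQ, hFt⟩
    refine ⟨F, ?_, hFQ, hFt⟩
    have hmem : F ∈ normalizingMembers S (A ⊔ B) :=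
      ⟨hFS, fun f hf => conjBy_eq_self_iff.mp (hFN f hf)⟩
    exact le_iSup₂ (f := fun (E : Subgroup G) (_ : E ∈ normalizingMembers S (A ⊔ B)) => E) F hmem
  -- a third point
  have h3 : ∃ T₃ ∈ membersIn S (A ⊔ B), T₃ ≠ Q₁ ∧ T₃ ≠ Q₂ := by
    obtain ⟨q₁, hq₁, hq₁1⟩ := exists_ne_one_of_ne_bot (hS.ne_bot Q₁ hQ₁.1)
    obtain ⟨q₂, hq₂, hq₂1⟩ := exists_ne_one_of_ne_bot (hS.ne_bot Q₂ hQ₂.1)
    have hinf : Q₁ ⊓ Q₂ = ⊥ := hpart.2.2 Q₁ hQ₁ Q₂ hQ₂ hQ₂Q₁.symm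
    have hinf' : ∀ x ∈ Q₁, x ∈ Q₂ → x = 1 := by
      intro x h1 h2
      have : x ∈ Q₁ ⊓ Q₂ := Subgroup.mem_inf.mpr ⟨h1, h2⟩
      rw [hinf, Subgroup.mem_bot] at this
      exact this
    have hx1 : q₁ * q₂ ≠ 1 := by
      intro h1
      have h2 : q₁ = q₂⁻¹ := eq_inv_of_mul_eq_one_left h1
      exact hq₁1 (hinf' q₁ hq₁ (by rw [h2]; exact inv_mem hq₂))
    obtain ⟨T₃, hT₃, hxT₃⟩ := hpart.2.1 (q₁ * q₂) (mul_mem (hQ₁.2 hq₁) (hQ₂.2 hq₂)) hx1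
    refine ⟨T₃, hT₃, ?_, ?_⟩
    · rintro rfl
      have : q₂ ∈ T₃ := by
        have := mul_mem (inv_mem hq₁) hxT₃
        rwa [inv_mul_cancel_left] at this
      exact hq₂1 (hinf' q₂ this hq₂)
    · rintro rfl
      have : q₁ ∈ T₃ := by
        have := mul_mem hxT₃ (inv_mem hq₂)
        rwa [mul_inv_cancel_right] at this
      exact hq₁1 (hinf' q₁ hq₁ this)
  exact two_transitive_of_good hS.conj_mem hK hQ₂Q₁.symm (hgoodK Q₁ hgood₁) (hgoodK Q₂ hgood₂) hQ₁ h3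

end Cfsg.Agent.S5038
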