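import Mathlib
import Cfsg.Statements.S1013
import Cfsg.Agent.Lib.Lead.SylowCount
import Cfsg.Agent.Lib.Lead.Closed
import Cfsg.Agent.S0989
import Cfsg.Agent.S1018

namespace Cfsg.Agent.S1013

open Cfsg.Agent.Lib.Lead.SylowCount

theorem simple_of_prime_degree {G α : Type*} [Group G] [Finite G] [MulAction G α] [FaithfulSMul G α]
    [MulAction.IsPretransitive G α] [Fintype α] [DecidableEq α] {p : ℕ} [hpf : Fact p.Prime]
    (hα : Fintype.card α = p) (P : Sylow p G) (hn : 1 < Nat.card (Sylow p G))
    (ht : (((P : Subgroup G).subgroupOf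
      (Subgroup.normalizer ((P : Subgroup G) : Set G))).index).Prime) :
    IsSimpleGroup G := by
  classical
  have hp : p.Prime := hpf.out
  have hαn : Nat.card α = p := by rw [Nat.card_eq_fintype_card, hα]
  obtain ⟨a₀⟩ : Nonempty α := by
    apply Fintype.card_pos_iff.mp; rw [hα]; exact hp.pos
  -- transitive subgroups have order divisible by p
  have hdvd_of_trans : ∀ K : Subgroup G, MulAction.IsPretransitive K α → p ∣ Nat.card K := by
    intro K hK
    have h1 := MulAction.index_stabilizer_of_transitive K a₀
    rw [hαn] at h1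
    rw [← h1]
    exact Subgroup.index_dvd_card _
  have hpG : p ∣ Nat.card G := by
    have h1 := MulAction.index_stabilizer_of_transitive G a₀
    rw [hαn] at h1
    rw [← h1]
    exact Subgroup.index_dvd_card _
  -- |P| = p
  have hPcard : Nat.card (P : Subgroup G) = p := by
    let ψ : G →* Equiv.Perm α := MulAction.toPermHom G α
    have hψ : Function.Injective ψ := MulAction.toPerm_injective
    have hP'p : IsPGroup p ((P : Subgroup G).map ψ) := P.2.map ψ
    obtain ⟨Pt, hle⟩ := hP'p.exists_le_sylow
    have hPt : Nat.card (Pt : Subgroup (Equiv.Perm α)) = p :=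
      Cfsg.Agent.S0989.card_sylow p (Or.inl hα) Pt
    have h1 := Subgroup.card_dvd_of_le hle
    rw [Subgroup.card_map_of_injective hψ, hPt] at h1
    rcases (Nat.dvd_prime hp).mp h1 with h | h
    · exfalso
      exact P.ne_bot_of_dvd_card hpG (Subgroup.card_eq_one.mp h)
    · exact h
  haveI : MulAction.IsPreprimitive G α :=
    MulAction.IsPreprimitive.of_prime_card (by rw [hαn]; exact hp)
  have hG1 : 1 < Nat.card G := lt_of_lt_of_le hp.one_lt (Nat.le_of_dvd Nat.card_pos hpG)
  haveI : Nontrivial G := Finite.one_lt_card_iff_nontrivial.mp hG1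
  refine ⟨fun K hKn => ?_⟩
  by_cases hKbot : K = ⊥
  · exact Or.inl hKbot
  right
  haveI := hKn
  -- normal nontrivial subgroups are transitive
  have htrans_of : ∀ L : Subgroup G, L.Normal → L ≠ ⊥ → MulAction.IsPretransitive L α := by
    intro L hL hLbot
    haveI := hL
    apply MulAction.IsQuasiPreprimitive.isPretransitive_of_normal (G := G)
    intro hfix
    apply hLbot
    rw [eq_bot_iff]
    intro k hk
    rw [Subgroup.mem_bot]
    apply FaithfulSMul.eq_of_smul_eq_smul (α := α)
    intro a
    rw [one_smul]
    have : a ∈ MulAction.fixedPoints L α := by rw [hfix]; exact Set.mem_univ a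
    exact this ⟨k, hk⟩
  have hKtrans := htrans_of K hKn hKbot
  have hpK : p ∣ Nat.card K := hdvd_of_trans K hKtrans
  -- P ≤ K
  have hPK : (P : Subgroup G) ≤ K := by
    obtain ⟨⟨k, hkK⟩, hk⟩ := exists_prime_orderOf_dvd_card' p hpK
    rw [Subgroup.orderOf_mk] at hk
    have hkp : IsPGroup p (Subgroup.zpowers k) :=
      IsPGroup.of_card (n := 1) (by rw [Nat.card_zpowers, hk, pow_one])
    obtain ⟨Q, hQ⟩ := hkp.exists_le_sylow
    obtain ⟨g, hg⟩ := MulAction.exists_smul_eq G Q P
    have hmem : g * k * g⁻¹ ∈ (P : Subgroup G) := by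
      have : g * k * g⁻¹ ∈ (g • Q : Sylow p G) := by
        rw [Cfsg.Agent.Lib.Lead.Closed.mem_sylow_smul]
        have e : g⁻¹ * (g * k * g⁻¹) * g = k := by group
        rw [e]; exact hQ (Subgroup.mem_zpowers k)
      rw [hg] at this
      exact this
    have hne : g * k * g⁻¹ ≠ 1 := by
      intro h1
      have : k = 1 := by
        have e : g⁻¹ * (g * k * g⁻¹) * g = k := by group
        rw [← e, h1]; group
      rw [this, orderOf_one] at hk
      exact hp.one_lt.ne hk
    have hgen := Cfsg.Agent.S1018.zpowers_eq_of_card_prime (P : Subgroup G) hPcard _ hmem hne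
    rw [← hgen, Subgroup.zpowers_le]
    exact hKn.conj_mem k hkK g
  set N := Subgroup.normalizer ((P : Subgroup G) : Set G) with hN
  have hPN : (P : Subgroup G) ≤ N := Subgroup.le_normalizer
  have hrel := Subgroup.relIndex_mul_relIndex (P : Subgroup G) (K ⊓ N) N (le_inf hPK hPN) inf_le_right
  have ht' : ((P : Subgroup G).relIndex N).Prime := ht
  rcases (Nat.dvd_prime ht').mp (Dvd.intro _ hrel) with h1 | hr
  · -- case B : K ⊓ N ≤ P
    exfalso
    have hKNP : K ⊓ N ≤ (P : Subgroup G) := Subgroup.relIndex_eq_one.mp h1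
    set PK : Sylow p K := P.subtype hPK with hPKdef
    have hPKcoe : (PK : Subgroup K) = (P : Subgroup G).subgroupOf K := Sylow.coe_subtype P hPK
    have hle : Subgroup.normalizer ((PK : Subgroup K) : Set K) ≤
        Subgroup.centralizer ((PK : Subgroup K) : Set K) := by
      rw [hPKcoe, ← Subgroup.subgroupOf_normalizer_eq hPK]
      intro x hx
      rw [Subgroup.mem_subgroupOf] at hx
      have hxP : (x : G) ∈ (P : Subgroup G) := hKNP (Subgroup.mem_inf.mpr ⟨x.2, hx⟩)
      rw [Subgroup.mem_centralizer_iff]
      intro y hy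
      have hyP : (y : G) ∈ (P : Subgroup G) := Subgroup.mem_subgroupOf.mp hy
      apply Subtype.ext
      exact commute_of_card_prime (P : Subgroup G) hPcard hyP hxP
    have hc := MonoidHom.ker_transferSylow_isComplement' PK hle
    have hMp : ¬ p ∣ Nat.card (MonoidHom.transferSylow PK hle).ker :=
      MonoidHom.not_dvd_card_ker_transferSylow PK hle
    set f := MonoidHom.transferSylow PK hle with hf
    have hPKcard : Nat.card (PK : Subgroup K) = p := by
      rw [hPKcoe]
      exact (Nat.card_congr (Subgroup.subgroupOfEquivOfLe hPK).toEquiv).trans hPcard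
    have hMchar : ∀ x : K, x ∈ f.ker ↔ ¬ p ∣ orderOf x := by
      intro x
      constructor
      · intro hx hpx
        apply hMp
        have h2 := orderOf_dvd_natCard (⟨x, hx⟩ : f.ker)
        rw [Subgroup.orderOf_mk] at h2
        exact hpx.trans h2
      · intro hpx
        rw [MonoidHom.mem_ker]
        have h2 : orderOf (f x) ∣ orderOf x := orderOf_map_dvd f x
        have h3 : orderOf (f x) ∣ p := by
          have := orderOf_dvd_natCard (f x)
          rwa [hPKcard] at this
        rcases (Nat.dvd_prime hp).mp h3 with h4 | h4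
        · exact orderOf_eq_one_iff.mp h4
        · exfalso; apply hpx; rw [← h4]; exact h2
    set M' : Subgroup G := f.ker.map K.subtype with hM'
    have hM'n : M'.Normal := by
      constructor
      intro m hm g
      obtain ⟨x, hx, rfl⟩ := Subgroup.mem_map.mp hm
      have hy : g * (x : G) * g⁻¹ ∈ K := hKn.conj_mem x x.2 g
      refine Subgroup.mem_map.mpr ⟨⟨g * (x : G) * g⁻¹, hy⟩, ?_, rfl⟩
      rw [hMchar] at hx ⊢
      rw [← Subgroup.orderOf_coe] at hx ⊢
      have e : orderOf (g * (x : G) * g⁻¹) = orderOf (x : G) :=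
        Cfsg.Agent.S1018.orderOf_conj_eq g x
      change ¬ p ∣ orderOf (g * (x : G) * g⁻¹)
      rw [e]; exact hx
    have hM'card : Nat.card M' = Nat.card f.ker :=
      Subgroup.card_map_of_injective K.subtype_injective
    have hM'bot : M' = ⊥ := by
      by_contra hne
      have := hdvd_of_trans M' (htrans_of M' hM'n hne)
      rw [hM'card] at this
      exact hMp this
    have hM1 : Nat.card f.ker = 1 := by
      rw [← hM'card, hM'bot, Subgroup.card_bot]
    have hKcard : Nat.card K = p := by
      have := hc.card_mul_card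
      rw [hM1, one_mul, hPKcard] at this
      exact this.symm
    have hKP : (P : Subgroup G) = K :=
      Subgroup.eq_of_le_of_card_ge hPK (by rw [hKcard, hPcard])
    have hPn : (P : Subgroup G).Normal := by rw [hKP]; exact hKn
    have hNtop : Subgroup.normalizer ((P : Subgroup G) : Set G) = ⊤ :=
      Subgroup.normalizer_eq_top_iff.mpr hPn
    have h1' := Sylow.card_eq_index_normalizer P
    have e : Subgroup.normalizer (P : Set G) = Subgroup.normalizer ((P : Subgroup G) : Set G) := rfl
    rw [e, hNtop, Subgroup.index_top] at h1'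
    omega
  · -- case A : N ≤ K
    rw [hr] at hrel
    have hpos : 0 < (P : Subgroup G).relIndex N := ht'.pos
    have h1 : (K ⊓ N).relIndex N = 1 := by
      have : (P : Subgroup G).relIndex N * (K ⊓ N).relIndex N = (P : Subgroup G).relIndex N * 1 := by
        rw [hrel, mul_one]
      exact Nat.eq_of_mul_eq_mul_left hpos this
    have hNK : N ≤ K := (Subgroup.relIndex_eq_one.mp h1).trans inf_le_left
    have hfr := Sylow.normalizer_sup_eq_top' P hPK
    have e : Subgroup.normalizer (P : Set G) = N := rfl
    rw [e] at hfr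
    rw [← hfr]
    exact (sup_of_le_right hNK).symm

theorem result {α : Type*} [Fintype α] [DecidableEq α] {p : ℕ} [Fact p.Prime] (hα : Fintype.card α = p) (G : Subgroup (Equiv.Perm α)) [MulAction.IsPretransitive ↥G α] (P : Sylow p ↥G) (hn : 1 < Nat.card (Sylow p ↥G)) (ht : (((P : Subgroup ↥G).subgroupOf (Subgroup.normalizer ((P : Subgroup ↥G) : Set ↥G))).index).Prime) : IsSimpleGroup ↥G :=
  simple_of_prime_degree hα P hn ht

end Cfsg.Agent.S1013
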