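import Mathlib
import Cfsg.Statements.S0672

namespace Cfsg.Agent.S0672

open MulAction
open scoped Pointwise

section Aux

variable {G : Type*} [Group G] {K : Type*} [Field K] {Ω : Type*} [Fintype Ω] [DecidableEq Ω]
  [MulAction G Ω]

/-- the pair `{b, c}` -/
def pair (b c : Ω) (hbc : b ≠ c) : Set.powersetCard Ω 2 :=
  ⟨{b, c}, by rw [Set.powersetCard.mem_iff]; exact Finset.card_pair hbc⟩

theorem mem_pair {b c : Ω} (hbc : b ≠ c) (x : Ω) :
    x ∈ (pair b c hbc : Finset Ω) ↔ x = b ∨ x = c := by
  show x ∈ ({b, c} : Finset Ω) ↔ _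
  simp

theorem mem_smul_iff (g : G) (s : Set.powersetCard Ω 2) (x : Ω) :
    g • x ∈ ((g • s : Set.powersetCard Ω 2) : Finset Ω) ↔ x ∈ (s : Finset Ω) := by
  rw [Set.powersetCard.coe_smul]
  exact Finset.smul_mem_smul_finset_iff g

theorem mem_inv_smul_iff (g : G) (s : Set.powersetCard Ω 2) (x : Ω) :
    g⁻¹ • x ∈ ((g⁻¹ • s : Set.powersetCard Ω 2) : Finset Ω) ↔ x ∈ (s : Finset Ω) :=
  mem_smul_iff g⁻¹ s x

/-- weighted incidence operator from functions on points to functions on pairs -/
noncomputable def inc (w : Ω → Set.powersetCard Ω 2 → K) :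
    (Ω → K) →ₗ[K] (Set.powersetCard Ω 2 → K) where
  toFun v s := ∑ x, w x s * v x
  map_add' u v := by
    funext s
    simp only [Pi.add_apply, mul_add, Finset.sum_add_distrib]
  map_smul' c v := by
    funext s
    simp only [Pi.smul_apply, smul_eq_mul, RingHom.id_apply, Finset.mul_sum]
    apply Finset.sum_congr rfl
    intro x _
    ring

theorem inc_apply (w : Ω → Set.powersetCard Ω 2 → K) (v : Ω → K) (s : Set.powersetCard Ω 2) :
    inc w v s = ∑ x, w x s * v x := rfl

theorem inc_equivariant (w : Ω → Set.powersetCard Ω 2 → K)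
    (hw : ∀ (g : G) x s, w (g • x) (g • s) = w x s) (g : G) (v : Ω → K) :
    inc w (Cfsg.permRep K G Ω g v) = Cfsg.permRep K G (Set.powersetCard Ω 2) g (inc w v) := by
  funext s
  show ∑ x, w x s * v (g⁻¹ • x) = ∑ x, w x (g⁻¹ • s) * v x
  rw [← Equiv.sum_comp (MulAction.toPerm g⁻¹) (fun x => w x (g⁻¹ • s) * v x)]
  apply Finset.sum_congr rfl
  intro x _
  simp only [MulAction.toPerm_apply, hw]

theorem inc_single_sub (w : Ω → Set.powersetCard Ω 2 → K) (u u' : Ω) (s : Set.powersetCard Ω 2) :
    inc w (Pi.single u 1 - Pi.single u' 1) s = w u s - w u' s := by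
  rw [inc_apply]
  simp only [Pi.sub_apply, mul_sub, Finset.sum_sub_distrib]
  congr 1
  · rw [Finset.sum_eq_single u]
    · simp
    · intro y _ hy
      rw [Pi.single_eq_of_ne hy, mul_zero]
    · intro h; exact absurd (Finset.mem_univ u) h
  · rw [Finset.sum_eq_single u']
    · simp
    · intro y _ hy
      rw [Pi.single_eq_of_ne hy, mul_zero]
    · intro h; exact absurd (Finset.mem_univ u') h

/-- triple transitivity from the pointwise statement -/
theorem three_of_map3
    (h : ∀ a b c a' b' c' : Ω, a ≠ b → a ≠ c → b ≠ c → a' ≠ b' → a' ≠ c' → b' ≠ c' →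
      ∃ g : G, g • a = a' ∧ g • b = b' ∧ g • c = c') : IsMultiplyPretransitive G Ω 3 := by
  constructor
  intro x y
  have hx : ∀ i j : Fin 3, i ≠ j → x i ≠ x j := fun i j hij h => hij (x.injective h)
  have hy : ∀ i j : Fin 3, i ≠ j → y i ≠ y j := fun i j hij h => hij (y.injective h)
  obtain ⟨g, h0, h1, h2⟩ := h (x 0) (x 1) (x 2) (y 0) (y 1) (y 2) (hx 0 1 (by decide))
    (hx 0 2 (by decide)) (hx 1 2 (by decide)) (hy 0 1 (by decide)) (hy 0 2 (by decide))
    (hy 1 2 (by decide))
  refine ⟨g, ?_⟩
  ext i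
  rw [Function.Embedding.smul_apply]
  fin_cases i
  · exact h0
  · exact h1
  · exact h2

end Aux

theorem result {G : Type*} [Group G] [Finite G] {K : Type*} [Field K] {p : ℕ} [Fact p.Prime] [CharP K p] {Ω : Type*} [Fintype Ω] [DecidableEq Ω] [MulAction G Ω] [FaithfulSMul G Ω] (h2 : MulAction.IsMultiplyPretransitive G Ω 2) (hp : p ∣ Fintype.card Ω) (heven : ∀ a : Ω, Even (Nat.card (MulAction.stabilizer G a))) (h : ∀ f : Representation.IntertwiningMap (Cfsg.permSumZero K G Ω).toRepresentation (Cfsg.permRep K G (Set.powersetCard Ω 2)), (∀ v : (Cfsg.permSumZero K G Ω).toSubmodule, (v : Ω → K) ∈ (Cfsg.permConstants K G Ω).toSubmodule → f v = 0) → f = 0) : MulAction.IsMultiplyPretransitive G Ω 3 := by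
  classical
  have hp' := (Fact.out : p.Prime)
  haveI : IsPretransitive G (Set.powersetCard Ω 2) :=
    Set.powersetCard.isPretransitive_of_isMultiplyPretransitive G h2
  -- flag transitivity
  have hflag : ∀ (x1 : Ω) (s1 : Set.powersetCard Ω 2) (x2 : Ω) (s2 : Set.powersetCard Ω 2),
      x1 ∉ (s1 : Finset Ω) → x2 ∉ (s2 : Finset Ω) → ∃ g : G, g • x1 = x2 ∧ g • s1 = s2 := by
    intro x1 s1 x2 s2 hx1 hx2
    by_contra hcon
    push Not at hcon
    let R : Ω → Set.powersetCard Ω 2 → Prop := fun x s => ∃ g : G, g • x1 = x ∧ g • s1 = s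
    have hR : ∀ (g : G) x s, R (g • x) (g • s) ↔ R x s := by
      intro g x s
      constructor
      · rintro ⟨k, h1, h2'⟩
        refine ⟨g⁻¹ * k, ?_, ?_⟩
        · rw [mul_smul, h1, inv_smul_smul]
        · rw [mul_smul, h2', inv_smul_smul]
      · rintro ⟨k, h1, h2'⟩
        refine ⟨g * k, ?_, ?_⟩
        · rw [mul_smul, h1]
        · rw [mul_smul, h2']
    have hR1 : R x1 s1 := ⟨1, one_smul _ _, one_smul _ _⟩
    obtain ⟨g0, hg0⟩ := exists_smul_eq G s2 s1
    set y := g0 • x2 with hy
    have hys1 : y ∉ (s1 : Finset Ω) := by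
      rw [← hg0, hy, mem_smul_iff]
      exact hx2
    have hRy : ¬ R y s1 := by
      rw [← hg0, hy, hR]
      rintro ⟨g, h1, h2'⟩
      exact hcon g h1 h2'
    obtain ⟨z, hz⟩ : ∃ z, z ∈ (s1 : Finset Ω) := by
      have : (s1 : Finset Ω).card = 2 := Set.powersetCard.card_eq s1
      exact Finset.card_pos.mp (by omega)
    let μ : K := ∑ x, if R x s1 then (1 : K) else 0
    let α : K := if (2 : K) = 0 then 1 else -μ
    let β : K := if (2 : K) = 0 then 0 else 2
    let w : Ω → Set.powersetCard Ω 2 → K := fun x s =>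
      (if x ∈ (s : Finset Ω) then α else 0) + (if R x s then β else 0)
    have hw : ∀ (g : G) x s, w (g • x) (g • s) = w x s := by
      intro g x s
      simp only [w, mem_smul_iff, hR]
    have htw1 : ∑ x, w x s1 = 0 := by
      simp only [w, Finset.sum_add_distrib]
      have e1 : ∑ x, (if x ∈ (s1 : Finset Ω) then α else 0) = 2 * α := by
        rw [Finset.sum_ite_mem, Finset.univ_inter, Finset.sum_const, Set.powersetCard.card_eq s1,
          nsmul_eq_mul]
        norm_num
      have e2 : ∑ x, (if R x s1 then β else 0) = β * μ := by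
        simp only [μ]
        rw [Finset.mul_sum]
        apply Finset.sum_congr rfl
        intro x _
        split_ifs <;> simp
      rw [e1, e2]
      simp only [α, β]
      split_ifs with h20
      · rw [h20]; ring
      · ring
    have htw : ∀ s, ∑ x, w x s = 0 := by
      intro s
      obtain ⟨g, hg⟩ := exists_smul_eq G s1 s
      rw [← hg, ← htw1, ← Equiv.sum_comp (MulAction.toPerm g) (fun x => w x (g • s1))]
      apply Finset.sum_congr rfl
      intro x _
      simp only [MulAction.toPerm_apply, hw]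
    set M0 := (Cfsg.permSumZero K G Ω).toSubmodule with hM0
    have hM0mem : ∀ v : Ω → K, v ∈ M0 ↔ ∑ x, v x = 0 := fun v => Iff.rfl
    have hdiff : ∀ u u' : Ω, (Pi.single u 1 - Pi.single u' 1 : Ω → K) ∈ M0 := by
      intro u u'
      apply (hM0mem _).2
      simp only [Pi.sub_apply, Finset.sum_sub_distrib]
      rw [Finset.sum_pi_single', Finset.sum_pi_single']
      simp
    let T : M0 →ₗ[K] (Set.powersetCard Ω 2 → K) := (inc w).comp M0.subtype
    let F := LinearMap.intertwiningMap_of_isIntertwiningMap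
      (Cfsg.permSumZero K G Ω).toRepresentation (Cfsg.permRep K G (Set.powersetCard Ω 2)) T
      (by
        intro g v
        exact inc_equivariant w hw g v.1)
    have hF0 : F = 0 := h F (by
      intro v hv
      have hC : (Cfsg.permConstants K G Ω).toSubmodule =
        Submodule.span K {fun _ : Ω => (1 : K)} := rfl
      rw [hC, Submodule.mem_span_singleton] at hv
      obtain ⟨c, hc⟩ := hv
      show inc w v.1 = 0
      funext s
      rw [inc_apply, ← hc]
      simp only [Pi.smul_apply, smul_eq_mul, mul_one]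
      rw [← Finset.sum_mul, htw, zero_mul]
      rfl)
    have hFv : ∀ u u' : Ω, w u s1 - w u' s1 = 0 := by
      intro u u'
      have h1 : F ⟨_, hdiff u u'⟩ = 0 := by rw [hF0]; rfl
      have h2' : F ⟨_, hdiff u u'⟩ s1 = inc w (Pi.single u 1 - Pi.single u' 1) s1 := rfl
      rw [← inc_single_sub, ← h2', h1]
      rfl
    by_cases h20 : (2 : K) = 0
    · have := hFv z x1
      simp only [w, α, β, if_pos h20, if_pos hz, if_neg hx1] at this
      simp at this
    · have := hFv x1 y
      simp only [w, α, β, if_neg h20, if_neg hx1, if_neg hys1, if_pos hR1, if_neg hRy] at this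
      simp at this
      exact h20 this
  -- involution swapping
  have hswap : ∀ a' b' c' : Ω, a' ≠ b' → a' ≠ c' → b' ≠ c' →
      ∃ t : G, t • a' = a' ∧ t • b' = c' ∧ t • c' = b' := by
    intro a' b' c' hab hac hbc
    have h2dvd : 2 ∣ Nat.card (stabilizer G a') := (heven a').two_dvd
    obtain ⟨t, ht⟩ := exists_prime_orderOf_dvd_card' 2 h2dvd
    have ht1 : t.1 ≠ 1 := by
      intro h
      have : t = 1 := Subtype.ext h
      rw [this, orderOf_one] at ht
      omega
    have ht2 : t.1 * t.1 = 1 := by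
      have := pow_orderOf_eq_one t
      rw [ht, pow_two] at this
      exact congrArg Subtype.val this
    have hta : t.1 • a' = a' := t.2
    obtain ⟨u, hu⟩ : ∃ u : Ω, t.1 • u ≠ u := by
      by_contra hcon
      push Not at hcon
      apply ht1
      apply FaithfulSMul.eq_of_smul_eq_smul (α := Ω)
      intro x
      rw [hcon x, one_smul]
    set v := t.1 • u with hv
    have htv : t.1 • v = u := by
      rw [hv, ← mul_smul, ht2, one_smul]
    have hua : a' ≠ u := by
      intro h
      apply hu
      show t.1 • u = u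
      rw [← h]
      exact hta
    have hva : a' ≠ v := by
      intro h
      apply hua
      rw [← htv, ← h, hta]
    have huv : u ≠ v := fun h => hu h.symm
    have hfl1 : a' ∉ (pair u v huv : Finset Ω) := by
      rw [mem_pair]
      rintro (h | h)
      · exact hua h
      · exact hva h
    have hfl2 : a' ∉ (pair b' c' hbc : Finset Ω) := by
      rw [mem_pair]
      rintro (h | h)
      · exact hab h
      · exact hac h
    obtain ⟨k, hk1, hk2⟩ := hflag a' (pair u v huv) a' (pair b' c' hbc) hfl1 hfl2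
    have hku : k • u = b' ∨ k • u = c' := by
      rw [← mem_pair hbc, ← hk2, mem_smul_iff, mem_pair]
      left; rfl
    have hkv : k • v = b' ∨ k • v = c' := by
      rw [← mem_pair hbc, ← hk2, mem_smul_iff, mem_pair]
      right; rfl
    have hkne : k • u ≠ k • v := fun h => huv (MulAction.injective k h)
    have hk1' : k⁻¹ • a' = a' := by
      rw [inv_smul_eq_iff, hk1]
    have e1 : (k * t.1 * k⁻¹) • (k • u) = k • v := by
      rw [← mul_smul, inv_mul_cancel_right, mul_smul]
    have e2 : (k * t.1 * k⁻¹) • (k • v) = k • u := by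
      rw [← mul_smul, inv_mul_cancel_right, mul_smul, htv]
    refine ⟨k * t.1 * k⁻¹, ?_, ?_, ?_⟩
    · rw [mul_smul, mul_smul, hk1', hta, hk1]
    · rcases hku with h1 | h1 <;> rcases hkv with h3 | h3
      · exact absurd (h1.trans h3.symm) hkne
      · rw [← h1, ← h3]; exact e1
      · rw [← h1, ← h3]; exact e2
      · exact absurd (h1.trans h3.symm) hkne
    · rcases hku with h1 | h1 <;> rcases hkv with h3 | h3
      · exact absurd (h1.trans h3.symm) hkne
      · rw [← h1, ← h3]; exact e2
      · rw [← h1, ← h3]; exact e1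
      · exact absurd (h1.trans h3.symm) hkne
  apply three_of_map3
  intro a b c a' b' c' hab hac hbc hab' hac' hbc'
  have hfl1 : a ∉ (pair b c hbc : Finset Ω) := by
    rw [mem_pair]
    rintro (h | h)
    · exact hab h
    · exact hac h
  have hfl2 : a' ∉ (pair b' c' hbc' : Finset Ω) := by
    rw [mem_pair]
    rintro (h | h)
    · exact hab' h
    · exact hac' h
  obtain ⟨g, hg1, hg2⟩ := hflag a (pair b c hbc) a' (pair b' c' hbc') hfl1 hfl2
  have hgb : g • b = b' ∨ g • b = c' := by
    rw [← mem_pair hbc', ← hg2, mem_smul_iff, mem_pair]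
    left; rfl
  have hgc : g • c = b' ∨ g • c = c' := by
    rw [← mem_pair hbc', ← hg2, mem_smul_iff, mem_pair]
    right; rfl
  have hgne : g • b ≠ g • c := fun h => hbc (MulAction.injective g h)
  rcases hgb with h1 | h1 <;> rcases hgc with h3 | h3
  · exact absurd (h1.trans h3.symm) hgne
  · exact ⟨g, hg1, h1, h3⟩
  · obtain ⟨t, ht1, ht2, ht3⟩ := hswap a' b' c' hab' hac' hbc'
    refine ⟨t * g, ?_, ?_, ?_⟩
    · rw [mul_smul, hg1, ht1]
    · rw [mul_smul, h1, ht3]
    · rw [mul_smul, h3, ht2]
  · exact absurd (h1.trans h3.symm) hgne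

end Cfsg.Agent.S0672
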