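import Mathlib
import Cfsg.Statements.S0674
import Cfsg.Agent.Lib.Lead.BurnsidePrime

namespace Cfsg.Agent.S0674

open Cfsg.Agent.Lib.Lead

theorem result {α : Type*} [Fintype α] [DecidableEq α] {p : ℕ} [Fact p.Prime] (hα : Fintype.card α = p) (G : Subgroup (Equiv.Perm α)) [MulAction.IsPretransitive G α] (hG : ¬ Group.IsSolvable G) {K : Type*} [Field K] [CharP K p] (W : Subrepresentation (Cfsg.permRep K G α)) (h₁ : (Cfsg.permConstants K G α).toSubmodule ≤ W.toSubmodule) (h₂ : W.toSubmodule ≤ (Cfsg.permSumZero K G α).toSubmodule) : W = Cfsg.permConstants K G α ∨ W = Cfsg.permSumZero K G α := by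
  have hp := (Fact.out : p.Prime)
  obtain ⟨e, σ, hσG, hσ⟩ := BurnsidePrime.exists_equiv hα G
  haveI : Nonempty α := by
    rw [← Fintype.card_pos_iff, hα]
    exact hp.pos
  obtain ⟨x0⟩ := ‹Nonempty α›
  set U := W.toSubmodule with hUdef
  have hU : ∀ g ∈ G, ∀ f ∈ U, f ∘ g ∈ U := by
    intro g hg f hf
    have h1 := W.apply_mem_toSubmodule (⟨g, hg⟩⁻¹ : G) hf
    have h2 : Cfsg.permRep K G α (⟨g, hg⟩⁻¹ : G) f = f ∘ g := by
      funext x
      show f (((⟨g, hg⟩⁻¹ : G)⁻¹) • x) = f (g x)
      rw [inv_inv]
      rfl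
    rw [h2] at h1
    exact h1
  -- constants
  have hC : (Cfsg.permConstants K G α).toSubmodule = Submodule.span K {fun _ : α => (1 : K)} := rfl
  have hCfr : Module.finrank K (Cfsg.permConstants K G α).toSubmodule = 1 := by
    rw [hC]
    apply finrank_span_singleton
    intro h
    exact one_ne_zero (congrFun h x0)
  -- sum zero
  have hSlt : (Cfsg.permSumZero K G α).toSubmodule < ⊤ := by
    rw [lt_top_iff_ne_top]
    intro h
    have h1 : (Pi.single x0 1 : α → K) ∈ (Cfsg.permSumZero K G α).toSubmodule := by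
      rw [h]; trivial
    have h2 : ∑ x, (Pi.single x0 1 : α → K) x = 0 := h1
    rw [Finset.sum_pi_single'] at h2
    simp at h2
  have hSfr : Module.finrank K (Cfsg.permSumZero K G α).toSubmodule < p := by
    have := Submodule.finrank_lt (lt_top_iff_ne_top.mp hSlt)
    rw [Module.finrank_fintype_fun_eq_card, hα] at this
    exact this
  have hr1 : 1 ≤ Module.finrank K U := by
    rw [← hCfr]
    exact Submodule.finrank_mono h₁
  have hr2 : Module.finrank K U ≤ Module.finrank K (Cfsg.permSumZero K G α).toSubmodule :=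
    Submodule.finrank_mono h₂
  by_cases hmid : 2 ≤ Module.finrank K U ∧ Module.finrank K U + 2 ≤ p
  · exfalso
    apply hG
    apply BurnsidePrime.solvable_of_affine' G e
    exact BurnsidePrime.affine_of_invariant_submodule (K := K) hα G e σ hσG hσ U hU hmid.1 hmid.2
  · rcases Nat.lt_or_ge (Module.finrank K U) 2 with h | h
    · left
      apply Subrepresentation.toSubmodule_injective
      symm
      apply Submodule.eq_of_le_of_finrank_eq h₁
      rw [hCfr]
      omega
    · right
      apply Subrepresentation.toSubmodule_injective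
      apply Submodule.eq_of_le_of_finrank_le h₂
      have : ¬ (Module.finrank K U + 2 ≤ p) := fun h' => hmid ⟨h, h'⟩
      omega
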