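import Mathlib
import Cfsg.Statements.S0676
import Cfsg.Agent.Lib.Lead.BurnsidePrime2
import Cfsg.Agent.S0672
import Cfsg.Agent.S0674

namespace Cfsg.Agent.S0676

open Cfsg.Agent.Lib.Lead MulAction
open scoped Pointwise

/-- the hypothesis of `S0672` holds for non-solvable groups of prime degree containing a
reflection -/
theorem no_intertwining {α : Type*} [Fintype α] [DecidableEq α] {p : ℕ} [Fact p.Prime]
    (hα : Fintype.card α = p) (hp2 : p ≠ 2) (G : Subgroup (Equiv.Perm α))
    [MulAction.IsPretransitive G α] (hG : ¬ Group.IsSolvable G)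
    (e : α ≃ ZMod p) (σ : Equiv.Perm α) (hσG : σ ∈ G) (t : Equiv.Perm α) (htG : t ∈ G)
    (c : ZMod p) (hσ : ∀ x, e (σ x) = e x + 1) (ht : ∀ x, e (t x) = c - e x)
    (f : Representation.IntertwiningMap (Cfsg.permSumZero (ZMod p) G α).toRepresentation
      (Cfsg.permRep (ZMod p) G (Set.powersetCard α 2)))
    (hf : ∀ v : (Cfsg.permSumZero (ZMod p) G α).toSubmodule,
      (v : α → ZMod p) ∈ (Cfsg.permConstants (ZMod p) G α).toSubmodule → f v = 0) : f = 0 := by
  have hp := (Fact.out : p.Prime)
  set M0 := (Cfsg.permSumZero (ZMod p) G α).toSubmodule with hM0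
  have hM0mem : ∀ v : α → ZMod p, v ∈ M0 ↔ ∑ x, v x = 0 := fun v => Iff.rfl
  have h2ne : (2 : ZMod p) ≠ 0 := by
    intro h
    have h3 : ((2 : ℕ) : ZMod p) = 0 := by exact_mod_cast h
    rw [ZMod.natCast_eq_zero_iff] at h3
    have := (Nat.prime_dvd_prime_iff_eq hp Nat.prime_two).mp h3
    exact hp2 this
  have hpcast : ((Fintype.card α : ℕ) : ZMod p) = 0 := by
    rw [hα]
    exact ZMod.natCast_self p
  -- the constant function and the coordinate function
  have hone : (fun _ : α => (1 : ZMod p)) ∈ M0 := by
    apply (hM0mem _).2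
    rw [Finset.sum_const, Finset.card_univ, nsmul_eq_mul, hpcast, zero_mul]
  have hι : (fun x : α => e x) ∈ M0 := by
    apply (hM0mem _).2
    have h1 : ∑ x, e x = ∑ x, e (t x) := (Equiv.sum_comp t (fun x => e x)).symm
    have h2 : ∑ x, e (t x) = - ∑ x, e x := by
      simp only [ht, Finset.sum_sub_distrib]
      rw [Finset.sum_const, Finset.card_univ, nsmul_eq_mul, hpcast, zero_mul, zero_sub]
    have h3 : (2 : ZMod p) * ∑ x, e x = 0 := by
      rw [two_mul]
      nth_rewrite 1 [h1, h2]
      ring
    rcases mul_eq_zero.mp h3 with h | h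
    · exact absurd h h2ne
    · exact h
  set oneM : M0 := ⟨_, hone⟩ with honeM
  set ιM : M0 := ⟨_, hι⟩ with hιM
  have hf1 : f oneM = 0 := by
    apply hf
    show (fun _ : α => (1 : ZMod p)) ∈ Submodule.span (ZMod p) {fun _ : α => (1 : ZMod p)}
    exact Submodule.mem_span_singleton_self _
  have hpow : ∀ (m : ℕ) (y : α), e ((σ ^ m) y) = e y + m := by
    intro m
    induction m with
    | zero => intro y; simp
    | succ m ih =>
      intro y
      rw [pow_succ', Equiv.Perm.mul_apply, hσ, ih]
      push_cast
      ring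
  -- the key: `f ι = 0`
  have hfι : f ιM = 0 := by
    funext s
    obtain ⟨a, b, hab, hs⟩ := Finset.card_eq_two.mp (Set.powersetCard.card_eq s)
    set j := (e a + e b - c).val with hj
    set r : Equiv.Perm α := σ ^ j * t with hr
    have hrG : r ∈ G := G.mul_mem (G.pow_mem hσG _) htG
    have her : ∀ x, e (r x) = e a + e b - e x := by
      intro x
      rw [hr, Equiv.Perm.mul_apply, hpow, ht, hj, ZMod.natCast_zmod_val]
      ring
    have hra : r a = b := by
      apply e.injective
      rw [her]; ring
    have hrb : r b = a := by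
      apply e.injective
      rw [her]; ring
    set rG : G := ⟨r, hrG⟩ with hrGdef
    have hrs : rG • s = s := by
      apply Subtype.ext
      have h0 : ((rG • s : Set.powersetCard α 2) : Finset α) = rG • (s : Finset α) :=
        Set.powersetCard.coe_smul
      rw [h0, hs, Finset.smul_finset_def, Finset.image_insert, Finset.image_singleton]
      show ({r a, r b} : Finset α) = {a, b}
      rw [hra, hrb, Finset.pair_comm]
    have h1 := f.isIntertwining _ _ rG⁻¹ ιM
    have h2 : (Cfsg.permSumZero (ZMod p) G α).toRepresentation rG⁻¹ ιM =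
        (e a + e b) • oneM - ιM := by
      apply Subtype.ext
      funext x
      show e (((rG⁻¹ : G)⁻¹) • x) = (e a + e b) * 1 - e x
      rw [inv_inv, mul_one]
      exact her x
    rw [h2, map_sub, map_smul, hf1, smul_zero, zero_sub] at h1
    have h3 := congrFun h1 s
    have h4 : Cfsg.permRep (ZMod p) G (Set.powersetCard α 2) rG⁻¹ (f ιM) s = f ιM s := by
      show f ιM (((rG⁻¹ : G)⁻¹) • s) = f ιM s
      rw [inv_inv, hrs]
    rw [h4, Pi.neg_apply] at h3
    have h5 : (2 : ZMod p) * f ιM s = 0 := by
      rw [two_mul]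
      nth_rewrite 1 [← h3]
      ring
    rcases mul_eq_zero.mp h5 with h | h
    · exact absurd h h2ne
    · exact h
  -- the kernel as a subrepresentation
  let W : Subrepresentation (Cfsg.permRep (ZMod p) G α) :=
    { toSubmodule := (LinearMap.ker f.toLinearMap).map M0.subtype
      apply_mem_toSubmodule := by
        rintro g _ ⟨v, hv, rfl⟩
        refine ⟨(Cfsg.permSumZero (ZMod p) G α).toRepresentation g v, ?_, rfl⟩
        have h1 := f.isIntertwining _ _ g v
        have hv' : f v = 0 := hv
        show f ((Cfsg.permSumZero (ZMod p) G α).toRepresentation g v) = 0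
        rw [h1, hv', map_zero] }
  have hWmem : ∀ v : M0, f v = 0 → (v : α → ZMod p) ∈ W.toSubmodule := by
    intro v hv
    exact ⟨v, hv, rfl⟩
  have h₁ : (Cfsg.permConstants (ZMod p) G α).toSubmodule ≤ W.toSubmodule := by
    show Submodule.span (ZMod p) {fun _ : α => (1 : ZMod p)} ≤ _
    rw [Submodule.span_le, Set.singleton_subset_iff]
    exact hWmem oneM hf1
  have h₂ : W.toSubmodule ≤ (Cfsg.permSumZero (ZMod p) G α).toSubmodule := by
    rintro _ ⟨v, _, rfl⟩
    exact v.2
  have hιW : (fun x : α => e x) ∈ W.toSubmodule := hWmem ιM hfι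
  rcases Cfsg.Agent.S0674.result hα G hG (K := ZMod p) W h₁ h₂ with hW | hW
  · exfalso
    rw [hW] at hιW
    have hC : (Cfsg.permConstants (ZMod p) G α).toSubmodule =
      Submodule.span (ZMod p) {fun _ : α => (1 : ZMod p)} := rfl
    rw [hC, Submodule.mem_span_singleton] at hιW
    obtain ⟨c', hc'⟩ := hιW
    have h1 : ∀ x : α, e x = c' := by
      intro x
      have := congrFun hc' x
      simp only [Pi.smul_apply, smul_eq_mul, mul_one] at this
      exact this.symm
    have h2 : e.symm 0 = e.symm 1 := by
      apply e.injective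
      rw [h1, h1]
    have := e.symm.injective h2
    exact zero_ne_one this
  · apply Representation.IntertwiningMap.ext
    apply LinearMap.ext
    intro v
    have hv : (v : α → ZMod p) ∈ W.toSubmodule := by
      rw [hW]
      exact v.2
    obtain ⟨v', hv', hvv'⟩ := hv
    have : v' = v := Subtype.ext hvv'
    rw [← this]
    exact hv'

theorem result {α : Type*} [Fintype α] [DecidableEq α] {p : ℕ} [Fact p.Prime] (hα : Fintype.card α = p) (G : Subgroup (Equiv.Perm α)) [MulAction.IsPretransitive G α] (hG : ¬ Group.IsSolvable G) (P : Sylow p G) (heven : Even (Nat.card (Subgroup.normalizer ((P : Subgroup G) : Set G)))) : MulAction.IsMultiplyPretransitive G α 3 := by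
  have hp := (Fact.out : p.Prime)
  by_cases hp2 : p = 2
  · constructor
    intro x
    exfalso
    have := Fintype.card_le_of_embedding x
    rw [Fintype.card_fin, hα, hp2] at this
    omega
  have h2 : MulAction.IsMultiplyPretransitive G α 2 := by
    rcases BurnsidePrime.affine_or_two_transitive hα G with ⟨e, he⟩ | h
    · exact absurd (BurnsidePrime.solvable_of_affine' G e he) hG
    · exact h
  obtain ⟨e, σ, hσG, t, htG, c, hσ, ht⟩ := BurnsidePrime.exists_reflection hα hp2 G P heven
  have h2ne : (2 : ZMod p) ≠ 0 := by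
    intro h
    have h3 : ((2 : ℕ) : ZMod p) = 0 := by exact_mod_cast h
    rw [ZMod.natCast_eq_zero_iff] at h3
    have := (Nat.prime_dvd_prime_iff_eq hp Nat.prime_two).mp h3
    exact hp2 this
  -- stabilisers have even order
  have hstab : ∀ a : α, Even (Nat.card (MulAction.stabilizer G a)) := by
    set a0 : α := e.symm (c / 2) with ha0
    have hta0 : t a0 = a0 := by
      apply e.injective
      rw [ht, ha0, Equiv.apply_symm_apply]
      field_simp
      ring
    have htt : t * t = 1 := by
      ext x
      apply e.injective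
      rw [Equiv.Perm.mul_apply, ht, ht, Equiv.Perm.one_apply]
      ring
    have ht1 : t ≠ 1 := by
      intro h
      have h1 := ht (e.symm (c / 2 + 1))
      rw [h, Equiv.Perm.one_apply, Equiv.apply_symm_apply] at h1
      have h3 : (2 : ZMod p) * (c / 2) = c := by field_simp
      have h4 : (2 : ZMod p) = 0 := by linear_combination h1 - h3
      exact h2ne h4
    let tS : MulAction.stabilizer G a0 := ⟨⟨t, htG⟩, hta0⟩
    have htS : orderOf tS = 2 := by
      apply orderOf_eq_prime
      · apply Subtype.ext
        apply Subtype.ext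
        show t ^ 2 = 1
        rw [pow_two, htt]
      · intro h
        apply ht1
        have := congrArg (fun s : MulAction.stabilizer G a0 => ((s : G) : Equiv.Perm α)) h
        exact this
    have h0 : Even (Nat.card (MulAction.stabilizer G a0)) := by
      rw [even_iff_two_dvd, ← htS]
      exact orderOf_dvd_natCard tS
    intro a
    obtain ⟨g, hg⟩ := MulAction.exists_smul_eq G a0 a
    rw [← hg, MulAction.stabilizer_smul_eq_stabilizer_map_conj,
      Subgroup.card_map_of_injective (MulAut.conj g).injective]
    exact h0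
  have hpdvd : p ∣ Fintype.card α := by rw [hα]
  exact Cfsg.Agent.S0672.result (K := ZMod p) (p := p) h2 hpdvd hstab
    (fun f hf => no_intertwining hα hp2 G hG e σ hσG t htG c hσ ht f hf)

end Cfsg.Agent.S0676
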