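import Mathlib
import Cfsg.Statements.S0804
import Cfsg.Agent.Lib.Helper5.PSL2A5

set_option autoImplicit false
open Cfsg

namespace Cfsg.Agent.S0804

/-- PSL_2(q) has a subgroup isomorphic to A_5 iff 5 ∣ q(q² − 1). -/
theorem result {F : Type*} [Field F] [Fintype F] {q : ℕ} (hF : Fintype.card F = q) : (∃ H : Subgroup (Matrix.ProjectiveSpecialLinearGroup (Fin 2) F), Nonempty (H ≃* alternatingGroup (Fin 5))) ↔ 5 ∣ q * (q ^ 2 - 1) := by
  classical
  subst hF
  set q := Fintype.card F with hq
  have hq1 : 1 < q := Fintype.one_lt_card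
  have hqq : 1 ≤ q ^ 2 := Nat.one_le_pow _ _ (by omega)
  constructor
  · rintro ⟨H, ⟨e⟩⟩
    have h1 := Cfsg.Agent.Lib.Helper4.card_PSL_mul (F := F) 2 (by norm_num)
    rw [Cfsg.Agent.Lib.Helper4.card_SL2] at h1
    have hH : Nat.card H = 60 := by
      rw [Nat.card_congr e.toEquiv, Nat.card_eq_fintype_card]
      have := two_mul_card_alternatingGroup (α := Fin 5)
      rw [Fintype.card_perm, Fintype.card_fin] at this
      have h120 : Nat.factorial 5 = 120 := rfl
      omega
    have hdvd : 60 ∣ Nat.card (Matrix.ProjectiveSpecialLinearGroup (Fin 2) F) :=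
      hH ▸ Subgroup.card_subgroup_dvd_card H
    rw [← h1]
    exact Dvd.dvd.mul_left (dvd_trans (by norm_num) hdvd) _
  · intro h5
    rcases Nat.mod_two_eq_zero_or_one q with hev | hodd
    · -- characteristic two
      have hchar : ringChar F = 2 := FiniteField.even_card_iff_char_two.mpr hev
      have : CharP F 2 := ringChar.of_eq hchar
      obtain ⟨n, -, hn⟩ := FiniteField.card F 2
      have hn' : q = 2 ^ (n : ℕ) := hn
      have heven : Even (n : ℕ) := by
        by_contra hodd
        rw [Nat.not_even_iff_odd] at hodd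
        obtain ⟨k, hk⟩ := hodd
        have e1 : q ^ 2 = 4 * 16 ^ k := by
          rw [hn', hk, ← pow_mul]
          have : (2 * k + 1) * 2 = 2 + 4 * k := by ring
          rw [this, pow_add, pow_mul]
          norm_num
        have e2 : (16 : ℕ) ^ k % 5 = 1 := by rw [Nat.pow_mod]; simp
        have hcop : Nat.Coprime 5 q := by
          rw [hn']
          exact Nat.Coprime.pow_right _ (by norm_num)
        have h5' : 5 ∣ q ^ 2 - 1 := hcop.dvd_of_dvd_mul_left h5
        omega
      exact Cfsg.Agent.Lib.Helper5.PSL2A5.exists_A5_char2 n hn' heven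
    · have hmod : q % 5 = 0 ∨ q % 5 = 1 ∨ q % 5 = 4 := by
        rcases (Nat.Prime.dvd_mul (by norm_num : Nat.Prime 5)).mp h5 with h | h
        · left; omega
        · right
          have h1 : q ^ 2 % 5 = 1 := by omega
          rw [Nat.pow_mod] at h1
          have hlt : q % 5 < 5 := Nat.mod_lt _ (by norm_num)
          revert h1
          generalize q % 5 = m at hlt ⊢
          interval_cases m <;> simp
      obtain ⟨φ, hφ⟩ := Cfsg.Agent.Lib.Helper5.PSL2A5.exists_phi hodd hmod
      exact Cfsg.Agent.Lib.Helper5.PSL2A5.exists_A5_odd hodd φ hφ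

end Cfsg.Agent.S0804
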