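import Cfsg.Statements.S2941

set_option autoImplicit false
open Cfsg

namespace Cfsg.Agent.S2941


/-- Let G be a finite group of characteristic 2 type in which every 2-local subgroup is solvable and the centralizer of Ω₁(Z(S)) lies in N_G(S) for every Sylow 2-subgroup S, and let T be a nontrivial 2-subgroup and K a J(T)-component (J the Thompson subgroup generated by the elementary abelian 2-subgroups of largest order). If a subgroup Q is normalized by ⟨K, J(T)⟩ and normalizes J(T), then Q normalizes K. -/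
theorem result {G : Type*} [Group G] [Finite G] (hL : Cfsg.IsCharacteristicTwoType G) (hN : ∀ N : Subgroup G, Cfsg.IsTwoLocal N → Group.IsSolvable ↥N)
    (hZ : ∀ S : Sylow 2 G, Subgroup.centralizer (Cfsg.omegaCenterOf (S : Subgroup G) : Set G) ≤ Subgroup.normalizer ((S : Subgroup G) : Set G)) (T : Subgroup G) (hT : IsPGroup 2 ↥T) (hT1 : T ≠ ⊥) (K : Subgroup G) (hK : Cfsg.IsJComponent T K)
    (Q : Subgroup G) (hQ1 : K ⊔ Cfsg.thompsonSubgroupOf 2 T ≤ Subgroup.normalizer (Q : Set G)) (hQ2 : Q ≤ Subgroup.normalizer (Cfsg.thompsonSubgroupOf 2 T : Set G)) :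
    Q ≤ Subgroup.normalizer (K : Set G) := by
  classical
  have : Fact (Nat.Prime 2) := ⟨Nat.prime_two⟩
  obtain ⟨hK1, hK2, -, -, -, -⟩ := hK
  generalize hJdef : Cfsg.thompsonSubgroupOf 2 T = J at hK2 hQ1 hQ2
  have hJT : J ≤ T := by
    rw [← hJdef]; unfold Cfsg.thompsonSubgroupOf; exact Subgroup.map_subtype_le _
  have hJ2 : IsPGroup 2 ↥J := hT.to_le hJT
  have hKL : K ≤ K ⊔ J := le_sup_left
  have hJL : J ≤ K ⊔ J := le_sup_right
  have hJK : J ≤ Subgroup.normalizer (K : Set G) := by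
    have h := Subgroup.normalizer_commutator_ge_right K J
    rw [hK2] at h; exact h
  -- general coprime-power lemma
  have hcop : ∀ (H : Subgroup G) (x : G) (n : ℕ), x ^ n ∈ H → Nat.Coprime (orderOf x) n →
      x ∈ H := by
    intro H x n hx hc
    have h1 : (1 : ℤ) = (orderOf x : ℤ) * Nat.gcdA (orderOf x) n
        + (n : ℤ) * Nat.gcdB (orderOf x) n := by
      have := Nat.gcd_eq_gcd_ab (orderOf x) n
      rw [hc.gcd_eq_one] at this
      exact_mod_cast this
    have h2 : x = (x ^ n) ^ (Nat.gcdB (orderOf x) n) := by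
      conv_lhs => rw [← zpow_one x, h1, zpow_add, zpow_mul, zpow_natCast, pow_orderOf_eq_one,
        one_zpow, one_mul, zpow_mul, zpow_natCast]
    rw [h2]; exact H.zpow_mem hx _
  -- Lemma A: Q normalizes L = K ⊔ J
  have hA : ∀ q ∈ Q, ∀ x ∈ K ⊔ J, q * x * q⁻¹ ∈ K ⊔ J := by
    intro q hq x hx
    have hgen : K ⊔ J ≤ Subgroup.closure {y : G | ∃ l ∈ K ⊔ J, ∃ j ∈ J, y = l * j * l⁻¹} := by
      have hJle : J ≤ Subgroup.closure {y : G | ∃ l ∈ K ⊔ J, ∃ j ∈ J, y = l * j * l⁻¹} := by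
        intro j hj
        exact Subgroup.subset_closure ⟨1, one_mem _, j, hj, by simp⟩
      refine sup_le ?_ hJle
      have hc : ⁅K, J⁆ ≤ Subgroup.closure {y : G | ∃ l ∈ K ⊔ J, ∃ j ∈ J, y = l * j * l⁻¹} := by
        rw [Subgroup.commutator_le]
        intro k hk j hj
        have h1 : k * j * k⁻¹ ∈
            Subgroup.closure {y : G | ∃ l ∈ K ⊔ J, ∃ j ∈ J, y = l * j * l⁻¹} :=
          Subgroup.subset_closure ⟨k, hKL hk, j, hj, rfl⟩
        rw [commutatorElement_def]
        exact mul_mem h1 (inv_mem (hJle hj))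
      rw [hK2] at hc
      exact hc
    have hcl : Subgroup.closure {y : G | ∃ l ∈ K ⊔ J, ∃ j ∈ J, y = l * j * l⁻¹}
        ≤ (K ⊔ J).comap (MulAut.conj q).toMonoidHom := by
      rw [Subgroup.closure_le]
      rintro y ⟨l, hl, j, hj, rfl⟩
      show q * (l * j * l⁻¹) * q⁻¹ ∈ K ⊔ J
      have hq' : l⁻¹ * q * l ∈ Q := by
        have := (Subgroup.mem_normalizer_iff.1 (hQ1 (inv_mem hl)) q).1 hq
        simpa using this
      have hj' : (l⁻¹ * q * l) * j * (l⁻¹ * q * l)⁻¹ ∈ J :=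
        (Subgroup.mem_normalizer_iff.1 (hQ2 hq') j).1 hj
      have heq : q * (l * j * l⁻¹) * q⁻¹ = l * ((l⁻¹ * q * l) * j * (l⁻¹ * q * l)⁻¹) * l⁻¹ := by
        group
      rw [heq]
      exact mul_mem (mul_mem hl (hJL hj')) (inv_mem hl)
    exact hcl (hgen hx)
  -- Lemma B: odd order elements of L lie in K
  have hB : ∀ g ∈ K ⊔ J, Odd (orderOf g) → g ∈ K := by
    intro g hg hodd
    have hg' : g ∈ ((K ⊔ J : Subgroup G) : Set G) := hg
    rw [Subgroup.coe_mul_of_right_le_normalizer_left K J hJK] at hg'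
    obtain ⟨k, hk, j, hj, rfl⟩ := hg'
    have hpow : ∀ n : ℕ, ∃ k' ∈ K, (k * j) ^ n = k' * j ^ n := by
      intro n
      induction n with
      | zero => exact ⟨1, one_mem _, by simp⟩
      | succ n ih =>
        obtain ⟨k', hk', h⟩ := ih
        refine ⟨k' * (j ^ n * k * (j ^ n)⁻¹), mul_mem hk' ?_, ?_⟩
        · exact (Subgroup.mem_normalizer_iff.1 (hJK (pow_mem hj n)) k).1 hk
        · rw [pow_succ, h, pow_succ]; group
    obtain ⟨a, ha⟩ := (IsPGroup.iff_orderOf.1 hJ2) ⟨j, hj⟩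
    have hj1 : j ^ (2 ^ a) = 1 := by
      have := pow_orderOf_eq_one (⟨j, hj⟩ : ↥J)
      rw [ha] at this
      have h2 := congrArg Subtype.val this
      simpa using h2
    obtain ⟨k', hk', h⟩ := hpow (2 ^ a)
    rw [hj1, mul_one] at h
    apply hcop K (k * j) (2 ^ a)
    · rw [h]; exact hk'
    · exact Nat.Coprime.pow_right a (Nat.coprime_two_right.2 hodd)
  -- Lemma C
  have hC : ∀ q ∈ Q, ∀ x ∈ K, q * x * q⁻¹ ∈ K := by
    intro q hq x hx
    have hcl : Subgroup.closure {g : G | g ∈ K ∧ Odd (orderOf g)}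
        ≤ K.comap (MulAut.conj q).toMonoidHom := by
      rw [Subgroup.closure_le]
      rintro g ⟨hgK, hgodd⟩
      show q * g * q⁻¹ ∈ K
      apply hB _ (hA q hq g (hKL hgK))
      have : orderOf (q * g * q⁻¹) = orderOf g := (MulAut.conj q).orderOf_eq g
      rw [this]; exact hgodd
    rw [hK1] at hcl
    exact hcl hx
  intro q hq
  rw [Subgroup.mem_normalizer_iff]
  intro h
  constructor
  · exact hC q hq h
  · intro hh
    have := hC q⁻¹ (inv_mem hq) _ hh
    simpa [mul_assoc] using this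

end Cfsg.Agent.S2941
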