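import Mathlib
import Cfsg.Statements.S1066
import Cfsg.Agent.Lib.Helper5.Tw2E6Card
import Cfsg.Agent.Lib.Helper5.ChevOrder

set_option autoImplicit false
open Cfsg

namespace Cfsg.Agent.S1066

/-- `gcd(3, q+1) · |²E₆(q)| = q³⁶ (q² - 1)(q⁵ + 1)(q⁶ - 1)(q⁸ - 1)(q⁹ + 1)(q¹² - 1)`, the group being realised inside E₆ over the field with `q²` elements. -/
theorem result {K : Type*} [Field K] [Fintype K] {q : ℕ} (hq : IsPrimePow q) (hK : Fintype.card K = q ^ 2) :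
    Nat.gcd 3 (q + 1) * Nat.card ↥(Cfsg.Lie.twistedE6 K q) =
      q ^ 36 * (q ^ 2 - 1) * (q ^ 5 + 1) * (q ^ 6 - 1) * (q ^ 8 - 1) * (q ^ 9 + 1) * (q ^ 12 - 1) := by
  open Cfsg.Agent.Lib.Helper5.ChevSym Cfsg.Agent.Lib.Helper5.ChevStruct Cfsg.Agent.Lib.Helper5.Tw2E6 in
  have hq1 : 1 ≤ q := by have := hq.two_le; omega
  have hB := card_twisted hq hK
  have hA := card_diag_twisted hq hK
  have hC : evalP polyE6 q * (q + 1) ^ 2
      = ([2, 6, 8, 12].map fun d => ∑ e ∈ Finset.range d, q ^ e).prod * ((q ^ 5 + 1) * (q ^ 9 + 1)) := by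
    have h1 := congrArg (fun P => evalP P q) polyE6_mul
    simp only [evalP_mulP, evalP_degPoly] at h1
    have e1 : evalP [1, 2, 1] q = (q + 1) ^ 2 := by simp [evalP]; ring
    have e2 : evalP [1, 0, 0, 0, 0, 1] q = q ^ 5 + 1 := by simp [evalP]; ring
    have e3 : evalP [1, 0, 0, 0, 0, 0, 0, 0, 0, 1] q = q ^ 9 + 1 := by simp [evalP]; ring
    rw [e1, e2, e3] at h1
    exact h1
  have hD := pow_length_mul_prod_geom q hq1 [2, 6, 8, 12]
  simp only [List.length_cons, List.length_nil, List.map_cons, List.map_nil, List.prod_cons,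
    List.prod_nil, mul_one, zero_add, Nat.reduceAdd] at hD hC
  rw [hB]
  calc Nat.gcd 3 (q + 1) * (q ^ 36 *
        Nat.card ↥(Cfsg.Lie.chevE6.diagonalSubgroup K ⊓ Cfsg.Lie.twistedE6 K q) * evalP polyE6 q)
      = q ^ 36 * (Nat.gcd 3 (q + 1) *
        Nat.card ↥(Cfsg.Lie.chevE6.diagonalSubgroup K ⊓ Cfsg.Lie.twistedE6 K q)) *
          evalP polyE6 q := by ring
    _ = q ^ 36 * (q - 1) ^ 4 * (evalP polyE6 q * (q + 1) ^ 2) := by rw [hA]; ring
    _ = q ^ 36 * ((q - 1) ^ 4 * ((∑ e ∈ Finset.range 2, q ^ e) * ((∑ e ∈ Finset.range 6, q ^ e) *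
          ((∑ e ∈ Finset.range 8, q ^ e) * ∑ e ∈ Finset.range 12, q ^ e)))) *
          ((q ^ 5 + 1) * (q ^ 9 + 1)) := by rw [hC]; ring
    _ = _ := by rw [hD]; ring

end Cfsg.Agent.S1066
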