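import Mathlib
import Cfsg.Statements.S5891
import Cfsg.Agent.Lib.Helper5.PGL2Max.WildAsm
import Cfsg.Agent.Lib.Helper5.PGL2Max.Alt
import Cfsg.Agent.Lib.Helper5.PGL2Max.S4Mod8
import Cfsg.Agent.Lib.Helper5.PGL2Max.Dih5
import Cfsg.Agent.Lib.Helper5.PSL2MaxOdd.TameChar

set_option autoImplicit false
open Cfsg
open Matrix Cfsg.Agent.Lib.Helper4 Cfsg.Agent.Lib.Helper5.Mob Cfsg.Agent.Lib.Helper5.MobPGL
  Cfsg.Agent.Lib.Helper5.MobWild Cfsg.Agent.Lib.Helper5.MobRat Cfsg.Agent.Lib.Helper5.DicksonBorel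
  Cfsg.Agent.Lib.Helper5.DicksonMain Cfsg.Agent.Lib.Helper5.DicksonOrders
  Cfsg.Agent.Lib.Helper5.DicksonMax Cfsg.Agent.Lib.Helper5.PSL2Tori
  Cfsg.Agent.Lib.Helper5.PGL2Max
open scoped LinearAlgebra.Projectivization MatrixGroups

namespace Cfsg.Agent.S5891

/-- Let F be a finite field of odd order q > 3 and characteristic p, and let M be a maximal subgroup of PGL₂(F) not containing the image L of SL₂(F) (a copy of PSL₂(F) of index 2). Then one of the following holds: |M| = q(q − 1) (M is the stabiliser of a point of the projective line); q ≠ 5 and M is dihedral of order 2(q − 1); M is dihedral of order 2(q + 1); q = p ≡ ±3 (mod 8) and M ≅ S₄; or q = q₀^r for an odd prime r and M ≅ PGL₂(F₀) with |F₀| = q₀. -/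
theorem result {F : Type*} [Field F] [Fintype F]
    (hodd : Odd (Fintype.card F)) (h3 : 3 < Fintype.card F) (M : Subgroup (Matrix.ProjGenLinGroup (Fin 2) F)) (hM : IsCoatom M)
    (hML : ¬ (Matrix.ProjGenLinGroup.mk.comp Matrix.SpecialLinearGroup.toGL).range ≤ M) :
    Nat.card M = Fintype.card F * (Fintype.card F - 1) ∨
    (Fintype.card F ≠ 5 ∧ Nonempty (M ≃* DihedralGroup (Fintype.card F - 1))) ∨
    Nonempty (M ≃* DihedralGroup (Fintype.card F + 1)) ∨
    ((Fintype.card F).Prime ∧ (Fintype.card F % 8 = 3 ∨ Fintype.card F % 8 = 5) ∧ Nonempty (M ≃* Equiv.Perm (Fin 4))) ∨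
    (∃ (F₀ : Type) (_ : Field F₀) (_ : Fintype F₀) (r : ℕ), r.Prime ∧ Odd r ∧ Fintype.card F = Fintype.card F₀ ^ r ∧
        Nonempty (M ≃* Matrix.ProjGenLinGroup (Fin 2) F₀)) := by
  classical
  obtain ⟨p, hchar⟩ := CharP.exists F
  have hpp : p.Prime := CharP.char_is_prime F p
  have : Fact p.Prime := ⟨hpp⟩
  have : CharP (AlgebraicClosure F) p :=
    charP_of_injective_algebraMap (algebraMap F (AlgebraicClosure F)).injective p
  set j := algebraMap F (AlgebraicClosure F) with hj
  rw [range_eq_Lr] at hML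
  have hnle := not_le_Lr M hodd hM hML
  -- `M` is not trivial
  have hM2 : 2 ≤ Nat.card M := by
    by_contra hlt
    have hpos : 0 < Nat.card M := Nat.card_pos
    have h1 : Nat.card M = 1 := by omega
    have hbot : M = ⊥ := Subgroup.card_eq_one.mp h1
    exact hnle (by rw [hbot]; exact bot_le)
  by_cases hfix : ∃ z : ℙ (AlgebraicClosure F) (Fin 2 → AlgebraicClosure F),
      ∀ g : imgR j M, g • z = z
  · left
    obtain ⟨z, hz⟩ := hfix
    exact max_fixed_R j p M hodd hM hM2 z hz
  have hH2 : 2 ≤ Nat.card (imgR j M) := by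
    rw [← Nat.card_congr (imgRIso j M).toEquiv]; exact hM2
  rcases (subMob (imgR j M) p).cases hH2 with h | ⟨x, hn2, -⟩ | h | h | h | h | h
  · exact absurd h hfix
  · -- dihedral subgroups
    rcases max_orbit_two_R j p M (by omega) hM x hn2 hfix with ⟨⟨e⟩⟩ | ⟨⟨e⟩⟩
    · right; left
      refine ⟨?_, ⟨e⟩⟩
      intro h5
      rw [h5] at e
      exact no_dih_five h5 M hM hnle e
    · right; right; left; exact ⟨e⟩
  · -- tetrahedral subgroups
    obtain ⟨e'⟩ := IsMob.tetrahedral _ h
    exact absurd (le_Lr_of_alternating M hodd 4 ((imgRIso j M).trans e')) hnle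
  · -- octahedral subgroups
    obtain ⟨n2, n3, -⟩ := IsMob.Tame3.not_dvd _ h
    obtain ⟨e'⟩ := IsMob.octahedral _ h
    have e : M ≃* Equiv.Perm (Fin 4) := (imgRIso j M).trans e'
    have hp24 : ¬ p ∣ 24 := by
      intro hdvd
      have h24 : (24 : ℕ) = 2 * 2 * 2 * 3 := by norm_num
      rw [h24] at hdvd
      rcases (Nat.Prime.dvd_mul hpp).mp hdvd with h' | h'
      · rcases (Nat.Prime.dvd_mul hpp).mp h' with h' | h'
        · rcases (Nat.Prime.dvd_mul hpp).mp h' with h' | h'
          · exact n2 h'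
          · exact n2 h'
        · exact n2 h'
      · exact n3 h'
    have hqp := card_eq_p_of_S4_R p hodd M hM e hp24
    have h8 := mod8_of_S4_R hodd M hnle e
    right; right; right; left
    exact ⟨by rw [hqp]; exact hpp, h8, ⟨e⟩⟩
  · -- icosahedral subgroups, tame case
    obtain ⟨e'⟩ := IsMob.icosahedral_tame _ h
    exact absurd (le_Lr_of_alternating M hodd 5 ((imgRIso j M).trans e')) hnle
  · -- subfield subgroups
    right; right; right; right
    exact max_of_wild_R j p M hodd hM hML h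
  · -- icosahedral subgroups in characteristic three
    obtain ⟨e'⟩ := IsMob.icosahedral_wild _ h
    exact absurd (le_Lr_of_alternating M hodd 5 ((imgRIso j M).trans e')) hnle

end Cfsg.Agent.S5891
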