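import Cfsg.Statements.S4488
import Mathlib
import Cfsg.Agent.Lib.Helper6.SchurBound
import Cfsg.Agent.Lib.Helper6.BlkDim
import Cfsg.Agent.Lib.Helper6.CharOps

set_option autoImplicit false
open Cfsg

namespace Cfsg.Agent.S4488

open Cfsg.Agent.Lib.Helper6

/-- Let the finite group G have a faithful p-rational character χ of degree n (all values of χ lie in the field generated over ℚ by a root of unity of order prime to p), and let p^a be the order of a Sylow p-subgroup of G. Then a ≤ Σ_{i ≥ 0} ⌊n / ((p − 1)·p^i)⌋ (a finite sum; the terms vanish once (p − 1)p^i > n). -/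
theorem result {G : Type*} [Group G] [Finite G] (p : ℕ) (hp : p.Prime) (χ : G → ℂ) (hχ : Cfsg.IsCharacter G χ) (hfaith : ∀ g : G, χ g = χ 1 → g = 1) (hrat : (∃ r : ℕ, 0 < r ∧ ¬ p ∣ r ∧ ∀ g : G, χ g ∈ IntermediateField.adjoin ℚ ({Complex.exp (2 * Real.pi * Complex.I / r)} : Set ℂ))) (n : ℕ) (hn : Cfsg.charDegree χ = n) : (Nat.card G).factorization p ≤ ∑ i ∈ Finset.range (n + 1), n / ((p - 1) * p ^ i) := by
  classical
  haveI : Fintype G := Fintype.ofFinite G
  haveI : Fact p.Prime := ⟨hp⟩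
  obtain ⟨r, hr0, hpr, hval⟩ := hrat
  have hχ1 : χ 1 = (n : ℂ) := by
    rw [← hn]; exact IsCharacter.apply_one_eq_charDegree hχ
  obtain ⟨P⟩ : Nonempty (Sylow p G) := inferInstance
  obtain ⟨a, hadef⟩ : ∃ a, a = (Nat.card G).factorization p := ⟨_, rfl⟩
  have hPcard : Nat.card (P : Subgroup G) = p ^ a := by
    rw [hadef]; exact Sylow.card_eq_multiplicity P
  rw [← hadef]
  haveI : Fintype (P : Subgroup G) := Fintype.ofFinite _
  have hxpow : ∀ x : (P : Subgroup G), (x : G) ^ (p ^ (a + 1)) = 1 := by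
    intro x
    have h1 : x ^ (p ^ a) = 1 := by rw [← hPcard]; exact pow_card_eq_one'
    have h2 : (x : G) ^ (p ^ a) = 1 := by
      have := congrArg Subtype.val h1
      simpa using this
    rw [pow_succ, pow_mul, h2, one_pow]
  have key := fun x : (P : Subgroup G) =>
    schur_element_facts p hp hχ r hr0 hpr hval n hχ1 (x : G) a (hxpow x)
  choose zf hzχ hzmod hzlow hzup using key
  have hp1 : 0 < p - 1 := Nat.sub_pos_of_lt hp.one_lt
  have hpZ : (0 : ℤ) < (p : ℤ) := by exact_mod_cast hp.pos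
  obtain ⟨J, hJ⟩ : ∃ J : ℕ, J = n / (p - 1) := ⟨_, rfl⟩
  obtain ⟨f, hf⟩ : ∃ f : Polynomial ℤ, f = ∏ j ∈ Finset.Ico 1 (J + 1),
      (Polynomial.X - Polynomial.C ((n : ℤ) - (p : ℤ) * (j : ℤ))) := ⟨_, rfl⟩
  -- vanishing off the identity
  have hA : ∀ x : (P : Subgroup G), x ≠ 1 → f.eval (zf x) = 0 := by
    intro x hx1
    have hne : zf x ≠ n := by
      intro h
      apply hx1
      have h1 : χ (x : G) = χ 1 := by rw [hzχ x, h, hχ1]; simp
      have h2 := hfaith _ h1
      exact Subtype.ext h2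
    have hlt : zf x < n := lt_of_le_of_ne (hzup x) hne
    obtain ⟨j', hj'⟩ : (p : ℤ) ∣ (n : ℤ) - zf x := (hzmod x).dvd
    have hj'pos : 0 < j' := by
      have h1 : 0 < (p : ℤ) * j' := by rw [← hj']; linarith
      exact (mul_pos_iff_of_pos_left hpZ).mp h1
    have hj'le : ((p : ℤ) - 1) * j' ≤ n := by
      have h1 := hzlow x
      have h2 : zf x = (n : ℤ) - (p : ℤ) * j' := by linarith
      rw [h2] at h1
      have h3 : (p : ℤ) * (((p : ℤ) - 1) * j') ≤ (p : ℤ) * n := by nlinarith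
      exact le_of_mul_le_mul_left h3 hpZ
    obtain ⟨j, hjj'⟩ : ∃ j : ℕ, (j : ℤ) = j' := ⟨j'.toNat, Int.toNat_of_nonneg hj'pos.le⟩
    have hjmem : j ∈ Finset.Ico 1 (J + 1) := by
      rw [Finset.mem_Ico]
      constructor
      · have : (0 : ℤ) < (j : ℤ) := by rw [hjj']; exact hj'pos
        exact_mod_cast this
      · rw [Nat.lt_succ_iff, hJ, Nat.le_div_iff_mul_le hp1]
        have h1 : ((j * (p - 1) : ℕ) : ℤ) ≤ (n : ℤ) := by
          rw [Nat.cast_mul, Nat.cast_sub hp.one_le, hjj']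
          push_cast
          linarith
        exact_mod_cast h1
    rw [hf, Polynomial.eval_prod]
    apply Finset.prod_eq_zero hjmem
    rw [Polynomial.eval_sub, Polynomial.eval_X, Polynomial.eval_C, hjj']
    linarith
  -- the value at the identity
  have hz1 : zf 1 = n := by
    have h1 : (zf 1 : ℂ) = (n : ℂ) := by
      rw [← hzχ 1, ← hχ1]
      rfl
    exact_mod_cast h1
  have hB : f.eval (zf 1) = ((p ^ J * Nat.factorial J : ℕ) : ℤ) := by
    rw [hz1, hf, Polynomial.eval_prod]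
    have h1 : ∀ j ∈ Finset.Ico 1 (J + 1), (Polynomial.X - Polynomial.C ((n : ℤ) - (p : ℤ) * (j : ℤ))).eval
        (n : ℤ) = (p : ℤ) * (j : ℤ) := by
      intro j _
      rw [Polynomial.eval_sub, Polynomial.eval_X, Polynomial.eval_C]
      ring
    rw [Finset.prod_congr rfl h1, Finset.prod_mul_distrib, Finset.prod_const, Nat.card_Ico,
      Nat.add_sub_cancel, ← Nat.cast_prod, Finset.prod_Ico_id_eq_factorial]
    push_cast
    ring
  -- divisibility of the power sums
  have hχk : ∀ k : ℕ, Cfsg.IsCharacter G (χ ^ k) := by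
    intro k
    induction k with
    | zero =>
      rw [pow_zero]
      exact isCharacter_one
    | succ k ih =>
      rw [pow_succ]
      exact IsCharacter.mul ih hχ
  have hpow : ∀ k : ℕ, ((p ^ a : ℕ) : ℤ) ∣ ∑ x : (P : Subgroup G), zf x ^ k := by
    intro k
    have h1 := trivMult_spec (P : Subgroup G) (hχk k)
    rw [finsum_eq_sum_of_fintype, hPcard] at h1
    have hne : ((p ^ a : ℕ) : ℂ) ≠ 0 := Nat.cast_ne_zero.mpr (pow_ne_zero _ hp.ne_zero)
    have h2 : ∑ x : (P : Subgroup G), (χ ^ k) (x : G)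
        = ((p ^ a : ℕ) : ℂ) * (trivMult (P : Subgroup G) (χ ^ k) : ℂ) := by
      rw [← h1, ← mul_assoc, mul_inv_cancel₀ hne, one_mul]
    have h3 : ((∑ x : (P : Subgroup G), zf x ^ k : ℤ) : ℂ)
        = (((p ^ a : ℕ) : ℤ) * (trivMult (P : Subgroup G) (χ ^ k) : ℤ) : ℤ) := by
      push_cast
      rw [← Nat.cast_pow, ← h2]
      apply Finset.sum_congr rfl
      intro x _
      rw [Pi.pow_apply, hzχ x]
    have h4 : (∑ x : (P : Subgroup G), zf x ^ k : ℤ)
        = ((p ^ a : ℕ) : ℤ) * (trivMult (P : Subgroup G) (χ ^ k) : ℤ) := by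
      exact_mod_cast h3
    rw [h4]
    exact dvd_mul_right _ _
  have hC : ((p ^ a : ℕ) : ℤ) ∣ ∑ x : (P : Subgroup G), f.eval (zf x) := by
    have h1 : ∑ x : (P : Subgroup G), f.eval (zf x)
        = ∑ k ∈ Finset.range (f.natDegree + 1), f.coeff k * ∑ x : (P : Subgroup G), zf x ^ k := by
      simp_rw [Polynomial.eval_eq_sum_range, Finset.mul_sum]
      rw [Finset.sum_comm]
    rw [h1]
    apply Finset.dvd_sum
    intro k _
    exact Dvd.dvd.mul_left (hpow k) _
  have hD : ∑ x : (P : Subgroup G), f.eval (zf x) = f.eval (zf 1) := by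
    apply Finset.sum_eq_single
    · intro x _ hx
      exact hA x hx
    · intro h
      exact absurd (Finset.mem_univ _) h
  rw [hD, hB] at hC
  have hE : p ^ a ∣ p ^ J * Nat.factorial J := Int.natCast_dvd_natCast.mp hC
  have hne0 : p ^ J * Nat.factorial J ≠ 0 :=
    Nat.mul_ne_zero (pow_ne_zero _ hp.ne_zero) (Nat.factorial_ne_zero J)
  have hF : a ≤ (p ^ J * Nat.factorial J).factorization p :=
    (Nat.Prime.pow_dvd_iff_le_factorization hp hne0).mp hE
  rw [Nat.factorization_mul (pow_ne_zero _ hp.ne_zero) (Nat.factorial_ne_zero J),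
    Finsupp.add_apply, Nat.Prime.factorization_pow hp, Finsupp.single_eq_same,
    Nat.factorization_def _ hp] at hF
  have hlog : Nat.log p J < n + 1 := by
    have h1 : Nat.log p J ≤ J := Nat.log_le_self p J
    have h2 : J ≤ n := by rw [hJ]; exact Nat.div_le_self n (p - 1)
    omega
  rw [padicValNat_factorial hlog] at hF
  have hG : ∑ i ∈ Finset.range (n + 1), n / ((p - 1) * p ^ i)
      = J + ∑ i ∈ Finset.Ico 1 (n + 1), J / p ^ i := by
    have h1 : ∀ i ∈ Finset.range (n + 1), n / ((p - 1) * p ^ i) = J / p ^ i := by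
      intro i _
      rw [hJ, Nat.div_div_eq_div_mul]
    rw [Finset.sum_congr rfl h1, Finset.range_eq_Ico,
      Finset.sum_eq_sum_Ico_succ_bot (Nat.succ_pos n)]
    simp
  rw [hG]
  exact hF

end Cfsg.Agent.S4488
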