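import Cfsg.Statements.S2695
import Cfsg.Agent.Lib.Helper9.AOR23
import Cfsg.Agent.Lib.Helper5.PlusGeom
import Cfsg.Agent.S2613

set_option autoImplicit false
open Cfsg

namespace Cfsg.Agent.S2695

/-- For m ≥ 5 and a finite field F, the automorphism group of PΩ⁺_{2m}(F) (the form Σ xᵢ yᵢ) is generated by the automorphisms induced by the semisimilarities v ↦ g σ(v) of the form (the image of the projective semisimilarity group). The case 2m = 8 is excluded: there triality gives further automorphisms. -/
theorem result {F : Type*} [Field F] [Fintype F] {m : ℕ} (hm : 5 ≤ m) :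
    Cfsg.gammaPOmega F (Cfsg.quadFormPlus m F) = ⊤ := by
  obtain ⟨p, hp⟩ := CharP.exists F
  haveI := hp
  haveI : Fact p.Prime := ⟨CharP.char_is_prime F p⟩
  rw [← Cfsg.Agent.Lib.Helper5.coe_plusForm]
  have h5 : 5 ≤ Fintype.card (Fin m ⊕ Fin m) := by
    simp only [Fintype.card_sum, Fintype.card_fin]; omega
  have H := Cfsg.Agent.Lib.Helper5.OmegaSimple.Hyp.of_hypFamily
    (Cfsg.Agent.Lib.Helper5.PlusGeom.plus_nondegenerate (F := F) m)
    (Cfsg.Agent.S2613.plus_hypFamily (F := F) (le_refl m)) (by omega) h5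
  exact Cfsg.Agent.Lib.Helper9.AOR.gamma_eq_top p H
    (by simp only [Fintype.card_sum, Fintype.card_fin]; omega)
    (fun _ _ _ => by simp only [Fintype.card_sum, Fintype.card_fin]; omega)

end Cfsg.Agent.S2695
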