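import Mathlib
import Cfsg.Statements.S2578
import Cfsg.Agent.Lib.Helper5.RegularNilpotent2
import Cfsg.Agent.Lib.Helper5.ClassSplitting

set_option autoImplicit false
open Cfsg

namespace Cfsg.Agent.S2578

open Module Matrix Cfsg.Agent.Lib.Helper5

variable {F : Type*} [Field F] {n : ℕ}

/-- regular unipotent matrices -/
def Reg (A : Matrix (Fin n) (Fin n) F) : Prop := (A - 1) ^ n = 0 ∧ (A - 1).rank = n - 1

/-- the superdiagonal shift -/
def J (F : Type*) [Field F] (n : ℕ) : Matrix (Fin n) (Fin n) F :=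
  Matrix.of fun i j => if (i : ℕ) + 1 = (j : ℕ) then 1 else 0

lemma J_apply (i j : Fin n) : J F n i j = if (i : ℕ) + 1 = (j : ℕ) then 1 else 0 := rfl

lemma J_upper : (J F n).IsUpperTriangular := by
  intro i j hij
  simp only [id] at hij
  rw [J_apply, if_neg]
  have : (j : ℕ) < i := hij
  omega

lemma J_diag (i : Fin n) : J F n i i = 0 := by
  rw [J_apply, if_neg]; omega

lemma J_pow : (J F n) ^ n = 0 := by
  have h1 := Matrix.charpoly_of_isUpperTriangular (J F n) J_upper
  simp only [J_diag, map_zero, sub_zero, Finset.prod_const, Finset.card_univ,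
    Fintype.card_fin] at h1
  have h2 := Matrix.aeval_self_charpoly (J F n)
  rw [h1] at h2
  simpa using h2

lemma one_add_J_upper : (1 + J F n).IsUpperTriangular := by
  intro i j hij
  simp only [id] at hij
  rw [Matrix.add_apply, J_upper hij, add_zero, Matrix.one_apply_ne (ne_of_gt hij)]

lemma det_one_add_J : (1 + J F n).det = 1 := by
  rw [Matrix.det_of_isUpperTriangular one_add_J_upper]
  simp [J_diag]

lemma J_mulVec (x : Fin n → F) (i j : Fin n) (hij : (i : ℕ) + 1 = j) :
    (J F n *ᵥ x) i = x j := by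
  simp only [Matrix.mulVec, dotProduct, J_apply]
  rw [Finset.sum_eq_single j]
  · simp [hij]
  · intro l _ hl
    have : ¬ ((i : ℕ) + 1 = l) := by
      intro h
      apply hl
      apply Fin.ext
      omega
    simp [this]
  · intro h
    exact absurd (Finset.mem_univ _) h

lemma J_rank (hn : 1 ≤ n) : (J F n).rank = n - 1 := by
  have h1 := LinearMap.finrank_range_add_finrank_ker (J F n).mulVecLin
  rw [Module.finrank_fin_fun] at h1
  have h2 : finrank F (LinearMap.ker (J F n).mulVecLin) = 1 := by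
    have hspan : LinearMap.ker (J F n).mulVecLin = F ∙ (Pi.single (⟨0, hn⟩ : Fin n) (1 : F)) := by
      apply le_antisymm
      · intro x hx
        rw [LinearMap.mem_ker, Matrix.mulVecLin_apply] at hx
        rw [Submodule.mem_span_singleton]
        refine ⟨x ⟨0, hn⟩, ?_⟩
        ext j
        by_cases hj : j = ⟨0, hn⟩
        · subst hj; simp
        · have hj0 : (j : ℕ) ≠ 0 := fun h => hj (Fin.ext h)
          have hlt : (j : ℕ) - 1 < n := by have := j.isLt; omega
          have := J_mulVec x ⟨(j : ℕ) - 1, hlt⟩ j (by simp only; omega)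
          rw [hx] at this
          simp only [Pi.zero_apply] at this
          simp [hj, ← this]
      · rw [Submodule.span_singleton_le_iff_mem, LinearMap.mem_ker, Matrix.mulVecLin_apply,
          Matrix.mulVec_single_one]
        ext i
        simp only [Matrix.col_apply, Pi.zero_apply, J_apply]
        rw [if_neg]
        simp
    rw [hspan, finrank_span_singleton]
    intro h
    have := congrFun h ⟨0, hn⟩
    simp at this
  have h3 : (J F n).rank = finrank F (LinearMap.range (J F n).mulVecLin) := rfl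
  omega

lemma mulVecLin_inj {A B : Matrix (Fin n) (Fin n) F}
    (h : Matrix.mulVecLin A = Matrix.mulVecLin B) : A = B := by
  apply Matrix.toLin'.injective
  rw [Matrix.toLin'_apply', Matrix.toLin'_apply']
  exact h

lemma reg_data {A : Matrix (Fin n) (Fin n) F} (hn : 1 ≤ n) (hA : Reg A) :
    (Matrix.mulVecLin (A - 1) : Module.End F (Fin n → F)) ^ finrank F (Fin n → F) = 0 ∧
      finrank F (LinearMap.ker (Matrix.mulVecLin (A - 1))) ≤ 1 := by
  obtain ⟨hnil, hreg⟩ := hA
  have hdimV : finrank F (Fin n → F) = n := Module.finrank_fin_fun F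
  constructor
  · rw [hdimV, ← Cfsg.Agent.S2573.mulVecLin_pow, hnil]
    simp
  · have h1 := LinearMap.finrank_range_add_finrank_ker (Matrix.mulVecLin (A - 1))
    have h2 : finrank F (LinearMap.range (Matrix.mulVecLin (A - 1))) = n - 1 := hreg
    rw [hdimV] at h1
    omega

lemma isConj_of_reg (hn : 1 ≤ n) (u u' : GL (Fin n) F)
    (hu : Reg (u : Matrix (Fin n) (Fin n) F)) (hu' : Reg (u' : Matrix (Fin n) (Fin n) F)) :
    IsConj u u' := by
  obtain ⟨hfn, hker⟩ := reg_data hn hu
  obtain ⟨hfn', hker'⟩ := reg_data hn hu'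
  have hdimV : finrank F (Fin n → F) = n := Module.finrank_fin_fun F
  obtain ⟨v, hv⟩ := exists_cyclic _ hker hfn (by omega)
  obtain ⟨w, hw⟩ := exists_cyclic _ hker' hfn' (by omega)
  obtain ⟨e, he, -⟩ := exists_equiv_conj_of_cyclic _ _ hfn hfn' v w hv hw
  set G := LinearMap.toMatrix' e.toLinearMap with hG
  set G' := LinearMap.toMatrix' e.symm.toLinearMap with hG'
  have h1 : G * G' = 1 := by
    rw [hG, hG', ← LinearMap.toMatrix'_comp]
    simp
  have h2 : G' * G = 1 := by
    rw [hG, hG', ← LinearMap.toMatrix'_comp]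
    simp
  have hGlin : Matrix.mulVecLin G = e.toLinearMap := by
    rw [hG, ← Matrix.toLin'_apply', Matrix.toLin'_toMatrix']
  let g : GL (Fin n) F := ⟨G, G', h1, h2⟩
  have hgu : g * u = u' * g := by
    apply Units.ext
    show G * (u : Matrix (Fin n) (Fin n) F) = (u' : Matrix (Fin n) (Fin n) F) * G
    have h3 : G * ((u : Matrix (Fin n) (Fin n) F) - 1) =
        ((u' : Matrix (Fin n) (Fin n) F) - 1) * G := by
      apply mulVecLin_inj
      rw [Matrix.mulVecLin_mul, Matrix.mulVecLin_mul, hGlin]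
      exact LinearMap.ext fun x => he x
    rw [Matrix.mul_sub, Matrix.sub_mul, Matrix.mul_one, Matrix.one_mul] at h3
    exact sub_left_injective h3
  rw [isConj_iff]
  exact ⟨g, by rw [hgu, mul_inv_cancel_right]⟩

lemma reg_of_isConj (u u' : GL (Fin n) F) (h : IsConj u u')
    (hu : Reg (u : Matrix (Fin n) (Fin n) F)) : Reg (u' : Matrix (Fin n) (Fin n) F) := by
  obtain ⟨g, rfl⟩ := isConj_iff.1 h
  obtain ⟨hnil, hreg⟩ := hu
  have hsub : ((g * u * g⁻¹ : GL (Fin n) F) : Matrix (Fin n) (Fin n) F) - 1 =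
      (g : Matrix (Fin n) (Fin n) F) * ((u : Matrix (Fin n) (Fin n) F) - 1) *
        ((g⁻¹ : GL (Fin n) F) : Matrix (Fin n) (Fin n) F) := by
    rw [Units.val_mul, Units.val_mul, Matrix.mul_sub, Matrix.sub_mul, Matrix.mul_one,
      Units.mul_inv]
  constructor
  · rw [hsub, Units.conj_pow, hnil, Matrix.mul_zero, Matrix.zero_mul]
  · rw [hsub, Matrix.rank_mul_eq_left_of_isUnit_det _ _ (Matrix.isUnits_det_units g⁻¹),
      Matrix.rank_mul_eq_right_of_isUnit_det _ _ (Matrix.isUnits_det_units g), hreg]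

lemma det_centralizer (hn : 1 ≤ n) (u : GL (Fin n) F)
    (hu : Reg (u : Matrix (Fin n) (Fin n) F)) (g : GL (Fin n) F) (hg : g * u = u * g) :
    ∃ a : Fˣ, a ^ n = Matrix.GeneralLinearGroup.det g := by
  obtain ⟨hfn, hker⟩ := reg_data hn hu
  have hdimV : finrank F (Fin n → F) = n := Module.finrank_fin_fun F
  have hg' : (g : Matrix (Fin n) (Fin n) F) * (u : Matrix (Fin n) (Fin n) F) =
      (u : Matrix (Fin n) (Fin n) F) * (g : Matrix (Fin n) (Fin n) F) := by
    have h2 := congrArg (fun z : GL (Fin n) F => (z : Matrix (Fin n) (Fin n) F)) hg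
    simpa using h2
  have hcomm : ∀ x, (Matrix.mulVecLin (g : Matrix (Fin n) (Fin n) F))
      ((Matrix.mulVecLin ((u : Matrix (Fin n) (Fin n) F) - 1)) x) =
      (Matrix.mulVecLin ((u : Matrix (Fin n) (Fin n) F) - 1))
        ((Matrix.mulVecLin (g : Matrix (Fin n) (Fin n) F)) x) := by
    intro x
    simp only [Matrix.mulVecLin_apply, Matrix.mulVec_mulVec]
    congr 1
    rw [Matrix.mul_sub, Matrix.sub_mul, hg', Matrix.mul_one, Matrix.one_mul]
  obtain ⟨a, ha⟩ := exists_det_eq_pow_of_commute _ hker hfn (by omega)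
    (Matrix.mulVecLin (g : Matrix (Fin n) (Fin n) F)) hcomm
  rw [hdimV, ← Matrix.toLin'_apply', LinearMap.det_toLin'] at ha
  have hdet0 : (g : Matrix (Fin n) (Fin n) F).det ≠ 0 :=
    Matrix.GeneralLinearGroup.det_ne_zero g
  have ha0 : a ≠ 0 := by
    rintro rfl
    rw [zero_pow (by omega)] at ha
    exact hdet0 ha
  refine ⟨Units.mk0 a ha0, ?_⟩
  apply Units.ext
  simp [ha]

/-- Regular unipotent classes of SL_n(q): for n ≥ 2 over the field with q elements, the matrices u of determinant one with (u − 1)^n = 0 and rank(u − 1) = n − 1 form a single GL_n(q)-class which splits into exactly gcd(n, q − 1) conjugacy classes of SL_n(q). -/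
theorem result {F : Type*} [Field F] [Fintype F] {q : ℕ} (hF : Fintype.card F = q) {n : ℕ} (hn : 2 ≤ n) : Nat.card {C : ConjClasses (Matrix.SpecialLinearGroup (Fin n) F) // ∃ u : Matrix.SpecialLinearGroup (Fin n) F, ConjClasses.mk u = C ∧ ((u : Matrix (Fin n) (Fin n) F) - 1) ^ n = 0 ∧ ((u : Matrix (Fin n) (Fin n) F) - 1).rank = n - 1} = Nat.gcd n (q - 1) := by
  classical
  have hn1 : 1 ≤ n := by omega
  have : Nonempty (Fin n) := ⟨⟨0, hn1⟩⟩
  let u₀s : Matrix.SpecialLinearGroup (Fin n) F := ⟨1 + J F n, det_one_add_J⟩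
  let u₀ : GL (Fin n) F := Matrix.SpecialLinearGroup.toGL u₀s
  have hreg₀ : Reg (u₀ : Matrix (Fin n) (Fin n) F) := by
    have : (u₀ : Matrix (Fin n) (Fin n) F) - 1 = J F n := by
      show (1 + J F n) - 1 = J F n
      simp
    exact ⟨by rw [this]; exact J_pow, by rw [this]; exact J_rank hn1⟩
  have key := card_conjClasses_splitting (Matrix.SpecialLinearGroup.toGL (n := Fin n) (R := F))
    Matrix.SpecialLinearGroup.toGL_injective Matrix.GeneralLinearGroup.det
    Matrix.GeneralLinearGroup.det_surjective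
    (fun h hh => ⟨⟨(h : Matrix (Fin n) (Fin n) F), by
      have := congrArg Units.val hh
      simpa using this⟩, Units.ext rfl⟩)
    (fun k => Matrix.SpecialLinearGroup.coeToGL_det k) u₀
    (Matrix.SpecialLinearGroup.coeToGL_det u₀s)
  have hT : (Subgroup.centralizer {u₀}).map Matrix.GeneralLinearGroup.det =
      (powMonoidHom n : Fˣ →* Fˣ).range := by
    ext a
    constructor
    · rintro ⟨g, hg, rfl⟩
      obtain ⟨a, ha⟩ := det_centralizer hn1 u₀ hreg₀ g
        (Subgroup.mem_centralizer_singleton_iff.1 hg)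
      exact ⟨a, ha⟩
    · rintro ⟨a, rfl⟩
      refine ⟨Matrix.GeneralLinearGroup.scalar (Fin n) a, ?_, ?_⟩
      · rw [SetLike.mem_coe, Subgroup.mem_centralizer_singleton_iff]
        exact Matrix.GeneralLinearGroup.scalar_commute a u₀
      · simp
  rw [hT, IsCyclic.index_powMonoidHom_range] at key
  have hcard : Nat.card Fˣ = q - 1 := by
    rw [Nat.card_eq_fintype_card, Fintype.card_units, hF]
  rw [hcard, Nat.gcd_comm] at key
  rw [← key]
  apply Nat.card_congr
  apply Equiv.subtypeEquivRight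
  intro C
  apply exists_congr
  intro u
  apply and_congr_right
  intro _
  constructor
  · intro h
    exact isConj_of_reg hn1 u₀ (Matrix.SpecialLinearGroup.toGL u) hreg₀ h
  · intro h
    exact reg_of_isConj u₀ _ h hreg₀

end Cfsg.Agent.S2578
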