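import Mathlib
import Cfsg.Statements.S1193
import Cfsg.Agent.Lib.Lead.QDIso

set_option autoImplicit false

open Cfsg

namespace Cfsg.Agent.S1193

open scoped commutatorElement

theorem result {S : Type*} [Group S] [Finite S] (hS : Cfsg.IsQuasiDihedral S) (n : ℕ) (hn : Nat.card S = 2 ^ (n + 1)) : commutator S = frattini S ∧ IsCyclic (commutator S) ∧ Nat.card (commutator S) = 2 ^ (n - 1) ∧ Nat.card (Subgroup.center S) = 2 ∧ Nonempty (↥(Subgroup.closure {x : S | orderOf x = 2}) ≃* DihedralGroup (2 ^ (n - 1))) := by
  classical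
  haveI : Fact (Nat.Prime 2) := ⟨Nat.prime_two⟩
  obtain ⟨n₀, x, y, hq⟩ := Cfsg.Agent.Lib.Lead.QDCore.exists_QD hS
  have hnn : n = n₀ := by
    have h1 := hq.card
    rw [hn] at h1
    have := Nat.pow_right_injective (le_refl 2) h1
    omega
  subst hnn
  open Cfsg.Agent.Lib.Lead.QDCore Cfsg.Agent.Lib.Lead.QDArith in
  -- description of ⟨x²⟩
  have hR2 : ∀ g : S, g ∈ Subgroup.zpowers (r n x 2) ↔ ∃ i, Even i ∧ g = r n x i := by
    intro g
    constructor
    · intro hg
      have h1 : g ∈ Subgroup.zpowers x := hq.zpowers_r_two_le hg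
      have h2 : g ∈ hq.D := by
        have : Subgroup.zpowers (r n x 2) ≤ hq.D := by
          rw [Subgroup.zpowers_le]; exact hq.r_two_mem_D
        exact this hg
      obtain ⟨i, rfl⟩ := hq.exists_r_of_mem h1
      exact ⟨i, (hq.mem_D_r i).1 h2, rfl⟩
    · rintro ⟨i, ⟨a, rfl⟩, rfl⟩
      have : r n x (a + a) = r n x 2 ^ a.val := by
        rw [hq.r_pow, ZMod.natCast_zmod_val]; congr 1; ring
      rw [this]
      exact Subgroup.pow_mem _ (Subgroup.mem_zpowers _) _
  have hfrat : frattini S = Subgroup.zpowers (r n x 2) := by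
    apply le_antisymm
    · intro g hg
      have h1 := frattini_le_coatom (isCoatom_of_index_two hq.index_zpowers) hg
      have h2 := frattini_le_coatom (isCoatom_of_index_two hq.index_D) hg
      obtain ⟨i, rfl⟩ := hq.exists_r_of_mem h1
      exact (hR2 _).2 ⟨i, (hq.mem_D_r i).1 h2, rfl⟩
    · unfold frattini Order.radical
      apply le_iInf₂
      intro M hM
      intro g hg
      obtain ⟨i, hi, rfl⟩ := (hR2 g).1 hg
      rcases hq.coatom_cases M hM with h | h | h
      · rw [h]; exact hq.r_mem i
      · rw [h]; exact (hq.mem_D_r i).2 hi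
      · rw [h]; exact (hq.mem_Q_r i).2 hi
  have hcomm : commutator S = Subgroup.zpowers (r n x 2) := by
    apply le_antisymm
    · rw [← hfrat]
      exact Cfsg.Agent.Lib.Helper1.commutator_le_frattini_of_isPGroup 2 hq.isPGroup
    · rw [Subgroup.zpowers_le]
      have h1 : ⁅y, x⁆ ∈ commutator S := by
        rw [commutator_def]
        exact Subgroup.commutator_mem_commutator (Subgroup.mem_top y) (Subgroup.mem_top x)
      have h2 : ⁅y, x⁆ = r n x (mm n - 1) := by
        rw [commutatorElement_def]
        have h3 := hq.conj_r 1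
        rw [hq.r_one, mul_one] at h3
        have hx1 : x⁻¹ = r n x (-1) := by rw [hq.r_neg, hq.r_one]
        rw [h3, hx1, ← hq.r_add]
        congr 1; ring
      obtain ⟨k, hk⟩ := exists_shift hq.hn (d := -2) ⟨-1, by ring⟩
      have h4 : r n x 2 = r n x (mm n - 1) ^ k.val := by
        rw [hq.r_pow, ZMod.natCast_zmod_val]
        congr 1
        linear_combination hk
      rw [h4]
      exact Subgroup.pow_mem _ (h2 ▸ h1) _
  have hcenter : Subgroup.center S = Subgroup.zpowers (r n x (hh n)) := by
    have hzc : r n x (hh n) ∈ Subgroup.center S := by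
      rw [Subgroup.mem_center_iff]
      intro g
      have hmh : mm n * hh n = hh n := by
        have h1 := hh_sq hq.n2
        have h2 := two_hh (n := n) hq.n1
        rw [mm_eq]; linear_combination h1 - h2
      rcases hq.exists_rep g with ⟨i, rfl⟩ | ⟨i, rfl⟩
      · rw [← hq.r_add, ← hq.r_add, add_comm]
      · rw [hq.s_mul_r, hq.r_mul_s, hmh, add_comm]
    apply le_antisymm
    · intro g hg
      rw [Subgroup.mem_center_iff] at hg
      rcases hq.exists_rep g with ⟨i, rfl⟩ | ⟨i, rfl⟩
      · have h1 := hg y
        have h2 : r n x (mm n * i) = r n x i := by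
          rw [← hq.conj_r, h1, mul_inv_cancel_right]
        have h3 := hq.r_inj h2
        obtain ⟨k, hk⟩ := exists_shift hq.hn (d := 2) ⟨1, by ring⟩
        have h4 : 2 * i = 0 := by
          linear_combination (-k) * h3 + (-i) * hk
        rcases (two_mul_eq_zero_iff hq.n1 i).1 h4 with h5 | h5
        · rw [h5, hq.r_zero]; exact one_mem _
        · rw [h5]; exact Subgroup.mem_zpowers _
      · exfalso
        have h1 := hg x
        have h2 : s n x y (1 + i) = s n x y (i + mm n) := by
          have h3 := hq.s_mul_r i 1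
          have h4 := hq.r_mul_s 1 i
          rw [hq.r_one] at h3 h4
          rw [mul_one] at h3
          rw [← h3, ← h4, h1]
        have h3 := hq.s_inj h2
        have h4 : mm n = 1 := by linear_combination -h3
        have h5 := hq.mm_qq
        rw [h4, one_mul] at h5
        have h6 : hh n = 0 := by linear_combination -h5
        exact hh_ne_zero hq.n1 h6
    · rw [Subgroup.zpowers_le]; exact hzc
  have hclos : Subgroup.closure {t : S | orderOf t = 2} = hq.D := by
    apply le_antisymm
    · rw [Subgroup.closure_le]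
      intro t ht
      rcases hq.involution_cases ht with h | ⟨i, hi, h⟩
      · rw [h]; exact (hq.mem_D_r _).2 (even_hh hq.n2)
      · rw [h]; exact (hq.mem_D_s _).2 hi
    · rintro g ⟨i, hi, rfl | rfl⟩
      · have : r n x i = s n x y i * s n x y 0 := by
          rw [hq.s_mul_s, mul_zero, add_zero]
        rw [this]
        apply Subgroup.mul_mem
        · exact Subgroup.subset_closure (hq.orderOf_s_even hi)
        · exact Subgroup.subset_closure (hq.orderOf_s_even ⟨0, by ring⟩)
      · exact Subgroup.subset_closure (hq.orderOf_s_even hi)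
  refine ⟨by rw [hcomm, hfrat], ?_, ?_, ?_, ?_⟩
  · rw [hcomm]; infer_instance
  · rw [hcomm, Nat.card_zpowers, hq.orderOf_r_two]
  · rw [hcenter, Nat.card_zpowers, hq.orderOf_rh]
  · rw [hclos]; exact hq.D_iso

end Cfsg.Agent.S1193
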