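import Mathlib
import Cfsg.Statements.S1197
import Cfsg.Agent.Lib.Lead.WR1197

set_option autoImplicit false

open Cfsg

namespace Cfsg.Agent.S1197

theorem result {S : Type*} [Group S] [Finite S] (hS : Cfsg.IsWreathed S) (n : ℕ) (hn : Nat.card S = 2 ^ (2 * n + 1)) : IsCyclic (Subgroup.center S) ∧ Nat.card (Subgroup.center S) = 2 ^ n ∧ IsCyclic (commutator S) ∧ Nat.card (commutator S) = 2 ^ n ∧ Nonempty (S ⧸ Subgroup.center S ≃* DihedralGroup (2 ^ n)) := by
  exact Cfsg.Agent.Lib.Lead.WRCore.s1197 hS n hn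

end Cfsg.Agent.S1197
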