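import Mathlib
import Cfsg.Statements.S1200
import Cfsg.Agent.Lib.Lead.WR1200

set_option autoImplicit false

open Cfsg

namespace Cfsg.Agent.S1200

theorem result {S : Type*} [Group S] [Finite S] (hS : Cfsg.IsWreathed S) (n : ℕ) (hn : Nat.card S = 2 ^ (2 * n + 1)) : Nat.card (Subgroup.closure {x : S | orderOf x = 2}) = 2 ^ (n + 2) ∧ ∃ s : S, Subgroup.closure {x : S | orderOf x = 2} ⊔ Subgroup.zpowers s = ⊤ := by
  exact Cfsg.Agent.Lib.Lead.WRCore.s1200 hS n hn

end Cfsg.Agent.S1200
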