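import Mathlib
import Cfsg.Statements.S1201
import Cfsg.Agent.Lib.Lead.WRCore

set_option autoImplicit false

open Cfsg

namespace Cfsg.Agent.S1201

theorem result {S : Type*} [Group S] [Finite S] (hS : Cfsg.IsWreathed S) (X : Subgroup S) (hX : ¬ IsMulCommutative X) : (Subgroup.center X).map X.subtype ≤ Subgroup.center S := by
  classical
  obtain ⟨n, x, y, z, hw⟩ := Cfsg.Agent.Lib.Lead.WRCore.exists_WR hS
  open Cfsg.Agent.Lib.Lead.WRCore in
  have hdiag : ∀ k, a n x y k k ∈ Subgroup.center S := by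
    intro k
    rw [Subgroup.mem_center_iff]
    intro g
    rcases hw.exists_rep g with ⟨i, j, rfl⟩ | ⟨i, j, rfl⟩
    · exact hw.a_comm _ _ _ _
    · rw [hw.b_mul_a, hw.a_mul_b, add_comm i k, add_comm j k]
  open Cfsg.Agent.Lib.Lead.WRCore in
  rintro c ⟨⟨c, hcX⟩, hc, rfl⟩
  have hc2 : (⟨c, hcX⟩ : X) ∈ Subgroup.center X := hc
  rw [Subgroup.mem_center_iff] at hc2
  have hc' : ∀ g ∈ X, g * c = c * g := by
    intro g hg
    have := congrArg Subtype.val (hc2 ⟨g, hg⟩)
    simpa using this
  show c ∈ Subgroup.center S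
  rcases hw.exists_rep c with ⟨k, l, rfl⟩ | ⟨i, j, rfl⟩
  · by_cases hkl : k = l
    · rw [hkl]; exact hdiag l
    · exfalso
      apply hX
      have hXA : ∀ g ∈ X, ∃ i j, g = a n x y i j := by
        intro g hg
        rcases hw.exists_rep g with h | ⟨i, j, rfl⟩
        · exact h
        · exfalso
          have h1 := hc' _ hg
          rw [hw.b_mul_a, hw.a_mul_b] at h1
          have h2 := (hw.b_inj h1).1
          exact hkl (by linear_combination -h2)
      refine ⟨⟨fun p q => ?_⟩⟩
      apply Subtype.ext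
      obtain ⟨i, j, hp⟩ := hXA p.1 p.2
      obtain ⟨i', j', hq⟩ := hXA q.1 q.2
      show p.1 * q.1 = q.1 * p.1
      rw [hp, hq]; exact hw.a_comm _ _ _ _
  · exfalso
    apply hX
    have hXs : ∀ g ∈ X, (∃ k, g = a n x y k k) ∨ (∃ k l, k - l = i - j ∧ g = b n x y z k l) := by
      intro g hg
      have h1 := hc' _ hg
      rcases hw.exists_rep g with ⟨k, l, rfl⟩ | ⟨k, l, rfl⟩
      · left
        rw [hw.a_mul_b, hw.b_mul_a] at h1
        have h2 := (hw.b_inj h1).1
        have : k = l := by linear_combination h2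
        exact ⟨l, by rw [this]⟩
      · right
        rw [hw.b_mul_b, hw.b_mul_b] at h1
        have h2 := (hw.a_inj h1).1
        exact ⟨k, l, by linear_combination h2, rfl⟩
    refine ⟨⟨fun p q => ?_⟩⟩
    apply Subtype.ext
    show p.1 * q.1 = q.1 * p.1
    rcases hXs p.1 p.2 with ⟨k, hp⟩ | ⟨k, l, hkl, hp⟩
    · have := (Subgroup.mem_center_iff.1 (hdiag k)) q.1
      rw [hp]; exact this.symm
    · rcases hXs q.1 q.2 with ⟨k', hq⟩ | ⟨k', l', hkl', hq⟩
      · have := (Subgroup.mem_center_iff.1 (hdiag k')) p.1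
        rw [hq]; exact this
      · rw [hp, hq, hw.b_mul_b, hw.b_mul_b]
        congr 1
        · linear_combination hkl - hkl'
        · linear_combination hkl' - hkl

end Cfsg.Agent.S1201
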