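import Cfsg.Statements.S4675
import Mathlib
import Cfsg.Agent.Lib.Helper6.SubContribExp
import Cfsg.Agent.Lib.Helper6.BlkSections
import Cfsg.Agent.S0908

set_option autoImplicit false
open Cfsg

namespace Cfsg.Agent.S4675

open Cfsg.Agent.Lib.Helper6


/-- Fix a prime p and a maximal ideal M of the algebraic integers containing p. Let B be a p-block of the finite group G with defect group P and p-regular rank one (a single irreducible Brauer character). Then there are a function φ on G that is, on the p-regular elements, an integer combination of the members of B, and natural numbers d_χ (χ ∈ B), such that every χ ∈ B agrees with d_χ·φ on the p-regular elements and Σ_{χ ∈ B} d_χ² equals the order of P (the single Cartan invariant of B is the order of P). -/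
theorem result {G : Type*} [Group G] [Fintype G] (p : ℕ) [Fact p.Prime] (M : Ideal Cfsg.AlgInt) (hM : Cfsg.IsPModular p M) (B : Set (Cfsg.IrrCharacter G)) (hB : Cfsg.IsPBlock M B) (P : Subgroup G) (hP : Cfsg.IsDefectGroup p M B P) (hl : Cfsg.blockRank p B = 1) : ∃ φ : G → ℂ, ∃ d : Cfsg.IrrCharacter G → ℕ, (∃ n : Cfsg.IrrCharacter G → ℤ, ∀ x : G, Cfsg.IsPRegular p x → φ x = ∑ᶠ ψ ∈ B, (n ψ : ℂ) * (ψ : G → ℂ) x) ∧ (∀ χ ∈ B, ∀ x : G, Cfsg.IsPRegular p x → (χ : G → ℂ) x = (d χ : ℂ) * φ x) ∧ ∑ᶠ χ ∈ B, d χ ^ 2 = Nat.card P := by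
  classical
  haveI : Fintype (Cfsg.IrrCharacter G) := Fintype.ofFinite _
  have hp : p.Prime := hM.1
  have hcardP := Cfsg.Agent.S0908.result p M hM B hB P hP
  obtain ⟨χ₁, hB1⟩ := hB
  have hχ₁ : χ₁ ∈ B := by rw [hB1]; exact sameBlock_refl hM _
  obtain ⟨W, hW⟩ : ∃ W : Submodule ℂ (G → ℂ), W = Submodule.span ℂ
      ((fun χ : Cfsg.IrrCharacter G => Cfsg.pRegularPart p (χ : G → ℂ)) '' B) := ⟨_, rfl⟩
  have hfin : Module.finrank ℂ W = 1 := by rw [hW]; exact hl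
  have hreg1 : Cfsg.IsPRegular p (1 : G) := by
    unfold Cfsg.IsPRegular
    rw [orderOf_one]
    exact hp.not_dvd_one
  have hmemW : ∀ χ ∈ B, Cfsg.pRegularPart p (χ : G → ℂ) ∈ W := fun χ hχ => by
    rw [hW]; exact Submodule.subset_span ⟨χ, hχ, rfl⟩
  have hpr : ∀ (f : G → ℂ) (x : G), Cfsg.IsPRegular p x → Cfsg.pRegularPart p f x = f x := by
    intro f x hx
    unfold Cfsg.pRegularPart
    rw [if_pos hx]
  have h10 : (χ₁ : G → ℂ) 1 ≠ 0 := IsIrrCharacter.apply_one_ne_zero χ₁.2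
  have hv0 : (⟨Cfsg.pRegularPart p (χ₁ : G → ℂ), hmemW χ₁ hχ₁⟩ : W) ≠ 0 := by
    intro h
    have h2 := congrArg (fun w : W => (w : G → ℂ) 1) h
    simp only [ZeroMemClass.coe_zero, Pi.zero_apply] at h2
    rw [hpr _ 1 hreg1] at h2
    exact h10 h2
  have hall := (finrank_eq_one_iff_of_nonzero' _ hv0).mp hfin
  have hprop : ∀ χ ∈ B, ∀ x : G, Cfsg.IsPRegular p x →
      (χ : G → ℂ) x = ((χ : G → ℂ) 1 / (χ₁ : G → ℂ) 1) * (χ₁ : G → ℂ) x := by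
    intro χ hχ x hx
    obtain ⟨c, hc⟩ := hall ⟨Cfsg.pRegularPart p (χ : G → ℂ), hmemW χ hχ⟩
    have hc' : ∀ y : G, c * Cfsg.pRegularPart p (χ₁ : G → ℂ) y
        = Cfsg.pRegularPart p (χ : G → ℂ) y := by
      intro y
      have h2 := congrArg (fun w : W => (w : G → ℂ) y) hc
      simpa using h2
    have h1 := hc' 1
    rw [hpr _ 1 hreg1, hpr _ 1 hreg1] at h1
    have hx' := hc' x
    rw [hpr _ x hx, hpr _ x hx] at hx'
    rw [← hx', ← h1]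
    field_simp
  -- the gcd of the degrees
  obtain ⟨S, hS⟩ : ∃ S : Finset (Cfsg.IrrCharacter G), S = Finset.univ.filter (· ∈ B) := ⟨_, rfl⟩
  have hmemS : ∀ χ : Cfsg.IrrCharacter G, χ ∈ S ↔ χ ∈ B := by
    intro χ; rw [hS]; simp
  obtain ⟨g, hg⟩ : ∃ g : ℤ, g = S.gcd (fun χ : Cfsg.IrrCharacter G =>
      (Cfsg.charDegree (χ : G → ℂ) : ℤ)) := ⟨_, rfl⟩
  obtain ⟨n, hn⟩ := Finset.gcd_eq_sum_mul S (fun χ : Cfsg.IrrCharacter G =>
      (Cfsg.charDegree (χ : G → ℂ) : ℤ))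
  rw [← hg] at hn
  have hgdvd : ∀ χ ∈ S, g ∣ (Cfsg.charDegree (χ : G → ℂ) : ℤ) := fun χ hχ => by
    rw [hg]; exact Finset.gcd_dvd hχ
  have hg0 : g ≠ 0 := by
    intro h0
    have h2 := hgdvd χ₁ ((hmemS χ₁).mpr hχ₁)
    rw [h0, zero_dvd_iff] at h2
    exact charDegree_ne_zero χ₁ (by exact_mod_cast h2)
  have hgnn : 0 ≤ g := by
    rw [hg]
    exact Int.nonneg_of_normalize_eq_self (Finset.normalize_gcd)
  obtain ⟨gN, hgN⟩ : ∃ gN : ℕ, (gN : ℤ) = g := ⟨g.toNat, Int.toNat_of_nonneg hgnn⟩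
  have hgN0 : gN ≠ 0 := by
    rintro rfl
    exact hg0 (by rw [← hgN]; rfl)
  have hgNC : (gN : ℂ) ≠ 0 := by exact_mod_cast hgN0
  have hdvdN : ∀ χ ∈ S, gN ∣ Cfsg.charDegree (χ : G → ℂ) := fun χ hχ => by
    have h2 := hgdvd χ hχ
    rw [← hgN] at h2
    exact_mod_cast h2
  obtain ⟨d, hd⟩ : ∃ d : Cfsg.IrrCharacter G → ℕ,
      d = fun (χ : Cfsg.IrrCharacter G) => Cfsg.charDegree (χ : G → ℂ) / gN := ⟨_, rfl⟩
  have hdmul : ∀ χ ∈ S, d χ * gN = Cfsg.charDegree (χ : G → ℂ) := fun χ hχ => by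
    rw [hd]; exact Nat.div_mul_cancel (hdvdN χ hχ)
  have hdeg : ∀ χ : Cfsg.IrrCharacter G, (χ : G → ℂ) 1 = (Cfsg.charDegree (χ : G → ℂ) : ℂ) :=
    fun χ => IsCharacter.apply_one_eq_charDegree (IsIrrCharacter.isCharacter χ.2)
  obtain ⟨φ, hφ⟩ : ∃ φ : G → ℂ, φ = fun x => ∑ ψ ∈ S, (n ψ : ℂ) * (ψ : G → ℂ) x := ⟨_, rfl⟩
  have hsumn : ∑ ψ ∈ S, (n ψ : ℂ) * (Cfsg.charDegree (ψ : G → ℂ) : ℂ) = (gN : ℂ) := by
    have h2 := congrArg (fun t : ℤ => (t : ℂ)) hn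
    beta_reduce at h2
    rw [← hgN] at h2
    push_cast at h2
    rw [h2]
    apply Finset.sum_congr rfl
    intro ψ _
    ring
  have hφx : ∀ x : G, Cfsg.IsPRegular p x →
      φ x = ((gN : ℂ) / (χ₁ : G → ℂ) 1) * (χ₁ : G → ℂ) x := by
    intro x hx
    rw [hφ]
    simp only
    have h2 : ∀ ψ ∈ S, (n ψ : ℂ) * (ψ : G → ℂ) x
        = ((n ψ : ℂ) * (Cfsg.charDegree (ψ : G → ℂ) : ℂ)) * ((χ₁ : G → ℂ) x / (χ₁ : G → ℂ) 1) := by
      intro ψ hψ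
      rw [hprop ψ ((hmemS ψ).mp hψ) x hx, hdeg ψ]
      ring
    rw [Finset.sum_congr rfl h2, ← Finset.sum_mul, hsumn]
    ring
  have hχx : ∀ χ ∈ B, ∀ x : G, Cfsg.IsPRegular p x → (χ : G → ℂ) x = (d χ : ℂ) * φ x := by
    intro χ hχ x hx
    rw [hφx x hx, hprop χ hχ x hx, hdeg χ, ← hdmul χ ((hmemS χ).mpr hχ)]
    push_cast
    field_simp
  refine ⟨φ, d, ⟨n, ?_⟩, hχx, ?_⟩
  · intro x _
    rw [hφ, finsum_mem_eq_sum_filter_lib, ← hS]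
  -- the Cartan invariant
  obtain ⟨R, hR⟩ : ∃ R : Finset G, R = Finset.univ.filter (fun s : G => ¬ p ∣ orderOf s) :=
    ⟨_, rfl⟩
  obtain ⟨F, hF⟩ : ∃ F : ℂ, F = (Nat.card G : ℂ)⁻¹ * ∑ s ∈ R, φ s * (starRingEnd ℂ) (φ s) :=
    ⟨_, rfl⟩
  have hcardG : (Nat.card G : ℂ) ≠ 0 := card_ne_zero_complex G
  have hregI : ∀ χ ∈ B, ∀ ψ ∈ B, (Nat.card G : ℂ)⁻¹ * ∑ s ∈ R,
      (χ : G → ℂ) s * (starRingEnd ℂ) ((ψ : G → ℂ) s) = (d χ : ℂ) * (d ψ : ℂ) * F := by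
    intro χ hχ ψ hψ
    rw [hF]
    have h2 : ∑ s ∈ R, (χ : G → ℂ) s * (starRingEnd ℂ) ((ψ : G → ℂ) s)
        = (d χ : ℂ) * (d ψ : ℂ) * ∑ s ∈ R, φ s * (starRingEnd ℂ) (φ s) := by
      rw [Finset.mul_sum]
      apply Finset.sum_congr rfl
      intro s hs
      rw [hR, Finset.mem_filter] at hs
      rw [hχx χ hχ s hs.2, hχx ψ hψ s hs.2, map_mul, Complex.conj_natCast]
      ring
    rw [h2]
    ring
  obtain ⟨c, hc⟩ : ∃ c : ℕ, c = ∑ χ ∈ S, d χ ^ 2 := ⟨_, rfl⟩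
  have hcF : (c : ℂ) * F = 1 := by
    have h2 := blockRank_mul_card (p := p) hM χ₁
    rw [← hB1, hl, Nat.cast_one, mul_one, ← hR] at h2
    have h3 : ∀ y ∈ R, ∑ᶠ χ ∈ B, (χ : G → ℂ) y * (starRingEnd ℂ) ((χ : G → ℂ) y)
        = ∑ χ ∈ S, (χ : G → ℂ) y * (starRingEnd ℂ) ((χ : G → ℂ) y) := by
      intro y _
      rw [finsum_mem_eq_sum_filter_lib, ← hS]
    rw [Finset.sum_congr rfl h3, Finset.sum_comm] at h2
    have h4 : ∀ χ ∈ S, ∑ y ∈ R, (χ : G → ℂ) y * (starRingEnd ℂ) ((χ : G → ℂ) y)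
        = (Nat.card G : ℂ) * ((d χ : ℂ) * (d χ : ℂ) * F) := by
      intro χ hχ
      rw [← hregI χ ((hmemS χ).mp hχ) χ ((hmemS χ).mp hχ), ← mul_assoc, mul_inv_cancel₀ hcardG,
        one_mul]
    rw [Finset.sum_congr rfl h4, ← Finset.mul_sum] at h2
    have h5 : ∑ i ∈ S, (d i : ℂ) * (d i : ℂ) * F = 1 := by
      apply mul_left_cancel₀ hcardG
      rw [mul_one]
      exact h2.symm
    rw [hc]
    push_cast
    rw [Finset.sum_mul, ← h5]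
    apply Finset.sum_congr rfl
    intro χ _
    ring
  have hc0 : (c : ℂ) ≠ 0 := by
    intro h0
    rw [h0, zero_mul] at hcF
    exact zero_ne_one hcF
  obtain ⟨D, hD⟩ : ∃ D : ℕ, D = Cfsg.blockDefect p B := ⟨_, rfl⟩
  have hmHc : ∀ χ ∈ B, ∀ ψ ∈ B, mH p B χ ψ * (c : ℤ) = (p : ℤ) ^ D * ((d χ : ℤ) * (d ψ : ℤ)) := by
    intro χ hχ ψ hψ
    have h2 := pow_defect_mul_regInner hM χ₁ χ ψ (by rw [← hB1]; exact hψ)
    rw [← hB1, ← hR, hregI χ hχ ψ hψ, ← hD] at h2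
    have h3 : ((mH p B χ ψ * (c : ℤ) : ℤ) : ℂ) = (((p : ℤ) ^ D * ((d χ : ℤ) * (d ψ : ℤ)) : ℤ) : ℂ) := by
      push_cast
      rw [← h2]
      calc (p : ℂ) ^ D * ((d χ : ℂ) * (d ψ : ℂ) * F) * (c : ℂ)
          = (p : ℂ) ^ D * ((d χ : ℂ) * (d ψ : ℂ)) * ((c : ℂ) * F) := by ring
        _ = (p : ℂ) ^ D * ((d χ : ℂ) * (d ψ : ℂ)) := by rw [hcF, mul_one]
    exact_mod_cast h3
  -- Bezout for the `d`
  have hnd : ∑ χ ∈ S, n χ * (d χ : ℤ) = 1 := by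
    have h2 : (∑ χ ∈ S, n χ * (d χ : ℤ)) * g = g := by
      rw [Finset.sum_mul]
      conv_rhs => rw [hn]
      apply Finset.sum_congr rfl
      intro χ hχ
      rw [← hgN, ← hdmul χ hχ]
      push_cast
      ring
    have h3 : (∑ χ ∈ S, n χ * (d χ : ℤ)) * g = 1 * g := by rw [h2, one_mul]
    exact mul_right_cancel₀ hg0 h3
  obtain ⟨t, ht⟩ : ∃ t : ℤ, t = ∑ χ ∈ S, ∑ ψ ∈ S, n χ * n ψ * mH p B χ ψ := ⟨_, rfl⟩
  have htc : t * (c : ℤ) = (p : ℤ) ^ D := by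
    rw [ht, Finset.sum_mul]
    have h2 : ∀ χ ∈ S, (∑ ψ ∈ S, n χ * n ψ * mH p B χ ψ) * (c : ℤ)
        = (p : ℤ) ^ D * (n χ * (d χ : ℤ)) * ∑ ψ ∈ S, n ψ * (d ψ : ℤ) := by
      intro χ hχ
      rw [Finset.sum_mul, Finset.mul_sum]
      apply Finset.sum_congr rfl
      intro ψ hψ
      rw [mul_assoc, hmHc χ ((hmemS χ).mp hχ) ψ ((hmemS ψ).mp hψ)]
      ring
    rw [Finset.sum_congr rfl h2, hnd]
    simp_rw [mul_one]
    rw [← Finset.mul_sum, hnd, mul_one]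
  -- `t` is prime to `p`
  obtain ⟨χ₀, hχ₀B, hχ₀h⟩ := exists_height_zero (p := p) B χ₁ hχ₁
  have hndvd : ¬ (p : ℤ) ∣ t := by
    intro hdv
    have h2 := not_dvd_mH_self hM χ₁ χ₀ (by rw [← hB1]; exact hχ₀B) (by rw [← hB1]; exact hχ₀h)
    rw [← hB1] at h2
    apply h2
    have h3 := hmHc χ₀ hχ₀B χ₀ hχ₀B
    rw [← htc] at h3
    have hcZ : (c : ℤ) ≠ 0 := by exact_mod_cast hc0
    have h4 : mH p B χ₀ χ₀ = t * ((d χ₀ : ℤ) * (d χ₀ : ℤ)) := by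
      apply mul_right_cancel₀ hcZ
      rw [h3]
      ring
    rw [h4]
    exact Dvd.dvd.mul_right hdv _
  have hcpos : 0 < c := Nat.pos_of_ne_zero (by exact_mod_cast hc0)
  have htpos : 0 < t := by
    have h2 : (0 : ℤ) < t * (c : ℤ) := by rw [htc]; exact pow_pos (by exact_mod_cast hp.pos) D
    by_contra hcon
    push Not at hcon
    have h3 : t * (c : ℤ) ≤ 0 := mul_nonpos_of_nonpos_of_nonneg hcon (by positivity)
    linarith
  obtain ⟨tN, htN⟩ : ∃ tN : ℕ, (tN : ℤ) = t := ⟨t.toNat, Int.toNat_of_nonneg htpos.le⟩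
  have htcN : tN * c = p ^ D := by
    have h2 : ((tN * c : ℕ) : ℤ) = ((p ^ D : ℕ) : ℤ) := by
      push_cast
      rw [htN, htc]
    exact_mod_cast h2
  have htN1 : tN = 1 := by
    have h2 : tN ∣ p ^ D := ⟨c, htcN.symm⟩
    obtain ⟨i, _, hi⟩ := (Nat.dvd_prime_pow hp).mp h2
    rcases Nat.eq_zero_or_pos i with h0 | hpos
    · rw [hi, h0, pow_zero]
    · exfalso
      apply hndvd
      rw [← htN, hi]
      exact_mod_cast dvd_pow_self p hpos.ne'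
  rw [htN1, one_mul] at htcN
  rw [finsum_mem_eq_sum_filter_lib, ← hS, ← hc, htcN, hcardP, hD]


end Cfsg.Agent.S4675
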