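import Cfsg.Statements.S4733
import Mathlib
import Cfsg.Agent.Lib.Helper6.BlkSections
import Cfsg.Agent.Lib.Helper6.AvgIntegral
import Cfsg.Agent.Lib.Helper6.DegreeDvd
import Cfsg.Agent.S0914

set_option autoImplicit false
open Cfsg

namespace Cfsg.Agent.S4733

open Cfsg.Agent.Lib.Helper6

/-- a character vanishing on the `p`-singular elements has degree divisible by the full power of
`p` -/
theorem factorization_le_of_vanish {G : Type*} [Group G] [Fintype G] {p : ℕ} (hp : p.Prime)
    (χ : Cfsg.IrrCharacter G) (hvan : ∀ y : G, p ∣ orderOf y → (χ : G → ℂ) y = 0) :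
    (Nat.card G).factorization p ≤ (Cfsg.charDegree (χ : G → ℂ)).factorization p := by
  classical
  have : Fact p.Prime := ⟨hp⟩
  obtain ⟨d, hd⟩ : ∃ d, d = Cfsg.charDegree (χ : G → ℂ) := ⟨_, rfl⟩
  rw [← hd]
  have hd0 : 0 < d := by rw [hd]; exact IsIrrCharacter.charDegree_pos χ.2
  have hχ1 : (χ : G → ℂ) 1 = (d : ℂ) := by
    rw [hd]; exact IsCharacter.apply_one_eq_charDegree (IsIrrCharacter.isCharacter χ.2)
  obtain ⟨P⟩ : Nonempty (Sylow p G) := inferInstance
  have hint := IsCharacter.isIntegral_avg (IsIrrCharacter.isCharacter χ.2) (P : Subgroup G) 1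
    (fun w _ => by rw [one_mul, mul_one])
  have hsum : ∑ w : (P : Subgroup G), (χ : G → ℂ) (1 * (w : G)) = (d : ℂ) := by
    rw [Finset.sum_eq_single (1 : (P : Subgroup G))]
    · simp [hχ1]
    · intro w _ hw1
      rw [one_mul]
      apply hvan
      obtain ⟨j, hj⟩ := (IsPGroup.iff_orderOf.mp P.isPGroup') w
      rw [Subgroup.orderOf_coe, hj]
      have hj0 : j ≠ 0 := by
        rintro rfl
        rw [pow_zero] at hj
        exact hw1 (orderOf_eq_one_iff.mp hj)
      exact dvd_pow_self p hj0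
    · intro h0; exact absurd (Finset.mem_univ _) h0
  rw [hsum, inv_mul_eq_div] at hint
  have hPcard : Nat.card (P : Subgroup G) = p ^ (Nat.card G).factorization p :=
    P.card_eq_multiplicity
  have hdvd2 : Nat.card (P : Subgroup G) ∣ d :=
    nat_dvd_of_isIntegral_div Nat.card_pos.ne' hint
  rw [hPcard] at hdvd2
  exact (hp.pow_dvd_iff_le_factorization hd0.ne').mp hdvd2


/-- Let p be a prime, M a maximal ideal of the algebraic integers containing p, and B a p-block of the finite group G with k irreducible characters and p-regular rank l (the number of irreducible Brauer characters). Then l ≤ k, and the following are equivalent: B has defect 0; k = l = 1; k = l. -/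
theorem result {G : Type*} [Group G] [Finite G] (p : ℕ) [Fact p.Prime] (M : Ideal Cfsg.AlgInt) (hM : Cfsg.IsPModular p M) (B : Set (Cfsg.IrrCharacter G)) (hB : Cfsg.IsPBlock M B) : Cfsg.blockRank p B ≤ Nat.card B ∧ (Cfsg.blockDefect p B = 0 ↔ (Nat.card B = 1 ∧ Cfsg.blockRank p B = 1)) ∧ (Cfsg.blockDefect p B = 0 ↔ Nat.card B = Cfsg.blockRank p B) := by
  classical
  have : Fintype G := Fintype.ofFinite G
  have : Fintype (Cfsg.IrrCharacter G) := Fintype.ofFinite _
  have hp : p.Prime := hM.1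
  have hG : (Nat.card G : ℂ) ≠ 0 := card_ne_zero_complex G
  obtain ⟨χ₀, rfl⟩ := hB
  have hχ₀ : χ₀ ∈ Cfsg.blockOf M (χ₀ : G → ℂ) := sameBlock_refl hM _
  -- (i)
  have hle : Cfsg.blockRank p (Cfsg.blockOf M (χ₀ : G → ℂ))
      ≤ Nat.card (Cfsg.blockOf M (χ₀ : G → ℂ)) := by
    unfold Cfsg.blockRank
    have h1 := finrank_range_le_card (R := ℂ)
      (fun χ : (Cfsg.blockOf M (χ₀ : G → ℂ)) => Cfsg.pRegularPart p ((χ : Cfsg.IrrCharacter G) : G → ℂ))
    have h2 : Set.range (fun χ : (Cfsg.blockOf M (χ₀ : G → ℂ)) =>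
        Cfsg.pRegularPart p ((χ : Cfsg.IrrCharacter G) : G → ℂ))
        = (fun χ : Cfsg.IrrCharacter G => Cfsg.pRegularPart p (χ : G → ℂ)) ''
          (Cfsg.blockOf M (χ₀ : G → ℂ)) := by
      ext f
      simp
    rw [h2] at h1
    rw [Nat.card_eq_fintype_card]
    exact h1
  -- `k = l` forces defect zero
  have hkl : Nat.card (Cfsg.blockOf M (χ₀ : G → ℂ))
      = Cfsg.blockRank p (Cfsg.blockOf M (χ₀ : G → ℂ)) →
      Cfsg.blockDefect p (Cfsg.blockOf M (χ₀ : G → ℂ)) = 0 := by
    intro hk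
    have h1 := blockRank_mul_card (p := p) hM χ₀
    rw [← hk] at h1
    -- the count of the characters
    have h2 : (Nat.card G : ℂ) * ((Nat.card (Cfsg.blockOf M (χ₀ : G → ℂ)) : ℕ) : ℂ)
        = ∑ y : G, ∑ᶠ χ ∈ Cfsg.blockOf M (χ₀ : G → ℂ),
            (χ : G → ℂ) y * (starRingEnd ℂ) ((χ : G → ℂ) y) := by
      simp_rw [finsum_mem_eq_sum_filter_lib]
      rw [Finset.sum_comm]
      have h3 : ∀ ζ : Cfsg.IrrCharacter G,
          ∑ g : G, (ζ : G → ℂ) g * (starRingEnd ℂ) ((ζ : G → ℂ) g) = (Nat.card G : ℂ) := by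
        intro ζ
        have h4 := classInner_irrCharacter ζ ζ
        rw [if_pos rfl] at h4
        unfold Cfsg.classInner at h4
        rw [← mul_one (Nat.card G : ℂ), ← h4, ← mul_assoc, mul_inv_cancel₀ hG, one_mul]
      simp_rw [h3]
      rw [Finset.sum_const, nsmul_eq_mul, mul_comm]
      congr 2
      rw [← Fintype.card_subtype, Nat.card_eq_fintype_card]
    rw [h2] at h1
    -- so the singular part of the sum vanishes
    have h5 : ∑ y ∈ Finset.univ.filter (fun y : G => ¬ ¬ p ∣ orderOf y),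
        ∑ᶠ χ ∈ Cfsg.blockOf M (χ₀ : G → ℂ),
            (χ : G → ℂ) y * (starRingEnd ℂ) ((χ : G → ℂ) y) = 0 := by
      have h6 := Finset.sum_filter_add_sum_filter_not Finset.univ (fun y : G => ¬ p ∣ orderOf y)
        (fun y => ∑ᶠ χ ∈ Cfsg.blockOf M (χ₀ : G → ℂ),
            (χ : G → ℂ) y * (starRingEnd ℂ) ((χ : G → ℂ) y))
      rw [h1] at h6
      exact left_eq_add.mp h6.symm
    simp_rw [finsum_mem_eq_sum_filter_lib, Complex.mul_conj] at h5
    have h7 : ∑ y ∈ Finset.univ.filter (fun y : G => ¬ ¬ p ∣ orderOf y),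
        ∑ χ ∈ Finset.univ.filter (· ∈ Cfsg.blockOf M (χ₀ : G → ℂ)),
          Complex.normSq ((χ : G → ℂ) y) = 0 := by
      have := congrArg Complex.re h5
      simpa using this
    have hvan : ∀ χ ∈ Cfsg.blockOf M (χ₀ : G → ℂ), ∀ y : G, p ∣ orderOf y →
        (χ : G → ℂ) y = 0 := by
      intro χ hχ y hy
      have h8 := (Finset.sum_eq_zero_iff_of_nonneg (fun y _ =>
        Finset.sum_nonneg (fun χ _ => Complex.normSq_nonneg _))).mp h7 y (by
          simp only [Finset.mem_filter, Finset.mem_univ, true_and, not_not]; exact hy)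
      have h9 := (Finset.sum_eq_zero_iff_of_nonneg (fun χ _ =>
        Complex.normSq_nonneg _)).mp h8 χ (by
          simp only [Finset.mem_filter, Finset.mem_univ, true_and]; exact hχ)
      exact Complex.normSq_eq_zero.mp h9
    unfold Cfsg.blockDefect
    apply Nat.sub_eq_zero_of_le
    apply le_csInf
    · exact ⟨_, χ₀, hχ₀, rfl⟩
    · rintro _ ⟨χ, hχ, rfl⟩
      exact factorization_le_of_vanish hp χ (hvan χ hχ)
  -- defect zero gives one character
  have h0 : Cfsg.blockDefect p (Cfsg.blockOf M (χ₀ : G → ℂ)) = 0 →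
      Nat.card (Cfsg.blockOf M (χ₀ : G → ℂ)) = 1
        ∧ Cfsg.blockRank p (Cfsg.blockOf M (χ₀ : G → ℂ)) = 1 := by
    intro hd
    unfold Cfsg.blockDefect at hd
    have hne : ((fun χ : Cfsg.IrrCharacter G => (Cfsg.charDegree (χ : G → ℂ)).factorization p) ''
        (Cfsg.blockOf M (χ₀ : G → ℂ))).Nonempty := ⟨_, χ₀, hχ₀, rfl⟩
    obtain ⟨χ, hχ, hχe⟩ := Nat.sInf_mem hne
    have hd' := Nat.le_of_sub_eq_zero hd
    rw [← hχe] at hd'
    simp only at hd'
    have hdvd : Cfsg.charDegree (χ : G → ℂ) ∣ Nat.card G := IsIrrCharacter.charDegree_dvd_card χ.2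
    have hG0 : Nat.card G ≠ 0 := Nat.card_pos.ne'
    have hq : ¬ p ∣ Nat.card G / Cfsg.charDegree (χ : G → ℂ) := by
      intro hq
      have hq0 : Nat.card G / Cfsg.charDegree (χ : G → ℂ) ≠ 0 := by
        intro h0
        have := Nat.mul_div_cancel' hdvd
        rw [h0, mul_zero] at this
        exact hG0 this.symm
      have h4 := hp.factorization_pos_of_dvd hq0 hq
      rw [Nat.factorization_div hdvd] at h4
      simp only [Finsupp.coe_tsub, Pi.sub_apply] at h4
      omega
    have hB1 := (Cfsg.Agent.S0914.result p M hM χ).mp hq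
    rw [blockOf_eq_of_mem hM hχ, hB1]
    constructor
    · simp
    · unfold Cfsg.blockRank
      rw [Set.image_singleton]
      apply finrank_span_singleton
      intro h
      have h1 := congrFun h 1
      rw [Pi.zero_apply] at h1
      unfold Cfsg.pRegularPart Cfsg.IsPRegular at h1
      rw [if_pos (by rw [orderOf_one]; exact hp.not_dvd_one)] at h1
      have h2 := IsCharacter.apply_one_eq_charDegree (IsIrrCharacter.isCharacter χ.2)
      rw [h2] at h1
      have h3 := IsIrrCharacter.charDegree_pos χ.2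
      have : Cfsg.charDegree (χ : G → ℂ) = 0 := by exact_mod_cast h1
      omega
  exact ⟨hle, ⟨h0, fun h => hkl (by rw [h.1, h.2])⟩,
    ⟨fun h => by rw [(h0 h).1, (h0 h).2], hkl⟩⟩

end Cfsg.Agent.S4733
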