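import Cfsg.Statements.S4476
import Mathlib
import Cfsg.Agent.Lib.Helper8.FS3
import Cfsg.Agent.Lib.Helper4.ConjClass
import Cfsg.Agent.Lib.Helper6.ProdChar
import Cfsg.Agent.Lib.Helper6.ClassCount

set_option autoImplicit false
open Cfsg

namespace Cfsg.Agent.S4476

open Cfsg.Agent.Lib.Helper6 in
theorem s4476_sum_card_carrier {G : Type*} [Group G] [Finite G] [Fintype (ConjClasses G)] :
    ∑ C : ConjClasses G, Nat.card C.carrier = Nat.card G := by
  have h := Group.sum_card_conj_classes_eq_card G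
  rw [finsum_eq_sum_of_fintype] at h
  rw [← h]
  apply Finset.sum_congr rfl
  intro C _
  exact Nat.card_coe_set_eq _

/-- Let G be a finite group of even order g with exactly t involutions, and put α = (g − 1)/t (a rational number). Then (a) some non-identity element x of G has at most α² conjugates; and (b) some non-principal real-valued irreducible character of G has degree at most α. -/
theorem result {G : Type*} [Group G] [Fintype G] (heven : Even (Nat.card G)) (t : ℕ) (ht : Nat.card {x : G // orderOf x = 2} = t) : (∃ x : G, x ≠ 1 ∧ ((Subgroup.centralizer ({x} : Set G)).index : ℚ) ≤ (((Nat.card G : ℚ) - 1) / t) ^ 2) ∧ ∃ χ : Cfsg.IrrCharacter G, (χ : G → ℂ) ≠ (fun _ => 1) ∧ (∀ g : G, ((χ : G → ℂ) g).im = 0) ∧ (Cfsg.charDegree (χ : G → ℂ) : ℚ) ≤ ((Nat.card G : ℚ) - 1) / t := by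
  classical
  haveI : Fintype (Cfsg.IrrCharacter G) := Fintype.ofFinite _
  haveI : Fintype (ConjClasses G) := Fintype.ofFinite _
  have hgpos : 0 < Nat.card G := Nat.card_pos
  have hg2 : 2 ≤ Nat.card G := by
    obtain ⟨k, hk⟩ := heven
    omega
  have ht1 : 1 ≤ t := by
    haveI : Fact (Nat.Prime 2) := ⟨Nat.prime_two⟩
    obtain ⟨x, hx⟩ := exists_prime_orderOf_dvd_card' 2 heven.two_dvd
    rw [← ht]
    exact Nat.card_pos_iff.mpr ⟨⟨⟨x, hx⟩⟩, inferInstance⟩
  let one : Cfsg.IrrCharacter G := ⟨fun _ => 1, Cfsg.Agent.Lib.Helper6.isIrrCharacter_one⟩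
  let d : Cfsg.IrrCharacter G → ℝ := fun χ => (Cfsg.charDegree (χ : G → ℂ) : ℝ)
  let ν : Cfsg.IrrCharacter G → ℝ := fun χ => (Cfsg.Agent.Lib.Helper8.FS.fsInd (χ : G → ℂ)).re
  have hχ1 : ∀ χ : Cfsg.IrrCharacter G, (χ : G → ℂ) 1 = ((Cfsg.charDegree (χ : G → ℂ) : ℕ) : ℂ) :=
    fun χ => Cfsg.Agent.Lib.Helper6.IsCharacter.apply_one_eq_charDegree
      (Cfsg.Agent.Lib.Helper6.IsIrrCharacter.isCharacter χ.2)
  have hd0 : ∀ χ, 0 < d χ := by
    intro χ
    show (0 : ℝ) < (Cfsg.charDegree (χ : G → ℂ) : ℝ)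
    exact_mod_cast Cfsg.Agent.Lib.Helper6.IsIrrCharacter.charDegree_pos χ.2
  have hF1 : ∑ χ, ν χ * d χ = 1 + (t : ℝ) := by
    have h1 := Cfsg.Agent.Lib.Helper8.FS.sqrtCount_eq (1 : G)
    rw [Cfsg.Agent.Lib.Helper8.FS.sqrtCount_one, ht] at h1
    have h2 := congrArg Complex.re h1
    rw [Complex.re_sum] at h2
    have h3 : (1 + (t : ℂ)).re = 1 + (t : ℝ) := by simp
    rw [h3] at h2
    rw [h2]
    apply Finset.sum_congr rfl
    intro χ _
    rw [hχ1 χ, Complex.mul_re, Complex.natCast_re, Complex.natCast_im, mul_zero, sub_zero]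
  have hνone : ν one = 1 := by
    show (Cfsg.Agent.Lib.Helper8.FS.fsInd (fun _ : G => (1 : ℂ))).re = 1
    unfold Cfsg.Agent.Lib.Helper8.FS.fsInd
    rw [Finset.sum_const, Finset.card_univ, ← Nat.card_eq_fintype_card, nsmul_eq_mul, mul_one,
      inv_mul_cancel₀ (Cfsg.Agent.Lib.Helper8.FS.card_ne_zero' (G := G))]
    rfl
  have hdone : d one = 1 := by
    show ((Cfsg.charDegree (fun _ : G => (1 : ℂ)) : ℕ) : ℝ) = 1
    unfold Cfsg.charDegree
    simp
  have hνle : ∀ χ, ν χ ≤ 1 := by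
    intro χ
    show (Cfsg.Agent.Lib.Helper8.FS.fsInd (χ : G → ℂ)).re ≤ 1
    rcases Cfsg.Agent.Lib.Helper8.FS.fsInd_irr_cases χ with h | h | h <;> rw [h] <;> norm_num
  have hνnr : ∀ χ : Cfsg.IrrCharacter G, ¬ (∀ g : G, ((χ : G → ℂ) g).im = 0) → ν χ = 0 := by
    intro χ hχ
    show (Cfsg.Agent.Lib.Helper8.FS.fsInd (χ : G → ℂ)).re = 0
    rw [Cfsg.Agent.Lib.Helper8.FS.fsInd_irr_eq_zero χ]
    · rfl
    · push Not at hχ
      obtain ⟨g, hg⟩ := hχ
      refine ⟨g, ?_⟩
      intro h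
      exact hg (Complex.conj_eq_iff_im.mp h)
  set R : Finset (Cfsg.IrrCharacter G) :=
    (Finset.univ.erase one).filter (fun χ => ∀ g : G, ((χ : G → ℂ) g).im = 0) with hR
  -- t ≤ sum of degrees over R
  have hsum : (t : ℝ) ≤ ∑ χ ∈ R, d χ := by
    have h1 : ∑ χ, ν χ * d χ = ν one * d one + ∑ χ ∈ Finset.univ.erase one, ν χ * d χ := by
      exact (Finset.add_sum_erase _ (fun χ => ν χ * d χ) (Finset.mem_univ one)).symm
    rw [hF1, hνone, hdone, one_mul] at h1
    have h2 : ∑ χ ∈ Finset.univ.erase one, ν χ * d χ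
        ≤ ∑ χ ∈ Finset.univ.erase one, (if (∀ g : G, ((χ : G → ℂ) g).im = 0) then d χ else 0) := by
      apply Finset.sum_le_sum
      intro χ _
      split_ifs with hχ
      · calc ν χ * d χ ≤ 1 * d χ := mul_le_mul_of_nonneg_right (hνle χ) (hd0 χ).le
          _ = d χ := one_mul _
      · rw [hνnr χ hχ, zero_mul]
    rw [← Finset.sum_filter] at h2
    linarith
  have hsq : ∑ χ ∈ R, d χ ^ 2 ≤ (Nat.card G : ℝ) - 1 := by
    have h1 : ∑ χ : Cfsg.IrrCharacter G, d χ ^ 2 = (Nat.card G : ℝ) := by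
      have := Cfsg.Agent.Lib.Helper6.sum_sq_charDegree (K := G)
      have h2 := congrArg (fun n : ℕ => (n : ℝ)) this
      simp only [Nat.cast_sum, Nat.cast_pow] at h2
      exact h2
    have h2 : ∑ χ : Cfsg.IrrCharacter G, d χ ^ 2
        = d one ^ 2 + ∑ χ ∈ Finset.univ.erase one, d χ ^ 2 := by
      exact (Finset.add_sum_erase _ (fun χ => d χ ^ 2) (Finset.mem_univ one)).symm
    rw [h1, hdone] at h2
    have h3 : ∑ χ ∈ R, d χ ^ 2 ≤ ∑ χ ∈ Finset.univ.erase one, d χ ^ 2 := by
      apply Finset.sum_le_sum_of_subset_of_nonneg (Finset.filter_subset _ _)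
      intro χ _ _
      positivity
    linarith
  have htR : (0 : ℝ) < t := by exact_mod_cast ht1
  have hgR : (0 : ℝ) < (Nat.card G : ℝ) - 1 := by
    have : (2 : ℝ) ≤ (Nat.card G : ℝ) := by exact_mod_cast hg2
    linarith
  have hRne : R.Nonempty := by
    by_contra hne
    rw [Finset.not_nonempty_iff_eq_empty] at hne
    rw [hne, Finset.sum_empty] at hsum
    linarith
  constructor
  · -- (a)
    by_contra ha
    push Not at ha
    have ha' : ∀ x : G, x ≠ 1 → (((Nat.card G : ℝ) - 1) / t) ^ 2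
        < ((Subgroup.centralizer ({x} : Set G)).index : ℝ) := by
      intro x hx
      have := ha x hx
      have h2 := (Rat.cast_lt (K := ℝ)).mpr this
      push_cast at h2
      exact h2
    -- number of classes
    have hk : Fintype.card (ConjClasses G) = Fintype.card (Cfsg.IrrCharacter G) := by
      rw [← Nat.card_eq_fintype_card, ← Nat.card_eq_fintype_card,
        Cfsg.Agent.Lib.Helper6.card_irrCharacter]
    have hcls : ∑ C ∈ (Finset.univ.erase (ConjClasses.mk (1 : G))), (Nat.card C.carrier : ℝ)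
        = (Nat.card G : ℝ) - 1 := by
      have h1 := s4476_sum_card_carrier (G := G)
      have h2 := congrArg (fun n : ℕ => (n : ℝ)) h1
      simp only [Nat.cast_sum] at h2
      rw [← Finset.add_sum_erase _ _ (Finset.mem_univ (ConjClasses.mk (1 : G)))] at h2
      rw [Cfsg.Agent.Lib.Helper4.card_carrier_eq_index] at h2
      have h3 : (Subgroup.centralizer ({(1 : G)} : Set G)).index = 1 := by
        rw [Subgroup.index_eq_one, eq_top_iff]
        intro y _
        rw [Subgroup.mem_centralizer_singleton_iff]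
        simp
      rw [h3] at h2
      push_cast at h2
      linarith
    have hcard_erase : ((Finset.univ.erase (ConjClasses.mk (1 : G))).card : ℝ)
        = (Fintype.card (Cfsg.IrrCharacter G) : ℝ) - 1 := by
      rw [Finset.card_erase_of_mem (Finset.mem_univ _), Finset.card_univ, hk]
      have : 1 ≤ Fintype.card (Cfsg.IrrCharacter G) := Fintype.card_pos_iff.mpr ⟨one⟩
      push_cast [Nat.cast_sub this]
      ring
    have hRcard : (R.card : ℝ) ≤ (Fintype.card (Cfsg.IrrCharacter G) : ℝ) - 1 := by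
      have h1 : R.card ≤ (Finset.univ.erase one).card := Finset.card_le_card (Finset.filter_subset _ _)
      rw [Finset.card_erase_of_mem (Finset.mem_univ _), Finset.card_univ] at h1
      have : 1 ≤ Fintype.card (Cfsg.IrrCharacter G) := Fintype.card_pos_iff.mpr ⟨one⟩
      have h2 : (R.card : ℝ) ≤ ((Fintype.card (Cfsg.IrrCharacter G) - 1 : ℕ) : ℝ) := by exact_mod_cast h1
      rw [Nat.cast_sub this] at h2
      simpa using h2
    have hRcard1 : (1 : ℝ) ≤ (R.card : ℝ) := by exact_mod_cast hRne.card_pos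
    set k1 : ℝ := (Fintype.card (Cfsg.IrrCharacter G) : ℝ) - 1 with hk1
    -- lower bound for the class sum
    have hlow : k1 * (((Nat.card G : ℝ) - 1) / t) ^ 2 < (Nat.card G : ℝ) - 1 := by
      have hconst : k1 * (((Nat.card G : ℝ) - 1) / t) ^ 2
          = ∑ _C ∈ (Finset.univ.erase (ConjClasses.mk (1 : G))), (((Nat.card G : ℝ) - 1) / t) ^ 2 := by
        rw [Finset.sum_const, nsmul_eq_mul, hcard_erase]
      rw [hconst]
      conv_rhs => rw [← hcls]
      apply Finset.sum_lt_sum_of_nonempty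
      · rw [← Finset.card_pos]
        have : (0 : ℝ) < ((Finset.univ.erase (ConjClasses.mk (1 : G))).card : ℝ) := by
          rw [hcard_erase]
          linarith
        exact_mod_cast this
      · intro C hC
        obtain ⟨x, hx⟩ := ConjClasses.exists_rep C
        have hx1 : x ≠ 1 := by
          intro h
          rw [h] at hx
          exact (Finset.mem_erase.mp hC).1 hx.symm
        rw [← hx, Cfsg.Agent.Lib.Helper4.card_carrier_eq_index]
        exact ha' x hx1
    -- Cauchy–Schwarz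
    have hCS : (t : ℝ) ^ 2 ≤ k1 * ((Nat.card G : ℝ) - 1) := by
      have h1 : (∑ χ ∈ R, d χ) ^ 2 ≤ (R.card : ℝ) * ∑ χ ∈ R, d χ ^ 2 := sq_sum_le_card_mul_sum_sq
      have h2 : (t : ℝ) ^ 2 ≤ (∑ χ ∈ R, d χ) ^ 2 := by
        apply pow_le_pow_left₀ htR.le hsum
      have h3 : (R.card : ℝ) * ∑ χ ∈ R, d χ ^ 2 ≤ k1 * ((Nat.card G : ℝ) - 1) := by
        apply mul_le_mul hRcard hsq
        · apply Finset.sum_nonneg
          intro χ _
          positivity
        · linarith
      linarith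
    have h5 : k1 * (((Nat.card G : ℝ) - 1) / t) ^ 2 * (t : ℝ) ^ 2
        = k1 * ((Nat.card G : ℝ) - 1) * ((Nat.card G : ℝ) - 1) := by
      field_simp
    have h6 : k1 * (((Nat.card G : ℝ) - 1) / t) ^ 2 * (t : ℝ) ^ 2
        < ((Nat.card G : ℝ) - 1) * (t : ℝ) ^ 2 := by
      apply mul_lt_mul_of_pos_right hlow
      positivity
    rw [h5] at h6
    have h7 : ((Nat.card G : ℝ) - 1) * (t : ℝ) ^ 2
        ≤ ((Nat.card G : ℝ) - 1) * (k1 * ((Nat.card G : ℝ) - 1)) :=
      mul_le_mul_of_nonneg_left hCS hgR.le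
    nlinarith
  · -- (b)
    by_contra hb
    push Not at hb
    have hb' : ∀ χ ∈ R, ((Nat.card G : ℝ) - 1) / t < d χ := by
      intro χ hχ
      rw [hR, Finset.mem_filter, Finset.mem_erase] at hχ
      have hne : (χ : G → ℂ) ≠ fun _ => 1 := by
        intro h
        apply hχ.1.1
        apply Subtype.ext
        exact h
      have := hb χ hne hχ.2
      have h2 := (Rat.cast_lt (K := ℝ)).mpr this
      push_cast at h2
      exact h2
    have h1 : ∑ χ ∈ R, d χ * (((Nat.card G : ℝ) - 1) / t) < ∑ χ ∈ R, d χ * d χ := by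
      apply Finset.sum_lt_sum_of_nonempty hRne
      intro χ hχ
      exact mul_lt_mul_of_pos_left (hb' χ hχ) (hd0 χ)
    rw [← Finset.sum_mul] at h1
    have h2 : ∑ χ ∈ R, d χ * d χ ≤ (Nat.card G : ℝ) - 1 := by
      have : ∀ χ ∈ R, d χ * d χ = d χ ^ 2 := fun χ _ => (sq (d χ)).symm
      rw [Finset.sum_congr rfl this]
      exact hsq
    have h3 : (t : ℝ) * (((Nat.card G : ℝ) - 1) / t) = (Nat.card G : ℝ) - 1 := by
      field_simp
    have h4 : (t : ℝ) * (((Nat.card G : ℝ) - 1) / t)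
        ≤ (∑ χ ∈ R, d χ) * (((Nat.card G : ℝ) - 1) / t) := by
      apply mul_le_mul_of_nonneg_right hsum
      positivity
    linarith

end Cfsg.Agent.S4476
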