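import Cfsg.Statements.S4718
import Mathlib
import Cfsg.Agent.Lib.Helper6.Landau
import Cfsg.Agent.Lib.Helper6.BlkContrib
import Cfsg.Agent.Lib.Helper6.BlkPrincipal
import Cfsg.Agent.Lib.Helper6.ClassCount

set_option autoImplicit false
universe u
open Cfsg

namespace Cfsg.Agent.S4718

open Cfsg.Agent.Lib.Helper6

/-- Let p be a prime and a a natural number. There is a bound N such that every finite group whose Sylow p-subgroups have order p^a and whose only p-block (relative to a maximal ideal of the algebraic integers containing p) is the principal block has order at most N. -/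
theorem result (p : ℕ) [Fact p.Prime] (a : ℕ) : ∃ N : ℕ, ∀ (G : Type u) [Group G] [Finite G] (M : Ideal Cfsg.AlgInt), Cfsg.IsPModular p M → (Nat.card G).factorization p = a → (∀ B : Set (Cfsg.IrrCharacter G), Cfsg.IsPBlock M B → B = Cfsg.principalBlock M G) → Nat.card G ≤ N := by
  classical
  obtain ⟨N, hN⟩ := exists_card_bound_of_card_conjClasses.{u} (p ^ (2 * a) + 1)
  refine ⟨N, ?_⟩
  intro G _ _ M hM ha hone
  have : Fintype G := Fintype.ofFinite G
  have : Fintype (Cfsg.IrrCharacter G) := Fintype.ofFinite _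
  apply hN G
  rw [← card_irrCharacter]
  have hp : p.Prime := hM.1
  have huniv : ∀ χ : Cfsg.IrrCharacter G, χ ∈ Cfsg.principalBlock M G := by
    intro χ
    rw [← hone (Cfsg.blockOf M (χ : G → ℂ)) ⟨χ, rfl⟩]
    exact sameBlock_refl hM _
  have hB : Cfsg.IsPBlock M (Cfsg.principalBlock M G) := by
    obtain ⟨χ₀⟩ : Nonempty (Cfsg.IrrCharacter G) := ⟨⟨fun _ => 1, isIrrCharacter_one⟩⟩
    rw [← hone (Cfsg.blockOf M (χ₀ : G → ℂ)) ⟨χ₀, rfl⟩]
    exact ⟨χ₀, rfl⟩
  have h1 := four_mul_sum_pow_height_le hM (Cfsg.principalBlock M G) hB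
  rw [blockDefect_principal hM, ha] at h1
  have h2 : (Finset.univ.filter (· ∈ Cfsg.principalBlock M G)).card
      ≤ ∑ β ∈ Finset.univ.filter (· ∈ Cfsg.principalBlock M G),
        p ^ (2 * Cfsg.blockHeight p (Cfsg.principalBlock M G) (β : G → ℂ)) := by
    rw [Finset.card_eq_sum_ones]
    apply Finset.sum_le_sum
    intro β _
    exact Nat.one_le_pow _ _ hp.pos
  have h3 : (Finset.univ.filter (· ∈ Cfsg.principalBlock M G)).card
      = Nat.card (Cfsg.IrrCharacter G) := by
    rw [Finset.filter_true_of_mem (fun χ _ => huniv χ), Finset.card_univ,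
      Nat.card_eq_fintype_card]
  rw [← h3]
  omega

end Cfsg.Agent.S4718
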