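import Mathlib
import Cfsg.Statements.S1498

set_option autoImplicit false
open Cfsg

namespace Cfsg.Agent.S1498

variable {G : Type*} [Group G]

/-- elements of `N ⊔ K` are products when `K` normalises `N` elementwise -/
theorem mem_sup_of_conj (N K : Subgroup G) (hconj : ∀ c ∈ K, ∀ u ∈ N, c * u * c⁻¹ ∈ N)
    (g : G) (hg : g ∈ N ⊔ K) : ∃ h ∈ N, ∃ c ∈ K, g = h * c := by
  let S : Subgroup G :=
    { carrier := {g | ∃ h ∈ N, ∃ c ∈ K, g = h * c}
      one_mem' := ⟨1, one_mem _, 1, one_mem _, by simp⟩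
      mul_mem' := by
        rintro _ _ ⟨h, hh, c, hc, rfl⟩ ⟨h', hh', c', hc', rfl⟩
        refine ⟨h * (c * h' * c⁻¹), mul_mem hh (hconj c hc h' hh'), c * c', mul_mem hc hc', ?_⟩
        group
      inv_mem' := by
        rintro _ ⟨h, hh, c, hc, rfl⟩
        refine ⟨c⁻¹ * h⁻¹ * c⁻¹⁻¹, hconj c⁻¹ (inv_mem hc) h⁻¹ (inv_mem hh), c⁻¹, inv_mem hc, ?_⟩
        group }
  have hle : N ⊔ K ≤ S := by
    apply sup_le
    · intro h hh; exact ⟨h, hh, 1, one_mem _, by simp⟩
    · intro c hc; exact ⟨1, one_mem _, c, hc, by simp⟩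
  exact hle hg

theorem one_dir [Finite G] (A : Set G) (L : Subgroup G) (H : G → Subgroup G)
    (hD : Cfsg.DadeHypothesis A L H) (a : G) (ha : a ∈ A) (x : G) (hx : x ∈ L) :
    (H a).map (MulAut.conj x).toMonoidHom ≤ H (x * a * x⁻¹) := by
  set a' := x * a * x⁻¹ with ha'def
  have ha' : a' ∈ A := hD.conj_mem x hx a ha
  rintro _ ⟨u, hu, rfl⟩
  show x * u * x⁻¹ ∈ H a'
  set v := x * u * x⁻¹ with hv
  -- v centralises a'
  have huC : u ∈ Subgroup.centralizer ({a} : Set G) := hD.le_centralizer a ha hu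
  have hua : a * u = u * a := Subgroup.mem_centralizer_iff.mp huC a (Set.mem_singleton a)
  have hvC : v ∈ Subgroup.centralizer ({a'} : Set G) := by
    rw [Subgroup.mem_centralizer_iff]
    intro z hz
    rw [Set.mem_singleton_iff] at hz
    subst hz
    rw [hv, ha'def]
    calc x * a * x⁻¹ * (x * u * x⁻¹) = x * (a * u) * x⁻¹ := by group
      _ = x * (u * a) * x⁻¹ := by rw [hua]
      _ = x * u * x⁻¹ * (x * a * x⁻¹) := by group
  rw [← hD.sup_eq a' ha'] at hvC
  obtain ⟨h, hh, c, hc, hvhc⟩ := mem_sup_of_conj (H a') (L ⊓ Subgroup.centralizer ({a'} : Set G))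
    (fun c hc u hu => hD.conj_mem_H a' ha' c hc.2 u hu) v hvC
  -- powers
  have hpow : ∀ j : ℕ, ∃ hj ∈ H a', (h * c) ^ j = hj * c ^ j := by
    intro j
    induction j with
    | zero => exact ⟨1, one_mem _, by simp⟩
    | succ j ih =>
      obtain ⟨hj, hhj, e⟩ := ih
      refine ⟨hj * (c ^ j * h * (c ^ j)⁻¹), mul_mem hhj
        (hD.conj_mem_H a' ha' (c ^ j) (pow_mem hc.2 j) h hh), ?_⟩
      rw [pow_succ, e, pow_succ]; group
  set k := orderOf u with hk
  have hvk : v ^ k = 1 := by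
    rw [hv, conj_pow, hk, pow_orderOf_eq_one]; group
  obtain ⟨hk', hhk', e⟩ := hpow k
  rw [← hvhc, hvk] at e
  have hck : c ^ k ∈ H a' ⊓ (L ⊓ Subgroup.centralizer ({a'} : Set G)) := by
    refine ⟨?_, pow_mem hc k⟩
    have : c ^ k = hk'⁻¹ := by
      have := eq_inv_of_mul_eq_one_right e.symm
      exact this
    rw [this]; exact (H a').inv_mem hhk'
  rw [hD.inf_eq_bot a' ha', Subgroup.mem_bot] at hck
  have h1 : orderOf c ∣ k := orderOf_dvd_of_pow_eq_one hck
  have h2 : k ∣ Nat.card (H a) := by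
    have := orderOf_dvd_natCard (⟨u, hu⟩ : H a)
    rwa [Subgroup.orderOf_mk] at this
  have h3 : orderOf c ∣ Nat.card ↥(L ⊓ Subgroup.centralizer ({a'} : Set G)) := by
    have := orderOf_dvd_natCard (⟨c, hc⟩ : ↥(L ⊓ Subgroup.centralizer ({a'} : Set G)))
    rwa [Subgroup.orderOf_mk] at this
  have h4 : orderOf c ∣ 1 := by
    have := Nat.dvd_gcd (h1.trans h2) h3
    rwa [hD.coprime a ha a' ha'] at this
  have hc1 : c = 1 := orderOf_eq_one_iff.mp (Nat.dvd_one.mp h4)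
  rw [hvhc, hc1, mul_one]
  exact hh

/-- Under the Dade hypothesis for (A, L, H): for a ∈ A and x ∈ L, the subgroup attached to x * a * x⁻¹ is the conjugate of H a by x. -/
theorem result {G : Type*} [Group G] [Finite G] (A : Set G) (L : Subgroup G) (H : G → Subgroup G) (hD : Cfsg.DadeHypothesis A L H) (a : G) (ha : a ∈ A) (x : G) (hx : x ∈ L) : H (x * a * x⁻¹) = (H a).map (MulAut.conj x).toMonoidHom := by
  apply le_antisymm
  · have ha' : x * a * x⁻¹ ∈ A := hD.conj_mem x hx a ha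
    have := one_dir A L H hD (x * a * x⁻¹) ha' x⁻¹ (inv_mem hx)
    have e : x⁻¹ * (x * a * x⁻¹) * x⁻¹⁻¹ = a := by group
    rw [e] at this
    intro w hw
    have hw' := this ⟨w, hw, rfl⟩
    refine ⟨x⁻¹ * w * x⁻¹⁻¹, hw', ?_⟩
    show x * (x⁻¹ * w * x⁻¹⁻¹) * x⁻¹ = w
    group
  · exact one_dir A L H hD a ha x hx

end Cfsg.Agent.S1498
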