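import Cfsg.Statements.S4713
import Mathlib
import Cfsg.Agent.Lib.Helper3.ItoConv
-- import your own Cfsg.Agent.* helpers here

set_option autoImplicit false
open Cfsg

namespace Cfsg.Agent.S4713

open Cfsg.Agent.Lib.Helper3.ItoConv


theorem result' {G : Type*} [Group G] [Finite G] (p : ℕ) [Fact p.Prime] (hsolv : Cfsg.IsPSolvable p G) (P : Sylow p G) : ((P : Subgroup G).Normal ∧ IsMulCommutative P) ↔ ∀ χ : Cfsg.IrrCharacter G, ¬ p ∣ Cfsg.charDegree (χ : G → ℂ) := by
  rw [← sylow_normal_comm_iff p hsolv P]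
  constructor
  · rintro ⟨hn, hc⟩
    refine ⟨hn, fun x hx y hy => ?_⟩
    have := hc.is_comm.comm ⟨x, hx⟩ ⟨y, hy⟩
    exact congrArg Subtype.val this
  · rintro ⟨hn, hc⟩
    exact ⟨hn, ⟨⟨fun a b => Subtype.ext (hc a a.2 b b.2)⟩⟩⟩





/-- Let p be a prime and G a finite p-solvable group. Then G has a normal abelian Sylow p-subgroup if and only if the degree of every irreducible character of G is prime to p. -/
theorem result {G : Type*} [Group G] [Finite G] (p : ℕ) [Fact p.Prime] (hsolv : Cfsg.IsPSolvable p G) (P : Sylow p G) : ((P : Subgroup G).Normal ∧ IsMulCommutative P) ↔ ∀ χ : Cfsg.IrrCharacter G, ¬ p ∣ Cfsg.charDegree (χ : G → ℂ) := by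
  exact result' p hsolv P

end Cfsg.Agent.S4713
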