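import Cfsg.Statements.S4671
import Mathlib
import Cfsg.Agent.Lib.Helper6.KnConj

set_option autoImplicit false
open Cfsg

namespace Cfsg.Agent.S4671

open Cfsg.Agent.Lib.Helper6

/-- Fix a prime p and a maximal ideal M of the algebraic integers containing p. Let N be a normal subgroup of the finite group G, B a p-block of G and P a defect group of B. Then there is a p-block c of N, stable under conjugation by P and covered by B (some member of B has a constituent in c on restriction to N), such that P ∩ N is a defect group of c. -/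
theorem result {G : Type*} [Group G] [Fintype G] (p : ℕ) [Fact p.Prime] (M : Ideal Cfsg.AlgInt) (hM : Cfsg.IsPModular p M) (N : Subgroup G) [N.Normal] [Fintype N] (B : Set (Cfsg.IrrCharacter G)) (hB : Cfsg.IsPBlock M B) (P : Subgroup G) (hP : Cfsg.IsDefectGroup p M B P) : ∃ c : Set (Cfsg.IrrCharacter N), Cfsg.IsPBlock M c ∧ (∀ x ∈ P, Cfsg.StabilizesBlock N c x) ∧ (∃ χ ∈ B, ∃ θ ∈ c, Cfsg.classInner (fun n : N => (χ : G → ℂ) n) (θ : N → ℂ) ≠ 0) ∧ Cfsg.IsDefectGroup p M c ((P ⊓ N).subgroupOf N) := by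
  classical
  have hN : N.Normal := inferInstance
  obtain ⟨χ₀, rfl⟩ := hB
  obtain ⟨θ₀, hθ₀⟩ := exists_constituent_restrict N χ₀.2
  have hχ₀ : χ₀ ∈ Cfsg.blockOf M (χ₀ : G → ℂ) := sameBlock_refl hM _
  have hθ₀b : θ₀ ∈ Cfsg.blockOf M (θ₀ : N → ℂ) := sameBlock_refl hM _
  have hcov : ∃ χ ∈ Cfsg.blockOf M (χ₀ : G → ℂ), ∃ θ ∈ Cfsg.blockOf M (θ₀ : N → ℂ),
      Cfsg.classInner (fun n : N => (χ : G → ℂ) n) (θ : N → ℂ) ≠ 0 :=
    ⟨χ₀, hχ₀, θ₀, hθ₀b, hθ₀⟩
  obtain ⟨P₀, hP₀, hP₀T, hP₀N⟩ := knorr_exists hM N hN (Cfsg.blockOf M (θ₀ : N → ℂ)) ⟨θ₀, rfl⟩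
    _ ⟨χ₀, rfl⟩ hcov
  obtain ⟨x, hx⟩ := isDefectGroup_conj hM χ₀ P₀ P hP₀ hP
  refine ⟨irrConj N hN x⁻¹ '' Cfsg.blockOf M (θ₀ : N → ℂ),
    isPBlock_irrConj_inv_image N x ⟨θ₀, rfl⟩, ?_, ?_, ?_⟩
  · intro u hu
    refine ⟨?_, ?_⟩
    · rw [Subgroup.normalizer_eq_top]
      trivial
    · rintro _ ⟨θ, hθ, rfl⟩
      refine ⟨irrConj N hN u⁻¹ (irrConj N hN x⁻¹ θ), ?_, ?_⟩
      · have h1 : irrConj N hN u⁻¹ (irrConj N hN x⁻¹ θ)
            = irrConj N hN x⁻¹ (irrConj N hN (x⁻¹ * u⁻¹ * x) θ) := by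
          rw [← irrConj_mul, ← irrConj_mul]
          congr 1
          group
        rw [h1]
        refine ⟨_, ?_, rfl⟩
        have h2 : x⁻¹ * u⁻¹ * x ∈ P₀ := by
          rw [hx, Subgroup.mem_map] at hu
          obtain ⟨y, hy, rfl⟩ := hu
          have : x⁻¹ * ((MulAut.conj x).toMonoidHom y)⁻¹ * x = y⁻¹ := by
            simp [mul_assoc]
          rw [this]
          exact P₀.inv_mem hy
        have h3 := hP₀T h2
        exact (h3 θ).1 hθ
      · intro k k' hk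
        rw [irrConj_coe, conjFun_apply]
        apply congrArg
        apply Subtype.ext
        change u⁻¹ * (k' : G) * u⁻¹⁻¹ = (k : G)
        rw [hk]
        simp [mul_assoc]
  · refine ⟨χ₀, hχ₀, irrConj N hN x⁻¹ θ₀, ⟨θ₀, hθ₀b, rfl⟩, ?_⟩
    rw [irrConj_coe, classInner_restrict_conjFun N hN (IsIrrCharacter.isClassFunction χ₀.2)]
    exact hθ₀
  · have h1 := IsDefectGroup.irrConj_inv N x hP₀N
    rw [map_conjNormal_inf_subgroupOf, ← hx] at h1
    exact h1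

end Cfsg.Agent.S4671
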