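import Cfsg.Statements.S4438
import Mathlib
import Cfsg.Agent.Lib.Helper6.KnFR

set_option autoImplicit false
open Cfsg

namespace Cfsg.Agent.S4438

open Cfsg.Agent.Lib.Helper6

/-- Let N be a normal subgroup of the finite group G, b a block of N with defect group Q, and B a block of G covering b (some member of B has a constituent in b on restriction to N), all relative to a maximal ideal M of the algebraic integers containing p. Then B has a defect group P with P ⊓ N = Q. -/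
theorem result {G : Type*} [Group G] [Fintype G] (p : ℕ) [Fact p.Prime] (M : Ideal Cfsg.AlgInt) (hM : Cfsg.IsPModular p M) (N : Subgroup G) [hN : N.Normal] [Fintype N] (b : Set (Cfsg.IrrCharacter N)) (hb : Cfsg.IsPBlock M b) (Q : Subgroup G) (hQN : Q ≤ N) (hQ : Cfsg.IsDefectGroup p M b (Q.subgroupOf N)) (B : Set (Cfsg.IrrCharacter G)) (hB : Cfsg.IsPBlock M B) (hcov : (∃ χ ∈ B, ∃ θ ∈ b, Cfsg.classInner (fun n : N => (χ : G → ℂ) n) (θ : N → ℂ) ≠ 0)) : ∃ P : Subgroup G, Cfsg.IsDefectGroup p M B P ∧ P ⊓ N = Q := by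
  classical
  obtain ⟨P₀, hP₀, -, hP₀N⟩ := knorr_exists hM N hN b hb B hB hcov
  obtain ⟨θ₀, rfl⟩ := hb
  obtain ⟨n, hn⟩ := isDefectGroup_conj hM θ₀ _ _ hP₀N hQ
  obtain ⟨χ₀, rfl⟩ := hB
  refine ⟨P₀.map (MulAut.conj (n : G)).toMonoidHom, IsDefectGroup.map_conj hM χ₀ P₀ hP₀ (n : G), ?_⟩
  ext g
  constructor
  · rintro ⟨⟨y, hy, rfl⟩, hgN⟩
    have hyN : y ∈ N := by
      have h1 := hN.conj_mem _ hgN (n : G)⁻¹
      simpa [mul_assoc] using h1
    have h2 : (⟨(MulAut.conj (n : G)).toMonoidHom y, hgN⟩ : N) ∈ Q.subgroupOf N := by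
      rw [hn, Subgroup.mem_map]
      refine ⟨⟨y, hyN⟩, ?_, ?_⟩
      · rw [Subgroup.mem_subgroupOf]
        exact ⟨hy, hyN⟩
      · apply Subtype.ext
        simp
    exact h2
  · intro hg
    have hgN : g ∈ N := hQN hg
    have h2 : (⟨g, hgN⟩ : N) ∈ Q.subgroupOf N := hg
    rw [hn, Subgroup.mem_map] at h2
    obtain ⟨y, hy, hyg⟩ := h2
    rw [Subgroup.mem_subgroupOf] at hy
    refine ⟨⟨(y : G), hy.1, ?_⟩, hgN⟩
    have := congrArg Subtype.val hyg
    simpa using this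

end Cfsg.Agent.S4438
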