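import Cfsg.Statements.S4669
import Mathlib
import Cfsg.Agent.Lib.Helper6.TwistRank
import Cfsg.Agent.Lib.Helper6.BlkDefConj
import Cfsg.Agent.Lib.Helper6.BlkCover3

set_option autoImplicit false
open Cfsg

namespace Cfsg.Agent.S4669

open Cfsg.Agent.Lib.Helper6

/-- Fix a prime p and a maximal ideal M of the algebraic integers containing p. If the p-block B of the finite group G has a defect group P contained in the centre of G, then B has p-regular rank one (a single irreducible Brauer character). -/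
theorem result {G : Type*} [Group G] [Fintype G] (p : ℕ) [Fact p.Prime] (M : Ideal Cfsg.AlgInt) (hM : Cfsg.IsPModular p M) (B : Set (Cfsg.IrrCharacter G)) (hB : Cfsg.IsPBlock M B) (P : Subgroup G) (hD : Cfsg.IsDefectGroup p M B P) (hPZ : P ≤ Subgroup.center G) : Cfsg.blockRank p B = 1 := by
  classical
  have hP : IsPGroup p P := IsDefectGroup.isPGroup hD
  obtain ⟨χ, hχB, hdeg⟩ := exists_mem_factorization_eq_index hM B hB P hD
  obtain ⟨χ₀, rfl⟩ := hB
  have hBeq : Cfsg.blockOf M (χ₀ : G → ℂ) = Cfsg.blockOf M (χ : G → ℂ) :=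
    blockOf_eq_of_mem hM hχB
  have hG := sup_centralizer_eq_top_of_le_center P hPZ
  obtain ⟨lam, hlam1, hlam⟩ := exists_central_linear P hPZ χ
  have hH : ∀ (u : P) (k : G), ¬ p ∣ orderOf k →
      (χ : G → ℂ) ((u : G) * k) = (lam : P → ℂ) u * (χ : G → ℂ) k := fun u k _ => hlam u k
  rw [hBeq]
  exact blockRank_blockOf_twist P hP hG χ hdeg lam hH hM

end Cfsg.Agent.S4669
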