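import Cfsg.Statements.S4637
import Mathlib
import Cfsg.Agent.Lib.Helper6.KfAssemble

set_option autoImplicit false
open Cfsg

namespace Cfsg.Agent.S4637

open Cfsg.Agent.Lib.Helper6

/-- Let B be a block of the finite group G relative to a maximal ideal M of the algebraic integers containing 2, with a Klein four defect group P. Let c be a block of C_G(P) inducing B, T the stabilizer of c in N_G(P) and e the index of C_G(P) in T (the inertial index). Then e is 1 or 3, B contains exactly four irreducible characters, and the 2-regular rank of B (its number of irreducible Brauer characters) equals e. -/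
theorem result {G : Type*} [Group G] [Finite G] (M : Ideal Cfsg.AlgInt) (hM : Cfsg.IsPModular 2 M) (B : Set (Cfsg.IrrCharacter G)) (hB : Cfsg.IsPBlock M B) (P : Subgroup G) (hPD : Cfsg.IsDefectGroup 2 M B P) (hV : IsKleinFour P) (c : Set (Cfsg.IrrCharacter (Subgroup.centralizer (P : Set G)))) (hc : Cfsg.IsInducedBlock M (Subgroup.centralizer (P : Set G)) c B) (T : Subgroup G) (hT : ∀ g : G, g ∈ T ↔ (g ∈ Subgroup.normalizer (P : Set G) ∧ Cfsg.StabilizesBlock (Subgroup.centralizer (P : Set G)) c g)) (e : ℕ) (he : (Subgroup.centralizer (P : Set G)).relIndex T = e) : (e = 1 ∨ e = 3) ∧ Nat.card B = 4 ∧ Cfsg.blockRank 2 B = e := by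
  classical
  haveI : Fintype G := Fintype.ofFinite G
  haveI : Fact (Nat.Prime 2) := ⟨Nat.prime_two⟩
  have hidx := klein_inertial_index hM B P hPD hV c hc T hT
  rw [he] at hidx
  obtain ⟨X, -, hX, hXrep⟩ := exists_pElement_reps_of_finset 2 (∅ : Finset G) (by simp)
    (by simp)
  obtain ⟨-, hsum⟩ := card_block_eq_rank_add hM B hB X hX hXrep
  have h4 := klein_card_block hM B hB P hPD hV c hc X hX hXrep
  have hge1 := klein_one_le_sections hM B hB P hPD hV c hc X hX hXrep
  have hpos := blockRank_pos hM B hB
  refine ⟨hidx, h4, ?_⟩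
  have hTN : T ≤ Subgroup.normalizer (P : Set G) := fun g hg => ((hT g).mp hg).1
  have hTstab : ∀ t : G, t ∈ T ↔ t ∈ Subgroup.normalizer (P : Set G) ∧
      t ∈ stabSub (Subgroup.centralizer (P : Set G)) c := by
    intro t
    rw [hT, mem_stabSub_iff]
  rcases hidx with h1 | h3
  · rw [h1]
    have hTC : T ≤ Subgroup.centralizer (P : Set G) := Subgroup.relIndex_eq_one.mp (he.trans h1)
    have h3le := klein_sections_ge_three hM B hB P hPD hV c hc X hX hXrep
      (fun t htN htS => hTC ((hTstab t).mpr ⟨htN, htS⟩))
    omega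
  · rw [h3]
    have htr := klein_transitive_of_index_three P hV T hTN (he.trans h3)
    have hle1 := klein_sections_le_one hM B hB P hPD hV c hc X hX hXrep
      (fun a ha ha1 b hb hb1 => by
        obtain ⟨t, htT, htab⟩ := htr a ha ha1 b hb hb1
        obtain ⟨htN, htS⟩ := (hTstab t).mp htT
        exact ⟨t, htN, htS, htab⟩)
    omega

end Cfsg.Agent.S4637
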