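import Cfsg.Statements.S2437
import Cfsg.Agent.Lib.Helper4.SL2Borel

set_option autoImplicit false
open Cfsg

namespace Cfsg.Agent.S2437

open Cfsg.Agent.Lib.Helper4

variable {F : Type*} [Field F]

theorem isConj_mkB_iff (a a' : Fˣ) (b b' : F) :
    IsConj (mkB a b) (mkB a' b') ↔
      a = a' ∧ ∃ (t : Fˣ) (u : F), (t : F) * b + u * ((a⁻¹ : Fˣ) : F) = (a' : F) * u + b' * ((t⁻¹ : Fˣ) : F) := by
  rw [isConj_iff]
  constructor
  · rintro ⟨c, hc⟩
    rw [mul_inv_eq_iff_eq_mul] at hc
    obtain ⟨t, u, rfl⟩ := exists_mkB c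
    rw [mkB_mul, mkB_mul] at hc
    obtain ⟨h1, h2⟩ := mkB_injective _ _ _ _ hc
    refine ⟨?_, t, u, h2⟩
    rw [mul_comm] at h1
    exact mul_right_cancel h1
  · rintro ⟨rfl, t, u, h⟩
    refine ⟨mkB t u, ?_⟩
    rw [mul_inv_eq_iff_eq_mul, mkB_mul, mkB_mul, h, mul_comm]

/-- parameter type -/
abbrev T (F : Type*) [Field F] := (Bool × Option Bool) ⊕ {a : Fˣ // a ^ 2 ≠ 1}

/-- sign -/
def sgn : Bool → Fˣ
  | false => 1
  | true => -1

theorem sgn_sq (ε : Bool) : (sgn ε : Fˣ) ^ 2 = 1 := by
  rcases ε <;> simp [sgn]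

theorem sgn_inv (ε : Bool) : (sgn ε : Fˣ)⁻¹ = sgn ε := by
  rcases ε <;> simp [sgn]

/-- upper right entry of representative -/
def uoF (ν : F) : Option Bool → F
  | none => 0
  | some true => 1
  | some false => ν

/-- representative -/
def rep (ν : F) : T F → borelSL2 F
  | Sum.inl (ε, o) => mkB (sgn ε) (uoF ν o)
  | Sum.inr a => mkB a.1 0

theorem uoF_eq (ν : F) (hν : ¬ IsSquare ν) (o o' : Option Bool) (t : Fˣ)
    (h : (t : F) * uoF ν o = uoF ν o' * ((t⁻¹ : Fˣ) : F)) : o = o' := by
  have hν0 : ν ≠ 0 := by rintro rfl; exact hν IsSquare.zero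
  have ht : (t : F) ≠ 0 := t.ne_zero
  have hti : ((t⁻¹ : Fˣ) : F) ≠ 0 := (t⁻¹).ne_zero
  rcases o with _ | _ | _ <;> rcases o' with _ | _ | _ <;> simp only [uoF] at h <;>
    first | rfl | exfalso
  · rw [mul_zero] at h
    exact (mul_ne_zero hν0 hti) h.symm
  · rw [mul_zero] at h
    exact (mul_ne_zero one_ne_zero hti) h.symm
  · rw [zero_mul] at h
    exact (mul_ne_zero ht hν0) h
  · apply hν
    refine ⟨((t⁻¹ : Fˣ) : F), ?_⟩
    have : ν = ((t⁻¹ : Fˣ) : F) * ((t : F) * ν) := by
      rw [← mul_assoc, ← Units.val_mul, inv_mul_cancel, Units.val_one, one_mul]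
    rw [this, h]; ring
  · rw [zero_mul] at h
    exact (mul_ne_zero ht one_ne_zero) h
  · apply hν
    refine ⟨(t : F), ?_⟩
    have : ν = (ν * ((t⁻¹ : Fˣ) : F)) * (t : F) := by
      rw [mul_assoc, ← Units.val_mul, inv_mul_cancel, Units.val_one, mul_one]
    rw [this, ← h]; ring

theorem rep_injective (h2 : (2 : F) ≠ 0) (ν : F) (hν : ¬ IsSquare ν) (x y : T F)
    (h : IsConj (rep ν x) (rep ν y)) : x = y := by
  have hne : (1 : Fˣ) ≠ -1 := by
    intro h
    apply h2
    have := congrArg Units.val h
    simp only [Units.val_one, Units.val_neg] at this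
    linear_combination this
  rcases x with ⟨ε, o⟩ | a <;> rcases y with ⟨ε', o'⟩ | a' <;> simp only [rep] at h <;>
    rw [isConj_mkB_iff] at h <;> obtain ⟨h1, t, u, h3⟩ := h
  · have hε : ε = ε' := by
      rcases ε <;> rcases ε' <;> simp only [sgn] at h1 <;> first | rfl | exfalso
      · exact hne h1
      · exact hne h1.symm
    subst hε
    rw [sgn_inv] at h3
    have : (t : F) * uoF ν o = uoF ν o' * ((t⁻¹ : Fˣ) : F) := by linear_combination h3
    rw [uoF_eq ν hν o o' t this]
  · exfalso
    apply a'.2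
    rw [← h1, sgn_sq]
  · exfalso
    apply a.2
    rw [h1, sgn_sq]
  · congr 1
    exact Subtype.ext h1

theorem rep_surjective [Fintype F] (ν : F) (hν : ¬ IsSquare ν) (g : borelSL2 F) :
    ∃ x, IsConj g (rep ν x) := by
  have hν0 : ν ≠ 0 := by rintro rfl; exact hν IsSquare.zero
  obtain ⟨a, b, rfl⟩ := exists_mkB g
  by_cases ha : a ^ 2 = 1
  · have ha' : ∃ ε, a = sgn ε := by
      have h1 : ((a : F) - 1) * ((a : F) + 1) = 0 := by
        have := congrArg Units.val ha
        simp only [Units.val_pow_eq_pow_val, Units.val_one] at this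
        linear_combination this
      rcases mul_eq_zero.mp h1 with h | h
      · exact ⟨false, Units.ext (by simp only [sgn, Units.val_one]; linear_combination h)⟩
      · exact ⟨true, Units.ext (by simp only [sgn, Units.val_neg, Units.val_one]; linear_combination h)⟩
    obtain ⟨ε, rfl⟩ := ha'
    by_cases hb0 : b = 0
    · refine ⟨Sum.inl (ε, none), ?_⟩
      simp only [rep, uoF, hb0]
      exact IsConj.refl _
    · by_cases hsq : IsSquare b
      · obtain ⟨r, hr⟩ := hsq
        have hr0 : r ≠ 0 := by rintro rfl; apply hb0; rw [hr, mul_zero]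
        refine ⟨Sum.inl (ε, some true), ?_⟩
        simp only [rep, uoF]
        rw [isConj_mkB_iff]
        refine ⟨rfl, (Units.mk0 r hr0)⁻¹, 0, ?_⟩
        rw [sgn_inv, inv_inv, hr]
        simp only [Units.val_inv_eq_inv_val, Units.val_mk0]
        field_simp
        ring
      · have hsq' : IsSquare (b * ν) := by
          classical
          rw [← quadraticChar_one_iff_isSquare (mul_ne_zero hb0 hν0), map_mul,
            quadraticChar_neg_one_iff_not_isSquare.mpr hsq,
            quadraticChar_neg_one_iff_not_isSquare.mpr hν]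
          norm_num
        obtain ⟨r, hr⟩ := hsq'
        have hr0 : r ≠ 0 := by rintro rfl; apply mul_ne_zero hb0 hν0; rw [hr, mul_zero]
        refine ⟨Sum.inl (ε, some false), ?_⟩
        simp only [rep, uoF]
        rw [isConj_mkB_iff]
        refine ⟨rfl, Units.mk0 (ν / r) (div_ne_zero hν0 hr0), 0, ?_⟩
        rw [sgn_inv]
        simp only [Units.val_inv_eq_inv_val, Units.val_mk0]
        field_simp
        linear_combination hr
  · refine ⟨Sum.inr ⟨a, ha⟩, ?_⟩
    simp only [rep]
    rw [isConj_mkB_iff]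
    have hne : (a : F) - ((a⁻¹ : Fˣ) : F) ≠ 0 := by
      intro h
      apply ha
      apply Units.ext
      simp only [Units.val_pow_eq_pow_val, Units.val_one]
      have h' : (a : F) = ((a⁻¹ : Fˣ) : F) := sub_eq_zero.mp h
      rw [pow_two]
      nth_rewrite 2 [h']
      rw [← Units.val_mul, mul_inv_cancel, Units.val_one]
    refine ⟨rfl, 1, b / ((a : F) - ((a⁻¹ : Fˣ) : F)), ?_⟩
    simp only [Units.val_one, one_mul, zero_mul, add_zero, inv_one]
    field_simp
    ring

theorem card_T [Fintype F] (h2 : (2 : F) ≠ 0) : Nat.card (T F) = Fintype.card F + 3 := by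
  classical
  have h4 : (1 : Fˣ) ≠ -1 := by
    intro h
    apply h2
    have := congrArg Units.val h
    simp only [Units.val_one, Units.val_neg] at this
    linear_combination this
  have hset : ∀ a : Fˣ, a ^ 2 ≠ 1 ↔ a ∉ ({1, -1} : Finset Fˣ) := by
    intro a
    simp only [Finset.mem_insert, Finset.mem_singleton, not_or]
    constructor
    · intro h
      constructor
      · rintro rfl; apply h; simp
      · rintro rfl; apply h; simp
    · rintro ⟨h1, h3⟩ h
      have : ((a : F) - 1) * ((a : F) + 1) = 0 := by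
        have := congrArg Units.val h
        simp only [Units.val_pow_eq_pow_val, Units.val_one] at this
        linear_combination this
      rcases mul_eq_zero.mp this with h | h
      · exact h1 (Units.ext (by simp only [Units.val_one]; linear_combination h))
      · exact h3 (Units.ext (by simp only [Units.val_neg, Units.val_one]; linear_combination h))
  have hc : Nat.card {a : Fˣ // a ^ 2 ≠ 1} = Fintype.card F - 1 - 2 := by
    rw [Nat.card_congr (Equiv.subtypeEquivRight hset), Nat.card_eq_fintype_card,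
      Fintype.card_subtype, Finset.filter_notMem_eq_sdiff, Finset.card_univ_sdiff,
      Finset.card_pair h4, Fintype.card_units]
  have hge : 2 ≤ Fintype.card Fˣ := by
    have := Finset.card_le_univ ({1, -1} : Finset Fˣ)
    rwa [Finset.card_pair h4] at this
  rw [Fintype.card_units] at hge
  rw [Nat.card_sum, hc, Nat.card_prod, Nat.card_eq_fintype_card, Nat.card_eq_fintype_card,
    Fintype.card_bool, Fintype.card_option, Fintype.card_bool]
  omega

theorem result {F : Type*} [Field F] [Fintype F] (hodd : Odd (Fintype.card F)) :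
    Nat.card (ConjClasses ((Cfsg.upperTriangularGL 2 F).comap Matrix.SpecialLinearGroup.toGL)) = Fintype.card F + 3 := by
  have hchar : ringChar F ≠ 2 := by
    intro h
    have : Fintype.card F % 2 = 0 := FiniteField.even_card_iff_char_two.mp h
    have h2 := Nat.odd_iff.mp hodd
    omega
  have h2 : (2 : F) ≠ 0 := Ring.two_ne_zero hchar
  obtain ⟨ν, hν⟩ := FiniteField.exists_nonsquare hchar
  rw [← card_T h2]
  symm
  apply Nat.card_congr
  apply Equiv.ofBijective (fun x : T F => (ConjClasses.mk (rep ν x)))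
  constructor
  · intro x y h
    exact rep_injective h2 ν hν x y (ConjClasses.mk_eq_mk_iff_isConj.mp h)
  · intro c
    obtain ⟨g, rfl⟩ := ConjClasses.mk_surjective c
    obtain ⟨x, hx⟩ := rep_surjective ν hν g
    exact ⟨x, (ConjClasses.mk_eq_mk_iff_isConj.mpr hx).symm⟩

end Cfsg.Agent.S2437
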