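import Cfsg.Statements.S2306
import Cfsg.Agent.Lib.Helper4.SL2IndInner
import Cfsg.Agent.Lib.Helper6.Norm
import Cfsg.Agent.Lib.Helper6.CharOps

set_option autoImplicit false
open Cfsg

namespace Cfsg.Agent.S2306

open Cfsg.Agent.Lib.Helper4 Cfsg.Agent.Lib.Helper6

variable {F : Type*} [Field F]

/-- the `(0,0)` entry as a monoid homomorphism on the Borel subgroup -/
def entryHom : borelSL2 F →* F where
  toFun b := ((b : Matrix.SpecialLinearGroup (Fin 2) F) : Matrix (Fin 2) (Fin 2) F) 0 0
  map_one' := by simp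
  map_mul' x y := borel_mul_apply_zero x.1 y.1 y.2

/-- the linear character `b ↦ α (b₀₀)` of the Borel subgroup -/
noncomputable def borelChar (α : MulChar F ℂ) : borelSL2 F →* ℂˣ :=
  α.toUnitHom.comp entryHom.toHomUnits

theorem borelChar_apply (α : MulChar F ℂ) (b : borelSL2 F) :
    ((borelChar α b : ℂˣ) : ℂ) =
      α (((b : Matrix.SpecialLinearGroup (Fin 2) F) : Matrix (Fin 2) (Fin 2) F) 0 0) := by
  unfold borelChar
  rw [MonoidHom.comp_apply, MulChar.coe_toUnitHom, MonoidHom.coe_toHomUnits]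
  rfl

theorem isCharacter_borelChar (α : MulChar F ℂ) :
    Cfsg.IsCharacter (borelSL2 F)
      (fun b => α (((b : Matrix.SpecialLinearGroup (Fin 2) F) : Matrix (Fin 2) (Fin 2) F) 0 0)) := by
  have h := IsIrrCharacter.isCharacter (isIrrCharacter_of_hom (borelChar α))
  have h2 : (fun b => ((borelChar α b : ℂˣ) : ℂ)) =
      (fun b : borelSL2 F => α (((b : Matrix.SpecialLinearGroup (Fin 2) F) : Matrix (Fin 2) (Fin 2) F) 0 0)) := by
    funext b
    exact borelChar_apply α b
  rwa [h2] at h

theorem result {F : Type*} [Field F] [Fintype F] [DecidableEq F] (α : MulChar F ℂ) :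
    Cfsg.IsIrrCharacter (Matrix.SpecialLinearGroup (Fin 2) F) (Cfsg.indFun ((Cfsg.upperTriangularGL 2 F).comap Matrix.SpecialLinearGroup.toGL) (fun b => α (((b : Matrix.SpecialLinearGroup (Fin 2) F) : Matrix (Fin 2) (Fin 2) F) 0 0))) ↔ α ^ 2 ≠ 1 := by
  classical
  have key := classInner_psSL2 α α
  have hiff : α = α⁻¹ ↔ α ^ 2 = 1 := by
    rw [pow_two, mul_eq_one_iff_eq_inv]
  constructor
  · intro h
    have h1 := classInner_isIrrCharacter h h
    rw [if_pos rfl] at h1
    have h2 : Cfsg.classInner (psSL2 (fun x => α x)) (psSL2 (fun x => α x)) = 1 := h1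
    rw [key, if_pos rfl] at h2
    intro hα
    rw [if_pos (hiff.mpr hα)] at h2
    norm_num at h2
  · intro hα
    apply isIrrCharacter_of_classInner_self_eq_one
    · exact IsCharacter.indFun _ (isCharacter_borelChar α)
    · have h2 : Cfsg.classInner (psSL2 (fun x => α x)) (psSL2 (fun x => α x)) = 1 := by
        rw [key, if_pos rfl, if_neg (fun h => hα (hiff.mp h)), add_zero]
      exact h2

end Cfsg.Agent.S2306
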