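import Cfsg.Statements.S2433
import Cfsg.Agent.Lib.Helper4.SL2Ind

set_option autoImplicit false
open Cfsg

namespace Cfsg.Agent.S2433

open Cfsg.Agent.Lib.Helper4

theorem result {F : Type*} [Field F] [Fintype F] [DecidableEq F] (hodd : Odd (Fintype.card F)) (α : MulChar F ℂ) (g : Matrix.SpecialLinearGroup (Fin 2) F) :
    ((g : Matrix (Fin 2) (Fin 2) F) 0 1 = 0 → (g : Matrix (Fin 2) (Fin 2) F) 1 0 = 0 → (g : Matrix (Fin 2) (Fin 2) F) 0 0 ^ 2 ≠ 1 →
      (Cfsg.indFun ((Cfsg.upperTriangularGL 2 F).comap Matrix.SpecialLinearGroup.toGL) (fun b => α (((b : Matrix.SpecialLinearGroup (Fin 2) F) : Matrix (Fin 2) (Fin 2) F) 0 0))) g = α ((g : Matrix (Fin 2) (Fin 2) F) 0 0) + α ((g : Matrix (Fin 2) (Fin 2) F) 1 1)) ∧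
    ((∀ (c : F) (v : Fin 2 → F), v ≠ 0 → (g : Matrix (Fin 2) (Fin 2) F).mulVec v ≠ c • v) → (Cfsg.indFun ((Cfsg.upperTriangularGL 2 F).comap Matrix.SpecialLinearGroup.toGL) (fun b => α (((b : Matrix.SpecialLinearGroup (Fin 2) F) : Matrix (Fin 2) (Fin 2) F) 0 0))) g = 0) ∧
    ((g : Matrix (Fin 2) (Fin 2) F) 1 0 = 0 → (g : Matrix (Fin 2) (Fin 2) F) 0 0 = (g : Matrix (Fin 2) (Fin 2) F) 1 1 → (g : Matrix (Fin 2) (Fin 2) F) 0 1 ≠ 0 →
      (Cfsg.indFun ((Cfsg.upperTriangularGL 2 F).comap Matrix.SpecialLinearGroup.toGL) (fun b => α (((b : Matrix.SpecialLinearGroup (Fin 2) F) : Matrix (Fin 2) (Fin 2) F) 0 0))) g = α ((g : Matrix (Fin 2) (Fin 2) F) 0 0)) ∧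
    ((g : Matrix (Fin 2) (Fin 2) F) 0 1 = 0 → (g : Matrix (Fin 2) (Fin 2) F) 1 0 = 0 → (g : Matrix (Fin 2) (Fin 2) F) 0 0 = (g : Matrix (Fin 2) (Fin 2) F) 1 1 →
      (Cfsg.indFun ((Cfsg.upperTriangularGL 2 F).comap Matrix.SpecialLinearGroup.toGL) (fun b => α (((b : Matrix.SpecialLinearGroup (Fin 2) F) : Matrix (Fin 2) (Fin 2) F) 0 0))) g = ((Fintype.card F : ℂ) + 1) * α ((g : Matrix (Fin 2) (Fin 2) F) 0 0)) := by
  have key := indFun_borelSL2_apply (fun x => α x) g
  have hd := sl2_det g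
  refine ⟨?_, ?_, ?_, ?_⟩
  · intro h01 h10 hne
    refine key.trans ?_
    rw [if_pos h01, add_comm]
    congr 1
    have hne' : (g : Matrix (Fin 2) (Fin 2) F) 1 1 - (g : Matrix (Fin 2) (Fin 2) F) 0 0 ≠ 0 := by
      intro h
      apply hne
      rw [h01, zero_mul, sub_zero] at hd
      have : (g : Matrix (Fin 2) (Fin 2) F) 1 1 = (g : Matrix (Fin 2) (Fin 2) F) 0 0 := sub_eq_zero.mp h
      rw [this] at hd
      rw [pow_two, hd]
    rw [Finset.sum_eq_single (0 : F)]
    · simp [h10]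
    · intro c _ hc
      rw [if_neg]
      rw [h01, h10]
      intro h
      have : c * ((g : Matrix (Fin 2) (Fin 2) F) 1 1 - (g : Matrix (Fin 2) (Fin 2) F) 0 0) = 0 := by
        linear_combination h
      rcases mul_eq_zero.mp this with h | h
      · exact hc h
      · exact hne' h
    · intro h; exact absurd (Finset.mem_univ _) h
  · intro h
    refine key.trans ?_
    rw [if_neg, zero_add]
    · apply Finset.sum_eq_zero
      intro c _
      rw [if_neg]
      intro ho
      apply h ((g : Matrix (Fin 2) (Fin 2) F) 0 0 + (g : Matrix (Fin 2) (Fin 2) F) 0 1 * c) ![1, c]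
      · intro h0
        have := congrFun h0 0
        simp at this
      · ext i
        fin_cases i
        · simp [Matrix.mulVec, dotProduct, Fin.sum_univ_two]
        · simp [Matrix.mulVec, dotProduct, Fin.sum_univ_two]
          linear_combination ho
    · intro ho
      apply h ((g : Matrix (Fin 2) (Fin 2) F) 1 1) ![0, 1]
      · intro h0
        have := congrFun h0 1
        simp at this
      · ext i
        fin_cases i <;> simp [Matrix.mulVec, dotProduct, Fin.sum_univ_two, ho]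
  · intro h10 heq hne
    refine key.trans ?_
    rw [if_neg hne, zero_add]
    rw [Finset.sum_eq_single (0 : F)]
    · simp [h10]
    · intro c _ hc
      rw [if_neg]
      rw [h10, heq]
      intro h
      have : (g : Matrix (Fin 2) (Fin 2) F) 0 1 * (c * c) = 0 := by
        linear_combination -h
      rcases mul_eq_zero.mp this with h | h
      · exact hne h
      · exact hc (mul_self_eq_zero.mp h)
    · intro h; exact absurd (Finset.mem_univ _) h
  · intro h01 h10 heq
    refine key.trans ?_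
    rw [if_pos h01]
    have : ∀ c : F, (g : Matrix (Fin 2) (Fin 2) F) 1 0 + (g : Matrix (Fin 2) (Fin 2) F) 1 1 * c -
        c * ((g : Matrix (Fin 2) (Fin 2) F) 0 0 + (g : Matrix (Fin 2) (Fin 2) F) 0 1 * c) = 0 := by
      intro c
      rw [h01, h10, heq]; ring
    rw [Finset.sum_congr rfl (fun c _ => if_pos (this c))]
    simp only [h01, zero_mul, add_zero, Finset.sum_const, Finset.card_univ, nsmul_eq_mul, heq]
    ring

end Cfsg.Agent.S2433
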