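import Cfsg.Statements.S3995
import Cfsg.Agent.Lib.Helper2.FrobeniusDiv
import Cfsg.Agent.Lib.Helper3.QuatLift

set_option autoImplicit false
open Cfsg

namespace Cfsg.Agent.S3995

open Cfsg.Agent.Lib.Helper2 Cfsg.Agent.Lib.Helper3


variable {G : Type*} [Group G]

theorem sol_eq_sum [Finite G] {m : ℕ} (hm : 0 < m) :
    Nat.card {g : G // g ^ m = 1} = ∑ d ∈ m.divisors, Nat.card {g : G // orderOf g = d} := by
  classical
  haveI := Fintype.ofFinite G
  rw [Nat.card_eq_fintype_card, Fintype.card_subtype]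
  rw [Finset.card_eq_sum_card_fiberwise (f := orderOf) (t := m.divisors)]
  · apply Finset.sum_congr rfl
    intro d hd
    rw [Nat.card_eq_fintype_card, Fintype.card_subtype]
    congr 1
    ext g
    simp only [Finset.mem_filter, Finset.mem_univ, true_and]
    constructor
    · rintro ⟨_, h⟩; exact h
    · intro h
      refine ⟨?_, h⟩
      rw [← h] at hd
      exact orderOf_dvd_iff_pow_eq_one.mp (Nat.dvd_of_mem_divisors hd)
  · intro g hg
    simp only [Finset.coe_filter, Finset.mem_univ, true_and, Set.mem_ofPred_eq] at hg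
    exact Nat.mem_divisors.mpr ⟨orderOf_dvd_of_pow_eq_one hg, hm.ne'⟩

theorem sum_divisors_mul_coprime {M : Type*} [AddCommMonoid M] {m n : ℕ} (h : m.Coprime n)
    (f : ℕ → M) :
    ∑ d ∈ (m * n).divisors, f d = ∑ a ∈ m.divisors, ∑ b ∈ n.divisors, f (a * b) := by
  rw [Nat.divisors_mul, Finset.mul_def, Finset.sum_image h.mul_injOn_divisors, Finset.sum_product]

theorem cnt_one [Finite G] : Nat.card {g : G // orderOf g = 1} = 1 := by
  rw [Nat.card_eq_one_iff_exists]
  refine ⟨⟨1, orderOf_one⟩, ?_⟩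
  rintro ⟨g, hg⟩
  exact Subtype.ext (orderOf_eq_one_iff.mp hg)

theorem cnt_pos_iff [Finite G] (m : ℕ) :
    0 < Nat.card {g : G // orderOf g = m} ↔ m ∈ Set.range (orderOf : G → ℕ) := by
  rw [Nat.card_pos_iff]
  constructor
  · rintro ⟨⟨⟨g, hg⟩⟩, _⟩
    exact ⟨g, hg⟩
  · rintro ⟨g, hg⟩
    exact ⟨⟨⟨g, hg⟩⟩, inferInstance⟩

theorem cnt_ne_one [Finite G] {m : ℕ} (hm : 3 ≤ m) : Nat.card {g : G // orderOf g = m} ≠ 1 := by
  intro h
  rw [Nat.card_eq_one_iff_exists] at h
  obtain ⟨⟨g, hg⟩, huniq⟩ := h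
  have h1 := huniq ⟨g⁻¹, by rw [orderOf_inv, hg]⟩
  have h2 : g⁻¹ = g := congrArg Subtype.val h1
  have h3 : g ^ 2 = 1 := by rw [pow_two]; nth_rewrite 1 [← h2]; exact inv_mul_cancel g
  have := orderOf_dvd_of_pow_eq_one h3
  rw [hg] at this
  have := Nat.le_of_dvd (by norm_num) this
  omega



theorem arith_core (N n : ℕ) (c : ℕ → ℕ) (hc1 : c 1 = 1)
    (hc3 : ∀ m, 3 ≤ m → c m = 0 ∨ c m = n) (hc2 : c 2 = 0 ∨ c 2 = 1 ∨ c 2 = n)
    (hN : 1 < N)
    (hfrob : ∀ m, m ∣ N → m ∣ ∑ d ∈ m.divisors, c d)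
    (hcauchy : ∀ p, p.Prime → p ∣ N → 0 < c p)
    (hdvd : ∀ m, 0 < c m → m ∣ N)
    (hpow : ∀ m d, d ∣ m → 0 < c m → 0 < c d) :
    (∃ p a, p.Prime ∧ p ≠ 2 ∧ N = p ^ a ∧ c (p ^ 2) = 0) ∨
    (∃ b, N = 2 ^ b ∧ c 4 = 0) ∨
    (∃ b, N = 2 ^ b ∧ c 2 = 1 ∧ 0 < c 4 ∧ c 8 = 0) ∨
    (∃ p a, p.Prime ∧ p ≠ 2 ∧ N = 2 * p ^ a ∧ c 2 = 1 ∧ c (p ^ 2) = 0 ∧ p ∣ N) := by
  have hN0 : N ≠ 0 := by omega
  -- `p ∣ 1 + n` and `p ∣ n` is impossible
  have hpn : ∀ p, p.Prime → p ∣ 1 + n → p ∣ n → False := by
    intro p hp h1 h2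
    have : p ∣ 1 := (Nat.dvd_add_left h2).mp h1
    exact hp.one_lt.ne' (Nat.dvd_one.mp this)
  have hodd3 : ∀ p, p.Prime → p ≠ 2 → 3 ≤ p := by
    intro p hp hp2
    have := hp.two_le
    omega
  -- F2
  have F2 : ∀ p, p.Prime → p ≠ 2 → p ∣ N → c p = n ∧ p ∣ 1 + n := by
    intro p hp hp2 hpN
    have h1 := hcauchy p hp hpN
    have h2 : c p = n := by
      rcases hc3 p (hodd3 p hp hp2) with h | h
      · omega
      · exact h
    refine ⟨h2, ?_⟩
    have h3 := hfrob p hpN
    rw [hp.sum_divisors, h2, hc1, add_comm] at h3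
    exact h3
  -- F3
  have F3 : ∀ p, p.Prime → p ≠ 2 → p ∣ N → c (p ^ 2) = 0 := by
    intro p hp hp2 hpN
    obtain ⟨h1, h2⟩ := F2 p hp hp2 hpN
    have h9 : 3 ≤ p ^ 2 := by
      have := hodd3 p hp hp2
      nlinarith
    rcases hc3 (p ^ 2) h9 with h | h
    · exact h
    · exfalso
      have hn0 : 0 < n := by
        have := hcauchy p hp hpN
        omega
      have h3 : p ^ 2 ∣ N := hdvd _ (by omega)
      have h4 := hfrob _ h3
      rw [Nat.sum_divisors_prime_pow hp, Finset.sum_range_succ, Finset.sum_range_succ,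
        Finset.sum_range_one, pow_zero, pow_one, hc1, h1, h] at h4
      have h5 : p ∣ 1 + n + n := (dvd_pow_self p (by norm_num : 2 ≠ 0)).trans h4
      exact hpn p hp h2 ((Nat.dvd_add_right h2).mp h5)
  -- F4
  have F4 : ∀ p q, p.Prime → p ≠ 2 → p ∣ N → q.Prime → q ≠ 2 → q ∣ N → p = q := by
    intro p q hp hp2 hpN hq hq2 hqN
    by_contra hpq
    obtain ⟨h1, h2⟩ := F2 p hp hp2 hpN
    obtain ⟨h1', h2'⟩ := F2 q hq hq2 hqN
    have hcop : p.Coprime q := (Nat.coprime_primes hp hq).mpr hpq
    have h3 : p * q ∣ N := hcop.mul_dvd_of_dvd_of_dvd hpN hqN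
    have h4 := hfrob _ h3
    rw [sum_divisors_mul_coprime hcop, hp.sum_divisors, hq.sum_divisors, hq.sum_divisors,
      mul_one, one_mul, mul_one, hc1, h1, h1'] at h4
    have h5 : p ∣ c (p * q) + n + (n + 1) := (dvd_mul_right p q).trans h4
    have h6 : p ∣ c (p * q) + n := by
      rw [add_comm n 1] at h5
      exact (Nat.dvd_add_left h2).mp h5
    have h7 : 3 ≤ p * q := by
      have := hodd3 p hp hp2
      have := hodd3 q hq hq2
      nlinarith
    rcases hc3 _ h7 with h | h
    · rw [h, zero_add] at h6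
      exact hpn p hp h2 h6
    · rw [h] at h6
      have : p ∣ n := by
        have h8 : p ∣ 2 * n := by rwa [two_mul]
        exact (Nat.Coprime.dvd_mul_left ((Nat.coprime_primes hp Nat.prime_two).mpr hp2)).mp h8
      exact hpn p hp h2 this
  by_cases h2N : 2 ∣ N
  · by_cases hodd : ∃ p, p.Prime ∧ p ≠ 2 ∧ p ∣ N
    · -- case C
      obtain ⟨p, hp, hp2, hpN⟩ := hodd
      obtain ⟨h1, h2⟩ := F2 p hp hp2 hpN
      have hcop : Nat.Coprime 2 p := (Nat.coprime_primes Nat.prime_two hp).mpr (Ne.symm hp2)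
      have hc2pos := hcauchy 2 Nat.prime_two h2N
      have h3 : 2 * p ∣ N := hcop.mul_dvd_of_dvd_of_dvd h2N hpN
      have h4 := hfrob _ h3
      rw [sum_divisors_mul_coprime hcop, Nat.prime_two.sum_divisors, hp.sum_divisors,
        hp.sum_divisors, mul_one, one_mul, mul_one, hc1, h1] at h4
      have h5 : p ∣ c (2 * p) + c 2 + (n + 1) := (dvd_mul_left p 2).trans h4
      have h6 : p ∣ c (2 * p) + c 2 := by
        rw [add_comm n 1] at h5
        exact (Nat.dvd_add_left h2).mp h5
      have h7 : 3 ≤ 2 * p := by have := hodd3 p hp hp2; omega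
      have hc2one : c 2 = 1 ∧ c (2 * p) = n := by
        rcases hc3 _ h7 with h | h
        · exfalso
          rw [h, zero_add] at h6
          rcases hc2 with h' | h' | h'
          · omega
          · rw [h'] at h6
            exact hp.one_lt.ne' (Nat.dvd_one.mp h6)
          · rw [h'] at h6
            exact hpn p hp h2 h6
        · rcases hc2 with h' | h' | h'
          · omega
          · exact ⟨h', h⟩
          · exfalso
            rw [h, h'] at h6
            have : p ∣ n := by
              have h8 : p ∣ 2 * n := by rwa [two_mul]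
              exact (Nat.Coprime.dvd_mul_left hcop.symm).mp h8
            exact hpn p hp h2 this
      obtain ⟨hc2one, hc2p⟩ := hc2one
      -- `4 ∤ N`
      have h4N : ¬ 4 ∣ N := by
        intro h4N
        have h8 := hfrob 4 h4N
        rw [show (4 : ℕ) = 2 ^ 2 by norm_num, Nat.sum_divisors_prime_pow Nat.prime_two,
          Finset.sum_range_succ, Finset.sum_range_succ, Finset.sum_range_one, pow_zero, pow_one,
          hc1, hc2one] at h8
        norm_num at h8
        have hc4 : c 4 = n := by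
          rcases hc3 4 (by norm_num) with h | h
          · rw [h] at h8; omega
          · exact h
        have hcop4 : Nat.Coprime 4 p := by
          rw [show (4 : ℕ) = 2 ^ 2 by norm_num]
          exact Nat.Coprime.pow_left 2 hcop
        have h9 : 4 * p ∣ N := hcop4.mul_dvd_of_dvd_of_dvd h4N hpN
        have h10 := hfrob _ h9
        rw [sum_divisors_mul_coprime hcop4, show (4 : ℕ) = 2 ^ 2 by norm_num,
          Nat.sum_divisors_prime_pow Nat.prime_two,
          Finset.sum_range_succ, Finset.sum_range_succ, Finset.sum_range_one, pow_zero, pow_one,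
          hp.sum_divisors, hp.sum_divisors, hp.sum_divisors, mul_one, one_mul, mul_one, mul_one,
          hc1, h1, hc2one, hc2p, show (2 : ℕ) ^ 2 = 4 by norm_num, hc4] at h10
        have h11 : p ∣ n + 1 + (n + 1) + (c (4 * p) + n) := (dvd_mul_left p 4).trans h10
        have h2' : p ∣ n + 1 := by rwa [add_comm] at h2
        have h12 : p ∣ c (4 * p) + n :=
          (Nat.dvd_add_right (Nat.dvd_add h2' h2')).mp h11
        have h13 : 3 ≤ 4 * p := by have := hodd3 p hp hp2; omega
        rcases hc3 _ h13 with h | h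
        · rw [h, zero_add] at h12
          exact hpn p hp h2 h12
        · rw [h] at h12
          have : p ∣ n := by
            have h8 : p ∣ 2 * n := by rwa [two_mul]
            exact (Nat.Coprime.dvd_mul_left hcop.symm).mp h8
          exact hpn p hp h2 this
      -- `N = 2 * p ^ a`
      obtain ⟨M, hM⟩ := h2N
      have hM0 : M ≠ 0 := by rintro rfl; omega
      have hMp : ∀ {d}, Nat.Prime d → d ∣ M → d = p := by
        intro d hd hdM
        have hdN : d ∣ N := hM ▸ Dvd.dvd.mul_left hdM 2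
        by_cases hd2 : d = 2
        · exfalso
          subst hd2
          apply h4N
          obtain ⟨M', rfl⟩ := hdM
          exact ⟨M', by rw [hM]; ring⟩
        · exact F4 d p hd hd2 hdN hp hp2 hpN
      have hMpow := Nat.eq_prime_pow_of_unique_prime_dvd hM0 hMp
      right; right; right
      exact ⟨p, _, hp, hp2, by rw [hM, ← hMpow], hc2one, F3 p hp hp2 hpN, hM ▸ hpN⟩
    · -- `N` is a power of two
      push Not at hodd
      have hNp : ∀ {d}, Nat.Prime d → d ∣ N → d = 2 := by
        intro d hd hdN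
        by_contra hd2
        exact hodd d hd hd2 hdN
      have hNpow := Nat.eq_prime_pow_of_unique_prime_dvd hN0 hNp
      by_cases hc4 : c 4 = 0
      · right; left
        exact ⟨_, hNpow, hc4⟩
      · right; right; left
        have hc4n : c 4 = n := by
          rcases hc3 4 (by norm_num) with h | h
          · exact absurd h hc4
          · exact h
        have hc4pos : 0 < c 4 := Nat.pos_of_ne_zero hc4
        have h4N : 4 ∣ N := hdvd 4 hc4pos
        have hc2pos : 0 < c 2 := hpow 4 2 (by norm_num) hc4pos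
        have h8 := hfrob 4 h4N
        rw [show (4 : ℕ) = 2 ^ 2 by norm_num, Nat.sum_divisors_prime_pow Nat.prime_two,
          Finset.sum_range_succ, Finset.sum_range_succ, Finset.sum_range_one, pow_zero, pow_one,
          hc1, show (2 : ℕ) ^ 2 = 4 by norm_num, hc4n] at h8
        have hc2one : c 2 = 1 := by
          rcases hc2 with h | h | h
          · omega
          · exact h
          · rw [h] at h8; omega
        rw [hc2one] at h8
        refine ⟨_, hNpow, hc2one, hc4pos, ?_⟩
        by_contra hc8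
        have hc8n : c 8 = n := by
          rcases hc3 8 (by norm_num) with h | h
          · exact absurd h hc8
          · exact h
        have h8N : 8 ∣ N := hdvd 8 (Nat.pos_of_ne_zero hc8)
        have h9 := hfrob 8 h8N
        rw [show (8 : ℕ) = 2 ^ 3 by norm_num, Nat.sum_divisors_prime_pow Nat.prime_two,
          Finset.sum_range_succ, Finset.sum_range_succ, Finset.sum_range_succ,
          Finset.sum_range_one, pow_zero, pow_one,
          hc1, show (2 : ℕ) ^ 2 = 4 by norm_num, show (2 : ℕ) ^ 3 = 8 by norm_num, hc4n, hc8n,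
          hc2one] at h9
        omega
  · -- `N` odd
    left
    obtain ⟨p, hp, hpN⟩ := Nat.exists_prime_and_dvd (show N ≠ 1 by omega)
    have hp2 : p ≠ 2 := by rintro rfl; exact h2N hpN
    have hNp : ∀ {d}, Nat.Prime d → d ∣ N → d = p := by
      intro d hd hdN
      have hd2 : d ≠ 2 := by rintro rfl; exact h2N hdN
      exact F4 d p hd hd2 hdN hp hp2 hpN
    have hNpow := Nat.eq_prime_pow_of_unique_prime_dvd hN0 hNp
    exact ⟨p, _, hp, hp2, hNpow, F3 p hp hp2 hpN⟩





theorem c4_or_q8 [Finite G] (h2 : ∀ g h : G, orderOf g = 2 → orderOf h = 2 → g = h)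
    (h4 : ∃ x : G, orderOf x = 4)
    (hord : ∀ g : G, orderOf g = 1 ∨ orderOf g = 2 ∨ orderOf g = 4) :
    (IsCyclic G ∧ Nat.card G = 4) ∨ Nonempty (G ≃* QuaternionGroup 2) := by
  obtain ⟨x, hx⟩ := h4
  have hx4 : x ^ 4 = 1 := by rw [← hx, pow_orderOf_eq_one]
  have hz : orderOf (x ^ 2) = 2 := by
    rw [orderOf_pow_of_dvd (by norm_num) (by rw [hx]; norm_num), hx]
  have hsq : ∀ g : G, orderOf g = 4 → g ^ 2 = x ^ 2 := by
    intro g hg
    apply h2 _ _ _ hz
    rw [orderOf_pow_of_dvd (by norm_num) (by rw [hg]; norm_num), hg]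
  have hord4 : ∀ g : G, g ∉ Subgroup.zpowers x → orderOf g = 4 := by
    intro g hg
    rcases hord g with h | h | h
    · exfalso
      rw [orderOf_eq_one_iff] at h
      exact hg (h ▸ Subgroup.one_mem _)
    · exfalso
      have := h2 g (x ^ 2) h hz
      exact hg (this ▸ Subgroup.pow_mem _ (Subgroup.mem_zpowers x) 2)
    · exact h
  have hinv : ∀ g : G, g ∉ Subgroup.zpowers x → g * x * g⁻¹ = x⁻¹ := by
    intro g hg
    have hg2 := hsq g (hord4 g hg)
    have hxg : x * g ∉ Subgroup.zpowers x := by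
      intro h
      apply hg
      have := Subgroup.mul_mem _ (Subgroup.inv_mem _ (Subgroup.mem_zpowers x)) h
      rwa [inv_mul_cancel_left] at this
    have hxg2 := hsq _ (hord4 _ hxg)
    -- x g x g = x x → g x g = x
    have h1 : g * x * g = x := by
      have : x * (g * x * g) = x * x := by
        rw [← pow_two x, ← hxg2, pow_two]; simp only [mul_assoc]
      exact mul_left_cancel this
    calc g * x * g⁻¹ = (g * x * g) * (g ^ 2)⁻¹ := by rw [pow_two]; group
      _ = x * (x ^ 2)⁻¹ := by rw [h1, hg2]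
      _ = x⁻¹ := by rw [pow_two]; group
  by_cases hall : ∀ g : G, g ∈ Subgroup.zpowers x
  · left
    refine ⟨⟨x, hall⟩, ?_⟩
    have htop : Subgroup.zpowers x = ⊤ := by
      rw [eq_top_iff]; intro g _; exact hall g
    rw [← Nat.card_zpowers, htop] at hx
    rw [← hx, Subgroup.card_top]
  · right
    push Not at hall
    obtain ⟨y, hy⟩ := hall
    have hA : x ^ (2 * 2) = 1 := hx4
    have hX : y * y = x ^ 2 := by rw [← pow_two]; exact hsq y (hord4 y hy)
    have hXA : y * x * y⁻¹ = x⁻¹ := hinv y hy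
    let φ := quatLift 2 x y hA hX hXA
    have hsurj : Function.Surjective φ := by
      intro g
      by_cases hg : g ∈ Subgroup.zpowers x
      · rw [← mem_powers_iff_mem_zpowers] at hg
        obtain ⟨k, rfl⟩ := hg
        exact ⟨QuaternionGroup.a (k : ZMod (2 * 2)), quatLift_a_natCast 2 x y hA hX hXA k⟩
      · have h1 : y⁻¹ * g ∈ Subgroup.zpowers x := by
          by_contra hcon
          have h3 := hinv _ hcon
          have h4 := hinv g hg
          have h5 : y⁻¹ * g * x * (y⁻¹ * g)⁻¹ = y⁻¹ * (g * x * g⁻¹) * y := by group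
          rw [h5, h4] at h3
          have h6 : y⁻¹ * x⁻¹ * y = x := by
            have : y⁻¹ * (y * x * y⁻¹) * y = x := by group
            rwa [hXA] at this
          rw [h6] at h3
          have h7 : x ^ 2 = 1 := by rw [pow_two]; nth_rewrite 1 [h3]; exact inv_mul_cancel x
          have := orderOf_dvd_of_pow_eq_one h7
          rw [hx] at this
          omega
        rw [← mem_powers_iff_mem_zpowers] at h1
        obtain ⟨k, hk⟩ := h1
        have hk' : x ^ k = y⁻¹ * g := hk
        refine ⟨QuaternionGroup.xa (k : ZMod (2 * 2)), ?_⟩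
        show y * zmodPw 2 x (k : ZMod (2 * 2)) = g
        rw [zmodPw_natCast hA, hk', mul_inv_cancel_left]
    have hinj : Function.Injective φ := by
      rw [injective_iff_map_eq_one]
      rintro (i | i) hq
      · have h1 : x ^ i.val = 1 := hq
        have h2' := orderOf_dvd_of_pow_eq_one h1
        rw [hx] at h2'
        have h3 : i.val < 4 := ZMod.val_lt i
        have h4 : i.val = 0 := by omega
        have h5 : i = 0 := (ZMod.val_eq_zero i).mp h4
        rw [h5]
        rfl
      · exfalso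
        have h1 : y * x ^ i.val = 1 := hq
        apply hy
        have : y = (x ^ i.val)⁻¹ := eq_inv_of_mul_eq_one_left h1
        rw [this]
        exact Subgroup.inv_mem _ (Subgroup.pow_mem _ (Subgroup.mem_zpowers x) _)
    exact ⟨(MulEquiv.ofBijective φ ⟨hinj, hsurj⟩).symm⟩




theorem pow_prime_eq_one_of_no_sq [Finite G] {p : ℕ} (hp : p.Prime)
    (h : ∀ g : G, orderOf g ≠ p ^ 2) (g : G) (hg : ∃ k, orderOf g = p ^ k) : g ^ p = 1 := by
  obtain ⟨k, hk⟩ := hg
  have hk1 : k ≤ 1 := by
    by_contra hk2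
    push Not at hk2
    apply h (g ^ p ^ (k - 2))
    rw [orderOf_pow_of_dvd (pow_ne_zero _ hp.ne_zero) (by rw [hk]; exact pow_dvd_pow p (by omega)),
      hk]
    rw [Nat.pow_div (by omega) hp.pos]
    congr 1
    omega
  rw [← orderOf_dvd_iff_pow_eq_one, hk]
  calc p ^ k ∣ p ^ 1 := pow_dvd_pow p hk1
    _ = p := pow_one p

theorem exponent_eq_prime [Finite G] {p : ℕ} (hp : p.Prime) (hG : IsPGroup p G)
    [hnt : Nontrivial G] (h : ∀ g : G, orderOf g ≠ p ^ 2) : Monoid.exponent G = p := by
  haveI : Fact p.Prime := ⟨hp⟩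
  have h1 : Monoid.exponent G ∣ p := by
    apply Monoid.exponent_dvd_of_forall_pow_eq_one
    intro g
    exact pow_prime_eq_one_of_no_sq hp h g (IsPGroup.iff_orderOf.mp hG g)
  rcases (Nat.dvd_prime hp).mp h1 with h2 | h2
  · exfalso
    rw [Monoid.exp_eq_one_iff] at h2
    exact not_subsingleton G h2
  · exact h2

/-- a fresh copy of `Fin k`, without any algebraic structure -/
structure Carrier (k : ℕ) : Type where
  /-- the underlying element -/
  val : Fin k

/-- `Carrier k ≃ Fin k` -/
def carrierEquiv (k : ℕ) : Carrier k ≃ Fin k where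
  toFun x := x.val
  invFun i := ⟨i⟩
  left_inv _ := rfl
  right_inv _ := rfl

instance (k : ℕ) : Finite (Carrier k) := Finite.of_equiv _ (carrierEquiv k).symm

/-- the homomorphism from `ZMod 2` determined by an involution -/
def zmod2Hom (z : G) (hz : z ^ 2 = 1) : Multiplicative (ZMod 2) →* G where
  toFun i := z ^ (Multiplicative.toAdd i).val
  map_one' := by simp
  map_mul' i j := by
    show z ^ (Multiplicative.toAdd i + Multiplicative.toAdd j).val = _
    rw [ZMod.val_add, ← pow_add, ← pow_eq_pow_mod _ hz]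

theorem z2_times_p [Finite G] {p a : ℕ} (hp : p.Prime) (hp2 : p ≠ 2) (ha : 0 < a)
    (hcard : Nat.card G = 2 * p ^ a)
    (h2 : ∀ g h : G, orderOf g = 2 → orderOf h = 2 → g = h) (hpp : ∀ g : G, orderOf g ≠ p ^ 2) :
    ∃ (P : Type) (_ : Group P) (_ : Finite P), IsPGroup p P ∧ Monoid.exponent P = p ∧
      Nonempty (G ≃* Multiplicative (ZMod 2) × P) := by
  haveI : Fact p.Prime := ⟨hp⟩
  haveI : Fact (Nat.Prime 2) := ⟨Nat.prime_two⟩
  obtain ⟨z, hz⟩ := exists_prime_orderOf_dvd_card' (G := G) 2 (by rw [hcard]; exact dvd_mul_right _ _)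
  have hz2 : z ^ 2 = 1 := by rw [← hz, pow_orderOf_eq_one]
  have hzc : ∀ g : G, Commute z g := by
    intro g
    have h1 : orderOf (g * z * g⁻¹) = 2 := by
      rw [← hz]
      exact orderOf_injective (MulAut.conj g).toMonoidHom (MulAut.conj g).injective z
    have h3 := h2 _ _ h1 hz
    show z * g = g * z
    calc z * g = (g * z * g⁻¹) * g := by rw [h3]
      _ = g * z := by group
  obtain ⟨Q, hQ⟩ := Sylow.exists_subgroup_card_pow_prime p
    (show p ^ a ∣ Nat.card G by rw [hcard]; exact dvd_mul_left _ _)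
  have hQp : IsPGroup p Q := IsPGroup.of_card hQ
  let ψ : Multiplicative (ZMod 2) × ↥Q →* G :=
    MonoidHom.noncommCoprod (zmod2Hom z hz2) Q.subtype (fun i q => (hzc q).pow_left _)
  have hzQ : z ∉ Q := by
    intro hzQ
    have h1 : orderOf z ∣ Nat.card Q := by
      have := orderOf_dvd_natCard (⟨z, hzQ⟩ : ↥Q)
      rwa [Subgroup.orderOf_mk] at this
    rw [hz, hQ] at h1
    have := (Nat.prime_dvd_prime_iff_eq Nat.prime_two hp).mp (Nat.prime_two.dvd_of_dvd_pow h1)
    exact hp2 this.symm
  have hinj : Function.Injective ψ := by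
    rw [injective_iff_map_eq_one]
    rintro ⟨i, q⟩ h
    have h1 : z ^ (Multiplicative.toAdd i).val * (q : G) = 1 := h
    have hi : (Multiplicative.toAdd i).val < 2 := ZMod.val_lt _
    have hi0 : (Multiplicative.toAdd i).val = 0 := by
      by_contra hne
      have hi1 : (Multiplicative.toAdd i).val = 1 := by omega
      rw [hi1, pow_one] at h1
      apply hzQ
      have : z = (q : G)⁻¹ := eq_inv_of_mul_eq_one_left h1
      rw [this]
      exact Q.inv_mem q.2
    rw [hi0, pow_zero, one_mul] at h1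
    have hi' : Multiplicative.toAdd i = 0 := (ZMod.val_eq_zero _).mp hi0
    apply Prod.ext
    · exact hi'
    · exact Subtype.ext h1
  have hcard2 : Nat.card G ≤ Nat.card (Multiplicative (ZMod 2) × ↥Q) := by
    rw [Nat.card_prod, hQ, hcard]
    have : Nat.card (Multiplicative (ZMod 2)) = 2 := by
      rw [Nat.card_eq_fintype_card]; rfl
    rw [this]
  have hbij : Function.Bijective ψ := hinj.bijective_of_nat_card_le hcard2
  let e₁ : Multiplicative (ZMod 2) × ↥Q ≃* G := MulEquiv.ofBijective ψ hbij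
  let e : Carrier (p ^ a) ≃ ↥Q := (carrierEquiv _).trans (Finite.equivFinOfCardEq hQ).symm
  letI : Group (Carrier (p ^ a)) := e.group
  let e₂ : Carrier (p ^ a) ≃* ↥Q := e.mulEquiv
  haveI : Nontrivial ↥Q := by
    rw [← Finite.one_lt_card_iff_nontrivial, hQ]
    exact Nat.one_lt_pow (by omega) hp.one_lt
  have hexp : Monoid.exponent ↥Q = p := by
    apply exponent_eq_prime hp hQp
    intro g hg
    apply hpp (g : G)
    rw [← hg, Subgroup.orderOf_coe]
  refine ⟨Carrier (p ^ a), inferInstance, inferInstance, hQp.of_equiv e₂.symm, ?_, ?_⟩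
  · rw [Monoid.exponent_eq_of_mulEquiv e₂, hexp]
  · exact ⟨e₁.symm.trans (MulEquiv.prodCongr (MulEquiv.refl _) e₂.symm)⟩


/-- Let G be a finite group such that the numbers of elements of each order that occurs in G (the numbers #{g : o(g) = m}, m ranging over the element orders of G) take exactly two values, 1 and some n ≠ 1. Then either G is a p-group of exponent p and order at least 3 for some prime p, or G is the quaternion group of order 8, or G is cyclic of order 4, or G ≅ Z₂ × P for a p-group P of exponent p with p an odd prime. -/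
theorem result {G : Type*} [Group G] [Finite G] (n : ℕ) (hn : n ≠ 1) (h : ((fun m : ℕ => Nat.card {g : G // orderOf g = m}) '' Set.range (orderOf : G → ℕ)) = {1, n}) :
    (∃ p : ℕ, p.Prime ∧ IsPGroup p G ∧ 3 ≤ Nat.card G ∧ Monoid.exponent G = p) ∨
      Nonempty (G ≃* QuaternionGroup 2) ∨ (IsCyclic G ∧ Nat.card G = 4) ∨
      (∃ (p : ℕ) (P : Type) (_ : Group P) (_ : Finite P), p.Prime ∧ p ≠ 2 ∧ IsPGroup p P ∧ Monoid.exponent P = p ∧
        Nonempty (G ≃* Multiplicative (ZMod 2) × P)) := by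
  set c : ℕ → ℕ := fun m => Nat.card {g : G // orderOf g = m} with hc
  have hcval : ∀ m, c m = 0 ∨ c m = 1 ∨ c m = n := by
    intro m
    by_cases hm : m ∈ Set.range (orderOf : G → ℕ)
    · have h1 : c m ∈ ({1, n} : Set ℕ) := h ▸ Set.mem_image_of_mem _ hm
      rcases h1 with h1 | h1
      · right; left; exact h1
      · right; right; exact h1
    · left
      by_contra hne
      exact hm ((cnt_pos_iff m).mp (Nat.pos_of_ne_zero hne))
  have hnmem : n ∈ ((fun m : ℕ => Nat.card {g : G // orderOf g = m}) '' Set.range (orderOf : G → ℕ)) := by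
    rw [h]; exact Set.mem_insert_of_mem _ rfl
  obtain ⟨m₀, hm₀, hcm₀⟩ := hnmem
  have hcm₀' : c m₀ = n := hcm₀
  have hn0 : n ≠ 0 := by
    rw [← hcm₀']
    exact ((cnt_pos_iff m₀).mpr hm₀).ne'
  have hc1 : c 1 = 1 := cnt_one
  have hc3 : ∀ m, 3 ≤ m → c m = 0 ∨ c m = n := by
    intro m hm
    rcases hcval m with h1 | h1 | h1
    · left; exact h1
    · exact absurd h1 (cnt_ne_one hm)
    · right; exact h1
  have hc2 := hcval 2
  have hnlt : n < Nat.card G := by
    classical
    haveI := Fintype.ofFinite G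
    rw [← hcm₀']
    show Nat.card {g : G // orderOf g = m₀} < Nat.card G
    rw [Nat.card_eq_fintype_card, Nat.card_eq_fintype_card]
    apply Fintype.card_subtype_lt (x := (1 : G))
    rw [orderOf_one]
    rintro rfl
    exact hn (hcm₀'.symm.trans hc1)
  have hN : 1 < Nat.card G := by omega
  haveI : Nontrivial G := Finite.one_lt_card_iff_nontrivial.mp hN
  have hfrob : ∀ m, m ∣ Nat.card G → m ∣ ∑ d ∈ m.divisors, c d := by
    intro m hm
    have hm0 : 0 < m := Nat.pos_of_dvd_of_pos hm Nat.card_pos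
    rw [← sol_eq_sum hm0]
    exact frobenius_dvd G m hm
  have hcauchy : ∀ p, p.Prime → p ∣ Nat.card G → 0 < c p := by
    intro p hp hpN
    haveI := Fact.mk hp
    obtain ⟨g, hg⟩ := exists_prime_orderOf_dvd_card' p hpN
    exact (cnt_pos_iff p).mpr ⟨g, hg⟩
  have hdvd : ∀ m, 0 < c m → m ∣ Nat.card G := by
    intro m hm
    obtain ⟨g, rfl⟩ := (cnt_pos_iff m).mp hm
    exact orderOf_dvd_natCard g
  have hpow : ∀ m d, d ∣ m → 0 < c m → 0 < c d := by
    intro m d hdm hm
    obtain ⟨g, rfl⟩ := (cnt_pos_iff m).mp hm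
    have ho : 0 < orderOf g := orderOf_pos g
    refine (cnt_pos_iff d).mpr ⟨g ^ (orderOf g / d), ?_⟩
    have hd0 : 0 < d := Nat.pos_of_dvd_of_pos hdm ho
    rw [orderOf_pow_of_dvd (Nat.div_pos (Nat.le_of_dvd ho hdm) hd0).ne' (Nat.div_dvd_of_dvd hdm),
      Nat.div_div_self hdm ho.ne']
  have hnoelt : ∀ m, c m = 0 → ∀ g : G, orderOf g ≠ m := by
    intro m hm g hg
    have h1 : 0 < c m := (cnt_pos_iff m).mpr ⟨g, hg⟩
    omega
  have huniq2 : c 2 = 1 → ∀ g h : G, orderOf g = 2 → orderOf h = 2 → g = h := by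
    intro h1 g k hg hk
    rw [hc] at h1
    obtain ⟨x, hx⟩ := Nat.card_eq_one_iff_exists.mp h1
    have h2 := hx ⟨g, hg⟩
    have h3 := hx ⟨k, hk⟩
    exact congrArg Subtype.val (h2.trans h3.symm)
  rcases arith_core (Nat.card G) n c hc1 hc3 hc2 hN hfrob hcauchy hdvd hpow with
    ⟨p, a, hp, hp2, hNp, hcp2⟩ | ⟨b, hNb, hc4⟩ | ⟨b, hNb, hc2one, hc4, hc8⟩ |
    ⟨p, a, hp, hp2, hNp, hc2one, hcp2, hpN⟩
  · left
    haveI := Fact.mk hp
    refine ⟨p, hp, IsPGroup.of_card hNp, ?_, exponent_eq_prime hp (IsPGroup.of_card hNp)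
      (hnoelt _ hcp2)⟩
    have ha : a ≠ 0 := by rintro rfl; rw [pow_zero] at hNp; omega
    have h3 : 3 ≤ p := by have := hp.two_le; omega
    rw [hNp]
    calc 3 ≤ p := h3
      _ = p ^ 1 := (pow_one p).symm
      _ ≤ p ^ a := Nat.pow_le_pow_right hp.pos (by omega)
  · left
    haveI : Fact (Nat.Prime 2) := ⟨Nat.prime_two⟩
    refine ⟨2, Nat.prime_two, IsPGroup.of_card hNb, ?_, exponent_eq_prime Nat.prime_two
      (IsPGroup.of_card hNb) (hnoelt _ (by norm_num; exact hc4))⟩
    have hb0 : b ≠ 0 := by rintro rfl; rw [pow_zero] at hNb; omega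
    have hb1 : b ≠ 1 := by
      rintro rfl
      rw [pow_one] at hNb
      omega
    rw [hNb]
    calc 3 ≤ 2 ^ 2 := by norm_num
      _ ≤ 2 ^ b := Nat.pow_le_pow_right (by norm_num) (by omega)
  · right
    haveI : Fact (Nat.Prime 2) := ⟨Nat.prime_two⟩
    have hG2 : IsPGroup 2 G := IsPGroup.of_card hNb
    have hord : ∀ g : G, orderOf g = 1 ∨ orderOf g = 2 ∨ orderOf g = 4 := by
      intro g
      obtain ⟨k, hk⟩ := IsPGroup.iff_orderOf.mp hG2 g
      have hk2 : k ≤ 2 := by
        by_contra hk3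
        push Not at hk3
        apply hnoelt 8 hc8 (g ^ 2 ^ (k - 3))
        rw [orderOf_pow_of_dvd (pow_ne_zero _ (by norm_num))
          (by rw [hk]; exact pow_dvd_pow 2 (by omega)), hk,
          Nat.pow_div (by omega) (by norm_num)]
        have : k - (k - 3) = 3 := by omega
        rw [this]
      interval_cases k
      · left; simpa using hk
      · right; left; simpa using hk
      · right; right; simpa using hk
    rcases c4_or_q8 (huniq2 hc2one) ((cnt_pos_iff 4).mp hc4) hord with h1 | h1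
    · right; left; exact h1
    · left; exact h1
  · right; right; right
    have ha : 0 < a := by
      rcases Nat.eq_zero_or_pos a with rfl | ha
      · exfalso
        rw [hNp, pow_zero, mul_one] at hpN
        have := (Nat.prime_dvd_prime_iff_eq hp Nat.prime_two).mp hpN
        exact hp2 this
      · exact ha
    obtain ⟨P, iG, iF, hP, hexp, hiso⟩ := z2_times_p hp hp2 ha hNp (huniq2 hc2one) (hnoelt _ hcp2)
    exact ⟨p, P, iG, iF, hp, hp2, hP, hexp, hiso⟩

end Cfsg.Agent.S3995
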