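import Cfsg.Statements.S0864
import Mathlib
import Cfsg.Agent.Lib.Helper3.LinExt
-- import your own Cfsg.Agent.* helpers here

set_option autoImplicit false
open Cfsg

namespace Cfsg.Agent.S0864

open Cfsg.Agent.Lib.Helper3.LinExt Cfsg.Agent.Lib.Helper6


/-- Restriction of homomorphisms to a subgroup, as a homomorphism. -/
def resHom {G : Type*} [Group G] (N : Subgroup G) : (G →* ℂˣ) →* (N →* ℂˣ) where
  toFun μ := μ.comp N.subtype
  map_one' := rfl
  map_mul' _ _ := rfl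


theorem result' {G : Type*} [Group G] [Finite G] (N : Subgroup G) [hN : N.Normal] (lam : N → ℂ) (hlam : Cfsg.IsCharacter N lam ∧ lam 1 = 1) (hinv : ∀ (g : G) (n : N), lam ⟨g * n * g⁻¹, hN.conj_mem (n : G) n.2 g⟩ = lam n) (hsyl : ∀ p : ℕ, p.Prime → p ∣ orderOf lam → ∃ (H : Subgroup G) (hNH : N ≤ H) (ν : H → ℂ), Nat.Coprime H.index p ∧ (∃ k : ℕ, N.relIndex H = p ^ k) ∧ Cfsg.IsCharacter H ν ∧ ν 1 = 1 ∧ ∀ n : N, ν ⟨(n : G), hNH n.2⟩ = lam n) : ∃ μ : G → ℂ, Cfsg.IsCharacter G μ ∧ μ 1 = 1 ∧ ∀ n : N, μ n = lam n := by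
  set f := linearCharHom hlam.1 hlam.2 with hf
  have hlamf : lam = coeHom N f := rfl
  have hord : orderOf lam = orderOf f := by rw [hlamf, orderOf_coeHom]
  set E : Subgroup (N →* ℂˣ) := (resHom N).range with hE
  suffices hfE : f ∈ E by
    obtain ⟨μ, hμ⟩ := hfE
    refine ⟨coeHom G μ, (isCharacter_coeHom μ).1, (isCharacter_coeHom μ).2, fun n => ?_⟩
    rw [coeHom_apply, hlamf, coeHom_apply, ← hμ]
    rfl
  by_contra hfE
  have hEn : E.Normal := ⟨fun n hn g => by
    have : g * n * g⁻¹ = n := by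
      ext x
      simp [mul_comm]
    rw [this]
    exact hn⟩
  have hq : (QuotientGroup.mk f : (N →* ℂˣ) ⧸ E) ≠ 1 := by
    rw [Ne, QuotientGroup.eq_one_iff]
    exact hfE
  have ho : orderOf (QuotientGroup.mk f : (N →* ℂˣ) ⧸ E) ≠ 1 := by
    rw [Ne, orderOf_eq_one_iff]
    exact hq
  obtain ⟨p, hp, hpdvd⟩ := Nat.exists_prime_and_dvd ho
  have hdvd : orderOf (QuotientGroup.mk f : (N →* ℂˣ) ⧸ E) ∣ orderOf f :=
    orderOf_map_dvd (QuotientGroup.mk' E) f
  obtain ⟨H, hNH, ν, hcop, -, hνchar, hν1, hνN⟩ := hsyl p hp (by rw [hord]; exact hpdvd.trans hdvd)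
  set νh := linearCharHom hνchar hν1 with hνh
  have hinvν : ∀ (g : G) (n : G) (hn : n ∈ N), νh ⟨g⁻¹ * n * g, hNH (by
      have := hN.conj_mem n hn g⁻¹
      rwa [inv_inv] at this)⟩ = νh ⟨n, hNH hn⟩ := by
    intro g n hn
    apply Units.ext
    have hmem : g⁻¹ * n * g ∈ N := by
      have := hN.conj_mem n hn g⁻¹
      rwa [inv_inv] at this
    change ν ⟨g⁻¹ * n * g, _⟩ = ν ⟨n, _⟩
    rw [hνN ⟨g⁻¹ * n * g, hmem⟩, hνN ⟨n, hn⟩]
    have := hinv g⁻¹ ⟨n, hn⟩
    simp only [inv_inv] at this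
    exact this
  have hT : resHom N (MonoidHom.transfer νh) = f ^ H.index := by
    ext n
    change ((MonoidHom.transfer νh (n : G) : ℂˣ) : ℂ) = _
    rw [transfer_apply_of_normal_le N H hNH νh hinvν (n : G) n.2]
    rw [MonoidHom.pow_apply, Units.val_pow_eq_pow_val, Units.val_pow_eq_pow_val]
    congr 1
    exact hνN n
  have hpow : (QuotientGroup.mk f : (N →* ℂˣ) ⧸ E) ^ H.index = 1 := by
    rw [← QuotientGroup.mk_pow, QuotientGroup.eq_one_iff, ← hT]
    exact ⟨_, rfl⟩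
  have h1 : p ∣ H.index := hpdvd.trans (orderOf_dvd_of_pow_eq_one hpow)
  have h2 : p ∣ Nat.gcd H.index p := Nat.dvd_gcd h1 dvd_rfl
  rw [hcop] at h2
  exact hp.one_lt.ne' (Nat.dvd_one.mp h2)





/-- Let N be a normal subgroup of the finite group G and λ a character of N of degree 1 invariant under conjugation by G. Suppose that for every prime p dividing the order of λ (in the group of functions under pointwise multiplication) there is a subgroup H containing N, of index prime to p and with the index of N in H a power of p, together with a character of H of degree 1 restricting to λ. Then λ is the restriction of a character of G of degree 1. -/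
theorem result {G : Type*} [Group G] [Finite G] (N : Subgroup G) [hN : N.Normal] (lam : N → ℂ) (hlam : Cfsg.IsCharacter N lam ∧ lam 1 = 1) (hinv : ∀ (g : G) (n : N), lam ⟨g * n * g⁻¹, hN.conj_mem (n : G) n.2 g⟩ = lam n) (hsyl : ∀ p : ℕ, p.Prime → p ∣ orderOf lam → ∃ (H : Subgroup G) (hNH : N ≤ H) (ν : H → ℂ), Nat.Coprime H.index p ∧ (∃ k : ℕ, N.relIndex H = p ^ k) ∧ Cfsg.IsCharacter H ν ∧ ν 1 = 1 ∧ ∀ n : N, ν ⟨(n : G), hNH n.2⟩ = lam n) : ∃ μ : G → ℂ, Cfsg.IsCharacter G μ ∧ μ 1 = 1 ∧ ∀ n : N, μ n = lam n := by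
  exact result' N lam hlam hinv hsyl

end Cfsg.Agent.S0864
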