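import Cfsg.Statements.S0888
import Mathlib
import Cfsg.Agent.Lib.Helper3.CharTriple5
import Cfsg.Agent.S0864
-- import your own Cfsg.Agent.* helpers here

set_option autoImplicit false
open Cfsg

namespace Cfsg.Agent.S0888

open Cfsg.Agent.Lib.Helper6 Cfsg.Agent.Lib.Helper3.CharTriple


theorem result' {G : Type*} [Group G] [Finite G] (N : Subgroup G) [hN : N.Normal] (ϑ : N → ℂ) (hϑ : Cfsg.IsIrrCharacter N ϑ) (hinv : ∀ (g : G) (n : N), ϑ ⟨g * n * g⁻¹, hN.conj_mem (n : G) n.2 g⟩ = ϑ n) (hsyl : ∀ p : ℕ, p.Prime → ∃ (P : Subgroup G) (hNP : N ≤ P) (η : P → ℂ), Nat.Coprime P.index p ∧ (∃ k : ℕ, N.relIndex P = p ^ k) ∧ Cfsg.IsIrrCharacter P η ∧ ∀ n : N, η ⟨(n : G), hNP n.2⟩ = ϑ n) : ∃ χ : G → ℂ, Cfsg.IsIrrCharacter G χ ∧ ∀ n : N, χ n = ϑ n := by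
  classical
  obtain ⟨d, ρ, hρirr, rfl⟩ := hϑ
  have hπ : Function.Surjective (pr1 N ρ (Nat.card N)) :=
    pr1_surjective N ρ _ (character_conjNormal N ρ hinv)
  have hAn : (preN N ρ).Normal := hN.comap _
  have hlam : Cfsg.IsCharacter (preN N ρ) (fun a => ((lamHom N ρ a : ℂˣ) : ℂ)) ∧
      (fun a => ((lamHom N ρ a : ℂˣ) : ℂ)) (1 : preN N ρ) = 1 := by
    refine ⟨IsIrrCharacter.isCharacter (isIrrCharacter_of_hom (lamHom N ρ)), ?_⟩
    simp
  have hlaminv : ∀ (γ : Gam N ρ (Nat.card N)) (a : preN N ρ),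
      (fun a => ((lamHom N ρ a : ℂˣ) : ℂ))
        ⟨γ * a * γ⁻¹, hAn.conj_mem (a : Gam N ρ (Nat.card N)) a.2 γ⟩
        = (fun a => ((lamHom N ρ a : ℂˣ) : ℂ)) a := by
    intro γ a
    simp only
    rw [lamHom_apply, lamHom_apply, zOf_conj]
  have hsyl' : ∀ p : ℕ, p.Prime → p ∣ orderOf (fun a => ((lamHom N ρ a : ℂˣ) : ℂ)) →
      ∃ (H : Subgroup (Gam N ρ (Nat.card N))) (hNH : preN N ρ ≤ H) (ν : H → ℂ),
        Nat.Coprime H.index p ∧ (∃ k : ℕ, (preN N ρ).relIndex H = p ^ k) ∧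
        Cfsg.IsCharacter H ν ∧ ν 1 = 1 ∧
        ∀ a : preN N ρ, ν ⟨(a : Gam N ρ (Nat.card N)), hNH a.2⟩
          = (fun a => ((lamHom N ρ a : ℂˣ) : ℂ)) a := by
    intro p hp _
    obtain ⟨P, hNP, η, hcop, ⟨k, hk⟩, hη, hηN⟩ := hsyl p hp
    obtain ⟨ν, hνchar, hν1, hνA⟩ := exists_lam_extension_of_extension N ρ hinv P hNP η hη hηN
    refine ⟨P.comap (pr1 N ρ (Nat.card N)), Subgroup.comap_mono hNP, ν, ?_, ⟨k, ?_⟩, hνchar, hν1,
      hνA⟩
    · rw [Subgroup.index_comap_of_surjective P hπ]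
      exact hcop
    · rw [Subgroup.relIndex_comap, Subgroup.map_comap_eq_self_of_surjective hπ]
      exact hk
  obtain ⟨μ, hμ, hμ1, hμA⟩ := Cfsg.Agent.S0864.result (preN N ρ)
    (fun a => ((lamHom N ρ a : ℂˣ) : ℂ)) hlam hlaminv hsyl'
  exact exists_extension_of_lam_extends N ρ hinv μ hμ hμ1 hμA





/-- Let N be a normal subgroup of the finite group G and ϑ an irreducible character of N invariant under conjugation by G. Suppose that for every prime p there are a subgroup P containing N, of index prime to p and with the index of N in P a power of p, and an irreducible character of P restricting to ϑ. Then ϑ is the restriction of an irreducible character of G. -/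
theorem result {G : Type*} [Group G] [Finite G] (N : Subgroup G) [hN : N.Normal] (ϑ : N → ℂ) (hϑ : Cfsg.IsIrrCharacter N ϑ) (hinv : ∀ (g : G) (n : N), ϑ ⟨g * n * g⁻¹, hN.conj_mem (n : G) n.2 g⟩ = ϑ n) (hsyl : ∀ p : ℕ, p.Prime → ∃ (P : Subgroup G) (hNP : N ≤ P) (η : P → ℂ), Nat.Coprime P.index p ∧ (∃ k : ℕ, N.relIndex P = p ^ k) ∧ Cfsg.IsIrrCharacter P η ∧ ∀ n : N, η ⟨(n : G), hNP n.2⟩ = ϑ n) : ∃ χ : G → ℂ, Cfsg.IsIrrCharacter G χ ∧ ∀ n : N, χ n = ϑ n := by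
  exact result' N ϑ hϑ hinv hsyl

end Cfsg.Agent.S0888
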