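import Cfsg.Statements.S4686
import Mathlib
import Cfsg.Agent.Lib.Helper6.BrSat4
import Cfsg.Agent.S5083

set_option autoImplicit false
open Cfsg

namespace Cfsg.Agent.S4686

open Cfsg.Agent.Lib.Helper6

theorem pow_ordProj_regular {H : Type*} [Group H] [Finite H] (p : ℕ) [Fact p.Prime] (t : H) :
    Cfsg.IsPRegular p (t ^ (p ^ (orderOf t).factorization p)) := by
  unfold Cfsg.IsPRegular
  have hn : orderOf t ≠ 0 := (orderOf_pos t).ne'
  have hpa : p ^ (orderOf t).factorization p ≠ 0 := pow_ne_zero _ (Fact.out : p.Prime).pos.ne'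
  rw [orderOf_pow' t hpa, Nat.gcd_eq_right (Nat.ordProj_dvd _ _)]
  exact Nat.not_dvd_ordCompl Fact.out hn


/-- Fix a prime p and a maximal ideal M of the algebraic integers containing p, a p-block B of the finite group G with maximal Brauer pair (P, e) and fusion system F on P. Then B is nilpotent (for every Brauer pair (Q, f) of B the stabilizer of f in N_G(Q) is C_G(Q) extended by a p-group) if and only if F is the inner fusion system of P: its maps from each subgroup of P are exactly the conjugations by elements of P. -/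
theorem result {G : Type*} [Group G] [Fintype G] (p : ℕ) [Fact p.Prime] (M : Ideal Cfsg.AlgInt) (hM : Cfsg.IsPModular p M) (B : Set (Cfsg.IrrCharacter G)) (P : Subgroup G) (e : Set (Cfsg.IrrCharacter (Subgroup.centralizer (P : Set G)))) (hmax : Cfsg.IsMaximalBrauerPair p M B P e) (F : Cfsg.FusionSystem P) (hF : Cfsg.IsBlockFusionSystemOn p M B P e F) : Cfsg.IsNilpotentBlock p M B ↔ ∀ Q : Subgroup G, F.Hom Q = (Cfsg.innerFusionSystem P).Hom Q := by
  classical
  have hPe := hmax.1.1
  have hB := hmax.1.2.1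
  constructor
  · intro hnil
    have hsat := blockFusion_isSaturated hM B P e F hF
    have hpg : ∀ Q : Subgroup G, Q ≤ P → IsPGroup p (F.autGroup Q) := by
      intro Q hQP
      obtain ⟨f, hf, hle⟩ := exists_subpair hM hPe hQP
      obtain ⟨T, hTdef⟩ : ∃ T : Subgroup G,
          T = stabSub (Subgroup.centralizer (Q : Set G)) f ⊓ Subgroup.normalizer (Q : Set G) :=
        ⟨_, rfl⟩
      have hT : ∀ y : G, y ∈ T ↔ y ∈ Subgroup.normalizer (Q : Set G) ∧
          Cfsg.StabilizesBlock (Subgroup.centralizer (Q : Set G)) f y := by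
        intro y
        rw [hTdef, Subgroup.mem_inf, mem_stabSub_iff]
        exact And.comm
      have hTN : T ≤ Subgroup.normalizer (Q : Set G) := fun y hy => ((hT y).mp hy).1
      have hBQ : Cfsg.IsBrauerPairOf p M B Q f :=
        (isBrauerPairOf_iff_of_chain hM B hB ⟨Q, f⟩ ⟨P, e⟩ hle).mp hmax.1
      rw [blockFusion_autGroup_eq hM B P e F hF Q f hQP hle T hT hTN]
      rintro ⟨_, t, rfl⟩
      refine ⟨(orderOf t).factorization p, ?_⟩
      apply Subtype.ext
      rw [Subgroup.coe_pow, Subgroup.coe_one]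
      change (conjActHom Q T hTN t) ^ _ = 1
      rw [← map_pow, ← MonoidHom.mem_ker, conjActHom_ker, Subgroup.mem_subgroupOf]
      have hreg := pow_ordProj_regular p t
      have htT := (hT _).mp (t ^ (p ^ (orderOf t).factorization p)).2
      apply hnil.2 Q f hBQ _ htT.1 htT.2
      unfold Cfsg.IsPRegular at hreg ⊢
      rw [Subgroup.orderOf_coe]
      exact hreg
    have := Cfsg.Agent.S5083.result p hPe.1 F hsat hpg
    intro Q
    rw [this]
  · intro hinner
    refine ⟨hB, ?_⟩
    intro Q e' hQe' x hxN hxst hxreg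
    obtain ⟨y, hy⟩ := exists_conj_subpairLE hM B P Q e e' hmax hQe'
    have hQ₁P := le_of_chain _ _ hy
    have hx'N := mem_normalizer_map_conj Q y hxN
    have hx'st : Cfsg.StabilizesBlock (Subgroup.centralizer
        ((Q.map (MulAut.conj y).toMonoidHom : Subgroup G) : Set G)) (Cfsg.conjBlock Q y e')
        (y * x * y⁻¹) := by
      rw [stabilizesBlock_conj_iff]
      have e1 : y⁻¹ * (y * x * y⁻¹) * y = x := by group
      rw [e1]
      exact hxst
    -- conjugation by `x' = y x y⁻¹` is a map of `F`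
    have hmem : Cfsg.conjHom (Q.map (MulAut.conj y).toMonoidHom) (y * x * y⁻¹)
        ∈ F.Hom (Q.map (MulAut.conj y).toMonoidHom) := by
      rw [hF.2]
      have h1 : Cfsg.SubpairLE p M
          ((Q.map (MulAut.conj y).toMonoidHom).map (MulAut.conj (y * x * y⁻¹)).toMonoidHom)
          (Cfsg.conjBlock (Q.map (MulAut.conj y).toMonoidHom) (y * x * y⁻¹)
            (Cfsg.conjBlock Q y e')) P e := by
        change Relation.ReflTransGen _ (conjPair (y * x * y⁻¹)
          ⟨Q.map (MulAut.conj y).toMonoidHom, Cfsg.conjBlock Q y e'⟩) ⟨P, e⟩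
        rw [conjPair_of_stab _ _ hx'N hx'st]
        exact hy
      exact ⟨hQ₁P, y * x * y⁻¹, fun u => rfl, le_of_chain _ _ h1, _, hy, h1⟩
    rw [hinner] at hmem
    obtain ⟨_, u, huP, hu⟩ := hmem
    -- the automorphisms induced by `x'` and `u`
    have huN : u ∈ Subgroup.normalizer ((Q.map (MulAut.conj y).toMonoidHom : Subgroup G) : Set G) := by
      apply mem_normalizer_of_mulAut _ (conjActHom _ _ le_rfl ⟨y * x * y⁻¹, hx'N⟩) u
      intro q
      rw [conjActHom_apply_coe]
      exact hu q
    have hαβ : conjActHom (Q.map (MulAut.conj y).toMonoidHom) _ le_rfl ⟨y * x * y⁻¹, hx'N⟩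
        = conjActHom (Q.map (MulAut.conj y).toMonoidHom) _ le_rfl ⟨u, huN⟩ := by
      ext q
      rw [conjActHom_apply_coe, conjActHom_apply_coe]
      exact hu q
    obtain ⟨k, hk⟩ := hPe.1 ⟨u, huP⟩
    have hk' : u ^ (p ^ k) = 1 := by
      have := congrArg Subtype.val hk
      simpa using this
    have h1 : (conjActHom (Q.map (MulAut.conj y).toMonoidHom) _ le_rfl ⟨y * x * y⁻¹, hx'N⟩)
        ^ (orderOf (y * x * y⁻¹)) = 1 := by
      rw [← map_pow]
      have : (⟨y * x * y⁻¹, hx'N⟩ : Subgroup.normalizer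
          ((Q.map (MulAut.conj y).toMonoidHom : Subgroup G) : Set G)) ^ orderOf (y * x * y⁻¹) = 1 := by
        apply Subtype.ext
        rw [Subgroup.coe_pow]
        exact pow_orderOf_eq_one _
      rw [this, map_one]
    have h2 : (conjActHom (Q.map (MulAut.conj y).toMonoidHom) _ le_rfl ⟨y * x * y⁻¹, hx'N⟩)
        ^ (p ^ k) = 1 := by
      rw [hαβ, ← map_pow]
      have : (⟨u, huN⟩ : Subgroup.normalizer
          ((Q.map (MulAut.conj y).toMonoidHom : Subgroup G) : Set G)) ^ (p ^ k) = 1 := by
        apply Subtype.ext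
        rw [Subgroup.coe_pow]
        exact hk'
      rw [this, map_one]
    have hord : orderOf (y * x * y⁻¹) = orderOf x := by
      have : y * x * y⁻¹ = MulAut.conj y x := by simp
      rw [this, MulEquiv.orderOf_eq]
    have hcop : Nat.Coprime (orderOf (y * x * y⁻¹)) (p ^ k) := by
      rw [hord]
      apply Nat.Coprime.pow_right
      exact ((Nat.Prime.coprime_iff_not_dvd Fact.out).mpr hxreg).symm
    have h3 := orderOf_dvd_of_pow_eq_one h1
    have h4 := orderOf_dvd_of_pow_eq_one h2
    have h5 : orderOf (conjActHom (Q.map (MulAut.conj y).toMonoidHom) _ le_rfl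
        ⟨y * x * y⁻¹, hx'N⟩) = 1 := by
      have := Nat.dvd_gcd h3 h4
      rw [hcop] at this
      exact Nat.dvd_one.mp this
    rw [orderOf_eq_one_iff, ← MonoidHom.mem_ker, conjActHom_ker, Subgroup.mem_subgroupOf] at h5
    have h6 := (mem_centralizer_map_conj_iff Q y _).mp h5
    have e1 : y⁻¹ * (y * x * y⁻¹) * y = x := by group
    change y⁻¹ * (y * x * y⁻¹) * y ∈ _ at h6
    rwa [e1] at h6

end Cfsg.Agent.S4686
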