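import Cfsg.Statements.S4493
import Mathlib
import Cfsg.Agent.Lib.Helper3.ItoConv
import Cfsg.Agent.Lib.Helper3.PSolvable
-- import your own Cfsg.Agent.* helpers here

set_option autoImplicit false
open Cfsg

namespace Cfsg.Agent.S4493

open Cfsg.Agent.Lib.Helper3.ItoConv


theorem result' {G : Type*} [Group G] [Finite G] (hsolv : Group.IsSolvable G) (p : ℕ) (hp : p.Prime) : (∃ P : Subgroup G, P.Normal ∧ (∀ x ∈ P, ∀ y ∈ P, x * y = y * x) ∧ IsPGroup p P ∧ ¬ p ∣ P.index) ↔ ∀ χ : Cfsg.IrrCharacter G, ¬ p ∣ Cfsg.charDegree (χ : G → ℂ) := by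
  haveI : Fact p.Prime := ⟨hp⟩
  constructor
  · rintro ⟨P, hn, hc, -, hidx⟩ χ
    exact not_dvd_charDegree_of_normal_abelian p P hn hc hidx χ
  · intro hdeg
    have hps : Cfsg.IsPSolvable p G := Cfsg.Agent.Lib.Helper3.isPSolvable_of_isSolvable p hsolv
    obtain P : Sylow p G := default
    obtain ⟨hn, hc⟩ := (sylow_normal_comm_iff p hps P).mpr hdeg
    exact ⟨P, hn, hc, P.2, P.not_dvd_index⟩





/-- Let G be a finite solvable group and p a prime. Then G has a normal abelian Sylow p-subgroup if and only if no irreducible character degree of G is divisible by p. -/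
theorem result {G : Type*} [Group G] [Finite G] (hsolv : Group.IsSolvable G) (p : ℕ) (hp : p.Prime) : (∃ P : Subgroup G, P.Normal ∧ (∀ x ∈ P, ∀ y ∈ P, x * y = y * x) ∧ IsPGroup p P ∧ ¬ p ∣ P.index) ↔ ∀ χ : Cfsg.IrrCharacter G, ¬ p ∣ Cfsg.charDegree (χ : G → ℂ) := by
  exact result' hsolv p hp

end Cfsg.Agent.S4493
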