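-- Statement S4116: a TI Hall subgroup contains every π-subgroup up to conjugacy.
import Cfsg.Statements.S4116
import Mathlib
import Cfsg.Agent.Lib.Helper1.FrobeniusCount
import Cfsg.Agent.Lib.Helper3.ConjCover
import Cfsg.Agent.S0216

set_option autoImplicit false
open Cfsg

namespace Cfsg.Agent.S4116

open scoped Pointwise
open Cfsg.Agent.Lib.Helper1

/-- Two Frobenius complements of a finite group cannot have disjoint covers. -/
theorem no_two_covers {K : Type*} [Group K] [Finite K] (D₁ D₂ : Subgroup K)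
    (h₁ : Cfsg.IsFrobeniusComplement D₁) (h₂ : Cfsg.IsFrobeniusComplement D₂)
    (hdisj : Disjoint (frobeniusCover D₁) (frobeniusCover D₂)) : False := by
  have hc₁ := card_frobeniusCover h₁
  have hc₂ := card_frobeniusCover h₂
  have hsub : frobeniusCover D₁ ∪ frobeniusCover D₂ ⊆ {x : K | x ≠ 1} := by
    rintro x (hx | hx)
    · exact hx.1
    · exact hx.1
  have hle : Nat.card (frobeniusCover D₁ ∪ frobeniusCover D₂ : Set K) ≤ Nat.card {x : K | x ≠ 1} :=
    Nat.card_mono (Set.toFinite _) hsub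
  have hunion : Nat.card (frobeniusCover D₁ ∪ frobeniusCover D₂ : Set K) =
      Nat.card (frobeniusCover D₁) + Nat.card (frobeniusCover D₂) := by
    rw [Nat.card_coe_set_eq, Nat.card_coe_set_eq, Nat.card_coe_set_eq]
    exact Set.ncard_union_eq hdisj (Set.toFinite _) (Set.toFinite _)
  have hne : Nat.card {x : K | x ≠ 1} = Nat.card K - 1 := card_subtype_ne' (1 : K)
  have hd₁ : 2 ≤ Nat.card D₁ := (Subgroup.one_lt_card_iff_ne_bot D₁).2 h₁.1
  have hd₂ : 2 ≤ Nat.card D₂ := (Subgroup.one_lt_card_iff_ne_bot D₂).2 h₂.1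
  have hi₁ := D₁.card_mul_index
  have hi₂ := D₂.card_mul_index
  have hKpos : 0 < Nat.card K := Nat.card_pos
  rw [hunion, hc₁, hc₂, hne] at hle
  have e₁ : D₁.index * (Nat.card D₁ - 1) = Nat.card K - D₁.index := by
    rw [Nat.mul_sub, mul_one, mul_comm, hi₁]
  have e₂ : D₂.index * (Nat.card D₂ - 1) = Nat.card K - D₂.index := by
    rw [Nat.mul_sub, mul_one, mul_comm, hi₂]
  rw [e₁, e₂] at hle
  have f₁ : 2 * D₁.index ≤ Nat.card K := by
    rw [← hi₁]; exact Nat.mul_le_mul_right _ hd₁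
  have f₂ : 2 * D₂.index ≤ Nat.card K := by
    rw [← hi₂]; exact Nat.mul_le_mul_right _ hd₂
  omega

section
variable {G : Type*} [Group G] [Finite G] (H : Subgroup G)

/-- The TI property for two conjugates sharing a nontrivial element. -/
theorem ti_conj (hTI : Cfsg.IsTISubset (H : Set G)) {a b z : G} (hz : z ≠ 1)
    (ha : a⁻¹ * z * a ∈ H) (hb : b⁻¹ * z * b ∈ H) :
    a⁻¹ * b ∈ Subgroup.normalizer (H : Set G) := by
  by_contra hn
  have h1 := hTI (a⁻¹ * b) hn (b⁻¹ * z * b) hb (by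
    have e : a⁻¹ * b * (b⁻¹ * z * b) * (a⁻¹ * b)⁻¹ = a⁻¹ * z * a := by group
    rw [e]; exact ha)
  apply hz
  have e : z = b * (b⁻¹ * z * b) * b⁻¹ := by group
  rw [e, h1]; group

theorem conj_mem_iff_of_normalizer {a b : G}
    (hn : a⁻¹ * b ∈ Subgroup.normalizer (H : Set G)) (w : G) :
    a⁻¹ * w * a ∈ H ↔ b⁻¹ * w * b ∈ H := by
  have := Subgroup.mem_normalizer_iff''.1 hn (a⁻¹ * w * a)
  rw [this]
  have e : (a⁻¹ * b)⁻¹ * (a⁻¹ * w * a) * (a⁻¹ * b) = b⁻¹ * w * b := by group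
  rw [e]

/-- A `π(H)`-element of the normalizer of a Hall subgroup lies in the subgroup. -/
theorem mem_of_mem_normalizer (hHall : (Nat.card H).Coprime H.index) {n : G}
    (hn : n ∈ Subgroup.normalizer (H : Set G))
    (hπ : ∀ q : ℕ, q.Prime → q ∣ orderOf n → q ∣ Nat.card H) : n ∈ H := by
  haveI : (H.subgroupOf (Subgroup.normalizer (H : Set G))).Normal := Subgroup.normal_in_normalizer
  set n' : Subgroup.normalizer (H : Set G) := ⟨n, hn⟩ with hn'
  by_contra hnH
  have hne : (QuotientGroup.mk' (H.subgroupOf (Subgroup.normalizer (H : Set G)))) n' ≠ 1 := by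
    intro h
    rw [QuotientGroup.mk'_apply, QuotientGroup.eq_one_iff, Subgroup.mem_subgroupOf] at h
    exact hnH h
  have hord : orderOf ((QuotientGroup.mk' (H.subgroupOf (Subgroup.normalizer (H : Set G)))) n') ≠ 1 := by
    rwa [Ne, orderOf_eq_one_iff]
  obtain ⟨q, hq, hqd⟩ := Nat.exists_prime_and_dvd hord
  have h1 : q ∣ orderOf n := by
    have := orderOf_map_dvd (QuotientGroup.mk' (H.subgroupOf (Subgroup.normalizer (H : Set G)))) n'
    have h2 : orderOf n' = orderOf n := Subgroup.orderOf_mk n hn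
    rw [h2] at this
    exact hqd.trans this
  have h2 : q ∣ H.index := by
    have h3 : orderOf ((QuotientGroup.mk' (H.subgroupOf (Subgroup.normalizer (H : Set G)))) n') ∣
        Nat.card (Subgroup.normalizer (H : Set G) ⧸ H.subgroupOf (Subgroup.normalizer (H : Set G))) :=
      orderOf_dvd_natCard _
    have h4 : Nat.card (Subgroup.normalizer (H : Set G) ⧸
        H.subgroupOf (Subgroup.normalizer (H : Set G))) =
        H.relIndex (Subgroup.normalizer (H : Set G)) := rfl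
    rw [h4] at h3
    exact (hqd.trans h3).trans (Subgroup.relIndex_dvd_index_of_le Subgroup.le_normalizer)
  have h3 := Nat.dvd_gcd (hπ q hq h1) h2
  rw [hHall] at h3
  exact hq.one_lt.ne' (Nat.dvd_one.1 h3)

/-- A Hall subgroup contains a conjugate of every element of prime order `p ∣ |H|`. -/
theorem exists_conj_mem_of_prime_order (hHall : (Nat.card H).Coprime H.index) {p : ℕ}
    (hp : p.Prime) (hpH : p ∣ Nat.card H) {y : G} (hy : orderOf y = p) :
    ∃ b : G, b⁻¹ * y * b ∈ H := by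
  haveI : Fact p.Prime := ⟨hp⟩
  obtain ⟨PH⟩ : Nonempty (Sylow p H) := inferInstance
  set Q₀ : Subgroup G := (PH : Subgroup H).map H.subtype with hQ₀
  have hQ₀H : Q₀ ≤ H := by
    rintro _ ⟨x, -, rfl⟩
    exact x.2
  have hQ₀p : IsPGroup p Q₀ := PH.2.map _
  obtain ⟨P, hP⟩ := hQ₀p.exists_le_sylow
  have hpidx : ¬ p ∣ H.index := by
    intro h
    have := Nat.dvd_gcd hpH h
    rw [hHall] at this
    exact hp.one_lt.ne' (Nat.dvd_one.1 this)
  have hfact : (Nat.card G).factorization p = (Nat.card H).factorization p := by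
    rw [← H.card_mul_index, Nat.factorization_mul Nat.card_pos.ne' Subgroup.index_ne_zero_of_finite]
    simp [Nat.factorization_eq_zero_of_not_dvd hpidx]
  have hcard : Nat.card Q₀ = Nat.card (P : Subgroup G) := by
    rw [P.card_eq_multiplicity, hfact, ← PH.card_eq_multiplicity]
    exact Subgroup.card_map_of_injective H.subtype_injective
  have hQ₀P : Q₀ = (P : Subgroup G) := Subgroup.eq_of_le_of_card_ge hP hcard.ge
  have hyp : IsPGroup p (Subgroup.zpowers y) := by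
    apply IsPGroup.of_card (n := 1)
    rw [Nat.card_zpowers, hy, pow_one]
  obtain ⟨P', hP'⟩ := hyp.exists_le_sylow
  obtain ⟨g, hg⟩ := MulAction.exists_smul_eq G P P'
  have hyP' : y ∈ (g • P : Sylow p G) := by
    rw [hg]; exact hP' (Subgroup.mem_zpowers y)
  rw [Cfsg.Agent.S0216.mem_smul_sylow] at hyP'
  refine ⟨g, hQ₀H ?_⟩
  rw [hQ₀P]; exact hyP'

theorem result_aux (hHall : (Nat.card H).Coprime H.index) (hTI : Cfsg.IsTISubset (H : Set G))
    (K : Subgroup G) (hK : ∀ q : ℕ, q.Prime → q ∣ Nat.card K → q ∣ Nat.card H) :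
    ∃ g : G, ∀ k ∈ K, g⁻¹ * k * g ∈ H := by
  classical
  -- elements of `K` are `π(H)`-elements
  have hπ : ∀ k ∈ K, ∀ q : ℕ, q.Prime → q ∣ orderOf k → q ∣ Nat.card H := by
    intro k hk q hq hqk
    exact hK q hq (hqk.trans (K.orderOf_dvd_natCard hk))
  have hπc : ∀ k ∈ K, ∀ a : G, ∀ q : ℕ, q.Prime → q ∣ orderOf (a⁻¹ * k * a) → q ∣ Nat.card H := by
    intro k hk a q hq hqk
    apply hπ k hk q hq
    have := orderOf_injective (MulAut.conj a⁻¹).toMonoidHom (MulEquiv.injective _) k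
    have e : orderOf (a⁻¹ * k * a) = orderOf k := by
      simpa [MulAut.conj_apply] using this
    rwa [e] at hqk
  -- every nontrivial element of `K` lies in a conjugate of `H`
  have hA : ∀ x ∈ K, x ≠ 1 → ∃ b : G, b⁻¹ * x * b ∈ H := by
    intro x hx hx1
    have ho1 : orderOf x ≠ 1 := by rwa [Ne, orderOf_eq_one_iff]
    have ho0 : orderOf x ≠ 0 := (orderOf_pos x).ne'
    obtain ⟨p, hp, hpd⟩ := Nat.exists_prime_and_dvd ho1
    set y := x ^ (orderOf x / p) with hy
    have hyo : orderOf y = p := orderOf_pow_orderOf_div ho0 hpd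
    have hy1 : y ≠ 1 := by
      intro h
      rw [h, orderOf_one] at hyo
      exact hp.one_lt.ne hyo
    obtain ⟨b, hb⟩ := exists_conj_mem_of_prime_order H hHall hp (hπ x hx p hp hpd) hyo
    refine ⟨b, ?_⟩
    have hcomm : x⁻¹ * y * x = y := by
      have : Commute x y := (Commute.refl x).pow_right _
      rw [mul_assoc, ← this.eq, inv_mul_cancel_left]
    have hb' : (x * b)⁻¹ * y * (x * b) ∈ H := by
      have e : (x * b)⁻¹ * y * (x * b) = b⁻¹ * (x⁻¹ * y * x) * b := by group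
      rw [e, hcomm]; exact hb
    have hn := ti_conj H hTI hy1 hb hb'
    have e : b⁻¹ * (x * b) = b⁻¹ * x * b := by group
    rw [e] at hn
    exact mem_of_mem_normalizer H hHall hn (hπc x hx b)
  -- the subgroups `D_a`
  let D : G → Subgroup K := fun a =>
    { carrier := {k : K | a⁻¹ * (k : G) * a ∈ H}
      one_mem' := by simp
      mul_mem' := fun {k₁ k₂} h₁ h₂ => by
        have e : a⁻¹ * ((k₁ * k₂ : K) : G) * a = (a⁻¹ * (k₁ : G) * a) * (a⁻¹ * (k₂ : G) * a) := by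
          rw [Subgroup.coe_mul]; group
        show a⁻¹ * ((k₁ * k₂ : K) : G) * a ∈ H
        rw [e]; exact H.mul_mem h₁ h₂
      inv_mem' := fun {k} h => by
        have e : a⁻¹ * ((k⁻¹ : K) : G) * a = (a⁻¹ * (k : G) * a)⁻¹ := by
          rw [Subgroup.coe_inv]; group
        show a⁻¹ * ((k⁻¹ : K) : G) * a ∈ H
        rw [e]; exact H.inv_mem h }
  have hD : ∀ (a : G) (k : K), k ∈ D a ↔ a⁻¹ * (k : G) * a ∈ H := fun a k => Iff.rfl
  -- `D a` is a Frobenius complement unless trivial or everything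
  have hB : ∀ a : G, D a ≠ ⊥ → D a ≠ ⊤ → Cfsg.IsFrobeniusComplement (D a) := by
    intro a h0 h1
    refine ⟨h0, h1, ?_⟩
    intro k hk
    rw [eq_bot_iff]
    intro z hz
    rw [Subgroup.mem_bot]
    by_contra hz1
    obtain ⟨hz₁, hz₂⟩ := Subgroup.mem_inf.1 hz
    rw [mem_conj_smul_iff'] at hz₂
    rw [hD] at hz₁ hz₂
    have hz1' : (z : G) ≠ 1 := fun h => hz1 (Subtype.ext h)
    have hz₂' : (k * a)⁻¹ * (z : G) * (k * a) ∈ H := by
      have e : (k * a)⁻¹ * (z : G) * ((k : G) * a) = a⁻¹ * ((k⁻¹ * z * k : K) : G) * a := by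
        simp only [Subgroup.coe_mul, Subgroup.coe_inv]; group
      rw [e]; exact hz₂
    have hn := ti_conj H hTI hz1' hz₁ hz₂'
    have e : a⁻¹ * ((k : G) * a) = a⁻¹ * (k : G) * a := by group
    rw [e] at hn
    exact hk ((hD a k).2 (mem_of_mem_normalizer H hHall hn (hπc k k.2 a)))
  by_cases hKbot : K = ⊥
  · refine ⟨1, ?_⟩
    intro k hk
    rw [hKbot, Subgroup.mem_bot] at hk
    rw [hk]; simp
  obtain ⟨x₁, hx₁K, hx₁⟩ : ∃ x ∈ K, x ≠ 1 := by
    by_contra h
    push Not at h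
    apply hKbot
    rw [eq_bot_iff]
    intro x hx
    exact Subgroup.mem_bot.2 (h x hx)
  obtain ⟨a, ha⟩ := hA x₁ hx₁K hx₁
  by_cases hDa : D a = ⊤
  · refine ⟨a, ?_⟩
    intro k hk
    have : (⟨k, hk⟩ : K) ∈ D a := by rw [hDa]; exact Subgroup.mem_top _
    exact this
  have hDa0 : D a ≠ ⊥ := by
    intro h
    have : (⟨x₁, hx₁K⟩ : K) ∈ D a := ha
    rw [h, Subgroup.mem_bot] at this
    exact hx₁ (congrArg Subtype.val this)
  have hFa := hB a hDa0 hDa
  -- an element outside all conjugates of `D a`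
  obtain ⟨y, hy⟩ : ∃ y : K, ∀ c : K, c⁻¹ * y * c ∉ D a := by
    by_contra h
    push Not at h
    exact hDa (Cfsg.Agent.Lib.Helper3.eq_top_of_conj_cover (D a) h)
  have hy1 : (y : G) ≠ 1 := by
    intro h
    have hy1' : y = 1 := Subtype.ext h
    apply hy 1
    rw [hy1']
    simp
  obtain ⟨b, hb⟩ := hA y y.2 hy1
  by_cases hDb : D b = ⊤
  · refine ⟨b, ?_⟩
    intro k hk
    have : (⟨k, hk⟩ : K) ∈ D b := by rw [hDb]; exact Subgroup.mem_top _
    exact this
  have hDb0 : D b ≠ ⊥ := by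
    intro h
    have : y ∈ D b := hb
    rw [h, Subgroup.mem_bot] at this
    exact hy1 (congrArg Subtype.val this)
  have hFb := hB b hDb0 hDb
  exfalso
  apply no_two_covers (D a) (D b) hFa hFb
  rw [Set.disjoint_left]
  rintro z ⟨hz1, k₁, hk₁⟩ ⟨-, k₂, hk₂⟩
  rw [mem_conj_smul_iff', hD] at hk₁ hk₂
  have hz1' : (z : G) ≠ 1 := fun h => hz1 (Subtype.ext h)
  have h₁ : ((k₁ : G) * a)⁻¹ * (z : G) * ((k₁ : G) * a) ∈ H := by
    have e : ((k₁ : G) * a)⁻¹ * (z : G) * ((k₁ : G) * a) = a⁻¹ * ((k₁⁻¹ * z * k₁ : K) : G) * a := by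
      simp only [Subgroup.coe_mul, Subgroup.coe_inv]; group
    rw [e]; exact hk₁
  have h₂ : ((k₂ : G) * b)⁻¹ * (z : G) * ((k₂ : G) * b) ∈ H := by
    have e : ((k₂ : G) * b)⁻¹ * (z : G) * ((k₂ : G) * b) = b⁻¹ * ((k₂⁻¹ * z * k₂ : K) : G) * b := by
      simp only [Subgroup.coe_mul, Subgroup.coe_inv]; group
    rw [e]; exact hk₂
  have hn := ti_conj H hTI hz1' h₁ h₂
  have hiff := conj_mem_iff_of_normalizer H hn ((k₂ : G) * (y : G) * (k₂ : G)⁻¹)
  have h3 : ((k₂ : G) * b)⁻¹ * ((k₂ : G) * (y : G) * (k₂ : G)⁻¹) * ((k₂ : G) * b) ∈ H := by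
    have e : ((k₂ : G) * b)⁻¹ * ((k₂ : G) * (y : G) * (k₂ : G)⁻¹) * ((k₂ : G) * b) =
        b⁻¹ * (y : G) * b := by group
    rw [e]; exact hb
  have h4 := hiff.2 h3
  apply hy (k₂⁻¹ * k₁)
  rw [hD]
  have e : a⁻¹ * (((k₂⁻¹ * k₁)⁻¹ * y * (k₂⁻¹ * k₁) : K) : G) * a =
      ((k₁ : G) * a)⁻¹ * ((k₂ : G) * (y : G) * (k₂ : G)⁻¹) * ((k₁ : G) * a) := by
    simp only [Subgroup.coe_mul, Subgroup.coe_inv]; group
  rw [e]; exact h4

end

theorem result {G : Type*} [Group G] [Finite G] (H : Subgroup G)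
    (hHall : (Nat.card H).Coprime H.index) (hTI : Cfsg.IsTISubset (H : Set G))
    (K : Subgroup G) (hK : ∀ q : ℕ, q.Prime → q ∣ Nat.card K → q ∣ Nat.card H) :
    ∃ g : G, K ≤ H.map (MulAut.conj g).toMonoidHom := by
  obtain ⟨g, hg⟩ := result_aux H hHall hTI K hK
  refine ⟨g, ?_⟩
  intro k hk
  refine ⟨g⁻¹ * k * g, hg k hk, ?_⟩
  simp only [MulEquiv.coe_toMonoidHom, MulAut.conj_apply]
  group

end Cfsg.Agent.S4116
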