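import Cfsg.Statements.S4117
import Mathlib
import Cfsg.Agent.Lib.Helper1.CoprimeSylow
-- import your own Cfsg.Agent.* helpers here

set_option autoImplicit false
open Cfsg

namespace Cfsg.Agent.S4117

open Cfsg.Agent.Lib.Helper1
open Pointwise
variable {G A : Type*} [Group G] [Group A] [MulDistribMulAction A G]


/-- Coprime action: existence of an invariant Sylow subgroup (external version). -/
theorem exists_invariant_sylow {G A : Type*} [Group G] [Finite G] [Group A] [Finite A]
    [MulDistribMulAction A G] (hcop : (Nat.card A).Coprime (Nat.card G))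
    (hsolv : Group.IsSolvable G) (p : ℕ) [Fact p.Prime] :
    ∃ P : Sylow p G, ∀ (a : A) (g : G), g ∈ P → a • g ∈ P := by
  let φ : A →* MulAut G := MulDistribMulAction.toMulAut A G
  haveI : Finite (G ⋊[φ] A) := Finite.of_equiv _ (SemidirectProduct.equivProd (φ := φ)).symm
  set K : Subgroup (G ⋊[φ] A) := (SemidirectProduct.inl : G →* G ⋊[φ] A).range with hK
  set A' : Subgroup (G ⋊[φ] A) := (SemidirectProduct.inr : A →* G ⋊[φ] A).range with hA'
  haveI hKn : K.Normal := by
    rw [hK, SemidirectProduct.range_inl_eq_ker_rightHom]; infer_instance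
  have hAK : A' ≤ Subgroup.normalizer (K : Set (G ⋊[φ] A)) := by
    rw [Subgroup.normalizer_eq_top_iff.2 hKn]; exact le_top
  have hcK : Nat.card K = Nat.card G :=
    Nat.card_congr (MonoidHom.ofInjective SemidirectProduct.inl_injective).toEquiv.symm
  have hcA : Nat.card A' = Nat.card A :=
    Nat.card_congr (MonoidHom.ofInjective SemidirectProduct.inr_injective).toEquiv.symm
  have hcop' : (Nat.card A').Coprime (Nat.card K) := by rw [hcK, hcA]; exact hcop
  have hsolvK : Group.IsSolvable K :=
    solvable_of_surjective (f := (SemidirectProduct.inl : G →* G ⋊[φ] A).rangeRestrict)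
      (MonoidHom.rangeRestrict_surjective _)
  obtain ⟨P', hP'⟩ := coprime_exists_invariant_sylow A' K hAK hcop' (Or.inr hsolvK) p
  let ϕ : G →* K := (SemidirectProduct.inl : G →* G ⋊[φ] A).rangeRestrict
  have hϕinj : Function.Injective ϕ := by
    intro x y hxy
    apply SemidirectProduct.inl_injective (φ := φ)
    exact congrArg Subtype.val hxy
  have hϕsurj : Function.Surjective ϕ := MonoidHom.rangeRestrict_surjective _
  have hrange : (P' : Subgroup K) ≤ ϕ.range := by
    rw [MonoidHom.range_eq_top.2 hϕsurj]; exact le_top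
  refine ⟨P'.comapOfInjective ϕ hϕinj hrange, ?_⟩
  intro a g hg
  have hg' : ϕ g ∈ (P' : Subgroup K) := hg
  show ϕ (a • g) ∈ (P' : Subgroup K)
  have h1 : (SemidirectProduct.inl g : G ⋊[φ] A) ∈ (P' : Subgroup K).map K.subtype :=
    ⟨ϕ g, hg', rfl⟩
  have h2 : (SemidirectProduct.inr a : G ⋊[φ] A) ∈
      Subgroup.normalizer (((P' : Subgroup K).map K.subtype : Subgroup (G ⋊[φ] A)) : Set (G ⋊[φ] A)) :=
    hP' ⟨a, rfl⟩
  have h3 := (Subgroup.mem_normalizer_iff.1 h2 _).1 h1
  have h4 : (SemidirectProduct.inl (a • g) : G ⋊[φ] A) =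
      SemidirectProduct.inr a * SemidirectProduct.inl g * (SemidirectProduct.inr a)⁻¹ := by
    have := SemidirectProduct.inl_aut (φ := φ) a g
    rw [map_inv] at this
    exact this
  rw [← h4] at h3
  obtain ⟨x, hx, hxe⟩ := h3
  have : x = ϕ (a • g) := Subtype.ext hxe
  rw [← this]
  exact hx




/-- Conjugation acts on a cyclic normal subgroup by a power map. -/
theorem conj_power_map {K : Type*} [Group K] (D : Subgroup K) [D.Normal] [IsCyclic D] (k : K) :
    ∃ m : ℤ, ∀ c ∈ D, k * c * k⁻¹ = c ^ m := by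
  obtain ⟨d₀, hd₀⟩ := IsCyclic.exists_generator (α := D)
  have h1 : k * (d₀ : K) * k⁻¹ ∈ D := Subgroup.Normal.conj_mem inferInstance _ d₀.2 k
  obtain ⟨m, hm⟩ := hd₀ ⟨_, h1⟩
  have hm' : (d₀ : K) ^ m = k * (d₀ : K) * k⁻¹ := by
    have := congrArg Subtype.val hm
    simpa using this
  refine ⟨m, fun c hc => ?_⟩
  obtain ⟨j, hj⟩ := hd₀ ⟨c, hc⟩
  have hj' : (d₀ : K) ^ j = c := by
    have := congrArg Subtype.val hj
    simpa using this
  rw [← hj']
  calc k * (d₀ : K) ^ j * k⁻¹ = (k * (d₀ : K) * k⁻¹) ^ j := by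
        rw [conj_zpow]
    _ = ((d₀ : K) ^ m) ^ j := by rw [hm']
    _ = ((d₀ : K) ^ j) ^ m := by rw [← zpow_mul, ← zpow_mul, mul_comm]


/-- The reduced case: if `K = [K, A]` then `K` is cyclic and `A` has no nontrivial fixed point. -/
theorem reduced {K A : Type*} [Group K] [Finite K] [Group A] [Finite A] [MulDistribMulAction A K]
    (hcop : (Nat.card A).Coprime (Nat.card K)) [IsZGroup K]
    (hgen : Subgroup.closure {y : K | ∃ (a : A) (k : K), y = k⁻¹ * a • k} = ⊤) :
    IsCyclic K ∧ ∀ c : K, (∀ a : A, a • c = c) → c = 1 := by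
  -- the commutator subgroup is cyclic and invariant
  haveI hDc : IsCyclic (commutator K) := IsZGroup.isCyclic_commutator K
  have hDinv : ∀ (a : A) (c : K), c ∈ commutator K → a • c ∈ commutator K := by
    intro a c hc
    have h1 := (inferInstance : (commutator K).Characteristic).fixed (MulDistribMulAction.toMulAut A K a⁻¹)
    have h2 : a • c ∈ (commutator K).comap (MulDistribMulAction.toMulAut A K a⁻¹).toMonoidHom := by
      rw [Subgroup.mem_comap]
      show a⁻¹ • (a • c) ∈ commutator K
      rw [inv_smul_smul]; exact hc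
    rwa [h1] at h2
  -- generators centralize the commutator subgroup
  have hcent : ∀ y ∈ {y : K | ∃ (a : A) (k : K), y = k⁻¹ * a • k},
      y ∈ Subgroup.centralizer ((commutator K : Subgroup K) : Set K) := by
    rintro y ⟨a, k, rfl⟩
    rw [Subgroup.mem_centralizer_iff]
    intro c hc
    obtain ⟨m, hm⟩ := conj_power_map (commutator K) k
    have hc' : a⁻¹ • c ∈ commutator K := hDinv a⁻¹ c hc
    have h1 := hm _ hc'
    have h2 : (a • k) * c * (a • k)⁻¹ = c ^ m := by
      have := congrArg (fun z => a • z) h1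
      simp only [smul_mul', smul_inv', smul_inv_smul, smul_zpow'] at this
      exact this
    have h3 : (a • k) * c * (a • k)⁻¹ = k * c * k⁻¹ := by rw [h2, hm c hc]
    calc c * (k⁻¹ * a • k) = k⁻¹ * (k * c * k⁻¹) * (a • k) := by group
      _ = k⁻¹ * ((a • k) * c * (a • k)⁻¹) * (a • k) := by rw [h3]
      _ = k⁻¹ * a • k * c := by group
  have hDZ : commutator K ≤ Subgroup.center K := by
    have h1 : (⊤ : Subgroup K) ≤ Subgroup.centralizer ((commutator K : Subgroup K) : Set K) := by
      rw [← hgen, Subgroup.closure_le]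
      exact hcent
    intro c hc
    rw [Subgroup.mem_center_iff]
    intro k
    have := h1 (Subgroup.mem_top k)
    rw [Subgroup.mem_centralizer_iff] at this
    exact (this c hc).symm
  -- `K` is commutative
  haveI : IsCyclic (Abelianization K) := IsZGroup.isCyclic_abelianization
  have hcomm : ∀ x y : K, x * y = y * x :=
    commutative_of_cyclic_center_quotient (Abelianization.of (G := K))
      (by rw [Abelianization.ker_of]; exact hDZ)
  letI instC : CommGroup K := { (inferInstance : Group K) with mul_comm := hcomm }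
  haveI : Group.IsNilpotent K := CommGroup.isNilpotent
  refine ⟨inferInstance, ?_⟩
  -- the norm map
  classical
  haveI : Fintype A := Fintype.ofFinite A
  let θ : K →* K :=
    { toFun := fun k => ∏ a : A, a • k
      map_one' := by simp
      map_mul' := by
        intro x y
        simp only [smul_mul']
        exact Finset.prod_mul_distrib }
  have hθ : ∀ (a : A) (k : K), θ (a • k) = θ k := by
    intro a k
    show ∏ b : A, b • a • k = ∏ b : A, b • k
    simp only [smul_smul]
    exact Fintype.prod_equiv (Equiv.mulRight a) _ _ (fun b => rfl)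
  have hker : ∀ k : K, θ k = 1 := by
    have h1 : (⊤ : Subgroup K) ≤ θ.ker := by
      rw [← hgen, Subgroup.closure_le]
      rintro y ⟨a, k, rfl⟩
      show θ (k⁻¹ * a • k) = 1
      rw [map_mul, map_inv, hθ, inv_mul_cancel]
    intro k
    exact h1 (Subgroup.mem_top k)
  intro c hc
  have h1 : θ c = c ^ Nat.card A := by
    show ∏ a : A, a • c = c ^ Nat.card A
    simp only [hc, Finset.prod_const, Finset.card_univ, Nat.card_eq_fintype_card]
  rw [hker] at h1
  have h2 : orderOf c ∣ Nat.card A := orderOf_dvd_of_pow_eq_one h1.symm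
  have h3 : orderOf c ∣ Nat.card K := orderOf_dvd_natCard c
  have h4 : orderOf c = 1 := Nat.eq_one_of_dvd_coprimes hcop h2 h3
  exact orderOf_eq_one_iff.1 h4




/-- The commutator subgroup `[G, A]`. -/
def commGA (G A : Type*) [Group G] [Group A] [MulDistribMulAction A G] : Subgroup G :=
  Subgroup.closure {y : G | ∃ (a : A) (g : G), y = g⁻¹ * a • g}


theorem commGA_invariant (a : A) (x : G) (hx : x ∈ commGA G A) : a • x ∈ commGA G A := by
  unfold commGA at hx ⊢
  induction hx using Subgroup.closure_induction with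
  | mem y hy =>
    obtain ⟨b, g, rfl⟩ := hy
    apply Subgroup.subset_closure
    refine ⟨a * b * a⁻¹, a • g, ?_⟩
    rw [smul_mul', smul_inv', mul_smul, mul_smul, inv_smul_smul]
  | one => rw [smul_one]; exact Subgroup.one_mem _
  | mul x y _ _ ihx ihy => rw [smul_mul']; exact Subgroup.mul_mem _ ihx ihy
  | inv x _ ih => rw [smul_inv']; exact Subgroup.inv_mem _ ih


theorem commGA_normal : (commGA G A).Normal := by
  constructor
  intro n hn h
  unfold commGA at hn ⊢
  induction hn using Subgroup.closure_induction with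
  | mem y hy =>
    obtain ⟨a, g, rfl⟩ := hy
    have e : h * (g⁻¹ * a • g) * h⁻¹ =
        ((g * h⁻¹)⁻¹ * a • (g * h⁻¹)) * ((h⁻¹)⁻¹ * a • h⁻¹)⁻¹ := by
      rw [smul_mul']
      group
    rw [e]
    exact Subgroup.mul_mem _ (Subgroup.subset_closure ⟨a, g * h⁻¹, rfl⟩)
      (Subgroup.inv_mem _ (Subgroup.subset_closure ⟨a, h⁻¹, rfl⟩))
  | one => simp
  | mul x y _ _ ihx ihy =>
    have e : h * (x * y) * h⁻¹ = (h * x * h⁻¹) * (h * y * h⁻¹) := by group
    rw [e]; exact Subgroup.mul_mem _ ihx ihy
  | inv x _ ih =>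
    have e : h * x⁻¹ * h⁻¹ = (h * x * h⁻¹)⁻¹ := by group
    rw [e]; exact Subgroup.inv_mem _ ih


/-- The induced action on an invariant subgroup. -/
def subAct (H : Subgroup G) (hH : ∀ (a : A) (g : G), g ∈ H → a • g ∈ H) :
    MulDistribMulAction A ↥H where
  smul a g := ⟨a • (g : G), hH a g g.2⟩
  one_smul g := Subtype.ext (one_smul A (g : G))
  mul_smul a b g := Subtype.ext (mul_smul a b (g : G))
  smul_mul a g h := Subtype.ext (smul_mul' a (g : G) (h : G))
  smul_one a := Subtype.ext (smul_one a)


/-- An invariant cyclic Sylow subgroup is centralized or contained in the commutator. -/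
theorem sylow_dichotomy [Finite G] [Finite A] (hcop : (Nat.card A).Coprime (Nat.card G)) {p : ℕ}
    [Fact p.Prime] (P : Sylow p G) [IsCyclic (P : Subgroup G)]
    (hP : ∀ (a : A) (g : G), g ∈ P → a • g ∈ P) :
    (P : Subgroup G) ≤ FixedPoints.subgroup A G ∨ (P : Subgroup G) ≤ commGA G A := by
  letI := subAct (P : Subgroup G) hP
  have hc : (Nat.card (P : Subgroup G)).Coprime (Nat.card A) :=
    Nat.Coprime.coprime_dvd_left (Subgroup.card_subgroup_dvd_card _) hcop.symm
  rcases IsPGroup.smul_mul_inv_trivial_or_surjective (G := ↥(P : Subgroup G)) P.isPGroup'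
    (K := A) hc with h | h
  · left
    intro g hg a
    have := h ⟨g, hg⟩ a
    have h2 : a • g * g⁻¹ = 1 := congrArg Subtype.val this
    exact mul_inv_eq_one.1 h2
  · right
    intro g hg
    obtain ⟨k, q, hq⟩ := h ⟨g, hg⟩
    have h2 : k • (q : G) * (q : G)⁻¹ = g := congrArg Subtype.val hq
    have e : g = (((q : G)⁻¹)⁻¹ * k • (q : G)⁻¹)⁻¹ := by
      rw [← h2, smul_inv']; group
    rw [e]
    exact Subgroup.inv_mem _ (Subgroup.subset_closure ⟨k, (q : G)⁻¹, rfl⟩)





theorem main {G A : Type*} [Group G] [Finite G] [Group A] [Finite A] [MulDistribMulAction A G]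
    (hcop : (Nat.card A).Coprime (Nat.card G))
    (hcyc : ∀ (p : ℕ) [Fact p.Prime] (P : Sylow p G), IsCyclic (P : Subgroup G)) :
    (Nat.card (FixedPoints.subgroup A G)).Coprime (Nat.card G / Nat.card (FixedPoints.subgroup A G)) ∧
    IsCyclic (commGA G A) ∧ (commGA G A).Normal ∧
    ((commGA G A : Subgroup G) : Set G) ∩ (FixedPoints.subgroup A G : Subgroup G) = {1} ∧
    commGA G A ⊔ FixedPoints.subgroup A G = ⊤ := by
  haveI hZ : IsZGroup G := ⟨fun p hp P => by haveI := Fact.mk hp; exact hcyc p P⟩
  have hsolv : Group.IsSolvable G := inferInstance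
  set K := commGA G A with hK
  set C := FixedPoints.subgroup A G with hC
  haveI hKn : K.Normal := commGA_normal
  -- invariant Sylow subgroups
  have hsyl : ∀ (p : ℕ) [Fact p.Prime], ∃ P : Sylow p G, (P : Subgroup G) ≤ C ∨ (P : Subgroup G) ≤ K := by
    intro p _
    obtain ⟨P, hP⟩ := exists_invariant_sylow (A := A) hcop hsolv p
    haveI := hcyc p P
    exact ⟨P, sylow_dichotomy hcop P hP⟩
  -- `G = K C`
  have hsup : K ⊔ C = ⊤ := by
    rw [← Subgroup.index_eq_one, Nat.eq_one_iff_not_exists_prime_dvd]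
    intro p hp hpd
    haveI := Fact.mk hp
    obtain ⟨P, hP⟩ := hsyl p
    have hle : (P : Subgroup G) ≤ K ⊔ C := by
      rcases hP with h | h
      · exact h.trans le_sup_right
      · exact h.trans le_sup_left
    exact P.not_dvd_index (dvd_trans hpd (Subgroup.index_dvd_of_le hle))
  -- `K = [K, A]`
  letI := subAct K (fun a g hg => commGA_invariant a g hg)
  have hgen : Subgroup.closure {y : K | ∃ (a : A) (k : K), y = k⁻¹ * a • k} = ⊤ := by
    have hle : K ≤ (Subgroup.closure {y : K | ∃ (a : A) (k : K), y = k⁻¹ * a • k}).map K.subtype := by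
      have hKdef : K = Subgroup.closure {y : G | ∃ (a : A) (g : G), y = g⁻¹ * a • g} := rfl
      refine le_of_eq_of_le hKdef ?_
      rw [Subgroup.closure_le]
      rintro y ⟨a, g, rfl⟩
      have hg : g ∈ ((K ⊔ C : Subgroup G) : Set G) := by rw [hsup]; trivial
      rw [Subgroup.normal_mul] at hg
      obtain ⟨k, hk, c, hc, hkc⟩ := hg
      have hkc' : k * c = g := hkc
      have hcfix : a • c = c := hc a
      have hk' : c⁻¹ * k * c ∈ K := by
        have := hKn.conj_mem k hk c⁻¹
        simpa using this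
      refine ⟨(⟨c⁻¹ * k * c, hk'⟩ : K)⁻¹ * a • (⟨c⁻¹ * k * c, hk'⟩ : K),
        Subgroup.subset_closure ⟨a, _, rfl⟩, ?_⟩
      show (c⁻¹ * k * c)⁻¹ * a • (c⁻¹ * k * c) = g⁻¹ * a • g
      rw [← hkc', smul_mul', smul_mul', smul_mul', smul_inv', hcfix]
      group
    rw [eq_top_iff]
    intro x _
    obtain ⟨x', hx', hxe⟩ := hle x.2
    have : x' = x := Subtype.ext hxe
    rwa [← this]
  have hcopK : (Nat.card A).Coprime (Nat.card K) :=
    Nat.Coprime.coprime_dvd_right (Subgroup.card_subgroup_dvd_card K) hcop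
  obtain ⟨hKcyc, hKfix⟩ := reduced hcopK hgen
  -- `K ∩ C = 1`
  have hinf : K ⊓ C = ⊥ := by
    rw [eq_bot_iff]
    rintro x ⟨hxK, hxC⟩
    have h1 := hKfix ⟨x, hxK⟩ (fun a => Subtype.ext (hxC a))
    rw [Subgroup.mem_bot]
    exact congrArg Subtype.val h1
  -- orders
  have hKidx : K.index = Nat.card C := by
    have h1 : K.relIndex (C ⊔ K) = K.relIndex C := Subgroup.relIndex_sup_right C K
    rw [sup_comm, hsup, Subgroup.relIndex_top_right] at h1
    rw [h1, ← Subgroup.inf_relIndex_right, hinf, Subgroup.relIndex_bot_left]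
  have hcard : Nat.card G = Nat.card K * Nat.card C := by
    rw [← hKidx]; exact (Subgroup.card_mul_index K).symm
  have hCidx : C.index = Nat.card K := by
    have h1 := Subgroup.card_mul_index C
    rw [hcard, mul_comm (Nat.card K)] at h1
    exact Nat.eq_of_mul_eq_mul_left Nat.card_pos h1
  refine ⟨?_, hKcyc, hKn, ?_, hsup⟩
  · have hdiv : Nat.card G / Nat.card C = Nat.card K := by
      rw [hcard]; exact Nat.mul_div_cancel _ Nat.card_pos
    rw [hdiv]
    apply Nat.coprime_of_dvd
    intro p hp hpC hpK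
    haveI := Fact.mk hp
    obtain ⟨P, hP⟩ := hsyl p
    rcases hP with h | h
    · apply P.not_dvd_index
      have := Subgroup.index_dvd_of_le h
      rw [hCidx] at this
      exact dvd_trans hpK this
    · apply P.not_dvd_index
      have := Subgroup.index_dvd_of_le h
      rw [hKidx] at this
      exact dvd_trans hpC this
  · ext x
    constructor
    · rintro ⟨hxK, hxC⟩
      have : x ∈ K ⊓ C := ⟨hxK, hxC⟩
      rw [hinf, Subgroup.mem_bot] at this
      exact this
    · intro hx
      rw [Set.mem_singleton_iff] at hx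
      rw [hx]
      exact ⟨K.one_mem, C.one_mem⟩





/-- Let A be a finite group acting on the finite group G by automorphisms with the orders of A and G coprime, and suppose every Sylow subgroup of G is cyclic. Then the fixed-point subgroup C_G(A) is a Hall subgroup of G (its order is coprime to its index), the subgroup [G, A] generated by the elements g⁻¹·a(g) is cyclic and normal with [G, A] ∩ C_G(A) = 1 and [G, A]·C_G(A) = G. -/
theorem result {G A : Type*} [Group G] [Finite G] [Group A] [Finite A]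
    [MulDistribMulAction A G] (hcop : (Nat.card A).Coprime (Nat.card G))
    (hcyc : ∀ (p : ℕ) [Fact p.Prime] (P : Sylow p G), IsCyclic (P : Subgroup G)) :
    (Nat.card (MulAction.fixedPoints A G : Set G)).Coprime (Nat.card G / Nat.card (MulAction.fixedPoints A G : Set G)) ∧
    IsCyclic (Subgroup.closure {y : G | ∃ (a : A) (g : G), y = g⁻¹ * a • g}) ∧
    (Subgroup.closure {y : G | ∃ (a : A) (g : G), y = g⁻¹ * a • g}).Normal ∧
    (Subgroup.closure {y : G | ∃ (a : A) (g : G), y = g⁻¹ * a • g} : Set G) ∩ MulAction.fixedPoints A G = {1} ∧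
    Subgroup.closure {y : G | ∃ (a : A) (g : G), y = g⁻¹ * a • g} ⊔ Subgroup.closure (MulAction.fixedPoints A G) = ⊤ := by
  obtain ⟨h1, h2, h3, h4, h5⟩ := main hcop hcyc
  have e : Subgroup.closure (MulAction.fixedPoints A G) = FixedPoints.subgroup A G :=
    Subgroup.closure_eq (FixedPoints.subgroup A G)
  refine ⟨h1, h2, h3, h4, ?_⟩
  rw [e]
  exact h5

end Cfsg.Agent.S4117
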