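import Mathlib
import Cfsg.Statements.S1475
import Cfsg.Agent.Lib.Lead.FrobNorm
import Cfsg.Agent.Lib.Helper3.SolvableMin
import Cfsg.Agent.Lib.Helper1.Hall

set_option autoImplicit false
open Cfsg

namespace Cfsg.Agent.S1475

/-- In a group all of whose elements have prime power order, commuting elements of coprime
orders cannot both be nontrivial. -/
theorem eppo_commute {G : Type*} [Group G] [Finite G]
    (h : ∀ g : G, IsPrimePow (orderOf g) ∨ g = 1)
    (a b : G) (hab : a * b = b * a) (hcop : (orderOf a).Coprime (orderOf b)) :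
    a = 1 ∨ b = 1 := by
  have hc : Commute a b := hab
  have ho := hc.orderOf_mul_eq_mul_orderOf_of_coprime hcop
  rcases h (a * b) with hpp | h1
  · rw [ho] at hpp
    have := (Nat.Coprime.isPrimePow_dvd_mul hcop hpp).mp dvd_rfl
    rcases this with h2 | h2
    · right
      have hpos : 0 < orderOf a := orderOf_pos a
      have h3 : orderOf a * orderOf b ∣ orderOf a * 1 := by simpa using h2
      have h4 : orderOf b ∣ 1 := Nat.dvd_of_mul_dvd_mul_left hpos h3
      exact orderOf_eq_one_iff.mp (Nat.dvd_one.mp h4)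
    · left
      have hpos : 0 < orderOf b := orderOf_pos b
      have h3 : orderOf a * orderOf b ∣ 1 * orderOf b := by simpa using h2
      have h4 : orderOf a ∣ 1 := Nat.dvd_of_mul_dvd_mul_right hpos h3
      exact orderOf_eq_one_iff.mp (Nat.dvd_one.mp h4)
  · rw [h1, orderOf_one] at ho
    left
    have : orderOf a ∣ 1 := ⟨orderOf b, ho⟩
    exact orderOf_eq_one_iff.mp (Nat.dvd_one.mp this)

/-- Let G be a finite solvable group such that the order of every element is a prime power (1 included). Then at most two distinct primes divide the order of G. -/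
theorem result {G : Type*} [Group G] [Finite G] [Group.IsSolvable G] (h : ∀ g : G, IsPrimePow (orderOf g) ∨ g = 1) :
    (Nat.card G).primeFactors.card ≤ 2 := by
  classical
  by_contra hcon
  push Not at hcon
  have hG0 : Nat.card G ≠ 0 := Nat.card_pos.ne'
  obtain ⟨a, ha, b, hb, c, hc, hab, hac, hbc⟩ := Finset.two_lt_card.mp hcon
  haveI : Nontrivial G := by
    by_contra hnt
    rw [not_nontrivial_iff_subsingleton] at hnt
    have : Nat.card G = 1 := Nat.card_eq_one_iff_unique.mpr ⟨hnt, ⟨1⟩⟩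
    rw [this] at hcon; simp at hcon
  obtain ⟨p, V, hp, hVn, hV1, hVp, hVc⟩ :=
    Cfsg.Agent.Lib.Helper3.exists_normal_abelian_pgroup G inferInstance
  haveI := hVn
  set m := ordCompl[p] (Nat.card G) with hm
  have hmn : Nat.card G = m * ordProj[p] (Nat.card G) := by
    rw [mul_comm]; exact (Nat.ordProj_mul_ordCompl_eq_self _ _).symm
  have hpm : p.Coprime m := Nat.coprime_ordCompl hp hG0
  have hcop : m.Coprime (ordProj[p] (Nat.card G)) := (Nat.Coprime.pow_left _ hpm).symm
  obtain ⟨K, hK⟩ := Cfsg.Agent.Lib.Helper1.hall_exists m _ hmn hcop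
  have hdiv : ∀ q, q.Prime → q ∣ Nat.card G → q ≠ p → q ∣ m := by
    intro q hq hqG hqp
    rw [hmn] at hqG
    rcases (Nat.Prime.dvd_mul hq).mp hqG with h1 | h1
    · exact h1
    · exact absurd ((Nat.prime_dvd_prime_iff_eq hq hp).mp (hq.dvd_of_dvd_pow h1)) hqp
  have hPa := Nat.prime_of_mem_primeFactors ha
  have hPb := Nat.prime_of_mem_primeFactors hb
  have hPc := Nat.prime_of_mem_primeFactors hc
  have hDa := Nat.dvd_of_mem_primeFactors ha
  have hDb := Nat.dvd_of_mem_primeFactors hb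
  have hDc := Nat.dvd_of_mem_primeFactors hc
  -- K is nontrivial
  have hm1 : m ≠ 1 := by
    intro h1
    by_cases hap : a = p
    · have := hdiv b hPb hDb (fun e => hab (hap.trans e.symm))
      rw [h1] at this
      exact hPb.one_lt.ne' (Nat.dvd_one.mp this)
    · have := hdiv a hPa hDa hap
      rw [h1] at this
      exact hPa.one_lt.ne' (Nat.dvd_one.mp this)
  haveI : Nontrivial K := by
    rw [← Finite.one_lt_card_iff_nontrivial, hK]
    have : m ≠ 0 := by
      intro h0; rw [h0, zero_mul] at hmn; exact hG0 hmn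
    omega
  obtain ⟨s, A, hs, hAn, hA1, hAp, hAc⟩ :=
    Cfsg.Agent.Lib.Helper3.exists_normal_abelian_pgroup K inferInstance
  haveI : Fact s.Prime := ⟨hs⟩
  -- s divides m, s ≠ p
  have hsm : s ∣ m := by
    obtain ⟨n, hn⟩ := hAp.exists_card_eq
    have hn0 : n ≠ 0 := by
      intro h0
      rw [h0, pow_zero] at hn
      exact hA1 (Subgroup.card_eq_one.mp hn)
    have h1 : Nat.card A ∣ Nat.card K := Subgroup.card_subgroup_dvd_card A
    rw [hn, hK] at h1
    exact (dvd_pow_self s hn0).trans h1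
  have hsp : s ≠ p := by
    intro e
    rw [e] at hsm
    have := Nat.Coprime.eq_one_of_dvd hpm hsm
    exact hp.one_lt.ne' this
  -- a third prime t
  obtain ⟨t, htP, htG, htp, hts⟩ : ∃ t, t.Prime ∧ t ∣ Nat.card G ∧ t ≠ p ∧ t ≠ s := by
    by_cases h1 : a ≠ p ∧ a ≠ s
    · exact ⟨a, hPa, hDa, h1.1, h1.2⟩
    by_cases h2 : b ≠ p ∧ b ≠ s
    · exact ⟨b, hPb, hDb, h2.1, h2.2⟩
    refine ⟨c, hPc, hDc, ?_, ?_⟩ <;> omega
  have htm : t ∣ m := hdiv t htP htG htp
  haveI : Fact t.Prime := ⟨htP⟩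
  obtain ⟨y', hy'⟩ := exists_prime_orderOf_dvd_card' (G := K) t (by rw [hK]; exact htm)
  set y : G := (y' : G) with hy
  have hyo : orderOf y = t := by rw [hy, Subgroup.orderOf_coe, hy']
  have hyK : y ∈ K := y'.2
  have hyt : y ^ t = 1 := by rw [← hyo]; exact pow_orderOf_eq_one y
  have hy1 : y ≠ 1 := by
    intro e
    rw [e, orderOf_one] at hyo
    exact htP.one_lt.ne hyo
  set Q : Subgroup G := A.map K.subtype with hQ
  have hQK : Q ≤ K := by
    rintro x ⟨a', -, rfl⟩
    exact a'.2
  have hQp : IsPGroup s Q := hAp.map _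
  have hQ1 : Q ≠ ⊥ := by
    intro e
    apply hA1
    rw [hQ] at e
    exact (Subgroup.map_eq_bot_iff_of_injective A K.subtype_injective).mp e
  have hQord : ∀ x ∈ Q, ∃ k, orderOf x ∣ s ^ k := by
    intro x hx
    obtain ⟨k, hk⟩ := hQp ⟨x, hx⟩
    refine ⟨k, orderOf_dvd_of_pow_eq_one ?_⟩
    have := congrArg Subtype.val hk
    simpa using this
  have hVord : ∀ v ∈ V, ∃ k, orderOf v ∣ p ^ k := by
    intro v hv
    obtain ⟨k, hk⟩ := hVp ⟨v, hv⟩
    refine ⟨k, orderOf_dvd_of_pow_eq_one ?_⟩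
    have := congrArg Subtype.val hk
    simpa using this
  have hKord : ∀ x ∈ K, orderOf x ∣ m := by
    intro x hx
    rw [← hK]
    exact Subgroup.orderOf_dvd_natCard K hx
  have csp : ∀ i j : ℕ, (s ^ i).Coprime (p ^ j) := fun i j =>
    Nat.Coprime.pow _ _ ((Nat.coprime_primes hs hp).mpr hsp)
  have cts : ∀ j : ℕ, t.Coprime (s ^ j) := fun j =>
    Nat.Coprime.pow_right _ ((Nat.coprime_primes htP hs).mpr hts)
  have cmp : ∀ j : ℕ, m.Coprime (p ^ j) := fun j => (Nat.Coprime.pow_left _ hpm).symm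
  have key := Cfsg.Agent.Lib.Lead.FrobNorm.pow_card_eq_one V ⟨⟨fun a b => Subtype.ext (hVc a a.2 b b.2)⟩⟩ Q
    (by
      rintro x ⟨a', ha', rfl⟩ z ⟨b', hb', rfl⟩
      have := hAc a' ha' b' hb'
      have := congrArg Subtype.val this
      simpa using this) hQ1 y t htP hyt hy1
    (by
      rintro x ⟨a', ha', rfl⟩
      refine ⟨y' * a' * y'⁻¹, hAn.conj_mem a' ha' y', ?_⟩
      simp [hy])
    (by
      intro x hx hx1 v hv hxv
      obtain ⟨i, hi⟩ := hQord x hx
      obtain ⟨j, hj⟩ := hVord v hv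
      rcases eppo_commute h x v hxv (Nat.Coprime.coprime_dvd_left hi
        (Nat.Coprime.coprime_dvd_right hj (csp i j))) with h1 | h1
      · exact absurd h1 hx1
      · exact h1)
    (by
      intro x hx hyx
      obtain ⟨i, hi⟩ := hQord x hx
      rcases eppo_commute h y x hyx (by rw [hyo]; exact Nat.Coprime.coprime_dvd_right hi (cts i))
        with h1 | h1
      · exact absurd h1 hy1
      · exact h1)
    (by
      intro x hx v hv hxv
      obtain ⟨j, hj⟩ := hVord v hv
      have hxyK : x * y ∈ K := K.mul_mem (hQK hx) hyK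
      rcases eppo_commute h (x * y) v hxv (Nat.Coprime.coprime_dvd_left (hKord _ hxyK)
        (Nat.Coprime.coprime_dvd_right hj (cmp j))) with h1 | h1
      · exfalso
        have hyQ : y ∈ Q := by
          have : y = x⁻¹ := by
            exact eq_inv_of_mul_eq_one_right h1
          rw [this]; exact Q.inv_mem hx
        obtain ⟨i, hi⟩ := hQord y hyQ
        rw [hyo] at hi
        exact hts ((Nat.prime_dvd_prime_iff_eq htP hs).mp (htP.dvd_of_dvd_pow hi))
      · exact h1)
  -- conclusion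
  obtain ⟨⟨v, hv⟩, hv1⟩ := (Subgroup.ne_bot_iff_exists_ne_one).mp hV1
  have hv1' : v ≠ 1 := fun e => hv1 (Subtype.ext e)
  obtain ⟨n, hn⟩ := hQp.exists_card_eq
  obtain ⟨j, hj⟩ := hVord v hv
  have h1 : orderOf v ∣ s ^ n := by
    rw [← hn]; exact orderOf_dvd_of_pow_eq_one (key v hv)
  have h2 : orderOf v ∣ 1 := by
    have := Nat.dvd_gcd h1 hj
    rwa [(csp n j)] at this
  exact hv1' (orderOf_eq_one_iff.mp (Nat.dvd_one.mp h2))

end Cfsg.Agent.S1475
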