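import Cfsg.Statements.S3433
import Cfsg.Agent.Lib.Helper8.C5X
-- import your own Cfsg.Agent.* helpers here

set_option autoImplicit false
open Cfsg

namespace Cfsg.Agent.S3433

/-- A finite group whose set of element orders is exactly {1, 2, 3, 4, 5} is isomorphic to the alternating group of degree 6, or has a normal elementary abelian 2-subgroup with quotient isomorphic to the alternating group of degree 5. -/
theorem result {G : Type*} [Group G] [Finite G] (h : Set.range (orderOf : G → ℕ) = {k : ℕ | 1 ≤ k ∧ k ≤ 5}) :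
    Nonempty (G ≃* ↥(alternatingGroup (Fin 6))) ∨
      ∃ (N : Subgroup G) (_ : N.Normal), Cfsg.IsElementaryAbelian 2 N ∧ Nonempty (G ⧸ N ≃* ↥(alternatingGroup (Fin 5))) := by
  have h5 : Cfsg.Agent.Lib.Helper8.C5.C5 G := by
    intro g
    have : orderOf g ∈ Set.range (orderOf : G → ℕ) := ⟨g, rfl⟩
    rw [h] at this
    exact this
  have hdvd : ∀ k : ℕ, 1 ≤ k → k ≤ 5 → k ∣ Nat.card G := by
    intro k hk1 hk5
    have : k ∈ Set.range (orderOf : G → ℕ) := by rw [h]; exact ⟨hk1, hk5⟩
    obtain ⟨g, rfl⟩ := this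
    exact orderOf_dvd_natCard g
  have hns : ¬ IsSolvable G := by
    intro hs
    haveI : Group.IsSolvable G := hs
    have hle := Cfsg.Agent.S1475.result (G := G) (fun g => by
      by_cases hg : g = 1
      · exact Or.inr hg
      · exact Or.inl (Cfsg.Agent.Lib.Helper8.C5.C5.isEPPO h5 g hg))
    have hsub : ({2, 3, 5} : Finset ℕ) ⊆ (Nat.card G).primeFactors := by
      intro p hp
      simp only [Finset.mem_insert, Finset.mem_singleton] at hp
      rw [Nat.mem_primeFactors]
      rcases hp with rfl | rfl | rfl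
      · exact ⟨Nat.prime_two, hdvd 2 (by norm_num) (by norm_num), Nat.card_pos.ne'⟩
      · exact ⟨Nat.prime_three, hdvd 3 (by norm_num) (by norm_num), Nat.card_pos.ne'⟩
      · exact ⟨Nat.prime_five, hdvd 5 (by norm_num) (by norm_num), Nat.card_pos.ne'⟩
    have := Finset.card_le_card hsub
    have h3 : ({2, 3, 5} : Finset ℕ).card = 3 := by decide
    omega
  exact Cfsg.Agent.Lib.Helper8.C5.concl_of_c5 (Nat.card G) G rfl h5 hns

end Cfsg.Agent.S3433
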