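import Cfsg.Statements.S3861
import Cfsg.Agent.Lib.Helper2.RealLift
import Cfsg.Agent.Lib.Lead.BaerSuzuki
import Cfsg.Agent.Lib.Helper1.Hall

set_option autoImplicit false
open Cfsg

namespace Cfsg.Agent.S3861
open Cfsg.Agent.Lib.Helper2 Cfsg.Agent.Lib.Helper1 Cfsg.Agent.Lib.Lead

/-- in a group with trivial `O₂` and even order there is a real element of odd order -/
theorem exists_real_odd_of_involution {H : Type*} [Group H] [Finite H] (t : H)
    (ht : orderOf t = 2)
    (hno : ∀ N : Subgroup H, N.Normal → IsPGroup 2 N → t ∉ N) :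
    ∃ x : H, x ≠ 1 ∧ Odd (orderOf x) ∧ t * x * t⁻¹ = x⁻¹ := by
  haveI : Fact (Nat.Prime 2) := ⟨Nat.prime_two⟩
  have ht2 : t * t = 1 := by
    rw [← pow_two, ← ht, pow_orderOf_eq_one]
  have htinv : t⁻¹ = t := inv_eq_of_mul_eq_one_right ht2
  set X := Subgroup.zpowers t with hX
  have hXp : IsPGroup 2 X := by
    apply IsPGroup.of_card (n := 1)
    rw [hX, Nat.card_zpowers, ht, pow_one]
  -- Baer–Suzuki
  have hex : ∃ g : H, ¬ IsPGroup 2 ↥(X ⊔ BaerSuzuki.cj X g) := by
    by_contra hcon
    push Not at hcon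
    obtain ⟨N, hNn, hNp, hXN⟩ := BaerSuzuki.baer_suzuki X hcon hXp
    exact hno N hNn hNp (hXN (Subgroup.mem_zpowers t))
  obtain ⟨g, hg⟩ := hex
  set s := g * t * g⁻¹ with hs
  have hs2 : s * s = 1 := by
    rw [hs]
    calc g * t * g⁻¹ * (g * t * g⁻¹) = g * (t * t) * g⁻¹ := by group
      _ = 1 := by rw [ht2]; group
  have hsinv : s⁻¹ = s := inv_eq_of_mul_eq_one_right hs2
  set u := t * s with hu
  have hcj : BaerSuzuki.cj X g = Subgroup.zpowers s := by
    unfold BaerSuzuki.cj
    rw [hX, MonoidHom.map_zpowers]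
    rfl
  have htu : t * u * t⁻¹ = u⁻¹ := by
    rw [hu, htinv, mul_inv_rev, hsinv, htinv]
    calc t * (t * s) * t = (t * t) * s * t := by group
      _ = s * t := by rw [ht2, one_mul]
  -- the order of u is not a power of 2
  have hnot : ¬ ∃ k : ℕ, orderOf u = 2 ^ k := by
    rintro ⟨k, hk⟩
    apply hg
    have hUp : IsPGroup 2 (Subgroup.zpowers u) := by
      apply IsPGroup.of_card (n := k)
      rw [Nat.card_zpowers, hk]
    have hnorm : X ≤ Subgroup.normalizer ((Subgroup.zpowers u : Subgroup H) : Set H) := by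
      rw [hX, Subgroup.zpowers_le]
      have h1 : ∀ w ∈ Subgroup.zpowers u, t * w * t⁻¹ ∈ Subgroup.zpowers u := by
        intro w hw
        obtain ⟨l, rfl⟩ := Subgroup.mem_zpowers_iff.1 hw
        have : t * u ^ l * t⁻¹ = (t * u * t⁻¹) ^ l := by
          rw [← MulAut.conj_apply, map_zpow, MulAut.conj_apply]
        rw [this, htu]
        exact Subgroup.zpow_mem _ (Subgroup.inv_mem _ (Subgroup.mem_zpowers u)) l
      rw [Subgroup.mem_normalizer_iff]
      intro w
      constructor
      · exact h1 w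
      · intro hw
        have h2 := h1 _ hw
        have h3 : t * (t * w * t⁻¹) * t⁻¹ = w := by
          rw [htinv]
          calc t * (t * w * t) * t = (t * t) * w * (t * t) := by group
            _ = w := by rw [ht2, one_mul, mul_one]
        rwa [h3] at h2
    have hsup : IsPGroup 2 ↥(Subgroup.zpowers u ⊔ X) :=
      IsPGroup.to_sup_of_normal_left' hUp hXp hnorm
    apply hsup.to_le
    rw [hcj]
    apply sup_le le_sup_right
    rw [Subgroup.zpowers_le]
    have : s = t⁻¹ * u := by rw [hu]; group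
    rw [this]
    exact Subgroup.mul_mem _ ((le_sup_right : X ≤ _) (X.inv_mem (Subgroup.mem_zpowers t)))
      ((le_sup_left : Subgroup.zpowers u ≤ _) (Subgroup.mem_zpowers u))
  obtain ⟨k, m, hmodd, hkm⟩ := Nat.exists_eq_two_pow_mul_odd (orderOf_pos u).ne'
  have hm1 : m ≠ 1 := by
    intro h
    apply hnot
    exact ⟨k, by rw [hkm, h, mul_one]⟩
  refine ⟨u ^ (2 ^ k), ?_, ?_, ?_⟩
  · intro h
    have := orderOf_dvd_of_pow_eq_one h
    rw [hkm] at this
    have hpos : 0 < 2 ^ k := by positivity
    have h3 : 2 ^ k * m ≤ 2 ^ k := Nat.le_of_dvd hpos this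
    have hmpos : 0 < m := hmodd.pos
    have : m ≤ 1 := by
      by_contra hlt
      push Not at hlt
      have : 2 ^ k * 2 ≤ 2 ^ k * m := Nat.mul_le_mul_left _ hlt
      omega
    omega
  · have : orderOf (u ^ (2 ^ k)) = m := by
      rw [orderOf_pow_of_dvd (by positivity) (by rw [hkm]; exact Dvd.intro _ rfl), hkm,
        Nat.mul_div_cancel_left _ (by positivity)]
    rw [this]; exact hmodd
  · have : t * u ^ (2 ^ k) * t⁻¹ = (t * u * t⁻¹) ^ (2 ^ k) := by
      rw [← MulAut.conj_apply, map_pow, MulAut.conj_apply]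
    rw [this, htu, inv_pow]

/-- A finite group G has no non-identity element of odd order that is conjugate to its inverse if and only if the Sylow 2-subgroups of G are normal. -/
theorem result {G : Type*} [Group G] [Finite G] (P : Sylow 2 G) : (∀ x : G, x ≠ 1 → Odd (orderOf x) → ¬ IsConj x x⁻¹) ↔ (P : Subgroup G).Normal := by
  haveI : Fact (Nat.Prime 2) := ⟨Nat.prime_two⟩
  constructor
  · -- no real odd elements ⇒ P normal
    intro hreal
    set O : Subgroup G := (P : Subgroup G).normalCore with hO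
    haveI hOn : O.Normal := Subgroup.normalCore_normal _
    have hOP : O ≤ P := Subgroup.normalCore_le _
    have hOp : IsPGroup 2 O := P.isPGroup'.to_le hOP
    by_contra hPn
    have hne : O ≠ P := by
      intro h
      apply hPn
      rw [← h]; exact hOn
    set q := QuotientGroup.mk' O with hq
    -- the image of P in G/O is a nontrivial 2-group
    have hPq : IsPGroup 2 (Subgroup.map q (P : Subgroup G)) := P.isPGroup'.map q
    have hPqne : Subgroup.map q (P : Subgroup G) ≠ ⊥ := by
      intro h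
      apply hne
      apply le_antisymm hOP
      intro x hx
      have : q x ∈ Subgroup.map q (P : Subgroup G) := ⟨x, hx, rfl⟩
      rw [h, Subgroup.mem_bot] at this
      exact (QuotientGroup.eq_one_iff x).1 this
    have h2dvd : 2 ∣ Nat.card (Subgroup.map q (P : Subgroup G)) := by
      obtain ⟨n, hn⟩ := IsPGroup.iff_card.1 hPq
      rcases n with _ | n
      · exfalso
        apply hPqne
        rw [pow_zero] at hn
        exact Subgroup.card_eq_one.1 hn
      · rw [hn]; exact dvd_pow_self 2 (Nat.succ_ne_zero n)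
    obtain ⟨tb, htb⟩ := exists_prime_orderOf_dvd_card' 2 h2dvd
    have htb' : orderOf (tb : G ⧸ O) = 2 := by rw [Subgroup.orderOf_coe]; exact htb
    -- no normal 2-subgroup of G/O contains tb
    have hno : ∀ N : Subgroup (G ⧸ O), N.Normal → IsPGroup 2 N → (tb : G ⧸ O) ∉ N := by
      intro N hNn hNp htN
      have hcn : (N.comap q).Normal := hNn.comap q
      have hcp : IsPGroup 2 (N.comap q) := by
        obtain ⟨a, ha⟩ := IsPGroup.iff_card.1 hOp
        obtain ⟨b, hb⟩ := IsPGroup.iff_card.1 hNp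
        apply IsPGroup.of_card (n := a + b)
        rw [card_comap_mk', ha, hb, pow_add]
      have hle : N.comap q ≤ O :=
        Subgroup.normal_le_normalCore.2 (hcp.le_sylow_of_normal P)
      obtain ⟨t, -, ht⟩ := tb.2
      have htO : t ∈ O := hle (by rw [Subgroup.mem_comap, ht]; exact htN)
      have : (tb : G ⧸ O) = 1 := by
        rw [← ht]; exact (QuotientGroup.eq_one_iff t).2 htO
      rw [this, orderOf_one] at htb'
      omega
    obtain ⟨xb, hxb1, hxodd, hxinv⟩ := exists_real_odd_of_involution (tb : G ⧸ O) htb' hno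
    have hcop : (orderOf xb).Coprime 2 := Nat.Coprime.symm (Nat.coprime_two_left.2 hxodd)
    obtain ⟨x, h, hx1, hox, hhx⟩ := exists_inverted_lift O hOp xb (tb : G ⧸ O) hxb1 hcop hxinv
    exact hreal x hx1 (hox ▸ hxodd) (isConj_iff.2 ⟨h, hhx⟩)
  · -- P normal ⇒ no real odd elements
    intro hPn x hx1 hxodd hconj
    obtain ⟨g, hg⟩ := isConj_iff.1 hconj
    obtain ⟨k, m, hmodd, hkm⟩ := Nat.exists_eq_two_pow_mul_odd (orderOf_pos g).ne'
    set t := g ^ m with ht
    -- t is a 2-element, so t ∈ P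
    have htP : t ∈ (P : Subgroup G) := by
      have htp : IsPGroup 2 (Subgroup.zpowers t) := by
        apply IsPGroup.of_card (n := k)
        rw [Nat.card_zpowers, ht, orderOf_pow_of_dvd hmodd.pos.ne' (by rw [hkm]; exact Dvd.intro_left _ rfl),
          hkm, Nat.mul_div_cancel _ hmodd.pos]
      obtain ⟨Q, hQ⟩ := htp.exists_le_sylow
      haveI := Sylow.unique_of_normal P hPn
      have : Q = P := Subsingleton.elim _ _
      rw [this] at hQ
      exact hQ (Subgroup.mem_zpowers t)
    -- t inverts x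
    have hpow : ∀ n : ℕ, g ^ n * x * (g ^ n)⁻¹ = if Even n then x else x⁻¹ := by
      intro n
      induction n with
      | zero => simp
      | succ n ih =>
        have : g ^ (n + 1) * x * (g ^ (n + 1))⁻¹ = g * (g ^ n * x * (g ^ n)⁻¹) * g⁻¹ := by
          rw [pow_succ']; group
        rw [this, ih]
        by_cases hn : Even n
        · rw [if_pos hn, if_neg (by rw [Nat.even_add_one]; exact not_not.2 hn), hg]
        · rw [if_neg hn, if_pos (by rw [Nat.even_add_one]; exact hn)]
          have : g * x⁻¹ * g⁻¹ = (g * x * g⁻¹)⁻¹ := by group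
          rw [this, hg, inv_inv]
    have htx : t * x * t⁻¹ = x⁻¹ := by
      rw [ht, hpow m, if_neg (Nat.not_even_iff_odd.2 hmodd)]
    -- x² ∈ P
    have hx2 : x * x ∈ (P : Subgroup G) := by
      have h1 : x * t * x⁻¹ ∈ (P : Subgroup G) := hPn.conj_mem t htP x
      have h2 : x * t * x⁻¹ * t⁻¹ ∈ (P : Subgroup G) := Subgroup.mul_mem _ h1 (Subgroup.inv_mem _ htP)
      have h3 : x * t * x⁻¹ * t⁻¹ = x * (t * x * t⁻¹)⁻¹ := by group
      rw [h3, htx, inv_inv] at h2
      exact h2
    -- x ∈ ⟨x²⟩
    have hcop : (2 : ℕ).Coprime (orderOf x) := Nat.coprime_two_left.2 hxodd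
    obtain ⟨n, hn⟩ := exists_pow_eq_self_of_coprime hcop
    have hxP : x ∈ (P : Subgroup G) := by
      rw [← hn, pow_two]
      exact Subgroup.pow_mem _ hx2 n
    obtain ⟨j, hj⟩ := (IsPGroup.iff_orderOf.1 P.isPGroup') ⟨x, hxP⟩
    rw [Subgroup.orderOf_mk] at hj
    rcases j with _ | j
    · rw [pow_zero] at hj
      exact hx1 (orderOf_eq_one_iff.1 hj)
    · rw [hj] at hxodd
      have : Even (2 ^ (j + 1)) := (Nat.even_pow.2 ⟨even_two, Nat.succ_ne_zero j⟩)
      exact (Nat.not_even_iff_odd.2 hxodd) this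

end Cfsg.Agent.S3861
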