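-- Statement S4217: Gaschütz' splitting theorem for abelian normal subgroups.
import Cfsg.Statements.S4217
import Mathlib

set_option autoImplicit false
open Cfsg

namespace Cfsg.Agent.S4217

open scoped IsMulCommutative

section
variable {G : Type*} [Group G]

/-- Crossed homomorphisms `G → A` for a normal subgroup `A`. -/
def IsCrossed (A : Subgroup G) [A.Normal] (φ : G → A) : Prop :=
  ∀ g h : G, φ (g * h) = φ g * MulAut.conjNormal g (φ h)

/-- The subgroup of exponents `k` such that some crossed homomorphism restricts to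
`a ↦ a ^ k` on `A`. -/
def expSubgroup (A : Subgroup G) [A.Normal] [IsMulCommutative A] : AddSubgroup ℤ where
  carrier := {k | ∃ φ : G → A, IsCrossed A φ ∧ ∀ a : A, φ a = a ^ k}
  zero_mem' := ⟨fun _ => 1, fun g h => by simp, fun a => by simp⟩
  add_mem' := by
    rintro k l ⟨φ, hφ, hφa⟩ ⟨ψ, hψ, hψa⟩
    refine ⟨fun g => φ g * ψ g, ?_, ?_⟩
    · intro g h
      show φ (g * h) * ψ (g * h) = φ g * ψ g * MulAut.conjNormal g (φ h * ψ h)
      rw [hφ, hψ, map_mul]
      exact mul_mul_mul_comm _ _ _ _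
    · intro a
      show φ a * ψ a = a ^ (k + l)
      rw [hφa, hψa, zpow_add]
  neg_mem' := by
    rintro k ⟨φ, hφ, hφa⟩
    refine ⟨fun g => (φ g)⁻¹, ?_, ?_⟩
    · intro g h
      show (φ (g * h))⁻¹ = (φ g)⁻¹ * MulAut.conjNormal g (φ h)⁻¹
      rw [hφ, mul_inv, map_inv]
    · intro a
      show (φ a)⁻¹ = a ^ (-k)
      rw [hφa, zpow_neg]

theorem mem_expSubgroup (A : Subgroup G) [A.Normal] [IsMulCommutative A] (k : ℤ) :
    k ∈ expSubgroup A ↔ ∃ φ : G → A, IsCrossed A φ ∧ ∀ a : A, φ a = a ^ k := Iff.rfl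

/-- A crossed homomorphism restricting to the identity on `A` gives a complement. -/
theorem complement_of_crossed (A : Subgroup G) [A.Normal] (φ : G → A) (hφ : IsCrossed A φ)
    (hφa : ∀ a : A, φ a = a) : ∃ K : Subgroup G, K.IsComplement' A := by
  have h1 : φ 1 = 1 := by
    have := hφ 1 1
    rw [mul_one, map_one, MulAut.one_apply] at this
    exact (mul_eq_left.1 this.symm)
  let K : Subgroup G :=
    { carrier := {g | φ g = 1}
      one_mem' := h1
      mul_mem' := fun {g h} hg hh => by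
        show φ (g * h) = 1
        have hg' : φ g = 1 := hg
        have hh' : φ h = 1 := hh
        rw [hφ, hg', hh', map_one, mul_one]
      inv_mem' := fun {g} hg => by
        show φ g⁻¹ = 1
        have hg' : φ g = 1 := hg
        have := hφ g g⁻¹
        rw [mul_inv_cancel, h1, hg', one_mul] at this
        exact (map_eq_one_iff _ (MulEquiv.injective _)).1 this.symm }
  have hK : ∀ g, g ∈ K ↔ φ g = 1 := fun g => Iff.rfl
  refine ⟨K, Subgroup.isComplement'_of_disjoint_and_mul_eq_univ ?_ ?_⟩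
  · rw [Subgroup.disjoint_def]
    intro x hxK hxA
    have h2 := hφa ⟨x, hxA⟩
    rw [(hK x).1 hxK] at h2
    exact (congrArg Subtype.val h2).symm
  · rw [Set.eq_univ_iff_forall]
    intro g
    set a₀ : A := φ g with ha₀
    have hk : (a₀ : G)⁻¹ * g ∈ K := by
      rw [hK]
      have h3 : φ ((a₀⁻¹ : A) : G) = a₀⁻¹ := hφa a₀⁻¹
      rw [Subgroup.coe_inv] at h3
      rw [hφ, h3, ← ha₀]
      have h4 : MulAut.conjNormal (a₀ : G)⁻¹ a₀ = a₀ := by
        apply Subtype.ext
        rw [MulAut.conjNormal_apply]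
        group
      rw [h4, inv_mul_cancel]
    refine Set.mem_mul.2 ⟨(a₀ : G)⁻¹ * g, hk, ((a₀ : G)⁻¹ * g)⁻¹ * a₀ * ((a₀ : G)⁻¹ * g), ?_, ?_⟩
    · have := (inferInstance : A.Normal).conj_mem (a₀ : G) a₀.2 (((a₀ : G)⁻¹ * g)⁻¹)
      simpa using this
    · group

end

section
variable {G : Type*} [Group G] [Finite G]

/-- The transfer-like construction: if `H ∩ A = 1` then `|G : HA|` is a realised exponent. -/
theorem index_mem_expSubgroup (A : Subgroup G) [A.Normal] [IsMulCommutative A] (H : Subgroup G)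
    (hHA : H ⊓ A = ⊥) : (((H ⊔ A).index : ℕ) : ℤ) ∈ expSubgroup A := by
  classical
  set U := H ⊔ A with hU
  haveI : Fintype (G ⧸ U) := Fintype.ofFinite _
  have hAU : A ≤ U := le_sup_right
  have hHU : H ≤ U := le_sup_left
  let s : G ⧸ U → G := Quotient.out
  have hs : ∀ q, ((s q : G) : G ⧸ U) = q := fun q => QuotientGroup.out_eq' q
  have hnorm : ∀ (x : G) (a : G), a ∈ A → x * a * x⁻¹ ∈ A :=
    fun x a ha => (inferInstance : A.Normal).conj_mem a ha x
  have hnorm' : ∀ (x : G) (a : G), a ∈ A → x⁻¹ * a * x ∈ A := by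
    intro x a ha
    have := hnorm x⁻¹ a ha
    simpa using this
  have hex : ∀ (g : G) (q : G ⧸ U), ∃ a : A, (s (g • q))⁻¹ * (a : G)⁻¹ * g * s q ∈ H := by
    intro g q
    have hx : (s (g • q))⁻¹ * (g * s q) ∈ U := by
      rw [← QuotientGroup.eq, hs]
      have : ((g * s q : G) : G ⧸ U) = g • ((s q : G) : G ⧸ U) := rfl
      rw [this, hs]
    have hx' : (s (g • q))⁻¹ * (g * s q) ∈ A ⊔ H := by rw [sup_comm]; exact hx
    rw [Subgroup.mem_sup_of_normal_left] at hx'
    obtain ⟨a₀, ha₀, h₀, hh₀, hx⟩ := hx'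
    refine ⟨⟨s (g • q) * a₀ * (s (g • q))⁻¹, hnorm _ _ ha₀⟩, ?_⟩
    have : (s (g • q))⁻¹ * (s (g • q) * a₀ * (s (g • q))⁻¹)⁻¹ * g * s q =
        a₀⁻¹ * ((s (g • q))⁻¹ * (g * s q)) := by group
    rw [this, ← hx]
    simpa using hh₀
  have huniq' : ∀ (g : G) (q : G ⧸ U) (a b : A),
      (s (g • q))⁻¹ * (a : G)⁻¹ * g * s q ∈ H → (s (g • q))⁻¹ * (b : G)⁻¹ * g * s q ∈ H →
      a = b := by
    intro g q a b ha hb
    have h1 : (s (g • q))⁻¹ * ((a : G)⁻¹ * b) * s (g • q) ∈ H := by
      have := H.mul_mem ha (H.inv_mem hb)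
      have e : (s (g • q))⁻¹ * (a : G)⁻¹ * g * s q * ((s (g • q))⁻¹ * (b : G)⁻¹ * g * s q)⁻¹ =
          (s (g • q))⁻¹ * ((a : G)⁻¹ * b) * s (g • q) := by group
      rwa [e] at this
    have h2 : (s (g • q))⁻¹ * ((a : G)⁻¹ * b) * s (g • q) ∈ A :=
      hnorm' _ _ (A.mul_mem (A.inv_mem a.2) b.2)
    have h3 : (s (g • q))⁻¹ * ((a : G)⁻¹ * b) * s (g • q) ∈ H ⊓ A := ⟨h1, h2⟩
    rw [hHA, Subgroup.mem_bot] at h3
    apply Subtype.ext
    have h4 : (a : G)⁻¹ * b = 1 := by
      have : (a : G)⁻¹ * b = s (g • q) * ((s (g • q))⁻¹ * ((a : G)⁻¹ * b) * s (g • q)) *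
          (s (g • q))⁻¹ := by group
      rw [this, h3]; group
    exact (inv_mul_eq_one.1 h4)
  choose c hc using hex
  have huniq : ∀ (g : G) (q : G ⧸ U) (a : A),
      (s (g • q))⁻¹ * (a : G)⁻¹ * g * s q ∈ H → a = c g q :=
    fun g q a ha => huniq' g q a (c g q) ha (hc g q)
  -- cocycle identity
  have hcoc : ∀ (g h : G) (q : G ⧸ U),
      c (g * h) q = MulAut.conjNormal g (c h q) * c g (h • q) := by
    intro g h q
    symm
    apply huniq
    have h1 := hc h q
    have h2 := hc g (h • q)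
    rw [← mul_smul] at h2
    have := H.mul_mem h2 h1
    have e : (s ((g * h) • q))⁻¹ * ((c g (h • q) : A) : G)⁻¹ * g * s (h • q) *
        ((s (h • q))⁻¹ * ((c h q : A) : G)⁻¹ * h * s q) =
        (s ((g * h) • q))⁻¹ * ((MulAut.conjNormal g (c h q) * c g (h • q) : A) : G)⁻¹ *
          (g * h) * s q := by
      rw [Subgroup.coe_mul, MulAut.conjNormal_apply]
      group
    rwa [e] at this
  refine ⟨fun g => ∏ q : G ⧸ U, c g q, ?_, ?_⟩
  · intro g h
    show ∏ q : G ⧸ U, c (g * h) q = (∏ q : G ⧸ U, c g q) *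
      MulAut.conjNormal g (∏ q : G ⧸ U, c h q)
    simp only [hcoc]
    rw [Finset.prod_mul_distrib, map_prod, mul_comm]
    congr 1
    exact Equiv.prod_comp (MulAction.toPerm h) (fun q => c g q)
  · intro a
    have hca : ∀ q : G ⧸ U, c (a : G) q = a := by
      intro q
      symm
      apply huniq
      have hq : (a : G) • q = q := by
        conv_lhs => rw [← hs q]
        conv_rhs => rw [← hs q]
        have : (a : G) • ((s q : G) : G ⧸ U) = (((a : G) * s q : G) : G ⧸ U) := rfl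
        rw [this]
        symm
        rw [QuotientGroup.eq]
        apply hAU
        have := hnorm' (s q) a a.2
        simpa [mul_assoc] using this
      rw [hq]
      have : (s q)⁻¹ * (a : G)⁻¹ * (a : G) * s q = 1 := by group
      rw [this]; exact H.one_mem
    show ∏ q : G ⧸ U, c (a : G) q = a ^ ((U.index : ℕ) : ℤ)
    simp only [hca, Finset.prod_const, Finset.card_univ, zpow_natCast]
    rw [Subgroup.index, Nat.card_eq_fintype_card]

theorem result_aux (A : Subgroup G) [A.Normal] (hA : IsMulCommutative A) : (∃ K : Subgroup G, K.IsComplement' A) ↔ ∀ p : ℕ, p.Prime → p ∣ A.index → ∃ (S : Sylow p (G ⧸ A)) (K : Subgroup G), K ⊓ A = ⊥ ∧ K ⊔ A = (S : Subgroup (G ⧸ A)).comap (QuotientGroup.mk' A) := by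
  constructor
  · rintro ⟨K, hK⟩ p hp _
    haveI : Fact p.Prime := ⟨hp⟩
    obtain ⟨S⟩ : Nonempty (Sylow p (G ⧸ A)) := inferInstance
    set U := (S : Subgroup (G ⧸ A)).comap (QuotientGroup.mk' A) with hU
    have hAU : A ≤ U := by
      intro a ha
      show ((a : G) : G ⧸ A) ∈ (S : Subgroup (G ⧸ A))
      rw [(QuotientGroup.eq_one_iff a).2 ha]; exact Subgroup.one_mem _
    refine ⟨S, K ⊓ U, ?_, ?_⟩
    · rw [inf_right_comm, hK.disjoint.eq_bot, bot_inf_eq]
    · apply le_antisymm (sup_le inf_le_right hAU)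
      intro u hu
      have htop : u ∈ K ⊔ A := by rw [hK.sup_eq_top]; exact Subgroup.mem_top u
      rw [Subgroup.mem_sup_of_normal_right] at htop
      obtain ⟨k, hk, a, ha, rfl⟩ := htop
      rw [Subgroup.mem_sup_of_normal_right]
      refine ⟨k, ⟨hk, ?_⟩, a, ha, rfl⟩
      have := U.mul_mem hu (U.inv_mem (hAU ha))
      simpa using this
  · intro h
    have hN : ((A.index : ℕ) : ℤ) ∈ expSubgroup A := by
      have := index_mem_expSubgroup A ⊥ (bot_inf_eq _)
      rwa [bot_sup_eq] at this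
    have hNpos : A.index ≠ 0 := Subgroup.index_ne_zero_of_finite
    obtain ⟨d, hd⟩ := Int.subgroup_cyclic (expSubgroup A)
    have hdvd : ∀ k ∈ expSubgroup A, d ∣ k := by
      intro k hk
      rw [hd, AddSubgroup.mem_closure_singleton] at hk
      obtain ⟨m, rfl⟩ := hk
      exact Dvd.intro_left m (by simp)
    have hdmem : d ∈ expSubgroup A := by
      rw [hd]; exact AddSubgroup.mem_closure_singleton_self d
    have hd1 : d.natAbs = 1 := by
      by_contra hne
      obtain ⟨p, hp, hpd⟩ := Nat.exists_prime_and_dvd hne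
      haveI : Fact p.Prime := ⟨hp⟩
      have hpN : p ∣ A.index := by
        have h1 : d.natAbs ∣ ((A.index : ℕ) : ℤ).natAbs := Int.natAbs_dvd_natAbs.2 (hdvd _ hN)
        rw [Int.natAbs_natCast] at h1
        exact hpd.trans h1
      obtain ⟨S, K, hKA, hKS⟩ := h p hp hpN
      have hmem := index_mem_expSubgroup A K hKA
      rw [hKS, Subgroup.index_comap_of_surjective _ (QuotientGroup.mk'_surjective A)] at hmem
      have h2 : d.natAbs ∣ (((S : Subgroup (G ⧸ A)).index : ℕ) : ℤ).natAbs :=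
        Int.natAbs_dvd_natAbs.2 (hdvd _ hmem)
      rw [Int.natAbs_natCast] at h2
      exact S.not_dvd_index (hpd.trans h2)
    have h1mem : (1 : ℤ) ∈ expSubgroup A := by
      rcases Int.natAbs_eq d with h' | h'
      · rw [hd1] at h'
        rw [← show d = 1 by simpa using h']; exact hdmem
      · rw [hd1] at h'
        have : (1 : ℤ) = -d := by rw [h']; simp
        rw [this]; exact (expSubgroup A).neg_mem hdmem
    obtain ⟨φ, hφ, hφa⟩ := (mem_expSubgroup A 1).1 h1mem
    exact complement_of_crossed A φ hφ (fun a => by rw [hφa, zpow_one])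

end

theorem result {G : Type*} [Group G] [Finite G] (A : Subgroup G) [A.Normal] (hA : IsMulCommutative A) : (∃ K : Subgroup G, K.IsComplement' A) ↔ ∀ p : ℕ, p.Prime → p ∣ A.index → ∃ (S : Sylow p (G ⧸ A)) (K : Subgroup G), K ⊓ A = ⊥ ∧ K ⊔ A = (S : Subgroup (G ⧸ A)).comap (QuotientGroup.mk' A) := by
  exact result_aux A hA

end Cfsg.Agent.S4217
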