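import Cfsg.Statements.S3443

set_option autoImplicit false
open Cfsg

namespace Cfsg.Agent.S3443

variable {G : Type*} [Group G]

/-- the multiplication map `(v, g) ↦ v * g` -/
def mulHom (V : Subgroup G) [V.Normal] : V ⋊[MulAut.conjNormal] G →* G :=
  SemidirectProduct.lift V.subtype (MonoidHom.id G) (by
    intro g
    ext v
    simp [MulAut.conjNormal_apply])

theorem mulHom_apply (V : Subgroup G) [V.Normal] (x : V ⋊[MulAut.conjNormal] G) :
    mulHom V x = (x.left : G) * x.right := by
  simp [mulHom, SemidirectProduct.lift]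

theorem order_lemma (L d k p : ℕ) (hp : p.Prime) (hd : 0 < d) (hk : 0 < k)
    (hL : L = Nat.lcm d k) (h1 : L ∣ d * p) (h2 : L ∣ k * p) : L = d ∨ L = k := by
  by_contra hcon
  rw [not_or] at hcon
  obtain ⟨hLd, hLk⟩ := hcon
  have hdL : d ∣ L := hL ▸ Nat.dvd_lcm_left d k
  have hkL : k ∣ L := hL ▸ Nat.dvd_lcm_right d k
  obtain ⟨m, hm0⟩ := hdL
  obtain ⟨m', hm'0⟩ := hkL
  have hm : m ∣ p := (Nat.mul_dvd_mul_iff_left hd).1 (hm0 ▸ h1)
  have hm' : m' ∣ p := (Nat.mul_dvd_mul_iff_left hk).1 (hm'0 ▸ h2)
  rcases (Nat.dvd_prime hp).1 hm with h | h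
  · exact hLd (by rw [hm0, h, mul_one])
  rcases (Nat.dvd_prime hp).1 hm' with h' | h'
  · exact hLk (by rw [hm'0, h', mul_one])
  have hdk : d = k := by
    apply Nat.eq_of_mul_eq_mul_right hp.pos
    rw [← h] at *
    rw [← hm0, hm'0, h']
  subst hdk
  rw [Nat.lcm_self] at hL
  exact hLd hL

theorem spec_eq {G : Type*} [Group G] [Finite G] (V : Subgroup G) [V.Normal] (p : ℕ) (hp : p.Prime)
    (hexp : ∀ x : V, x ^ p = 1) :
    Set.range (orderOf : V ⋊[MulAut.conjNormal] G → ℕ) = Set.range (orderOf : G → ℕ) := by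
  classical
  have hVp : ∀ g : G, g ∈ V → g ^ p = 1 := by
    intro g hg
    have := hexp ⟨g, hg⟩
    simpa using congrArg Subtype.val this
  -- the injective hom into G × G
  let π : V ⋊[MulAut.conjNormal] G →* G := SemidirectProduct.rightHom
  let φ : V ⋊[MulAut.conjNormal] G →* G := mulHom V
  let ψ : V ⋊[MulAut.conjNormal] G →* G × G := π.prod φ
  have hψ : Function.Injective ψ := by
    intro x y hxy
    have h1 : x.right = y.right := congrArg Prod.fst hxy
    have h2 : (x.left : G) * x.right = (y.left : G) * y.right := by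
      have := congrArg Prod.snd hxy
      simpa [ψ, φ, mulHom_apply] using this
    rw [h1] at h2
    have h3 : (x.left : G) = y.left := mul_right_cancel h2
    exact SemidirectProduct.ext (Subtype.ext h3) h1
  ext n
  simp only [Set.mem_range]
  constructor
  · rintro ⟨x, rfl⟩
    have hL : orderOf x = Nat.lcm (orderOf (π x)) (orderOf (φ x)) := by
      rw [← orderOf_injective ψ hψ x]
      exact Prod.orderOf _
    have hd : 0 < orderOf (π x) := orderOf_pos _
    have hk : 0 < orderOf (φ x) := orderOf_pos _
    have h1 : orderOf x ∣ orderOf (π x) * p := by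
      apply orderOf_dvd_of_pow_eq_one
      apply hψ
      rw [pow_mul, map_one]
      have hπ : π (x ^ orderOf (π x)) = 1 := by rw [map_pow, pow_orderOf_eq_one]
      have hφ : φ (x ^ orderOf (π x)) ∈ V := by
        show mulHom V _ ∈ V
        rw [mulHom_apply]
        have : (x ^ orderOf (π x)).right = 1 := hπ
        rw [this, mul_one]
        exact (x ^ orderOf (π x)).left.2
      apply Prod.ext
      · show π ((x ^ orderOf (π x)) ^ p) = 1
        rw [map_pow, hπ, one_pow]
      · show φ ((x ^ orderOf (π x)) ^ p) = 1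
        rw [map_pow]
        exact hVp _ hφ
    have h2 : orderOf x ∣ orderOf (φ x) * p := by
      apply orderOf_dvd_of_pow_eq_one
      apply hψ
      rw [pow_mul, map_one]
      have hφ : φ (x ^ orderOf (φ x)) = 1 := by rw [map_pow, pow_orderOf_eq_one]
      have hπ : π (x ^ orderOf (φ x)) ∈ V := by
        have h3 : ((x ^ orderOf (φ x)).left : G) * (x ^ orderOf (φ x)).right = 1 := by
          rw [← mulHom_apply]; exact hφ
        have h4 : (x ^ orderOf (φ x)).right = ((x ^ orderOf (φ x)).left : G)⁻¹ :=
          (eq_inv_of_mul_eq_one_right h3)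
        show (x ^ orderOf (φ x)).right ∈ V
        rw [h4]
        exact V.inv_mem (x ^ orderOf (φ x)).left.2
      apply Prod.ext
      · show π ((x ^ orderOf (φ x)) ^ p) = 1
        rw [map_pow]
        exact hVp _ hπ
      · show φ ((x ^ orderOf (φ x)) ^ p) = 1
        rw [map_pow, hφ, one_pow]
    rcases order_lemma _ _ _ p hp hd hk hL h1 h2 with h | h
    · exact ⟨π x, h.symm⟩
    · exact ⟨φ x, h.symm⟩
  · rintro ⟨g, rfl⟩
    exact ⟨SemidirectProduct.inr g, orderOf_injective SemidirectProduct.inr
      SemidirectProduct.inr_injective g⟩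

/-- Let G be a finite group and V a normal elementary abelian subgroup of G (abelian of prime exponent p, possibly trivial). Then the semidirect product V ⋊ G, with G acting on V by conjugation, has exactly the same set of element orders as G. -/
theorem result {G : Type*} [Group G] [Finite G] (V : Subgroup G) [V.Normal] (p : ℕ) (hp : p.Prime)
    (hcomm : ∀ x y : V, x * y = y * x) (hexp : ∀ x : V, x ^ p = 1) :
    Set.range (orderOf : V ⋊[MulAut.conjNormal] G → ℕ) = Set.range (orderOf : G → ℕ) :=
  spec_eq V p hp hexp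

end Cfsg.Agent.S3443
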