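import Mathlib
import Cfsg.Statements.S3444
import Cfsg.Agent.S3443

set_option autoImplicit false
open Cfsg

namespace Cfsg.Agent.S3444

/-- has a nontrivial normal subgroup of prime exponent -/
def HasExpP (H : Type*) [Group H] : Prop :=
  ∃ (V : Subgroup H) (p : ℕ), V.Normal ∧ V ≠ ⊥ ∧ p.Prime ∧ ∀ v ∈ V, v ^ p = 1

theorem step (H : Type) [Group H] [Finite H] (h : HasExpP H) :
    ∃ (H' : Type) (_ : Group H') (_ : Finite H'), 2 * Nat.card H ≤ Nat.card H' ∧
      Set.range (orderOf : H' → ℕ) = Set.range (orderOf : H → ℕ) ∧ HasExpP H' := by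
  obtain ⟨V, p, hVn, hV, hp, hexp⟩ := h
  haveI := hVn
  haveI : Finite (V ⋊[MulAut.conjNormal] H) := Finite.of_equiv _ SemidirectProduct.equivProd.symm
  refine ⟨V ⋊[MulAut.conjNormal] H, inferInstance, inferInstance, ?_, ?_, ?_⟩
  · rw [SemidirectProduct.card]
    have : 1 < Nat.card V := (Subgroup.one_lt_card_iff_ne_bot _).2 hV
    exact Nat.mul_le_mul_right _ this
  · exact Cfsg.Agent.S3443.spec_eq V p hp (fun x => Subtype.ext (by simpa using hexp x x.2))
  · refine ⟨(SemidirectProduct.inl : V →* V ⋊[MulAut.conjNormal] H).range, p, ?_, ?_, hp, ?_⟩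
    · rw [SemidirectProduct.range_inl_eq_ker_rightHom]
      exact MonoidHom.normal_ker _
    · obtain ⟨v, hv1⟩ := (Subgroup.ne_bot_iff_exists_ne_one).1 hV
      intro hbot
      have hmem : (SemidirectProduct.inl v : V ⋊[MulAut.conjNormal] H) ∈
          (SemidirectProduct.inl : V →* V ⋊[MulAut.conjNormal] H).range := ⟨v, rfl⟩
      rw [hbot, Subgroup.mem_bot] at hmem
      exact hv1 (SemidirectProduct.inl_injective (hmem.trans (map_one _).symm))
    · rintro _ ⟨v, rfl⟩
      rw [← map_pow]
      have : v ^ p = 1 := Subtype.ext (by simpa using hexp v v.2)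
      rw [this, map_one]

theorem exists_large (H : Type) [Group H] [Finite H] (h : HasExpP H) (N : ℕ) :
    ∃ (H' : Type) (_ : Group H') (_ : Finite H'), N < Nat.card H' ∧
      Set.range (orderOf : H' → ℕ) = Set.range (orderOf : H → ℕ) ∧ HasExpP H' := by
  induction N with
  | zero => exact ⟨H, inferInstance, inferInstance, Nat.card_pos, rfl, h⟩
  | succ N ih =>
    obtain ⟨H', hg, hf, hN, hs, hP⟩ := ih
    obtain ⟨H'', hg', hf', hN', hs', hP'⟩ := step H' hP
    exact ⟨H'', hg', hf', by omega, hs'.trans hs, hP'⟩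

theorem hasExpP_of_solvable_normal {G : Type*} [Group G] [Finite G] (K : Subgroup G) [K.Normal]
    (hK : K ≠ ⊥) (hs : Group.IsSolvable K) : HasExpP G := by
  classical
  have hex : ∃ n, derivedSeries K n = ⊥ := hs.solvable
  have hn0 : Nat.find hex ≠ 0 := by
    intro h0
    have := Nat.find_spec hex
    rw [h0, derivedSeries_zero] at this
    apply hK
    rw [Subgroup.eq_bot_iff_forall]
    intro x hx
    have : (⟨x, hx⟩ : K) ∈ (⊤ : Subgroup K) := Subgroup.mem_top _
    rw [‹(⊤ : Subgroup K) = ⊥›, Subgroup.mem_bot] at this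
    exact congrArg Subtype.val this
  obtain ⟨m, hm⟩ := Nat.exists_eq_succ_of_ne_zero hn0
  have hA : derivedSeries K m ≠ ⊥ := Nat.find_min hex (by omega)
  have hAA : ⁅derivedSeries K m, derivedSeries K m⁆ = ⊥ := by
    have := Nat.find_spec hex
    rw [hm] at this
    exact this
  set A : Subgroup G := (derivedSeries K m).map K.subtype with hAdef
  have hAn : A.Normal := ConjAct.normal_of_characteristic_of_normal
  have hAne : A ≠ ⊥ := by
    intro h
    apply hA
    rw [hAdef, (Subgroup.map_eq_bot_iff_of_injective _ K.subtype_injective)] at h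
    exact h
  have hAcomm : ∀ a ∈ A, ∀ b ∈ A, a * b = b * a := by
    rintro _ ⟨a, ha, rfl⟩ _ ⟨b, hb, rfl⟩
    have hle := (Subgroup.commutator_eq_bot_iff_le_centralizer).1 hAA
    have := hle ha b hb
    simp only [Subgroup.coe_subtype, ← Subgroup.coe_mul]
    rw [this]
  -- a prime dividing the order
  have hcard : 1 < Nat.card A := (Subgroup.one_lt_card_iff_ne_bot _).2 hAne
  obtain ⟨p, hp, hpd⟩ := Nat.exists_prime_and_dvd (Nat.ne_of_gt hcard)
  haveI : Fact p.Prime := ⟨hp⟩
  obtain ⟨x, hx⟩ := exists_prime_orderOf_dvd_card' p hpd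
  let V : Subgroup G :=
    { carrier := {g | g ∈ A ∧ g ^ p = 1}
      one_mem' := ⟨A.one_mem, one_pow _⟩
      mul_mem' := by
        rintro a b ⟨ha, hap⟩ ⟨hb, hbp⟩
        refine ⟨A.mul_mem ha hb, ?_⟩
        rw [(Commute.mul_pow (hAcomm a ha b hb) p), hap, hbp, one_mul]
      inv_mem' := by
        rintro a ⟨ha, hap⟩
        exact ⟨A.inv_mem ha, by rw [inv_pow, hap, inv_one]⟩ }
  refine ⟨V, p, ⟨?_⟩, ?_, hp, fun v hv => hv.2⟩
  · rintro n ⟨hn, hnp⟩ g
    refine ⟨hAn.conj_mem n hn g, ?_⟩
    rw [conj_pow, hnp, mul_one, mul_inv_cancel]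
  · intro hbot
    have hxV : (x : G) ∈ V := by
      refine ⟨x.2, ?_⟩
      have := pow_orderOf_eq_one x
      rw [hx] at this
      exact_mod_cast congrArg Subtype.val this
    rw [hbot, Subgroup.mem_bot] at hxV
    have hx1 : x = 1 := Subtype.ext hxV
    rw [hx1, orderOf_one] at hx
    exact hp.one_lt.ne hx

/-- A finite group with a non-trivial solvable normal subgroup is not determined by its set of element orders, not even up to finitely many possibilities: for every bound N there is a finite group of order greater than N with exactly the same set of element orders. -/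
theorem result {G : Type*} [Group G] [Finite G] (K : Subgroup G) [K.Normal] (hK : K ≠ ⊥)
    (hs : Group.IsSolvable K) (N : ℕ) :
    ∃ (H : Type) (_ : Group H) (_ : Fintype H), N < Fintype.card H ∧ Set.range (orderOf : H → ℕ) = Set.range (orderOf : G → ℕ) := by
  classical
  have hP : HasExpP G := hasExpP_of_solvable_normal K hK hs
  -- transfer to a small type
  let f : Shrink.{0} G ≃* G := Shrink.mulEquiv
  have hP0 : HasExpP (Shrink.{0} G) := by
    obtain ⟨V, p, hVn, hV, hp, hexp⟩ := hP
    refine ⟨V.comap f.toMonoidHom, p, hVn.comap _, ?_, hp, ?_⟩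
    · intro hbot
      apply hV
      rw [Subgroup.eq_bot_iff_forall]
      intro x hx
      have : f.symm x ∈ V.comap f.toMonoidHom := by
        simpa [Subgroup.mem_comap] using hx
      rw [hbot, Subgroup.mem_bot] at this
      simpa using congrArg f this
    · intro v hv
      have h1 : f v ∈ V := hv
      have := hexp _ h1
      rw [← map_pow] at this
      exact f.injective (this.trans (map_one f).symm)
  obtain ⟨H', hg, hf, hN, hspec, -⟩ := exists_large _ hP0 N
  letI := hg
  haveI := hf
  refine ⟨H', hg, Fintype.ofFinite H', ?_, ?_⟩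
  · rw [← @Nat.card_eq_fintype_card _ (Fintype.ofFinite H')]; exact hN
  · rw [hspec]
    ext n
    constructor
    · rintro ⟨x, rfl⟩
      exact ⟨f x, f.orderOf_eq x⟩
    · rintro ⟨x, rfl⟩
      exact ⟨f.symm x, by rw [← f.orderOf_eq, MulEquiv.apply_symm_apply]⟩

end Cfsg.Agent.S3444
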