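import Cfsg.Statements.S1724
import Cfsg.Agent.Lib.Helper8.J2X
import Cfsg.Agent.Lib.Helper2.J2T5
import Cfsg.Agent.Lib.Helper6.J2T3
import Cfsg.Agent.Lib.Helper6.J2M2
import Cfsg.Agent.Lib.Helper9.J2Sb
import Cfsg.Agent.Lib.Helper7.J2W1
import Cfsg.Agent.Lib.Helper5.J2W2

set_option autoImplicit false
open Cfsg

namespace Cfsg.Agent.S1724

/-- In a group of Hall–Janko type (large-extraspecial hypothesis with Q of order 32, quotient Ω⁻(4, 2), z not weakly closed in Q, more than one class of involutions), a Sylow 7-subgroup is its own centraliser and its normaliser is non-abelian of order 42. -/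
theorem result {G : Type*} [Group G] [Finite G] (z : G) (hz : orderOf z = 2) (Q : Subgroup (Subgroup.centralizer ({z} : Set G))) [Q.Normal] (hF : Cfsg.generalizedFittingSubgroup (Subgroup.centralizer ({z} : Set G)) = Q) (hQ : Cfsg.IsExtraspecial 2 Q) (hcard : Nat.card Q = 2 ^ 5) (e : (Subgroup.centralizer ({z} : Set G)) ⧸ Q ≃* Cfsg.Omega (ZMod 2) (Cfsg.quadFormMinus 1 (ZMod 2) 1 1)) (hnwc : ∃ g : G, (∃ hq : g * z * g⁻¹ ∈ Subgroup.centralizer ({z} : Set G), (⟨g * z * g⁻¹, hq⟩ : Subgroup.centralizer ({z} : Set G)) ∈ Q) ∧ g * z * g⁻¹ ≠ z) (hcl : ∃ x y : G, orderOf x = 2 ∧ orderOf y = 2 ∧ ¬ IsConj x y) (D : Sylow 7 G) : Subgroup.centralizer ((D : Subgroup G) : Set G) = D ∧ Nat.card (Subgroup.normalizer ((D : Subgroup G) : Set G)) = 42 ∧ ¬ IsMulCommutative (Subgroup.normalizer ((D : Subgroup G) : Set G)) := by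
  obtain ⟨Q', phi, u, -, F⟩ := Cfsg.Agent.Lib.Helper8.J2.exists_facts z hz Q hF hQ hcard e hnwc hcl
  obtain ⟨t, V0, R1, D0, hG, hz2, ht, hzt, -, -, hcl2, -, hVB, hV, htV, hR1, hfuse, hBz, -, -, hM, hVD,
    hD12, hcent, hDA4⟩ := F.exports
  have hC : ∀ g : G, g ∈ Subgroup.centralizer ({z} : Set G) ↔ g * z = z * g := fun g =>
    Subgroup.mem_centralizer_singleton_iff
  have hCz : ∀ c ∈ Subgroup.centralizer ({z} : Set G), c * z = z * c := fun c hc => (hC c).mp hc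
  have h3 : Cfsg.Agent.Lib.Helper6.J2T.ThreeLocal z (Subgroup.centralizer ({z} : Set G)) Q' :=
    Cfsg.Agent.Lib.Helper6.J2T.threeLocal_of_module _ Q' z F.hD F.hQ F.hQC hCz F.hQn F.hCcard phi u
      F.hker F.hran F.hu F.hcm F.hact F.hgen
  have h5 : ∀ f ∈ Subgroup.centralizer ({z} : Set G), orderOf f = 5 →
      ∀ c ∈ Subgroup.centralizer ({z} : Set G), c * f = f * c → ∃ a b : ℕ, c = z ^ a * f ^ b :=
    fun f hfC hf5 => Cfsg.Agent.Lib.Helper2.J2T5.cent_five _ Q' z F.hD F.hQ F.hQC hCz F.hQn F.hself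
      phi F.hker F.hran f hfC hf5
  have h24 : ∀ d : G, d * z = z * d → orderOf d = 3 →
      Nat.card ↥(Subgroup.centralizer ({z} : Set G) ⊓ Subgroup.centralizer ({d} : Set G)) = 24 ∧
      ∃ a b : G, a * a = 1 ∧ b * b = 1 ∧ a * d = d * a ∧ b * d = d * b ∧ a * z = z * a ∧
        b * z = z * b ∧ a * b ≠ b * a :=
    fun d hdz hd3 => Cfsg.Agent.Lib.Helper7.J2W1.cent_in_C_card _ Q' z F.hD F.hQ F.hQC hCz F.hQn
      F.hCcard phi u F.hker F.hran F.hu F.hcm F.hact F.hgen d ((hC d).mpr hdz) hd3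
  have hinv : ∀ d : G, d * z = z * d → orderOf d = 3 → ∀ s : G, orderOf s = 2 → s * d = d * s →
      IsConj s z :=
    fun d hdz hd3 s hs2 hsd => Cfsg.Agent.Lib.Helper6.J2T.DType.invol_isConj hC h3 F.hQz
      (Cfsg.Agent.Lib.Helper6.J2T.dtype_of_mem hC ((hC d).mpr hdz) hd3) s hs2 hsd
  have h1080 : ∀ d ∈ Subgroup.centralizer ({z} : Set G), orderOf d = 3 →
      27 ∣ Nat.card (Subgroup.centralizer ({d} : Set G)) →
      Nat.card (Subgroup.centralizer ({d} : Set G)) = 1080 :=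
    fun d hdC hd3 h27 => Cfsg.Agent.Lib.Helper5.J2W2.card_cent_dtype z hz2 h24 hinv d ((hC d).mp hdC)
      hd3 h27
  have hc := Cfsg.Agent.Lib.Helper6.J2M.no_seven_cent hG z t _ Q' V0 R1 D0 hC h3 F.hQz hz2 ht hzt
    hcl2 F.hCcard hVB hV htV hR1 hfuse hBz hM hVD hD12 hcent hDA4 h5 h1080
  exact Cfsg.Agent.Lib.Helper9.J2S.sylow7_final' hG D hc

end Cfsg.Agent.S1724
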