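import Cfsg.Statements.S3975
import Cfsg.Agent.Lib.Helper2.WielandtCount
import Cfsg.Agent.Lib.Helper3.CyclicSub

set_option autoImplicit false
open Cfsg

namespace Cfsg.Agent.S3975
open Cfsg.Agent.Lib.Helper2 Cfsg.Agent.Lib.Helper3

/-- a cyclic group has exactly one subgroup of each prime power order dividing its order -/
theorem card_subgroups_cyclic {C : Type*} [Group C] [Finite C] [IsCyclic C] {p β : ℕ}
    (hp : p.Prime) (hdiv : p ^ β ∣ Nat.card C) :
    Nat.card {H : Subgroup C // Nat.card H = p ^ β} = 1 := by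
  haveI : Fact p.Prime := ⟨hp⟩
  obtain ⟨K, hK⟩ := Sylow.exists_subgroup_card_pow_prime p hdiv
  rw [Nat.card_eq_one_iff_unique]
  refine ⟨⟨?_⟩, ⟨⟨K, hK⟩⟩⟩
  rintro ⟨H, hH⟩ ⟨H', hH'⟩
  exact Subtype.ext (subgroup_eq_of_card_eq_of_isCyclic H H' (hH.trans hH'.symm))

/-- Let `p` be a prime and `G` a finite group whose order is divisible by `p ^ β`. Then the number of subgroups of `G` of order `p ^ β` is congruent to `1` modulo `p`. (When `p ^ β` is the full power of `p` dividing the order, these are the Sylow `p`-subgroups and this is the usual Sylow count.) -/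
theorem result {G : Type*} [Group G] [Finite G] (p β : ℕ) (hp : p.Prime) (hdiv : p ^ β ∣ Nat.card G) : Nat.card {H : Subgroup G // Nat.card H = p ^ β} ≡ 1 [MOD p] := by
  obtain ⟨n, hn⟩ := hdiv
  have hNpos : 0 < Nat.card G := Nat.card_pos
  haveI : NeZero (Nat.card G) := ⟨hNpos.ne'⟩
  have hnpos : 0 < n := by
    rcases Nat.eq_zero_or_pos n with h | h
    · rw [h, mul_zero] at hn; omega
    · exact h
  -- the cyclic group of the same order
  have hC : Nat.card (Multiplicative (ZMod (Nat.card G))) = Nat.card G := by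
    rw [Nat.card_eq_fintype_card, Fintype.card_multiplicative, ZMod.card]
  obtain ⟨t, ht⟩ := wielandt_count (G := G) hp hn
  obtain ⟨t', ht'⟩ := wielandt_count (G := Multiplicative (ZMod (Nat.card G))) hp (hC.trans hn)
  rw [hC, card_subgroups_cyclic hp (by rw [hC, hn]; exact Dvd.intro _ rfl), one_mul] at ht'
  rw [ht'] at ht
  set a := Nat.card {H : Subgroup G // Nat.card H = p ^ β} with ha
  -- n + p n t' = a n + p n t
  have h1 : 1 + p * t' = a + p * t := by
    apply Nat.eq_of_mul_eq_mul_right hnpos
    rw [add_mul, add_mul, one_mul]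
    calc n + p * t' * n = n + p * n * t' := by ring
      _ = a * n + p * n * t := ht
      _ = a * n + p * t * n := by ring
  show a % p = 1 % p
  have h2 : (a + p * t) % p = a % p := Nat.add_mul_mod_self_left a p t
  have h3 : (1 + p * t') % p = 1 % p := Nat.add_mul_mod_self_left 1 p t'
  rw [← h2, ← h1, h3]

end Cfsg.Agent.S3975
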