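import Cfsg.Statements.S3977
import Cfsg.Agent.Lib.Helper2.PGroup
import Cfsg.Agent.Lib.Helper2.PGroupNormal
import Cfsg.Agent.Lib.Helper2.FrattiniSub

set_option autoImplicit false
open Cfsg

namespace Cfsg.Agent.S3977
open Cfsg.Agent.Lib.Helper2
open scoped commutatorElement

universe u

theorem aux (p s : ℕ) (hp : p.Prime) (hs : 1 ≤ s) (h2 : p ≠ 2 ∨ 2 ≤ s) :
    ∀ m : ℕ, ∀ (G : Type u) [Group G] [Finite G], Nat.card G = p ^ m → s < m →
      (∀ H K : Subgroup G, Nat.card H = p ^ s → Nat.card K = p ^ s → H = K) → IsCyclic G := by
  haveI : Fact p.Prime := ⟨hp⟩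
  intro m
  induction m using Nat.strong_induction_on with
  | _ m ih =>
    intro G _ _ hG hsm huniq
    have hGp : IsPGroup p G := IsPGroup.of_card hG
    -- the unique subgroup of order p^s
    obtain ⟨H, hH⟩ := Sylow.exists_subgroup_card_pow_prime p
      (show p ^ s ∣ Nat.card G by rw [hG]; exact pow_dvd_pow p hsm.le)
    -- Fact 1
    have hfact : ∀ x : G, x ^ (p ^ s) = 1 → x ∈ H := by
      intro x hx
      obtain ⟨j, hjs, hj⟩ := (Nat.dvd_prime_pow hp).1 (orderOf_dvd_of_pow_eq_one hx)
      have hz : Nat.card (Subgroup.zpowers x) = p ^ j := by rw [Nat.card_zpowers, hj]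
      obtain ⟨K, hK, hxK⟩ := Sylow.exists_subgroup_card_pow_prime_le p
        (show p ^ s ∣ Nat.card G by rw [hG]; exact pow_dvd_pow p hsm.le) _ hz hjs
      rw [huniq H K hH hK]
      exact hxK (Subgroup.mem_zpowers x)
    -- subgroups of order ≥ p^s contain H
    have hHle : ∀ (A : Subgroup G) (k : ℕ), Nat.card A = p ^ k → s ≤ k → H ≤ A := by
      intro A k hA hk
      obtain ⟨K, hK⟩ := Sylow.exists_subgroup_card_pow_prime p
        (show p ^ s ∣ Nat.card A by rw [hA]; exact pow_dvd_pow p hk)
      have hK' : Nat.card (K.map A.subtype) = p ^ s := by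
        rw [Subgroup.card_map_of_injective A.subtype_injective, hK]
      rw [huniq H _ hH hK']
      exact Subgroup.map_subtype_le K
    -- subgroups of order p^k with s < k < m are cyclic
    have hcyc : ∀ (A : Subgroup G) (k : ℕ), Nat.card A = p ^ k → s < k → k < m → IsCyclic A := by
      intro A k hA hsk hkm
      apply ih k hkm A hA hsk
      intro K K' hK hK'
      apply Subgroup.map_injective A.subtype_injective
      apply huniq
      · rw [Subgroup.card_map_of_injective A.subtype_injective, hK]
      · rw [Subgroup.card_map_of_injective A.subtype_injective, hK']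
    -- an element outside H
    by_cases hm : m = s + 1
    · have hlt : Nat.card H < Nat.card G := by
        rw [hH, hG]; exact Nat.pow_lt_pow_right hp.one_lt hsm
      have hHtop : H ≠ ⊤ := by
        intro h
        rw [h, Subgroup.card_top] at hlt
        exact lt_irrefl _ hlt
      obtain ⟨x, hx⟩ : ∃ x : G, x ∉ H := by
        by_contra hcon
        push Not at hcon
        exact hHtop (eq_top_iff.2 fun x _ => hcon x)
      apply isCyclic_of_orderOf_eq_card x
      obtain ⟨j, hjm, hj⟩ := (Nat.dvd_prime_pow hp).1 (hG ▸ orderOf_dvd_natCard x)
      rw [hj, hG]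
      congr 1
      by_contra hne
      have hjs : j ≤ s := by omega
      apply hx
      apply hfact
      rw [← Nat.sub_add_cancel hjs, pow_add, mul_comm, pow_mul, ← hj, pow_orderOf_eq_one, one_pow]
    · have hsm2 : s + 1 < m := by omega
      -- a maximal subgroup A
      obtain ⟨A, hA⟩ := Sylow.exists_subgroup_card_pow_prime p
        (show p ^ (m - 1) ∣ Nat.card G by rw [hG]; exact pow_dvd_pow p (by omega))
      haveI hAc : IsCyclic A := hcyc A (m - 1) hA (by omega) (by omega)
      have hAlt : Nat.card A < Nat.card G := by
        rw [hA, hG]; exact Nat.pow_lt_pow_right hp.one_lt (by omega)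
      obtain ⟨g, hg⟩ : ∃ g : G, g ∉ A := by
        by_contra hcon
        push Not at hcon
        have : A = ⊤ := eq_top_iff.2 fun x _ => hcon x
        rw [this, Subgroup.card_top] at hAlt
        exact lt_irrefl _ hAlt
      by_cases hgG : orderOf g = Nat.card G
      · exact isCyclic_of_orderOf_eq_card g hgG
      · exfalso
        obtain ⟨j, hjm, hj⟩ := (Nat.dvd_prime_pow hp).1 (hG ▸ orderOf_dvd_natCard g)
        have hjlt : j ≤ m - 1 := by
          rcases hjm.lt_or_eq with h | h
          · omega
          · exfalso; apply hgG; rw [hj, h, hG]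
        have hz : Nat.card (Subgroup.zpowers g) = p ^ j := by rw [Nat.card_zpowers, hj]
        obtain ⟨B, hB, hgB⟩ := Sylow.exists_subgroup_card_pow_prime_le p
          (show p ^ (m - 1) ∣ Nat.card G by rw [hG]; exact pow_dvd_pow p (by omega)) _ hz hjlt
        have hgB' : g ∈ B := hgB (Subgroup.mem_zpowers g)
        haveI hBc : IsCyclic B := hcyc B (m - 1) hB (by omega) (by omega)
        have hAidx : A.index = p := by
          have := A.card_mul_index
          rw [hA, hG] at this
          have h3 : p ^ m = p ^ (m - 1) * p := by rw [← pow_succ]; congr 1; omega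
          rw [h3] at this
          exact Nat.eq_of_mul_eq_mul_left (pow_pos hp.pos _) this
        have hBidx : B.index = p := by
          have := B.card_mul_index
          rw [hB, hG] at this
          have h3 : p ^ m = p ^ (m - 1) * p := by rw [← pow_succ]; congr 1; omega
          rw [h3] at this
          exact Nat.eq_of_mul_eq_mul_left (pow_pos hp.pos _) this
        haveI hAn : A.Normal := normal_of_index_eq_prime hGp A hAidx
        haveI hBn : B.Normal := normal_of_index_eq_prime hGp B hBidx
        have hBA : ¬ B ≤ A := fun h => hg (h hgB')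
        have hAB : ¬ A ≤ B := by
          intro h
          apply hBA
          have := Subgroup.eq_of_le_of_card_ge h (by rw [hA, hB])
          rw [this]
        have hsup : A ⊔ B = ⊤ := sup_eq_top_of_index_prime hp hAidx hBA
        -- generators
        obtain ⟨a', ha'⟩ := hAc.exists_generator
        obtain ⟨b', hb'⟩ := hBc.exists_generator
        set a : G := (a' : G) with ha
        set b : G := (b' : G) with hb
        have hAgen : A = Subgroup.zpowers a := by
          apply le_antisymm
          · intro x hx
            obtain ⟨k, hk⟩ := Subgroup.mem_zpowers_iff.1 (ha' ⟨x, hx⟩)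
            refine Subgroup.mem_zpowers_iff.2 ⟨k, ?_⟩
            have := congrArg Subtype.val hk
            simpa using this
          · rw [Subgroup.zpowers_le]; exact a'.2
        have hBgen : B = Subgroup.zpowers b := by
          apply le_antisymm
          · intro x hx
            obtain ⟨k, hk⟩ := Subgroup.mem_zpowers_iff.1 (hb' ⟨x, hx⟩)
            refine Subgroup.mem_zpowers_iff.2 ⟨k, ?_⟩
            have := congrArg Subtype.val hk
            simpa using this
          · rw [Subgroup.zpowers_le]; exact b'.2
        have haA : a ∈ A := a'.2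
        have hbB : b ∈ B := b'.2
        have hbA : b ∉ A := by
          intro h
          apply hBA
          rw [hBgen, Subgroup.zpowers_le]; exact h
        have hAcomm : ∀ x ∈ A, ∀ y ∈ A, x * y = y * x := by
          intro x hx y hy
          rw [hAgen] at hx hy
          obtain ⟨k, rfl⟩ := Subgroup.mem_zpowers_iff.1 hx
          obtain ⟨l, rfl⟩ := Subgroup.mem_zpowers_iff.1 hy
          rw [← zpow_add, ← zpow_add, add_comm]
        have hBcomm : ∀ x ∈ B, ∀ y ∈ B, x * y = y * x := by
          intro x hx y hy
          rw [hBgen] at hx hy
          obtain ⟨k, rfl⟩ := Subgroup.mem_zpowers_iff.1 hx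
          obtain ⟨l, rfl⟩ := Subgroup.mem_zpowers_iff.1 hy
          rw [← zpow_add, ← zpow_add, add_comm]
        -- D = A ⊓ B is central
        have hDcent : ∀ d ∈ A ⊓ B, ∀ y : G, d * y = y * d := by
          intro d hd y
          have hy : y ∈ A ⊔ B := by rw [hsup]; exact Subgroup.mem_top y
          have hcent : A ⊔ B ≤ Subgroup.centralizer {d} := by
            apply sup_le
            · intro x hx
              rw [Subgroup.mem_centralizer_singleton_iff]
              exact hAcomm x hx d hd.1
            · intro x hx
              rw [Subgroup.mem_centralizer_singleton_iff]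
              exact hBcomm x hx d hd.2
          exact (Subgroup.mem_centralizer_singleton_iff.1 (hcent hy)).symm
        have hpowD : ∀ y : G, y ^ p ∈ A ⊓ B := by
          intro y
          refine ⟨?_, ?_⟩
          · have := A.pow_index_mem y
            rwa [hAidx] at this
          · have := B.pow_index_mem y
            rwa [hBidx] at this
        -- b^p = a^k with p ∣ k
        have hbpA : b ^ p ∈ Subgroup.zpowers a := hAgen ▸ (hpowD b).1
        rw [← mem_powers_iff_mem_zpowers, Submonoid.mem_powers_iff] at hbpA
        obtain ⟨k, hk⟩ := hbpA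
        have hpk : p ∣ k := by
          by_contra hnd
          apply hAB
          have hoa : orderOf a = p ^ (m - 1) := by
            rw [← hA, hAgen, Nat.card_zpowers]
          have hcop : (orderOf a).Coprime k := by
            rw [hoa]
            exact Nat.Coprime.pow_left _ ((Nat.Prime.coprime_iff_not_dvd hp).2 hnd)
          have h3 : orderOf (a ^ k) = orderOf a := hcop.orderOf_pow
          have h4 : Subgroup.zpowers (a ^ k) = Subgroup.zpowers a := by
            apply Subgroup.eq_of_le_of_card_ge
            · rw [Subgroup.zpowers_le]
              exact Subgroup.pow_mem _ (Subgroup.mem_zpowers a) k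
            · rw [Nat.card_zpowers, Nat.card_zpowers, h3]
          rw [hAgen, ← h4, hk, Subgroup.zpowers_le]
          exact (hpowD b).2
        obtain ⟨u, rfl⟩ := hpk
        set x : G := (a ^ u)⁻¹ with hx
        have hxA : x ∈ A := A.inv_mem (A.pow_mem haA u)
        have hxp : x ^ p * b ^ p = 1 := by
          rw [hx, inv_pow, ← pow_mul, mul_comm u p, hk, inv_mul_cancel]
        set z : G := ⁅b, x⁆ with hz
        have hzD : z ∈ A ⊓ B := by
          refine ⟨?_, ?_⟩
          · have h1 : b * x * b⁻¹ ∈ A := hAn.conj_mem x hxA b
            have : z = (b * x * b⁻¹) * x⁻¹ := by rw [hz, commutatorElement_def]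
            rw [this]
            exact A.mul_mem h1 (A.inv_mem hxA)
          · have h1 : x * b⁻¹ * x⁻¹ ∈ B := hBn.conj_mem b⁻¹ (B.inv_mem hbB) x
            have : z = b * (x * b⁻¹ * x⁻¹) := by rw [hz, commutatorElement_def]; group
            rw [this]
            exact B.mul_mem hbB h1
        have hzc : ∀ y : G, Commute z y := fun y => hDcent z hzD y
        have hzp : z ^ p = 1 := by
          rw [hz, ← commutatorElement_pow_left (hzc b), commutatorElement_eq_one_iff_mul_comm]
          exact hDcent _ (hpowD b) x
        have hrel : b * x = z * x * b := by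
          rw [hz, commutatorElement_def]; group
        -- c = x * b has c^(p^s) = 1
        have hc : (x * b) ^ (p ^ s) = 1 := by
          rcases h2 with hp2 | hs2
          · have h5 : (x * b) ^ p = 1 := by
              rw [mul_pow_prime_of_central_commutator hp hp2 hrel (hzc x) (hzc b) hzp, hxp]
            rw [← Nat.sub_add_cancel hs, pow_succ, mul_comm, pow_mul, h5, one_pow]
          · by_cases hp2 : p = 2
            · subst hp2
              have h5 : (x * b) ^ 2 = z := by
                rw [mul_pow_of_central_commutator hrel (hzc x) (hzc b) 2, hxp]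
                simp
              have h6 : (x * b) ^ 4 = 1 := by
                have : (x * b) ^ 4 = ((x * b) ^ 2) ^ 2 := by rw [← pow_mul]
                rw [this, h5, hzp]
              have h7 : (2 : ℕ) ^ s = 4 * 2 ^ (s - 2) := by
                have : s = 2 + (s - 2) := by omega
                conv_lhs => rw [this, pow_add]
                norm_num
              rw [h7, pow_mul, h6, one_pow]
            · have h5 : (x * b) ^ p = 1 := by
                rw [mul_pow_prime_of_central_commutator hp hp2 hrel (hzc x) (hzc b) hzp, hxp]
              rw [← Nat.sub_add_cancel hs, pow_succ, mul_comm, pow_mul, h5, one_pow]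
        have hcH : x * b ∈ H := hfact _ hc
        have hcA : x * b ∈ A := hHle A (m - 1) hA (by omega) hcH
        apply hbA
        have : b = x⁻¹ * (x * b) := by group
        rw [this]
        exact A.mul_mem (A.inv_mem hxA) hcA

/-- Let `p` be a prime and `G` a group of order `p ^ m` which has exactly one subgroup of order `p ^ s`, where `1 ≤ s < m`, and where `s ≥ 2` if `p = 2`. Then `G` is cyclic. (For `p = 2` and `s = 1` the generalized quaternion groups also occur; that case is the classical criterion for a unique involution.) -/
theorem result {G : Type*} [Group G] [Finite G] (p m s : ℕ) (hp : p.Prime) (hG : Nat.card G = p ^ m) (hs : 1 ≤ s) (hsm : s < m) (h2 : p ≠ 2 ∨ 2 ≤ s) (huniq : ∀ H K : Subgroup G, Nat.card H = p ^ s → Nat.card K = p ^ s → H = K) : IsCyclic G := by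
  exact aux p s hp hs h2 m G hG hsm huniq

end Cfsg.Agent.S3977
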