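import Cfsg.Statements.S5422
import Cfsg.Agent.Lib.Helper2.ExtraSp2
-- import your own Cfsg.Agent.* helpers here

set_option autoImplicit false
open Cfsg

namespace Cfsg.Agent.S5422

/-- Let Q be an extraspecial 2-subgroup of the finite group G whose centralizer in G is its centre Z and which is normal in the centralizer of Z; suppose Q has width at least 2 (order 2^(2w+1) with w ≥ 2) and g is an element of G not normalizing Z with g Z g⁻¹ inside Q. Then Z lies inside g Q g⁻¹; writing V for the subgroup generated by Z and g Z g⁻¹ (a four-group), the normalizer of V induces on V its full automorphism group, that is, the centralizer of V has index 6 in the normalizer of V; and Q is a large extraspecial 2-subgroup of G. -/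
theorem result {G : Type*} [Group G] [Finite G] (Q : Subgroup G) (hL1 : Cfsg.IsExtraspecial 2 ↥Q) (hL2 : Subgroup.centralizer (Q : Set G) = ((Subgroup.center ↥Q).map Q.subtype)) (hL3 : Subgroup.centralizer (((Subgroup.center ↥Q).map Q.subtype) : Set G) ≤ Subgroup.normalizer (Q : Set G)) (w : ℕ) (hw : 2 ≤ w) (hcard : Nat.card ↥Q = 2 ^ (2 * w + 1)) (g : G) (hg : g ∉ Subgroup.normalizer (((Subgroup.center ↥Q).map Q.subtype) : Set G)) (hZg : (((Subgroup.center ↥Q).map Q.subtype)).map (MulAut.conj g).toMonoidHom ≤ Q) : ((Subgroup.center ↥Q).map Q.subtype) ≤ (Q).map (MulAut.conj g).toMonoidHom ∧ (Subgroup.centralizer ((((Subgroup.center ↥Q).map Q.subtype) ⊔ (((Subgroup.center ↥Q).map Q.subtype)).map (MulAut.conj g).toMonoidHom : Subgroup G) : Set G)).relIndex (Subgroup.normalizer ((((Subgroup.center ↥Q).map Q.subtype) ⊔ (((Subgroup.center ↥Q).map Q.subtype)).map (MulAut.conj g).toMonoidHom : Subgroup G) : Set G)) = 6 ∧ Cfsg.IsLargeExtraspecial Q := by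
  obtain ⟨z, hES, hmem⟩ := Cfsg.Agent.Lib.Helper2.ExtraSp.esdata_of_extraspecial hL1
  have hC : Subgroup.centralizer (Q : Set G) ≤ Q := by
    rw [hL2]; exact Subgroup.map_subtype_le _
  have hN : Subgroup.centralizer ({z} : Set G) ≤ Subgroup.normalizer (Q : Set G) := by
    intro c hc
    apply hL3
    rw [Subgroup.mem_centralizer_iff]
    intro y hy
    rcases (hmem y).mp hy with h | h
    · rw [h]; simp
    · rw [h]; exact Cfsg.Agent.Lib.Helper2.ExtraSp.mem_cent_single.mp hc
  have z2 := hES.z_sq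
  have hzZ : z ∈ (Subgroup.center ↥Q).map Q.subtype := (hmem z).mpr (Or.inr rfl)
  have hxQ : g * z * g⁻¹ ∈ Q :=
    hZg (Subgroup.mem_map.mpr ⟨z, hzZ, by simp [MulAut.conj_apply]⟩)
  have hxz : g * z * g⁻¹ ≠ z := by
    intro h
    apply hg
    apply Cfsg.Agent.Lib.Helper2.ExtraSp.mem_normalizer_of_conj_le
    intro v hv
    rcases (hmem v).mp hv with rfl | rfl
    · have : g * 1 * g⁻¹ = 1 := by group
      rw [this]; exact Subgroup.one_mem _
    · rw [h]; exact hzZ
  obtain ⟨q0, s, hq0Q, hq0, hsx, hsz⟩ :=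
    Cfsg.Agent.Lib.Helper2.ExtraSp.key_fusion hES hC hN g hxQ hxz
  obtain ⟨ρ, hρz, hρx⟩ := Cfsg.Agent.Lib.Helper2.ExtraSp.key_rho hES hC hN g hxQ hxz
  obtain ⟨x, hxdef⟩ : ∃ x, x = g * z * g⁻¹ := ⟨_, rfl⟩
  rw [← hxdef] at hxQ hxz hq0 hsx hsz hρz hρx
  have hx2 : x * x = 1 := by
    rw [hxdef]
    calc g * z * g⁻¹ * (g * z * g⁻¹) = g * (z * z) * g⁻¹ := by group
      _ = 1 := by rw [z2]; group
  have hx1 : x ≠ 1 := by
    intro h
    apply hES.z_ne
    have h' : g * z * g⁻¹ = 1 := by rw [← hxdef]; exact h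
    calc z = g⁻¹ * (g * z * g⁻¹) * g := by group
      _ = 1 := by rw [h']; group
  have hxzc : x * z = z * x := hES.z_comm x hxQ
  have hxP : x ∈ Q.map (MulAut.conj g).toMonoidHom := by
    rw [Cfsg.Agent.Lib.Helper2.ExtraSp.mem_map_conj_iff, hxdef]
    have : g⁻¹ * (g * z * g⁻¹) * g = z := by group
    rw [this]; exact hES.zQ
  have hcz : (g⁻¹ * ρ) * z = z * (g⁻¹ * ρ) := by
    apply Cfsg.Agent.Lib.Helper2.ExtraSp.comm_of_cj
    calc g⁻¹ * ρ * z * (g⁻¹ * ρ)⁻¹ = g⁻¹ * (ρ * z * ρ⁻¹) * g := by group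
      _ = g⁻¹ * (g * z * g⁻¹) * g := by rw [hρz, hxdef]
      _ = z := by group
  have hcN : g⁻¹ * ρ ∈ Subgroup.normalizer (Q : Set G) :=
    hN (Cfsg.Agent.Lib.Helper2.ExtraSp.mem_cent_single.mpr hcz.symm)
  have hxzP : x * z ∈ Q.map (MulAut.conj g).toMonoidHom := by
    rw [Cfsg.Agent.Lib.Helper2.ExtraSp.mem_map_conj_iff, ← hρx]
    have h1 := (Subgroup.mem_normalizer_iff.mp hcN x).mp hxQ
    have h2 : g⁻¹ * (ρ * x * ρ⁻¹) * g = g⁻¹ * ρ * x * (g⁻¹ * ρ)⁻¹ := by group
    rw [h2]; exact h1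
  have hzP : z ∈ Q.map (MulAut.conj g).toMonoidHom := by
    have h1 := Subgroup.mul_mem _ (Subgroup.inv_mem _ hxP) hxzP
    have h2 : x⁻¹ * (x * z) = z := by group
    rwa [h2] at h1
  refine ⟨?_, ?_, ?_⟩
  · intro v hv
    rcases (hmem v).mp hv with rfl | rfl
    · exact Subgroup.one_mem _
    · exact hzP
  · obtain ⟨V, hVdef⟩ : ∃ V : Subgroup G, V = (Subgroup.center ↥Q).map Q.subtype ⊔
        ((Subgroup.center ↥Q).map Q.subtype).map (MulAut.conj g).toMonoidHom := ⟨_, rfl⟩
    rw [← hVdef]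
    have hxZg : x ∈ ((Subgroup.center ↥Q).map Q.subtype).map (MulAut.conj g).toMonoidHom :=
      Subgroup.mem_map.mpr ⟨z, hzZ, by rw [hxdef]; simp [MulAut.conj_apply]⟩
    have hVmem : ∀ v, v ∈ V ↔ v = 1 ∨ v = z ∨ v = x ∨ v = x * z := by
      intro v
      constructor
      · intro hv
        have hle : V ≤ Cfsg.Agent.Lib.Helper2.ExtraSp.fourSub z x z2 hx2 hxzc := by
          rw [hVdef]
          apply sup_le
          · intro y hy
            rcases (hmem y).mp hy with rfl | rfl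
            · exact Or.inl rfl
            · exact Or.inr (Or.inl rfl)
          · rintro _ ⟨y, hy, rfl⟩
            rcases (hmem y).mp hy with rfl | rfl
            · left; simp
            · right; right; left
              rw [hxdef]; simp [MulAut.conj_apply]
        exact hle hv
      · rintro (rfl | rfl | rfl | rfl)
        · exact V.one_mem
        · rw [hVdef]; exact Subgroup.mem_sup_left hzZ
        · rw [hVdef]; exact Subgroup.mem_sup_right hxZg
        · rw [hVdef]
          exact Subgroup.mul_mem _ (Subgroup.mem_sup_right hxZg) (Subgroup.mem_sup_left hzZ)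
    exact Cfsg.Agent.Lib.Helper2.ExtraSp.relIndex_six hVmem hES.z_ne hx1 hxz z2 hx2 hxzc q0 s
      (hES.z_comm q0 hq0Q) hq0 hsx hsz
  · refine ⟨hL1, hL2, hL3, ?_⟩
    intro K hK hQK
    exact Cfsg.Agent.Lib.Helper2.ExtraSp.large_of_normal2 hES hC hN hxQ hx1 hxz hx2
      (hES.two.map _)
      (fun c hc r hr => Cfsg.Agent.Lib.Helper2.ExtraSp.conj_normalizes hN g
        (by rw [hxdef] at hc; exact hc) hr) hzP hK hQK


end Cfsg.Agent.S5422
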