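import Cfsg.Statements.S0384
import Cfsg.Agent.Lib.Helper9.M24T11

set_option autoImplicit false
open scoped Pointwise
open Cfsg

namespace Cfsg.Agent.S0384

/-- A dodecad stabiliser is sharply 5-transitive on the dodecad. -/
theorem result (d : Finset Cfsg.GolayPt) (hd : d ∈ Cfsg.dodecads) (x y : Fin 5 ↪ Cfsg.GolayPt) (hx : ∀ i, x i ∈ d) (hy : ∀ i, y i ∈ d) : ∃! g : MulAction.stabilizer Cfsg.M24 d, ∀ i, ((g : Cfsg.M24) : Equiv.Perm Cfsg.GolayPt) (x i) = y i := by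
  obtain ⟨g, ⟨hg, hgxy⟩, huniq⟩ := Cfsg.Agent.Lib.Helper9.M24T11.sharp_dodecad d hd x y hx hy
  have hg' := (Cfsg.Agent.Lib.Helper9.M24T9.mem_stabF d g).mp hg
  refine ⟨⟨⟨g, hg'.1⟩, MulAction.mem_stabilizer_iff.mpr hg'.2⟩, hgxy, ?_⟩
  intro g2 hg2
  apply Subtype.ext
  apply Subtype.ext
  exact huniq g2.1.1 ⟨(Cfsg.Agent.Lib.Helper9.M24T9.mem_stabF d _).mpr
    ⟨g2.1.2, MulAction.mem_stabilizer_iff.mp g2.2⟩, hg2⟩

end Cfsg.Agent.S0384
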