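import Cfsg.Statements.S3920
-- import your own Cfsg.Agent.* helpers here

set_option autoImplicit false
open Cfsg

namespace Cfsg.Agent.S3920

open DihedralGroup

theorem isCyclic_of_le_zpowers {G : Type*} [Group G] (H : Subgroup G) (g : G)
    (h : H ≤ Subgroup.zpowers g) : IsCyclic H := by
  have e := Subgroup.subgroupOfEquivOfLe h
  exact isCyclic_of_surjective e e.surjective

theorem two_mul_eq_zero_iff_of_even {n t : ℕ} (hn : n = 2 * t) (ht : 0 < t) (y : ZMod n) :
    2 * y = 0 ↔ y = 0 ∨ y = (t : ZMod n) := by
  haveI : NeZero n := ⟨by omega⟩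
  constructor
  · intro h
    have h1 : ((2 * y.val : ℕ) : ZMod n) = 0 := by
      push_cast
      rw [ZMod.natCast_zmod_val]; exact h
    rw [ZMod.natCast_eq_zero_iff] at h1
    have hlt := ZMod.val_lt y
    obtain ⟨c, hc⟩ := h1
    have hc' : c = 0 ∨ c = 1 := by
      rcases c with _ | _ | c
      · left; rfl
      · right; rfl
      · exfalso
        have : n * (c + 1 + 1) ≥ 2 * n := by nlinarith
        omega
    rcases hc' with rfl | rfl
    · left
      have : y.val = 0 := by omega
      rw [← ZMod.natCast_zmod_val y, this, Nat.cast_zero]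
    · right
      have : y.val = t := by omega
      rw [← ZMod.natCast_zmod_val y, this]
  · rintro (rfl | rfl)
    · simp
    · have : ((2 * t : ℕ) : ZMod n) = 0 := by rw [← hn]; exact ZMod.natCast_self n
      push_cast at this
      exact this

theorem two_mul_eq_zero_of_odd {n : ℕ} (hn : Odd n) (y : ZMod n) (h : 2 * y = 0) : y = 0 := by
  haveI : NeZero n := ⟨by rintro rfl; exact (by decide : ¬ Odd 0) hn⟩
  have h1 : ((2 * y.val : ℕ) : ZMod n) = 0 := by
    push_cast
    rw [ZMod.natCast_zmod_val]; exact h
  rw [ZMod.natCast_eq_zero_iff] at h1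
  have hcop : Nat.Coprime n 2 := Nat.coprime_two_right.2 hn
  have h2 : n ∣ y.val := hcop.dvd_of_dvd_mul_left h1
  have hlt := ZMod.val_lt y
  have : y.val = 0 := Nat.eq_zero_of_dvd_of_lt h2 hlt
  rw [← ZMod.natCast_zmod_val y, this, Nat.cast_zero]

theorem exists_mul_eq_half {a : ℕ} (ha : 1 ≤ a) (j : ZMod (2 ^ a)) (hj : j ≠ 0) :
    ∃ c : ℕ, j * (c : ZMod (2 ^ a)) = ((2 ^ (a - 1) : ℕ) : ZMod (2 ^ a)) := by
  classical
  have hex : ∃ c : ℕ, j * ((2 ^ c : ℕ) : ZMod (2 ^ a)) = 0 := ⟨a, by
    rw [ZMod.natCast_self, mul_zero]⟩
  have hb := Nat.find_spec hex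
  have hmin := fun m => Nat.find_min hex (m := m)
  set b := Nat.find hex with hbdef
  have hb0 : b ≠ 0 := by
    intro h0
    rw [h0] at hb
    simp at hb
    exact hj hb
  obtain ⟨b', hb'⟩ : ∃ b', b = b' + 1 := ⟨b - 1, by omega⟩
  have hne : j * ((2 ^ b' : ℕ) : ZMod (2 ^ a)) ≠ 0 := hmin b' (by omega)
  have h2 : 2 * (j * ((2 ^ b' : ℕ) : ZMod (2 ^ a))) = 0 := by
    rw [hb'] at hb
    rw [← hb]
    push_cast
    ring
  have hn : 2 ^ a = 2 * 2 ^ (a - 1) := by
    rw [← pow_succ']; congr 1; omega
  rcases (two_mul_eq_zero_iff_of_even hn (by positivity) _).1 h2 with h | h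
  · exact absurd h hne
  · exact ⟨2 ^ b', h⟩

/-- index of an element -/
def idx {n : ℕ} : DihedralGroup n → ZMod n
  | r i => i
  | sr i => i


/-- Say that a group has self-centralizing non-cyclic subgroups when every non-cyclic subgroup H satisfies C_G(H) ≤ H. For n ≥ 3, the dihedral group of order 2n has self-centralizing non-cyclic subgroups if and only if n is odd or a power of 2. -/
theorem result (n : ℕ) (hn : 3 ≤ n) : (∀ H : Subgroup (DihedralGroup n), ¬ IsCyclic ↥H → Subgroup.centralizer (H : Set (DihedralGroup n)) ≤ H) ↔ (Odd n ∨ ∃ k : ℕ, n = 2 ^ k) := by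
  haveI : NeZero n := ⟨by omega⟩
  constructor
  · intro h
    by_contra hcon
    push Not at hcon
    obtain ⟨hodd, hpow⟩ := hcon
    have heven : Even n := Nat.not_odd_iff_even.1 hodd
    rcases Nat.eq_two_pow_or_exists_odd_prime_and_dvd n with ⟨k, hk⟩ | ⟨q, hq, hqn, hqodd⟩
    · exact hpow k hk
    obtain ⟨m, hm⟩ := hqn
    obtain ⟨t, ht⟩ := heven
    have ht' : n = 2 * t := by omega
    have htpos : 0 < t := by omega
    have hq3 : 3 ≤ q := by
      have := hq.two_le
      rcases hqodd with ⟨c, hc⟩
      omega
    let H : Subgroup (DihedralGroup n) :=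
      { carrier := {x | (q : ZMod n) * idx x = 0}
        one_mem' := by
          show (q : ZMod n) * idx (1 : DihedralGroup n) = 0
          rw [one_def]; simp [idx]
        mul_mem' := by
          rintro (i | i) (j | j) hx hy
          · show (q : ZMod n) * idx (r i * r j) = 0
            have hx' : (q : ZMod n) * i = 0 := hx
            have hy' : (q : ZMod n) * j = 0 := hy
            rw [r_mul_r]; show (q : ZMod n) * (i + j) = 0
            rw [mul_add, hx', hy', add_zero]
          · show (q : ZMod n) * idx (r i * sr j) = 0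
            have hx' : (q : ZMod n) * i = 0 := hx
            have hy' : (q : ZMod n) * j = 0 := hy
            rw [r_mul_sr]; show (q : ZMod n) * (j - i) = 0
            rw [mul_sub, hx', hy', sub_zero]
          · show (q : ZMod n) * idx (sr i * r j) = 0
            have hx' : (q : ZMod n) * i = 0 := hx
            have hy' : (q : ZMod n) * j = 0 := hy
            rw [sr_mul_r]; show (q : ZMod n) * (i + j) = 0
            rw [mul_add, hx', hy', add_zero]
          · show (q : ZMod n) * idx (sr i * sr j) = 0
            have hx' : (q : ZMod n) * i = 0 := hx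
            have hy' : (q : ZMod n) * j = 0 := hy
            rw [sr_mul_sr]; show (q : ZMod n) * (j - i) = 0
            rw [mul_sub, hx', hy', sub_zero]
        inv_mem' := by
          rintro (i | i) hx
          · show (q : ZMod n) * idx (r i)⁻¹ = 0
            have hx' : (q : ZMod n) * i = 0 := hx
            rw [inv_r]; show (q : ZMod n) * (-i) = 0
            rw [mul_neg, hx', neg_zero]
          · show (q : ZMod n) * idx (sr i)⁻¹ = 0
            rw [inv_sr]; exact hx }
    have hmemH : ∀ x : DihedralGroup n, x ∈ H ↔ (q : ZMod n) * idx x = 0 := fun x => Iff.rfl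
    have hqm : ((q * m : ℕ) : ZMod n) = 0 := by rw [← hm]; exact ZMod.natCast_self n
    have hu : r ((m : ℕ) : ZMod n) ∈ H := by
      rw [hmemH]; show (q : ZMod n) * (m : ZMod n) = 0
      rw [← hqm]; push_cast; rfl
    have hs0 : sr (0 : ZMod n) ∈ H := by
      rw [hmemH]; show (q : ZMod n) * 0 = 0
      rw [mul_zero]
    have hmpos : 0 < m := by
      rcases Nat.eq_zero_or_pos m with h0 | h0
      · rw [h0, mul_zero] at hm; omega
      · exact h0
    have hnc : ¬ IsCyclic H := by
      intro hc
      have hcomm : (⟨r (m : ZMod n), hu⟩ : H) * ⟨sr 0, hs0⟩ = ⟨sr 0, hs0⟩ * ⟨r (m : ZMod n), hu⟩ :=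
        mul_comm' _ _
      have h1 : r (m : ZMod n) * sr 0 = sr 0 * r (m : ZMod n) := congrArg Subtype.val hcomm
      rw [r_mul_sr, sr_mul_r] at h1
      have h2 : (0 : ZMod n) - m = 0 + m := by
        injection h1
      have h3 : ((2 * m : ℕ) : ZMod n) = 0 := by
        push_cast
        have : (m : ZMod n) = -(m : ZMod n) := by
          rw [zero_sub, zero_add] at h2; exact h2.symm
        calc (2 : ZMod n) * m = m + m := two_mul _
          _ = -(m : ZMod n) + m := by rw [← this]
          _ = 0 := neg_add_cancel _
      rw [ZMod.natCast_eq_zero_iff, hm] at h3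
      have h4 : q ∣ 2 := (Nat.mul_dvd_mul_iff_right hmpos).1 h3
      have := Nat.le_of_dvd (by norm_num) h4
      omega
    have hz : r ((t : ℕ) : ZMod n) ∈ Subgroup.centralizer (H : Set (DihedralGroup n)) := by
      have htt : (t : ZMod n) + t = 0 := by
        have : ((2 * t : ℕ) : ZMod n) = 0 := by rw [← ht']; exact ZMod.natCast_self n
        push_cast at this
        rw [← two_mul]; exact this
      rw [Subgroup.mem_centralizer_iff]
      rintro (i | i) _
      · rw [r_mul_r, r_mul_r, add_comm]
      · rw [sr_mul_r, r_mul_sr]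
        congr 1
        have : (t : ZMod n) = -(t : ZMod n) := eq_neg_of_add_eq_zero_left htt
        rw [sub_eq_add_neg, ← this]
    have hzH := h H hnc hz
    rw [hmemH] at hzH
    have h5 : ((q * t : ℕ) : ZMod n) = 0 := by
      push_cast; exact hzH
    rw [ZMod.natCast_eq_zero_iff, ht'] at h5
    have h6 : 2 ∣ q := (Nat.mul_dvd_mul_iff_right htpos).1 h5
    rcases hqodd with ⟨c, hc⟩
    omega
  · intro hn' H hH x hx
    -- H contains a reflection
    have hrefl : ∃ i, sr i ∈ H := by
      by_contra hno
      push Not at hno
      apply hH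
      apply isCyclic_of_le_zpowers H (r 1)
      rintro (i | i) hi
      · rw [Subgroup.mem_zpowers_iff]
        refine ⟨(i.val : ℤ), ?_⟩
        rw [r_one_zpow]
        congr 1
        simp
      · exact absurd hi (hno i)
    obtain ⟨i, hi⟩ := hrefl
    -- H contains a nontrivial rotation
    have hrot : ∃ j, j ≠ 0 ∧ r j ∈ H := by
      by_contra hno
      push Not at hno
      apply hH
      apply isCyclic_of_le_zpowers H (sr i)
      rintro (k | k) hk
      · have : k = 0 := by
          by_contra hk0
          exact hno k hk0 hk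
        rw [this, r_zero]
        exact Subgroup.one_mem _
      · have h1 : sr i * sr k ∈ H := H.mul_mem hi hk
        rw [sr_mul_sr] at h1
        have : k - i = 0 := by
          by_contra hk0
          exact hno _ hk0 h1
        have hki : k = i := sub_eq_zero.1 this
        rw [hki]
        exact Subgroup.mem_zpowers _
    obtain ⟨j, hj0, hj⟩ := hrot
    rw [Subgroup.mem_centralizer_iff] at hx
    have hxi := hx _ hi
    have hxj := hx _ hj
    rcases hn' with hodd | ⟨a, ha⟩
    · rcases x with k | k
      · rw [sr_mul_r, r_mul_sr] at hxi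
        have h1 : i + k = i - k := by injection hxi
        have h2 : 2 * k = 0 := by
          have : k = -k := by
            have := add_left_cancel (a := i) (b := k) (c := -k) (by rw [h1, sub_eq_add_neg])
            exact this
          calc 2 * k = k + k := two_mul _
            _ = -k + k := by rw [← this]
            _ = 0 := neg_add_cancel _
        rw [two_mul_eq_zero_of_odd hodd k h2, r_zero]
        exact H.one_mem
      · rw [sr_mul_sr, sr_mul_sr] at hxi
        have h1 : k - i = i - k := by injection hxi
        have h2 : 2 * (k - i) = 0 := by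
          calc 2 * (k - i) = (k - i) + (k - i) := two_mul _
            _ = (k - i) + (i - k) := by rw [← h1]
            _ = 0 := by ring
        have := two_mul_eq_zero_of_odd hodd _ h2
        rw [sub_eq_zero.1 this]
        exact hi
    · subst ha
      have ha1 : 1 ≤ a := by
        rcases a with _ | a
        · norm_num at hn
        · omega
      have hnt : 2 ^ a = 2 * 2 ^ (a - 1) := by
        rw [← pow_succ']; congr 1; omega
      have htpos : 0 < 2 ^ (a - 1) := by positivity
      obtain ⟨c, hc⟩ := exists_mul_eq_half ha1 j hj0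
      have hrt : r (((2 ^ (a - 1) : ℕ)) : ZMod (2 ^ a)) ∈ H := by
        rw [← hc, ← r_pow]
        exact H.pow_mem hj c
      rcases x with k | k
      · rw [sr_mul_r, r_mul_sr] at hxi
        have h1 : i + k = i - k := by injection hxi
        have h2 : 2 * k = 0 := by
          have : k = -k := by
            have := add_left_cancel (a := i) (b := k) (c := -k) (by rw [h1, sub_eq_add_neg])
            exact this
          calc 2 * k = k + k := two_mul _
            _ = -k + k := by rw [← this]
            _ = 0 := neg_add_cancel _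
        rcases (two_mul_eq_zero_iff_of_even hnt htpos k).1 h2 with h | h
        · rw [h, r_zero]; exact H.one_mem
        · rw [h]; exact hrt
      · rw [sr_mul_sr, sr_mul_sr] at hxi
        have h1 : k - i = i - k := by injection hxi
        have h2 : 2 * (k - i) = 0 := by
          calc 2 * (k - i) = (k - i) + (k - i) := two_mul _
            _ = (k - i) + (i - k) := by rw [← h1]
            _ = 0 := by ring
        rcases (two_mul_eq_zero_iff_of_even hnt htpos _).1 h2 with h | h
        · rw [sub_eq_zero.1 h]; exact hi
        · have hk : k = i + ((2 ^ (a - 1) : ℕ) : ZMod (2 ^ a)) := by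
            rw [← h]; ring
          rw [hk, ← sr_mul_r]
          exact H.mul_mem hi hrt

end Cfsg.Agent.S3920
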