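import Mathlib
import Cfsg.Statements.S0727
import Cfsg.Agent.Lib.Lead.S3B

set_option autoImplicit false

open Cfsg

namespace Cfsg.Agent.S0727

theorem result {α : Type*} [Fintype α] [DecidableEq α] {f : ℕ} (hf : 1 ≤ f) (hα : Fintype.card α = 2 ^ f + 1) (G : Subgroup (Equiv.Perm α)) (h3 : MulAction.IsMultiplyPretransitive G α 3) (hsharp : ∀ x : Fin 3 ↪ α, MulAction.stabilizer G x = ⊥) : ∃ (F : Type) (_ : Field F) (_ : Fintype F), Fintype.card F = 2 ^ f ∧ Nonempty (G ≃* Matrix.ProjGenLinGroup (Fin 2) F) := by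
  exact Cfsg.Agent.Lib.Lead.S3.sharp3_pgl G h3 hsharp hf hα

end Cfsg.Agent.S0727
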