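import Cfsg.Statements.S2905
import Cfsg.Agent.Lib.Helper7.PMinimal2
import Cfsg.Agent.Lib.Helper2.Cores

set_option autoImplicit false
open Cfsg

namespace Cfsg.Agent.S2905

open Cfsg.Agent.Lib.Helper7

/-- Let P be a finite p-minimal group (a Sylow p-subgroup S is not normal and lies in a unique maximal subgroup M of P) and let F be the normal core of M. Then: every subnormal subgroup N of P contained in M satisfies N ∩ S ≤ O_p(P); if O^p(P) has a normal Sylow p-subgroup then the order of P has at most two prime divisors; every normal subgroup N of P either contains O^p(P) or is contained in F; and O^p(P)F ⧸ F is a minimal normal subgroup of P ⧸ F. -/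
theorem result {P : Type*} [Group P] [Finite P] {p : ℕ} [Fact p.Prime] (hP : Cfsg.IsPMinimal p P) (S : Sylow p P) (M : Subgroup P) (hM : IsCoatom M) (hSM : (S : Subgroup P) ≤ M) [hF : M.normalCore.Normal] : (∀ N : Subgroup P, N.IsSubnormal → N ≤ M → N ⊓ (S : Subgroup P) ≤ Cfsg.pCore p P) ∧ ((∀ T : Sylow p ↥(Cfsg.pResidual p P), (T : Subgroup ↥(Cfsg.pResidual p P)).Normal) → (Nat.card P).primeFactors.card ≤ 2) ∧ (∀ N : Subgroup P, N.Normal → Cfsg.pResidual p P ≤ N ∨ N ≤ M.normalCore) ∧ (∀ N : Subgroup P, N.Normal → M.normalCore ≤ N → N ≤ Cfsg.pResidual p P ⊔ M.normalCore → N = M.normalCore ∨ N = Cfsg.pResidual p P ⊔ M.normalCore) ∧ M.normalCore < Cfsg.pResidual p P ⊔ M.normalCore := by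
  classical
  have hmin : IsMinimalOver (S : Subgroup P) := IsPMinimal.isMinimalOver hP S
  have hle := IsMinimalOver.le_coatom hmin hM hSM
  have hsupR : (S : Subgroup P) ⊔ pResidual p P = ⊤ :=
    Cfsg.Agent.Lib.Helper1.sylow_sup_pResidual_eq_top S
  -- (3)
  have h3 : ∀ N : Subgroup P, N.Normal → pResidual p P ≤ N ∨ N ≤ M.normalCore := by
    intro N hN
    by_cases hNS : N ⊔ (S : Subgroup P) = ⊤
    · left
      exact pResidual_le_of_le_sup S.2 (hNS ▸ le_top)
    · right
      rw [Subgroup.normal_le_normalCore]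
      exact le_sup_left.trans (hle _ le_sup_right hNS)
  -- (5)
  have h5 : M.normalCore < pResidual p P ⊔ M.normalCore := by
    refine lt_of_le_of_ne le_sup_right ?_
    intro h
    have h1 : pResidual p P ≤ M := (le_sup_left.trans h.ge).trans (Subgroup.normalCore_le M)
    exact hM.1 (top_le_iff.mp (hsupR ▸ sup_le hSM h1))
  refine ⟨?_, ?_, h3, ?_, h5⟩
  · -- (1)
    intro N hN hNM
    rw [IsMinimalOver.pCore_eq_inf_normalCore hmin hM hSM S le_rfl, inf_comm]
    exact inf_le_inf_left _ (isSubnormal_le_normalCore_of_isCoatom hM hN hNM)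
  · -- (2)
    intro hcl
    have hcl' : IsPClosed p ↥(pResidual p P) := hcl
    have hQ : ((S : Subgroup P) ⊓ pResidual p P).Normal := IsPClosed.inf_sylow_normal hcl' S
    set Q := (S : Subgroup P) ⊓ pResidual p P with hQdef
    have hp : p.Prime := Fact.out
    have key : ∀ t : ℕ, ∀ _ : Fact t.Prime, t ≠ p →
        (∃ T : Sylow t P, (T : Subgroup P) ≤ M) ∨ (Nat.card P).primeFactors ⊆ {p, t} := by
      intro t ht htp
      obtain ⟨T₀⟩ : Nonempty (Sylow t P) := inferInstance
      have hT₀ : (T₀ : Subgroup P) ≤ pResidual p P := by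
        intro x hx
        apply Cfsg.Agent.Lib.Helper1.mem_pResidual_of_coprime
        obtain ⟨k, hk⟩ := T₀.2 ⟨x, hx⟩
        have hk' : x ^ t ^ k = 1 := congrArg Subtype.val hk
        have h1 : orderOf x ∣ t ^ k := orderOf_dvd_of_pow_eq_one hk'
        exact Nat.Coprime.coprime_dvd_left h1
          (((Nat.coprime_primes ht.out hp).mpr htp).pow_left k)
      obtain ⟨T, hTR, hST⟩ := exists_sylow_sup_le_normalizer S (pResidual p P) hQ t T₀ hT₀
      by_cases hX : (Q ⊔ (T : Subgroup P)) ⊔ (S : Subgroup P) = ⊤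
      · right
        have hn : (Q ⊔ (T : Subgroup P)).Normal := by
          rw [← Subgroup.normalizer_eq_top_iff]
          exact top_le_iff.mp (hX ▸ sup_le Subgroup.le_normalizer hST)
        have h1 : Nat.card P ∣ Nat.card (S : Subgroup P) *
            (Nat.card (T : Subgroup P) * Nat.card Q) := by
          have h2 := Cfsg.Agent.Lib.Helper2.card_sup_dvd (S : Subgroup P) (Q ⊔ (T : Subgroup P))
          have h3 := Cfsg.Agent.Lib.Helper2.card_sup_dvd (T : Subgroup P) Q
          rw [sup_comm, hX, Subgroup.card_top] at h2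
          rw [sup_comm] at h3
          exact h2.trans (Nat.mul_dvd_mul_left _ h3)
        obtain ⟨a, ha⟩ := IsPGroup.iff_card.mp S.2
        obtain ⟨b, hb⟩ := IsPGroup.iff_card.mp T.2
        obtain ⟨c, hc⟩ := IsPGroup.iff_card.mp (S.2.to_le (inf_le_left : Q ≤ S))
        rw [ha, hb, hc] at h1
        intro r hr
        rw [Nat.mem_primeFactors] at hr
        obtain ⟨hr1, hr2, _⟩ := hr
        have h4 := hr2.trans h1
        rw [Finset.mem_insert, Finset.mem_singleton]
        rcases (Nat.Prime.dvd_mul hr1).mp h4 with h | h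
        · left
          exact (Nat.prime_dvd_prime_iff_eq hr1 hp).mp (hr1.dvd_of_dvd_pow h)
        · rcases (Nat.Prime.dvd_mul hr1).mp h with h | h
          · right
            exact (Nat.prime_dvd_prime_iff_eq hr1 ht.out).mp (hr1.dvd_of_dvd_pow h)
          · left
            exact (Nat.prime_dvd_prime_iff_eq hr1 hp).mp (hr1.dvd_of_dvd_pow h)
      · left
        exact ⟨T, (le_sup_right.trans le_sup_left).trans (hle _ le_sup_right hX)⟩
    by_cases hex : ∃ t : ℕ, ∃ _ : Fact t.Prime, t ≠ p ∧ (Nat.card P).primeFactors ⊆ {p, t}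
    · obtain ⟨t, _, _, hsub⟩ := hex
      exact (Finset.card_le_card hsub).trans Finset.card_le_two
    · exfalso
      push Not at hex
      apply hM.1
      apply eq_top_of_forall_sylow_le
      intro t ht
      by_cases htp : t = p
      · subst htp
        exact ⟨S, hSM⟩
      · rcases key t ht htp with h | h
        · exact h
        · exact absurd h (hex t ht htp)
  · -- (4)
    intro N hN hFN hNle
    rcases h3 N hN with h | h
    · right
      exact le_antisymm hNle (sup_le h hFN)
    · left
      exact le_antisymm h hFN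


end Cfsg.Agent.S2905
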