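import Cfsg.Statements.S1961
import Cfsg.Agent.Lib.Helper7.ConjFunctor1

set_option autoImplicit false
open Cfsg

namespace Cfsg.Agent.S1961

open Cfsg.Agent.Lib.Helper7

/-- Local-to-global control of strong fusion through well-placed subgroups. Let p be a prime, G a finite group with Sylow p-subgroup S, and W a conjugacy functor for p on G. If W controls strong fusion in N_G(T) for every nonidentity subgroup T of S that is well placed in S with respect to W, then W controls strong fusion in G. -/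
theorem result {G : Type*} [Group G] [Finite G] {p : ℕ} [Fact p.Prime] (S : Sylow p G) (W : Subgroup G → Subgroup G) (hW : Cfsg.IsConjugacyFunctor p W) (hloc : ∀ T : Subgroup G, T ≠ ⊥ → Cfsg.IsWellPlaced p W (S : Subgroup G) T → Cfsg.ControlsStrongFusionIn p W (Subgroup.normalizer ((T : Subgroup G) : Set G))) : Cfsg.ControlsStrongFusionIn p W ⊤ := by
  refine ⟨(S : Subgroup G), le_top, S.isPGroup', ?_, ?_⟩
  · rw [Subgroup.relIndex_top_right]; exact S.not_dvd_index
  intro A h _ hA hAh
  set 𝓕 : Set (Subgroup G) := {T : Subgroup G | Cfsg.IsWellPlaced p W (S : Subgroup G) T} with h𝓕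
  have hfam : ∀ T : Subgroup G, T ≤ (S : Subgroup G) → ∃ U ∈ 𝓕,
      (∃ g : G, T.map (MulAut.conj g).toMonoidHom = U) ∧
      ¬ p ∣ ((S : Subgroup G) ⊓ Subgroup.normalizer ((U : Subgroup G) : Set G)).relIndex
        (Subgroup.normalizer ((U : Subgroup G) : Set G)) := by
    intro T hT
    obtain ⟨g, hg⟩ := exists_wellPlaced_conj S hW T hT
    exact ⟨_, hg, ⟨g, rfl⟩, hg.2 0⟩
  set TA : Subgroup G := Subgroup.closure A with hTA
  have hTAS : TA ≤ (S : Subgroup G) := (Subgroup.closure_le _).mpr hA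
  have hTAg : cr h⁻¹ (TA : Set G) ⊆ (S : Subgroup G) := by
    rw [cr_coe_eq_map, hTA, MonoidHom.map_closure, SetLike.coe_subset_coe, Subgroup.closure_le]
    rintro _ ⟨a, ha, rfl⟩
    apply hAh
    exact ⟨a, ha, by simp [MulAut.conj_apply]⟩
  have hch := fchain_of_fully_normalized S 𝓕 (fun U hU => hU.1) hfam _ TA hTAS rfl h⁻¹ hTAg
  have hch' := hch.mono (Subgroup.subset_closure : A ⊆ (TA : Set G))
  obtain ⟨y, hy, hya⟩ := hch'.exists_mem_normalizer_functor S hW hloc
  refine ⟨y⁻¹, Subgroup.mem_inf.mpr ⟨Subgroup.mem_top _, Subgroup.inv_mem _ hy⟩, ?_⟩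
  intro a ha
  have := hya a ha
  simpa using this

end Cfsg.Agent.S1961
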