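import Cfsg.Statements.S3836
import Cfsg.Agent.Lib.Helper2.Cores

set_option autoImplicit false
open Cfsg

namespace Cfsg.Agent.S3836

/-- Let G be a finite group that is p-stable in the normalizer form: for every p-subgroup Q and every x ∈ N_G(Q) with [Q, x, x] = 1, the image of x in N_G(Q)/C_G(Q) lies in O_p(N_G(Q)/C_G(Q)). Then every subgroup of G is p-stable in the same sense. -/
theorem result {G : Type*} [Group G] [Finite G] {p : ℕ} [Fact p.Prime] (hst : Cfsg.IsNormalizerPStable p G) (H : Subgroup G) : Cfsg.IsNormalizerPStable p ↥H := by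
  intro P hP g hg hquad
  set P' : Subgroup G := P.map H.subtype with hP'
  have hP'p : IsPGroup p P' := hP.map _
  have hnorm : ∀ x : H, x ∈ Subgroup.normalizer (P : Set H) →
      (x : G) ∈ Subgroup.normalizer (P' : Set G) := by
    intro x hx
    exact Subgroup.le_normalizer_map H.subtype ⟨x, hx, rfl⟩
  let f : ↥(Subgroup.normalizer (P : Set H)) →* ↥(Subgroup.normalizer (P' : Set G)) :=
    { toFun := fun x => ⟨((x : H) : G), hnorm x x.2⟩
      map_one' := rfl
      map_mul' := fun _ _ => rfl }
  have hfC : (Subgroup.centralizer (P : Set H)).subgroupOf (Subgroup.normalizer (P : Set H)) =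
      ((Subgroup.centralizer (P' : Set G)).subgroupOf (Subgroup.normalizer (P' : Set G))).comap f := by
    ext x
    simp only [Subgroup.mem_subgroupOf, Subgroup.mem_comap, Subgroup.mem_centralizer_iff]
    constructor
    · rintro h _ ⟨y, hy, rfl⟩
      have := h y hy
      exact congrArg Subtype.val this
    · intro h y hy
      have := h (y : G) ⟨y, hy, rfl⟩
      exact Subtype.ext this
  let ι := QuotientGroup.map
    ((Subgroup.centralizer (P : Set H)).subgroupOf (Subgroup.normalizer (P : Set H)))
    ((Subgroup.centralizer (P' : Set G)).subgroupOf (Subgroup.normalizer (P' : Set G))) f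
    (le_of_eq hfC)
  have hι : Function.Injective ι := by
    rw [← MonoidHom.ker_eq_bot_iff, eq_bot_iff]
    intro x hx
    obtain ⟨x, rfl⟩ := QuotientGroup.mk_surjective x
    rw [MonoidHom.mem_ker, QuotientGroup.map_mk, QuotientGroup.eq_one_iff] at hx
    rw [Subgroup.mem_bot, QuotientGroup.eq_one_iff, hfC]
    exact hx
  -- the quadratic hypothesis transfers
  have hquad' : ⁅⁅P', Subgroup.zpowers (g : G)⁆, Subgroup.zpowers (g : G)⁆ = ⊥ := by
    have hz : Subgroup.zpowers (g : G) = (Subgroup.zpowers g).map H.subtype := by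
      rw [MonoidHom.map_zpowers]; rfl
    rw [hz, hP', ← Subgroup.map_commutator, ← Subgroup.map_commutator, hquad, Subgroup.map_bot]
  have key := hst P' hP'p (g : G) (hnorm g hg) hquad'
  -- pull back the p-core
  set Q := ↥(Subgroup.normalizer (P' : Set G)) ⧸
    ((Subgroup.centralizer (P' : Set G)).subgroupOf (Subgroup.normalizer (P' : Set G)))
  have hcomap_p : IsPGroup p ((Cfsg.pCore p Q).comap ι) :=
    (Cfsg.Agent.Lib.Helper2.pCore_isPGroup p).comap_of_injective ι hι
  haveI : (Cfsg.pCore p Q).Normal := by
    haveI := Cfsg.Agent.Lib.Helper2.pCore_characteristic (G := Q) p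
    exact Subgroup.normal_of_characteristic _
  haveI : ((Cfsg.pCore p Q).comap ι).Normal := inferInstance
  apply Cfsg.Agent.Lib.Helper2.le_pCore hcomap_p
  rw [Subgroup.mem_comap]
  exact key

end Cfsg.Agent.S3836
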