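import Cfsg.Statements.S3058
import Cfsg.Agent.Lib.Helper7.Generation3
import Cfsg.Agent.Lib.Helper7.StronglyEmbedded
import Cfsg.Agent.Lib.Helper7.SylowGraph

set_option autoImplicit false
open Cfsg

namespace Cfsg.Agent.S3058

open Cfsg.Agent.Lib.Helper7
open scoped commutatorElement Pointwise

/-- A normal subgroup of order divisible by `p` contains an element of order `p` of any given
Sylow `p`-subgroup. -/
theorem exists_orderOf_eq_prime_mem_sylow_inf {G : Type*} [Group G] [Finite G] {p : ℕ}
    [Fact p.Prime] (N : Subgroup G) [hN : N.Normal] (hpN : p ∣ Nat.card N) (P : Sylow p G) :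
    ∃ x ∈ (P : Subgroup G) ⊓ N, orderOf x = p := by
  obtain ⟨x', hx'⟩ := exists_prime_orderOf_dvd_card' p hpN
  have hxo : orderOf (x' : G) = p := by rw [← hx']; exact (Subgroup.orderOf_coe x')
  have hzp : IsPGroup p (Subgroup.zpowers (x' : G)) := by
    apply IsPGroup.of_card (n := 1)
    rw [Nat.card_zpowers, hxo, pow_one]
  obtain ⟨Q, hQ⟩ := hzp.exists_le_sylow
  obtain ⟨g, hg⟩ := MulAction.exists_smul_eq G Q P
  refine ⟨g * x' * g⁻¹, Subgroup.mem_inf.mpr ⟨?_, hN.conj_mem _ x'.2 g⟩, ?_⟩
  · have : g * x' * g⁻¹ ∈ ((g • Q : Sylow p G) : Subgroup G) := by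
      rw [sylow_smul_coe_eq_map]
      exact ⟨x', hQ (Subgroup.mem_zpowers _), by simp [MulAut.conj_apply]⟩
    rwa [hg] at this
  · rw [orderOf_conj_eq, hxo]

theorem isPGroup_zpowers_of_pow_eq_one {G : Type*} [Group G] {p : ℕ} {a : G} (hap : a ^ p = 1) :
    IsPGroup p (Subgroup.zpowers a) := by
  rintro ⟨g, hg⟩
  obtain ⟨n, rfl⟩ := Subgroup.mem_zpowers_iff.mp hg
  refine ⟨1, Subtype.ext ?_⟩
  simp only [pow_one, Subgroup.coe_pow, Subgroup.coe_one]
  rw [← zpow_natCast, ← zpow_mul, mul_comm, zpow_mul, zpow_natCast, hap, one_zpow]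

/-- Let p be a prime and G a finite group whose Sylow p-subgroups are not chain-connected through nontrivial intersections (so G has a strongly p-embedded subgroup). If N and M are normal subgroups of G whose orders are both divisible by p, then the order of N ∩ M is divisible by p. Consequently, among the normal subgroups of G whose order is divisible by p there is a smallest one (the intersection of all of them). -/
theorem result {G : Type*} [Group G] [Finite G]
    (p : ℕ) [Fact p.Prime] (hG : ¬ Cfsg.IsSylowChainConnected p G)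
    (N M : Subgroup G) [N.Normal] [M.Normal] (hN : p ∣ Nat.card N) (hM : p ∣ Nat.card M) :
    p ∣ Nat.card ↥(N ⊓ M) := by
  have hp : p.Prime := Fact.out
  obtain ⟨H, hHtop, hpH, hcl⟩ := not_chainConnected_iff_classical.mp hG
  have hloc : NormalizersOfPSubgroupsLE p H := local_of_classical hcl
  obtain ⟨P0, hP0H⟩ := exists_sylow_le_of_local hloc hpH
  by_contra hnd
  set K0 : Subgroup G := N ⊓ M with hK0
  have hK0n : K0.Normal := inferInstance
  have hK0c : (Nat.card K0).Coprime p := ((Nat.Prime.coprime_iff_not_dvd hp).mpr hnd).symm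
  have hPK : ∀ z, z ∈ (P0 : Subgroup G) → z ∈ K0 → z = 1 := by
    intro z hzP hzK
    apply eq_one_of_mem_isPGroup_of_coprime P0.2 hzP
    have : orderOf z ∣ Nat.card K0 := by
      have := orderOf_dvd_natCard (⟨z, hzK⟩ : K0)
      rwa [Subgroup.orderOf_mk] at this
    exact Nat.Coprime.coprime_dvd_left this hK0c
  obtain ⟨x, hx, hxo⟩ := exists_orderOf_eq_prime_mem_sylow_inf N hN P0
  obtain ⟨y, hy, hyo⟩ := exists_orderOf_eq_prime_mem_sylow_inf M hM P0
  obtain ⟨hxP, hxN⟩ := Subgroup.mem_inf.mp hx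
  obtain ⟨hyP, hyM⟩ := Subgroup.mem_inf.mp hy
  have hxp : x ^ p = 1 := by rw [← hxo]; exact pow_orderOf_eq_one x
  have hyp : y ^ p = 1 := by rw [← hyo]; exact pow_orderOf_eq_one y
  have hx1 : x ≠ 1 := by
    intro h; rw [h, orderOf_one] at hxo; exact hp.one_lt.ne hxo
  have hy1 : y ≠ 1 := by
    intro h; rw [h, orderOf_one] at hyo; exact hp.one_lt.ne hyo
  -- x and y commute
  have hxy : Commute x y := by
    have h1 : ⁅x, y⁆ ∈ K0 := by
      refine Subgroup.mem_inf.mpr ⟨?_, ?_⟩
      · have : ⁅x, y⁆ = x * (y * x⁻¹ * y⁻¹) := by rw [commutatorElement_def]; group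
        rw [this]
        exact N.mul_mem hxN (‹N.Normal›.conj_mem _ (N.inv_mem hxN) y)
      · rw [commutatorElement_def]
        exact M.mul_mem (‹M.Normal›.conj_mem _ hyM x) (M.inv_mem hyM)
    have h2 : ⁅x, y⁆ ∈ (P0 : Subgroup G) := by
      rw [commutatorElement_def]
      exact Subgroup.mul_mem _ (Subgroup.mul_mem _ (Subgroup.mul_mem _ hxP hyP)
        (Subgroup.inv_mem _ hxP)) (Subgroup.inv_mem _ hyP)
    exact commutatorElement_eq_one_iff_commute.mp (hPK _ h2 h1)
  -- centralizers of nontrivial elements of order p of H lie in H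
  have hcent : ∀ a ∈ H, a ≠ 1 → a ^ p = 1 → Subgroup.centralizer ({a} : Set G) ≤ H := by
    intro a haH ha1 hap
    have hz : Subgroup.zpowers a ≤ H := by rw [Subgroup.zpowers_le]; exact haH
    have hz1 : Subgroup.zpowers a ≠ ⊥ := by rw [Ne, Subgroup.zpowers_eq_bot]; exact ha1
    exact (centralizer_singleton_le_normalizer_zpowers a).trans
      (hloc _ hz (isPGroup_zpowers_of_pow_eq_one hap) hz1)
  -- K0 ≤ H by generation
  have hK0H : K0 ≤ H := by
    have hgen := le_genC x y hxp hyp hxy K0
      (by rw [Subgroup.normalizer_eq_top]; exact Subgroup.mem_top x)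
      (by rw [Subgroup.normalizer_eq_top]; exact Subgroup.mem_top y) hnd
    refine hgen.trans ?_
    unfold genC
    apply sup_le
    · exact inf_le_right.trans (hcent y (hP0H hyP) hy1 hyp)
    · apply iSup_le
      intro c
      refine inf_le_right.trans (hcent _ (hP0H (Subgroup.mul_mem _ hxP (Subgroup.pow_mem _ hyP _))) ?_ ?_)
      · intro h1
        have hx' : x = (y ^ c.val)⁻¹ := eq_inv_of_mul_eq_one_left h1
        apply hx1
        apply hPK x hxP
        refine Subgroup.mem_inf.mpr ⟨hxN, ?_⟩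
        rw [hx']
        exact M.inv_mem (M.pow_mem hyM _)
      · rw [(hxy.pow_right _).mul_pow, hxp, ← pow_mul, mul_comm, pow_mul, hyp, one_pow, one_mul]
  -- M ≤ H
  have hzx : Subgroup.zpowers x ≤ H := by rw [Subgroup.zpowers_le]; exact hP0H hxP
  have hzx1 : Subgroup.zpowers x ≠ ⊥ := by rw [Ne, Subgroup.zpowers_eq_bot]; exact hx1
  have hNx : Subgroup.normalizer ((Subgroup.zpowers x : Subgroup G) : Set G) ≤ H :=
    hloc _ hzx (isPGroup_zpowers_of_pow_eq_one hxp) hzx1
  have hMH : M ≤ H := by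
    intro m hm
    have hcop : (Nat.card (Subgroup.zpowers x)).Coprime (Nat.card K0) := by
      rw [Nat.card_zpowers, hxo]
      exact hK0c.symm
    obtain ⟨d, hd, hconj⟩ := Cfsg.Agent.Lib.Helper1.exists_conj_smul_eq_of_coset_fixed
      (A := Subgroup.zpowers x) (D := K0)
      (by rw [Subgroup.normalizer_eq_top]; exact le_top) hcop (Or.inl inferInstance) m
      (by
        intro a ha
        have haN : a ∈ N := by
          have : Subgroup.zpowers x ≤ N := by rw [Subgroup.zpowers_le]; exact hxN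
          exact this ha
        refine Subgroup.mem_inf.mpr ⟨?_, ?_⟩
        · have h1 : m⁻¹ * a * m ∈ N := by
            have := ‹N.Normal›.conj_mem a haN m⁻¹
            simpa using this
          exact N.mul_mem h1 (N.inv_mem haN)
        · have h1 : a * m * a⁻¹ ∈ M := ‹M.Normal›.conj_mem m hm a
          have e : m⁻¹ * a * m * a⁻¹ = m⁻¹ * (a * m * a⁻¹) := by group
          rw [e]
          exact M.mul_mem (M.inv_mem hm) h1)
    have hn : d * m⁻¹ ∈ Subgroup.normalizer ((Subgroup.zpowers x : Subgroup G) : Set G) := by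
      rw [Subgroup.mem_normalizer_iff]
      intro h
      rw [← Subgroup.smul_mem_pointwise_smul_iff (a := MulAut.conj (d * m⁻¹)), hconj]
      rw [MulAut.smul_def, MulAut.conj_apply]
    have h1 : d * m⁻¹ ∈ H := hNx hn
    have h2 : m⁻¹ ∈ H := by
      have := H.mul_mem (H.inv_mem (hK0H hd)) h1
      simpa using this
    simpa using H.inv_mem h2
  -- Frattini
  obtain ⟨P⟩ := (Sylow.nonempty : Nonempty (Sylow p ↥M))
  have hP1 : (P : Subgroup ↥M) ≠ ⊥ := P.ne_bot_of_dvd_card hM
  have hfr := Sylow.normalizer_sup_eq_top P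
  set A : Subgroup G := (P : Subgroup ↥M).map M.subtype with hA
  have hAM : A ≤ M := Subgroup.map_subtype_le _
  have hAp : IsPGroup p A := P.2.map _
  have hA1 : A ≠ ⊥ := by
    intro h
    apply hP1
    rw [hA, Subgroup.map_eq_bot_iff_of_injective _ M.subtype_injective] at h
    exact h
  have hNA : Subgroup.normalizer (A : Set G) ≤ H := hloc A (hAM.trans hMH) hAp hA1
  apply hHtop
  rw [eq_top_iff, ← hfr]
  exact sup_le hNA hMH

end Cfsg.Agent.S3058
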