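import Cfsg.Statements.S1337
import Mathlib
import Cfsg.Agent.Lib.Helper8.NormalFour
import Cfsg.Agent.Lib.Helper1.ThompsonBasic
import Cfsg.Agent.S0126
import Cfsg.Agent.Lib.Helper2.AbelianCyclic

set_option autoImplicit false
open Cfsg

namespace Cfsg.Agent.S1337

open Cfsg.Agent.Lib.Helper1 in
theorem sub_elab {P : Type*} [Group P] {p : ℕ} {A B : Subgroup P} (hA : Cfsg.IsElementaryAbelian p A)
    (h : B ≤ A) : Cfsg.IsElementaryAbelian p B := by
  refine ⟨⟨⟨fun a b => ?_⟩⟩, fun a ha => hA.2 a (h ha)⟩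
  have := isElementaryAbelian_comm hA (h a.2) (h b.2)
  exact Subtype.ext this

/-- an elementary abelian subgroup of order `> p²` inside `C(X)` witnesses rank `≥ 3` -/
theorem rank_of_le_centralizer {P : Type*} [Group P] {p : ℕ} (X D : Subgroup P)
    (hD : Cfsg.IsElementaryAbelian p D) (hcard : p ^ 2 < Nat.card D)
    (hDX : D ≤ Subgroup.centralizer (X : Set P)) :
    ¬ Cfsg.PRankLE p 2 ↥(Subgroup.centralizer (X : Set P)) := by
  intro h
  have h1 := h (D.subgroupOf (Subgroup.centralizer (X : Set P)))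
    ⟨⟨fun a b => by
      apply Subtype.ext
      apply Subtype.ext
      have := Cfsg.Agent.Lib.Helper1.isElementaryAbelian_comm hD
        (Subgroup.mem_subgroupOf.1 a.2) (Subgroup.mem_subgroupOf.1 b.2)
      exact this⟩⟩
    (by
      intro a ha
      apply Subtype.ext
      rw [Subgroup.coe_pow]
      exact hD.2 _ (Subgroup.mem_subgroupOf.1 ha))
  rw [Nat.card_congr (Subgroup.subgroupOfEquivOfLe hDX).toEquiv] at h1
  omega

theorem card_inf_centralizer {P : Type*} [Group P] [Finite P] {p : ℕ} [Fact p.Prime]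
    (hP : IsPGroup p P) (U : Subgroup P) [U.Normal] (hU : Nat.card U = p ^ 2) (D : Subgroup P)
    (hD : p ^ 3 ≤ Nat.card D) : p ^ 2 ≤ Nat.card (D ⊓ Subgroup.centralizer (U : Set P) : Subgroup P) := by
  have hp : p.Prime := Fact.out
  set C := Subgroup.centralizer (U : Set P) with hC
  have h1 : C.index ∣ p := Cfsg.Agent.Lib.Helper2.index_centralizer_dvd_prime hP U hU
  have h2 : C.relIndex D ∣ C.index := Subgroup.relIndex_dvd_index_of_normal C D
  have h3 := Cfsg.Agent.Lib.Helper2.card_mul_relIndex (inf_le_left : D ⊓ C ≤ D)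
  rw [inf_comm, Subgroup.inf_relIndex_right] at h3
  have h4 : C.relIndex D ≤ p := Nat.le_of_dvd hp.pos (h2.trans h1)
  rw [inf_comm]
  by_contra hlt
  push Not at hlt
  have : Nat.card (C ⊓ D : Subgroup P) * C.relIndex D < p ^ 2 * p := by
    calc Nat.card (C ⊓ D : Subgroup P) * C.relIndex D ≤ Nat.card (C ⊓ D : Subgroup P) * p :=
          Nat.mul_le_mul_left _ h4
      _ < p ^ 2 * p := Nat.mul_lt_mul_of_pos_right hlt hp.pos
  rw [h3] at this
  have e : p ^ 2 * p = p ^ 3 := by ring
  omega

/-- Let P be a finite p-group of p-rank greater than 2. Then P has a normal elementary abelian subgroup U of order p², and for every elementary abelian X ≤ P with |X| ≥ p²: X is joined to U by a chain of pairwise commuting elementary abelian subgroups of order ≥ p² if and only if C_P(X) has p-rank greater than 2. -/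
theorem result {P : Type*} [Group P] [Finite P] (p : ℕ) [Fact p.Prime] (hP : IsPGroup p P) (hrk : ¬ Cfsg.PRankLE p 2 P) : ∃ U : Subgroup P, U.Normal ∧ Cfsg.IsElementaryAbelian p U ∧ Nat.card ↥U = p ^ 2 ∧ ∀ X : Subgroup P, Cfsg.IsElementaryAbelian p X → p ^ 2 ≤ Nat.card ↥X → (Relation.ReflTransGen (fun A B : Subgroup P => Cfsg.IsElementaryAbelian p A ∧ p ^ 2 ≤ Nat.card ↥A ∧ Cfsg.IsElementaryAbelian p B ∧ p ^ 2 ≤ Nat.card ↥B ∧ ∀ a ∈ A, ∀ b ∈ B, a * b = b * a) X U ↔ ¬ Cfsg.PRankLE p 2 ↥(Subgroup.centralizer (X : Set P))) := by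
  classical
  have hp : p.Prime := Fact.out
  -- the witness of rank ≥ 3
  have hrk' := hrk
  unfold Cfsg.PRankLE at hrk'
  push Not at hrk'
  obtain ⟨E, hEc, hEp, hEcard⟩ := hrk'
  have hEel : Cfsg.IsElementaryAbelian p E := ⟨hEc, hEp⟩
  have hE3 : p ^ 3 ≤ Nat.card E := by
    obtain ⟨j, hj⟩ := IsPGroup.iff_card.1 (hP.to_subgroup E)
    rw [hj] at hEcard ⊢
    have : 2 < j := (Nat.pow_lt_pow_iff_right hp.one_lt).1 hEcard
    exact Nat.pow_le_pow_right hp.pos this
  -- the normal four-group / E_{p²}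
  obtain ⟨U, hUn, hUel, hUcard⟩ : ∃ U : Subgroup P, U.Normal ∧ Cfsg.IsElementaryAbelian p U ∧
      Nat.card U = p ^ 2 := by
    by_cases hp2 : p = 2
    · subst hp2
      obtain ⟨U, hUn, hUc, hU2, hU4⟩ := Cfsg.Agent.Lib.Helper8.NormalFour.exists_normal_four hP E
        (fun x hx y hy => Cfsg.Agent.Lib.Helper1.isElementaryAbelian_comm hEel hx hy) hEp
        (by norm_num at hE3; exact hE3)
      exact ⟨U, hUn, ⟨⟨⟨fun a b => Subtype.ext (hUc a a.2 b b.2)⟩⟩, hU2⟩, by rw [hU4]; norm_num⟩
    · apply Cfsg.Agent.S0126.result hp2 hP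
      intro hcyc
      -- E would be cyclic of exponent p
      haveI : IsCyclic E := by
        have : Function.Injective E.subtype := E.subtype_injective
        exact isCyclic_of_injective E.subtype this
      have := Cfsg.Agent.Lib.Helper2.card_le_of_isCyclic_of_pow_eq_one (H := E) hp.pos
        (fun x => Subtype.ext (by rw [Subgroup.coe_pow]; exact hEp _ x.2))
      have h2 : p < p ^ 2 := by
        calc p = p ^ 1 := (pow_one p).symm
          _ < p ^ 2 := Nat.pow_lt_pow_right hp.one_lt (by norm_num)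
      omega
  haveI := hUn
  have hUcomm : ∀ a ∈ U, ∀ b ∈ U, a * b = b * a :=
    fun a ha b hb => Cfsg.Agent.Lib.Helper1.isElementaryAbelian_comm hUel ha hb
  have key : ∀ X : Subgroup P, Relation.ReflTransGen (fun A B : Subgroup P =>
      Cfsg.IsElementaryAbelian p A ∧ p ^ 2 ≤ Nat.card ↥A ∧ Cfsg.IsElementaryAbelian p B ∧
      p ^ 2 ≤ Nat.card ↥B ∧ ∀ a ∈ A, ∀ b ∈ B, a * b = b * a) X U →
      ¬ Cfsg.PRankLE p 2 ↥(Subgroup.centralizer (X : Set P)) := by
    intro X hchain
    induction hchain using Relation.ReflTransGen.head_induction_on with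
    | refl =>
      -- rank C(U) ≥ 3
      set E₀ := E ⊓ Subgroup.centralizer (U : Set P) with hE₀
      have hE₀card : p ^ 2 ≤ Nat.card E₀ := card_inf_centralizer hP U hUcard E hE3
      have hE₀el : Cfsg.IsElementaryAbelian p E₀ := sub_elab hEel inf_le_left
      have hDel : Cfsg.IsElementaryAbelian p (U ⊔ E₀) :=
        Cfsg.Agent.Lib.Helper1.isElementaryAbelian_sup_of_le_centralizer hUel hE₀el inf_le_right
      have hDC : U ⊔ E₀ ≤ Subgroup.centralizer (U : Set P) := by
        apply sup_le
        · intro a ha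
          rw [Subgroup.mem_centralizer_iff]
          intro b hb
          exact hUcomm b hb a ha
        · exact inf_le_right
      apply rank_of_le_centralizer U (U ⊔ E₀) hDel _ hDC
      have hge : p ^ 2 ≤ Nat.card (U ⊔ E₀ : Subgroup P) := by
        rw [← hUcard]
        exact Subgroup.card_le_of_le le_sup_left
      rcases Nat.lt_or_ge (p ^ 2) (Nat.card (U ⊔ E₀ : Subgroup P)) with h | h
      · exact h
      · exfalso
        have hDU : U = U ⊔ E₀ := Subgroup.eq_of_le_of_card_ge le_sup_left (by rw [hUcard]; exact h)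
        have hE₀U : E₀ ≤ U := by rw [hDU]; exact le_sup_right
        have hE₀U' : E₀ = U := Subgroup.eq_of_le_of_card_ge hE₀U (by rw [hUcard]; exact hE₀card)
        have hUE : U ≤ E := hE₀U' ▸ inf_le_left
        have hEC : E ≤ Subgroup.centralizer (U : Set P) := by
          intro a ha
          rw [Subgroup.mem_centralizer_iff]
          intro b hb
          exact Cfsg.Agent.Lib.Helper1.isElementaryAbelian_comm hEel (hUE hb) ha
        have : E₀ = E := inf_eq_left.2 hEC
        rw [← this, hE₀U', hUcard] at hEcard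
        omega
    | @head A B hAB hBU ih =>
      obtain ⟨hAel, hAcard, hBel, hBcard, hcomm⟩ := hAB
      have hBA : B ≤ Subgroup.centralizer (A : Set P) := by
        intro b hb
        rw [Subgroup.mem_centralizer_iff]
        intro a ha
        exact hcomm a ha b hb
      have hDel := Cfsg.Agent.Lib.Helper1.isElementaryAbelian_sup_of_le_centralizer hAel hBel hBA
      have hDC : A ⊔ B ≤ Subgroup.centralizer (A : Set P) := by
        apply sup_le
        · intro a ha
          rw [Subgroup.mem_centralizer_iff]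
          intro b hb
          exact Cfsg.Agent.Lib.Helper1.isElementaryAbelian_comm hAel hb ha
        · exact hBA
      rcases Nat.lt_or_ge (p ^ 2) (Nat.card (A ⊔ B : Subgroup P)) with h | h
      · exact rank_of_le_centralizer A (A ⊔ B) hDel h hDC
      · have h1 : A = A ⊔ B := Subgroup.eq_of_le_of_card_ge le_sup_left (h.trans hAcard)
        have h2 : B = A ⊔ B := Subgroup.eq_of_le_of_card_ge le_sup_right (h.trans hBcard)
        have h3 : A = B := h1.trans h2.symm
        rw [h3]
        exact ih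
  refine ⟨U, hUn, hUel, hUcard, ?_⟩
  intro X hXel hXcard
  constructor
  · exact key X
  · -- rank ⟹ chain
    intro hrkX
    unfold Cfsg.PRankLE at hrkX
    push Not at hrkX
    obtain ⟨D, hDc, hDp, hDcard⟩ := hrkX
    set D' : Subgroup P := D.map (Subgroup.centralizer (X : Set P)).subtype with hD'
    have hD'C : D' ≤ Subgroup.centralizer (X : Set P) := Subgroup.map_subtype_le D
    have hD'card : Nat.card D' = Nat.card D :=
      Subgroup.card_map_of_injective (Subgroup.centralizer (X : Set P)).subtype_injective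
    have hD'el : Cfsg.IsElementaryAbelian p D' := by
      refine ⟨⟨⟨?_⟩⟩, ?_⟩
      · rintro ⟨_, ⟨a, ha, rfl⟩⟩ ⟨_, ⟨b, hb, rfl⟩⟩
        apply Subtype.ext
        have := mul_comm' (⟨a, ha⟩ : D) ⟨b, hb⟩
        have h2 := congrArg (fun t : D => ((t : Subgroup.centralizer (X : Set P)) : P)) this
        exact h2
      · rintro _ ⟨a, ha, rfl⟩
        have := hDp a ha
        have h2 := congrArg (fun t : Subgroup.centralizer (X : Set P) => (t : P)) this
        simpa using h2
    have hD'3 : p ^ 3 ≤ Nat.card D' := by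
      obtain ⟨j, hj⟩ := IsPGroup.iff_card.1 (hP.to_subgroup D')
      rw [hD'card] at hj
      rw [hD'card, hj]
      rw [hj] at hDcard
      have : 2 < j := (Nat.pow_lt_pow_iff_right hp.one_lt).1 hDcard
      exact Nat.pow_le_pow_right hp.pos this
    have hD'2 : p ^ 2 ≤ Nat.card D' := by
      rw [hD'card]; omega
    set D₀ := D' ⊓ Subgroup.centralizer (U : Set P) with hD₀
    have hD₀card : p ^ 2 ≤ Nat.card D₀ := card_inf_centralizer hP U hUcard D' hD'3
    have hD₀el : Cfsg.IsElementaryAbelian p D₀ := sub_elab hD'el inf_le_left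
    apply Relation.ReflTransGen.head (b := D')
    · refine ⟨hXel, hXcard, hD'el, hD'2, ?_⟩
      intro a ha b hb
      exact (Subgroup.mem_centralizer_iff.1 (hD'C hb) a ha)
    apply Relation.ReflTransGen.head (b := D₀)
    · refine ⟨hD'el, hD'2, hD₀el, hD₀card, ?_⟩
      intro a ha b hb
      exact Cfsg.Agent.Lib.Helper1.isElementaryAbelian_comm hD'el ha (inf_le_left (a := D') hb)
    apply Relation.ReflTransGen.single
    refine ⟨hD₀el, hD₀card, hUel, by rw [hUcard], ?_⟩
    intro a ha b hb
    have := Subgroup.mem_centralizer_iff.1 ((inf_le_right : D₀ ≤ _) ha) b hb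
    exact this.symm

end Cfsg.Agent.S1337
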