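import Cfsg.Statements.S3061
import Cfsg.Agent.Lib.Helper2.Commutator

set_option autoImplicit false
open Cfsg

namespace Cfsg.Agent.S3061

open scoped commutatorElement


/-- Let S be a finite p-group. Then D*(S) itself belongs to the family that generates it: D*(S) is abelian, and every x ∈ S with ⟨D*(S), x⟩ of class at most two centralizes D*(S). Hence D*(S) is the unique maximal member of that family. -/
theorem result {S : Type*} [Group S] [Finite S] {p : ℕ} [Fact p.Prime] (hS : IsPGroup p S) :
    Cfsg.dStar S ∈ Cfsg.dStarFamily S := by
  classical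
  set D := Cfsg.dStar S with hD
  have hle : ∀ A ∈ Cfsg.dStarFamily S, A ≤ D := fun A hA => le_sSup hA
  -- Step A
  have stepA : ∀ x : D, x ∈ Subgroup.upperCentralSeries D 2 → x ∈ Subgroup.center D := by
    intro x hx
    have hcent : D ≤ Subgroup.centralizer {(x : S)} := by
      apply sSup_le
      intro A hA a ha
      rw [Subgroup.mem_centralizer_singleton_iff]
      refine hA.2 (x : S) ?_ a ha
      set A' : Subgroup D := A.subgroupOf D with hA'
      set K' : Subgroup D := A' ⊔ Subgroup.zpowers x with hK'
      have hmap : K'.map D.subtype = A ⊔ Subgroup.zpowers (x : S) := by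
        rw [hK', Subgroup.map_sup, Subgroup.map_subgroupOf_eq_of_le (hle A hA),
          MonoidHom.map_zpowers]
        rfl
      have hzx : Subgroup.zpowers x ≤ Subgroup.upperCentralSeries D 2 := by
        rw [Subgroup.zpowers_le]; exact hx
      have hAab : ⁅A', A'⁆ ≤ Subgroup.center D := by
        rw [Subgroup.commutator_le]
        intro a ha b hb
        rw [hA', Subgroup.mem_subgroupOf] at ha hb
        have hab : (a : S) * b = b * a := by
          have := hA.1.is_comm.comm ⟨(a : S), ha⟩ ⟨(b : S), hb⟩
          exact congrArg Subtype.val this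
        have : ⁅a, b⁆ = 1 := by
          rw [commutatorElement_eq_one_iff_commute]
          exact Subtype.ext hab
        rw [this]; exact Subgroup.one_mem _
      have hzA : ⁅Subgroup.zpowers x, A'⁆ ≤ Subgroup.center D := by
        rw [Subgroup.commutator_le]
        intro z hz a _
        have hz2 := hzx hz
        rw [show (2 : ℕ) = 1 + 1 from rfl, Subgroup.mem_upperCentralSeries_succ_iff] at hz2
        have := hz2 a
        rw [Subgroup.upperCentralSeries_one] at this
        rw [commutatorElement_def]
        exact this
      have hAz : ⁅A', Subgroup.zpowers x⁆ ≤ Subgroup.center D := by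
        rw [Subgroup.commutator_comm]; exact hzA
      have hzz : ⁅Subgroup.zpowers x, Subgroup.zpowers x⁆ ≤ Subgroup.center D := by
        rw [Subgroup.commutator_le]
        intro a ha b hb
        obtain ⟨i, rfl⟩ := Subgroup.mem_zpowers_iff.mp ha
        obtain ⟨j, rfl⟩ := Subgroup.mem_zpowers_iff.mp hb
        have : ⁅x ^ i, x ^ j⁆ = 1 := by
          rw [commutatorElement_eq_one_iff_commute]
          exact (Commute.refl x).zpow_zpow i j
        rw [this]; exact Subgroup.one_mem _
      have hKK : ⁅K', K'⁆ ≤ Subgroup.center D := by
        apply Cfsg.Agent.Lib.Helper2.commutator_sup_le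
        · exact Cfsg.Agent.Lib.Helper2.commutator_sup_le' hAab hAz
        · exact Cfsg.Agent.Lib.Helper2.commutator_sup_le' hzA hzz
      have h3 : ⁅⁅K', K'⁆, K'⁆ = ⊥ := by
        rw [eq_bot_iff, Subgroup.commutator_le]
        intro z hz k _
        have hzc := hKK hz
        rw [Subgroup.mem_bot, commutatorElement_eq_one_iff_commute]
        exact (Subgroup.mem_center_iff.mp hzc k).symm
      have := congrArg (Subgroup.map D.subtype) h3
      rw [Subgroup.map_commutator, Subgroup.map_commutator, hmap, Subgroup.map_bot] at this
      exact this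
    rw [Subgroup.mem_center_iff]
    intro y
    have := hcent y.2
    rw [Subgroup.mem_centralizer_singleton_iff] at this
    exact Subtype.ext this
  -- Step B
  have stepB : ∀ n : ℕ, Subgroup.upperCentralSeries D n ≤ Subgroup.center D := by
    intro n
    induction n with
    | zero => rw [Subgroup.upperCentralSeries_zero]; exact bot_le
    | succ n ih =>
      rcases Nat.eq_zero_or_pos n with rfl | hn
      · rw [zero_add, Subgroup.upperCentralSeries_one]
      · intro x hx
        apply stepA
        rw [show (2 : ℕ) = 1 + 1 from rfl, Subgroup.mem_upperCentralSeries_succ_iff, Subgroup.upperCentralSeries_one]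
        intro y
        rw [Subgroup.mem_upperCentralSeries_succ_iff] at hx
        exact ih (hx y)
  have hDp : IsPGroup p D := hS.to_subgroup D
  have hnil : Group.IsNilpotent D := hDp.isNilpotent
  obtain ⟨n, hn⟩ := hnil.nilpotent
  have hcenter : Subgroup.center D = ⊤ := by
    rw [eq_top_iff, ← hn]; exact stepB n
  have hDab : IsMulCommutative D := by
    refine ⟨⟨fun a b => ?_⟩⟩
    have : a ∈ Subgroup.center D := hcenter ▸ Subgroup.mem_top a
    exact (Subgroup.mem_center_iff.mp this b).symm
  refine ⟨hDab, fun x hx a ha => ?_⟩
  have hcent : D ≤ Subgroup.centralizer {x} := by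
    apply sSup_le
    intro A hA a ha
    rw [Subgroup.mem_centralizer_singleton_iff]
    refine hA.2 x ?_ a ha
    rw [eq_bot_iff, ← hx]
    have hm : A ⊔ Subgroup.zpowers x ≤ D ⊔ Subgroup.zpowers x := sup_le_sup_right (hle A hA) _
    exact Subgroup.commutator_mono (Subgroup.commutator_mono hm hm) hm
  have := hcent ha
  rw [Subgroup.mem_centralizer_singleton_iff] at this
  exact this

end Cfsg.Agent.S3061
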