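import Cfsg.Statements.S3897
import Mathlib

set_option autoImplicit false
open Cfsg

namespace Cfsg.Agent.S3897

/-- the conjugation action of `H ≤ N_G(P)` on `P` -/
@[reducible] def conjMA {G : Type*} [Group G] (H P : Subgroup G)
    (hH : H ≤ Subgroup.normalizer (P : Set G)) : MulAction H P where
  smul h x := ⟨(h : G) * x * (h : G)⁻¹, (Subgroup.mem_normalizer_iff.mp (hH h.2) x).mp x.2⟩
  one_smul x := Subtype.ext (by
    show ((1 : H) : G) * x * ((1 : H) : G)⁻¹ = x
    simp)
  mul_smul a b x := Subtype.ext (by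
    show ((a * b : H) : G) * x * ((a * b : H) : G)⁻¹
      = (a : G) * ((b : G) * x * (b : G)⁻¹) * (a : G)⁻¹
    simp [mul_assoc])

/-- `p`-classes -/
abbrev PC (p : ℕ) (G : Type*) [Group G] : Type _ :=
  {c : ConjClasses G // ∀ x ∈ c.carrier, ∃ k : ℕ, orderOf x = p ^ k}

theorem pclass_of_mem {G : Type*} [Group G] {p : ℕ} [Fact p.Prime] (P : Sylow p G)
    (x : G) (hx : x ∈ (P : Subgroup G)) :
    ∀ y ∈ (ConjClasses.mk x).carrier, ∃ k : ℕ, orderOf y = p ^ k := by
  intro y hy
  rw [ConjClasses.mem_carrier_iff_mk_eq, ConjClasses.mk_eq_mk_iff_isConj, isConj_iff] at hy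
  obtain ⟨c, hc⟩ := hy
  obtain ⟨k, hk⟩ := (IsPGroup.iff_orderOf.mp P.2) ⟨x, hx⟩
  refine ⟨k, ?_⟩
  rw [← hk, Subgroup.orderOf_mk, ← hc]
  exact ((MulAut.conj c).orderOf_eq y).symm

/-- the class map -/
def clsMap {G : Type*} [Group G] {p : ℕ} [Fact p.Prime] (P : Sylow p G) :
    ↥(P : Subgroup G) → PC p G :=
  fun x => ⟨ConjClasses.mk (x : G), pclass_of_mem P x x.2⟩

theorem clsMap_surj {G : Type*} [Group G] [Finite G] {p : ℕ} [Fact p.Prime] (P : Sylow p G) :
    Function.Surjective (clsMap P) := by
  rintro ⟨c, hc⟩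
  obtain ⟨y, rfl⟩ := ConjClasses.exists_rep c
  obtain ⟨k, hk⟩ := hc y ConjClasses.mem_carrier_mk
  have hR : IsPGroup p (Subgroup.zpowers y) := by
    refine IsPGroup.of_card (n := k) ?_
    rw [Nat.card_zpowers, hk]
  obtain ⟨Q, hQ⟩ := hR.exists_le_sylow
  obtain ⟨g, hg⟩ := MulAction.exists_smul_eq G Q P
  have h1 : g * y * g⁻¹ ∈ (P : Subgroup G) := by
    rw [← hg, Sylow.smul_def, Sylow.pointwise_smul_def, Subgroup.mem_smul_pointwise_iff_exists]
    exact ⟨y, hQ (Subgroup.mem_zpowers y), rfl⟩
  refine ⟨⟨g * y * g⁻¹, h1⟩, ?_⟩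
  apply Subtype.ext
  show ConjClasses.mk (g * y * g⁻¹) = ConjClasses.mk y
  rw [ConjClasses.mk_eq_mk_iff_isConj, isConj_comm, isConj_iff]
  exact ⟨g, rfl⟩

theorem orbit_bound {G : Type*} [Group G] [Finite G] {p : ℕ} [Fact p.Prime] (P : Sylow p G)
    (H : Subgroup G) (hH : H ≤ Subgroup.normalizer ((P : Subgroup G) : Set G))
    (hK : ¬ H ≤ Subgroup.centralizer ((P : Subgroup G) : Set G)) :
    2 * p * Nat.card (PC p G) ≤ (p + 1) * Nat.card (P : Subgroup G) := by
  classical
  letI : MulAction H (P : Subgroup G) := conjMA H P hH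
  haveI : Fintype H := Fintype.ofFinite _
  haveI : Fintype (P : Subgroup G) := Fintype.ofFinite _
  have key := MulAction.sum_card_fixedBy_eq_card_orbits_mul_card_group H (P : Subgroup G)
  have hp1 : 1 < p := (Fact.out : p.Prime).one_lt
  obtain ⟨q, rfl⟩ : ∃ q, p = q + 1 := ⟨p - 1, by omega⟩
  set n := Fintype.card (P : Subgroup G) with hn
  set K : Subgroup H := (Subgroup.centralizer ((P : Subgroup G) : Set G)).subgroupOf H with hKdef
  have hfix1 : ∀ h : H, Fintype.card (MulAction.fixedBy (P : Subgroup G) h) ≤ n :=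
    fun h => Fintype.card_subtype_le _
  have hfix2 : ∀ h : H, h ∉ K →
      (q + 1) * Fintype.card (MulAction.fixedBy (P : Subgroup G) h) ≤ n := by
    intro h hh
    set Ch : Subgroup (P : Subgroup G) :=
      (Subgroup.centralizer ({(h : G)} : Set G)).subgroupOf P with hCh
    have e : (MulAction.fixedBy (P : Subgroup G) h) = (Ch : Set _) := by
      ext x
      rw [MulAction.mem_fixedBy, SetLike.mem_coe, hCh, Subgroup.mem_subgroupOf,
        Subgroup.mem_centralizer_singleton_iff]
      constructor
      · intro hx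
        have h1 : (h : G) * x * (h : G)⁻¹ = x := congrArg Subtype.val hx
        calc (x : G) * h = ((h : G) * x * (h : G)⁻¹) * h := by rw [h1]
          _ = h * x := by group
      · intro hx
        apply Subtype.ext
        show (h : G) * x * (h : G)⁻¹ = x
        rw [← hx]; group
    have hne : Ch ≠ ⊤ := by
      intro htop
      apply hh
      rw [hKdef, Subgroup.mem_subgroupOf, Subgroup.mem_centralizer_iff]
      intro x hx
      have : (⟨x, hx⟩ : (P : Subgroup G)) ∈ Ch := by rw [htop]; trivial
      rw [hCh, Subgroup.mem_subgroupOf, Subgroup.mem_centralizer_singleton_iff] at this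
      exact this
    obtain ⟨k, hk⟩ := (P.isPGroup').index Ch
    have hk0 : k ≠ 0 := by
      rintro rfl
      rw [pow_zero, Subgroup.index_eq_one] at hk
      exact hne hk
    have hdvd : (q + 1) ∣ Ch.index := by
      rw [hk]; exact dvd_pow_self _ hk0
    have hcard : Fintype.card (MulAction.fixedBy (P : Subgroup G) h) = Nat.card Ch := by
      rw [← Nat.card_eq_fintype_card]
      exact Nat.card_congr (Equiv.setCongr e)
    have hmul := Ch.card_mul_index
    rw [Nat.card_eq_fintype_card (α := (P : Subgroup G))] at hmul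
    obtain ⟨m, hm⟩ := hdvd
    have hm0 : m ≠ 0 := by
      rintro rfl
      rw [mul_zero] at hm
      exact Ch.index_ne_zero_of_finite hm
    rw [hcard, hn, ← hmul, hm]
    calc (q + 1) * Nat.card Ch = Nat.card Ch * ((q + 1) * 1) := by ring
      _ ≤ Nat.card Ch * ((q + 1) * m) := by
        apply Nat.mul_le_mul_left
        apply Nat.mul_le_mul_left
        omega
  -- K is proper
  have hKne : K ≠ ⊤ := by
    intro htop
    apply hK
    intro h hh
    have : (⟨h, hh⟩ : H) ∈ K := by rw [htop]; trivial
    exact Subgroup.mem_subgroupOf.mp this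
  have h2a : 2 * Fintype.card K ≤ Fintype.card H := by
    have hmul := K.card_mul_index
    rw [Nat.card_eq_fintype_card, Nat.card_eq_fintype_card] at hmul
    have hi1 : K.index ≠ 1 := fun h => hKne (Subgroup.index_eq_one.mp h)
    have hi0 : K.index ≠ 0 := K.index_ne_zero_of_finite
    rw [← hmul]
    calc 2 * Fintype.card K = Fintype.card K * 2 := by ring
      _ ≤ Fintype.card K * K.index := Nat.mul_le_mul_left _ (by omega)
  -- the sum bound
  have hsum : (q + 1) * ∑ h : H, Fintype.card (MulAction.fixedBy (P : Subgroup G) h)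
      ≤ Fintype.card H * n + Fintype.card K * (q * n) := by
    rw [Finset.mul_sum]
    calc ∑ h : H, (q + 1) * Fintype.card (MulAction.fixedBy (P : Subgroup G) h)
        ≤ ∑ h : H, (n + if h ∈ K then q * n else 0) := by
          apply Finset.sum_le_sum
          intro h _
          by_cases hh : h ∈ K
          · rw [if_pos hh]
            calc (q + 1) * Fintype.card (MulAction.fixedBy (P : Subgroup G) h)
                ≤ (q + 1) * n := Nat.mul_le_mul_left _ (hfix1 h)
              _ = n + q * n := by ring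
          · rw [if_neg hh]
            exact (hfix2 h hh).trans (by omega)
      _ = Fintype.card H * n + Fintype.card K * (q * n) := by
          have hKc : Fintype.card K = (Finset.univ.filter (fun h : H => h ∈ K)).card :=
            Fintype.card_of_subtype _ (fun x => by simp)
          rw [Finset.sum_add_distrib, Finset.sum_const, Finset.card_univ, smul_eq_mul,
            Finset.sum_ite, Finset.sum_const_zero, add_zero, Finset.sum_const, smul_eq_mul, hKc]
  rw [key] at hsum
  set Ω := Quotient (MulAction.orbitRel H (P : Subgroup G)) with hΩ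
  -- surjection
  have hsurj : Nat.card (PC (q + 1) G) ≤ Fintype.card Ω := by
    rw [← Nat.card_eq_fintype_card]
    have hcompat : ∀ a b : (P : Subgroup G), (MulAction.orbitRel H (P : Subgroup G)) a b →
        clsMap P a = clsMap P b := by
      intro a b hab
      rw [MulAction.orbitRel_apply, MulAction.mem_orbit_iff] at hab
      obtain ⟨h, hh⟩ := hab
      apply Subtype.ext
      show ConjClasses.mk (a : G) = ConjClasses.mk (b : G)
      rw [ConjClasses.mk_eq_mk_iff_isConj, isConj_comm, isConj_iff]
      exact ⟨h, congrArg Subtype.val hh⟩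
    refine Nat.card_le_card_of_surjective (Quotient.lift (clsMap P) hcompat) ?_
    intro c
    obtain ⟨x, hx⟩ := clsMap_surj P c
    exact ⟨Quotient.mk _ x, hx⟩
  have hb0 : 0 < Fintype.card H := Fintype.card_pos
  have h3 : 2 * (q + 1) * Fintype.card Ω * Fintype.card H ≤
      ((q + 1) + 1) * n * Fintype.card H := by
    calc 2 * (q + 1) * Fintype.card Ω * Fintype.card H
        = 2 * ((q + 1) * (Fintype.card Ω * Fintype.card H)) := by ring
      _ ≤ 2 * (Fintype.card H * n + Fintype.card K * (q * n)) := Nat.mul_le_mul_left _ hsum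
      _ = 2 * Fintype.card H * n + (2 * Fintype.card K) * (q * n) := by ring
      _ ≤ 2 * Fintype.card H * n + Fintype.card H * (q * n) :=
          Nat.add_le_add_left (Nat.mul_le_mul_right _ h2a) _
      _ = ((q + 1) + 1) * n * Fintype.card H := by ring
  have h4 := Nat.le_of_mul_le_mul_right h3 hb0
  rw [Nat.card_eq_fintype_card (α := (P : Subgroup G))]
  calc 2 * (q + 1) * Nat.card (PC (q + 1) G) ≤ 2 * (q + 1) * Fintype.card Ω :=
        Nat.mul_le_mul_left _ hsurj
    _ ≤ _ := h4

theorem clsMap_inj {G : Type*} [Group G] [Finite G] {p : ℕ} [Fact p.Prime] (P : Sylow p G)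
    (hab : IsMulCommutative ↥(P : Subgroup G)) (Q : Sylow p G) (N : Subgroup G) (hN : N.Normal)
    (hc : N.IsComplement' (Q : Subgroup G)) : Function.Injective (clsMap P) := by
  -- `Q` is commutative
  obtain ⟨g, hg⟩ := MulAction.exists_smul_eq G P Q
  have hQab : ∀ a ∈ (Q : Subgroup G), ∀ b ∈ (Q : Subgroup G), a * b = b * a := by
    intro a ha b hb
    rw [← hg, Sylow.smul_def, Sylow.pointwise_smul_def,
      Subgroup.mem_smul_pointwise_iff_exists] at ha hb
    obtain ⟨s, hs, rfl⟩ := ha
    obtain ⟨t, ht, rfl⟩ := hb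
    have hst : s * t = t * s := by
      have := hab.is_comm.comm ⟨s, hs⟩ ⟨t, ht⟩
      exact congrArg Subtype.val this
    simp only [MulAut.smul_def, MulAut.conj_apply]
    calc g * s * g⁻¹ * (g * t * g⁻¹) = g * (s * t) * g⁻¹ := by group
      _ = g * (t * s) * g⁻¹ := by rw [hst]
      _ = g * t * g⁻¹ * (g * s * g⁻¹) := by group
  -- every element is congruent mod `N` to an element of `Q`
  have hdec : ∀ z : G, ∃ u ∈ (Q : Subgroup G), (QuotientGroup.mk' N) z = (QuotientGroup.mk' N) u := by
    intro z
    obtain ⟨⟨⟨n, hn⟩, ⟨u, hu⟩⟩, hnu, -⟩ := (Subgroup.IsComplement.existsUnique hc z)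
    refine ⟨u, hu, ?_⟩
    simp only at hnu
    rw [← hnu, map_mul]
    have : (QuotientGroup.mk' N) n = 1 := by
      rw [QuotientGroup.mk'_apply, QuotientGroup.eq_one_iff]; exact hn
    rw [this, one_mul]
  have hcomm : ∀ z w : G, (QuotientGroup.mk' N) z * (QuotientGroup.mk' N) w
      = (QuotientGroup.mk' N) w * (QuotientGroup.mk' N) z := by
    intro z w
    obtain ⟨u, hu, hzu⟩ := hdec z
    obtain ⟨v, hv, hwv⟩ := hdec w
    rw [hzu, hwv, ← map_mul, ← map_mul, hQab u hu v hv]
  have hcop : ¬ p ∣ Nat.card N := by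
    rw [← hc.index_eq_card]
    exact Q.not_dvd_index
  intro x y hxy
  have h1 : ConjClasses.mk (x : G) = ConjClasses.mk (y : G) := congrArg Subtype.val hxy
  rw [ConjClasses.mk_eq_mk_iff_isConj, isConj_iff] at h1
  obtain ⟨c, hc1⟩ := h1
  have h2 : (QuotientGroup.mk' N) (y : G) = (QuotientGroup.mk' N) (x : G) := by
    rw [← hc1, map_mul, map_mul, hcomm c x, mul_assoc, ← map_mul, mul_inv_cancel, map_one, mul_one]
  have h3 : (x : G)⁻¹ * y ∈ N := by
    have := QuotientGroup.eq.mp h2.symm
    exact this
  set z : (P : Subgroup G) := x⁻¹ * y with hz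
  have hzN : (z : G) ∈ N := h3
  obtain ⟨k, hk⟩ := (IsPGroup.iff_orderOf.mp P.2) z
  have hk0 : k = 0 := by
    by_contra hk0
    apply hcop
    have h4 : orderOf (z : G) ∣ Nat.card N := by
      have := orderOf_dvd_natCard (⟨(z : G), hzN⟩ : N)
      rwa [Subgroup.orderOf_mk] at this
    rw [Subgroup.orderOf_coe, hk] at h4
    exact (dvd_pow_self p hk0).trans h4
  rw [hk0, pow_zero, orderOf_eq_one_iff] at hk
  rw [hz, inv_mul_eq_one] at hk
  exact hk

/-- Let p be an odd prime and G a finite group with Sylow p-subgroup P, and write k_p(G) for the number of conjugacy classes of G consisting of p-elements (elements of p-power order, the identity included). Then k_p(G) > (p + 1)|P|/(2p) if and only if G has a normal p-complement and P is abelian. -/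
theorem result {G : Type*} [Group G] [Finite G] {p : ℕ} [Fact p.Prime] (hp : p ≠ 2) (P : Sylow p G) :
    (p + 1) * Nat.card ↥(P : Subgroup G) < 2 * p * Nat.card {c : ConjClasses G // ∀ x ∈ c.carrier, ∃ k : ℕ, orderOf x = p ^ k} ↔
      Cfsg.HasNormalPComplement p G ∧ IsMulCommutative ↥(P : Subgroup G) := by
  constructor
  · intro hlt
    have hab : IsMulCommutative ↥(P : Subgroup G) := by
      by_contra hna
      have hK : ¬ (P : Subgroup G) ≤ Subgroup.centralizer ((P : Subgroup G) : Set G) := by
        intro hle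
        apply hna
        refine ⟨⟨fun a b => Subtype.ext ?_⟩⟩
        exact ((Subgroup.mem_centralizer_iff.mp (hle a.2)) b b.2).symm
      exact absurd hlt (not_lt.mpr (orbit_bound P _ Subgroup.le_normalizer hK))
    refine ⟨?_, hab⟩
    have hNC : Subgroup.normalizer ((P : Subgroup G) : Set G)
        ≤ Subgroup.centralizer ((P : Subgroup G) : Set G) := by
      by_contra hK
      exact absurd hlt (not_lt.mpr (orbit_bound P _ le_rfl hK))
    exact ⟨P, _, inferInstance, MonoidHom.ker_transferSylow_isComplement' P hNC⟩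
  · rintro ⟨⟨Q, N, hN, hc⟩, hab⟩
    have hinj := clsMap_inj P hab Q N hN hc
    have hle : Nat.card (P : Subgroup G) ≤ Nat.card (PC p G) :=
      Nat.card_le_card_of_injective _ hinj
    have hp1 : 1 < p := (Fact.out : p.Prime).one_lt
    have hpos : 0 < Nat.card (P : Subgroup G) := Nat.card_pos
    calc (p + 1) * Nat.card (P : Subgroup G) < 2 * p * Nat.card (P : Subgroup G) :=
          Nat.mul_lt_mul_of_pos_right (by omega) hpos
      _ ≤ 2 * p * Nat.card (PC p G) := Nat.mul_le_mul_left _ hle

end Cfsg.Agent.S3897
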