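import Cfsg.Statements.S3895
import Mathlib
import Cfsg.Agent.Lib.Helper8.K2c
import Cfsg.Agent.Lib.Helper1.FrobeniusPComplement

set_option autoImplicit false
open Cfsg

namespace Cfsg.Agent.S3895

/-- Let G be a finite group with Sylow 2-subgroup P, and write k₂(G) for the number of conjugacy classes of G consisting of 2-elements (elements of 2-power order, the identity included). Then k₂(G) > |P|/2 if and only if G has a normal 2-complement and P has more than |P|/2 conjugacy classes. -/
theorem result {G : Type*} [Group G] [Finite G] (P : Sylow 2 G) :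
    Nat.card ↥(P : Subgroup G) < 2 * Nat.card {c : ConjClasses G // ∀ x ∈ c.carrier, ∃ k : ℕ, orderOf x = 2 ^ k} ↔
      Cfsg.HasNormalPComplement 2 G ∧ Nat.card ↥(P : Subgroup G) < 2 * Nat.card (ConjClasses ↥(P : Subgroup G)) := by
  constructor
  · intro hlt
    have hnpc : Cfsg.HasNormalPComplement 2 G := by
      by_contra hno
      have h1 : ¬ ∀ Q : Subgroup G, Q ≤ (P : Subgroup G) →
          ∀ g ∈ Subgroup.normalizer (Q : Set G),
          Nat.Coprime (orderOf g) 2 → g ∈ Subgroup.centralizer (Q : Set G) := by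
        intro hall
        obtain ⟨N, hN, hc⟩ :=
          (Cfsg.Agent.Lib.Helper1.frobenius_normal_p_complement P).mpr hall
        exact hno ⟨P, N, hN, hc⟩
      have h2 : ∃ Q : Subgroup G, Cfsg.Agent.Lib.Helper8.K2.Bad Q := by
        by_contra hnb
        apply h1
        intro Q hQP g hg hcop
        by_contra hgc
        exact hnb ⟨Q, P.isPGroup'.to_le hQP, g, hg, Nat.Coprime.odd_of_right hcop, hgc⟩
      have h3 := Cfsg.Agent.Lib.Helper8.K2.two_mul_card_le_of_bad h2 P
      exact absurd hlt (not_lt.mpr h3)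
    exact ⟨hnpc, lt_of_lt_of_le hlt
      (Nat.mul_le_mul_left 2 (Cfsg.Agent.Lib.Helper8.K2.card_pc_le_card_conjClasses P))⟩
  · rintro ⟨⟨Q, N, hN, hc⟩, hlt⟩
    exact lt_of_lt_of_le hlt
      (Nat.mul_le_mul_left 2 (Cfsg.Agent.Lib.Helper8.K2.card_conjClasses_le_card_pc P Q N hN hc))

end Cfsg.Agent.S3895
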