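import Cfsg.Statements.S4504
import Cfsg.Agent.Lib.Helper6.BH10
import Cfsg.Agent.Lib.Helper6.Multiplicity
import Cfsg.Agent.Lib.Helper6.Constituent

set_option autoImplicit false
open Cfsg

namespace Cfsg.Agent.S4504

open Cfsg.Agent.Lib.Helper6 Cfsg.Agent.Lib.Helper6.BH

/-- Let G be a finite group whose order is divisible by the prime p exactly once and which has no normal subgroup of order p. If G has a faithful character of degree exactly (p − 1)/2, then G modulo its centre is isomorphic to PSL(2, p). -/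
theorem result {G : Type*} [Group G] [Finite G] (p : ℕ) (hp : p.Prime) (hdiv : p ∣ Nat.card G) (hsq : ¬ p ^ 2 ∣ Nat.card G) (hnn : ∀ H : Subgroup G, H.Normal → Nat.card H ≠ p) (χ : G → ℂ) (hχ : Cfsg.IsCharacter G χ) (hfaith : ∀ g : G, χ g = χ 1 → g = 1) (hdeg : 2 * Cfsg.charDegree χ + 1 = p) : Nonempty ((G ⧸ Subgroup.center G) ≃* Matrix.ProjectiveSpecialLinearGroup (Fin 2) (ZMod p)) := by
  haveI : Fact p.Prime := ⟨hp⟩
  by_cases hm2 : 2 ≤ Cfsg.charDegree χ
  · exact brauer_half_main hdiv hsq hnn hχ hfaith hdeg hm2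
  · exfalso
    have h1 : Cfsg.charDegree χ = 1 := by
      have := hp.one_lt
      omega
    have hχ1 : χ 1 = 1 := by
      rw [IsCharacter.apply_one_eq_charDegree hχ, h1, Nat.cast_one]
    have hcomm : ∀ a b : G, a * b = b * a := by
      intro a b
      have h2 := IsCharacter.apply_commutator_of_apply_one_eq_one hχ hχ1 a b
      have h3 := hfaith _ (h2.trans hχ1.symm)
      calc a * b = (a * b * a⁻¹ * b⁻¹) * (b * a) := by group
        _ = b * a := by rw [h3, one_mul]
    obtain ⟨P, hP⟩ := exists_sylow_card hdiv hsq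
    apply hnn (P : Subgroup G) _ hP
    refine ⟨fun n hn g => ?_⟩
    rw [hcomm g n, mul_inv_cancel_right]
    exact hn

end Cfsg.Agent.S4504
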