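import Cfsg.Statements.S1592
import Cfsg.Agent.Lib.Helper4.TernaryGolay

set_option autoImplicit false
open Cfsg

namespace Cfsg.Agent.S1592

open Cfsg.Agent.Lib.Helper4.TernaryGolay

lemma mem_supp {x : ArrayPt → ZMod 3} {p : ArrayPt} : p ∈ ternarySupport x ↔ x p ≠ 0 := by
  simp [ternarySupport]

lemma wt_small {z : ArrayPt → ZMod 3} (hz : z ∈ ternaryGolayCode)
    (h : (ternarySupport z).card ≤ 4) : z = 0 := by
  obtain ⟨p, rfl⟩ := exists_encP z hz
  rcases wt_cases p with h0 | h0 | h0 | h0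
  · exact support_card_eq_zero h0
  · omega
  · omega
  · omega

lemma zmod3_add : ∀ u v : ZMod 3, u ≠ 0 → v ≠ 0 → u ≠ v → u + v = 0 := by decide

lemma supp_neg (x : ArrayPt → ZMod 3) : ternarySupport (-x) = ternarySupport x := by
  ext p
  simp [mem_supp]

/-- the support of `z` avoids `A` and lies in the union of two `6`-sets sharing `5` points -/
lemma card_bound {X Y s A Z : Finset ArrayPt} (hX : X.card = 6) (hY : Y.card = 6)
    (hsX : s ⊆ X) (hsY : s ⊆ Y) (hs : s.card = 5) (hA : A ⊆ s) (hA3 : 3 ≤ A.card)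
    (hZ : Z ⊆ (X ∪ Y) \ A) : Z.card ≤ 4 := by
  have h1 : s ⊆ X ∩ Y := Finset.subset_inter hsX hsY
  have h2 : 5 ≤ (X ∩ Y).card := hs ▸ Finset.card_le_card h1
  have h3 := Finset.card_union_add_card_inter X Y
  have h4 : A ⊆ X ∪ Y := hA.trans (hsX.trans Finset.subset_union_left)
  have h5 : ((X ∪ Y) \ A).card = (X ∪ Y).card - A.card := Finset.card_sdiff_of_subset h4
  have h6 := Finset.card_le_card hZ
  omega

/-- two weight `6` words sharing five points of their supports are equal up to sign -/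
lemma pm_of_five {x y : ArrayPt → ZMod 3} (hx : x ∈ ternaryGolayCode) (hy : y ∈ ternaryGolayCode)
    (hx6 : (ternarySupport x).card = 6) (hy6 : (ternarySupport y).card = 6)
    {s : Finset ArrayPt} (hs : s.card = 5) (hsx : s ⊆ ternarySupport x)
    (hsy : s ⊆ ternarySupport y) : y = x ∨ y = -x := by
  classical
  have hsplit := Finset.card_filter_add_card_filter_not (s := s) (fun p => x p = y p)
  rw [hs] at hsplit
  by_cases hA : 3 ≤ (s.filter (fun p => x p = y p)).card
  · left
    have hz : x - y ∈ ternaryGolayCode := sub_mem hx hy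
    have hsub : ternarySupport (x - y) ⊆
        (ternarySupport x ∪ ternarySupport y) \ s.filter (fun p => x p = y p) := by
      intro p hp
      rw [mem_supp] at hp
      rw [Finset.mem_sdiff, Finset.mem_union, mem_supp, mem_supp, Finset.mem_filter]
      constructor
      · by_contra hcon
        push Not at hcon
        apply hp
        show x p - y p = 0
        rw [hcon.1, hcon.2, sub_zero]
      · rintro ⟨_, hxy⟩
        apply hp
        show x p - y p = 0
        rw [hxy, sub_self]
    have := wt_small hz (card_bound hx6 hy6 hsx hsy hs (Finset.filter_subset _ _) hA hsub)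
    exact (sub_eq_zero.1 this).symm
  · right
    have hD : 3 ≤ (s.filter (fun p => ¬ x p = y p)).card := by omega
    have hz : x + y ∈ ternaryGolayCode := add_mem hx hy
    have hsub : ternarySupport (x + y) ⊆
        (ternarySupport x ∪ ternarySupport y) \ s.filter (fun p => ¬ x p = y p) := by
      intro p hp
      rw [mem_supp] at hp
      rw [Finset.mem_sdiff, Finset.mem_union, mem_supp, mem_supp, Finset.mem_filter]
      constructor
      · by_contra hcon
        push Not at hcon
        apply hp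
        show x p + y p = 0
        rw [hcon.1, hcon.2, add_zero]
      · rintro ⟨hps, hxy⟩
        apply hp
        exact zmod3_add _ _ (mem_supp.1 (hsx hps)) (mem_supp.1 (hsy hps)) hxy
    have := wt_small hz (card_bound hx6 hy6 hsx hsy hs (Finset.filter_subset _ _) hD hsub)
    exact (eq_neg_of_add_eq_zero_right this)

/-- the weight `6` words -/
noncomputable def W6 : Finset (ArrayPt → ZMod 3) :=
  (Finset.univ.filter (fun p : P6 => (ternarySupport (encP p)).card = 6)).image encP

lemma mem_W6 {x : ArrayPt → ZMod 3} :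
    x ∈ W6 ↔ x ∈ ternaryGolayCode ∧ (ternarySupport x).card = 6 := by
  simp only [W6, Finset.mem_image, Finset.mem_filter, Finset.mem_univ, true_and]
  constructor
  · rintro ⟨p, hp, rfl⟩
    exact ⟨encP_mem p, hp⟩
  · rintro ⟨hx, h6⟩
    obtain ⟨p, rfl⟩ := exists_encP x hx
    exact ⟨p, h6, rfl⟩

lemma card_W6 : W6.card = 264 := by
  rw [W6, Finset.card_image_of_injective _ encP_injective, cnt6]

/-- the hexads -/
noncomputable def BF : Finset (Finset ArrayPt) := W6.image ternarySupport

lemma mem_BF {h : Finset ArrayPt} :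
    h ∈ BF ↔ ∃ x ∈ ternaryGolayCode, ternarySupport x = h ∧ h.card = 6 := by
  simp only [BF, Finset.mem_image, mem_W6]
  constructor
  · rintro ⟨x, ⟨hx, h6⟩, rfl⟩
    exact ⟨x, hx, rfl, h6⟩
  · rintro ⟨x, hx, rfl, h6⟩
    exact ⟨x, ⟨hx, h6⟩, rfl⟩

lemma card_of_mem_BF {h : Finset ArrayPt} (hh : h ∈ BF) : h.card = 6 := by
  obtain ⟨x, _, _, h6⟩ := mem_BF.1 hh
  exact h6

lemma ne_neg_of_mem_W6 {x : ArrayPt → ZMod 3} (hx : x ∈ W6) : x ≠ -x := by
  intro h
  have h6 := (mem_W6.1 hx).2
  have : x = 0 := by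
    funext p
    have hp := congrFun h p
    have key : ∀ u : ZMod 3, u = -u → u = 0 := by decide
    exact key _ hp
  rw [this] at h6
  simp [ternarySupport] at h6

lemma card_BF : BF.card = 132 := by
  classical
  have h := Finset.card_eq_sum_card_fiberwise (f := ternarySupport) (s := W6) (t := BF)
    (fun x hx => Finset.mem_image_of_mem _ hx)
  have hfib : ∀ b ∈ BF, (W6.filter (fun x => ternarySupport x = b)).card = 2 := by
    intro b hb
    obtain ⟨x, hx, hxb, hb6⟩ := mem_BF.1 hb
    have hxW : x ∈ W6 := mem_W6.2 ⟨hx, hxb ▸ hb6⟩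
    have hnW : -x ∈ W6 := mem_W6.2 ⟨neg_mem hx, by rw [supp_neg, hxb]; exact hb6⟩
    have : W6.filter (fun y => ternarySupport y = b) = {x, -x} := by
      ext y
      simp only [Finset.mem_filter, Finset.mem_insert, Finset.mem_singleton]
      constructor
      · rintro ⟨hyW, hyb⟩
        obtain ⟨hy, hy6⟩ := mem_W6.1 hyW
        obtain ⟨s, hsb, hs5⟩ := Finset.exists_subset_card_eq (s := b) (n := 5) (by omega)
        exact pm_of_five hx hy (hxb ▸ hb6) hy6 hs5 (hxb ▸ hsb) (hyb ▸ hsb)
      · rintro (rfl | rfl)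
        · exact ⟨hxW, hxb⟩
        · exact ⟨hnW, by rw [supp_neg, hxb]⟩
    rw [this, Finset.card_pair (ne_neg_of_mem_W6 hxW)]
  rw [Finset.sum_congr rfl hfib, Finset.sum_const, smul_eq_mul, card_W6] at h
  omega

lemma unique_hexad {b b' s : Finset ArrayPt} (hb : b ∈ BF) (hb' : b' ∈ BF) (hs : s.card = 5)
    (hsb : s ⊆ b) (hsb' : s ⊆ b') : b = b' := by
  obtain ⟨x, hx, rfl, hx6⟩ := mem_BF.1 hb
  obtain ⟨y, hy, rfl, hy6⟩ := mem_BF.1 hb'
  rcases pm_of_five hx hy hx6 hy6 hs hsb hsb' with h | h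
  · rw [h]
  · rw [h, supp_neg]

lemma choose_12_5 : Nat.choose 12 5 = 792 := by decide

lemma choose_6_5 : Nat.choose 6 5 = 6 := by decide

set_option linter.constructorNameAsVariable false in
lemma exists_hexad {s : Finset ArrayPt} (hs : s.card = 5) : ∃ b ∈ BF, s ⊆ b := by
  classical
  let T : Finset (Σ _ : Finset ArrayPt, Finset ArrayPt) := BF.sigma (fun b => b.powersetCard 5)
  have hT : T.card = 792 := by
    rw [Finset.card_sigma]
    have : ∀ b ∈ BF, (b.powersetCard 5).card = 6 := by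
      intro b hb
      rw [Finset.card_powersetCard, card_of_mem_BF hb, choose_6_5]
    rw [Finset.sum_congr rfl this, Finset.sum_const, smul_eq_mul, card_BF]
  have hinj : Set.InjOn (fun t : (Σ _ : Finset ArrayPt, Finset ArrayPt) => t.2) (T : Set _) := by
    rintro ⟨b, t⟩ hbt ⟨b', t'⟩ hbt' (htt : t = t')
    subst htt
    rw [Finset.mem_coe, Finset.mem_sigma, Finset.mem_powersetCard] at hbt hbt'
    have := unique_hexad hbt.1 hbt'.1 hbt.2.2 hbt.2.1 hbt'.2.1
    subst this
    rfl
  have himg : T.image (fun t => t.2) = (Finset.univ : Finset ArrayPt).powersetCard 5 := by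
    apply Finset.eq_of_subset_of_card_le
    · intro t ht
      rw [Finset.mem_image] at ht
      obtain ⟨⟨b, t'⟩, hbt, rfl⟩ := ht
      rw [Finset.mem_sigma, Finset.mem_powersetCard] at hbt
      rw [Finset.mem_powersetCard]
      exact ⟨Finset.subset_univ _, hbt.2.2⟩
    · rw [Finset.card_image_of_injOn hinj, hT, Finset.card_powersetCard, Finset.card_univ]
      have : Fintype.card ArrayPt = 12 := by
        simp [ZMod.card]
      rw [this, choose_12_5]
  have hmem : s ∈ T.image (fun t => t.2) := by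
    rw [himg, Finset.mem_powersetCard]
    exact ⟨Finset.subset_univ _, hs⟩
  rw [Finset.mem_image] at hmem
  obtain ⟨⟨b, t⟩, hbt, rfl⟩ := hmem
  rw [Finset.mem_sigma, Finset.mem_powersetCard] at hbt
  exact ⟨b, hbt.1, hbt.2.1⟩

theorem result : Cfsg.IsSteinerSystem 5 6 {h : Finset Cfsg.ArrayPt | ∃ x ∈ Cfsg.ternaryGolayCode, Cfsg.ternarySupport x = h ∧ h.card = 6} ∧ {h : Finset Cfsg.ArrayPt | ∃ x ∈ Cfsg.ternaryGolayCode, Cfsg.ternarySupport x = h ∧ h.card = 6}.ncard = 132 := by
  have hB : {h : Finset Cfsg.ArrayPt | ∃ x ∈ Cfsg.ternaryGolayCode, Cfsg.ternarySupport x = h ∧ h.card = 6} = ↑BF := by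
    ext h
    rw [Finset.mem_coe, mem_BF]
    rfl
  rw [hB]
  refine ⟨⟨fun b hb => card_of_mem_BF hb, fun s hs => ?_⟩, ?_⟩
  · obtain ⟨b, hb, hsb⟩ := exists_hexad hs
    refine ⟨b, ⟨hb, hsb⟩, ?_⟩
    rintro b' ⟨hb', hsb'⟩
    exact unique_hexad hb' hb hs hsb' hsb
  · rw [Set.ncard_coe_finset, card_BF]

end Cfsg.Agent.S1592
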