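import Cfsg.Statements.S1593
import Cfsg.Agent.Lib.Helper4.TernaryGolay

set_option autoImplicit false
open Cfsg

namespace Cfsg.Agent.S1593

open Cfsg.Agent.Lib.Helper4.TernaryGolay

lemma unit_cases : ∀ u : (ZMod 3)ˣ, (u : ZMod 3) = 1 ∨ (u : ZMod 3) = 2 := by decide

lemma bm_eta (b : Fin 4 → ZMod 3 → Bool) :
    bm (b 0 0) (b 0 1) (b 0 2) (b 1 0) (b 1 1) (b 1 2) (b 2 0) (b 2 1) (b 2 2) (b 3 0) (b 3 1)
      (b 3 2) = b := by
  funext i r
  have hr : r = 0 ∨ r = 1 ∨ r = 2 := by revert r; decide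
  fin_cases i <;> rcases hr with rfl | rfl | rfl <;> rfl

theorem result (c : Cfsg.ArrayPt → (ZMod 3)ˣ) (h : (∀ x ∈ Cfsg.ternaryGolayCode, Cfsg.monomialMap 1 c x ∈ Cfsg.ternaryGolayCode)) : (∀ p, c p = 1) ∨ (∀ p, c p = -1) := by
  classical
  let b : Fin 4 → ZMod 3 → Bool := fun i r => decide ((c (i, r) : ZMod 3) = 1)
  have hsg : ∀ p, sg b p = (c p : ZMod 3) := by
    rintro ⟨i, r⟩
    rcases unit_cases (c (i, r)) with h1 | h1
    · have hb : b i r = true := decide_eq_true h1
      show (if b i r = true then (1 : ZMod 3) else 2) = _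
      rw [if_pos hb, h1]
    · have hne : ¬ ((c (i, r) : ZMod 3) = 1) := by rw [h1]; decide
      have hb : b i r = false := decide_eq_false hne
      show (if b i r = true then (1 : ZMod 3) else 2) = _
      rw [if_neg (by rw [hb]; decide), h1]
  have hw : ∀ x ∈ ternaryGolayCode, isW (fun p => sg b p * x p) := by
    intro x hx
    have := isW_of_mem (h x hx)
    have e : monomialMap 1 c x = fun p => sg b p * x p := by
      funext p
      rw [hsg]
      rfl
    rwa [e] at this
  have key := signs (b 0 0) (b 0 1) (b 0 2) (b 1 0) (b 1 1) (b 1 2) (b 2 0) (b 2 1) (b 2 2) (b 3 0)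
    (b 3 1) (b 3 2)
  unfold Good at key
  rw [bm_eta] at key
  have hall := key (hw _ (enc_mem _ _ _ _ _ _)) (hw _ (enc_mem _ _ _ _ _ _))
    (hw _ (enc_mem _ _ _ _ _ _)) (hw _ (enc_mem _ _ _ _ _ _)) (hw _ (enc_mem _ _ _ _ _ _))
    (hw _ (enc_mem _ _ _ _ _ _))
  obtain ⟨h01, h02, h10, h11, h12, h20, h21, h22, h30, h31, h32⟩ := hall
  have hconst : ∀ i r, b i r = b 0 0 := by
    intro i r
    have hr : r = 0 ∨ r = 1 ∨ r = 2 := by revert r; decide
    fin_cases i <;> rcases hr with rfl | rfl | rfl <;> first | rfl | assumption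
  by_cases hb : b 0 0 = true
  · left
    rintro ⟨i, r⟩
    have := hconst i r
    rw [hb] at this
    have h1 : (c (i, r) : ZMod 3) = 1 := of_decide_eq_true this
    exact Units.ext h1
  · right
    rintro ⟨i, r⟩
    have := hconst i r
    have hb' : b 0 0 = false := by simpa using hb
    rw [hb'] at this
    have h1 : ¬ ((c (i, r) : ZMod 3) = 1) := of_decide_eq_false this
    rcases unit_cases (c (i, r)) with h2 | h2
    · exact absurd h2 h1
    · apply Units.ext
      rw [h2]
      decide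

end Cfsg.Agent.S1593
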