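import Cfsg.Statements.S3781
import Cfsg.Agent.Lib.Helper2.Commutator
import Cfsg.Agent.Lib.Helper2.PGroupNormal
import Cfsg.Agent.Lib.Helper2.FrattiniRank
import Cfsg.Agent.Lib.Helper2.PGroup

set_option autoImplicit false
open Cfsg

namespace Cfsg.Agent.S3781

open Cfsg.Agent.Lib.Helper2

variable {G : Type*} [Group G]

/-- iterated commutator `[W, G, …, G]` -/
def iterC (n : ℕ) (W : Subgroup G) : Subgroup G :=
  (fun X => ⁅X, (⊤ : Subgroup G)⁆)^[n] W

theorem iterC_zero (W : Subgroup G) : iterC 0 W = W := rfl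

theorem iterC_succ (n : ℕ) (W : Subgroup G) : iterC (n + 1) W = iterC n ⁅W, (⊤ : Subgroup G)⁆ :=
  Function.iterate_succ_apply _ _ _

theorem iterC_succ' (n : ℕ) (W : Subgroup G) : iterC (n + 1) W = ⁅iterC n W, (⊤ : Subgroup G)⁆ :=
  Function.iterate_succ_apply' _ _ _

theorem iterC_mono (n : ℕ) {W W' : Subgroup G} (h : W ≤ W') : iterC n W ≤ iterC n W' := by
  induction n with
  | zero => exact h
  | succ n ih =>
    rw [iterC_succ', iterC_succ']
    exact Subgroup.commutator_mono ih le_rfl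

theorem iterC_normal (n : ℕ) (W : Subgroup G) [W.Normal] : (iterC n W).Normal := by
  induction n with
  | zero => exact (inferInstance : W.Normal)
  | succ n ih =>
    rw [iterC_succ']
    haveI := ih
    exact Subgroup.commutator_normal _ _

theorem iterC_le (n : ℕ) (W : Subgroup G) [W.Normal] : iterC n W ≤ W := by
  induction n with
  | zero => exact le_rfl
  | succ n ih =>
    rw [iterC_succ']
    haveI := iterC_normal n W
    exact (Subgroup.commutator_le_left _ _).trans ih

theorem iterC_le_lcs (n : ℕ) (W : Subgroup G) :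
    iterC n W ≤ (⊤ : Subgroup G).lowerCentralSeries n := by
  induction n with
  | zero => exact le_top
  | succ n ih =>
    rw [iterC_succ', Subgroup.lowerCentralSeries_succ]
    exact Subgroup.commutator_mono ih le_rfl

/-- `[H, γ_{m+1}(G)] ≤ [H, G, …, G]` (`m + 1` times) -/
theorem commutator_lcs_le (m : ℕ) : ∀ (H : Subgroup G) [H.Normal],
    ⁅H, (⊤ : Subgroup G).lowerCentralSeries m⁆ ≤ iterC (m + 1) H := by
  induction m with
  | zero =>
    intro H _
    rw [Subgroup.lowerCentralSeries_zero, iterC_succ, iterC_zero]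
  | succ m ih =>
    intro H hH
    rw [Subgroup.lowerCentralSeries_succ, Subgroup.commutator_comm]
    haveI hn : (iterC (m + 1 + 1) H).Normal := iterC_normal _ H
    -- ⁅⁅γ, ⊤⁆, H⁆ ≤ L from ⁅⁅⊤, H⁆, γ⁆ ≤ L and ⁅⁅H, γ⁆, ⊤⁆ ≤ L
    apply commutator_commutator_le_of_rotate
    · -- ⁅⁅⊤, H⁆, γ⁆
      haveI : (⁅H, (⊤ : Subgroup G)⁆).Normal := Subgroup.commutator_normal _ _
      rw [Subgroup.commutator_comm ⊤ H]
      have := ih ⁅H, (⊤ : Subgroup G)⁆
      rwa [← iterC_succ] at this
    · -- ⁅⁅H, γ⁆, ⊤⁆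
      rw [iterC_succ' (m + 1)]
      exact Subgroup.commutator_mono (ih H) le_rfl

/-- a chain argument: if `|H : K₀| ≤ p ^ s` then `[H, G; s] ≤ K₀` -/
theorem iterC_le_of_relIndex_le [Finite G] {p : ℕ} [Fact p.Prime] (hG : IsPGroup p G) (s : ℕ) :
    ∀ (H K₀ : Subgroup G) [H.Normal] [K₀.Normal], K₀ ≤ H → K₀.relIndex H ≤ p ^ s →
      iterC s H ≤ K₀ := by
  have hp : p.Prime := Fact.out
  induction s with
  | zero =>
    intro H K₀ _ _ hle hidx
    rw [pow_zero] at hidx
    have hpos : 0 < K₀.relIndex H := by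
      have h0 := card_mul_relIndex hle
      have h1 : 0 < Nat.card H := Nat.card_pos
      rcases Nat.eq_zero_or_pos (K₀.relIndex H) with h2 | h2
      · rw [h2, mul_zero] at h0; omega
      · exact h2
    have h1 : K₀.relIndex H = 1 := by omega
    exact Subgroup.relIndex_eq_one.mp h1
  | succ s ih =>
    intro H K₀ hH hK₀ hle hidx
    by_cases hHK : H ≤ K₀
    · exact (iterC_le _ H).trans hHK
    · have hlt : K₀ < H := lt_of_le_of_ne hle (fun h => hHK (h ▸ le_rfl))
      set H₁ : Subgroup G := ⁅H, (⊤ : Subgroup G)⁆ ⊔ K₀ with hH₁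
      haveI : (⁅H, (⊤ : Subgroup G)⁆).Normal := Subgroup.commutator_normal _ _
      haveI hH₁n : H₁.Normal := Subgroup.sup_normal _ _
      have hH₁le : H₁ ≤ H := sup_le (Subgroup.commutator_le_left _ _) hle
      have hH₁lt : H₁ < H := by
        refine lt_of_le_of_ne hH₁le ?_
        intro heq
        -- then `H ≤ iterC k H ⊔ K₀` for all `k`
        have hall : ∀ k, H ≤ iterC k H ⊔ K₀ := by
          intro k
          induction k with
          | zero => exact le_sup_left
          | succ k ihk =>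
            haveI := iterC_normal k H
            haveI := iterC_normal (k + 1) H
            haveI : (iterC (k + 1) H ⊔ K₀).Normal := Subgroup.sup_normal _ _
            have h1 : ⁅H, (⊤ : Subgroup G)⁆ ≤ iterC (k + 1) H ⊔ K₀ := by
              refine (Subgroup.commutator_mono ihk le_rfl).trans ?_
              apply commutator_sup_le
              · rw [← iterC_succ']; exact le_sup_left
              · exact (Subgroup.commutator_le_left _ _).trans le_sup_right
            calc H = H₁ := heq.symm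
              _ ≤ iterC (k + 1) H ⊔ K₀ := sup_le h1 le_sup_right
        obtain ⟨c, hc⟩ := (Subgroup.isNilpotent_iff_lowerCentralSeries (⊤ : Subgroup G)).1
          (Group.isNilpotent_top.mpr hG.isNilpotent)
        have h2 := hall c
        have h3 : iterC c H = ⊥ := by
          rw [eq_bot_iff, ← hc]
          exact iterC_le_lcs c H
        rw [h3, bot_sup_eq] at h2
        exact hHK h2
      have hK₀H₁ : K₀ ≤ H₁ := le_sup_right
      have hmul := Subgroup.relIndex_mul_relIndex K₀ H₁ H hK₀H₁ hH₁le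
      have hge : p ≤ H₁.relIndex H := le_relIndex_of_lt hG hH₁lt
      have hidx1 : K₀.relIndex H₁ ≤ p ^ s := by
        rw [← hmul, pow_succ] at hidx
        by_contra hcon
        push Not at hcon
        have : p ^ s * p < K₀.relIndex H₁ * H₁.relIndex H :=
          Nat.mul_lt_mul_of_lt_of_le hcon hge (lt_of_lt_of_le hp.pos hge)
        omega
      have h4 := ih H₁ K₀ hK₀H₁ hidx1
      rw [iterC_succ]
      exact (iterC_mono s le_sup_left).trans h4


/-- Let G be a finite p-group and n ≥ 1, and write γ_1(G) = G, γ_{k+1}(G) = [γ_k(G), G], and likewise γ_k(N) for a subgroup N. Let N be a normal subgroup of G contained in γ_n(G). If i > 1 and γ_{i+1}(N) ≠ 1, then |γ_i(N) : γ_{i+1}(N)| ≥ p^n. -/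
theorem result {G : Type*} [Group G] [Finite G] {p : ℕ} [Fact p.Prime] (hG : IsPGroup p G) (n : ℕ) (hn : 1 ≤ n) (N : Subgroup G) [N.Normal] (hN : N ≤ (⊤ : Subgroup G).lowerCentralSeries (n - 1)) (i : ℕ) (hi : 1 < i) (hne : N.lowerCentralSeries i ≠ ⊥) : p ^ n ≤ (N.lowerCentralSeries i).relIndex (N.lowerCentralSeries (i - 1)) := by
  have hp : p.Prime := Fact.out
  obtain ⟨j, rfl⟩ : ∃ j, i = j + 1 := ⟨i - 1, by omega⟩
  obtain ⟨m, rfl⟩ : ∃ m, n = m + 1 := ⟨n - 1, by omega⟩
  simp only [Nat.add_sub_cancel] at hN ⊢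
  set H := N.lowerCentralSeries j with hH
  set K := N.lowerCentralSeries (j + 1) with hK
  have hKH : K = ⁅H, N⁆ := Subgroup.lowerCentralSeries_succ N j
  haveI hHn : H.Normal := lowerCentralSeries_normal N j
  haveI hKn : K.Normal := lowerCentralSeries_normal N (j + 1)
  have hKleH : K ≤ H := by rw [hKH]; exact Subgroup.commutator_le_left _ _
  by_contra hcon
  push Not at hcon
  -- the index is a power of `p`
  obtain ⟨r, hr⟩ : ∃ r, K.relIndex H = p ^ r := by
    have h1 : K.relIndex H ∣ Nat.card H := Subgroup.relIndex_dvd_card K H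
    obtain ⟨e, he⟩ := (IsPGroup.iff_card.mp (hG.to_subgroup H))
    rw [he] at h1
    obtain ⟨r, -, hr⟩ := (Nat.dvd_prime_pow hp).mp h1
    exact ⟨r, hr⟩
  have hrn : r < m + 1 := by
    rw [hr] at hcon
    exact (Nat.pow_lt_pow_iff_right hp.one_lt).mp hcon
  -- a normal subgroup of index `p` in `K`
  obtain ⟨e, he⟩ := (IsPGroup.iff_card.mp (hG.to_subgroup K))
  have he0 : e ≠ 0 := by
    rintro rfl
    rw [pow_zero] at he
    exact hne (Subgroup.card_eq_one.mp he)
  obtain ⟨e', rfl⟩ : ∃ e', e = e' + 1 := ⟨e - 1, by omega⟩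
  obtain ⟨K₀, hK₀K, hK₀n, hK₀c⟩ := exists_normal_le_card_eq_pow hG K (k := e')
    (by rw [he]; exact pow_dvd_pow p (by omega))
  haveI := hK₀n
  have hK₀idx : K₀.relIndex K = p := by
    have h1 := card_mul_relIndex hK₀K
    rw [hK₀c, he, pow_succ] at h1
    exact Nat.eq_of_mul_eq_mul_left (pow_pos hp.pos e') h1
  have hidx : K₀.relIndex H ≤ p ^ (m + 1) := by
    rw [← Subgroup.relIndex_mul_relIndex K₀ K H hK₀K hKleH, hK₀idx, hr, ← pow_succ']
    exact Nat.pow_le_pow_right hp.pos (by omega)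
  have h1 := iterC_le_of_relIndex_le hG (m + 1) H K₀ (hK₀K.trans hKleH) hidx
  have h2 := commutator_lcs_le m H
  have h3 : K ≤ K₀ := by
    rw [hKH]
    exact (Subgroup.commutator_mono le_rfl hN).trans (h2.trans h1)
  have h4 : K₀.relIndex K = 1 := Subgroup.relIndex_eq_one.mpr h3
  rw [hK₀idx] at h4
  exact hp.one_lt.ne' h4

end Cfsg.Agent.S3781
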