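import Cfsg.Statements.S5365
import Cfsg.Agent.Lib.Helper2.TTLocC

set_option autoImplicit false
open Cfsg

namespace Cfsg.Agent.S5365

open Cfsg.Agent.Lib.Helper2.TTLoc

/-- Let D be a non-empty conjugation-invariant set of involutions of a finite group G satisfying the 3-transposition order conditions, and suppose that for every d in D the members of D other than d commuting with d generate a subgroup isomorphic to the symmetric group of degree 3, and the largest normal 3-subgroup of the centralizer of d has order 3. Then the subgroup generated by D is isomorphic to the symmetric group of degree 5 or to the direct product of two symmetric groups of degree 3. -/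
theorem result {G : Type*} [Group G] [Finite G] {D : Set G} (hD : Cfsg.IsThreeTranspositionSet D) (hconj : ∀ g : G, ∀ d ∈ D, g * d * g⁻¹ ∈ D) (hne : D.Nonempty) (hloc : ∀ d ∈ D, Nonempty (↥(Subgroup.closure {y : G | y ∈ D ∧ y ≠ d ∧ Commute d y}) ≃* Equiv.Perm (Fin 3)) ∧ Nat.card (Cfsg.pCore 3 ↥(Subgroup.centralizer ({d} : Set G))) = 3) : Nonempty (↥(Subgroup.closure D) ≃* Equiv.Perm (Fin 5)) ∨ Nonempty (↥(Subgroup.closure D) ≃* Equiv.Perm (Fin 3) × Equiv.Perm (Fin 3)) := by
  have hloc1 : ∀ d ∈ D, Nonempty (↥(Subgroup.closure (Nb D d)) ≃* Equiv.Perm (Fin 3)) :=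
    fun d hd => (hloc d hd).1
  have h : TL D := tl_of_hyp hD hconj hloc1
  by_cases hall : ∀ x ∈ D, KP D x
  · right
    obtain ⟨d, hd⟩ := hne
    obtain ⟨X, Y, k, hdX⟩ := h.blk_of_KP hd (hall d hd)
    have hsub := main2 h hall (fun d hd => (hloc d hd).2) k hdX
    have hXY : D = X ∪ Y := Set.Subset.antisymm hsub (Set.union_subset k.subX k.subY)
    obtain ⟨e, -, he, -, -⟩ := h.two d hd
    have heY : e ∈ Y := by rw [← k.nbX d hdX]; exact he
    obtain ⟨eY⟩ := hloc1 d hd
    obtain ⟨eX⟩ := hloc1 e he.1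
    rw [k.nbX d hdX] at eY
    rw [k.nbY e heY] at eX
    exact iso_of_blk h k hXY eY eX
  · left
    push_neg at hall
    obtain ⟨d, hd, hnK⟩ := hall
    obtain ⟨B, hB, hdB, ⟨iso⟩⟩ := s5_of_not_KP h hd hnK
    have hsub := h.eq_of_closed_of_not_KP hB hdB hnK
    have hDB : D = B := Set.Subset.antisymm hsub hB.1
    rw [hDB]
    exact ⟨iso⟩

end Cfsg.Agent.S5365
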