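import Cfsg.Statements.S2946
import Cfsg.Agent.Lib.Helper3.JC5

set_option autoImplicit false
open Cfsg

namespace Cfsg.Agent.S2946

/-- Let G be a finite group of characteristic 2 type in which every 2-local subgroup is solvable and the centralizer of Ω₁(Z(S)) lies in N_G(S) for every Sylow 2-subgroup S, and let T be a nontrivial 2-subgroup (below, J is the Thompson subgroup generated by the elementary abelian 2-subgroups of largest order), K a J(T)-component and Z₀ = Ω₁(Z(J(T))). Then Z₀ meets W_K = [Ω₁(Z(O₂(K))), K] in a subgroup of order 2, and Z₀ is the product of Z₀ ∩ Z(⟨K, J(T)⟩) and Z₀ ∩ W_K. -/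
theorem result {G : Type*} [Group G] [Finite G] (hL : Cfsg.IsCharacteristicTwoType G) (hN : ∀ N : Subgroup G, Cfsg.IsTwoLocal N → Group.IsSolvable ↥N)
    (hZ : ∀ S : Sylow 2 G, Subgroup.centralizer (Cfsg.omegaCenterOf (S : Subgroup G) : Set G) ≤ Subgroup.normalizer ((S : Subgroup G) : Set G)) (T : Subgroup G) (hT : IsPGroup 2 ↥T) (hT1 : T ≠ ⊥) (K : Subgroup G) (hK : Cfsg.IsJComponent T K)
    (Z₀ : Subgroup G) (hZ₀ : Z₀ = Cfsg.omegaCenterOf (Cfsg.thompsonSubgroupOf 2 T)) :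
    Nat.card ↥(Z₀ ⊓ Cfsg.wOf K) = 2 ∧
      (Z₀ ⊓ ((K ⊔ Cfsg.thompsonSubgroupOf 2 T) ⊓ Subgroup.centralizer ((K ⊔ Cfsg.thompsonSubgroupOf 2 T) : Set G))) ⊔ (Z₀ ⊓ Cfsg.wOf K) = Z₀ := by
  classical
  obtain ⟨-, hK2, hK3, hK4, hK5, hK6⟩ := hK
  have hJT : Cfsg.thompsonSubgroupOf 2 T ≤ T :=
    Cfsg.Agent.Lib.Helper1.thompsonSubgroupOf_le_self 2 T
  have hJ2 : IsPGroup 2 ↥(Cfsg.thompsonSubgroupOf 2 T) := hT.to_le hJT
  obtain ⟨S, hS, hJS⟩ := Cfsg.Agent.Lib.Helper3.JC.exists_isSylowTwoIn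
    (le_sup_right : Cfsg.thompsonSubgroupOf 2 T ≤ K ⊔ Cfsg.thompsonSubgroupOf 2 T) hJ2
  have hJS' := hK4 S hS hJS
  have kd : Cfsg.Agent.Lib.Helper3.JC.KData K (Cfsg.thompsonSubgroupOf 2 T) :=
    ⟨hK2, hK3, hK5, hK6, hJ2⟩
  have sd : Cfsg.Agent.Lib.Helper3.JC.SData K (Cfsg.thompsonSubgroupOf 2 T) S :=
    ⟨kd, hS, hJS'⟩
  subst hZ₀
  refine ⟨sd.card_Z0_inf_W, le_antisymm (sup_le inf_le_left inf_le_left) ?_⟩
  intro z hz
  have e : Subgroup.centralizer ((K : Set G) ⊔ (Cfsg.thompsonSubgroupOf 2 T : Set G)) =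
      Subgroup.centralizer ((K ⊔ Cfsg.thompsonSubgroupOf 2 T : Subgroup G) : Set G) := by
    have e1 : ((K : Set G) ⊔ (Cfsg.thompsonSubgroupOf 2 T : Set G)) =
        (K : Set G) ∪ (Cfsg.thompsonSubgroupOf 2 T : Set G) := rfl
    rw [e1, ← Subgroup.centralizer_closure ((K : Set G) ∪ (Cfsg.thompsonSubgroupOf 2 T : Set G)),
      Subgroup.closure_union, Subgroup.closure_eq, Subgroup.closure_eq]
  have h1 := sd.split hz
  rw [← e] at h1
  exact h1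

end Cfsg.Agent.S2946
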