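import Cfsg.Statements.S2947
import Mathlib
import Cfsg.Agent.Lib.Helper1.ThompsonRelative
import Cfsg.Agent.Lib.Helper7.StronglyEmbedded
import Cfsg.Agent.Lib.Helper7.PCore
import Cfsg.Agent.Lib.Lead.StronglyEmbedded

set_option autoImplicit false
open Cfsg

namespace Cfsg.Agent.S2947

/-- Let G be a finite group of characteristic 2 type in which every 2-local subgroup is solvable and the centralizer of Ω₁(Z(S)) lies in N_G(S) for every Sylow 2-subgroup S; suppose O₂(G) = 1, fix a Sylow 2-subgroup S and a 2-local subgroup M containing N_G(J(S)) (J the Thompson subgroup generated by the elementary abelian 2-subgroups of largest order). Then M is strongly embedded in G (a proper subgroup of even order whose intersection with each conjugate by an element outside M has odd order) if and only if no nontrivial 2-subgroup of M lies in a 2-local subgroup of G not contained in M. -/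
theorem result {G : Type*} [Group G] [Finite G] (hL : Cfsg.IsCharacteristicTwoType G) (hN : ∀ N : Subgroup G, Cfsg.IsTwoLocal N → Group.IsSolvable ↥N)
    (hZ : ∀ S : Sylow 2 G, Subgroup.centralizer (Cfsg.omegaCenterOf (S : Subgroup G) : Set G) ≤ Subgroup.normalizer ((S : Subgroup G) : Set G)) (hO : Cfsg.pCore 2 G = ⊥) (S : Sylow 2 G) (M : Subgroup G) (hM : Cfsg.IsTwoLocal M)
    (hMJ : Subgroup.normalizer (Cfsg.thompsonSubgroupOf 2 (S : Subgroup G) : Set G) ≤ M) :
    Cfsg.IsStronglyEmbedded M ↔ Cfsg.straddlingTwoSubgroups M = ∅ := by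
  classical
  haveI : Fact (Nat.Prime 2) := ⟨Nat.prime_two⟩
  obtain ⟨Q₀, hQ₀, hQ₀1, hMQ₀⟩ := hM
  have hQ₀M : Q₀ ≤ M := by rw [hMQ₀]; exact Subgroup.le_normalizer
  have hMtop : M ≠ ⊤ := by
    intro h
    rw [hMQ₀, Subgroup.normalizer_eq_top_iff] at h
    have := Cfsg.Agent.Lib.Helper7.le_pCore h hQ₀
    rw [hO] at this
    exact hQ₀1 (le_bot_iff.1 this)
  have hMeven : 2 ∣ Nat.card M := by
    have h1 : 2 ∣ Nat.card Q₀ := by
      rcases hQ₀.card_eq_or_dvd with h1 | h1
      · exact absurd (Subgroup.card_eq_one.mp h1) hQ₀1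
      · exact h1
    exact h1.trans (Subgroup.card_dvd_of_le hQ₀M)
  constructor
  · -- strongly embedded implies no straddling subgroup
    rintro ⟨-, -, hodd⟩
    have hloc : Cfsg.Agent.Lib.Helper7.NormalizersOfPSubgroupsLE 2 M := by
      apply Cfsg.Agent.Lib.Helper7.local_of_classical
      intro g hg h2
      exact (Nat.not_even_iff_odd.2 (hodd g hg)) (even_iff_two_dvd.2 h2)
    rw [Set.eq_empty_iff_forall_notMem]
    rintro T ⟨hT, hT1, hTM, L, ⟨Q, hQ, hQ1, hLQ⟩, hTL, hLM⟩
    apply hLM
    have hTQ : IsPGroup 2 ↥(T ⊔ Q) := by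
      apply IsPGroup.to_sup_of_normal_right' hT hQ
      rw [← hLQ]; exact hTL
    obtain ⟨P, hP⟩ := hTQ.exists_le_sylow
    have hPM : (P : Subgroup G) ≤ M := by
      apply Cfsg.Agent.Lib.Helper7.sylow_le_of_inf_ne_bot hloc
      intro h0
      apply hT1
      have : T ≤ (P : Subgroup G) ⊓ M := le_inf (le_sup_left.trans hP) hTM
      rw [h0] at this
      exact le_bot_iff.1 this
    rw [hLQ]
    exact hloc Q ((le_sup_right.trans hP).trans hPM) hQ hQ1
  · -- no straddling subgroup implies strongly embedded
    intro hemp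
    refine ⟨hMtop, even_iff_two_dvd.2 hMeven, ?_⟩
    intro g hg
    by_contra hne
    rw [Nat.not_odd_iff_even] at hne
    obtain ⟨s, hsK, hs⟩ := Cfsg.Agent.Lib.Lead.exists_invol_of_even _ hne
    obtain ⟨hsM, hsc⟩ := Subgroup.mem_inf.mp hsK
    have hmem : Subgroup.zpowers s ∈ Cfsg.straddlingTwoSubgroups M := by
      refine ⟨?_, ?_, ?_, M.map (MulAut.conj g).toMonoidHom, ?_, ?_, ?_⟩
      · apply IsPGroup.of_card (n := 1)
        rw [Nat.card_zpowers, hs, pow_one]
      · intro h0
        have : s ∈ (⊥ : Subgroup G) := h0 ▸ Subgroup.mem_zpowers s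
        rw [Subgroup.mem_bot] at this
        rw [this, orderOf_one] at hs
        omega
      · rw [Subgroup.zpowers_le]; exact hsM
      · refine ⟨Q₀.map (MulAut.conj g).toMonoidHom, hQ₀.map _, ?_, ?_⟩
        · rw [Ne, Subgroup.map_eq_bot_iff_of_injective _ (MulAut.conj g).injective]
          exact hQ₀1
        · rw [hMQ₀]
          have := Subgroup.map_equiv_normalizer_eq Q₀ (MulAut.conj g)
          exact this
      · rw [Subgroup.zpowers_le]; exact hsc
      · intro hle
        -- then `g` normalizes `M`
        have heq : M.map (MulAut.conj g).toMonoidHom = M :=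
          Subgroup.eq_of_le_of_card_ge hle
            (Subgroup.card_map_of_injective (MulAut.conj g).injective).ge
        have hSM : (S : Subgroup G) ≤ M := by
          refine le_trans Subgroup.le_normalizer (le_trans ?_ hMJ)
          exact Cfsg.Agent.Lib.Helper1.normalizer_le_normalizer_thompsonSubgroupOf
            (Cfsg.Agent.Lib.Helper1.thompsonSubgroupOf_le_self 2 _) le_rfl
        have hNS : Subgroup.normalizer ((S : Subgroup G) : Set G) ≤ M :=
          le_trans (Cfsg.Agent.Lib.Helper1.normalizer_le_normalizer_thompsonSubgroupOf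
            (Cfsg.Agent.Lib.Helper1.thompsonSubgroupOf_le_self 2 _) le_rfl) hMJ
        -- `S^g ≤ M`
        have hSg : ((g • S : Sylow 2 G) : Subgroup G) ≤ M := by
          rw [Cfsg.Agent.Lib.Helper7.sylow_smul_coe_eq_map, ← heq]
          exact Subgroup.map_mono hSM
        -- conjugate inside `M`
        obtain ⟨m, hm⟩ := MulAction.exists_smul_eq M ((g • S).subtype hSg) (S.subtype hSM)
        have h1 : (m : G) • (g • S) = S := by
          have h2 := congrArg (fun P : Sylow 2 M => (P : Subgroup M).map M.subtype) hm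
          rw [Sylow.smul_subtype, Sylow.coe_subtype, Sylow.coe_subtype,
            Subgroup.subgroupOf_map_subtype, Subgroup.subgroupOf_map_subtype,
            inf_eq_left.2 hSM, inf_eq_left.2 (Sylow.smul_le hSg m)] at h2
          exact Sylow.ext h2
        rw [← mul_smul, Sylow.smul_eq_iff_mem_normalizer] at h1
        have h3 : (m : G) * g ∈ M := hNS h1
        apply hg
        have : g = (m : G)⁻¹ * ((m : G) * g) := by group
        rw [this]
        exact M.mul_mem (M.inv_mem m.2) h3
    rw [hemp] at hmem
    exact hmem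

end Cfsg.Agent.S2947
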