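import Cfsg.Statements.S0432
import Cfsg.Agent.Lib.Helper4.Leech

set_option autoImplicit false
open Cfsg

namespace Cfsg.Agent.S0432

open Cfsg.Agent.Lib.Helper4.Leech Cfsg.Agent.Lib.Helper9.Golay1
open scoped Pointwise

theorem smul_mem_supports (σ : Equiv.Perm Cfsg.GolayPt) (hσ : σ ∈ Cfsg.M24)
    (s : Finset GolayPt) (hs : s ∈ supports (golayCode : Set (GolayPt → ZMod 2))) :
    σ • s ∈ supports (golayCode : Set (GolayPt → ZMod 2)) := by
  have h := MulAction.mem_stabilizer_iff.mp hσ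
  have h2 : σ • s ∈ σ • supports (golayCode : Set (GolayPt → ZMod 2)) :=
    Set.smul_mem_smul_set hs
  rw [h] at h2
  exact h2

/-- Coordinate permutations from the code's group preserve the lattice. -/
theorem result (σ : Equiv.Perm Cfsg.GolayPt) (hσ : σ ∈ Cfsg.M24) (x : Cfsg.GolayPt → ℤ) (hx : x ∈ Cfsg.leechLattice) : (fun i => x (σ i)) ∈ Cfsg.leechLattice := by
  rw [mem_leechLattice_iff] at *
  obtain ⟨m, h1, h2, h3⟩ := hx
  refine ⟨m, fun i => h1 (σ i), ?_, fun k => ?_⟩
  · rw [Equiv.sum_comp σ x]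
    exact h2
  · have h4 := smul_mem_supports σ⁻¹ (inv_mem hσ) _ (h3 k)
    convert h4 using 1
    ext i
    rw [Finset.mem_inv_smul_finset_iff]
    simp

end Cfsg.Agent.S0432
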