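import Cfsg.Statements.S0433
import Cfsg.Agent.Lib.Helper4.Leech2

set_option autoImplicit false
open Cfsg

namespace Cfsg.Agent.S0433

open Cfsg.Agent.Lib.Helper4.Leech Cfsg.Agent.Lib.Helper4.Leech2 Cfsg.Agent.Lib.Helper9.Golay1

/-- the sum over a codeword of a lattice vector's coordinates is divisible by 4 -/
theorem sum_on_codeword (c : Finset GolayPt) (hc : ind c ∈ golayCode) (x : GolayPt → ℤ) (m : ℤ)
    (h1 : ∀ i, x i ≡ m [ZMOD 2]) (h3 : ∀ k : ℤ, ind (lev x k) ∈ golayCode) :
    ∑ i ∈ c, x i ≡ 0 [ZMOD 4] := by
  by_cases hm : m % 2 = 0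
  · have hp : ∀ i ∈ c, x i ≡ (if i ∈ lev x 2 then 2 else 0) [ZMOD 4] := by
      intro i _
      have := h1 i
      by_cases hi : i ∈ lev x 2
      · rw [if_pos hi]; exact mem_lev.mp hi
      · rw [if_neg hi]
        rw [mem_lev] at hi
        unfold Int.ModEq at *
        omega
    refine (Int.ModEq.sum hp).trans ?_
    rw [sum_ite_mem_const]
    obtain ⟨t, ht⟩ := inter_even c (lev x 2) hc (h3 2)
    rw [ht]
    unfold Int.ModEq
    push_cast
    omega
  · have hp : ∀ i ∈ c, x i ≡ (if i ∈ lev x 1 then 1 else 3) [ZMOD 4] := by
      intro i _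
      have := h1 i
      by_cases hi : i ∈ lev x 1
      · rw [if_pos hi]; exact mem_lev.mp hi
      · rw [if_neg hi]
        rw [mem_lev] at hi
        unfold Int.ModEq at *
        omega
    refine (Int.ModEq.sum hp).trans ?_
    rw [sum_ite_mem_const]
    obtain ⟨t, ht⟩ := inter_even c (lev x 1) hc (h3 1)
    obtain ⟨u, hu⟩ := card_dvd4 c hc
    have h4 := Finset.card_inter_add_card_sdiff c (lev x 1)
    have h5 : (c \ lev x 1).card = 4 * u - 2 * t := by omega
    have h6 : 2 * t ≤ 4 * u := by omega
    rw [ht, h5]
    unfold Int.ModEq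
    push_cast [h6]
    omega

/-- Sign changes on the support of a codeword preserve the lattice. -/
theorem result (c : Finset Cfsg.GolayPt) (hc : c ∈ Cfsg.supports (Cfsg.golayCode : Set (Cfsg.GolayPt → ZMod 2))) (x : Cfsg.GolayPt → ℤ) (hx : x ∈ Cfsg.leechLattice) : (fun i => if i ∈ c then -x i else x i) ∈ Cfsg.leechLattice := by
  rw [mem_leechLattice_iff] at *
  rw [mem_supports_iff] at hc
  rw [mem_leechSet_iff] at *
  obtain ⟨m, h1, h2, h3⟩ := hx
  have key := sum_on_codeword c hc x m h1 h3
  have hsum : ∑ i, (if i ∈ c then -x i else x i) = ∑ i, x i - 2 * ∑ i ∈ c, x i := by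
    have : ∀ i, (if i ∈ c then -x i else x i) = x i - (if i ∈ c then 2 * x i else 0) := by
      intro i; split_ifs <;> ring
    simp only [this, Finset.sum_sub_distrib]
    congr 1
    rw [Finset.sum_ite_mem, Finset.univ_inter, Finset.mul_sum]
  refine ⟨m, fun i => ?_, ?_, fun k => ?_⟩
  · have := h1 i
    show (if i ∈ c then -x i else x i) ≡ m [ZMOD 2]
    split_ifs
    · unfold Int.ModEq at *; omega
    · exact this
  · rw [hsum]
    unfold Int.ModEq at *
    omega
  · by_cases hm : m % 2 = 0
    · have : lev (fun i => if i ∈ c then -x i else x i) k = lev x k := by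
        ext i
        have := h1 i
        simp only [mem_lev]
        split_ifs
        · unfold Int.ModEq at *; omega
        · rfl
      rw [this]; exact h3 k
    · by_cases hk : k % 2 = 0
      · have : lev (fun i => if i ∈ c then -x i else x i) k = ∅ := by
          ext i
          have := h1 i
          simp only [mem_lev, Finset.notMem_empty, iff_false]
          split_ifs
          · unfold Int.ModEq at *; omega
          · unfold Int.ModEq at *; omega
        rw [this, ind_empty]; exact golayCode.zero_mem
      · have : ind (lev (fun i => if i ∈ c then -x i else x i) k) = ind c + ind (lev x k) := by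
          ext i
          have := h1 i
          simp only [ind, mem_lev, Pi.add_apply]
          unfold Int.ModEq at *
          by_cases hi : i ∈ c
          · simp only [hi, if_true]
            by_cases c1 : -x i % 4 = k % 4 <;> by_cases c2 : x i % 4 = k % 4 <;>
              simp only [c1, c2, if_true, if_false] <;> first | decide | (exfalso; omega)
          · simp only [hi, if_false, zero_add]
            rfl
        rw [this]
        exact golayCode.add_mem hc (h3 k)

end Cfsg.Agent.S0433
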