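import Cfsg.Statements.S5425
import Cfsg.Agent.Lib.Helper9.OctC

set_option autoImplicit false
open Cfsg

namespace Cfsg.Agent.S5425

/-- In the Mathieu group of degree 24 (the automorphism group of the length-24 binary Golay code, acting on the 24 coordinates), let z be an involution whose fixed points form an octad (the support of a code word of weight 8), and let Q be the largest normal 2-subgroup of the centralizer C of z. Then Q is extraspecial of order 2^7 with an elementary abelian subgroup of order 16 (plus type), Q is a large extraspecial 2-subgroup, and C is the split extension of Q by the special linear group of degree 3 over the field with two elements. -/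
theorem result (z : ↥Cfsg.M24) (hz : orderOf z = 2) (hfix : (Finset.univ.filter fun p : Cfsg.GolayPt => (z : Equiv.Perm Cfsg.GolayPt) p = p) ∈ Cfsg.octads) (Q : Subgroup ↥Cfsg.M24) (hQ : Q = (Cfsg.pCore 2 ↥(Subgroup.centralizer ({z} : Set ↥Cfsg.M24))).map (Subgroup.centralizer ({z} : Set ↥Cfsg.M24)).subtype) : Cfsg.IsExtraspecial 2 ↥Q ∧ Nat.card ↥Q = 2 ^ 7 ∧ (∃ E : Subgroup ↥Cfsg.M24, E ≤ Q ∧ Cfsg.IsElementaryAbelian 2 E ∧ Nat.card ↥E = 2 ^ 4) ∧ Cfsg.IsLargeExtraspecial Q ∧ ∃ K : Subgroup ↥Cfsg.M24, K ≤ Subgroup.centralizer ({z} : Set ↥Cfsg.M24) ∧ Q ⊓ K = ⊥ ∧ Q ⊔ K = Subgroup.centralizer ({z} : Set ↥Cfsg.M24) ∧ Nonempty (↥K ≃* Matrix.SpecialLinearGroup (Fin 3) (ZMod 2)) := by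
  obtain ⟨u, hu⟩ := Cfsg.Agent.Lib.Helper9.Oct.exists_conj_z0 z hz hfix
  have hz1 : z ≠ 1 := by
    rintro rfl
    rw [orderOf_one] at hz
    omega
  obtain ⟨g0, hg0⟩ := Cfsg.Agent.Lib.Helper9.Oct.exists_conj_w0
  have hw := Cfsg.Agent.Lib.Helper9.Oct.w0_mem_pCore
  rw [Cfsg.Agent.Lib.Helper7.TvAff.pCore_range_map Cfsg.Agent.Lib.Helper9.Oct.psi0
    Cfsg.Agent.Lib.Helper9.Oct.psi0_injective Cfsg.Agent.Lib.Helper9.Oct.psi0_range] at hw
  obtain ⟨k, hk, hkw⟩ := hw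
  subst hu
  have e1 : u * g0 * u⁻¹ * (u * Cfsg.Agent.Lib.Helper9.CZ.z0 * u⁻¹) * (u * g0 * u⁻¹)⁻¹ =
      u * (g0 * Cfsg.Agent.Lib.Helper9.CZ.z0 * g0⁻¹) * u⁻¹ := by group
  refine Cfsg.Agent.Lib.Helper9.Oct.transport_main _ hz1 (Cfsg.Agent.Lib.Helper9.Oct.psiU u)
    (Cfsg.Agent.Lib.Helper9.Oct.psiU_injective u) (Cfsg.Agent.Lib.Helper9.Oct.psiU_range u)
    (u * g0 * u⁻¹) ?_ ?_ Q hQ
  · rw [e1, hg0]
    intro h
    apply Cfsg.Agent.Lib.Helper9.Oct.w0_ne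
    have h2 : u⁻¹ * (u * Cfsg.Agent.Lib.Helper9.Oct.w0 * u⁻¹) * u =
        u⁻¹ * (u * Cfsg.Agent.Lib.Helper9.CZ.z0 * u⁻¹) * u := by rw [h]
    have e2 : ∀ x : ↥Cfsg.M24, u⁻¹ * (u * x * u⁻¹) * u = x := fun x => by group
    rw [e2, e2] at h2
    exact h2
  · rw [e1, hg0, ← hkw]
    exact ⟨k, hk, rfl⟩

end Cfsg.Agent.S5425
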