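import Mathlib
import Cfsg.Agent.Lib.Helper5.DicksonMax2
import Cfsg.Agent.Lib.Helper5.DicksonMinSimple
import Cfsg.Agent.S0804
import Cfsg.Statements.S5939

set_option autoImplicit false
open Cfsg Cfsg.Agent.Lib.Helper5.DicksonMax Cfsg.Agent.Lib.Helper5.DicksonMain Cfsg.Agent.Lib.Helper5.DicksonOrders

namespace Cfsg.Agent.S5939

/-- Let p be a prime and F a finite field of characteristic p such that either F has p elements and p ≡ ±1 (mod 10), or F has p² elements and p ≡ ±3 (mod 10). Then PSL_2(F) has a maximal subgroup isomorphic to the alternating group A_5. -/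
theorem result {F : Type*} [Field F] [Fintype F] (p : ℕ) [Fact p.Prime] [CharP F p] (h : (Fintype.card F = p ∧ (p % 10 = 1 ∨ p % 10 = 9)) ∨ (Fintype.card F = p ^ 2 ∧ (p % 10 = 3 ∨ p % 10 = 7))) : ∃ H : Subgroup (Matrix.ProjectiveSpecialLinearGroup (Fin 2) F), IsCoatom H ∧ Nonempty (H ≃* alternatingGroup (Fin 5)) := by
  classical
  have hpp : p.Prime := Fact.out
  have hp2 : p % 2 = 1 := by omega
  have hp3 : 3 ≤ p := by
    have := hpp.two_le
    omega
  set q := Fintype.card F with hq
  -- the basic facts in both cases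
  have hbasic : q % 2 = 1 ∧ 9 ≤ q ∧ q ^ 2 % 5 = 1 ∧
      (∀ q₀ m : ℕ, 2 ≤ q₀ → q₀ ^ m = q → q₀ = q ∨ (q₀ = p ∧ ¬ 5 ∣ p * ((p - 1) * (p + 1)))) := by
    rcases h with ⟨h1, h2⟩ | ⟨h1, h2⟩
    · have hp9 : p ≠ 9 := by
        rintro rfl
        exact absurd hpp (by norm_num)
      have hp1 : p ≠ 1 := hpp.ne_one
      refine ⟨by omega, by omega, ?_, ?_⟩
      · rw [h1, Nat.pow_mod]
        have : p % 5 = 1 ∨ p % 5 = 4 := by omega
        rcases this with h | h <;> rw [h]
      · intro q₀ m hq₀ hm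
        left
        rw [h1] at hm ⊢
        have hm0 : m ≠ 0 := by
          rintro rfl
          rw [pow_zero] at hm
          omega
        have : q₀ ∣ p := hm ▸ dvd_pow_self q₀ hm0
        rcases (Nat.dvd_prime hpp).mp this with h3 | h3
        · omega
        · exact h3
    · have hq9 : 9 ≤ p ^ 2 := by nlinarith
      refine ⟨?_, by omega, ?_, ?_⟩
      · rw [h1, Nat.pow_mod, hp2]
      · rw [h1, ← pow_mul, Nat.pow_mod]
        have : p % 5 = 3 ∨ p % 5 = 2 := by omega
        rcases this with h | h <;> rw [h]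
      · intro q₀ m hq₀ hm
        rw [h1] at hm ⊢
        have hm0 : m ≠ 0 := by
          rintro rfl
          rw [pow_zero] at hm
          omega
        have : q₀ ∣ p ^ 2 := hm ▸ dvd_pow_self q₀ hm0
        obtain ⟨k, hk, rfl⟩ := (Nat.dvd_prime_pow hpp).mp this
        interval_cases k
        · rw [pow_zero] at hq₀
          omega
        · right
          refine ⟨pow_one p, ?_⟩
          intro hd
          rcases (Nat.Prime.dvd_mul Nat.prime_five).mp hd with h3 | h3
          · omega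
          · rcases (Nat.Prime.dvd_mul Nat.prime_five).mp h3 with h4 | h4 <;> omega
        · left; rfl
  obtain ⟨hq2, hq9, hq5, hsub⟩ := hbasic
  have hq1 : 1 ≤ q ^ 2 := Nat.one_le_pow _ _ (by omega)
  obtain ⟨H₀, ⟨e⟩⟩ := (Cfsg.Agent.S0804.result (F := F) (q := q) rfl).mpr
    (Dvd.dvd.mul_left (by omega) _)
  have hc0 : Nat.card H₀ = 60 := by rw [Nat.card_congr e.toEquiv, card_A5]
  have hG := card_PSL2_mul (F := F)
  rw [← hq, gcd_two_of_odd hq2] at hG
  have hG168 : 360 ≤ Nat.card (Matrix.ProjectiveSpecialLinearGroup (Fin 2) F) := by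
    have h1 : 9 * ((9 - 1) * (9 + 1)) ≤ q * ((q - 1) * (q + 1)) :=
      Nat.mul_le_mul hq9 (Nat.mul_le_mul (by omega) (by omega))
    omega
  refine ⟨H₀, ?_, ⟨e⟩⟩
  apply isCoatom_of_card
  · intro h
    rw [← Subgroup.card_eq_iff_eq_top] at h
    omega
  · intro H hle hne
    rw [hc0]
    have hdvd : 60 ∣ Nat.card H := hc0 ▸ Subgroup.card_dvd_of_le hle
    obtain ⟨f, hf⟩ := exists_embedding e hle
    rcases dickson p H with h | h | ⟨⟨e'⟩⟩ | ⟨⟨e'⟩⟩ | ⟨⟨e'⟩⟩ | h
    · exact absurd h (not_cycDih_of_not_isSolvable H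
        Cfsg.Agent.Lib.Helper5.DicksonMinSimple.not_isSolvable_A5 f hf)
    · exact absurd h (not_inBorel_of_not_isSolvable p H
        Cfsg.Agent.Lib.Helper5.DicksonMinSimple.not_isSolvable_A5 f hf)
    · rw [Nat.card_congr e'.toEquiv, card_A4] at hdvd; omega
    · rw [Nat.card_congr e'.toEquiv, card_S4] at hdvd; omega
    · rw [Nat.card_congr e'.toEquiv, card_A5]
    · exfalso
      obtain ⟨q₀, m, hq₀, hm, hcard⟩ := card_of_subfieldCase H h
      rcases hsub q₀ m hq₀ hm with rfl | ⟨rfl, h5⟩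
      · rcases hcard with h1 | ⟨h1, -⟩
        · exact hne (eq_top_of_card H h1)
        · have := two_mul_card_le H hne
          omega
      · apply h5
        rcases hcard with h1 | ⟨h1, -⟩
        · rw [← h1]
          exact Dvd.dvd.mul_left (by omega) _
        · rw [← h1]
          omega

end Cfsg.Agent.S5939
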