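import Cfsg.Statements.S3734
import Cfsg.Agent.Lib.Helper2.CoprimeGen
import Cfsg.Agent.Lib.Helper2.ThompsonOdd

set_option autoImplicit false
open Cfsg

namespace Cfsg.Agent.S3734
open Cfsg.Agent.Lib.Helper2 Cfsg.Agent.Lib.Helper1
open scoped commutatorElement

theorem centralizer_zpowers_eq {X : Type*} [Group X] (g : X) :
    Subgroup.centralizer ((Subgroup.zpowers g : Subgroup X) : Set X) = Subgroup.centralizer {g} := by
  rw [Subgroup.zpowers_eq_closure, Subgroup.centralizer_closure]

/-- the generation statement, in inductive form -/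
theorem gen_aux {X : Type*} [Group X] [Finite X] (A G : Subgroup X) [hAab : IsMulCommutative A]
    (hcop : (Nat.card A).Coprime (Nat.card G)) (S : Subgroup X)
    (hS : ∀ B : Subgroup X, B ≤ A → (∃ a ∈ A, B ⊔ Subgroup.zpowers a = A) →
      G ⊓ Subgroup.centralizer (B : Set X) ≤ S) :
    ∀ n : ℕ, ∀ D : Subgroup X, D ≤ A → Nat.card A - Nat.card D = n →
      ∀ H : Subgroup X, H ≤ G → A ≤ Subgroup.normalizer (H : Set X) →
        D ≤ Subgroup.centralizer (H : Set X) → H ≤ S := by
  have hAcomm : ∀ a ∈ A, ∀ b ∈ A, a * b = b * a := fun a ha b hb =>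
    congrArg Subtype.val (hAab.is_comm.comm (⟨a, ha⟩ : A) ⟨b, hb⟩)
  intro n
  induction n using Nat.strong_induction_on with
  | _ n ih =>
    intro D hDA hn H hHG hAH hDH
    by_cases hcyc : ∃ a ∈ A, D ⊔ Subgroup.zpowers a = A
    · refine le_trans ?_ (hS D hDA hcyc)
      refine le_inf hHG ?_
      intro h hh
      rw [Subgroup.mem_centralizer_iff]
      intro d hd
      exact (Subgroup.mem_centralizer_iff.1 (hDH hd) h hh).symm
    · obtain ⟨r, hr, x, hxA, y, hyA, hxr, hyr, hxD, hxyD⟩ := exists_noncyclic_pair A D hDA hcyc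
      haveI : Fact r.Prime := ⟨hr⟩
      have hcopH : (Nat.card A).Coprime (Nat.card H) :=
        Nat.Coprime.coprime_dvd_right (Subgroup.card_dvd_of_le hHG) hcop
      -- r divides |A|
      have hrA : r ∣ Nat.card A := by
        have h1 : r ∣ orderOf x := by
          by_contra hnd
          have hc : r.Coprime (orderOf x) := (Nat.Prime.coprime_iff_not_dvd hr).2 hnd
          obtain ⟨m, hm⟩ := exists_pow_eq_self_of_coprime hc
          apply hxD
          rw [← hm]
          exact D.pow_mem hxr m
        have h2 : orderOf x ∣ Nat.card A := by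
          have := orderOf_dvd_natCard (⟨x, hxA⟩ : A)
          rwa [Subgroup.orderOf_mk] at this
        exact h1.trans h2
      have hrH : (Nat.card H).Coprime r :=
        (Nat.Coprime.coprime_dvd_left hrA hcopH).symm
      -- the inductive step for an element g ∈ A ∖ D
      have hstep : ∀ g ∈ A, g ∉ D → H ⊓ Subgroup.centralizer {g} ≤ S := by
        intro g hgA hgD
        set D' := D ⊔ Subgroup.zpowers g with hD'
        have hD'A : D' ≤ A := sup_le hDA (by rw [Subgroup.zpowers_le]; exact hgA)
        have hlt : Nat.card D < Nat.card D' := by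
          have hle : D ≤ D' := le_sup_left
          rcases (Subgroup.card_le_of_le hle).lt_or_eq with h1 | h1
          · exact h1
          · exfalso
            have := Subgroup.eq_of_le_of_card_ge hle h1.ge
            apply hgD
            rw [this]
            exact (le_sup_right : Subgroup.zpowers g ≤ D') (Subgroup.mem_zpowers g)
        have hle' : Nat.card D' ≤ Nat.card A := Subgroup.card_le_of_le hD'A
        have hn' : Nat.card A - Nat.card D' < n := by omega
        refine ih _ hn' D' hD'A rfl (H ⊓ Subgroup.centralizer {g}) (inf_le_left.trans hHG) ?_ ?_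
        · apply le_normalizer_inf hAH
          rw [← centralizer_zpowers_eq]
          apply le_normalizer_centralizer_of_le_normalizer
          intro a ha
          have : a ∈ Subgroup.centralizer ((Subgroup.zpowers g : Subgroup X) : Set X) := by
            rw [centralizer_zpowers_eq, Subgroup.mem_centralizer_singleton_iff]
            exact hAcomm a ha g hgA
          exact Subgroup.centralizer_le_normalizer _ this
        · apply sup_le
          · exact hDH.trans (Subgroup.centralizer_le inf_le_left)
          · rw [Subgroup.zpowers_le, Subgroup.mem_centralizer_iff]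
            intro h hh
            exact (Subgroup.mem_centralizer_singleton_iff.1 hh.2)
      exact gen_general A H hAH hcopH hrH x y hxA hyA (hDH hxr) (hDH hyr) S
        (hstep x hxA hxD) (fun j => hstep _ (A.mul_mem (A.pow_mem hxA j) hyA) (hxyD j))

/-- Let A and G be subgroups of a finite group with A abelian, A normalizing G and the orders of A and G coprime. Then G is generated by the fixed-point subgroups C_G(B) of those subgroups B of A for which A/B is cyclic (that is, A = ⟨B, a⟩ for some a), and [G, A] is generated by the commutator subgroups [C_G(B), A] over the same subgroups B. -/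
theorem result {X : Type*} [Group X] [Finite X] (A G : Subgroup X) (hAab : IsMulCommutative A) (hAG : A ≤ Subgroup.normalizer (G : Set X)) (hcop : (Nat.card A).Coprime (Nat.card G)) : (⨆ B ∈ {B : Subgroup X | B ≤ A ∧ ∃ a ∈ A, B ⊔ Subgroup.zpowers a = A}, G ⊓ Subgroup.centralizer (B : Set X)) = G ∧ (⨆ B ∈ {B : Subgroup X | B ≤ A ∧ ∃ a ∈ A, B ⊔ Subgroup.zpowers a = A}, ⁅G ⊓ Subgroup.centralizer (B : Set X), A⁆) = ⁅G, A⁆ := by
  haveI := hAab
  have hAcomm : ∀ a ∈ A, ∀ b ∈ A, a * b = b * a := fun a ha b hb =>
    congrArg Subtype.val (hAab.is_comm.comm (⟨a, ha⟩ : A) ⟨b, hb⟩)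
  set 𝓑 : Set (Subgroup X) := {B : Subgroup X | B ≤ A ∧ ∃ a ∈ A, B ⊔ Subgroup.zpowers a = A}
    with h𝓑
  -- part 1
  have h1 : (⨆ B ∈ 𝓑, G ⊓ Subgroup.centralizer (B : Set X)) = G := by
    apply le_antisymm
    · exact iSup₂_le fun B _ => inf_le_left
    · refine gen_aux A G hcop _ ?_ _ ⊥ bot_le rfl G le_rfl hAG ?_
      · intro B hBA hB
        exact le_iSup₂_of_le B ⟨hBA, hB⟩ le_rfl
      · exact bot_le
  refine ⟨h1, ?_⟩
  -- part 2
  set K : Subgroup X := ⨆ B ∈ 𝓑, ⁅G ⊓ Subgroup.centralizer (B : Set X), A⁆ with hK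
  apply le_antisymm
  · exact iSup₂_le fun B _ => Subgroup.commutator_mono inf_le_left le_rfl
  -- A normalizes each G_B
  have hAB : ∀ B ∈ 𝓑, A ≤ Subgroup.normalizer
      ((G ⊓ Subgroup.centralizer (B : Set X) : Subgroup X) : Set X) := by
    intro B hB
    apply le_normalizer_inf hAG
    apply le_normalizer_centralizer_of_le_normalizer
    intro a ha
    have : a ∈ Subgroup.centralizer (B : Set X) := by
      rw [Subgroup.mem_centralizer_iff]
      intro b hb
      exact hAcomm b (hB.1 hb) a ha
    exact Subgroup.centralizer_le_normalizer _ this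
  have hsolv : Group.IsSolvable A := by
    letI : CommGroup A := { (inferInstance : Group A) with mul_comm := fun a b => mul_comm' a b }
    infer_instance
  set C : Subgroup X := G ⊓ Subgroup.centralizer (A : Set X) with hC
  -- each G_B ≤ K ⊔ C
  have hGB : ∀ B ∈ 𝓑, G ⊓ Subgroup.centralizer (B : Set X) ≤ K ⊔ C := by
    intro B hB
    have hcopB : (Nat.card A).Coprime (Nat.card (G ⊓ Subgroup.centralizer (B : Set X) : Subgroup X)) :=
      Nat.Coprime.coprime_dvd_right (Subgroup.card_dvd_of_le inf_le_left) hcop
    have := coprime_commutator_sup_centralizer A (G ⊓ Subgroup.centralizer (B : Set X))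
      (hAB B hB) hcopB (Or.inl hsolv)
    rw [← this]
    apply sup_le_sup
    · exact le_iSup₂_of_le B hB le_rfl
    · exact inf_le_inf_right _ inf_le_left
  have hGKC : G ≤ K ⊔ C := by
    rw [← h1]
    exact iSup₂_le hGB
  -- C normalizes K
  have hCK : C ≤ Subgroup.normalizer (K : Set X) := by
    intro c hc
    apply Cfsg.Agent.Lib.Helper1.le_normalizer_of_conj_mem (S := Subgroup.zpowers c) (H := K) ?_
      (Subgroup.mem_zpowers c)
    intro g hg x hx
    have hgC : g ∈ C := by
      have : Subgroup.zpowers c ≤ C := by rw [Subgroup.zpowers_le]; exact hc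
      exact this hg
    have hmap : K.map (MulAut.conj g).toMonoidHom ≤ K := by
      rw [hK, Subgroup.map_iSup]
      apply iSup_le
      intro B
      rw [Subgroup.map_iSup]
      apply iSup_le
      intro hB
      refine le_iSup₂_of_le B hB ?_
      have hgB : g ∈ G ⊓ Subgroup.centralizer (B : Set X) :=
        ⟨hgC.1, Subgroup.centralizer_le hB.1 hgC.2⟩
      have hgn : g ∈ Subgroup.normalizer
          ((⁅G ⊓ Subgroup.centralizer (B : Set X), A⁆ : Subgroup X) : Set X) := by
        have h2 : Subgroup.zpowers g ≤ Subgroup.normalizer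
            ((⁅G ⊓ Subgroup.centralizer (B : Set X), A⁆ : Subgroup X) : Set X) := by
          apply Cfsg.Agent.Lib.Helper2.le_normalizer_commutator
          · rw [Subgroup.zpowers_le]
            exact Subgroup.le_normalizer hgB
          · rw [Subgroup.zpowers_le]
            exact Subgroup.centralizer_le_normalizer _ hgC.2
        exact h2 (Subgroup.mem_zpowers g)
      rw [Subgroup.mem_normalizer_iff_map_conj_eq] at hgn
      exact le_of_eq hgn
    exact hmap ⟨x, hx, rfl⟩
  have hGK : G ≤ Subgroup.normalizer (K : Set X) :=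
    hGKC.trans (sup_le Subgroup.le_normalizer hCK)
  have hAK : A ≤ Subgroup.normalizer (K : Set X) := by
    intro a ha
    apply Cfsg.Agent.Lib.Helper1.le_normalizer_of_conj_mem (S := Subgroup.zpowers a) (H := K) ?_
      (Subgroup.mem_zpowers a)
    intro g hg x hx
    have hgA : g ∈ A := by
      have : Subgroup.zpowers a ≤ A := by rw [Subgroup.zpowers_le]; exact ha
      exact this hg
    have hmap : K.map (MulAut.conj g).toMonoidHom ≤ K := by
      rw [hK, Subgroup.map_iSup]
      apply iSup_le
      intro B
      rw [Subgroup.map_iSup]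
      apply iSup_le
      intro hB
      refine le_iSup₂_of_le B hB ?_
      have hgn : g ∈ Subgroup.normalizer
          ((⁅G ⊓ Subgroup.centralizer (B : Set X), A⁆ : Subgroup X) : Set X) :=
        Cfsg.Agent.Lib.Helper2.le_normalizer_commutator (hAB B hB) Subgroup.le_normalizer hgA
      rw [Subgroup.mem_normalizer_iff_map_conj_eq] at hgn
      exact le_of_eq hgn
    exact hmap ⟨x, hx, rfl⟩
  -- the subgroup of G acting trivially mod K
  let T : Subgroup X :=
    { carrier := {g | g ∈ G ∧ ∀ a ∈ A, ⁅g, a⁆ ∈ K}
      one_mem' := ⟨G.one_mem, fun a _ => by rw [commutatorElement_one_left]; exact K.one_mem⟩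
      mul_mem' := by
        rintro g h ⟨hg, hga⟩ ⟨hh, hha⟩
        refine ⟨G.mul_mem hg hh, fun a ha => ?_⟩
        have e : ⁅g * h, a⁆ = g * ⁅h, a⁆ * g⁻¹ * ⁅g, a⁆ := by
          simp only [commutatorElement_def]; group
        rw [e]
        exact K.mul_mem ((Subgroup.mem_normalizer_iff.1 (hGK hg) _).1 (hha a ha)) (hga a ha)
      inv_mem' := by
        rintro g ⟨hg, hga⟩
        refine ⟨G.inv_mem hg, fun a ha => ?_⟩
        have e : ⁅g⁻¹, a⁆ = g⁻¹ * (⁅g, a⁆)⁻¹ * g⁻¹⁻¹ := by
          simp only [commutatorElement_def]; group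
        rw [e]
        exact (Subgroup.mem_normalizer_iff.1 (hGK (G.inv_mem hg)) _).1 (K.inv_mem (hga a ha)) }
  have hGT : G ≤ T := by
    rw [← h1]
    apply iSup₂_le
    intro B hB g hg
    refine ⟨hg.1, fun a ha => ?_⟩
    exact (le_iSup₂_of_le (f := fun B (_ : B ∈ 𝓑) => ⁅G ⊓ Subgroup.centralizer (B : Set X), A⁆)
      B hB le_rfl) (Subgroup.commutator_mem_commutator hg ha)
  rw [Subgroup.commutator_le]
  intro g hg a ha
  exact (hGT hg).2 a ha

end Cfsg.Agent.S3734
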