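import Cfsg.Statements.S0004
import Cfsg.Agent.Lib.Helper1.Hall

set_option autoImplicit false
open Pointwise
open Cfsg

namespace Cfsg.Agent.S0004

theorem index_eq_of_card {G : Type*} [Group G] [Finite G] (m n : ℕ)
    (hG : Nat.card G = m * n) (H : Subgroup G) (hH : Nat.card H = m) : H.index = n := by
  have h1 := H.card_mul_index
  rw [hH, hG] at h1
  have hm : 0 < m := by
    rcases Nat.eq_zero_or_pos m with h | h
    · rw [h, zero_mul] at hG
      exact absurd hG Nat.card_pos.ne'
    · exact h
  exact Nat.eq_of_mul_eq_mul_left hm h1

/-- Hall's Theorem, conjugacy: in a finite solvable group of order m * n with m and n coprime, any two subgroups of order m are conjugate. -/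
theorem result {G : Type*} [Group G] [Finite G] [Group.IsSolvable G] (m n : ℕ)
    (hG : Nat.card G = m * n) (hmn : m.Coprime n) (H K : Subgroup G)
    (hH : Nat.card H = m) (hK : Nat.card K = m) : ∃ g : G, MulAut.conj g • H = K := by
  have hidx := index_eq_of_card m n hG H hH
  exact Lib.Helper1.hall_conj H K (by rw [hH, hidx]; exact hmn) (by rw [hH, hK])

end Cfsg.Agent.S0004
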