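import Cfsg.Statements.S0005
import Cfsg.Agent.Lib.Helper1.Hall

set_option autoImplicit false
open Cfsg

namespace Cfsg.Agent.S0005

open scoped Pointwise

theorem index_eq_of_card {G : Type*} [Group G] [Finite G] (m n : ℕ)
    (hG : Nat.card G = m * n) (H : Subgroup G) (hH : Nat.card H = m) : H.index = n := by
  have h1 := H.card_mul_index
  rw [hH, hG] at h1
  have hm : 0 < m := by
    rcases Nat.eq_zero_or_pos m with h | h
    · rw [h, zero_mul] at hG
      exact absurd hG Nat.card_pos.ne'
    · exact h
  exact Nat.eq_of_mul_eq_mul_left hm h1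

/-- Hall's Theorem, containment: in a finite solvable group of order m * n with m and n coprime, every subgroup of order coprime to n is contained in a subgroup of order m. -/
theorem result {G : Type*} [Group G] [Finite G] [Group.IsSolvable G] (m n : ℕ)
    (hG : Nat.card G = m * n) (hmn : m.Coprime n) (K : Subgroup G) (hK : (Nat.card K).Coprime n) :
    ∃ H : Subgroup G, Nat.card H = m ∧ K ≤ H := by
  obtain ⟨H, hH⟩ := Lib.Helper1.hall_exists m n hG hmn
  have hidx := index_eq_of_card m n hG H hH
  obtain ⟨g, hg⟩ := Lib.Helper1.hall_dominance H K (by rw [hH, hidx]; exact hmn)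
    (by rw [hidx]; exact hK)
  exact ⟨MulAut.conj g • H, by rw [Lib.Helper1.card_conj_smul, hH], hg⟩

end Cfsg.Agent.S0005
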