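import Cfsg.Statements.S0011

set_option autoImplicit false
open Cfsg

namespace Cfsg.Agent.S0011

/-- If the Frattini quotient of a finite group is nilpotent then the group is nilpotent. -/
theorem result {G : Type*} [Group G] [Finite G]
    (h : Group.IsNilpotent (G ⧸ frattini G)) : Group.IsNilpotent G := by
  have h03 : Group.IsNilpotent G ↔ ∀ (p : ℕ) (_hp : Fact p.Prime) (P : Sylow p G), (↑P : Subgroup G).Normal :=
    (Group.isNilpotent_of_finite_tfae (G := G)).out 0 3
  rw [h03]
  intro p hp P
  let f := QuotientGroup.mk' (frattini G)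
  have hf : Function.Surjective f := QuotientGroup.mk'_surjective _
  let Q : Sylow p (G ⧸ frattini G) := P.mapSurjective hf
  have hQ : (Q : Subgroup (G ⧸ frattini G)).Normal := inferInstance
  let K : Subgroup G := (Q : Subgroup (G ⧸ frattini G)).comap f
  have hK : K.Normal := hQ.comap f
  have hPK : (P : Subgroup G) ≤ K := by
    intro x hx
    exact Subgroup.mem_map_of_mem f hx
  have hKeq : K = (P : Subgroup G) ⊔ frattini G := by
    show ((P : Subgroup G).map f).comap f = _
    rw [Subgroup.comap_map_eq, QuotientGroup.ker_mk']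
  have h1 : Subgroup.normalizer ((P : Subgroup G) : Set G) ⊔ K = ⊤ := Sylow.normalizer_sup_eq_top' P hPK
  have h2 : Subgroup.normalizer ((P : Subgroup G) : Set G) ⊔ frattini G = ⊤ := by
    rw [hKeq, ← sup_assoc, sup_of_le_left Subgroup.le_normalizer] at h1
    exact h1
  have h3 := frattini_nongenerating h2
  exact Subgroup.normalizer_eq_top_iff.mp h3

end Cfsg.Agent.S0011
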