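import Cfsg.Statements.S0031
import Cfsg.Agent.Lib.Helper1.FPF

set_option autoImplicit false
open Cfsg

namespace Cfsg.Agent.S0031

/-- A fixed-point-free automorphism of a finite group maps some Sylow p-subgroup to itself. -/
theorem result {G : Type*} [Group G] [Finite G] (φ : G ≃* G)
    (hφ : MonoidHom.FixedPointFree (φ : G →* G)) (p : ℕ) [Fact p.Prime] :
    ∃ P : Sylow p G, (P : Subgroup G).map (φ : G →* G) = P := by
  let P : Sylow p G := default
  let Q : Sylow p G := (φ : MulAut G) • P
  obtain ⟨g, hg⟩ := MulAction.exists_smul_eq G P Q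
  obtain ⟨h, hh⟩ := Lib.Helper1.fpf_surj φ hφ g
  refine ⟨h • P, ?_⟩
  have hQ : (Q : Subgroup G) = (P : Subgroup G).map (φ : G →* G) := by
    rfl
  have hgP : ((g • P : Sylow p G) : Subgroup G) = (P : Subgroup G).map (MulAut.conj g).toMonoidHom := by
    rfl
  have hhP : ((h • P : Sylow p G) : Subgroup G) = (P : Subgroup G).map (MulAut.conj h).toMonoidHom := by
    rfl
  rw [hhP, Subgroup.map_map]
  have : ((φ : G →* G).comp (MulAut.conj h).toMonoidHom) = (MulAut.conj (φ h)).toMonoidHom.comp (φ : G →* G) := by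
    ext x
    simp
  rw [this, ← Subgroup.map_map, ← hQ, ← hg, hgP, Subgroup.map_map]
  congr 1
  ext x
  simp [← hh]
  group

end Cfsg.Agent.S0031
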