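import Cfsg.Statements.S0049
import Mathlib.GroupTheory.SchurZassenhaus
import Mathlib.GroupTheory.Frattini

set_option autoImplicit false
open Cfsg

namespace Cfsg.Agent.S0049

/-- A prime divisor of the order of a finite group also divides the index of the Frattini subgroup. -/
theorem result {G : Type*} [Group G] [Finite G] (p : ℕ) (hp : p.Prime) (hdvd : p ∣ Nat.card G) :
    p ∣ (frattini G).index := by
  by_contra hnd
  have := Fact.mk hp
  let P : Sylow p G := default
  let f := QuotientGroup.mk' (frattini G)
  have hPle : (P : Subgroup G) ≤ frattini G := by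
    have h1 : IsPGroup p ((P : Subgroup G).map f) := P.isPGroup'.map f
    have h2 : Nat.card ((P : Subgroup G).map f) ∣ (frattini G).index := Subgroup.card_subgroup_dvd_card _
    obtain ⟨k, hk⟩ := IsPGroup.iff_card.mp h1
    have hk0 : k = 0 := by
      by_contra hk0
      apply hnd
      refine dvd_trans ?_ h2
      rw [hk]
      exact dvd_pow_self p hk0
    rw [hk0, pow_zero] at hk
    have h3 : (P : Subgroup G).map f = ⊥ := Subgroup.card_eq_one.mp hk
    rw [Subgroup.map_eq_bot_iff, QuotientGroup.ker_mk'] at h3
    exact h3
  have h1 : Subgroup.normalizer ((P : Subgroup G) : Set G) ⊔ frattini G = ⊤ :=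
    Sylow.normalizer_sup_eq_top' P hPle
  have h2 := frattini_nongenerating h1
  have hPn : (P : Subgroup G).Normal := Subgroup.normalizer_eq_top_iff.mp h2
  obtain ⟨H, hH⟩ := Subgroup.exists_right_complement'_of_coprime P.card_coprime_index
  have h3 : (P : Subgroup G) ⊔ H = ⊤ := hH.sup_eq_top
  have h4 : H ⊔ frattini G = ⊤ := by
    rw [eq_top_iff, ← h3, sup_comm]
    exact sup_le_sup_left hPle H
  have h5 : H = ⊤ := frattini_nongenerating h4
  have h6 : (P : Subgroup G) = ⊥ := by
    have := hH.disjoint
    rw [h5, disjoint_top] at this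
    exact this
  exact P.ne_bot_of_dvd_card hdvd h6

end Cfsg.Agent.S0049
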