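import Cfsg.Statements.S0052
import Cfsg.Agent.Lib.Helper1.Gaschutz2

set_option autoImplicit false
open Pointwise
open Cfsg

namespace Cfsg.Agent.S0052

/-- Gaschütz's Theorem, conjugacy: for an abelian normal subgroup K ≤ U with the order of K coprime to the index of U, two complements of K in G having the same intersection with U are conjugate. -/
theorem result {G : Type*} [Group G] [Finite G] (K U : Subgroup G) [K.Normal] [IsMulCommutative K]
    (hKU : K ≤ U) (hcop : (Nat.card K).Coprime U.index)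
    (H₀ H₁ : Subgroup G) (h₀ : Subgroup.IsComplement' K H₀) (h₁ : Subgroup.IsComplement' K H₁) (hU : H₀ ⊓ U = H₁ ⊓ U) :
    ∃ g : G, MulAut.conj g • H₀ = H₁ := by
    have hAK : (H₀ ⊓ U) ⊓ K = ⊥ := by
      rw [eq_bot_iff]
      intro x hx
      have : x ∈ K ⊓ H₀ := ⟨hx.2, hx.1.1⟩
      rwa [h₀.disjoint.eq_bot] at this
    have hKA : K ⊔ (H₀ ⊓ U) = U := by
      apply le_antisymm (sup_le hKU inf_le_right)
      intro u hu
      obtain ⟨⟨k, h⟩, hkh, -⟩ := Subgroup.isComplement_iff_existsUnique.mp h₀ u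
      simp only at hkh
      have hh : (h : G) ∈ U := by
        have : (h : G) = (k : G)⁻¹ * u := by rw [← hkh, inv_mul_cancel_left]
        rw [this]
        exact U.mul_mem (U.inv_mem (hKU k.2)) hu
      rw [← hkh]
      exact Subgroup.mul_mem_sup k.2 ⟨h.2, hh⟩
    exact Cfsg.Agent.Lib.Helper1.Gaschutz.gaschutz_conj U hcop hKA h₀ h₁ inf_le_left (hU ▸ inf_le_left)

end Cfsg.Agent.S0052
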