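import Cfsg.Statements.S0073
import Cfsg.Agent.Lib.Helper1.NormalizerOrbit
import Cfsg.Agent.Lib.Helper1.NormalPComplement

set_option autoImplicit false
open Cfsg

namespace Cfsg.Agent.S0073

open Cfsg.Agent.Lib.Helper1

/-- For a finite non-abelian simple group, either the cube of the least prime divisor of the order divides the order, or 12 does. -/
theorem result {G : Type*} [Group G] [Finite G] [IsSimpleGroup G] (hG : ∃ x y : G, x * y ≠ y * x) : (Nat.card G).minFac ^ 3 ∣ Nat.card G ∨ 12 ∣ Nat.card G := by
  have hcard1 : Nat.card G ≠ 1 := by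
    intro h1
    have := (Nat.card_eq_one_iff_unique.mp h1).1
    obtain ⟨x, y, hxy⟩ := hG
    exact hxy (Subsingleton.elim _ _)
  set p := (Nat.card G).minFac with hpdef
  have hp : p.Prime := Nat.minFac_prime hcard1
  have := Fact.mk hp
  have hpG : p ∣ Nat.card G := Nat.minFac_dvd _
  let P : Sylow p G := default
  obtain ⟨k, hk⟩ := P.2.exists_card_eq
  have hPdvd : Nat.card (P : Subgroup G) ∣ Nat.card G := Subgroup.card_subgroup_dvd_card _
  by_cases hk3 : 3 ≤ k
  · left
    exact (pow_dvd_pow p hk3).trans (hk ▸ hPdvd)
  push Not at hk3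
  have hk0 : k ≠ 0 := by
    rintro rfl
    rw [pow_zero] at hk
    exact P.ne_bot_of_dvd_card hpG (Subgroup.card_eq_one.mp hk)
  -- P is abelian
  have hc : IsMulCommutative (P : Subgroup G) := by
    have hk12 : k = 1 ∨ k = 2 := by omega
    rcases hk12 with rfl | rfl
    · rw [pow_one] at hk
      have := isCyclic_of_prime_card hk
      let _ : CommGroup (P : Subgroup G) := IsCyclic.commGroup
      exact ⟨⟨mul_comm⟩⟩
    · exact IsPGroup.isMulCommutative_of_card_eq_prime_sq hk
  by_cases hNC : Subgroup.normalizer (P : Set G) ≤ Subgroup.centralizer (P : Set G)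
  · exfalso
    have hN := MonoidHom.ker_transferSylow_isComplement' P hNC
    rcases (inferInstance : (MonoidHom.transferSylow P hNC).ker.Normal).eq_bot_or_eq_top with hbot | htop
    · rw [hbot] at hN
      have hPtop : (P : Subgroup G) = ⊤ := by
        have := hN.sup_eq_top
        rwa [bot_sup_eq] at this
      obtain ⟨x, y, hxy⟩ := hG
      have hx : x ∈ (P : Subgroup G) := by rw [hPtop]; trivial
      have hy : y ∈ (P : Subgroup G) := by rw [hPtop]; trivial
      exact hxy (congrArg Subtype.val (hc.is_comm.comm ⟨x, hx⟩ ⟨y, hy⟩))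
    · rw [htop] at hN
      have := hN.disjoint.eq_bot
      rw [top_inf_eq] at this
      exact P.ne_bot_of_dvd_card hpG this
  · obtain ⟨q, hq, hqp, hqG, F, hF, hmod⟩ :=
      exists_prime_modEq_of_not_normalizer_le_centralizer P hc hNC
    have hpq : p ≤ q := Nat.minFac_le_of_dvd hq.two_le hqG
    have hpq' : p < q := lt_of_le_of_ne hpq (Ne.symm hqp)
    have hFdvd : Nat.card F ∣ p ^ k := hk ▸ Subgroup.card_subgroup_dvd_card F
    obtain ⟨b, hbk, hb⟩ := (Nat.dvd_prime_pow hp).mp hFdvd
    have hbne : b ≠ k := by
      rintro rfl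
      apply hF
      apply Subgroup.eq_top_of_card_eq
      rw [hb, hk]
    have hblt : b < k := lt_of_le_of_ne hbk hbne
    rw [hk, hb] at hmod
    have hdvd : q ∣ p ^ k - p ^ b :=
      (Nat.modEq_iff_dvd' (Nat.pow_le_pow_right hp.pos hbk)).mp hmod.symm
    have hp2 : 2 ≤ p := hp.two_le
    have hnot1 : ¬ q ∣ p - 1 := by
      intro h
      have := Nat.le_of_dvd (by omega) h
      omega
    have hnotp : ¬ q ∣ p := by
      intro h
      exact hqp ((Nat.prime_dvd_prime_iff_eq hq hp).mp h)
    have hk12 : k = 1 ∨ k = 2 := by omega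
    rcases hk12 with rfl | rfl
    · have hb0 : b = 0 := by omega
      subst hb0
      rw [pow_one, pow_zero] at hdvd
      exact absurd hdvd hnot1
    · have hb01 : b = 0 ∨ b = 1 := by omega
      rcases hb01 with rfl | rfl
      · rw [pow_zero] at hdvd
        obtain ⟨m, hm⟩ : ∃ m, p = m + 1 := ⟨p - 1, by omega⟩
        have e : p ^ 2 - 1 = (p - 1) * (p + 1) := by
          rw [hm, Nat.add_sub_cancel]
          apply Nat.sub_eq_of_eq_add
          ring
        rw [e] at hdvd
        rcases (Nat.Prime.dvd_mul hq).mp hdvd with h | h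
        · exact absurd h hnot1
        · have hle : q ≤ p + 1 := Nat.le_of_dvd (by omega) h
          have hq1 : q = p + 1 := by omega
          have hp2' : p = 2 := by
            rcases hp.eq_two_or_odd' with h2 | hodd
            · exact h2
            · exfalso
              have heven : Even q := by rw [hq1]; exact hodd.add_one
              have : q = 2 := (Nat.Prime.even_iff hq).mp heven
              omega
          right
          have h4 : 4 ∣ Nat.card G := by
            have : Nat.card (P : Subgroup G) = 4 := by rw [hk, hp2']; norm_num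
            exact this ▸ hPdvd
          have h3 : 3 ∣ Nat.card G := by
            have : q = 3 := by omega
            exact this ▸ hqG
          exact Nat.Coprime.mul_dvd_of_dvd_of_dvd (by norm_num : Nat.Coprime 4 3) h4 h3
      · rw [pow_one] at hdvd
        have e : p ^ 2 - p = p * (p - 1) := by
          rw [sq, Nat.mul_sub_one]
        rw [e] at hdvd
        rcases (Nat.Prime.dvd_mul hq).mp hdvd with h | h
        · exact absurd h hnotp
        · exact absurd h hnot1

end Cfsg.Agent.S0073
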