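import Cfsg.Statements.S0082
import Cfsg.Agent.Lib.Helper1.PResidual
import Cfsg.Agent.Lib.Helper1.NormalPComplement
import Cfsg.Agent.Lib.Helper1.CoprimeAbelian
import Cfsg.Agent.Lib.Helper1.CyclicPGroup
import Cfsg.Agent.Lib.Helper1.RelativeSZ

set_option autoImplicit false
open Cfsg

namespace Cfsg.Agent.S0082

open Cfsg.Agent.Lib.Helper1

/-- With a cyclic Sylow p-subgroup, either there is a normal p-complement or the elements of order prime to p generate the whole group. -/
theorem result {G : Type*} [Group G] [Finite G] {p : ℕ} [Fact p.Prime] (P : Sylow p G) (hP : IsCyclic P) : Cfsg.HasNormalPComplement p G ∨ Cfsg.pResidual p G = ⊤ := by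
  have hp : Fact p.Prime := inferInstance
  have hc : IsMulCommutative (P : Subgroup G) := by
    let _ : CommGroup (P : Subgroup G) := IsCyclic.commGroup
    exact ⟨⟨mul_comm⟩⟩
  set N := Subgroup.normalizer ((P : Subgroup G) : Set G) with hNdef
  have hcopN : (Nat.card (P : Subgroup G)).Coprime ((P : Subgroup G).relIndex N) := by
    obtain ⟨k, hk⟩ := P.2.exists_card_eq
    rw [hk]
    apply Nat.Coprime.pow_left
    rw [hp.out.coprime_iff_not_dvd]
    intro hdvd
    exact P.not_dvd_index (hdvd.trans (Subgroup.relIndex_dvd_index_of_le Subgroup.le_normalizer))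
  obtain ⟨K, hKN, hKP, hPK, hKcard⟩ := exists_relative_complement (P : Subgroup G) N
    Subgroup.le_normalizer le_rfl hcopN
  have hcopK : (Nat.card K).Coprime (Nat.card (P : Subgroup G)) := by
    rw [hKcard]; exact hcopN.symm
  obtain ⟨h1, h2⟩ := coprime_abelian_decomposition K (P : Subgroup G) hKN hcopK
  have hcomm_le : ⁅(P : Subgroup G), K⁆ ≤ (P : Subgroup G) :=
    Subgroup.le_normalizer_iff_commutator_le_left.mp hKN
  rcases cyclic_pgroup_subgroup_eq_bot_or_eq_bot (P : Subgroup G) hP P.2 _ _ inf_le_left hcomm_le h1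
    with h3 | h3
  · right
    rw [h3, bot_sup_eq] at h2
    have h4 : (P : Subgroup G) ≤ commutator G ⊓ (P : Subgroup G) := by
      rw [commutator_inf_abelian_sylow P hc]
      conv_lhs => rw [← h2]
      exact Subgroup.commutator_mono le_rfl hKN
    rw [← abelian_sylow_inf_pResidual P hc] at h4
    have h5 : (P : Subgroup G) ≤ Cfsg.pResidual p G := h4.trans inf_le_right
    rw [← sylow_sup_pResidual_eq_top P]
    exact (sup_eq_right.mpr h5).symm
  · left
    apply hasNormalPComplement_of_normalizer_le_centralizer P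
    rw [Subgroup.commutator_eq_bot_iff_le_centralizer] at h3
    show N ≤ _
    rw [← hPK]
    refine sup_le ?_ ?_
    · intro x hx
      rw [Subgroup.mem_centralizer_iff]
      intro y hy
      exact congrArg Subtype.val (hc.is_comm.comm ⟨y, hy⟩ ⟨x, hx⟩)
    · intro k hk
      rw [Subgroup.mem_centralizer_iff]
      intro y hy
      exact (h3 hy k hk).symm

end Cfsg.Agent.S0082
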