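import Cfsg.Statements.S0083
import Cfsg.Agent.Lib.Helper1.NormalPComplement

set_option autoImplicit false
open Cfsg

namespace Cfsg.Agent.S0083

/-- For an abelian Sylow p-subgroup P, a normal p-complement exists exactly when the normalizer of P is an internal direct product of P with some subgroup. -/
theorem result {G : Type*} [Group G] [Finite G] {p : ℕ} [Fact p.Prime] (P : Sylow p G) (hP : IsMulCommutative P) : Cfsg.HasNormalPComplement p G ↔ ∃ Q : Subgroup G, Q ≤ Subgroup.centralizer (P : Set G) ∧ Q ⊓ (P : Subgroup G) = ⊥ ∧ Q ⊔ (P : Subgroup G) = Subgroup.normalizer (P : Set G) := by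
  have hc : IsMulCommutative (P : Subgroup G) := hP
  constructor
  · intro h
    obtain ⟨N, hNn, hN⟩ := (Cfsg.Agent.Lib.Helper1.hasNormalPComplement_iff P).mp h
    exact ⟨N ⊓ Subgroup.normalizer (P : Set G),
      Cfsg.Agent.Lib.Helper1.normalizer_sylow_splits_of_normal_complement P N hN⟩
  · rintro ⟨Q, hQC, -, hQP⟩
    apply Cfsg.Agent.Lib.Helper1.hasNormalPComplement_of_normalizer_le_centralizer P
    rw [← hQP]
    refine sup_le hQC ?_
    intro x hx
    rw [Subgroup.mem_centralizer_iff]
    intro y hy
    have := (inferInstance : IsMulCommutative (P : Subgroup G)).is_comm.comm ⟨y, hy⟩ ⟨x, hx⟩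
    exact congrArg Subtype.val this

end Cfsg.Agent.S0083
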