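import Cfsg.Statements.S0084
import Cfsg.Agent.Lib.Helper1.NormalizerOrbit
import Cfsg.Agent.Lib.Helper1.NormalPComplement

set_option autoImplicit false
open Cfsg

namespace Cfsg.Agent.S0084

/-- A group whose Sylow 2-subgroups are Klein four-groups and whose order is prime to 3 has a normal 2-complement. -/
theorem result {G : Type*} [Group G] [Finite G] (T : Sylow 2 G) (hT : IsKleinFour T) (h3 : ¬ 3 ∣ Nat.card G) : Cfsg.HasNormalPComplement 2 G := by
  have hc : IsMulCommutative (T : Subgroup G) := IsKleinFour.isMulCommutative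
  have hcard : Nat.card (T : Subgroup G) = 4 := IsKleinFour.card_four
  apply Cfsg.Agent.Lib.Helper1.hasNormalPComplement_of_normalizer_le_centralizer T
  by_contra hnot
  obtain ⟨q, hq, hq2, hqG, F, hF, hmod⟩ :=
    Cfsg.Agent.Lib.Helper1.exists_prime_modEq_of_not_normalizer_le_centralizer T hc hnot
  rw [hcard] at hmod
  have hFdvd : Nat.card F ∣ 4 := hcard ▸ Subgroup.card_subgroup_dvd_card F
  have hFne : Nat.card F ≠ 4 := by
    intro h4
    apply hF
    apply Subgroup.eq_top_of_card_eq
    rw [h4, hcard]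
  have hFle : Nat.card F ≤ 4 := Nat.le_of_dvd (by norm_num) hFdvd
  have hFpos : 0 < Nat.card F := Nat.card_pos
  have hdvd : q ∣ 4 - Nat.card F := (Nat.modEq_iff_dvd' hFle).mp hmod.symm
  generalize Nat.card F = c at *
  interval_cases c
  · -- c = 1
    have : q = 3 := (Nat.prime_dvd_prime_iff_eq hq (by norm_num)).mp hdvd
    exact h3 (this ▸ hqG)
  · have : q = 2 := (Nat.prime_dvd_prime_iff_eq hq (by norm_num)).mp hdvd
    exact hq2 this
  · norm_num at hFdvd
  · exact hFne rfl

end Cfsg.Agent.S0084
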