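import Cfsg.Statements.S0085
import Cfsg.Agent.Lib.Helper1.NormalizerOrbit
import Cfsg.Agent.Lib.Helper1.NormalPComplement

set_option autoImplicit false
open Cfsg

namespace Cfsg.Agent.S0085

/-- A group whose Sylow 2-subgroups are elementary abelian of order 8 and whose order is prime to 3 and to 7 has a normal 2-complement. -/
theorem result {G : Type*} [Group G] [Finite G] (T : Sylow 2 G) (h8 : Nat.card T = 8) (he : ∀ x : T, x * x = 1) (h3 : ¬ 3 ∣ Nat.card G) (h7 : ¬ 7 ∣ Nat.card G) : Cfsg.HasNormalPComplement 2 G := by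
  have hinv : ∀ x : (T : Subgroup G), x⁻¹ = x := fun x => inv_eq_of_mul_eq_one_right (he x)
  have hc : IsMulCommutative (T : Subgroup G) := by
    refine ⟨⟨fun a b => ?_⟩⟩
    have h1 := hinv (a * b)
    rw [mul_inv_rev, hinv a, hinv b] at h1
    exact h1.symm
  have hcard : Nat.card (T : Subgroup G) = 8 := h8
  apply Cfsg.Agent.Lib.Helper1.hasNormalPComplement_of_normalizer_le_centralizer T
  by_contra hnot
  obtain ⟨q, hq, hq2, hqG, F, hF, hmod⟩ :=
    Cfsg.Agent.Lib.Helper1.exists_prime_modEq_of_not_normalizer_le_centralizer T hc hnot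
  rw [hcard] at hmod
  have hFdvd : Nat.card F ∣ 8 := hcard ▸ Subgroup.card_subgroup_dvd_card F
  have hFne : Nat.card F ≠ 8 := by
    intro h4
    apply hF
    apply Subgroup.eq_top_of_card_eq
    rw [h4, hcard]
  have hFle : Nat.card F ≤ 8 := Nat.le_of_dvd (by norm_num) hFdvd
  have hFpos : 0 < Nat.card F := Nat.card_pos
  have hdvd : q ∣ 8 - Nat.card F := (Nat.modEq_iff_dvd' hFle).mp hmod.symm
  generalize Nat.card F = c at *
  interval_cases c
  · have : q = 7 := (Nat.prime_dvd_prime_iff_eq hq (by norm_num)).mp hdvd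
    exact h7 (this ▸ hqG)
  · have h6 : q ∣ 2 * 3 := hdvd
    rcases (Nat.Prime.dvd_mul hq).mp h6 with h | h
    · exact hq2 ((Nat.prime_dvd_prime_iff_eq hq (by norm_num)).mp h)
    · have : q = 3 := (Nat.prime_dvd_prime_iff_eq hq (by norm_num)).mp h
      exact h3 (this ▸ hqG)
  · norm_num at hFdvd
  · have h4 : q ∣ 2 ^ 2 := hdvd
    exact hq2 ((Nat.prime_dvd_prime_iff_eq hq (by norm_num)).mp (hq.dvd_of_dvd_pow h4))
  · norm_num at hFdvd
  · norm_num at hFdvd
  · norm_num at hFdvd
  · exact hFne rfl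

end Cfsg.Agent.S0085
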