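import Cfsg.Statements.S0091
import Cfsg.Agent.Lib.Helper1.Fusion

set_option autoImplicit false
open Cfsg

namespace Cfsg.Agent.S0091

/-- If a nontrivial Sylow p-subgroup controls its own fusion then it is not contained in the derived subgroup. -/
theorem result {G : Type*} [Group G] [Finite G] {p : ℕ} [Fact p.Prime] (P : Sylow p G) (hp : p ∣ Nat.card G) (h : ∀ x ∈ P, ∀ y ∈ P, (∃ g : G, g * x * g⁻¹ = y) → ∃ z ∈ P, z * x * z⁻¹ = y) : ¬ (P : Subgroup G) ≤ commutator G := by
  intro hle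
  have hctl : ∀ x ∈ P, ∀ g : G, g * x * g⁻¹ ∈ P → ∃ z ∈ (P : Subgroup G), z * x * z⁻¹ = g * x * g⁻¹ :=
    fun x hx g hg => h x hx _ hg ⟨g, rfl⟩
  have key := Cfsg.Agent.Lib.Helper1.commutator_inf_sylow_eq_of_controls_fusion P (P : Subgroup G) hctl le_rfl
  have e1 : commutator G ⊓ (P : Subgroup G) = (P : Subgroup G) := inf_eq_right.mpr hle
  rw [e1] at key
  have hle2 : (P : Subgroup G) ≤ ⁅(P : Subgroup G), (P : Subgroup G)⁆ := key.le.trans inf_le_left
  have hne : (P : Subgroup G) ≠ ⊥ := P.ne_bot_of_dvd_card hp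
  have hnt : Nontrivial (P : Subgroup G) := (Subgroup.nontrivial_iff_ne_bot _).mpr hne
  have hnil : Group.IsNilpotent (P : Subgroup G) := P.2.isNilpotent
  have hlt : commutator (P : Subgroup G) < ⊤ := Group.IsSolvable.commutator_lt_top_of_nontrivial _
  have htop : commutator (P : Subgroup G) = ⊤ := by
    rw [eq_top_iff]
    intro x _
    have hx : (x : G) ∈ ⁅(P : Subgroup G), (P : Subgroup G)⁆ := hle2 x.2
    rw [← Subgroup.map_subtype_commutator, Subgroup.mem_map] at hx
    obtain ⟨y, hy, hyx⟩ := hx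
    have : y = x := Subtype.ext hyx
    rwa [← this]
  exact hlt.ne htop

end Cfsg.Agent.S0091
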