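import Cfsg.Statements.S0102
import Cfsg.Agent.Lib.Helper1.AbelianHall

set_option autoImplicit false
open Cfsg

namespace Cfsg.Agent.S0102

/-- A finite perfect group with cyclic Sylow p-subgroups has no perfect central extension whose kernel has order divisible by p. -/
theorem result {G : Type*} {H : Type*} [Group G] [Group H] [Finite G] [Finite H] (hG : commutator G = ⊤) {p : ℕ} [Fact p.Prime] (hcyc : ∀ P : Sylow p G, IsCyclic P) (σ : H →* G) (hσ : Function.Surjective σ) (hz : σ.ker ≤ Subgroup.center H) (hH : commutator H = ⊤) : ¬ p ∣ Nat.card σ.ker := by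
  intro hdvd
  obtain ⟨z, hz0⟩ := exists_prime_orderOf_dvd_card' p hdvd
  have hzo : orderOf (z : H) = p := by rw [Subgroup.orderOf_coe]; exact hz0
  have hzp : IsPGroup p (Subgroup.zpowers (z : H)) := by
    rw [IsPGroup.iff_card]
    exact ⟨1, by rw [Nat.card_zpowers, hzo, pow_one]⟩
  obtain ⟨P, hP⟩ := hzp.exists_le_sylow
  have hzP : (z : H) ∈ (P : Subgroup H) := hP (Subgroup.mem_zpowers _)
  -- the image of P in G is cyclic
  have himp : IsPGroup p ((P : Subgroup H).map σ) := P.2.map σ
  obtain ⟨Q, hQ⟩ := himp.exists_le_sylow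
  have hQc : IsCyclic (Q : Subgroup G) := hcyc Q
  have himc : IsCyclic ((P : Subgroup H).map σ) := Subgroup.isCyclic_of_le hQ
  let f : (P : Subgroup H) →* ((P : Subgroup H).map σ) := σ.subgroupMap (P : Subgroup H)
  have hfker : f.ker ≤ Subgroup.center (P : Subgroup H) := by
    intro x hx
    have hx1 : σ (x : H) = 1 := by
      have := congrArg Subtype.val (MonoidHom.mem_ker.mp hx)
      exact this
    have hxc : (x : H) ∈ Subgroup.center H := hz (MonoidHom.mem_ker.mpr hx1)
    rw [Subgroup.mem_center_iff]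
    intro y
    apply Subtype.ext
    exact (Subgroup.mem_center_iff.mp hxc (y : H))
  have hcomm : IsMulCommutative (P : Subgroup H) :=
    MonoidHom.isMulCommutative_of_isCyclic_of_ker_le_center f hfker
  have h88 := Cfsg.Agent.Lib.Helper1.abelian_hall_inf_commutator_inf_center (P : Subgroup H) hcomm
    P.card_coprime_index
  have hmem : (z : H) ∈ (P : Subgroup H) ⊓ commutator H ⊓ Subgroup.center H :=
    Subgroup.mem_inf.mpr ⟨Subgroup.mem_inf.mpr ⟨hzP, by rw [hH]; trivial⟩, hz z.2⟩
  rw [h88, Subgroup.mem_bot] at hmem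
  rw [hmem, orderOf_one] at hzo
  exact (Fact.out : p.Prime).one_lt.ne hzo

end Cfsg.Agent.S0102
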