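import Cfsg.Statements.S0103

set_option autoImplicit false
open Cfsg

namespace Cfsg.Agent.S0103

/-- If a Sylow p-subgroup P intersects every distinct conjugate trivially, then its normalizer controls fusion in P. -/
theorem result {G : Type*} [Group G] [Finite G] {p : ℕ} [Fact p.Prime] (P : Sylow p G) (hTI : ∀ g : G, (P : Subgroup G).map (MulAut.conj g).toMonoidHom ≠ (P : Subgroup G) → (P : Subgroup G) ⊓ (P : Subgroup G).map (MulAut.conj g).toMonoidHom = ⊥) (x y : G) (hx : x ∈ P) (hy : y ∈ P) (hc : ∃ g : G, g * x * g⁻¹ = y) : ∃ n ∈ Subgroup.normalizer (P : Set G), n * x * n⁻¹ = y := by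
  obtain ⟨g, hg⟩ := hc
  by_cases hx1 : x = 1
  · refine ⟨1, Subgroup.one_mem _, ?_⟩
    rw [← hg, hx1]; simp
  · have hmap : (P : Subgroup G).map (MulAut.conj g).toMonoidHom = (P : Subgroup G) := by
      by_contra hne
      have hbot := hTI g hne
      have hy' : y ∈ (P : Subgroup G) ⊓ (P : Subgroup G).map (MulAut.conj g).toMonoidHom := by
        refine Subgroup.mem_inf.mpr ⟨hy, ?_⟩
        rw [Subgroup.mem_map]
        exact ⟨x, hx, by simpa using hg⟩
      rw [hbot, Subgroup.mem_bot] at hy'
      apply hx1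
      rw [hy'] at hg
      have : g⁻¹ * (g * x * g⁻¹) * g = g⁻¹ * 1 * g := by rw [hg]
      simpa [mul_assoc] using this
    refine ⟨g, ?_, hg⟩
    show g ∈ Subgroup.normalizer ((P : Subgroup G) : Set G)
    rw [Subgroup.mem_normalizer_iff]
    intro h
    constructor
    · intro hh
      have : g * h * g⁻¹ ∈ (P : Subgroup G).map (MulAut.conj g).toMonoidHom :=
        Subgroup.mem_map.mpr ⟨h, hh, by simp⟩
      rw [hmap] at this
      exact this
    · intro hh
      have hh' : g * h * g⁻¹ ∈ (P : Subgroup G) := hh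
      rw [← hmap, Subgroup.mem_map] at hh'
      obtain ⟨h', hh'P, he⟩ := hh'
      have he' : g * h' * g⁻¹ = g * h * g⁻¹ := by simpa using he
      have : h' = h := by
        have := congrArg (fun t => g⁻¹ * t * g) he'
        simpa [mul_assoc] using this
      rw [← this]; exact hh'P

end Cfsg.Agent.S0103
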