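import Cfsg.Statements.S0104
import Cfsg.Agent.Lib.Helper1.Fusion2

set_option autoImplicit false
open Cfsg

namespace Cfsg.Agent.S0104

open Pointwise Cfsg.Agent.Lib.Helper1

/-- A subgroup Z of a Sylow p-subgroup P that is normalized by N_G(P) is weakly closed in P exactly when it is normal in every Sylow p-subgroup containing it. -/
theorem result {G : Type*} [Group G] [Finite G] {p : ℕ} [Fact p.Prime] (P : Sylow p G) (Z : Subgroup G) (hZP : Z ≤ (P : Subgroup G)) (hZN : Subgroup.normalizer (P : Set G) ≤ Subgroup.normalizer (Z : Set G)) : Cfsg.IsWeaklyClosed Z P ↔ ∀ R : Sylow p G, Z ≤ (R : Subgroup G) → (R : Subgroup G) ≤ Subgroup.normalizer (Z : Set G) := by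
  unfold Cfsg.IsWeaklyClosed
  simp only [map_conj_eq_smul]
  constructor
  · rintro ⟨-, hW⟩ R hZR
    obtain ⟨g, hg⟩ := MulAction.exists_smul_eq G P R
    have hR : (R : Subgroup G) = MulAut.conj g • (P : Subgroup G) := by rw [← hg]; rfl
    have h1 : MulAut.conj g⁻¹ • Z ≤ (P : Subgroup G) := by
      rw [map_inv]
      exact Subgroup.subset_pointwise_smul_iff.mp (hR ▸ hZR)
    have h2 := hW g⁻¹ h1
    have hgN : g⁻¹ ∈ Subgroup.normalizer (Z : Set G) := mem_normalizer_of_conj_smul_eq h2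
    have hgN' : g ∈ Subgroup.normalizer (Z : Set G) := by
      have := Subgroup.inv_mem _ hgN
      rwa [inv_inv] at this
    intro r hr
    rw [hR, mem_conj_smul_iff] at hr
    have h3 : g⁻¹ * r * g ∈ Subgroup.normalizer (Z : Set G) := hZN (Subgroup.le_normalizer hr)
    have e : r = g * (g⁻¹ * r * g) * g⁻¹ := by group
    rw [e]
    exact Subgroup.mul_mem _ (Subgroup.mul_mem _ hgN' h3) hgN
  · intro h
    refine ⟨hZP, ?_⟩
    intro g hg
    have hZR : Z ≤ ((g⁻¹ • P : Sylow p G) : Subgroup G) := by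
      show Z ≤ MulAut.conj g⁻¹ • (P : Subgroup G)
      rw [map_inv]
      exact Subgroup.pointwise_smul_subset_iff.mp hg
    have hR := h (g⁻¹ • P) hZR
    have hP := h P hZP
    obtain ⟨c, hc, hcP⟩ := sylow_conj_of_le _ (g⁻¹ • P) P hR hP
    rw [smul_smul] at hcP
    have h1 : c * g⁻¹ ∈ Subgroup.normalizer (Z : Set G) :=
      hZN (Sylow.smul_eq_iff_mem_normalizer.mp hcP)
    have h2 : g ∈ Subgroup.normalizer (Z : Set G) := by
      have e : g = (c * g⁻¹)⁻¹ * c := by group
      rw [e]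
      exact Subgroup.mul_mem _ (Subgroup.inv_mem _ h1) hc
    exact conj_smul_eq_of_mem_normalizer h2

end Cfsg.Agent.S0104
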