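import Cfsg.Statements.S0131
import Cfsg.Agent.Lib.Helper1.TransferFocal

set_option autoImplicit false
open Cfsg

namespace Cfsg.Agent.S0131

/-- P/P' has a normal complement in G exactly when the focal subgroup G' ∩ P is as small as possible, namely P'. -/
theorem result {G : Type*} [Group G] [Finite G] {p : ℕ} [Fact p.Prime] (P : Sylow p G) : (∃ N : Subgroup G, N.Normal ∧ N ⊓ (P : Subgroup G) = ⁅(P : Subgroup G), (P : Subgroup G)⁆ ∧ N ⊔ (P : Subgroup G) = ⊤) ↔ commutator G ⊓ (P : Subgroup G) = ⁅(P : Subgroup G), (P : Subgroup G)⁆ := by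
  have hp : p.Prime := Fact.out
  constructor
  · rintro ⟨N, hNn, hNP, hsup⟩
    apply le_antisymm
    · rw [← hNP]
      refine inf_le_inf_right _ ?_
      exact Cfsg.Agent.Lib.Helper1.commutator_le_of_sup_eq_top N (P : Subgroup G) hsup
        (hNP ▸ inf_le_left)
    · refine le_inf ?_ (by rw [← Subgroup.map_subtype_commutator]; exact Subgroup.map_subtype_le _)
      rw [commutator_def]
      exact Subgroup.commutator_mono le_top le_top
  · intro hfoc
    have hcop : Nat.Coprime (P : Subgroup G).index (⁅(P : Subgroup G), (P : Subgroup G)⁆.relIndex (P : Subgroup G)) := by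
      obtain ⟨k, hk⟩ := P.2.exists_card_eq
      have hdvd : ⁅(P : Subgroup G), (P : Subgroup G)⁆.relIndex (P : Subgroup G) ∣ p ^ k := by
        rw [← hk]
        exact Subgroup.relIndex_dvd_card _ _
      apply Nat.Coprime.coprime_dvd_right hdvd
      apply Nat.Coprime.pow_right
      rw [Nat.coprime_comm, hp.coprime_iff_not_dvd]
      exact P.not_dvd_index
    obtain ⟨h1, h2⟩ := Cfsg.Agent.Lib.Helper1.transferFocal_ker_of_coprime (P : Subgroup G) hcop
    refine ⟨(P : Subgroup G).transferFocal.ker, inferInstance, ?_, h2⟩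
    rw [h1, Cfsg.Agent.Lib.Helper1.focalSubgroup_eq_of_coprime _ hcop, hfoc]

end Cfsg.Agent.S0131
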