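import Cfsg.Statements.S0158
import Mathlib
import Cfsg.Agent.Lib.Helper8.FS2
-- import your own Cfsg.Agent.* helpers here

set_option autoImplicit false
open Cfsg

namespace Cfsg.Agent.S0158

open Cfsg.Agent.Lib.Helper6 Cfsg.Agent.Lib.Helper8.FS
open scoped ComplexConjugate


theorem result' {G : Type*} [Group G] [Fintype G] {V : Type*} [AddCommGroup V] [Module ℂ V] [FiniteDimensional ℂ V] (ρ : Representation ℂ G V) [ρ.IsIrreducible] : ((Nat.card G : ℂ)⁻¹ * ∑ s : G, ρ.character (s * s) = 0 ∨ (Nat.card G : ℂ)⁻¹ * ∑ s : G, ρ.character (s * s) = 1 ∨ (Nat.card G : ℂ)⁻¹ * ∑ s : G, ρ.character (s * s) = -1) ∧ ((Nat.card G : ℂ)⁻¹ * ∑ s : G, ρ.character (s * s) = 0 ↔ ∃ s : G, (ρ.character s).im ≠ 0) := by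
  classical
  set χ : Cfsg.IrrCharacter G := ⟨ρ.character, isIrrCharacter_character ρ⟩ with hχ
  have hfs : (Nat.card G : ℂ)⁻¹ * ∑ s : G, ρ.character (s * s) = fsInd (χ : G → ℂ) := rfl
  rw [hfs]
  refine ⟨fsInd_irr_cases χ, ?_⟩
  constructor
  · intro h0
    by_contra hne
    push Not at hne
    have hreal : ∀ g : G, conj ((χ : G → ℂ) g) = (χ : G → ℂ) g := by
      intro g
      exact Complex.conj_eq_iff_im.mpr (hne g)
    rcases fsInd_irr_of_real χ hreal with h | h
    · rw [h0] at h; exact zero_ne_one h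
    · rw [h0] at h
      have : (0 : ℂ) ≠ -1 := by norm_num
      exact this h
  · rintro ⟨s, hs⟩
    apply fsInd_irr_eq_zero χ
    refine ⟨s, ?_⟩
    intro h
    exact hs (Complex.conj_eq_iff_im.mp h)





/-- The Frobenius–Schur indicator of an irreducible complex representation of a finite group — the average over s of the character at s * s — is 0, 1 or −1, and it vanishes exactly when some character value is not real. -/
theorem result {G : Type*} [Group G] [Fintype G] {V : Type*} [AddCommGroup V] [Module ℂ V] [FiniteDimensional ℂ V] (ρ : Representation ℂ G V) [ρ.IsIrreducible] : ((Nat.card G : ℂ)⁻¹ * ∑ s : G, ρ.character (s * s) = 0 ∨ (Nat.card G : ℂ)⁻¹ * ∑ s : G, ρ.character (s * s) = 1 ∨ (Nat.card G : ℂ)⁻¹ * ∑ s : G, ρ.character (s * s) = -1) ∧ ((Nat.card G : ℂ)⁻¹ * ∑ s : G, ρ.character (s * s) = 0 ↔ ∃ s : G, (ρ.character s).im ≠ 0) := by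
  exact result' ρ

end Cfsg.Agent.S0158
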