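import Cfsg.Statements.S0159
import Cfsg.Agent.Lib.Helper6.SecondOrth
import Cfsg.Agent.Lib.Helper6.Regular

set_option autoImplicit false
open Cfsg

namespace Cfsg.Agent.S0159

/-- The number of solutions of s * s = 1 in a finite group equals the sum, over the irreducible characters χ, of (the average over s of χ (s * s)) times χ 1. -/
theorem result {G : Type*} [Group G] [Fintype G] : (Nat.card {s : G // s * s = 1} : ℂ) = ∑ᶠ χ : Cfsg.IrrCharacter G, ((Nat.card G : ℂ)⁻¹ * ∑ s : G, (χ : G → ℂ) (s * s)) * (χ : G → ℂ) 1 := by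
  classical
  have : Fintype (Cfsg.IrrCharacter G) := Fintype.ofFinite _
  rw [finsum_eq_sum_of_fintype]
  have hG := Cfsg.Agent.Lib.Helper6.card_ne_zero_complex G
  have h1 : ∀ χ : Cfsg.IrrCharacter G, (starRingEnd ℂ) ((χ : G → ℂ) 1) = (χ : G → ℂ) 1 := by
    intro χ
    obtain ⟨n, hn⟩ := Cfsg.Agent.Lib.Helper6.IsCharacter.apply_one_eq_natCast
      (Cfsg.Agent.Lib.Helper6.IsIrrCharacter.isCharacter χ.2)
    rw [hn, Complex.conj_natCast]
  have h2 : ∀ s : G, ∑ χ : Cfsg.IrrCharacter G, (χ : G → ℂ) (s * s) * (χ : G → ℂ) 1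
      = if s * s = 1 then (Nat.card G : ℂ) else 0 := by
    intro s
    have h3 := Cfsg.Agent.Lib.Helper6.sum_irr_mul_conj (s * s) (1 : G)
    simp only [h1] at h3
    split_ifs with hs
    · rw [h3.1 (by rw [hs])]
      rw [hs]
      congr 1
      have : Subgroup.centralizer ({1} : Set G) = ⊤ := by
        ext x
        simp [Subgroup.mem_centralizer_iff]
      rw [this, Subgroup.card_top]
    · apply h3.2
      intro hc
      rw [isConj_comm, isConj_one_right] at hc
      exact hs hc
  calc (Nat.card {s : G // s * s = 1} : ℂ)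
      = (Nat.card G : ℂ)⁻¹ * ∑ s : G, (if s * s = 1 then (Nat.card G : ℂ) else 0) := by
        rw [Finset.sum_ite, Finset.sum_const_zero, add_zero, Finset.sum_const, nsmul_eq_mul,
          Nat.card_eq_fintype_card (α := {s : G // s * s = 1}), Fintype.card_subtype]
        field_simp
    _ = (Nat.card G : ℂ)⁻¹ * ∑ s : G, ∑ χ : Cfsg.IrrCharacter G,
          (χ : G → ℂ) (s * s) * (χ : G → ℂ) 1 := by
        simp only [h2]
    _ = ∑ χ : Cfsg.IrrCharacter G,
          ((Nat.card G : ℂ)⁻¹ * ∑ s : G, (χ : G → ℂ) (s * s)) * (χ : G → ℂ) 1 := by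
        rw [Finset.sum_comm, Finset.mul_sum]
        apply Finset.sum_congr rfl
        intro χ _
        rw [mul_assoc, Finset.sum_mul]

end Cfsg.Agent.S0159
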