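import Cfsg.Statements.S0160
import Cfsg.Agent.Lib.Helper6.PermCount
import Cfsg.Agent.Lib.Helper6.Auto

set_option autoImplicit false
open Cfsg

namespace Cfsg.Agent.S0160

/-- A finite group has as many real-valued irreducible complex characters as conjugacy classes closed under taking inverses. -/
theorem result {G : Type*} [Group G] [Finite G] : Nat.card {χ : Cfsg.IrrCharacter G // ∀ g : G, ((χ : G → ℂ) g).im = 0} = Nat.card {C : ConjClasses G // ∀ g : G, ConjClasses.mk g = C → IsConj g g⁻¹} := by
  classical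
  have : Fintype G := Fintype.ofFinite G
  have hinv : ∀ (χ : Cfsg.IrrCharacter G) (g : G), (χ : G → ℂ) g⁻¹ = (starRingEnd ℂ) ((χ : G → ℂ) g) :=
    fun χ g => Cfsg.Agent.Lib.Helper6.IsCharacter.apply_inv
      (Cfsg.Agent.Lib.Helper6.IsIrrCharacter.isCharacter χ.2) g
  have key := Cfsg.Agent.Lib.Helper6.card_fixed_classes_eq_card_fixed_irr (G := G)
    (fun g => g⁻¹)
    (fun x y hxy => by
      obtain ⟨c, hc⟩ := isConj_iff.mp hxy
      exact isConj_iff.mpr ⟨c, by rw [← hc]; group⟩)
    (fun χ => by
      have h1 : (χ : G → ℂ) ∘ (fun g => g⁻¹) = fun g => (starRingEnd ℂ) ((χ : G → ℂ) g) := by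
        funext g
        exact hinv χ g
      rw [h1]
      exact Cfsg.Agent.Lib.Helper6.IsIrrCharacter.conj χ.2)
  rw [key]
  apply Nat.card_congr
  apply Equiv.subtypeEquivRight
  intro χ
  constructor
  · intro h
    funext g
    have h1 := hinv χ g
    have h2 := h g
    show (χ : G → ℂ) g⁻¹ = (χ : G → ℂ) g
    rw [h1]
    exact Complex.conj_eq_iff_im.mpr h2
  · intro h g
    have h1 := hinv χ g
    have h2 := congrFun h g
    simp only [Function.comp] at h2
    rw [h1] at h2
    exact Complex.conj_eq_iff_im.mp h2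

end Cfsg.Agent.S0160
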