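import Mathlib
import Cfsg.Statements.S0162
import Cfsg.Agent.Lib.Helper6.Norm
import Cfsg.Agent.Lib.Helper6.OddOrder

set_option autoImplicit false
open Cfsg

namespace Cfsg.Agent.S0162

open Cfsg.Agent.Lib.Helper6
open scoped ComplexConjugate

/-- Pairing for an involution with exactly one fixed point. -/
theorem exists_half_sum_invol {α : Type*} [Fintype α] (σ : α → α) (hσ : ∀ x, σ (σ x) = x)
    (a₀ : α) (hfix : ∀ x, σ x = x ↔ x = a₀) :
    ∃ T : Finset α, ∀ f : α → ℕ, (∀ x, f (σ x) = f x) →
      ∑ x, f x = f a₀ + 2 * ∑ x ∈ T, f x := by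
  classical
  let e := Fintype.equivFin α
  let T : Finset α := Finset.univ.filter (fun g => e g < e (σ g))
  let T' : Finset α := Finset.univ.filter (fun g => e (σ g) < e g)
  refine ⟨T, ?_⟩
  intro f hf
  have hdisj : Disjoint T T' := by
    rw [Finset.disjoint_filter]
    intro g _ h1 h2
    exact lt_asymm h1 h2
  have hdisj1 : Disjoint ({a₀} : Finset α) (T ∪ T') := by
    rw [Finset.disjoint_singleton_left]
    have : σ a₀ = a₀ := (hfix a₀).mpr rfl
    simp [T, T', this]
  have hunion : (Finset.univ : Finset α) = {a₀} ∪ (T ∪ T') := by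
    ext g
    simp only [Finset.mem_univ, Finset.mem_union, Finset.mem_singleton, true_iff, T, T',
      Finset.mem_filter, true_and]
    by_cases hg : g = a₀
    · exact Or.inl hg
    · right
      have hne : e g ≠ e (σ g) := fun h => hg ((hfix g).mp (e.injective h).symm)
      exact lt_or_gt_of_ne hne
  have hT' : ∑ g ∈ T', f g = ∑ g ∈ T, f g := by
    apply Finset.sum_bij (fun g _ => σ g)
    · intro g hg
      simp only [T, T', Finset.mem_filter, Finset.mem_univ, true_and, hσ] at hg ⊢
      exact hg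
    · intro a _ b _ hab
      have := congrArg σ hab
      simpa [hσ] using this
    · intro g hg
      refine ⟨σ g, ?_, hσ g⟩
      simp only [T, T', Finset.mem_filter, Finset.mem_univ, true_and, hσ] at hg ⊢
      exact hg
    · intro g _
      exact (hf g).symm
  rw [hunion, Finset.sum_union hdisj1, Finset.sum_union hdisj, hT', Finset.sum_singleton]
  ring

theorem sq_mod_eight_of_odd {d : ℕ} (hd : Odd d) : d ^ 2 ≡ 1 [MOD 8] := by
  have h2 : d % 2 = 1 := Nat.odd_iff.mp hd
  have h8 : d % 8 = 1 ∨ d % 8 = 3 ∨ d % 8 = 5 ∨ d % 8 = 7 := by omega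
  unfold Nat.ModEq
  rw [Nat.pow_mod]
  rcases h8 with h | h | h | h <;> rw [h]

/-- If a finite group has odd order, its order is congruent to its number of conjugacy classes modulo 16. -/
theorem result {G : Type*} [Group G] [Finite G] (hodd : Odd (Nat.card G)) : Nat.card G ≡ Nat.card (ConjClasses G) [MOD 16] := by
  classical
  have : Fintype G := Fintype.ofFinite G
  have : Fintype (Cfsg.IrrCharacter G) := Fintype.ofFinite _
  -- degrees
  have hdeg : ∀ χ : Cfsg.IrrCharacter G, ∃ d : ℕ, (χ : G → ℂ) 1 = d ∧ d ∣ Nat.card G := by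
    intro χ
    obtain ⟨n, ρ, hρ, hχ⟩ := χ.2
    refine ⟨Module.finrank ℂ (Fin n → ℂ), ?_, finrank_dvd_card ρ⟩
    rw [← hχ, Representation.char_one]
  choose d hd hdvd using hdeg
  let σ : Cfsg.IrrCharacter G → Cfsg.IrrCharacter G :=
    fun χ => ⟨fun g => conj ((χ : G → ℂ) g), IsIrrCharacter.conj χ.2⟩
  let one : Cfsg.IrrCharacter G := ⟨fun _ => 1, isIrrCharacter_one⟩
  have hσ : ∀ χ, σ (σ χ) = χ := by
    intro χ
    apply Subtype.ext
    funext g
    simp [σ]
  have hfix : ∀ χ, σ χ = χ ↔ χ = one := by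
    intro χ
    constructor
    · intro h
      apply Subtype.ext
      apply eq_one_of_real_of_odd hodd _ χ.2
      intro g
      have := congrFun (congrArg Subtype.val h) g
      exact Complex.conj_eq_iff_im.mp this
    · intro h
      rw [h]
      apply Subtype.ext
      funext g
      simp [σ, one]
  obtain ⟨T, hT⟩ := exists_half_sum_invol σ hσ one hfix
  have hdσ : ∀ χ, d (σ χ) = d χ := by
    intro χ
    have h1 := hd (σ χ)
    have h2 : ((σ χ : Cfsg.IrrCharacter G) : G → ℂ) 1 = conj ((χ : G → ℂ) 1) := rfl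
    rw [h2, hd χ, Complex.conj_natCast] at h1
    exact_mod_cast h1.symm
  have hd1 : d one = 1 := by
    have h1 := hd one
    have h2 : (one : G → ℂ) 1 = 1 := rfl
    rw [h2] at h1
    exact_mod_cast h1.symm
  have hG : Nat.card G = ∑ χ, d χ ^ 2 := by
    have h1 := sum_sq_degree (G := G)
    simp_rw [hd] at h1
    exact_mod_cast h1.symm
  have hk : Nat.card (ConjClasses G) = ∑ _χ : Cfsg.IrrCharacter G, 1 := by
    rw [← card_irrCharacter, Nat.card_eq_fintype_card]
    simp
  have e1 := hT (fun χ => d χ ^ 2) (fun χ => by simp only [hdσ])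
  have e2 := hT (fun _ => 1) (fun _ => rfl)
  rw [hG, hk, e1, e2]
  simp only [hd1, one_pow]
  apply Nat.ModEq.add_left
  have : (16 : ℕ) = 2 * 8 := rfl
  rw [this]
  apply Nat.ModEq.mul_left'
  apply Nat.ModEq.sum
  intro χ _
  apply sq_mod_eight_of_odd
  exact Odd.of_dvd_nat hodd (hdvd χ)

end Cfsg.Agent.S0162
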