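import Cfsg.Statements.S0166
import Mathlib
import Cfsg.Agent.Lib.Helper6.KRep5
import Cfsg.Agent.Lib.Helper6.EquivOfChar

set_option autoImplicit false
open Cfsg

namespace Cfsg.Agent.S0166

open Cfsg.Agent.Lib.Helper6 Cfsg.Agent.Lib.Helper6.KR

/-- Brauer's splitting field Theorem: a complex representation of a finite group of exponent m is equivalent to a representation by matrices with entries in ℚ adjoined exp(2πi/m). -/
theorem result {G : Type*} [Group G] [Finite G] (n : ℕ) (ρ : Representation ℂ G (Fin n → ℂ)) : ∃ σ : Representation ℂ G (Fin n → ℂ), Nonempty (ρ.Equiv σ) ∧ ∀ g : G, ∀ i j : Fin n, LinearMap.toMatrix' (σ g) i j ∈ Algebra.adjoin ℚ ({Complex.exp (2 * Real.pi * Complex.I / (Monoid.exponent G : ℂ))} : Set ℂ) := by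

  classical
  haveI : Fintype G := Fintype.ofFinite G
  obtain ⟨m, hm⟩ : ∃ m : ℕ, m = Monoid.exponent G := ⟨_, rfl⟩
  have hm0 : m ≠ 0 := by
    rw [hm]
    exact Monoid.exponent_ne_zero_of_finite
  haveI : NeZero m := ⟨hm0⟩
  obtain ⟨ζ, hζ⟩ : ∃ ζ : ℂ, ζ = Complex.exp (2 * Real.pi * Complex.I / (m : ℂ)) := ⟨_, rfl⟩
  have hprim : IsPrimitiveRoot ζ m := by
    rw [hζ]
    exact Complex.isPrimitiveRoot_exp m hm0
  rw [← hm, ← hζ]
  have hK : ∀ z : ℂ, z ^ Monoid.exponent G = 1 →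
      z ∈ (algebraMap (IntermediateField.adjoin ℚ ({ζ} : Set ℂ)) ℂ).fieldRange := by
    intro z hz
    rw [← hm] at hz
    obtain ⟨i, _, hi⟩ := hprim.eq_pow_of_pow_eq_one hz
    refine ⟨(⟨ζ, IntermediateField.mem_adjoin_simple_self ℚ ζ⟩ :
      IntermediateField.adjoin ℚ ({ζ} : Set ℂ)) ^ i, ?_⟩
    rw [map_pow, ← hi]
    rfl
  have hchar : Cfsg.IsCharacter G ρ.character := ⟨n, ρ, rfl⟩
  obtain ⟨d, Y, hY⟩ := KAff.of_isCharacter (K := IntermediateField.adjoin ℚ ({ζ} : Set ℂ)) hK hchar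
  have hdn : d = n := by
    have h1 := chr_one Y
    rw [hY, Representation.char_one] at h1
    simp only [Module.finrank_fin_fun] at h1
    exact_mod_cast h1.symm
  subst hdn
  obtain ⟨σ, hσ, hent⟩ := exists_complex_rep Y (d := d) (by simp)
  refine ⟨σ, Cfsg.Agent.Lib.Helper6.equiv_of_character_eq ρ σ (by rw [hσ, hY]), ?_⟩
  intro g i j
  obtain ⟨k, hk⟩ := hent g i j
  rw [hk]
  have hint : IsIntegral ℚ ζ := (hprim.isIntegral (Nat.pos_of_ne_zero hm0)).tower_top
  have h1 := IntermediateField.adjoin_simple_toSubalgebra_of_isAlgebraic hint.isAlgebraic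
  rw [← h1]
  exact k.2


end Cfsg.Agent.S0166
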