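import Cfsg.Statements.S0167
import Cfsg.Agent.Lib.Helper6.GenOrth
import Cfsg.Agent.Lib.Helper6.SecondOrth
import Cfsg.Agent.Lib.Helper6.Constituent

set_option autoImplicit false
open Cfsg

namespace Cfsg.Agent.S0167

/-- An element g of a finite group is a commutator if and only if the sum over the irreducible characters χ of χ g / χ 1 is nonzero. -/
theorem result {G : Type*} [Group G] [Finite G] (g : G) : (∃ a b : G, g = a * b * a⁻¹ * b⁻¹) ↔ ∑ᶠ χ : Cfsg.IrrCharacter G, (χ : G → ℂ) g / (χ : G → ℂ) 1 ≠ 0 := by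
  classical
  have : Fintype G := Fintype.ofFinite G
  have : Fintype (Cfsg.IrrCharacter G) := Fintype.ofFinite _
  rw [finsum_eq_sum_of_fintype]
  have hG := Cfsg.Agent.Lib.Helper6.card_ne_zero_complex G
  let t : G → G → ℕ := fun b a =>
    if IsConj (a * b * a⁻¹ * b⁻¹) g then
      Nat.card (Subgroup.centralizer ({a * b * a⁻¹ * b⁻¹} : Set G)) else 0
  have hcomm : ∀ χ : Cfsg.IrrCharacter G, ∑ b : G, ∑ a : G, (χ : G → ℂ) (a * b * a⁻¹ * b⁻¹)
      = (Nat.card G : ℂ) * (Nat.card G : ℂ) / (χ : G → ℂ) 1 := by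
    intro χ
    obtain ⟨n, ρ, hirr, hchar⟩ := χ.2
    rw [← hchar, Cfsg.Agent.Lib.Helper6.sum_character_commutator ρ, Representation.char_one]
  have hreal : ∀ χ : Cfsg.IrrCharacter G, (starRingEnd ℂ) ((χ : G → ℂ) 1) = (χ : G → ℂ) 1 := by
    intro χ
    rw [Cfsg.Agent.Lib.Helper6.IsCharacter.apply_one_eq_charDegree
      (Cfsg.Agent.Lib.Helper6.IsIrrCharacter.isCharacter χ.2), Complex.conj_natCast]
  have key : ((∑ b : G, ∑ a : G, t b a : ℕ) : ℂ)
      = (Nat.card G : ℂ) * (Nat.card G : ℂ) *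
        (starRingEnd ℂ) (∑ χ : Cfsg.IrrCharacter G, (χ : G → ℂ) g / (χ : G → ℂ) 1) := by
    have h1 : ∀ b a : G, ((t b a : ℕ) : ℂ) = ∑ χ : Cfsg.IrrCharacter G,
        (χ : G → ℂ) (a * b * a⁻¹ * b⁻¹) * (starRingEnd ℂ) ((χ : G → ℂ) g) := by
      intro b a
      have h2 := Cfsg.Agent.Lib.Helper6.sum_irr_mul_conj (a * b * a⁻¹ * b⁻¹) g
      simp only [t]
      split_ifs with hc
      · rw [h2.1 hc]
      · rw [h2.2 hc]; simp
    push_cast
    simp only [h1]
    rw [map_sum, Finset.mul_sum]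
    have h3 : ∑ b : G, ∑ a : G, ∑ χ : Cfsg.IrrCharacter G,
        (χ : G → ℂ) (a * b * a⁻¹ * b⁻¹) * (starRingEnd ℂ) ((χ : G → ℂ) g)
        = ∑ χ : Cfsg.IrrCharacter G, (∑ b : G, ∑ a : G, (χ : G → ℂ) (a * b * a⁻¹ * b⁻¹))
          * (starRingEnd ℂ) ((χ : G → ℂ) g) := by
      rw [Finset.sum_congr rfl (fun b _ => Finset.sum_comm), Finset.sum_comm]
      apply Finset.sum_congr rfl
      intro χ _
      rw [Finset.sum_mul]
      apply Finset.sum_congr rfl
      intro b _
      rw [Finset.sum_mul]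
    rw [h3]
    apply Finset.sum_congr rfl
    intro χ _
    rw [hcomm χ, map_div₀, hreal χ]
    ring
  constructor
  · rintro ⟨a, b, hab⟩
    intro hzero
    rw [hzero, map_zero, mul_zero] at key
    have h1 : (∑ b : G, ∑ a : G, t b a) = 0 := by exact_mod_cast key
    have h2 := (Finset.sum_eq_zero_iff.mp h1) b (Finset.mem_univ _)
    have h3 := (Finset.sum_eq_zero_iff.mp h2) a (Finset.mem_univ _)
    simp only [t] at h3
    rw [← hab, if_pos (IsConj.refl g)] at h3
    exact Nat.card_pos.ne' h3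
  · intro hne
    have h1 : (∑ b : G, ∑ a : G, t b a) ≠ 0 := by
      intro h0
      rw [h0] at key
      have h2 : (starRingEnd ℂ) (∑ χ : Cfsg.IrrCharacter G, (χ : G → ℂ) g / (χ : G → ℂ) 1) = 0 := by
        have h3 : (Nat.card G : ℂ) * (Nat.card G : ℂ) ≠ 0 := mul_ne_zero hG hG
        have h4 := key.symm
        rw [Nat.cast_zero] at h4
        rcases mul_eq_zero.mp h4 with h | h
        · exact absurd h h3
        · exact h
      apply hne
      have := congrArg (starRingEnd ℂ) h2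
      simpa using this
    obtain ⟨b, _, hb⟩ := Finset.exists_ne_zero_of_sum_ne_zero h1
    obtain ⟨a, _, ha⟩ := Finset.exists_ne_zero_of_sum_ne_zero hb
    simp only [t] at ha
    have hc : IsConj (a * b * a⁻¹ * b⁻¹) g := by
      by_contra hc
      rw [if_neg hc] at ha
      exact ha rfl
    obtain ⟨c, hc⟩ := isConj_iff.mp hc
    refine ⟨c * a * c⁻¹, c * b * c⁻¹, ?_⟩
    rw [← hc]
    group

end Cfsg.Agent.S0167
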