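import Cfsg.Statements.S0168
import Cfsg.Agent.Lib.Helper6.Constituent
import Cfsg.Agent.Lib.Helper6.CharBasic

set_option autoImplicit false
open Cfsg

namespace Cfsg.Agent.S0168

/-- The Burnside–Brauer Theorem. Let χ be the character of a faithful complex representation of a finite group, taking m distinct values. Then every irreducible character has nonzero inner product with χ ^ i for some i < m. -/
theorem result {G : Type*} [Group G] [Fintype G] {V : Type*} [AddCommGroup V] [Module ℂ V] [FiniteDimensional ℂ V] (ρ : Representation ℂ G V) (hfaithful : Function.Injective ρ) (ψ : G → ℂ) (hψ : Cfsg.IsIrrCharacter G ψ) : ∃ i : ℕ, i < Nat.card (Set.range ρ.character) ∧ Cfsg.classInner (fun g => ρ.character g ^ i) ψ ≠ 0 := by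
  classical
  by_contra hcon
  push Not at hcon
  have hfin : Finite (Set.range ρ.character) := Set.finite_range _
  set m := Nat.card (Set.range ρ.character) with hm
  let e : Set.range ρ.character ≃ Fin m := Finite.equivFin _
  let a : Fin m → ℂ := fun j => ((e.symm j : Set.range ρ.character) : ℂ)
  have ha : Function.Injective a := by
    intro i j hij
    have : e.symm i = e.symm j := Subtype.ext hij
    exact e.symm.injective this
  let β : Fin m → ℂ := fun j =>
    ∑ g : G, if ρ.character g = a j then (starRingEnd ℂ) (ψ g) else 0
  have hG := Cfsg.Agent.Lib.Helper6.card_ne_zero_complex G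
  have hvec : Matrix.vecMul β (Matrix.vandermonde a) = 0 := by
    funext i
    have h1 := hcon i.1 i.2
    unfold Cfsg.classInner at h1
    have h2 : ∑ g : G, ρ.character g ^ (i : ℕ) * (starRingEnd ℂ) (ψ g) = 0 := by
      rcases mul_eq_zero.mp h1 with h | h
      · exact absurd (inv_eq_zero.mp h) hG
      · exact h
    simp only [Matrix.vecMul, dotProduct, Matrix.vandermonde_apply, Pi.zero_apply, β]
    have h3 : ∑ j : Fin m, (∑ g : G, if ρ.character g = a j then (starRingEnd ℂ) (ψ g) else 0)
          * a j ^ (i : ℕ)
        = ∑ g : G, ρ.character g ^ (i : ℕ) * (starRingEnd ℂ) (ψ g) := by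
      simp only [Finset.sum_mul]
      rw [Finset.sum_comm]
      apply Finset.sum_congr rfl
      intro g _
      have hj : ρ.character g = a (e ⟨ρ.character g, Set.mem_range_self g⟩) := by
        simp [a]
      rw [Finset.sum_eq_single (e ⟨ρ.character g, Set.mem_range_self g⟩)]
      · rw [if_pos hj, ← hj]
        ring
      · intro j _ hjne
        rw [if_neg, zero_mul]
        intro h
        apply hjne
        apply ha
        rw [← h, ← hj]
      · intro h
        exact absurd (Finset.mem_univ _) h
    rw [h3, h2]
  have hdet : (Matrix.vandermonde a).det ≠ 0 := Matrix.det_vandermonde_ne_zero_iff.mpr ha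
  have hβ : β = 0 := Matrix.eq_zero_of_vecMul_eq_zero hdet hvec
  -- evaluate at the index of `χ 1`
  let j₀ : Fin m := e ⟨ρ.character 1, Set.mem_range_self 1⟩
  have hj₀ : a j₀ = ρ.character 1 := by simp [a, j₀]
  have hβ0 : β j₀ = (starRingEnd ℂ) (ψ 1) := by
    simp only [β]
    rw [Finset.sum_eq_single (1 : G)]
    · rw [if_pos hj₀.symm]
    · intro g _ hg1
      rw [if_neg]
      intro h
      apply hg1
      rw [hj₀, Representation.char_one] at h
      have h3 := (Cfsg.Agent.Lib.Helper6.character_eq_finrank_iff ρ g).mp h
      apply hfaithful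
      rw [h3, map_one]; rfl
    · intro h
      exact absurd (Finset.mem_univ _) h
  have h4 : β j₀ = 0 := by rw [hβ]; rfl
  rw [hβ0] at h4
  have h5 := Cfsg.Agent.Lib.Helper6.IsIrrCharacter.apply_one_ne_zero hψ
  apply h5
  have := congrArg (starRingEnd ℂ) h4
  simpa using this

end Cfsg.Agent.S0168
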