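import Cfsg.Statements.S0198
import Mathlib
import Cfsg.Agent.Lib.Helper6.GenChar

set_option autoImplicit false
open Cfsg

namespace Cfsg.Agent.S0198

/-- The isometry lemma behind exceptional characters. Let τ be a family of generalized characters of a finite group G indexed by Fin n, with τ i₀ = 0, every τ i vanishing at the identity, and inner products ⟨τ i, τ j⟩ = 2 if i = j and 1 otherwise for i, j ≠ i₀. Then there are a sign ε and pairwise distinct irreducible characters μ i with τ i = ε (μ i − μ i₀) for all i. -/
theorem result {G : Type*} [Group G] [Fintype G] (n : ℕ) (i₀ : Fin n) (τ : Fin n → (G → ℂ)) (h0 : τ i₀ = 0) (hgen : ∀ i, Cfsg.IsGeneralizedCharacter G (τ i)) (hone : ∀ i, τ i 1 = 0) (hgram : ∀ i j, i ≠ i₀ → j ≠ i₀ → Cfsg.classInner (τ i) (τ j) = if i = j then 2 else 1) : ∃ ε : ℂ, (ε = 1 ∨ ε = -1) ∧ ∃ μ : Fin n → (G → ℂ), (∀ i, Cfsg.IsIrrCharacter G (μ i)) ∧ Function.Injective μ ∧ ∀ i, τ i = ε • (μ i - μ i₀) := by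
  classical
  have : Fintype (Cfsg.IrrCharacter G) := Fintype.ofFinite _
  let triv : Cfsg.IrrCharacter G := ⟨fun _ => 1, Cfsg.Agent.Lib.Helper6.isIrrCharacter_one⟩
  -- decomposition of each τ i
  have hdec' : ∀ i, ∃ x y : Cfsg.IrrCharacter G, i ≠ i₀ →
      (x ≠ y ∧ τ i = (x : G → ℂ) - (y : G → ℂ)) := by
    intro i
    by_cases h : i = i₀
    · exact ⟨triv, triv, fun h' => absurd h h'⟩
    · have hn : Cfsg.classInner (τ i) (τ i) = 2 := by
        rw [hgram i i h h, if_pos rfl]
      obtain ⟨x, y, hxy⟩ := Cfsg.Agent.Lib.Helper6.IsGeneralizedCharacter.eq_sub_of_norm_two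
        (hgen i) hn (hone i)
      exact ⟨x, y, fun _ => hxy⟩
  choose x y hxy using hdec'
  -- analysis of pairs
  have hpair : ∀ i j, i ≠ i₀ → j ≠ i₀ → i ≠ j →
      x i ≠ y j ∧ y i ≠ x j ∧ ((x i = x j ∧ y i ≠ y j) ∨ (y i = y j ∧ x i ≠ x j)) := by
    intro i j hi hj hij
    have h1 := hgram i j hi hj
    have hxi := (hxy i hi).1
    have hxj := (hxy j hj).1
    rw [if_neg hij, (hxy i hi).2, (hxy j hj).2, Cfsg.Agent.Lib.Helper6.classInner_sub_left,
      Cfsg.Agent.Lib.Helper6.classInner_sub_right, Cfsg.Agent.Lib.Helper6.classInner_sub_right,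
      Cfsg.Agent.Lib.Helper6.classInner_irrCharacter, Cfsg.Agent.Lib.Helper6.classInner_irrCharacter,
      Cfsg.Agent.Lib.Helper6.classInner_irrCharacter, Cfsg.Agent.Lib.Helper6.classInner_irrCharacter]
      at h1
    have nxy : x i ≠ y j := by
      intro e
      have n1 : x i ≠ x j := fun e' => hxj (e'.symm.trans e)
      have n2 : y i ≠ y j := fun e' => hxi (e.trans e'.symm)
      rw [if_neg n1, if_pos e, if_neg n2] at h1
      by_cases e3 : y i = x j
      · rw [if_pos e3] at h1; norm_num at h1
      · rw [if_neg e3] at h1; norm_num at h1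
    have nyx : y i ≠ x j := by
      intro e
      have n1 : x i ≠ x j := fun e' => hxi (e'.trans e.symm)
      have n2 : y i ≠ y j := fun e' => hxj (e.symm.trans e')
      rw [if_neg n1, if_neg nxy, if_pos e, if_neg n2] at h1
      norm_num at h1
    refine ⟨nxy, nyx, ?_⟩
    rw [if_neg nxy, if_neg nyx] at h1
    by_cases e1 : x i = x j
    · left
      refine ⟨e1, ?_⟩
      intro e2
      rw [if_pos e1, if_pos e2] at h1
      norm_num at h1
    · right
      rw [if_neg e1] at h1
      by_cases e2 : y i = y j
      · exact ⟨e2, e1⟩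
      · rw [if_neg e2] at h1
        norm_num at h1
  -- global consistency
  by_cases hX : ∀ i j, i ≠ i₀ → j ≠ i₀ → i ≠ j → x i = x j
  · -- all positive parts agree
    let a : Cfsg.IrrCharacter G := if h : ∃ i, i ≠ i₀ then x h.choose else triv
    have ha : ∀ i, i ≠ i₀ → x i = a := by
      intro i hi
      have hex : ∃ i, i ≠ i₀ := ⟨i, hi⟩
      simp only [a, dif_pos hex]
      by_cases e : i = hex.choose
      · rw [← e]
      · exact hX i hex.choose hi hex.choose_spec e
    refine ⟨-1, Or.inr rfl, fun i => if i = i₀ then (a : G → ℂ) else (y i : G → ℂ), ?_, ?_, ?_⟩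
    · intro i
      simp only
      split_ifs
      · exact a.2
      · exact (y i).2
    · intro i j hij
      simp only at hij
      by_contra hne
      by_cases hi : i = i₀
      · have hj : j ≠ i₀ := fun h => hne (hi.trans h.symm)
        rw [if_pos hi, if_neg hj] at hij
        have h1 : a = y j := Subtype.ext hij
        rw [← ha j hj] at h1
        exact (hxy j hj).1 h1
      · by_cases hj : j = i₀
        · rw [if_neg hi, if_pos hj] at hij
          have h1 : y i = a := Subtype.ext hij
          rw [← ha i hi] at h1
          exact (hxy i hi).1 h1.symm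
        · rw [if_neg hi, if_neg hj] at hij
          have h1 : y i = y j := Subtype.ext hij
          rcases (hpair i j hi hj hne).2.2 with h2 | h2
          · exact h2.2 h1
          · exact h2.2 (hX i j hi hj hne)
    · intro i
      simp only
      by_cases hi : i = i₀
      · rw [if_pos hi, if_true, hi, h0, sub_self, smul_zero]
      · rw [if_neg hi, if_true, (hxy i hi).2, ha i hi]
        ext g
        simp
  · -- some pair has different positive parts: then all negative parts agree
    push Not at hX
    obtain ⟨i₁, j₁, hi₁, hj₁, hij₁, hne₁⟩ := hX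
    have hY₁ : y i₁ = y j₁ := by
      rcases (hpair i₁ j₁ hi₁ hj₁ hij₁).2.2 with h | h
      · exact absurd h.1 hne₁
      · exact h.1
    have hYall : ∀ k, k ≠ i₀ → y k = y i₁ := by
      intro k hk
      by_cases e1 : k = i₁
      · rw [e1]
      · by_cases e2 : k = j₁
        · rw [e2, hY₁]
        · -- k different from both
          rcases (hpair k i₁ hk hi₁ e1).2.2 with h | h
          · -- x k = x i₁
            rcases (hpair k j₁ hk hj₁ e2).2.2 with h' | h'
            · exact absurd (h.1.symm.trans h'.1) hne₁
            · exfalso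
              apply h.2
              rw [h'.1, hY₁]
          · exact h.1
    let b : Cfsg.IrrCharacter G := y i₁
    refine ⟨1, Or.inl rfl, fun i => if i = i₀ then (b : G → ℂ) else (x i : G → ℂ), ?_, ?_, ?_⟩
    · intro i
      simp only
      split_ifs
      · exact b.2
      · exact (x i).2
    · intro i j hij
      simp only at hij
      by_contra hne
      by_cases hi : i = i₀
      · have hj : j ≠ i₀ := fun h => hne (hi.trans h.symm)
        rw [if_pos hi, if_neg hj] at hij
        have h1 : b = x j := Subtype.ext hij
        have h2 : y j = x j := (hYall j hj).trans h1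
        exact (hxy j hj).1 h2.symm
      · by_cases hj : j = i₀
        · rw [if_neg hi, if_pos hj] at hij
          have h1 : x i = b := Subtype.ext hij
          have h2 : x i = y i := h1.trans (hYall i hi).symm
          exact (hxy i hi).1 h2
        · rw [if_neg hi, if_neg hj] at hij
          have h1 : x i = x j := Subtype.ext hij
          rcases (hpair i j hi hj hne).2.2 with h2 | h2
          · apply h2.2
            rw [hYall i hi, hYall j hj]
          · exact h2.2 h1
    · intro i
      simp only
      by_cases hi : i = i₀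
      · rw [if_pos hi, if_true, hi, h0, sub_self, smul_zero]
      · rw [if_neg hi, if_true, (hxy i hi).2, hYall i hi, one_smul]


end Cfsg.Agent.S0198
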