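import Cfsg.Statements.S0170
import Mathlib
import Cfsg.Agent.Lib.Helper6.IndLinear
import Cfsg.Agent.Lib.Helper6.Constituent
import Cfsg.Agent.S0150
import Cfsg.Agent.S0198

set_option autoImplicit false
open Cfsg

namespace Cfsg.Agent.S0170

/-- Exceptional characters. Let S be a subset of a finite group contained in its normalizer N and meeting its conjugates by elements outside N only in the identity. Given n ≥ 2 distinct irreducible characters of N of equal degree that vanish on N away from S, there exist a sign ε and n distinct irreducible characters θ_i of G such that inducing χ_i − χ_j to G gives ε (θ_i − θ_j) for all i, j. -/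
theorem result {G : Type*} [Group G] [Fintype G] (S : Set G) (hSN : S ⊆ Subgroup.normalizer S) (hTI : ∀ g : G, g ∉ Subgroup.normalizer S → ∀ s ∈ S, g * s * g⁻¹ ∈ S → s = 1) (n : ℕ) (hn : 2 ≤ n) (χ : Fin n → (Subgroup.normalizer S → ℂ)) (hirr : ∀ i, Cfsg.IsIrrCharacter (Subgroup.normalizer S) (χ i)) (hinj : Function.Injective χ) (hvan : ∀ i, ∀ x : Subgroup.normalizer S, (x : G) ∉ S → χ i x = 0) (hdeg : ∀ i j, χ i 1 = χ j 1) : ∃ ε : ℂ, (ε = 1 ∨ ε = -1) ∧ ∃ θ : Fin n → (G → ℂ), (∀ i, Cfsg.IsIrrCharacter G (θ i)) ∧ Function.Injective θ ∧ ∀ i j, Cfsg.indFun (Subgroup.normalizer S) (χ i) - Cfsg.indFun (Subgroup.normalizer S) (χ j) = ε • (θ i - θ j) := by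
  classical
  have : Fintype (Subgroup.normalizer S) := Fintype.ofFinite _
  let i₀ : Fin n := ⟨0, by omega⟩
  have hirrcf : ∀ i, Cfsg.IsClassFunction (Subgroup.normalizer S) (χ i) :=
    fun i => Cfsg.Agent.Lib.Helper6.IsIrrCharacter.isClassFunction (hirr i)
  have hirrch : ∀ i, Cfsg.IsCharacter (Subgroup.normalizer S) (χ i) :=
    fun i => Cfsg.Agent.Lib.Helper6.IsIrrCharacter.isCharacter (hirr i)
  -- the differences
  have hdcf : ∀ i, Cfsg.IsClassFunction (Subgroup.normalizer S) (χ i - χ i₀) :=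
    fun i => Cfsg.Agent.Lib.Helper6.isClassFunction_sub (hirrcf i) (hirrcf i₀)
  have hdvan : ∀ i, ∀ x : Subgroup.normalizer S, (x : G) ∉ S → (χ i - χ i₀) x = 0 := by
    intro i x hx
    rw [Pi.sub_apply, hvan i x hx, hvan i₀ x hx, sub_zero]
  have hd1 : ∀ i, (χ i - χ i₀) 1 = 0 := by
    intro i
    rw [Pi.sub_apply, hdeg i i₀, sub_self]
  let τ : Fin n → (G → ℂ) := fun i => Cfsg.indFun (Subgroup.normalizer S) (χ i - χ i₀)
  have hτ0 : τ i₀ = 0 := by
    simp only [τ]
    rw [sub_self]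
    exact Cfsg.Agent.Lib.Helper6.indFun_zero _
  have hτgen : ∀ i, Cfsg.IsGeneralizedCharacter G (τ i) := by
    intro i
    refine ⟨Cfsg.indFun (Subgroup.normalizer S) (χ i), Cfsg.indFun (Subgroup.normalizer S) (χ i₀),
      Cfsg.Agent.Lib.Helper6.IsCharacter.indFun _ (hirrch i),
      Cfsg.Agent.Lib.Helper6.IsCharacter.indFun _ (hirrch i₀), ?_⟩
    exact Cfsg.Agent.Lib.Helper6.indFun_sub _ _ _
  have hτ1 : ∀ i, τ i 1 = 0 := by
    intro i
    simp only [τ]
    rw [Cfsg.Agent.Lib.Helper6.indFun_one, hd1 i, mul_zero]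
  have hgram : ∀ i j, i ≠ i₀ → j ≠ i₀ →
      Cfsg.classInner (τ i) (τ j) = if i = j then 2 else 1 := by
    intro i j hi hj
    simp only [τ]
    rw [Cfsg.Agent.S0150.result S hTI hSN (χ i - χ i₀) (χ j - χ i₀) (hdcf i) (hdcf j)
      (hdvan i) (hdvan j) (hd1 i)]
    rw [Cfsg.Agent.Lib.Helper6.classInner_sub_left, Cfsg.Agent.Lib.Helper6.classInner_sub_right,
      Cfsg.Agent.Lib.Helper6.classInner_sub_right,
      Cfsg.Agent.Lib.Helper6.classInner_isIrrCharacter (hirr i) (hirr j),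
      Cfsg.Agent.Lib.Helper6.classInner_isIrrCharacter (hirr i) (hirr i₀),
      Cfsg.Agent.Lib.Helper6.classInner_isIrrCharacter (hirr i₀) (hirr j),
      Cfsg.Agent.Lib.Helper6.classInner_isIrrCharacter (hirr i₀) (hirr i₀), if_pos rfl,
      if_neg (fun h => hi (hinj h)), if_neg (fun h => hj (hinj h).symm)]
    by_cases hij : i = j
    · rw [if_pos hij, if_pos (congrArg χ hij)]
      norm_num
    · rw [if_neg hij, if_neg (fun h => hij (hinj h))]
      norm_num
  obtain ⟨ε, hε, μ, hμirr, hμinj, hμ⟩ := Cfsg.Agent.S0198.result n i₀ τ hτ0 hτgen hτ1 hgram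
  refine ⟨ε, hε, μ, hμirr, hμinj, ?_⟩
  intro i j
  have h1 : χ i - χ j = (χ i - χ i₀) - (χ j - χ i₀) := by ring
  rw [← Cfsg.Agent.Lib.Helper6.indFun_sub, h1, Cfsg.Agent.Lib.Helper6.indFun_sub]
  change τ i - τ j = ε • (μ i - μ j)
  rw [hμ i, hμ j, ← smul_sub]
  congr 1
  ring


end Cfsg.Agent.S0170
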