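import Cfsg.Statements.S0171
import Cfsg.Agent.Lib.Helper6.Frobenius
import Cfsg.Agent.S0193

set_option autoImplicit false
open Cfsg

namespace Cfsg.Agent.S0171

/-- Let G = K H with K normal, K ⊓ H trivial, and no non-identity element of H commuting with a non-identity element of K (a Frobenius group with kernel K and complement H). Then every non-principal irreducible character of K induces to an irreducible character of G. -/
theorem result {G : Type*} [Group G] [Fintype G] (K H : Subgroup G) [K.Normal] (hKH : K ⊓ H = ⊥) (hKH' : K ⊔ H = ⊤) (hfpf : ∀ h ∈ H, h ≠ 1 → ∀ k ∈ K, h * k = k * h → k = 1) (τ : K → ℂ) (hτ : Cfsg.IsIrrCharacter K τ) (hτ1 : τ ≠ fun _ => 1) : Cfsg.IsIrrCharacter G (Cfsg.indFun K τ) := by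
  classical
  have hK : K.Normal := inferInstance
  have : Fintype K := Fintype.ofFinite K
  have hKc := Cfsg.Agent.Lib.Helper6.card_ne_zero_complex K
  have hτcf := Cfsg.Agent.Lib.Helper6.IsIrrCharacter.isClassFunction hτ
  apply Cfsg.Agent.Lib.Helper6.isIrrCharacter_of_classInner_self_eq_one
    (Cfsg.Agent.Lib.Helper6.IsCharacter.indFun K (Cfsg.Agent.Lib.Helper6.IsIrrCharacter.isCharacter hτ))
  have h193 := Cfsg.Agent.S0193.result K τ hτ
  have hstab : ∀ g : G, (∀ k : K, τ ⟨g * k * g⁻¹, hK.conj_mem k k.2 g⟩ = τ k) ↔ g ∈ K := by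
    intro g
    constructor
    · intro hfix
      by_contra hgK
      have hg : g ∈ ((K ⊔ H : Subgroup G) : Set G) := by rw [hKH']; trivial
      rw [Subgroup.normal_mul] at hg
      obtain ⟨k, hk, h, hh, rfl⟩ := Set.mem_mul.mp hg
      have hne : h ≠ 1 := by
        intro h1
        apply hgK
        rw [h1, mul_one]
        exact hk
      have h2 : Cfsg.Agent.Lib.Helper6.conjFun K hK τ (k * h) = τ := by
        funext x
        exact hfix x
      rw [← Cfsg.Agent.Lib.Helper6.conjFun_conjFun,
        Cfsg.Agent.Lib.Helper6.conjFun_of_mem K hK hτcf hk] at h2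
      exact Cfsg.Agent.Lib.Helper6.conjFun_ne_of_fixedPointFree K hK h (hfpf h hh hne) hτ hτ1 h2
    · intro hg k
      have := Cfsg.Agent.Lib.Helper6.conjFun_of_mem K hK hτcf hg
      exact congrFun this k
  have hcard : Nat.card {g : G // ∀ k : K, τ ⟨g * k * g⁻¹, hK.conj_mem k k.2 g⟩ = τ k}
      = Nat.card K := by
    apply Nat.card_congr
    exact Equiv.subtypeEquivRight hstab
  rw [hcard] at h193
  have := mul_left_cancel₀ hKc (h193.trans (mul_one _).symm)
  exact this

end Cfsg.Agent.S0171
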