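import Cfsg.Statements.S0175
import Mathlib
import Cfsg.Agent.Lib.Helper6.Taketa
import Cfsg.Agent.Lib.Helper6.Mult

set_option autoImplicit false
open Cfsg

namespace Cfsg.Agent.S0175

open Cfsg.Agent.Lib.Helper6

theorem aux {G : Type*} [Group G] [Fintype G] (hM : ∀ χ : G → ℂ, Cfsg.IsIrrCharacter G χ → ∃ (H : Subgroup G) (lam : H →* ℂˣ), χ = Cfsg.indFun H (fun h => (lam h : ℂ))) (d : ℕ) :
    ∃ m : ℕ, ∀ χ : G → ℂ, Cfsg.IsIrrCharacter G χ → Cfsg.charDegree χ ≤ d →
      ∀ g ∈ derivedSeries G m, χ g = χ 1 := by
  classical
  induction d with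
  | zero =>
    refine ⟨0, ?_⟩
    intro χ hχ hd
    have := IsIrrCharacter.charDegree_pos hχ
    omega
  | succ d ih =>
    obtain ⟨m, hm⟩ := ih
    refine ⟨m + 1, ?_⟩
    intro χ hχ hd g hg
    rcases Nat.lt_or_ge (Cfsg.charDegree χ) (d + 1) with hlt | hge
    · exact hm χ hχ (by omega) g (derivedSeries_antitone G (Nat.le_succ m) hg)
    · have hdeg : Cfsg.charDegree χ = d + 1 := le_antisymm hd hge
      obtain ⟨H, lam, hχeq⟩ := hM χ hχ
      have hχ1 : χ 1 = (H.index : ℂ) := by
        rw [hχeq, indFun_one]
        simp
      have hidx : H.index = d + 1 := by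
        have h1 := IsCharacter.apply_one_eq_charDegree (IsIrrCharacter.isCharacter hχ)
        rw [hχ1, hdeg] at h1
        exact_mod_cast h1
      set N := derivedSeries G m with hN
      have hNn : N.Normal := derivedSeries_normal G m
      -- the permutation character
      set A := Cfsg.indFun H (fun _ => (1 : ℂ)) with hAdef
      have hA : Cfsg.IsCharacter G A := IsCharacter.indFun H isCharacter_one
      have hA1 : A 1 = (H.index : ℂ) := by
        rw [hAdef, indFun_one]
        simp
      have hAdeg : Cfsg.charDegree A = d + 1 := by
        have h1 := IsCharacter.apply_one_eq_charDegree hA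
        rw [hA1, hidx] at h1
        exact_mod_cast h1.symm
      have hA1G : Cfsg.classInner A (fun _ => (1 : ℂ)) = 1 := by
        have : Fintype H := Fintype.ofFinite H
        rw [hAdef, Cfsg.Agent.S0146.result H _ _ (IsCharacter.isClassFunction isCharacter_one)]
        unfold Cfsg.classInner
        simp
      have hNH : N ≤ H := by
        by_cases htop : H = ⊤
        · rw [htop]; exact le_top
        · intro x hx
          apply mem_of_indFun_one_eq_index
          rw [← hA1]
          apply IsCharacter.apply_eq_apply_one_of_constituents hA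
          intro θ hθ
          apply hm θ θ.2 _ x hx
          have hle := IsCharacter.charDegree_le hA θ.2 hθ
          rw [hAdeg] at hle
          by_contra hnot
          have hθdeg : Cfsg.charDegree (θ : G → ℂ) = d + 1 := by omega
          have hAθ : A = θ := by
            apply IsCharacter.eq_of_constituent_of_apply_one_eq hA θ.2 hθ
            rw [IsCharacter.apply_one_eq_charDegree hA,
              IsCharacter.apply_one_eq_charDegree (IsIrrCharacter.isCharacter θ.2), hAdeg, hθdeg]
          have hθ1 : (θ : G → ℂ) = fun _ => (1 : ℂ) := by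
            by_contra hne
            have := classInner_isIrrCharacter θ.2 (isIrrCharacter_one (G := G))
            rw [if_neg hne, ← hAθ, hA1G] at this
            exact one_ne_zero this
          have h1 : (H.index : ℂ) = 1 := by
            rw [← hA1, hAθ, hθ1]
          have h2 : H.index = 1 := by exact_mod_cast h1
          exact htop (Subgroup.index_eq_one.mp h2)
      -- the next derived subgroup
      have hNn' : (derivedSeries G (m + 1)).Normal := derivedSeries_normal G (m + 1)
      have hle : derivedSeries G (m + 1) ≤ H :=
        (derivedSeries_antitone G (Nat.le_succ m)).trans hNH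
      rw [hχeq]
      apply indFun_linear_apply_of_mem_normal H lam (derivedSeries G (m + 1)) hle _ hg
      intro n hn
      exact linear_commutator_eq_one H lam N hNH n hn

/-- Taketa's Theorem on M-groups: if every irreducible complex character of a finite group is induced from a linear character (a homomorphism to ℂˣ) of some subgroup, the group is solvable. -/
theorem result {G : Type*} [Group G] [Fintype G] (hM : ∀ χ : G → ℂ, Cfsg.IsIrrCharacter G χ → ∃ (H : Subgroup G) (lam : H →* ℂˣ), χ = Cfsg.indFun H (fun h => (lam h : ℂ))) : Group.IsSolvable G := by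
  classical
  have : Fintype (Cfsg.IrrCharacter G) := Fintype.ofFinite _
  obtain ⟨m, hm⟩ := aux hM (Finset.univ.sup (fun χ : Cfsg.IrrCharacter G => Cfsg.charDegree (χ : G → ℂ)))
  rw [Group.isSolvable_def]
  refine ⟨m, ?_⟩
  rw [eq_bot_iff]
  intro g hg
  rw [Subgroup.mem_bot]
  have hconj : IsConj g 1 := by
    rw [isConj_iff_forall_irr]
    intro χ
    exact hm χ χ.2 (Finset.le_sup (f := fun χ : Cfsg.IrrCharacter G => Cfsg.charDegree (χ : G → ℂ)) (Finset.mem_univ χ)) g hg
  exact isConj_one_left.mp hconj

end Cfsg.Agent.S0175
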