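import Mathlib
import Cfsg.Statements.S0178
import Cfsg.Agent.Lib.Helper6.Constituent

set_option autoImplicit false
open Cfsg

namespace Cfsg.Agent.S0178

open Cfsg.Agent.Lib.Helper6

theorem apply_one_of_comm {G : Type*} [Group G] [Finite G] (hcomm : ∀ a b : G, a * b = b * a)
    (χ : Cfsg.IrrCharacter G) : (χ : G → ℂ) 1 = 1 := by
  obtain ⟨n, ρ, hρ, hχ⟩ := χ.2
  have : IsMulCommutative G := ⟨⟨hcomm⟩⟩
  rw [← hχ, Representation.char_one,
    Representation.IsIrreducible.finrank_eq_one_of_isMulCommutative ρ]
  simp

/-- The degree of an irreducible complex representation of a finite group is at most the index of any abelian subgroup. -/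
theorem result {G : Type*} [Group G] [Finite G] {V : Type*} [AddCommGroup V] [Module ℂ V] [FiniteDimensional ℂ V] (ρ : Representation ℂ G V) [ρ.IsIrreducible] (A : Subgroup G) (hA : ∀ a ∈ A, ∀ b ∈ A, a * b = b * a) : Module.finrank ℂ V ≤ A.index := by
  classical
  have : Fintype G := Fintype.ofFinite G
  have : Fintype A := Fintype.ofFinite A
  have hχ : Cfsg.IsIrrCharacter G ρ.character := isIrrCharacter_character ρ
  have hres : Cfsg.IsCharacter A (fun a : A => ρ.character a) :=
    IsCharacter.restrict A (IsIrrCharacter.isCharacter hχ)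
  have hres1 : (fun a : A => ρ.character a) 1 ≠ 0 := by
    show ρ.character ((1 : A) : G) ≠ 0
    rw [Subgroup.coe_one]
    exact IsIrrCharacter.apply_one_ne_zero hχ
  obtain ⟨lam, hlam⟩ := IsCharacter.exists_constituent hres hres1
  have hlam1 : (lam : A → ℂ) 1 = 1 := by
    apply apply_one_of_comm
    intro a b
    exact Subtype.ext (hA a a.2 b b.2)
  have hind : Cfsg.IsCharacter G (Cfsg.indFun A (lam : A → ℂ)) :=
    IsCharacter.indFun A (IsIrrCharacter.isCharacter lam.2)
  have hinner : Cfsg.classInner (Cfsg.indFun A (lam : A → ℂ)) ρ.character ≠ 0 := by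
    rw [Cfsg.Agent.S0146.result A _ _ (IsIrrCharacter.isClassFunction hχ),
      ← classInner_conj_symm]
    intro h
    apply hlam
    have := congrArg (starRingEnd ℂ) h
    simpa using this
  have hle := IsCharacter.charDegree_le hind hχ hinner
  have h1 : (Cfsg.charDegree ρ.character : ℂ) = (Module.finrank ℂ V : ℂ) := by
    rw [← IsCharacter.apply_one_eq_charDegree (IsIrrCharacter.isCharacter hχ),
      Representation.char_one]
  have h2 : (Cfsg.charDegree (Cfsg.indFun A (lam : A → ℂ)) : ℂ) = (A.index : ℂ) := by
    rw [← IsCharacter.apply_one_eq_charDegree hind, indFun_one, hlam1, mul_one]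
  have h1' : Cfsg.charDegree ρ.character = Module.finrank ℂ V := by exact_mod_cast h1
  have h2' : Cfsg.charDegree (Cfsg.indFun A (lam : A → ℂ)) = A.index := by exact_mod_cast h2
  rw [← h1', ← h2']
  exact hle

end Cfsg.Agent.S0178
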