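import Cfsg.Statements.S0180
import Mathlib
import Cfsg.Agent.Lib.Helper3.GaloisRat
import Cfsg.Agent.Lib.Helper6.SecondOrth
import Cfsg.Agent.Lib.Helper6.RepBasic
-- import your own Cfsg.Agent.* helpers here

set_option autoImplicit false
open Cfsg

namespace Cfsg.Agent.S0180

open Cfsg.Agent.Lib.Helper6 Cfsg.Agent.Lib.Helper3.GaloisRat


theorem result' {G : Type*} [Group G] [Finite G] : (∀ χ : Cfsg.IrrCharacter G, ∀ g : G, ∃ q : ℚ, (χ : G → ℂ) g = (q : ℂ)) ↔ ∀ m : ℕ, m.Coprime (Nat.card G) → ∀ g : G, IsConj g (g ^ m) := by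
  classical
  haveI : Fintype G := Fintype.ofFinite G
  constructor
  · intro h m hm g
    rw [isConj_iff_forall_irr]
    intro χ
    exact (((character_rational_iff_coprime (IsIrrCharacter.isCharacter χ.2) g).mp (h χ g)) m hm).symm
  · intro h χ g
    rw [character_rational_iff_coprime (IsIrrCharacter.isCharacter χ.2) g]
    intro m hm
    have hc := (IsIrrCharacter.isClassFunction χ.2)
    obtain ⟨c, hc'⟩ := isConj_iff.mp (h m hm g)
    rw [← hc', hc]





/-- Every irreducible complex character of a finite group takes only rational values if and only if g is conjugate to g ^ m for every element g and every m coprime to the group order. -/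
theorem result {G : Type*} [Group G] [Finite G] : (∀ χ : Cfsg.IrrCharacter G, ∀ g : G, ∃ q : ℚ, (χ : G → ℂ) g = (q : ℂ)) ↔ ∀ m : ℕ, m.Coprime (Nat.card G) → ∀ g : G, IsConj g (g ^ m) := by
  exact result'

end Cfsg.Agent.S0180
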