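import Cfsg.Statements.S0181
import Cfsg.Agent.Lib.Helper6.Schur

set_option autoImplicit false
open Cfsg

namespace Cfsg.Agent.S0181

/-- Let H be a normal subgroup of a finite group G and ρ an irreducible complex representation whose kernel does not contain H. If g commutes with no non-identity element of H, then the character of ρ vanishes at g. -/
theorem result {G : Type*} [Group G] [Finite G] {V : Type*} [AddCommGroup V] [Module ℂ V] [FiniteDimensional ℂ V] (ρ : Representation ℂ G V) [ρ.IsIrreducible] (H : Subgroup G) [H.Normal] (hker : ∃ h ∈ H, ρ h ≠ LinearMap.id) (g : G) (hg : ∀ h ∈ H, h * g = g * h → h = 1) : ρ.character g = 0 := by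
  classical
  have : Fintype G := Fintype.ofFinite G
  have : Fintype H := Fintype.ofFinite H
  obtain ⟨h₀, hh₀, hne⟩ := hker
  -- the sum over `H`
  let E : Module.End ℂ V := ∑ h : H, ρ (h : G)
  have hEcomm : ∀ x : G, E * ρ x = ρ x * E := by
    intro x
    have hconj : ∀ h : H, x * (h : G) * x⁻¹ ∈ H := fun h => ‹H.Normal›.conj_mem h h.2 x
    let φ : H ≃ H :=
      { toFun := fun h => ⟨x * h * x⁻¹, hconj h⟩
        invFun := fun h => ⟨x⁻¹ * h * x, by
          have := ‹H.Normal›.conj_mem h h.2 x⁻¹
          simpa using this⟩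
        left_inv := fun h => by
          apply Subtype.ext
          simp [mul_assoc]
        right_inv := fun h => by
          apply Subtype.ext
          simp [mul_assoc] }
    have h1 : ρ x * E = ∑ h : H, ρ (x * (h : G)) := by
      simp only [E, Finset.mul_sum]
      apply Finset.sum_congr rfl
      intro h _
      rw [map_mul]
    have h2 : E * ρ x = ∑ h : H, ρ ((h : G) * x) := by
      simp only [E, Finset.sum_mul]
      apply Finset.sum_congr rfl
      intro h _
      rw [map_mul]
    rw [h1, h2]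
    rw [← Equiv.sum_comp φ (fun h : H => ρ ((h : G) * x))]
    apply Finset.sum_congr rfl
    intro h _
    congr 1
    simp [φ, mul_assoc]
  obtain ⟨c, hc⟩ := Cfsg.Agent.Lib.Helper6.exists_smul_id_of_comm ρ E hEcomm
  have hEmul : ∀ h' : H, E * ρ (h' : G) = E := by
    intro h'
    simp only [E, Finset.sum_mul]
    rw [← Equiv.sum_comp (Equiv.mulRight h') (fun h : H => ρ (h : G))]
    apply Finset.sum_congr rfl
    intro h _
    simp only [Equiv.coe_mulRight, Subgroup.coe_mul, map_mul]
  have hc0 : c = 0 := by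
    by_contra hc0
    apply hne
    have := hEmul ⟨h₀, hh₀⟩
    rw [hc] at this
    have h3 : c • ρ h₀ = c • (LinearMap.id : V →ₗ[ℂ] V) := by
      rw [← this]
      ext v
      simp
    exact smul_right_injective _ hc0 h3
  have hE0 : E = 0 := by rw [hc, hc0, zero_smul]
  -- the commutator map on `H`
  have hmem : ∀ h : H, (h : G)⁻¹ * (g * h * g⁻¹) ∈ H := fun h =>
    H.mul_mem (H.inv_mem h.2) (‹H.Normal›.conj_mem h h.2 g)
  let ψ : H → H := fun h => ⟨(h : G)⁻¹ * (g * h * g⁻¹), hmem h⟩
  have hψinj : Function.Injective ψ := by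
    intro h1 h2 h12
    have h4 : (h1 : G)⁻¹ * (g * h1 * g⁻¹) = (h2 : G)⁻¹ * (g * h2 * g⁻¹) :=
      congrArg Subtype.val h12
    have h5 : ((h2 : G) * (h1 : G)⁻¹) * g = g * ((h2 : G) * (h1 : G)⁻¹) := by
      have h6 : (h1 : G)⁻¹ * g * h1 = (h2 : G)⁻¹ * g * h2 := by
        have := congrArg (fun t => t * g) h4
        simpa [mul_assoc] using this
      calc ((h2 : G) * (h1 : G)⁻¹) * g = h2 * ((h1 : G)⁻¹ * g * h1) * (h1 : G)⁻¹ := by group
        _ = h2 * ((h2 : G)⁻¹ * g * h2) * (h1 : G)⁻¹ := by rw [h6]
        _ = g * ((h2 : G) * (h1 : G)⁻¹) := by group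
    have h7 := hg _ (H.mul_mem h2.2 (H.inv_mem h1.2)) h5
    apply Subtype.ext
    have : (h2 : G) = h1 := by
      calc (h2 : G) = ((h2 : G) * (h1 : G)⁻¹) * h1 := by group
        _ = h1 := by rw [h7, one_mul]
    exact this.symm
  have hψbij : Function.Bijective ψ := Finite.injective_iff_bijective.mp hψinj
  let ψe : H ≃ H := Equiv.ofBijective ψ hψbij
  have hsum : ∑ h : H, ρ ((h : G)⁻¹ * g * h) = E * ρ g := by
    simp only [E, Finset.sum_mul]
    rw [← Equiv.sum_comp ψe (fun h : H => ρ (h : G) * ρ g)]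
    apply Finset.sum_congr rfl
    intro h _
    rw [← map_mul]
    congr 1
    simp [ψe, ψ, mul_assoc]
  rw [hE0, zero_mul] at hsum
  have htr := congrArg (LinearMap.trace ℂ V) hsum
  rw [map_sum, map_zero] at htr
  have hcl : ∀ h : H, LinearMap.trace ℂ V (ρ ((h : G)⁻¹ * g * h)) = ρ.character g := by
    intro h
    have := Representation.char_conj ρ g (h : G)⁻¹
    simpa [Representation.character] using this
  rw [Finset.sum_congr rfl (fun h _ => hcl h), Finset.sum_const, nsmul_eq_mul] at htr
  rcases mul_eq_zero.mp htr with h0 | h0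
  · exfalso
    have : (Finset.univ : Finset H).card ≠ 0 := Finset.card_ne_zero.mpr ⟨1, Finset.mem_univ _⟩
    exact this (by exact_mod_cast h0)
  · exact h0

end Cfsg.Agent.S0181
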