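import Cfsg.Statements.S0184
import Mathlib
import Cfsg.Agent.Lib.Helper6.Schur
import Cfsg.Agent.Lib.Helper6.CenterIndex
import Cfsg.Agent.Lib.Helper6.SecondOrth
import Cfsg.Agent.Lib.Helper6.Mult
import Cfsg.Agent.Lib.Helper6.Kernel
import Cfsg.Agent.Lib.Helper6.CyclicSub

set_option autoImplicit false
open Cfsg

namespace Cfsg.Agent.S0184

open Cfsg.Agent.Lib.Helper6

theorem forward {G : Type*} [Group G] [Finite G] (n : ℕ)
    (ρ : Representation ℂ G (Fin n → ℂ)) (hirr : ρ.IsIrreducible)
    (hinj : Function.Injective ρ) : IsCyclic (Subgroup.center G) := by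
  have := hirr
  have : Fintype G := Fintype.ofFinite G
  have hsc : ∀ z : Subgroup.center G, ∃ c : ℂ, ρ (z : G) = c • LinearMap.id := fun z => by
    obtain ⟨c, hc, _⟩ := exists_scalar_of_mem_center ρ z.2
    exact ⟨c, hc⟩
  choose c hc using hsc
  have hnt := nontrivial_of_isIrreducible ρ
  obtain ⟨v, hv⟩ := exists_ne (0 : Fin n → ℂ)
  have hcancel : ∀ a b : ℂ, a • (LinearMap.id : (Fin n → ℂ) →ₗ[ℂ] (Fin n → ℂ)) = b • LinearMap.id →
      a = b := by
    intro a b hab
    have h1 := congrArg (fun T : (Fin n → ℂ) →ₗ[ℂ] (Fin n → ℂ) => T v) hab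
    simp only [LinearMap.smul_apply, LinearMap.id_apply] at h1
    have h2 : (a - b) • v = 0 := by rw [sub_smul, h1, sub_self]
    rcases smul_eq_zero.mp h2 with h | h
    · exact sub_eq_zero.mp h
    · exact absurd h hv
  have hc1 : c 1 = 1 := by
    apply hcancel
    rw [← hc 1, one_smul]
    simp
    rfl
  have hcmul : ∀ a b, c (a * b) = c a * c b := by
    intro a b
    apply hcancel
    rw [← hc (a * b), Subgroup.coe_mul, map_mul, hc a, hc b]
    ext w
    simp [mul_smul]
    ring
  let f : Subgroup.center G →* ℂ := { toFun := c, map_one' := hc1, map_mul' := hcmul }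
  apply isCyclic_of_injective_ringHom f
  intro a b hab
  have hab' : c a = c b := hab
  apply Subtype.ext
  apply hinj
  rw [hc a, hc b, hab']

theorem backward {G : Type*} [Group G] [Finite G] (p : ℕ) [Fact p.Prime] (hG : IsPGroup p G)
    (hcyc : IsCyclic (Subgroup.center G)) :
    ∃ (n : ℕ) (ρ : Representation ℂ G (Fin n → ℂ)), ρ.IsIrreducible ∧ Function.Injective ρ := by
  classical
  have : Fintype G := Fintype.ofFinite G
  rcases subsingleton_or_nontrivial G with hS | hN
  · obtain ⟨n, ρ, hirr, _⟩ := isIrrCharacter_one (G := G)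
    exact ⟨n, ρ, hirr, fun a b _ => Subsingleton.elim a b⟩
  · have hZnt := hG.center_nontrivial
    have hZp : IsPGroup p (Subgroup.center G) := hG.to_subgroup _
    have hdvd : p ∣ Nat.card (Subgroup.center G) := by
      rcases hZp.card_eq_or_dvd with h | h
      · exfalso
        have := (Nat.card_eq_one_iff_unique.mp h).1
        exact not_subsingleton _ this
      · exact h
    have : Fintype (Subgroup.center G) := Fintype.ofFinite _
    rw [Nat.card_eq_fintype_card] at hdvd
    obtain ⟨z, hz⟩ := exists_prime_orderOf_dvd_card p hdvd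
    have hzG : orderOf (z : G) = p := by rw [Subgroup.orderOf_coe]; exact hz
    have hp := (Fact.out : p.Prime)
    have hz1 : (z : G) ≠ 1 := by
      intro h
      rw [h, orderOf_one] at hzG
      exact hp.one_lt.ne hzG
    have hnc : ¬ IsConj (z : G) 1 := by
      intro h
      exact hz1 (isConj_one_left.mp h)
    rw [isConj_iff_forall_irr] at hnc
    push Not at hnc
    obtain ⟨χ, hχ⟩ := hnc
    obtain ⟨n, ρ, hirr, hchar⟩ := χ.2
    refine ⟨n, ρ, hirr, ?_⟩
    apply injective_of_ker_eq_bot
    by_contra hK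
    have hzK := mem_of_normal_ne_bot_of_center_cyclic hG hcyc (MonoidHom.ker (ρ : G →* _)) hK z.2 hzG
    rw [MonoidHom.mem_ker] at hzK
    apply hχ
    rw [← hchar]
    unfold Representation.character
    have h1 : ρ (z : G) = ρ 1 := by rw [map_one]; exact hzK
    rw [h1]

/-- A finite p-group admits a faithful irreducible complex representation if and only if its centre is cyclic. -/
theorem result {G : Type*} [Group G] [Finite G] (p : ℕ) [Fact p.Prime] (hG : IsPGroup p G) : (∃ (n : ℕ) (ρ : Representation ℂ G (Fin n → ℂ)), ρ.IsIrreducible ∧ Function.Injective ρ) ↔ IsCyclic (Subgroup.center G) := by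
  constructor
  · rintro ⟨n, ρ, hirr, hinj⟩
    exact forward n ρ hirr hinj
  · intro hcyc
    exact backward p hG hcyc

end Cfsg.Agent.S0184
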