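import Cfsg.Statements.S0185
import Cfsg.Agent.Lib.Helper6.Multiplicity

set_option autoImplicit false
open Cfsg

namespace Cfsg.Agent.S0185

/-- If a finite group has a faithful complex representation of degree less than the smallest prime dividing its order, the group is abelian. -/
theorem result {G : Type*} [Group G] [Finite G] {V : Type*} [AddCommGroup V] [Module ℂ V] [FiniteDimensional ℂ V] (ρ : Representation ℂ G V) (hfaithful : Function.Injective ρ) (hdeg : ∀ p : ℕ, p.Prime → p ∣ Nat.card G → Module.finrank ℂ V < p) (a b : G) : a * b = b * a := by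
  classical
  have : Fintype G := Fintype.ofFinite G
  have : Fintype (Cfsg.IrrCharacter G) := Fintype.ofFinite _
  have hχ := Cfsg.Agent.Lib.Helper6.isCharacter_character ρ
  obtain ⟨m, hm, hmi⟩ := Cfsg.Agent.Lib.Helper6.IsCharacter.exists_mult hχ
  have hlin : ∀ θ : Cfsg.IrrCharacter G, m θ ≠ 0 → (θ : G → ℂ) 1 = 1 := by
    intro θ hθ
    have h1 : Cfsg.classInner ρ.character (θ : G → ℂ) ≠ 0 := by
      rw [hmi θ]; exact_mod_cast hθ
    have h2 := Cfsg.Agent.Lib.Helper6.IsCharacter.charDegree_le hχ θ.2 h1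
    rw [Cfsg.Agent.Lib.Helper6.charDegree_character] at h2
    have h3 := Cfsg.Agent.Lib.Helper6.IsIrrCharacter.charDegree_dvd_card θ.2
    have h4 := Cfsg.Agent.Lib.Helper6.IsIrrCharacter.charDegree_pos θ.2
    have h5 : Cfsg.charDegree (θ : G → ℂ) = 1 := by
      by_contra hne
      obtain ⟨p, hp, hpd⟩ := Nat.exists_prime_and_dvd hne
      have h6 := hdeg p hp (hpd.trans h3)
      have h7 := Nat.le_of_dvd h4 hpd
      omega
    rw [Cfsg.Agent.Lib.Helper6.IsCharacter.apply_one_eq_charDegree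
      (Cfsg.Agent.Lib.Helper6.IsIrrCharacter.isCharacter θ.2), h5]
    simp
  have hval : ρ.character (a * b * a⁻¹ * b⁻¹) = ρ.character 1 := by
    rw [Cfsg.Agent.Lib.Helper6.apply_eq_sum_mult hm, Cfsg.Agent.Lib.Helper6.apply_eq_sum_mult hm 1]
    apply Finset.sum_congr rfl
    intro θ _
    by_cases hθ : m θ = 0
    · rw [hθ]; simp
    · rw [hlin θ hθ, Cfsg.Agent.Lib.Helper6.IsCharacter.apply_commutator_of_apply_one_eq_one
        (Cfsg.Agent.Lib.Helper6.IsIrrCharacter.isCharacter θ.2) (hlin θ hθ)]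
  rw [Representation.char_one] at hval
  have hid := (Cfsg.Agent.Lib.Helper6.character_eq_finrank_iff ρ _).mp hval
  have h1 : ρ (a * b * a⁻¹ * b⁻¹) = ρ 1 := by rw [hid, map_one]; rfl
  have h2 := hfaithful h1
  calc a * b = (a * b * a⁻¹ * b⁻¹) * (b * a) := by group
    _ = b * a := by rw [h2, one_mul]

end Cfsg.Agent.S0185
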