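import Cfsg.Statements.S0186
import Cfsg.Agent.S0185
import Cfsg.Agent.Lib.Helper6.Kernel
import Cfsg.Agent.Lib.Helper6.ProdChar
import Cfsg.Agent.Lib.Helper6.ClassCount
import Cfsg.Agent.Lib.Helper6.Mult

set_option autoImplicit false
open Cfsg

namespace Cfsg.Agent.S0186

/-- Let G be a finite simple group of order n and p a prime dividing n. If G has more than n / p^2 conjugacy classes, then every Sylow p-subgroup of G is abelian. -/
theorem result {G : Type*} [Group G] [Finite G] [IsSimpleGroup G] (p : ℕ) [Fact p.Prime] (hp : p ∣ Nat.card G) (hmany : Nat.card G < p ^ 2 * Nat.card (ConjClasses G)) (P : Sylow p G) (a b : G) (ha : a ∈ P) (hb : b ∈ P) : a * b = b * a := by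
  classical
  have : Fintype G := Fintype.ofFinite G
  have : Fintype (Cfsg.IrrCharacter G) := Fintype.ofFinite _
  have hpp : p.Prime := Fact.out
  by_cases hp2 : p ^ 2 ∣ Nat.card G
  · -- there is a non-principal irreducible character of degree less than `p`
    let χ₀ : Cfsg.IrrCharacter G := ⟨fun _ => (1 : ℂ), Cfsg.Agent.Lib.Helper6.isIrrCharacter_one⟩
    have hex : ∃ χ : Cfsg.IrrCharacter G, χ ≠ χ₀ ∧ Cfsg.charDegree (χ : G → ℂ) < p := by
      by_contra hcon
      push Not at hcon
      have hsum := Cfsg.Agent.Lib.Helper6.sum_sq_charDegree (K := G)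
      rw [← Finset.add_sum_erase Finset.univ _ (Finset.mem_univ χ₀)] at hsum
      have h1 : ∑ χ ∈ (Finset.univ : Finset (Cfsg.IrrCharacter G)).erase χ₀, p ^ 2
          ≤ ∑ χ ∈ (Finset.univ : Finset (Cfsg.IrrCharacter G)).erase χ₀,
            Cfsg.charDegree (χ : G → ℂ) ^ 2 := by
        apply Finset.sum_le_sum
        intro χ hχ
        exact Nat.pow_le_pow_left (hcon χ (Finset.ne_of_mem_erase hχ)) 2
      rw [Finset.sum_const, Finset.card_erase_of_mem (Finset.mem_univ χ₀), Finset.card_univ,
        smul_eq_mul] at h1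
      have hk : Fintype.card (Cfsg.IrrCharacter G) = Nat.card (ConjClasses G) := by
        rw [← Nat.card_eq_fintype_card, Cfsg.Agent.Lib.Helper6.card_irrCharacter]
      rw [hk] at h1
      obtain ⟨t, ht⟩ := hp2
      have h0 : Cfsg.charDegree ((χ₀ : Cfsg.IrrCharacter G) : G → ℂ) ^ 2 = 1 := by
        have : Cfsg.charDegree ((χ₀ : Cfsg.IrrCharacter G) : G → ℂ) = 1 := by
          unfold Cfsg.charDegree
          simp [χ₀]
        rw [this]; norm_num
      rw [h0] at hsum
      rw [ht] at hmany hsum
      have h2 : t < Nat.card (ConjClasses G) := by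
        have hp2pos : 0 < p ^ 2 := pow_pos hpp.pos 2
        exact lt_of_mul_lt_mul_left hmany (Nat.zero_le _)
      have h3 : p ^ 2 * t ≤ (Nat.card (ConjClasses G) - 1) * p ^ 2 := by
        rw [mul_comm]
        exact Nat.mul_le_mul_right _ (by omega)
      omega
    obtain ⟨χ, hχne, hχdeg⟩ := hex
    obtain ⟨n, ρ, hirr, hchar⟩ := χ.2
    have hne : ρ.character ≠ fun _ => (1 : ℂ) := by
      intro h
      apply hχne
      apply Subtype.ext
      rw [← hchar, h]
    have hinj := Cfsg.Agent.Lib.Helper6.injective_of_isSimpleGroup ρ hne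
    have hdegn : Module.finrank ℂ (Fin n → ℂ) < p := by
      rw [← Cfsg.Agent.Lib.Helper6.charDegree_character ρ, hchar]
      exact hχdeg
    let σ : Representation ℂ (P : Subgroup G) (Fin n → ℂ) := ρ.comp (P : Subgroup G).subtype
    have hσinj : Function.Injective σ := by
      intro x y hxy
      apply Subtype.ext
      apply hinj
      exact hxy
    have hcomm := Cfsg.Agent.S0185.result σ hσinj (by
      intro q hq hqd
      obtain ⟨k, hk⟩ := IsPGroup.iff_card.mp P.isPGroup'
      rw [hk] at hqd
      have : q = p := (Nat.prime_dvd_prime_iff_eq hq hpp).mp (hq.dvd_of_dvd_pow hqd)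
      rw [this]
      exact hdegn) ⟨a, ha⟩ ⟨b, hb⟩
    exact congrArg Subtype.val hcomm
  · -- the Sylow subgroup has order `p`
    have hcard := P.card_eq_multiplicity
    have hfac : (Nat.card G).factorization p = 1 := by
      have hpos : Nat.card G ≠ 0 := Nat.card_pos.ne'
      have h1 : 1 ≤ (Nat.card G).factorization p :=
        (hpp.dvd_iff_one_le_factorization hpos).mp hp
      have h2 : ¬ 2 ≤ (Nat.card G).factorization p := by
        intro h
        apply hp2
        exact (hpp.pow_dvd_iff_le_factorization hpos).mpr h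
      omega
    rw [hfac, pow_one] at hcard
    have hcyc : IsCyclic (P : Subgroup G) := isCyclic_of_prime_card hcard
    let _ : CommGroup (P : Subgroup G) := IsCyclic.commGroup
    have hcomm : (⟨a, ha⟩ : (P : Subgroup G)) * ⟨b, hb⟩ = ⟨b, hb⟩ * ⟨a, ha⟩ := mul_comm _ _
    exact congrArg Subtype.val hcomm

end Cfsg.Agent.S0186
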