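import Cfsg.Statements.S0190
import Cfsg.Agent.Lib.Helper6.IndFun

set_option autoImplicit false
open Cfsg

namespace Cfsg.Agent.S0190

open Cfsg.Agent.Lib.Helper6

theorem card_fiber {G : Type*} [Group G] [Finite G] (X : Type*) [MulAction G X]
    [MulAction.IsPretransitive G X] (x z : X) :
    Nat.card {y : G // y • x = z} = Nat.card (MulAction.stabilizer G x) := by
  obtain ⟨y₀, rfl⟩ := MulAction.exists_smul_eq G x z
  symm
  refine Nat.card_congr
    { toFun := fun s => ⟨y₀ * (s : G), by rw [mul_smul, s.2]⟩
      invFun := fun y => ⟨y₀⁻¹ * (y : G), by
        rw [MulAction.mem_stabilizer_iff, mul_smul, y.2, inv_smul_smul]⟩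
      left_inv := fun s => by simp
      right_inv := fun y => by simp }

/-- For a transitive action of a finite group on X, the permutation character g ↦ (number of fixed points of g) is the function induced from the principal character of the stabilizer of any point. -/
theorem result {G : Type*} [Group G] [Fintype G] (X : Type*) [MulAction G X] [Finite X] [MulAction.IsPretransitive G X] (x : X) : (fun g : G => (Nat.card (MulAction.fixedBy X g) : ℂ)) = Cfsg.indFun (MulAction.stabilizer G x) (fun _ => 1) := by
  classical
  have : Fintype X := Fintype.ofFinite X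
  funext g
  set S := MulAction.stabilizer G x
  have hS : (Nat.card S : ℂ) ≠ 0 := card_ne_zero_complex S
  have hterm : ∀ y : G, Cfsg.extendByZero S (fun _ => (1 : ℂ)) (y⁻¹ * g * y)
      = if g • (y • x) = y • x then 1 else 0 := by
    intro y
    have hiff : y⁻¹ * g * y ∈ S ↔ g • (y • x) = y • x := by
      rw [MulAction.mem_stabilizer_iff, mul_smul, mul_smul, inv_smul_eq_iff]
    by_cases h : g • (y • x) = y • x
    · rw [if_pos h, extendByZero_of_mem _ _ (hiff.mpr h)]
    · rw [if_neg h, extendByZero_of_not_mem _ _ (fun h' => h (hiff.mp h'))]
  unfold Cfsg.indFun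
  simp_rw [hterm]
  rw [Finset.sum_boole]
  have hcount : (Finset.univ.filter (fun y : G => g • (y • x) = y • x)).card
      = Nat.card (MulAction.fixedBy X g) * Nat.card S := by
    rw [Finset.card_eq_sum_card_fiberwise (f := fun y : G => y • x)
      (t := Finset.univ.filter (fun z : X => g • z = z))
      (fun y hy => by simpa using hy)]
    have hfib : ∀ z ∈ Finset.univ.filter (fun z : X => g • z = z),
        ((Finset.univ.filter (fun y : G => g • (y • x) = y • x)).filter
          (fun y => y • x = z)).card = Nat.card S := by
      intro z hz
      have hz' : g • z = z := by simpa using hz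
      rw [← card_fiber X x z, Nat.card_eq_fintype_card, Fintype.card_subtype]
      congr 1
      ext y
      simp only [Finset.mem_filter, Finset.mem_univ, true_and]
      constructor
      · exact fun h => h.2
      · intro h
        exact ⟨by rw [h, hz'], h⟩
    rw [Finset.sum_congr rfl hfib, Finset.sum_const, smul_eq_mul]
    congr 1
    rw [Nat.card_eq_fintype_card, Fintype.card_subtype]
    congr 1
  rw [hcount]
  push_cast
  field_simp

end Cfsg.Agent.S0190
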