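import Cfsg.Statements.S0192
import Cfsg.Agent.Lib.Helper6.Invariants
import Cfsg.Agent.Lib.Helper6.Kernel

set_option autoImplicit false
open Cfsg

namespace Cfsg.Agent.S0192

/-- Brauer's generation criterion. Let G be a finite simple group, H₁ and H₂ subgroups, and χ a non-principal irreducible character. If the multiplicity of the principal character in χ restricted to H₁ ⊓ H₂ is less than the sum of the corresponding multiplicities for H₁ and H₂, then H₁ and H₂ do not generate G. -/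
theorem result {G : Type*} [Group G] [Fintype G] [IsSimpleGroup G] (H₁ H₂ : Subgroup G) [Fintype H₁] [Fintype H₂] [Fintype ↥(H₁ ⊓ H₂)] (χ : G → ℂ) (hχ : Cfsg.IsIrrCharacter G χ) (hχ1 : χ ≠ fun _ => 1) (hlt : (Cfsg.classInner (fun x : ↥(H₁ ⊓ H₂) => χ x) (fun _ => 1)).re < (Cfsg.classInner (fun x : H₁ => χ x) (fun _ => 1)).re + (Cfsg.classInner (fun x : H₂ => χ x) (fun _ => 1)).re) : H₁ ⊔ H₂ ≠ ⊤ := by
  classical
  obtain ⟨n, ρ, hirr, rfl⟩ := hχ
  intro htop
  rw [Cfsg.Agent.Lib.Helper6.classInner_restrict_one ρ (H₁ ⊓ H₂),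
    Cfsg.Agent.Lib.Helper6.classInner_restrict_one ρ H₁,
    Cfsg.Agent.Lib.Helper6.classInner_restrict_one ρ H₂] at hlt
  simp only [Complex.natCast_re] at hlt
  have hlt' : Module.finrank ℂ (Cfsg.Agent.Lib.Helper6.fixedSpace ρ (H₁ ⊓ H₂))
      < Module.finrank ℂ (Cfsg.Agent.Lib.Helper6.fixedSpace ρ H₁)
        + Module.finrank ℂ (Cfsg.Agent.Lib.Helper6.fixedSpace ρ H₂) := by
    exact_mod_cast hlt
  -- the fixed space of the whole group is trivial
  have hbot : Cfsg.Agent.Lib.Helper6.fixedSpace ρ (⊤ : Subgroup G) = ⊥ := by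
    let I : Subrepresentation ρ :=
      { toSubmodule := Cfsg.Agent.Lib.Helper6.fixedSpace ρ (⊤ : Subgroup G)
        apply_mem_toSubmodule := fun g v hv => by
          rw [Cfsg.Agent.Lib.Helper6.mem_fixedSpace] at hv ⊢
          intro x _
          rw [hv g trivial, hv x trivial] }
    rcases eq_bot_or_eq_top I with h | h
    · have := congrArg Subrepresentation.toSubmodule h
      exact this
    · exfalso
      apply hχ1
      apply Cfsg.Agent.Lib.Helper6.character_eq_one_of_forall_eq_one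
      intro x
      refine LinearMap.ext fun v => ?_
      have hv : v ∈ I.toSubmodule := by rw [h]; trivial
      have hv' : v ∈ Cfsg.Agent.Lib.Helper6.fixedSpace ρ (⊤ : Subgroup G) := hv
      rw [Cfsg.Agent.Lib.Helper6.mem_fixedSpace] at hv'
      exact hv' x trivial
  have hinf : Cfsg.Agent.Lib.Helper6.fixedSpace ρ H₁ ⊓ Cfsg.Agent.Lib.Helper6.fixedSpace ρ H₂ = ⊥ := by
    have := Cfsg.Agent.Lib.Helper6.fixedSpace_inf_le_sup ρ H₁ H₂
    rw [htop, hbot] at this
    exact le_bot_iff.mp this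
  have hsup : Cfsg.Agent.Lib.Helper6.fixedSpace ρ H₁ ⊔ Cfsg.Agent.Lib.Helper6.fixedSpace ρ H₂
      ≤ Cfsg.Agent.Lib.Helper6.fixedSpace ρ (H₁ ⊓ H₂) :=
    sup_le (Cfsg.Agent.Lib.Helper6.fixedSpace_mono ρ inf_le_left)
      (Cfsg.Agent.Lib.Helper6.fixedSpace_mono ρ inf_le_right)
  have h1 := Submodule.finrank_sup_add_finrank_inf_eq (Cfsg.Agent.Lib.Helper6.fixedSpace ρ H₁)
    (Cfsg.Agent.Lib.Helper6.fixedSpace ρ H₂)
  rw [hinf, finrank_bot, add_zero] at h1
  have h2 := Submodule.finrank_mono hsup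
  omega

end Cfsg.Agent.S0192
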