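import Cfsg.Statements.S0194
import Cfsg.Agent.Lib.Helper6.Clifford
import Cfsg.Agent.Lib.Helper6.IndFunTI
import Cfsg.Agent.Lib.Helper6.OddOrder

set_option autoImplicit false
open scoped ComplexConjugate
open Cfsg

namespace Cfsg.Agent.S0194

/-- Let G have odd order, H be a normal subgroup and θ a non-principal irreducible character of H. Then the function induced from θ is orthogonal to its complex conjugate. -/
theorem result {G : Type*} [Group G] [Fintype G] (hodd : Odd (Nat.card G)) (H : Subgroup G) [H.Normal] (θ : H → ℂ) (hθ : Cfsg.IsIrrCharacter H θ) (hθ1 : θ ≠ fun _ => 1) : Cfsg.classInner (fun g => conj (Cfsg.indFun H θ g)) (Cfsg.indFun H θ) = 0 := by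
  classical
  have hN : H.Normal := inferInstance
  have : Fintype H := Fintype.ofFinite H
  have hHc := Cfsg.Agent.Lib.Helper6.card_ne_zero_complex H
  -- conjugate of the induced function
  have hconjind : (fun g => conj (Cfsg.indFun H θ g)) = Cfsg.indFun H (fun h => conj (θ h)) := by
    funext g
    unfold Cfsg.indFun
    rw [map_mul, map_inv₀, Complex.conj_natCast, map_sum]
    congr 1
    apply Finset.sum_congr rfl
    intro x _
    by_cases hx : x⁻¹ * g * x ∈ H
    · rw [Cfsg.Agent.Lib.Helper6.extendByZero_of_mem H _ hx,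
        Cfsg.Agent.Lib.Helper6.extendByZero_of_mem H _ hx]
    · rw [Cfsg.Agent.Lib.Helper6.extendByZero_of_not_mem H _ hx,
        Cfsg.Agent.Lib.Helper6.extendByZero_of_not_mem H _ hx, map_zero]
  rw [hconjind, Cfsg.Agent.S0146.result H _ _ (Cfsg.Agent.Lib.Helper6.indFun_isClassFunction H θ),
    Cfsg.Agent.Lib.Helper6.classInner_indFun_restrict_right H hN]
  have hθbar : Cfsg.IsIrrCharacter H (fun h => conj (θ h)) :=
    Cfsg.Agent.Lib.Helper6.IsIrrCharacter.conj hθ
  have hzero : ∀ x : G, Cfsg.classInner (fun h => conj (θ h))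
      (Cfsg.Agent.Lib.Helper6.conjFun H hN θ x) = 0 := by
    intro x
    rw [Cfsg.Agent.Lib.Helper6.classInner_isIrrCharacter hθbar
      (Cfsg.Agent.Lib.Helper6.IsIrrCharacter.conjFun H hN hθ x), if_neg]
    intro hx
    -- θ^(x*x) = θ
    have hx2 : Cfsg.Agent.Lib.Helper6.conjFun H hN θ (x * x) = θ := by
      rw [← Cfsg.Agent.Lib.Helper6.conjFun_conjFun, ← hx]
      funext h
      rw [Cfsg.Agent.Lib.Helper6.conjFun_apply]
      have := congrFun hx ⟨x * h * x⁻¹, hN.conj_mem h h.2 x⟩
      simp only [Cfsg.Agent.Lib.Helper6.conjFun_apply] at this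
      have h2 := congrFun hx h
      rw [Cfsg.Agent.Lib.Helper6.conjFun_apply] at h2
      rw [← h2, Complex.conj_conj]
    have hpow : ∀ k : ℕ, Cfsg.Agent.Lib.Helper6.conjFun H hN θ ((x * x) ^ k) = θ := by
      intro k
      induction k with
      | zero => rw [pow_zero]; exact Cfsg.Agent.Lib.Helper6.conjFun_one H hN θ
      | succ k ih =>
        rw [pow_succ, ← Cfsg.Agent.Lib.Helper6.conjFun_conjFun, ih, hx2]
    have hoddx : Odd (orderOf x) := by
      have h1 : orderOf x ∣ Nat.card G := orderOf_dvd_natCard x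
      exact Odd.of_dvd_nat hodd h1
    obtain ⟨k, hk⟩ := hoddx
    have hxk : (x * x) ^ (k + 1) = x := by
      rw [← pow_two, ← pow_mul]
      have : 2 * (k + 1) = orderOf x + 1 := by omega
      rw [this, pow_succ, pow_orderOf_eq_one, one_mul]
    have hxfix := hpow (k + 1)
    rw [hxk] at hxfix
    rw [hxfix] at hx
    -- θ is real
    apply hθ1
    have hoddH : Odd (Nat.card H) := Odd.of_dvd_nat hodd (Subgroup.card_subgroup_dvd_card H)
    apply Cfsg.Agent.Lib.Helper6.eq_one_of_real_of_odd hoddH θ hθ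
    intro h
    have := congrFun hx h
    exact Complex.conj_eq_iff_im.mp this
  simp [hzero]

end Cfsg.Agent.S0194
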