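import Mathlib
import Cfsg.Statements.S0196

set_option autoImplicit false
open Cfsg

namespace Cfsg.Agent.S0196

/-- Let A be a subgroup of a finite group G that equals the centralizer of each of its non-identity elements, and let N be its normalizer. Then the index of A in N divides |A| − 1 (N/A permutes the non-identity elements of A in orbits of full length). -/
theorem result {G : Type*} [Group G] [Finite G] (A : Subgroup G) (hA : ∀ x ∈ A, x ≠ 1 → Subgroup.centralizer ({x} : Set G) = A) : (A.subgroupOf (Subgroup.normalizer (A : Set G))).index ∣ Nat.card A - 1 := by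
  classical
  let N : Subgroup G := Subgroup.normalizer (A : Set G)
  let X : Type _ := {a : G // a ∈ A ∧ a ≠ 1}
  have hconj : ∀ (n : N) (a : G), a ∈ A → (n : G) * a * (n : G)⁻¹ ∈ A := by
    intro n a ha
    exact (Subgroup.mem_normalizer_iff.mp n.2 a).mp ha
  have hne : ∀ (n : G) (a : G), a ≠ 1 → n * a * n⁻¹ ≠ 1 := by
    intro n a ha h
    apply ha
    have : a = n⁻¹ * (n * a * n⁻¹) * n := by group
    rw [this, h]; group
  letI act : MulAction N X :=
    { smul := fun n a => ⟨(n : G) * a.1 * (n : G)⁻¹, hconj n a.1 a.2.1, hne _ _ a.2.2⟩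
      one_smul := fun a => by
        apply Subtype.ext
        show ((1 : N) : G) * a.1 * ((1 : N) : G)⁻¹ = a.1
        simp
      mul_smul := fun m n a => by
        apply Subtype.ext
        show ((m * n : N) : G) * a.1 * ((m * n : N) : G)⁻¹
          = (m : G) * ((n : G) * a.1 * (n : G)⁻¹) * (m : G)⁻¹
        simp [mul_assoc] }
  have hsmul : ∀ (n : N) (a : X), ((n • a : X) : G) = (n : G) * a.1 * (n : G)⁻¹ := fun _ _ => rfl
  have hstab : ∀ a : X, MulAction.stabilizer N a = A.subgroupOf N := by
    intro a
    ext n
    rw [MulAction.mem_stabilizer_iff, Subgroup.mem_subgroupOf, ← hA a.1 a.2.1 a.2.2,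
      Subgroup.mem_centralizer_iff]
    simp only [Set.mem_singleton_iff, forall_eq]
    rw [Subtype.ext_iff, hsmul]
    constructor
    · intro h
      calc a.1 * (n : G) = ((n : G) * a.1 * (n : G)⁻¹) * (n : G) := by rw [h]
        _ = (n : G) * a.1 := by group
    · intro h
      calc (n : G) * a.1 * (n : G)⁻¹ = (a.1 * (n : G)) * (n : G)⁻¹ := by rw [h]
        _ = a.1 := by group
  have hcardX : Nat.card X = Nat.card A - 1 := by
    have e : X ≃ {a : A // a ≠ 1} :=
      { toFun := fun a => ⟨⟨a.1, a.2.1⟩, fun h => a.2.2 (congrArg Subtype.val h)⟩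
        invFun := fun a => ⟨a.1.1, a.1.2, fun h => a.2 (Subtype.ext h)⟩
        left_inv := fun a => rfl
        right_inv := fun a => rfl }
    rw [Nat.card_congr e]
    have : Fintype A := Fintype.ofFinite A
    rw [Nat.card_eq_fintype_card, Nat.card_eq_fintype_card, Fintype.card_subtype_compl,
      Fintype.card_subtype_eq]
  rw [← hcardX, Nat.card_congr (MulAction.selfEquivSigmaOrbitsQuotientStabilizer N X)]
  have : Finite X := by
    have : Finite {a : G // a ∈ A ∧ a ≠ 1} := inferInstance
    exact this
  have : Fintype (Quotient (MulAction.orbitRel N X)) := Fintype.ofFinite _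
  rw [Nat.card_sigma]
  apply Finset.dvd_sum
  intro ω _
  rw [hstab]
  exact dvd_of_eq rfl

end Cfsg.Agent.S0196
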