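import Mathlib
import Cfsg.Statements.S0203
import Cfsg.Agent.Lib.Lead.KleinClasses

set_option autoImplicit false
open Cfsg

namespace Cfsg.Agent.S0203

open Cfsg.Agent.Lib.Lead

/-- If an abelian subgroup has a normal complement then it controls its own fusion trivially. -/
theorem eq_of_isConj_of_complement {G : Type*} [Group G] (N P : Subgroup G) [N.Normal]
    (hc : Subgroup.IsComplement' N P) (hcomm : ∀ x ∈ P, ∀ y ∈ P, Commute x y)
    (x y : G) (hx : x ∈ P) (hy : y ∈ P) (hxy : IsConj x y) : x = y := by
  obtain ⟨g, hg⟩ := isConj_iff.mp hxy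
  obtain ⟨⟨n, p⟩, hnp⟩ := hc.2 g
  simp only at hnp
  have h1 : y = n.1 * x * n.1⁻¹ := by
    rw [← hg, ← hnp]
    have := (hcomm p.1 p.2 x hx).eq
    calc n.1 * p.1 * x * (n.1 * p.1)⁻¹ = n.1 * (p.1 * x) * p.1⁻¹ * n.1⁻¹ := by group
      _ = n.1 * (x * p.1) * p.1⁻¹ * n.1⁻¹ := by rw [this]
      _ = n.1 * x * n.1⁻¹ := by group
  have h2 : y * x⁻¹ ∈ N := by
    rw [h1]
    have : n.1 * x * n.1⁻¹ * x⁻¹ = n.1 * (x * n.1⁻¹ * x⁻¹) := by group
    rw [this]
    exact mul_mem n.2 (Subgroup.Normal.conj_mem inferInstance _ (inv_mem n.2) x)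
  have h3 : y * x⁻¹ ∈ P := mul_mem hy (inv_mem hx)
  have h4 : y * x⁻¹ ∈ N ⊓ P := ⟨h2, h3⟩
  rw [hc.disjoint.eq_bot, Subgroup.mem_bot] at h4
  exact (mul_inv_eq_one.mp h4).symm

/-- If a Sylow 2-subgroup P of a finite group G is a Klein four-group, then G has three classes of involutions if and only if P has a normal complement in G. -/
theorem result {G : Type*} [Group G] [Finite G] (P : Sylow 2 G) (hP : IsKleinFour (P : Subgroup G)) : Nat.card {C : ConjClasses G // ∃ t : G, orderOf t = 2 ∧ ConjClasses.mk t = C} = 3 ↔ ∃ N : Subgroup G, N.Normal ∧ Subgroup.IsComplement' N (P : Subgroup G) := by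
  haveI : Fact (Nat.Prime 2) := ⟨Nat.prime_two⟩
  obtain ⟨a, b, c, ha, hb, hc, hoa, hob, hoc, hab, hac, hbc, hall, h⟩ :=
    KleinSylow.card_invClasses P hP
  constructor
  · intro h3
    rcases h with ⟨-, -, -, h1⟩ | ⟨n1, n2, n3, -⟩
    · change Nat.card {C : ConjClasses G // ∃ t : G, orderOf t = 2 ∧ ConjClasses.mk t = C} = 1 at h1
      omega
    -- N(P) ≤ C(P)
    have hNC : Subgroup.normalizer ((P : Subgroup G) : Set G) ≤
        Subgroup.centralizer ((P : Subgroup G) : Set G) := by
      intro n hn
      rw [Subgroup.mem_centralizer_iff]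
      intro x hx
      have hx' : x ∈ (P : Subgroup G) := hx
      have hnx : n * x * n⁻¹ ∈ (P : Subgroup G) := (Subgroup.mem_normalizer_iff.mp hn x).mp hx'
      have hconj : IsConj x (n * x * n⁻¹) := isConj_iff.mpr ⟨n, rfl⟩
      have hfix : n * x * n⁻¹ = x := by
        have hinj : ∀ u v : G, n * u * n⁻¹ = n * v * n⁻¹ → u = v := by
          intro u v h
          exact mul_left_cancel (mul_right_cancel h)
        have h1' : n * 1 * n⁻¹ = 1 := by group
        rcases hall x hx' with rfl | rfl | rfl | rfl
        · exact h1'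
        · rcases hall _ hnx with h | h | h | h
          · exfalso
            have := hinj _ _ (h.trans h1'.symm)
            rw [this, orderOf_one] at hoa; omega
          · exact h
          · exfalso; rw [h] at hconj; exact n1 hconj
          · exfalso; rw [h] at hconj; exact n2 hconj
        · rcases hall _ hnx with h | h | h | h
          · exfalso
            have := hinj _ _ (h.trans h1'.symm)
            rw [this, orderOf_one] at hob; omega
          · exfalso; rw [h] at hconj; exact n1 hconj.symm
          · exact h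
          · exfalso; rw [h] at hconj; exact n3 hconj
        · rcases hall _ hnx with h | h | h | h
          · exfalso
            have := hinj _ _ (h.trans h1'.symm)
            rw [this, orderOf_one] at hoc; omega
          · exfalso; rw [h] at hconj; exact n2 hconj.symm
          · exfalso; rw [h] at hconj; exact n3 hconj.symm
          · exact h
      calc x * n = (n * x * n⁻¹) * n := by rw [hfix]
        _ = n * x := by group
    exact ⟨_, inferInstance, MonoidHom.ker_transferSylow_isComplement' P hNC⟩
  · rintro ⟨N, hN, hcomp⟩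
    rcases h with ⟨h1, -, -, -⟩ | ⟨-, -, -, h3⟩
    · exfalso
      apply hab
      exact eq_of_isConj_of_complement N (P : Subgroup G) hcomp
        (fun x hx y hy => KleinSylow.commute_of_mem (P : Subgroup G) hP x y hx hy) a b ha hb h1
    · exact h3

end Cfsg.Agent.S0203
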