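import Mathlib
import Cfsg.Statements.S0207
import Cfsg.Agent.Lib.Lead.Dihedral

set_option autoImplicit false
open Cfsg
open Cfsg.Agent.Lib.Lead

namespace Cfsg.Agent.S0207

/-- If x, y are distinct involutions, every element of the subgroup they generate that lies outside the cyclic subgroup generated by xy is an involution. -/
theorem result {G : Type*} [Group G] [Finite G] (x y : G) (hx : orderOf x = 2) (hy : orderOf y = 2) (hxy : x ≠ y) (d : G) (hd : d ∈ Subgroup.closure ({x, y} : Set G)) (hd' : d ∉ Subgroup.zpowers (x * y)) : orderOf d = 2 := by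
  rcases mem_closure_pair hx hy hd with ⟨k, rfl⟩ | ⟨k, rfl⟩
  · exact absurd (Subgroup.zpow_mem_zpowers _ k) hd'
  · apply invol_of_mul_self
    · intro h
      apply hd'
      rw [h]
      exact one_mem _
    · have h := invol_mul_zpow_mul hx hy k
      rw [← mul_assoc, h, ← zpow_add, neg_add_cancel, zpow_zero]

end Cfsg.Agent.S0207
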