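import Mathlib
import Cfsg.Statements.S0236
import Cfsg.Agent.Lib.Lead.Invol

set_option autoImplicit false
open Cfsg
open Cfsg.Agent.Lib.Lead

namespace Cfsg.Agent.S0236

/-- If x is an involution, the number of ordered pairs (u, v) of involutions with uv = x, plus one, equals the number of involutions in the centralizer of x. -/
theorem result {G : Type*} [Group G] [Finite G] (x : G) (hx : orderOf x = 2) : Nat.card {p : G × G // orderOf p.1 = 2 ∧ orderOf p.2 = 2 ∧ p.1 * p.2 = x} + 1 = Nat.card {t : G // orderOf t = 2 ∧ Commute t x} := by
  classical
  have key : ∀ u v : G, orderOf u = 2 → orderOf v = 2 → u * v = x → Commute u x ∧ u ≠ x := by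
    intro u v hu hv huv
    constructor
    · have h1 : u * v * (u * v) = 1 := by rw [huv]; exact invol_mul_self hx
      have h2 : u * v * u = v := by
        have : u * v * u = v⁻¹ := eq_inv_of_mul_eq_one_left (by rw [← h1]; group)
        rw [this, invol_inv hv]
      show u * x = x * u
      rw [← huv, h2, ← mul_assoc, invol_mul_self hu, one_mul]
    · intro h
      rw [h] at huv
      have : v = 1 := by simpa using huv
      exact invol_ne_one hv this
  have e : Option {p : G × G // orderOf p.1 = 2 ∧ orderOf p.2 = 2 ∧ p.1 * p.2 = x} ≃
      {t : G // orderOf t = 2 ∧ Commute t x} :=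
    { toFun := fun o => match o with
        | none => ⟨x, hx, Commute.refl x⟩
        | some p => ⟨p.1.1, p.2.1, (key p.1.1 p.1.2 p.2.1 p.2.2.1 p.2.2.2).1⟩
      invFun := fun t => if h : t.1 = x then none else
        some ⟨(t.1, t.1 * x), t.2.1, by
          obtain ⟨t, ht, htx⟩ := t
          simp only at h ⊢
          apply invol_of_mul_self
          · intro h1
            apply h
            have : t = x⁻¹ := eq_inv_of_mul_eq_one_left h1
            rw [this, invol_inv hx]
          · calc t * x * (t * x) = t * (x * t) * x := by group
              _ = t * (t * x) * x := by rw [htx.eq]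
              _ = (t * t) * (x * x) := by group
              _ = 1 := by rw [invol_mul_self ht, invol_mul_self hx, one_mul], by
          simp only
          rw [← mul_assoc, invol_mul_self t.2.1, one_mul]⟩
      left_inv := by
        intro o
        cases o with
        | none => simp
        | some p =>
          obtain ⟨⟨u, v⟩, hu, hv, huv⟩ := p
          have hne := (key u v hu hv huv).2
          simp only [hne, dite_false, Option.some.injEq]
          apply Subtype.ext
          simp only [Prod.mk.injEq, true_and]
          rw [← huv, ← mul_assoc, invol_mul_self hu, one_mul]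
      right_inv := by
        rintro ⟨t, ht, htx⟩
        by_cases h : t = x
        · subst h
          simp
        · simp [h] }
  rw [← Nat.card_congr e, Finite.card_option]

end Cfsg.Agent.S0236
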