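import Mathlib
import Cfsg.Statements.S0238
import Cfsg.Agent.Lib.Lead.Invol
import Cfsg.Agent.S0236

set_option autoImplicit false
open Cfsg
open Cfsg.Agent.Lib.Lead

namespace Cfsg.Agent.S0238

theorem inverts {G : Type*} [Group G] {u v : G} (hu : orderOf u = 2) (hv : orderOf v = 2) :
    u * (u * v) * u⁻¹ = (u * v)⁻¹ := by
  rw [mul_inv_rev, invol_inv hu, invol_inv hv, ← mul_assoc, invol_mul_self hu, one_mul]

/-- For every x in a finite group G, the number c of ordered pairs (u, v) of involutions with uv = x is at most |C_G(x)|; c = 0 when x is not conjugate to x⁻¹; and c + 2 ≤ |C_G(x)| when x is an involution. -/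
theorem result {G : Type*} [Group G] [Finite G] (x : G) : Nat.card {p : G × G // orderOf p.1 = 2 ∧ orderOf p.2 = 2 ∧ p.1 * p.2 = x} ≤ Nat.card (Subgroup.centralizer ({x} : Set G)) ∧ (¬ IsConj x x⁻¹ → Nat.card {p : G × G // orderOf p.1 = 2 ∧ orderOf p.2 = 2 ∧ p.1 * p.2 = x} = 0) ∧ (orderOf x = 2 → Nat.card {p : G × G // orderOf p.1 = 2 ∧ orderOf p.2 = 2 ∧ p.1 * p.2 = x} + 2 ≤ Nat.card (Subgroup.centralizer ({x} : Set G))) := by
  refine ⟨?_, ?_, ?_⟩
  · by_cases hne : Nonempty {p : G × G // orderOf p.1 = 2 ∧ orderOf p.2 = 2 ∧ p.1 * p.2 = x}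
    · obtain ⟨⟨⟨u₀, v₀⟩, hu₀, hv₀, huv₀⟩⟩ := hne
      simp only at hu₀ hv₀ huv₀
      have inv₀ : u₀ * x * u₀⁻¹ = x⁻¹ := by rw [← huv₀]; exact inverts hu₀ hv₀
      let f : {p : G × G // orderOf p.1 = 2 ∧ orderOf p.2 = 2 ∧ p.1 * p.2 = x} →
          Subgroup.centralizer ({x} : Set G) := fun p => ⟨u₀⁻¹ * p.1.1, by
        obtain ⟨⟨u, v⟩, hu, hv, huv⟩ := p
        simp only at hu hv huv ⊢
        rw [Subgroup.mem_centralizer_singleton_iff]
        have inv₁ : u * x * u⁻¹ = x⁻¹ := by rw [← huv]; exact inverts hu hv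
        have h1 : u * x = x⁻¹ * u := mul_inv_eq_iff_eq_mul.mp inv₁
        have h0 : x = u₀⁻¹ * x⁻¹ * u₀ := by rw [← inv₀]; group
        calc u₀⁻¹ * u * x = u₀⁻¹ * (u * x) := by group
          _ = u₀⁻¹ * (x⁻¹ * u) := by rw [h1]
          _ = (u₀⁻¹ * x⁻¹ * u₀) * (u₀⁻¹ * u) := by group
          _ = x * (u₀⁻¹ * u) := by rw [← h0]⟩
      apply Nat.card_le_card_of_injective f
      rintro ⟨⟨u, v⟩, hu, hv, huv⟩ ⟨⟨u', v'⟩, hu', hv', huv'⟩ h
      simp only [f, Subtype.mk.injEq, mul_right_inj] at h
      subst h
      simp only at huv huv'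
      have : v = v' := by
        have := huv.trans huv'.symm
        exact mul_left_cancel this
      subst this
      rfl
    · rw [not_nonempty_iff] at hne
      rw [Nat.card_of_isEmpty]
      exact Nat.zero_le _
  · intro hnc
    rw [Nat.card_eq_zero]
    left
    constructor
    rintro ⟨⟨u, v⟩, hu, hv, huv⟩
    simp only at hu hv huv
    apply hnc
    rw [isConj_iff]
    exact ⟨u, by rw [← huv]; exact inverts hu hv⟩
  · intro hx
    have h := Cfsg.Agent.S0236.result x hx
    have h2 : Nat.card {t : G // orderOf t = 2 ∧ Commute t x} + 1 ≤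
        Nat.card (Subgroup.centralizer ({x} : Set G)) := by
      rw [← Finite.card_option]
      let f : Option {t : G // orderOf t = 2 ∧ Commute t x} → Subgroup.centralizer ({x} : Set G) :=
        fun o => match o with
          | none => 1
          | some t => ⟨t.1, by
              rw [Subgroup.mem_centralizer_singleton_iff]; exact t.2.2.eq⟩
      apply Nat.card_le_card_of_injective f
      intro a b hab
      cases a with
      | none =>
        cases b with
        | none => rfl
        | some t =>
          exfalso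
          simp only [f] at hab
          have : (1 : G) = t.1 := congrArg Subtype.val hab
          exact invol_ne_one t.2.1 this.symm
      | some s =>
        cases b with
        | none =>
          exfalso
          simp only [f] at hab
          have : s.1 = (1 : G) := congrArg Subtype.val hab
          exact invol_ne_one s.2.1 this
        | some t =>
          simp only [f, Subtype.mk.injEq] at hab
          rw [Subtype.ext hab]
    omega

end Cfsg.Agent.S0238
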