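import Mathlib
import Cfsg.Statements.S0233
import Cfsg.Agent.Lib.Lead.Invol
import Cfsg.Agent.Lib.Lead.StronglyEmbedded
import Cfsg.Agent.S0235
import Cfsg.Agent.S0237
import Cfsg.Agent.S0238

set_option autoImplicit false
open Cfsg
open Cfsg.Agent.Lib.Lead

namespace Cfsg.Agent.S0233

variable {G : Type*} [Group G]

/-- the extended centralizer of `x` -/
def extCent (x : G) : Subgroup G where
  carrier := {g | g * x * g⁻¹ = x ∨ g * x * g⁻¹ = x⁻¹}
  one_mem' := Or.inl (by group)
  mul_mem' := by
    intro a b ha hb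
    have e : a * b * x * (a * b)⁻¹ = a * (b * x * b⁻¹) * a⁻¹ := by group
    show a * b * x * (a * b)⁻¹ = x ∨ a * b * x * (a * b)⁻¹ = x⁻¹
    rw [e]
    have hinv : a * x⁻¹ * a⁻¹ = (a * x * a⁻¹)⁻¹ := by group
    rcases hb with hb | hb <;> rcases ha with ha | ha
    · left; rw [hb, ha]
    · right; rw [hb, ha]
    · right; rw [hb, hinv, ha]
    · left; rw [hb, hinv, ha, inv_inv]
  inv_mem' := by
    intro a ha
    show a⁻¹ * x * a⁻¹⁻¹ = x ∨ a⁻¹ * x * a⁻¹⁻¹ = x⁻¹
    rcases ha with ha | ha
    · left
      have : a⁻¹ * x * a⁻¹⁻¹ = a⁻¹ * (a * x * a⁻¹) * a := by rw [ha, inv_inv]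
      rw [this]; group
    · right
      have h1 : x = a⁻¹ * x⁻¹ * a := by rw [← ha]; group
      have : a⁻¹ * x * a⁻¹⁻¹ = (a⁻¹ * x⁻¹ * a)⁻¹ := by group
      rw [this, ← h1]

theorem card_extCent [Finite G] (x : G) (hx : x ^ 2 ≠ 1) (hreal : IsConj x x⁻¹) :
    Nat.card (extCent x) = 2 * Nat.card (Subgroup.centralizer ({x} : Set G)) := by
  classical
  haveI : Fintype G := Fintype.ofFinite G
  have hne : x ≠ x⁻¹ := by
    intro h
    apply hx
    rw [pow_two]
    nth_rewrite 2 [h]
    exact mul_inv_cancel x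
  have h1 : Nat.card (extCent x) =
      (Finset.univ.filter (fun g : G => g * x * g⁻¹ = x ∨ g * x * g⁻¹ = x⁻¹)).card := by
    rw [Nat.card_eq_fintype_card, ← Fintype.card_subtype]
    exact Fintype.card_congr (Equiv.refl _)
  have h2 : Nat.card (Subgroup.centralizer ({x} : Set G)) =
      (Finset.univ.filter (fun g : G => g * x * g⁻¹ = x)).card := by
    rw [Nat.card_eq_fintype_card, ← Fintype.card_subtype]
    apply Fintype.card_congr
    exact Equiv.subtypeEquivRight (fun g => by
      rw [Subgroup.mem_centralizer_singleton_iff]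
      exact mul_inv_eq_iff_eq_mul.symm)
  have h3 : Nat.card {g : G // g * x * g⁻¹ = x⁻¹} =
      (Finset.univ.filter (fun g : G => g * x * g⁻¹ = x⁻¹)).card := by
    rw [Nat.card_eq_fintype_card, Fintype.card_subtype]
  have h4 := Cfsg.Agent.S0237.result x hreal
  rw [h1, Finset.filter_or, Finset.card_union_of_disjoint, ← h2, ← h3, h4, two_mul]
  rw [Finset.disjoint_filter]
  intro g _ hg1 hg2
  exact hne (hg1.symm.trans hg2)

/-- Let G be a finite group of even order with exactly n involutions whose centre has odd order, and put a = |G|/n. Then G has a proper subgroup H with |G : H| = 2 or |G : H| < a(a+1)/2; over ℕ the latter reads 2·|G:H|·n² < |G|·(|G| + n). -/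
theorem result {G : Type*} [Group G] [Finite G] (heven : Even (Nat.card G)) (hZ : Odd (Nat.card (Subgroup.center G))) : ∃ H : Subgroup G, H ≠ ⊤ ∧ (H.index = 2 ∨ 2 * H.index * (Nat.card {t : G // orderOf t = 2}) ^ 2 < Nat.card G * (Nat.card G + Nat.card {t : G // orderOf t = 2})) := by
  classical
  haveI : Fintype G := Fintype.ofFinite G
  by_contra hcon
  push Not at hcon
  set n := Nat.card {t : G // orderOf t = 2} with hn
  set N := Nat.card G with hN
  set W := N + n with hW
  have hNpos : 0 < N := Nat.card_pos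
  -- every proper subgroup is small
  have hbound : ∀ H : Subgroup G, H ≠ ⊤ → Nat.card H * W ≤ 2 * n ^ 2 := by
    intro H hH
    have h1 := (hcon H hH).2
    have h2 : H.index * Nat.card H = N := H.index_mul_card
    have h3 : N * (Nat.card H * W) ≤ N * (2 * n ^ 2) := by
      calc N * (Nat.card H * W) = Nat.card H * (N * W) := by ring
        _ ≤ Nat.card H * (2 * H.index * n ^ 2) := Nat.mul_le_mul_left _ h1
        _ = (H.index * Nat.card H) * (2 * n ^ 2) := by ring
        _ = N * (2 * n ^ 2) := by rw [h2]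
    exact Nat.le_of_mul_le_mul_left h3 hNpos
  -- the counting function
  let c : G → ℕ := fun x =>
    Nat.card {p : G × G // orderOf p.1 = 2 ∧ orderOf p.2 = 2 ∧ p.1 * p.2 = x}
  set Ifin : Finset G := Finset.univ.filter (fun t : G => orderOf t = 2) with hI
  have hnI : n = Ifin.card := by
    rw [hn, Nat.card_eq_fintype_card, Fintype.card_subtype]
  -- total count
  have hsum : ∑ x : G, c x = n ^ 2 := by
    have h1 := Finset.card_eq_sum_card_fiberwise (f := fun p : G × G => p.1 * p.2)
      (s := Ifin ×ˢ Ifin) (t := Finset.univ) (by intro p _; simp)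
    rw [Finset.card_product, ← hnI, ← pow_two] at h1
    rw [h1]
    apply Finset.sum_congr rfl
    intro x _
    show Nat.card {p : G × G // orderOf p.1 = 2 ∧ orderOf p.2 = 2 ∧ p.1 * p.2 = x} = _
    rw [Nat.card_eq_fintype_card, Fintype.card_subtype]
    congr 1
    ext p
    simp only [Finset.mem_filter, Finset.mem_univ, true_and, Finset.mem_product, hI]
    tauto
  -- there is an involution
  obtain ⟨t₀, -, ht₀⟩ := exists_invol_of_even (⊤ : Subgroup G)
    (by rw [Subgroup.card_top]; exact heven)
  have hnpos : 0 < n := by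
    rw [hnI, Finset.card_pos]
    exact ⟨t₀, by simp [hI, ht₀]⟩
  -- c 1 = n
  have hc1 : c 1 = n := by
    show Nat.card {p : G × G // orderOf p.1 = 2 ∧ orderOf p.2 = 2 ∧ p.1 * p.2 = 1} = n
    rw [hn]
    apply Nat.card_congr
    refine
      { toFun := fun p => ⟨p.1.1, p.2.1⟩
        invFun := fun t => ⟨(t.1, t.1), t.2, t.2, invol_mul_self t.2⟩
        left_inv := ?_
        right_inv := fun t => rfl }
    rintro ⟨⟨u, v⟩, hu, hv, huv⟩
    simp only at hu hv huv ⊢
    apply Subtype.ext
    simp only [Prod.mk.injEq, true_and]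
    have : v = u⁻¹ := eq_inv_of_mul_eq_one_right huv
    rw [this, invol_inv hu]
  -- bound for involutions
  have hinv : ∀ x ∈ Ifin, W * c x + 2 * W ≤ 2 * n ^ 2 := by
    intro x hx
    rw [hI, Finset.mem_filter] at hx
    have hxo := hx.2
    have h3 := (Cfsg.Agent.S0238.result x).2.2 hxo
    have hprop : Subgroup.centralizer ({x} : Set G) ≠ ⊤ := by
      intro htop
      have hxc : x ∈ Subgroup.center G := by
        rw [Subgroup.mem_center_iff]
        intro g
        have : g ∈ Subgroup.centralizer ({x} : Set G) := by rw [htop]; trivial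
        exact (Subgroup.mem_centralizer_singleton_iff.mp this)
      have := even_card_of_invol_mem (Subgroup.center G) x hxo hxc
      exact (Nat.not_even_iff_odd.mpr hZ) this
    have h4 := hbound _ hprop
    calc W * c x + 2 * W = W * (c x + 2) := by ring
      _ ≤ W * Nat.card (Subgroup.centralizer ({x} : Set G)) := Nat.mul_le_mul_left _ h3
      _ = Nat.card (Subgroup.centralizer ({x} : Set G)) * W := by ring
      _ ≤ 2 * n ^ 2 := h4
  -- bound for the non-involutions
  have hrest : ∀ x : G, x ^ 2 ≠ 1 → W * c x ≤ n ^ 2 := by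
    intro x hx
    by_cases hc0 : c x = 0
    · rw [hc0, mul_zero]; exact Nat.zero_le _
    · have hreal : IsConj x x⁻¹ := by
        by_contra hnr
        exact hc0 ((Cfsg.Agent.S0238.result x).2.1 hnr)
      have h1 := (Cfsg.Agent.S0238.result x).1
      have hcard := card_extCent x hx hreal
      have hprop : extCent x ≠ ⊤ := by
        intro htop
        have h2 : Nat.card (extCent x) = N := by rw [htop, Subgroup.card_top]
        rw [hcard] at h2
        -- the centralizer has index 2
        have h3 : (Subgroup.centralizer ({x} : Set G)).index = 2 := by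
          have h4 := (Subgroup.centralizer ({x} : Set G)).index_mul_card
          rw [← hN, ← h2] at h4
          have hpos : 0 < Nat.card (Subgroup.centralizer ({x} : Set G)) := Nat.card_pos
          exact Nat.eq_of_mul_eq_mul_right hpos h4
        have h5 : Subgroup.centralizer ({x} : Set G) ≠ ⊤ := by
          intro h
          rw [h, Subgroup.index_top] at h3
          omega
        exact (hcon _ h5).1 h3
      have h6 := hbound _ hprop
      rw [hcard] at h6
      have h7 : Nat.card (Subgroup.centralizer ({x} : Set G)) * W ≤ n ^ 2 := by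
        have : 2 * (Nat.card (Subgroup.centralizer ({x} : Set G)) * W) ≤ 2 * n ^ 2 := by
          calc 2 * (Nat.card (Subgroup.centralizer ({x} : Set G)) * W)
              = 2 * Nat.card (Subgroup.centralizer ({x} : Set G)) * W := by ring
            _ ≤ 2 * n ^ 2 := h6
        exact Nat.le_of_mul_le_mul_left this (by norm_num)
      calc W * c x ≤ W * Nat.card (Subgroup.centralizer ({x} : Set G)) := Nat.mul_le_mul_left _ h1
        _ = Nat.card (Subgroup.centralizer ({x} : Set G)) * W := by ring
        _ ≤ n ^ 2 := h7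
  -- split the sum
  set Rest : Finset G := Finset.univ.filter (fun x : G => x ^ 2 ≠ 1) with hR
  have hsplit : (Finset.univ : Finset G) = insert 1 Ifin ∪ Rest := by
    ext x
    simp only [Finset.mem_univ, Finset.mem_union, Finset.mem_insert, hI, hR, Finset.mem_filter,
      true_and, true_iff]
    by_cases h2 : x ^ 2 = 1
    · left
      by_cases h1 : x = 1
      · left; exact h1
      · right; exact invol_iff.mpr ⟨h1, h2⟩
    · right; exact h2
  have h1I : (1 : G) ∉ Ifin := by
    rw [hI, Finset.mem_filter]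
    rintro ⟨-, h⟩
    rw [orderOf_one] at h; omega
  have hdisj : Disjoint (insert 1 Ifin) Rest := by
    rw [Finset.disjoint_left]
    intro x hx hxR
    rw [hR, Finset.mem_filter] at hxR
    apply hxR.2
    rcases Finset.mem_insert.mp hx with rfl | hx
    · exact one_pow 2
    · rw [hI, Finset.mem_filter] at hx
      exact invol_sq hx.2
  have hcardsplit : N = (Ifin.card + 1) + Rest.card := by
    rw [hN, Nat.card_eq_fintype_card, ← Finset.card_univ, hsplit,
      Finset.card_union_of_disjoint hdisj, Finset.card_insert_of_notMem h1I]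
  have hsum2 : ∑ x : G, c x = c 1 + ∑ x ∈ Ifin, c x + ∑ x ∈ Rest, c x := by
    rw [hsplit, Finset.sum_union hdisj, Finset.sum_insert h1I]
  -- the two partial bounds
  have hb1 : W * (∑ x ∈ Ifin, c x) + 2 * W * n ≤ 2 * n ^ 2 * n := by
    have : ∑ x ∈ Ifin, (W * c x + 2 * W) ≤ ∑ _x ∈ Ifin, 2 * n ^ 2 := Finset.sum_le_sum hinv
    rw [Finset.sum_add_distrib, ← Finset.mul_sum, Finset.sum_const, Finset.sum_const,
      smul_eq_mul, smul_eq_mul, ← hnI] at this
    calc W * (∑ x ∈ Ifin, c x) + 2 * W * n = W * ∑ i ∈ Ifin, c i + n * (2 * W) := by ring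
      _ ≤ n * (2 * n ^ 2) := this
      _ = 2 * n ^ 2 * n := by ring
  have hb2 : W * (∑ x ∈ Rest, c x) ≤ Rest.card * n ^ 2 := by
    have : ∑ x ∈ Rest, W * c x ≤ ∑ _x ∈ Rest, n ^ 2 := by
      apply Finset.sum_le_sum
      intro x hx
      rw [hR, Finset.mem_filter] at hx
      exact hrest x hx.2
    rw [← Finset.mul_sum, Finset.sum_const, smul_eq_mul] at this
    exact this
  -- final arithmetic
  have hfinal : W * n ^ 2 + 2 * W * n ≤ W * n + 2 * n ^ 2 * n + Rest.card * n ^ 2 := by
    calc W * n ^ 2 + 2 * W * n = W * (∑ x : G, c x) + 2 * W * n := by rw [hsum]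
      _ = W * c 1 + (W * (∑ x ∈ Ifin, c x) + 2 * W * n) + W * (∑ x ∈ Rest, c x) := by
          rw [hsum2]; ring
      _ ≤ W * n + 2 * n ^ 2 * n + Rest.card * n ^ 2 := by
          rw [hc1]
          exact Nat.add_le_add (Nat.add_le_add_left hb1 _) hb2
  rw [← hnI] at hcardsplit
  set R := Rest.card with hRc
  have hWR : W = R + 1 + 2 * n := by rw [hW, hcardsplit]; ring
  rw [hWR] at hfinal
  have : (R + 1 + 2 * n) * n ^ 2 + 2 * (R + 1 + 2 * n) * n =
      ((R + 1 + 2 * n) * n + 2 * n ^ 2 * n + R * n ^ 2) + (3 * n ^ 2 + R * n + n) := by ring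
  rw [this] at hfinal
  have h0 : 3 * n ^ 2 + R * n + n ≤ 0 := by omega
  have : n ≤ 0 := by nlinarith
  omega

end Cfsg.Agent.S0233
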