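import Mathlib
import Cfsg.Statements.S0212
import Cfsg.Agent.Lib.Lead.Invol
import Cfsg.Agent.Lib.Lead.ConjCount
import Cfsg.Agent.Lib.Lead.StronglyEmbedded
import Cfsg.Agent.S0233

set_option autoImplicit false
open Cfsg
open Cfsg.Agent.Lib.Lead

namespace Cfsg.Agent.S0212

/-- a simple group embeds in the symmetric group on the cosets of a proper subgroup -/
theorem card_le_factorial_index {G : Type*} [Group G] [Finite G] [IsSimpleGroup G]
    (H : Subgroup G) (hH : H ≠ ⊤) : Nat.card G ≤ Nat.factorial H.index := by
  have hker : (MulAction.toPermHom G (G ⧸ H)).ker = ⊥ := by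
    rcases (MulAction.toPermHom G (G ⧸ H)).normal_ker.eq_bot_or_eq_top with h | h
    · exact h
    · exfalso
      apply hH
      rw [← Subgroup.normalCore_eq_ker] at h
      exact top_le_iff.mp (h ▸ Subgroup.normalCore_le H)
  have hinj : Function.Injective (MulAction.toPermHom G (G ⧸ H)) :=
    (MonoidHom.ker_eq_bot_iff _).mp hker
  have h1 := Nat.card_le_card_of_injective _ hinj
  rw [Nat.card_perm] at h1
  exact h1

/-- The Brauer–Fowler bound: if G is a finite simple group and t an involution of G whose centralizer has order n, then |G| ≤ (2n^2)!. -/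
theorem result {G : Type*} [Group G] [Finite G] [IsSimpleGroup G] (t : G) (ht : orderOf t = 2) : Nat.card G ≤ Nat.factorial (2 * (Nat.card (Subgroup.centralizer ({t} : Set G))) ^ 2) := by
  classical
  set n₀ := Nat.card (Subgroup.centralizer ({t} : Set G)) with hn₀
  have hn₀pos : 0 < n₀ := Nat.card_pos
  rcases (inferInstance : (Subgroup.center G).Normal).eq_bot_or_eq_top with hZ | hZ
  · -- trivial centre
    have hZodd : Odd (Nat.card (Subgroup.center G)) := by
      rw [hZ, Subgroup.card_bot]; exact odd_one
    have heven : Even (Nat.card G) := by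
      have := even_card_of_invol_mem (⊤ : Subgroup G) t ht trivial
      rwa [Subgroup.card_top] at this
    obtain ⟨H, hH, hidx⟩ := Cfsg.Agent.S0233.result heven hZodd
    set n := Nat.card {t : G // orderOf t = 2} with hn
    -- |G| ≤ n₀ * n
    have hGn : Nat.card G ≤ n * n₀ := by
      rw [← card_conj_mul_card_centralizer t]
      apply Nat.mul_le_mul_right
      apply Nat.card_le_card_of_injective (fun b : {b : G // IsConj t b} =>
        (⟨b.1, by
          obtain ⟨g, hg⟩ := isConj_iff.mp b.2
          have hsc : SemiconjBy g t b.1 := by unfold SemiconjBy; rw [← hg]; group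
          rw [← hsc.orderOf_eq g]; exact ht⟩ : {t : G // orderOf t = 2}))
      intro a b hab
      apply Subtype.ext
      have := congrArg Subtype.val hab
      exact this
    have hnpos : 0 < n := by
      rw [hn]
      exact Nat.card_pos_iff.mpr ⟨⟨⟨t, ht⟩⟩, inferInstance⟩
    have hidx2 : H.index ≤ 2 * n₀ ^ 2 := by
      rcases hidx with h | h
      · rw [h]; nlinarith
      · have h1 : Nat.card G * (Nat.card G + n) ≤ (n * n₀) * (n * n₀ + n) :=
          Nat.mul_le_mul hGn (Nat.add_le_add_right hGn n)
        have h2 : 2 * H.index * n ^ 2 < (n₀ ^ 2 + n₀) * n ^ 2 := by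
          calc 2 * H.index * n ^ 2 < Nat.card G * (Nat.card G + n) := h
            _ ≤ (n * n₀) * (n * n₀ + n) := h1
            _ = (n₀ ^ 2 + n₀) * n ^ 2 := by ring
        have h3 : 2 * H.index < n₀ ^ 2 + n₀ := Nat.lt_of_mul_lt_mul_right h2
        nlinarith
    exact (card_le_factorial_index H hH).trans (Nat.factorial_le hidx2)
  · -- abelian case : the centralizer is everything
    have hC : Subgroup.centralizer ({t} : Set G) = ⊤ := by
      rw [eq_top_iff]
      intro g _
      rw [Subgroup.mem_centralizer_singleton_iff]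
      have : t ∈ Subgroup.center G := by rw [hZ]; trivial
      exact (Subgroup.mem_center_iff.mp this g)
    have h1 : n₀ = Nat.card G := by rw [hn₀, hC, Subgroup.card_top]
    rw [← h1]
    calc n₀ ≤ 2 * n₀ ^ 2 := by nlinarith
      _ ≤ Nat.factorial (2 * n₀ ^ 2) := Nat.self_le_factorial _

end Cfsg.Agent.S0212
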