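import Mathlib
import Cfsg.Statements.S0214
import Cfsg.Agent.Lib.Lead.CjMore
import Cfsg.Agent.Lib.Lead.StronglyEmbedded

set_option autoImplicit false
open Cfsg

namespace Cfsg.Agent.S0214

open Cfsg.Agent.Lib.Lead Cfsg.Agent.Lib.Lead.BaerSuzuki

variable {G : Type*} [Group G] [Finite G]

/-- Lemma A: the hypothesis on subgroups of `P` passes to all nontrivial 2-subgroups of `H`. -/
theorem hypA (H : Subgroup G) (P : Sylow 2 ↥H)
    (hyp : ∀ X : Subgroup ↥H, X ≤ (P : Subgroup ↥H) → X ≠ ⊥ →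
      Subgroup.normalizer ((X.map H.subtype : Subgroup G) : Set G) ≤ H)
    (Y : Subgroup G) (hY : Y ≤ H) (h2 : IsPGroup 2 Y) (hne : Y ≠ ⊥) :
    Subgroup.normalizer (Y : Set G) ≤ H := by
  haveI : Fact (Nat.Prime 2) := ⟨Nat.prime_two⟩
  obtain ⟨h, hh, hle⟩ := exists_cj_le_sylow H P Y hY h2
  -- X = (cj Y h).subgroupOf H
  have hcjH : cj Y h ≤ H := hle.trans (Subgroup.map_subtype_le _)
  have hX : (cj Y h).subgroupOf H ≤ (P : Subgroup ↥H) := by
    intro x hx
    rw [Subgroup.mem_subgroupOf] at hx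
    obtain ⟨x', hx', hxx⟩ := hle hx
    have : x' = x := Subtype.ext hxx
    rwa [this] at hx'
  have hmap : ((cj Y h).subgroupOf H).map H.subtype = cj Y h :=
    Subgroup.map_subgroupOf_eq_of_le hcjH
  have hXne : (cj Y h).subgroupOf H ≠ ⊥ := by
    intro hbot
    have := hmap
    rw [hbot, Subgroup.map_bot] at this
    exact cj_ne_bot Y h hne this.symm
  have hN := hyp _ hX hXne
  rw [hmap, normalizer_cj, cj_le_iff_le_cj_inv, cj_of_mem H h⁻¹ (H.inv_mem hh)] at hN
  exact hN

/-- Lemma B: a Sylow 2-subgroup of `H ∩ gHg⁻¹` is a maximal 2-subgroup of `H`. -/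
theorem lemB (H : Subgroup G)
    (hA : ∀ Y : Subgroup G, Y ≤ H → IsPGroup 2 Y → Y ≠ ⊥ → Subgroup.normalizer (Y : Set G) ≤ H)
    (g : G) (S : Subgroup G) (hS2 : IsPGroup 2 S) (hne : S ≠ ⊥) (hSD : S ≤ H ⊓ cj H g)
    (hmax : ∀ T : Subgroup G, IsPGroup 2 T → S ≤ T → T ≤ H ⊓ cj H g → T = S) :
    ∀ T : Subgroup G, IsPGroup 2 T → S ≤ T → T ≤ H → T = S := by
  haveI : Fact (Nat.Prime 2) := ⟨Nat.prime_two⟩
  have hSH : S ≤ H := hSD.trans inf_le_left
  have hN1 : Subgroup.normalizer (S : Set G) ≤ H := hA S hSH hS2 hne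
  have hN2 : Subgroup.normalizer (S : Set G) ≤ cj H g := by
    have h1 : cj S g⁻¹ ≤ H := by
      rw [cj_le_iff_le_cj_inv, inv_inv]; exact hSD.trans inf_le_right
    have h2 := hA (cj S g⁻¹) h1 (isPGroup_cj S g⁻¹ hS2) (cj_ne_bot S g⁻¹ hne)
    rw [normalizer_cj, cj_le_iff_le_cj_inv, inv_inv] at h2
    exact h2
  intro T hT2 hST hTH
  by_contra hTS
  have hlt : S < T := lt_of_le_of_ne hST (Ne.symm hTS)
  -- normalizer condition in T
  haveI : Group.IsNilpotent T := hT2.isNilpotent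
  have hnc := Group.normalizerCondition_of_isNilpotent (G := T)
  have hlt' : S.subgroupOf T < ⊤ := by
    rw [lt_top_iff_ne_top]
    intro htop
    rw [Subgroup.subgroupOf_eq_top] at htop
    exact hTS (le_antisymm htop hST)
  have h3 := hnc _ hlt'
  obtain ⟨t, htN, htS⟩ := SetLike.exists_of_lt h3
  rw [← Subgroup.subgroupOf_normalizer_eq hST, Subgroup.mem_subgroupOf] at htN
  rw [Subgroup.mem_subgroupOf] at htS
  -- T1 = zpowers t ⊔ S
  have hz2 : IsPGroup 2 (Subgroup.zpowers (t : G)) :=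
    hT2.to_le (by rw [Subgroup.zpowers_le]; exact t.2)
  have hzN : Subgroup.zpowers (t : G) ≤ Subgroup.normalizer (S : Set G) := by
    rw [Subgroup.zpowers_le]; exact htN
  have hT1 : IsPGroup 2 (Subgroup.zpowers (t : G) ⊔ S : Subgroup G) :=
    IsPGroup.to_sup_of_normal_right' hz2 hS2 hzN
  have hT1D : Subgroup.zpowers (t : G) ⊔ S ≤ H ⊓ cj H g := by
    apply sup_le
    · exact hzN.trans (le_inf hN1 hN2)
    · exact hSD
  have := hmax _ hT1 le_sup_right hT1D
  apply htS
  rw [← this]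
  exact Subgroup.mem_sup_left (Subgroup.mem_zpowers _)

/-- A proper subgroup H of even order in a finite group G is strongly embedded if and only if, for a Sylow 2-subgroup P of H, the normalizer in G of every nontrivial subgroup of P is contained in H. -/
theorem result {G : Type*} [Group G] [Finite G] (H : Subgroup G) (hH : H ≠ ⊤) (P : Sylow 2 ↥H) (hP : (P : Subgroup ↥H) ≠ ⊥) : Cfsg.IsStronglyEmbedded H ↔ (∀ X : Subgroup ↥H, X ≤ (P : Subgroup ↥H) → X ≠ ⊥ → Subgroup.normalizer ((X.map H.subtype : Subgroup G) : Set G) ≤ H) := by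
  haveI : Fact (Nat.Prime 2) := ⟨Nat.prime_two⟩
  have hev : Even (Nat.card H) := by
    rcases P.2.card_eq_or_dvd with h | h
    · exact absurd (Subgroup.card_eq_one.mp h) hP
    · exact even_iff_two_dvd.mpr (h.trans (Subgroup.card_subgroup_dvd_card _))
  rw [stronglyEmbedded_iff H hH hev]
  constructor
  · intro hse X hXP hXne n hn
    by_contra hnH
    -- an involution in X
    have hX2 : IsPGroup 2 X := P.2.to_le hXP
    have h2X : 2 ∣ Nat.card X := by
      rcases hX2.card_eq_or_dvd with h | h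
      · exact absurd (Subgroup.card_eq_one.mp h) hXne
      · exact h
    obtain ⟨s, hs⟩ := exists_prime_orderOf_dvd_card' 2 h2X
    have hsG : orderOf ((s : H) : G) = 2 := by
      rw [Subgroup.orderOf_coe, Subgroup.orderOf_coe]; exact hs
    have hsX : ((s : H) : G) ∈ X.map H.subtype := ⟨s, s.2, rfl⟩
    have hnsn : n * ((s : H) : G) * n⁻¹ ∈ X.map H.subtype :=
      (Subgroup.mem_normalizer_iff.mp hn _).mp hsX
    have hnsnH : n * ((s : H) : G) * n⁻¹ ∈ H := Subgroup.map_subtype_le _ hnsn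
    have hninv : n⁻¹ ∉ H := fun h => hnH (by simpa using H.inv_mem h)
    have := hse n⁻¹ hninv ((s : H) : G) hsG (s : H).2
    rw [inv_inv] at this
    exact this hnsnH
  · intro hyp g hg s hs hsH hconj
    have hA := hypA H P hyp
    -- D = H ⊓ cj H g contains s
    set D : Subgroup G := H ⊓ cj H g with hD
    have hsD : s ∈ D := Subgroup.mem_inf.mpr ⟨hsH, (mem_cj H g s).mpr hconj⟩
    have hDev : 2 ∣ Nat.card D :=
      even_iff_two_dvd.mp (even_card_of_invol_mem _ s hs hsD)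
    obtain S0 : Sylow 2 D := default
    have hS0ne : (S0 : Subgroup D) ≠ ⊥ := S0.ne_bot_of_dvd_card hDev
    set S : Subgroup G := (S0 : Subgroup D).map D.subtype with hSdef
    have hS2 : IsPGroup 2 S := S0.2.map _
    have hSne : S ≠ ⊥ := by
      intro h
      apply hS0ne
      exact (Subgroup.map_eq_bot_iff_of_injective _ D.subtype_injective).mp h
    have hSD : S ≤ D := Subgroup.map_subtype_le _
    have hmax : ∀ T : Subgroup G, IsPGroup 2 T → S ≤ T → T ≤ D → T = S := by
      intro T hT2 hST hTD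
      have h1 : (S0 : Subgroup D) ≤ T.subgroupOf D := by
        intro x hx
        rw [Subgroup.mem_subgroupOf]
        exact hST ⟨x, hx, rfl⟩
      have h2 := S0.3 hT2.comap_subtype h1
      rw [hSdef, ← h2]
      exact (Subgroup.map_subgroupOf_eq_of_le hTD).symm
    have hB1 := lemB H hA g S hS2 hSne hSD hmax
    -- the conjugate picture
    have hS'D : cj S g⁻¹ ≤ H ⊓ cj H g⁻¹ := by
      apply le_inf
      · rw [cj_le_iff_le_cj_inv, inv_inv]; exact hSD.trans inf_le_right
      · exact cj_mono (hSD.trans inf_le_left) g⁻¹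
    have hmax' : ∀ T : Subgroup G, IsPGroup 2 T → cj S g⁻¹ ≤ T → T ≤ H ⊓ cj H g⁻¹ →
        T = cj S g⁻¹ := by
      intro T hT2 hST hTD
      have h1 : S ≤ cj T g := by
        have := cj_mono hST g
        rwa [cj_cj_inv] at this
      have h2 : cj T g ≤ D := by
        apply le_inf
        · have := cj_mono (hTD.trans inf_le_right) g
          rwa [cj_cj_inv] at this
        · exact cj_mono (hTD.trans inf_le_left) g
      have h3 := hmax (cj T g) (isPGroup_cj T g hT2) h1 h2
      rw [cj_eq_iff] at h3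
      exact h3
    have hB2 := lemB H hA g⁻¹ (cj S g⁻¹) (isPGroup_cj S g⁻¹ hS2) (cj_ne_bot S g⁻¹ hSne) hS'D hmax'
    -- both are H-conjugate to P'
    obtain ⟨h1, hh1, hle1⟩ := exists_cj_le_sylow H P S (hSD.trans inf_le_left) hS2
    obtain ⟨h2, hh2, hle2⟩ := exists_cj_le_sylow H P (cj S g⁻¹) (hS'D.trans inf_le_left)
      (isPGroup_cj S g⁻¹ hS2)
    set P' : Subgroup G := (P : Subgroup H).map H.subtype with hP'
    have hP'2 : IsPGroup 2 P' := P.2.map _
    have hP'H : P' ≤ H := Subgroup.map_subtype_le _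
    have e1 : cj P' h1⁻¹ = S := by
      apply hB1 _ (isPGroup_cj P' h1⁻¹ hP'2)
      · rw [← cj_le_iff_le_cj_inv]; exact hle1
      · rw [cj_le_iff_le_cj_inv, inv_inv, cj_of_mem H h1 hh1]; exact hP'H
    have e2 : cj P' h2⁻¹ = cj S g⁻¹ := by
      apply hB2 _ (isPGroup_cj P' h2⁻¹ hP'2)
      · rw [← cj_le_iff_le_cj_inv]; exact hle2
      · rw [cj_le_iff_le_cj_inv, inv_inv, cj_of_mem H h2 hh2]; exact hP'H
    -- so g * h2⁻¹ * h1 normalizes S
    have e3 : cj S (g * h2⁻¹ * h1) = S := by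
      have : cj S (g * h2⁻¹ * h1) = cj (cj (cj S h1) h2⁻¹) g := by
        rw [cj_cj, cj_cj, mul_assoc]
      rw [this]
      have e1' : cj S h1 = P' := by rw [← e1, cj_cj_inv]
      rw [e1', e2, cj_cj_inv]
    have hN := hA S (hSD.trans inf_le_left) hS2 hSne (mem_normalizer_of_cj_eq S _ e3)
    apply hg
    have : g = (g * h2⁻¹ * h1) * (h1⁻¹ * h2) := by group
    rw [this]
    exact H.mul_mem hN (H.mul_mem (H.inv_mem hh1) hh2)

end Cfsg.Agent.S0214
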