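import Mathlib
import Cfsg.Statements.S0218
import Cfsg.Agent.Lib.Lead.Invol

set_option autoImplicit false
open Cfsg
open Cfsg.Agent.Lib.Lead

namespace Cfsg.Agent.S0218

theorem invol_eq {m : ℕ} [NeZero m] (x : QuaternionGroup m) (hx : orderOf x = 2) :
    x = QuaternionGroup.a (m : ZMod (2 * m)) := by
  cases x with
  | a i =>
    have h1 := invol_mul_self hx
    rw [QuaternionGroup.a_mul_a, QuaternionGroup.one_def] at h1
    have h2 : i + i = 0 := by
      injection h1
    have hne : i ≠ 0 := by
      rintro rfl
      rw [QuaternionGroup.a_zero, orderOf_one] at hx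
      omega
    congr 1
    have hv : (i + i).val = 0 := by rw [h2]; exact ZMod.val_zero
    rw [ZMod.val_add] at hv
    have hlt := ZMod.val_lt i
    have hpos : 0 < m := NeZero.pos m
    have hi0 : i.val ≠ 0 := by
      intro h
      apply hne
      exact (ZMod.val_eq_zero i).mp h
    have hd : 2 * m ∣ i.val + i.val := Nat.dvd_of_mod_eq_zero hv
    obtain ⟨c, hc⟩ := hd
    have hc1 : c = 1 := by
      have : c < 2 := by
        by_contra hge
        have hge' : 2 ≤ c := Nat.le_of_not_lt hge
        have : 2 * m * 2 ≤ 2 * m * c := Nat.mul_le_mul_left _ hge'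
        omega
      have : c ≠ 0 := by
        rintro rfl
        omega
      omega
    have hval : i.val = m := by
      subst hc1; omega
    rw [← ZMod.natCast_zmod_val i, hval]
  | xa i =>
    rw [QuaternionGroup.orderOf_xa] at hx
    omega

theorem orderOf_a_m {m : ℕ} [NeZero m] :
    orderOf (QuaternionGroup.a (m : ZMod (2 * m)) : QuaternionGroup m) = 2 := by
  apply invol_of_mul_self
  · rw [QuaternionGroup.one_def]
    intro h
    injection h with h
    have hpos : 0 < m := NeZero.pos m
    have : (2 * m) ∣ m := (ZMod.natCast_eq_zero_iff m (2 * m)).mp h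
    have := Nat.le_of_dvd hpos this
    omega
  · rw [QuaternionGroup.a_mul_a, QuaternionGroup.one_def]
    congr 1
    have : ((m : ZMod (2 * m)) + m) = ((2 * m : ℕ) : ZMod (2 * m)) := by push_cast; ring
    rw [this]
    exact ZMod.natCast_self (2 * m)

/-- The generalized quaternion group of order 2^(n+3) contains exactly one element of order 2. -/
theorem result (n : ℕ) : Nat.card {x : QuaternionGroup (2 ^ (n + 1)) // orderOf x = 2} = 1 := by
  have : NeZero (2 ^ (n + 1)) := ⟨by positivity⟩
  rw [Nat.card_eq_one_iff_unique]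
  constructor
  · constructor
    rintro ⟨x, hx⟩ ⟨y, hy⟩
    apply Subtype.ext
    simp only
    rw [invol_eq x hx, invol_eq y hy]
  · exact ⟨⟨_, orderOf_a_m⟩⟩

end Cfsg.Agent.S0218
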