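import Mathlib
import Cfsg.Statements.S0223
import Cfsg.Agent.Lib.Lead.StronglyEmbedded

set_option autoImplicit false
open Cfsg
open Cfsg.Agent.Lib.Lead

namespace Cfsg.Agent.S0223

/-- Let H be a proper subgroup of even order of the finite group G. Then H is strongly embedded if and only if (i) C_G(t) ≤ H for every involution t of H and (ii) H controls fusion of its involutions: involutions of H conjugate in G are conjugate in H. -/
theorem result {G : Type*} [Group G] [Finite G] (H : Subgroup G) (hH : H ≠ ⊤) (heven : Even (Nat.card H)) : Cfsg.IsStronglyEmbedded H ↔ ((∀ t ∈ H, orderOf t = 2 → Subgroup.centralizer ({t} : Set G) ≤ H) ∧ (∀ t ∈ H, ∀ s ∈ H, orderOf t = 2 → orderOf s = 2 → IsConj t s → ∃ h ∈ H, h * t * h⁻¹ = s)) := by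
  rw [stronglyEmbedded_iff H hH heven]
  constructor
  · intro hA
    constructor
    · intro t htH ht c hc
      by_contra hcH
      apply hA c hcH t ht htH
      rw [Subgroup.mem_centralizer_singleton_iff] at hc
      rw [mul_assoc, ← hc, inv_mul_cancel_left]
      exact htH
    · intro t htH s hsH ht hs hconj
      obtain ⟨g, hg⟩ := isConj_iff.mp hconj
      by_cases hgH : g ∈ H
      · exact ⟨g, hgH, hg⟩
      · exfalso
        apply hA g hgH s hs hsH
        rw [← hg]
        have : g⁻¹ * (g * t * g⁻¹) * g = t := by group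
        rw [this]; exact htH
  · rintro ⟨h1, h2⟩ g hgH s hs hsH hconj
    set t := g⁻¹ * s * g with ht
    have hto : orderOf t = 2 := by
      have hsc : SemiconjBy g⁻¹ s t := by
        unfold SemiconjBy; rw [ht]; group
      rw [← hsc.orderOf_eq g⁻¹]; exact hs
    have hgt : g * t * g⁻¹ = s := by rw [ht]; group
    obtain ⟨h, hhH, hh⟩ := h2 t hconj s hsH hto hs (isConj_iff.mpr ⟨g, hgt⟩)
    have hc : g⁻¹ * h ∈ Subgroup.centralizer ({t} : Set G) := by
      rw [Subgroup.mem_centralizer_singleton_iff]
      have h3 : h * t = s * h := by rw [← hh]; group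
      have h4 : t * g⁻¹ = g⁻¹ * s := by rw [ht]; group
      calc g⁻¹ * h * t = g⁻¹ * (h * t) := by group
        _ = g⁻¹ * (s * h) := by rw [h3]
        _ = (g⁻¹ * s) * h := by group
        _ = (t * g⁻¹) * h := by rw [h4]
        _ = t * (g⁻¹ * h) := by group
    have h5 := h1 t hconj hto hc
    apply hgH
    have : g = h * (g⁻¹ * h)⁻¹ := by group
    rw [this]
    exact mul_mem hhH (inv_mem h5)

end Cfsg.Agent.S0223
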