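import Mathlib
import Cfsg.Statements.S0224
import Cfsg.Agent.Lib.Lead.StronglyEmbedded

set_option autoImplicit false
open Cfsg
open Cfsg.Agent.Lib.Lead

namespace Cfsg.Agent.S0224

theorem fixed_iff {G : Type*} [Group G] (H : Subgroup G) (t g : G) (ht : orderOf t = 2) :
    t • ((g : G) : G ⧸ H) = ((g : G) : G ⧸ H) ↔ g⁻¹ * t * g ∈ H := by
  have : t • ((g : G) : G ⧸ H) = ((t * g : G) : G ⧸ H) := rfl
  rw [this, QuotientGroup.eq, mul_inv_rev, invol_inv ht]

/-- Let H be a proper subgroup of even order of the finite group G. Then H is strongly embedded if and only if each involution of H fixes exactly one point (namely the coset H) in the action of G on the cosets of H. -/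
theorem result {G : Type*} [Group G] [Finite G] (H : Subgroup G) (hH : H ≠ ⊤) (heven : Even (Nat.card H)) : Cfsg.IsStronglyEmbedded H ↔ ∀ t ∈ H, orderOf t = 2 → Nat.card {c : G ⧸ H // t • c = c} = 1 := by
  rw [stronglyEmbedded_iff H hH heven]
  constructor
  · intro hA t htH ht
    rw [Nat.card_eq_one_iff_unique]
    have h1 : t • (((1 : G) : G ⧸ H)) = ((1 : G) : G ⧸ H) := by
      rw [fixed_iff H t 1 ht]
      simpa using htH
    constructor
    · constructor
      have key : ∀ c : {c : G ⧸ H // t • c = c}, c.1 = ((1 : G) : G ⧸ H) := by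
        rintro ⟨c, hc⟩
        induction c using QuotientGroup.induction_on with
        | H g =>
          simp only
          rw [fixed_iff H t g ht] at hc
          have hg : g ∈ H := by
            by_contra hgH
            exact hA g hgH t ht htH hc
          rw [eq_comm, QuotientGroup.eq]
          simpa using hg
      intro a b
      apply Subtype.ext
      rw [key a, key b]
    · exact ⟨⟨_, h1⟩⟩
  · intro h g hgH s hs hsH hconj
    have h1 := h s hsH hs
    rw [Nat.card_eq_one_iff_unique] at h1
    obtain ⟨hsub, -⟩ := h1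
    have f1 : s • (((1 : G) : G ⧸ H)) = ((1 : G) : G ⧸ H) := by
      rw [fixed_iff H s 1 hs]
      simpa using hsH
    have f2 : s • (((g : G) : G ⧸ H)) = ((g : G) : G ⧸ H) := (fixed_iff H s g hs).mpr hconj
    have := hsub.elim ⟨_, f1⟩ ⟨_, f2⟩
    have h2 : ((1 : G) : G ⧸ H) = ((g : G) : G ⧸ H) := congrArg Subtype.val this
    rw [QuotientGroup.eq] at h2
    apply hgH
    simpa using h2

end Cfsg.Agent.S0224
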