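import Cfsg.Statements.S0225
import Mathlib
import Cfsg.Agent.Lib.Helper2.ZS10
import Cfsg.Agent.Lib.Helper5.KleinPairs

set_option autoImplicit false
open Cfsg

namespace Cfsg.Agent.S0225

open Cfsg.Agent.Lib.Helper2.ZS Cfsg.Agent.Lib.Lead

/-- If a finite group G has even order but contains no Klein four-subgroup (2-rank 1), then some involution z of G is central modulo a normal subgroup of odd order: there is a normal subgroup N of odd order containing every commutator z g z⁻¹ g⁻¹. -/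
theorem result {G : Type*} [Group G] [Finite G] (heven : Even (Nat.card G)) (hrank : ∀ E : Subgroup G, ¬ IsKleinFour E) : ∃ z : G, orderOf z = 2 ∧ ∃ N : Subgroup G, N.Normal ∧ Odd (Nat.card N) ∧ ∀ g : G, z * g * z⁻¹ * g⁻¹ ∈ N := by
  have : Fact (Nat.Prime 2) := ⟨Nat.prime_two⟩
  obtain ⟨z, hz2⟩ := exists_prime_orderOf_dvd_card' (G := G) 2 (even_iff_two_dvd.mp heven)
  obtain ⟨S, hzS⟩ := Cfsg.Agent.S0231.invol_mem_sylow z hz2
  -- an involution in the centre of `S`
  have hnt : Nontrivial ↥(S : Subgroup G) := by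
    refine ⟨⟨⟨z, hzS⟩, 1, ?_⟩⟩
    intro h
    have h1 : z = 1 := congrArg Subtype.val h
    rw [h1, orderOf_one] at hz2
    omega
  have hcn : Nontrivial ↥(Subgroup.center ↥(S : Subgroup G)) := S.2.center_nontrivial
  have hcp : IsPGroup 2 ↥(Subgroup.center ↥(S : Subgroup G)) := S.2.to_subgroup _
  obtain ⟨c, hc⟩ : ∃ c : ↥(Subgroup.center ↥(S : Subgroup G)), orderOf c = 2 := by
    obtain ⟨n, hn⟩ := IsPGroup.iff_card.mp hcp
    have h2 : 2 ∣ Nat.card ↥(Subgroup.center ↥(S : Subgroup G)) := by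
      rw [hn]
      have hn0 : n ≠ 0 := by
        rintro rfl
        rw [pow_zero] at hn
        have := Finite.one_lt_card (α := ↥(Subgroup.center ↥(S : Subgroup G)))
        omega
      exact dvd_pow_self 2 hn0
    exact exists_prime_orderOf_dvd_card' 2 h2
  set c₀ : G := ((c : ↥(S : Subgroup G)) : G) with hc₀
  have hc₀2 : orderOf c₀ = 2 := by
    rw [hc₀, Subgroup.orderOf_coe, Subgroup.orderOf_coe]; exact hc
  have hc₀S : c₀ ∈ (S : Subgroup G) := (c : ↥(S : Subgroup G)).2
  have hcomm : ∀ t ∈ (S : Subgroup G), t * c₀ = c₀ * t := by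
    intro t ht
    have := Subgroup.mem_center_iff.mp c.2 ⟨t, ht⟩
    exact congrArg Subtype.val this
  -- uniqueness of the involution of `S`
  have huniq : ∀ t ∈ (S : Subgroup G), orderOf t = 2 → t = c₀ := by
    intro t ht ht2
    by_contra hne
    have hcc : c₀ * c₀ = 1 := by rw [← pow_two, ← hc₀2, pow_orderOf_eq_one]
    have htt : t * t = 1 := by rw [← pow_two, ← ht2, pow_orderOf_eq_one]
    have hc1 : c₀ ≠ 1 := by
      intro h; rw [h, orderOf_one] at hc₀2; omega
    have ht1 : t ≠ 1 := by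
      intro h; rw [h, orderOf_one] at ht2; omega
    exact hrank _ (Cfsg.Agent.Lib.Helper5.KleinPairs.isKleinFour_kv c₀ t hcc htt (hcomm t ht) hc1 ht1
      (fun h => hne h.symm))
  have hiso : Cfsg.IsIsolatedInvolution c₀ := by
    apply isolated_of_sylow S c₀ hc₀2 hc₀S
    intro g hg
    apply huniq _ hg
    rw [show g * c₀ * g⁻¹ = MulAut.conj g c₀ from rfl, MulEquiv.orderOf_eq, hc₀2]
  refine ⟨c₀, hc₀2, Cfsg.oddCore G, Cfsg.Agent.Lib.Helper1.pPrimeCore_normal 2, ?_, fun g => zstar c₀ hiso g⟩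
  exact Nat.coprime_two_right.mp (Cfsg.Agent.Lib.Helper1.pPrimeCore_card_coprime 2)

end Cfsg.Agent.S0225
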