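import Mathlib
import Cfsg.Statements.S0226

set_option autoImplicit false
open Cfsg

namespace Cfsg.Agent.S0226

/-- A finite group of even order has an odd number of involutions. -/
theorem result {G : Type*} [Group G] [Finite G] (heven : Even (Nat.card G)) : Odd (Nat.card {t : G // orderOf t = 2}) := by
  classical
  have : Fintype G := Fintype.ofFinite G
  let f : Function.End G := fun x => x⁻¹
  have hf : f ^ 2 ^ 1 = 1 := by
    rw [pow_one, pow_two]
    funext x
    show (x⁻¹)⁻¹ = x
    simp
  have : Fact (Nat.Prime 2) := ⟨Nat.prime_two⟩
  have h1 := Equiv.Perm.card_fixedPoints_modEq (p := 2) (n := 1) hf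
  -- fixed points = {1} ∪ involutions
  have hfix : Function.fixedPoints f = {x : G | x ^ 2 = 1} := by
    ext x
    simp only [Function.mem_fixedPoints, Function.IsFixedPt, Set.mem_ofPred_eq, f]
    rw [inv_eq_iff_mul_eq_one, ← pow_two]
  have h2 : Nat.card {x : G // x ^ 2 = 1} = Nat.card {t : G // orderOf t = 2} + 1 := by
    have e : {x : G // x ^ 2 = 1} ≃ Option {t : G // orderOf t = 2} :=
      { toFun := fun x => if h : x.1 = 1 then none else some ⟨x.1, orderOf_eq_prime x.2 h⟩
        invFun := fun o => match o with
          | none => ⟨1, one_pow 2⟩
          | some t => ⟨t.1, by have h := pow_orderOf_eq_one t.1; rwa [t.2] at h⟩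
        left_inv := by
          intro x
          by_cases h : x.1 = 1
          · simp only [h, dite_true]
            exact Subtype.ext h.symm
          · simp only [h, dite_false]
        right_inv := by
          intro o
          cases o with
          | none => simp
          | some t =>
            have : t.1 ≠ 1 := by
              intro h
              have := t.2
              rw [h, orderOf_one] at this
              omega
            simp [this] }
    rw [Nat.card_congr e, Nat.card_eq_fintype_card, Fintype.card_option, Nat.card_eq_fintype_card]
  rw [Nat.card_eq_fintype_card] at heven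
  have h3 : Fintype.card (Function.fixedPoints f) = Nat.card {x : G // x ^ 2 = 1} := by
    rw [Nat.card_eq_fintype_card]
    apply Fintype.card_congr
    rw [hfix]
    exact Equiv.refl _
  rw [h3, h2] at h1
  have : (Nat.card {t : G // orderOf t = 2} + 1) % 2 = 0 := by
    rw [← h1]
    exact Nat.even_iff.mp heven
  rw [Nat.odd_iff]
  omega

end Cfsg.Agent.S0226
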