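import Mathlib
import Cfsg.Statements.S0229
import Cfsg.Agent.Lib.Lead.Dihedral
import Cfsg.Agent.S0208
import Cfsg.Agent.S0209
import Cfsg.Agent.S0211
import Cfsg.Agent.S0216

set_option autoImplicit false
open Cfsg
open Cfsg.Agent.Lib.Lead

namespace Cfsg.Agent.S0229

/-- Let t be an involution of a Sylow 2-subgroup S of a finite group G, conjugate in G to no other element of S, and let s be an involution of G not conjugate to t. Then the order of st is twice an odd number. -/
theorem result {G : Type*} [Group G] [Finite G] (S : Sylow 2 G) (t : G) (ht : orderOf t = 2) (htS : t ∈ S) (hiso : ∀ g : G, g * t * g⁻¹ ∈ S → g * t * g⁻¹ = t) (s : G) (hs : orderOf s = 2) (hns : ¬ IsConj s t) : orderOf (s * t) % 4 = 2 := by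
  have hodd := (Cfsg.Agent.S0216.result S t ht htS).mp hiso
  have hcomm : orderOf (t * s) = orderOf (s * t) := by
    have hsc : SemiconjBy s (t * s) (s * t) := by
      unfold SemiconjBy; group
    exact hsc.orderOf_eq s
  -- the order is even
  have heven : Even (orderOf (s * t)) := by
    by_contra hne
    rw [Nat.not_even_iff_odd] at hne
    obtain ⟨d, -, hd⟩ := Cfsg.Agent.S0208.result s t hs ht hne
    exact hns (isConj_iff.mpr ⟨d, hd⟩)
  have heven' : Even (orderOf (t * s)) := hcomm ▸ heven
  have h4 : ¬ 4 ∣ orderOf (t * s) := by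
    intro h4
    obtain ⟨d, -, hd⟩ := (Cfsg.Agent.S0211.result t s ht hs heven').mpr h4
    obtain ⟨hz2, hzt, -⟩ := Cfsg.Agent.S0209.result t s ht hs heven'
    set z := (t * s) ^ (orderOf (t * s) / 2) with hz
    have h1 : t * d * t⁻¹ * d⁻¹ = z⁻¹ := by
      have : t * d * t⁻¹ * d⁻¹ = t * (d * t * d⁻¹)⁻¹ := by group
      rw [this, hd, mul_inv_rev, ← mul_assoc, hzt.inv_left.eq.symm, mul_assoc, mul_inv_cancel, mul_one]
    have h2 := hodd d
    rw [h1, orderOf_inv, hz2] at h2
    exact absurd h2 (by decide)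
  rw [hcomm] at h4
  obtain ⟨m, hm⟩ := heven
  omega

end Cfsg.Agent.S0229
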