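import Mathlib
import Cfsg.Statements.S0230
import Cfsg.Agent.Lib.Lead.Invol
import Cfsg.Agent.Lib.Lead.ConjCount
import Cfsg.Agent.S0208
import Cfsg.Agent.S0209

set_option autoImplicit false
open Cfsg
open Cfsg.Agent.Lib.Lead

namespace Cfsg.Agent.S0230

theorem card_centralizer_eq_filter {G : Type*} [Group G] [Fintype G] (z : G)
    [DecidablePred fun b : G => Commute b z] :
    Nat.card (Subgroup.centralizer ({z} : Set G)) =
      (Finset.univ.filter (fun b : G => Commute b z)).card := by
  have h1 : Nat.card (Subgroup.centralizer ({z} : Set G)) = Nat.card {b : G // Commute b z} := by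
    apply Nat.card_congr
    exact Equiv.subtypeEquivRight (fun b => by
      rw [Subgroup.mem_centralizer_singleton_iff]; rfl)
  rw [h1, Nat.card_eq_fintype_card, Fintype.card_subtype]

/-- Let G be a finite group with two non-conjugate involutions, and let t be an involution whose centralizer has maximal order among centralizers of involutions. Then |G| < |C_G(t)|^3. -/
theorem result {G : Type*} [Group G] [Finite G] (s t : G) (hs : orderOf s = 2) (ht : orderOf t = 2) (hnc : ¬ IsConj s t) (hmax : ∀ u : G, orderOf u = 2 → Nat.card (Subgroup.centralizer ({u} : Set G)) ≤ Nat.card (Subgroup.centralizer ({t} : Set G))) : Nat.card G < Nat.card (Subgroup.centralizer ({t} : Set G)) ^ 3 := by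
  classical
  haveI : Fintype G := Fintype.ofFinite G
  set m := Nat.card (Subgroup.centralizer ({t} : Set G)) with hm
  have hmpos : 0 < m := Nat.card_pos
  set B : Finset G := Finset.univ.filter (fun b : G => IsConj t b) with hB
  set Z : Finset G := Finset.univ.filter (fun z : G => orderOf z = 2 ∧ Commute z s) with hZ
  have hBcard : Nat.card {b : G // IsConj t b} = B.card := by
    rw [Nat.card_eq_fintype_card, Fintype.card_subtype]
  have hG : B.card * m = Nat.card G := by
    rw [← hBcard]; exact card_conj_mul_card_centralizer t
  -- B is covered by centralizers of involutions of C(s)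
  have hcover : B ⊆ Z.biUnion (fun z => Finset.univ.filter (fun b : G => Commute b z)) := by
    intro b hb
    rw [hB, Finset.mem_filter] at hb
    obtain ⟨-, hb⟩ := hb
    obtain ⟨g, hg⟩ := isConj_iff.mp hb
    have hbo : orderOf b = 2 := by
      have hsc : SemiconjBy g t b := by
        unfold SemiconjBy; rw [← hg]; group
      rw [← hsc.orderOf_eq g]; exact ht
    have heven : Even (orderOf (s * b)) := by
      by_contra hne
      rw [Nat.not_even_iff_odd] at hne
      obtain ⟨d, -, hd⟩ := Cfsg.Agent.S0208.result s b hs hbo hne
      exact hnc ((isConj_iff.mpr ⟨d, hd⟩).trans hb.symm)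
    obtain ⟨hz2, hzs, hzb⟩ := Cfsg.Agent.S0209.result s b hs hbo heven
    rw [Finset.mem_biUnion]
    refine ⟨(s * b) ^ (orderOf (s * b) / 2), ?_, ?_⟩
    · rw [hZ, Finset.mem_filter]
      exact ⟨Finset.mem_univ _, hz2, hzs⟩
    · rw [Finset.mem_filter]
      exact ⟨Finset.mem_univ _, hzb.symm⟩
  have h1 : B.card ≤ Z.card * m := by
    calc B.card ≤ (Z.biUnion (fun z => Finset.univ.filter (fun b : G => Commute b z))).card :=
          Finset.card_le_card hcover
      _ ≤ ∑ z ∈ Z, (Finset.univ.filter (fun b : G => Commute b z)).card := Finset.card_biUnion_le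
      _ ≤ ∑ _z ∈ Z, m := by
          apply Finset.sum_le_sum
          intro z hz
          rw [hZ, Finset.mem_filter] at hz
          rw [← card_centralizer_eq_filter]
          exact hmax z hz.2.1
      _ = Z.card * m := by rw [Finset.sum_const, smul_eq_mul]
  -- Z has at most |C(s)| - 1 elements
  have h2 : Z.card + 1 ≤ m := by
    have h3 : (insert (1 : G) Z) ⊆ Finset.univ.filter (fun b : G => Commute b s) := by
      intro x hx
      rw [Finset.mem_insert] at hx
      rw [Finset.mem_filter]
      refine ⟨Finset.mem_univ _, ?_⟩
      rcases hx with rfl | hx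
      · exact Commute.one_left s
      · rw [hZ, Finset.mem_filter] at hx
        exact hx.2.2
    have h4 : (1 : G) ∉ Z := by
      rw [hZ, Finset.mem_filter]
      rintro ⟨-, h, -⟩
      rw [orderOf_one] at h
      omega
    have h5 := Finset.card_le_card h3
    rw [Finset.card_insert_of_notMem h4, ← card_centralizer_eq_filter s] at h5
    exact h5.trans (hmax s hs)
  rw [← hG]
  have h6 : Z.card ≤ m - 1 := by omega
  calc B.card * m ≤ (Z.card * m) * m := Nat.mul_le_mul_right m h1
    _ ≤ ((m - 1) * m) * m := Nat.mul_le_mul_right m (Nat.mul_le_mul_right m h6)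
    _ < m ^ 3 := by
        have : m ^ 3 = (m * m) * m := by ring
        rw [this]
        apply Nat.mul_lt_mul_of_pos_right _ hmpos
        apply Nat.mul_lt_mul_of_pos_right _ hmpos
        omega

end Cfsg.Agent.S0230
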