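import Mathlib
import Cfsg.Statements.S0232
import Cfsg.Agent.S0233
import Cfsg.Agent.S0219
import Cfsg.Agent.Lib.Lead.ConjCount
import Cfsg.Agent.Lib.Lead.StronglyEmbedded

set_option autoImplicit false
open Cfsg

namespace Cfsg.Agent.S0232

open Cfsg.Agent.Lib.Lead

theorem index_two_works {G : Type*} [Group G] [Finite G] (hgt : 2 < Nat.card G)
    (H : Subgroup G) (hH : H.index = 2) : H ≠ ⊤ ∧ Nat.card G < Nat.card H ^ 3 := by
  constructor
  · rintro rfl
    rw [Subgroup.index_top] at hH
    omega
  · have h := H.card_mul_index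
    rw [hH] at h
    have h2 : 2 ≤ Nat.card H := by omega
    rw [← h]
    have h4 : 4 ≤ Nat.card H * Nat.card H := Nat.mul_le_mul h2 h2
    have h5 : Nat.card H ^ 3 = Nat.card H * Nat.card H * Nat.card H := by ring
    rw [h5]
    nlinarith

theorem aux.{u} : ∀ n : ℕ, ∀ (G : Type u) [Group G] [Finite G], Nat.card G = n → Even n → 2 < n →
    ∃ H : Subgroup G, H ≠ ⊤ ∧ Nat.card G < Nat.card H ^ 3 := by
  intro n
  induction n using Nat.strong_induction_on with
  | _ n ih =>
  intro G _ _ hn hev hgt
  haveI : Fact (Nat.Prime 2) := ⟨Nat.prime_two⟩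
  have hevG : Even (Nat.card G) := hn ▸ hev
  have hgtG : 2 < Nat.card G := hn ▸ hgt
  by_cases hZ : Odd (Nat.card (Subgroup.center G))
  · -- Case B: centre of odd order
    obtain ⟨s, -, hs⟩ := exists_invol_of_even (⊤ : Subgroup G) (by
      rw [Subgroup.card_top]; exact hevG)
    haveI : Nonempty {t : G // orderOf t = 2} := ⟨⟨s, hs⟩⟩
    obtain ⟨⟨t, ht⟩, htmax⟩ := Finite.exists_max
      (fun u : {t : G // orderOf t = 2} => Nat.card (Subgroup.centralizer ({u.1} : Set G)))
    set m := Nat.card (Subgroup.centralizer ({t} : Set G)) with hm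
    have hCtop : Subgroup.centralizer ({t} : Set G) ≠ ⊤ := by
      intro htop
      have htZ : t ∈ Subgroup.center G := by
        rw [Subgroup.mem_center_iff]
        intro g
        have hg : g ∈ Subgroup.centralizer ({t} : Set G) := by rw [htop]; trivial
        exact Subgroup.mem_centralizer_singleton_iff.mp hg
      have := even_card_of_invol_mem (Subgroup.center G) t ht htZ
      exact (Nat.not_even_iff_odd.mpr hZ) this
    by_cases hlt : Nat.card G < m ^ 3
    · exact ⟨_, hCtop, hlt⟩
    push Not at hlt
    obtain ⟨H, hH, h⟩ := Cfsg.Agent.S0233.result hevG hZ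
    rcases h with h2 | hineq
    · exact ⟨H, index_two_works hgtG H h2⟩
    refine ⟨H, hH, ?_⟩
    set N := Nat.card G with hN
    set k := H.index with hk
    set ni := Nat.card {t : G // orderOf t = 2} with hni
    have hnipos : 0 < ni := Nat.card_pos
    have hmpos : 0 < m := Nat.card_pos
    -- N ≤ ni * m
    have hcls : Nat.card {b : G // IsConj t b} ≤ ni := by
      apply Nat.card_le_card_of_injective
        (fun b : {b : G // IsConj t b} => (⟨b.1, by
          obtain ⟨c, hc⟩ := isConj_iff.mp b.2
          rw [← hc]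
          have : orderOf (c * t * c⁻¹) = orderOf t := by
            have := (MulAut.conj c).orderOf_eq t
            simpa using this
          rw [this]; exact ht⟩ : {t : G // orderOf t = 2}))
      intro a b hab
      apply Subtype.ext
      exact congrArg (fun x : {t : G // orderOf t = 2} => x.1) hab
    have hNm : N ≤ ni * m := by
      rw [hN, ← card_conj_mul_card_centralizer t]
      exact Nat.mul_le_mul_right _ hcls
    -- 2k < m(m+1)
    have h1 : 2 * k * ni ^ 2 < ni ^ 2 * (m * (m + 1)) := by
      calc 2 * k * ni ^ 2 < N * (N + ni) := hineq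
        _ ≤ (ni * m) * (ni * m + ni) := Nat.mul_le_mul hNm (Nat.add_le_add_right hNm _)
        _ = ni ^ 2 * (m * (m + 1)) := by ring
    have h2 : 2 * k < m * (m + 1) := by
      have : ni ^ 2 * (2 * k) < ni ^ 2 * (m * (m + 1)) := by
        calc ni ^ 2 * (2 * k) = 2 * k * ni ^ 2 := by ring
          _ < _ := h1
      exact Nat.lt_of_mul_lt_mul_left this
    have h3 : k < m ^ 2 := by nlinarith
    have h4 : k ^ 3 < N ^ 2 := by
      calc k ^ 3 < (m ^ 2) ^ 3 := Nat.pow_lt_pow_left h3 (by norm_num)
        _ = (m ^ 3) ^ 2 := by ring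
        _ ≤ N ^ 2 := Nat.pow_le_pow_left hlt 2
    have h5 : Nat.card H * k = N := H.card_mul_index
    have hNpos : 0 < N := Nat.card_pos
    have h6 : N ^ 3 < Nat.card H ^ 3 * N ^ 2 := by
      calc N ^ 3 = Nat.card H ^ 3 * k ^ 3 := by rw [← h5]; ring
        _ < Nat.card H ^ 3 * N ^ 2 := by
          apply Nat.mul_lt_mul_of_pos_left h4
          exact pow_pos Nat.card_pos 3
    have h7 : N * N ^ 2 < Nat.card H ^ 3 * N ^ 2 := by
      calc N * N ^ 2 = N ^ 3 := by ring
        _ < _ := h6
    exact Nat.lt_of_mul_lt_mul_right h7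
  · -- Case A: centre of even order
    rw [Nat.not_odd_iff_even] at hZ
    obtain ⟨z, hzZ, hz⟩ := exists_invol_of_even (Subgroup.center G) hZ
    set Z := Subgroup.zpowers z with hZdef
    have hZle : Z ≤ Subgroup.center G := by
      rw [hZdef, Subgroup.zpowers_le]; exact hzZ
    haveI hZn : Z.Normal := by
      constructor
      intro x hx g
      have hc := Subgroup.mem_center_iff.mp (hZle hx) g
      have : g * x * g⁻¹ = x := by rw [hc]; group
      rw [this]; exact hx
    have hZcard : Nat.card Z = 2 := by rw [hZdef, Nat.card_zpowers, hz]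
    have hcard : Nat.card G = Nat.card (G ⧸ Z) * 2 := by
      rw [← hZcard]; exact Subgroup.card_eq_card_quotient_mul_card_subgroup Z
    set q := Nat.card (G ⧸ Z) with hq
    have hq2 : 2 ≤ q := by omega
    by_cases hq2' : q = 2
    · refine ⟨Z, ?_, ?_⟩
      · intro htop
        have := hZcard
        rw [htop, Subgroup.card_top] at this
        omega
      · rw [hZcard, hcard, hq2']; norm_num
    rcases Nat.even_or_odd q with hqe | hqo
    · -- induction
      have hqlt : q < n := by omega
      obtain ⟨Hbar, hHbar, hlt⟩ := ih q hqlt (G ⧸ Z) rfl hqe (by omega)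
      refine ⟨Hbar.comap (QuotientGroup.mk' Z), ?_, ?_⟩
      · intro htop
        apply hHbar
        have := Subgroup.map_comap_eq_self_of_surjective (QuotientGroup.mk'_surjective Z) Hbar
        rw [htop, Subgroup.map_top_of_surjective _ (QuotientGroup.mk'_surjective Z)] at this
        exact this.symm
      · have hidx : (Hbar.comap (QuotientGroup.mk' Z)).index = Hbar.index :=
          Subgroup.index_comap_of_surjective Hbar (QuotientGroup.mk'_surjective Z)
        have e1 := (Hbar.comap (QuotientGroup.mk' Z)).card_mul_index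
        have e2 := Hbar.card_mul_index
        rw [hidx] at e1
        have hipos : 0 < Hbar.index := Nat.pos_of_ne_zero Subgroup.index_ne_zero_of_finite
        have e3 : Nat.card (Hbar.comap (QuotientGroup.mk' Z)) = 2 * Nat.card Hbar := by
          have : Nat.card (Hbar.comap (QuotientGroup.mk' Z)) * Hbar.index =
              (2 * Nat.card Hbar) * Hbar.index := by
            rw [e1, hcard, hq, ← e2]; ring
          exact Nat.eq_of_mul_eq_mul_right hipos this
        rw [e3, hcard]
        have : q < Nat.card Hbar ^ 3 := hlt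
        calc q * 2 < Nat.card Hbar ^ 3 * 2 := by omega
          _ ≤ (2 * Nat.card Hbar) ^ 3 := by
            rw [mul_pow]; nlinarith [pow_pos (Nat.card_pos (α := Hbar)) 3]
    · -- q odd: Sylow 2-subgroup of order 2
      obtain P : Sylow 2 G := default
      have hP2 : Nat.card (P : Subgroup G) = 2 := by
        obtain ⟨k, hk⟩ := P.2.exists_card_eq
        have hdvd : 2 ^ k ∣ q * 2 := by
          rw [← hk, ← hcard]; exact Subgroup.card_subgroup_dvd_card _
        have hk1 : k ≠ 0 := by
          rintro rfl
          rw [pow_zero] at hk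
          have := P.dvd_card_of_dvd_card (even_iff_two_dvd.mp hevG)
          rw [hk] at this
          omega
        have hk2 : k < 2 := by
          by_contra hk2
          push Not at hk2
          have h4 : 2 ^ 2 ∣ q * 2 := (pow_dvd_pow 2 hk2).trans hdvd
          obtain ⟨r, hr⟩ := hqo
          omega
        have : k = 1 := by omega
        rw [hk, this]; norm_num
      have hcyc : IsCyclic (P : Subgroup G) := isCyclic_of_prime_card hP2
      obtain ⟨H, hH⟩ := Cfsg.Agent.S0219.index_two_of_cyclic_sylow hevG P hcyc
      exact ⟨H, index_two_works hgtG H hH⟩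

/-- A finite group G of even order greater than 2 has a proper subgroup H with |G| < |H|^3. -/
theorem result {G : Type*} [Group G] [Finite G] (heven : Even (Nat.card G)) (hgt : 2 < Nat.card G) : ∃ H : Subgroup G, H ≠ ⊤ ∧ Nat.card G < (Nat.card H) ^ 3 :=
  aux (Nat.card G) G rfl heven hgt

end Cfsg.Agent.S0232
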