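import Mathlib
import Cfsg.Statements.S0234
import Cfsg.Agent.S0233
import Cfsg.Agent.S0212
import Cfsg.Agent.Lib.Lead.SmallSimple

set_option autoImplicit false
open Cfsg

namespace Cfsg.Agent.S0234

open Cfsg.Agent.Lib.Lead Cfsg.Agent.Lib.Lead.SmallSimple

set_option maxRecDepth 100000 in
theorem card_invol_alt_five :
    Fintype.card {σ : Equiv.Perm (Fin 5) // σ ≠ 1 ∧ σ * σ = 1 ∧ Equiv.Perm.sign σ = 1} = 15 := by
  decide +kernel

/-- the small cases -/
theorem small_cases {G : Type*} [Group G] [Finite G] [IsSimpleGroup G]
    (heven : Even (Nat.card G)) (hgt : 2 < Nat.card G) (hdvd : Nat.card G ∣ 60)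
    (hle : Nat.card G ≤ 45) : False := by
  have hG := not_comm_of_even heven hgt
  have hpos : 0 < Nat.card G := Nat.card_pos
  have hmem : Nat.card G = 4 ∨ Nat.card G = 6 ∨ Nat.card G = 10 ∨ Nat.card G = 12 ∨
      Nat.card G = 20 ∨ Nat.card G = 30 := by
    obtain ⟨r, hr⟩ := heven
    obtain ⟨c, hc⟩ := hdvd
    have hc1 : 2 ≤ c := by
      by_contra h
      push Not at h
      interval_cases c <;> omega
    have h4 : 4 ≤ Nat.card G := by omega
    have hc2 : c ≤ 15 := by nlinarith
    interval_cases c <;> omega
  rcases hmem with h | h | h | h | h | h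
  · -- order 4: a 2-group
    haveI : Fact (Nat.Prime 2) := ⟨Nat.prime_two⟩
    have hp : IsPGroup 2 G := IsPGroup.of_card (n := 2) (by rw [h]; norm_num)
    exact hG (comm_of_simple_pGroup 2 hp)
  · exact not_simple_two_odd heven (by rw [h]; omega) hgt
  · exact not_simple_two_odd heven (by rw [h]; omega) hgt
  · -- order 12: Sylow 2-subgroup of index 3
    haveI : Fact (Nat.Prime 2) := ⟨Nat.prime_two⟩
    obtain P : Sylow 2 G := default
    have hP : Nat.card (P : Subgroup G) = 4 := by
      rw [Sylow.card_eq_multiplicity, h]
      have : Nat.factorization 12 2 = 2 := by decide +kernel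
      rw [this]; norm_num
    have hidx : (P : Subgroup G).index = 3 := by
      have := (P : Subgroup G).card_mul_index
      rw [h, hP] at this; omega
    have hne : (P : Subgroup G) ≠ ⊤ := by
      intro htop
      rw [htop, Subgroup.index_top] at hidx; omega
    have := Cfsg.Agent.S0212.card_le_factorial_index (P : Subgroup G) hne
    rw [hidx, h] at this
    norm_num [Nat.factorial] at this
  · -- order 20: unique Sylow 5-subgroup
    haveI : Fact (Nat.Prime 5) := ⟨by norm_num⟩
    obtain P : Sylow 5 G := default
    have hP : Nat.card (P : Subgroup G) = 5 := by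
      rw [Sylow.card_eq_multiplicity, h]
      have : Nat.factorization 20 5 = 1 := by decide +kernel
      rw [this]; norm_num
    have hidx : (P : Subgroup G).index = 4 := by
      have := (P : Subgroup G).card_mul_index
      rw [h, hP] at this; omega
    have h1 := card_sylow_modEq_one 5 G
    have h2 := P.card_dvd_index
    rw [hidx] at h2
    have h3 : Nat.card (Sylow 5 G) ≤ 4 := Nat.le_of_dvd (by norm_num) h2
    have h4 : Nat.card (Sylow 5 G) = 1 := by
      have hpos : 0 < Nat.card (Sylow 5 G) := Nat.card_pos
      unfold Nat.ModEq at h1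
      interval_cases (Nat.card (Sylow 5 G)) <;> simp_all
    apply card_sylow_ne_one 5 (by rw [h]; norm_num) _ h4
    intro hp
    obtain ⟨k, hk⟩ := hp.exists_card_eq
    rw [h] at hk
    have : k < 2 := by
      by_contra hk2
      push Not at hk2
      have : 5 ^ 2 ≤ 5 ^ k := Nat.pow_le_pow_right (by norm_num) hk2
      omega
    interval_cases k <;> omega
  · exact not_simple_two_odd heven (by rw [h]; omega) hgt

/-- In a finite simple group G of even order greater than 2, the number n of involutions satisfies 3n < |G|. -/
theorem result {G : Type*} [Group G] [Finite G] [IsSimpleGroup G] (heven : Even (Nat.card G)) (hgt : 2 < Nat.card G) : 3 * Nat.card {t : G // orderOf t = 2} < Nat.card G := by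
  classical
  by_contra hcon
  push Not at hcon
  have hG := not_comm_of_even heven hgt
  have hZ : Odd (Nat.card (Subgroup.center G)) := by
    rcases (inferInstance : (Subgroup.center G).Normal).eq_bot_or_eq_top with h | h
    · rw [h, Subgroup.card_bot]; exact odd_one
    · exfalso
      apply hG
      constructor
      constructor
      intro a b
      have : a ∈ Subgroup.center G := by rw [h]; trivial
      exact ((Subgroup.mem_center_iff.mp this) b).symm
  obtain ⟨H, hH, h⟩ := Cfsg.Agent.S0233.result heven hZ
  rcases h with h2 | hineq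
  · exact no_index_two hgt H h2
  set N := Nat.card G with hN
  set k := H.index with hk
  set ni := Nat.card {t : G // orderOf t = 2} with hni
  have hk5 : k ≤ 5 := by
    by_contra hk6
    push Not at hk6
    have h1 : N * (N + ni) ≤ (3 * ni) * (3 * ni + ni) :=
      Nat.mul_le_mul hcon (Nat.add_le_add_right hcon _)
    have h2 : 2 * 6 * ni ^ 2 ≤ 2 * k * ni ^ 2 := by
      apply Nat.mul_le_mul_right
      omega
    nlinarith
  -- the embedding into Perm (Fin 5)
  have hinj := Cfsg.Agent.S0991.toPermHom_injective H hH
  let e : (G ⧸ H) ≃ Fin k := Finite.equivFinOfCardEq rfl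
  let ψ : G →* Equiv.Perm (Fin 5) :=
    (Equiv.Perm.viaEmbeddingHom (Fin.castLEEmb hk5)).comp
      ((e.permCongrHom.toMonoidHom).comp (MulAction.toPermHom G (G ⧸ H)))
  have hψ : Function.Injective ψ := by
    intro a b hab
    apply hinj
    apply e.permCongrHom.injective
    exact Equiv.Perm.viaEmbeddingHom_injective _ hab
  have hsign : ∀ g : G, Equiv.Perm.sign (ψ g) = 1 :=
    fun g => Cfsg.Agent.S0991.sign_eq_one_of_injective hG ψ g
  -- count involutions
  have hni15 : ni ≤ 15 := by
    rw [← card_invol_alt_five, ← Nat.card_eq_fintype_card]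
    apply Nat.card_le_card_of_injective
      (fun t : {t : G // orderOf t = 2} =>
        (⟨ψ t.1, by
          refine ⟨?_, ?_, hsign t.1⟩
          · intro h1
            have : t.1 = 1 := hψ (by rw [h1, map_one])
            have h2 := t.2
            rw [this, orderOf_one] at h2
            omega
          · rw [← map_mul, invol_mul_self t.2, map_one]⟩ :
          {σ : Equiv.Perm (Fin 5) // σ ≠ 1 ∧ σ * σ = 1 ∧ Equiv.Perm.sign σ = 1}))
    intro a b hab
    apply Subtype.ext
    apply hψ
    exact congrArg (fun x : {σ : Equiv.Perm (Fin 5) // σ ≠ 1 ∧ σ * σ = 1 ∧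
      Equiv.Perm.sign σ = 1} => x.1) hab
  -- the order divides 60
  have hdvd : N ∣ 60 := by
    have hle : ψ.range ≤ alternatingGroup (Fin 5) := by
      rintro _ ⟨g, rfl⟩
      rw [Equiv.Perm.mem_alternatingGroup]
      exact hsign g
    have h1 := Subgroup.card_dvd_of_le hle
    have h2 : Nat.card ψ.range = N :=
      (Nat.card_congr (MonoidHom.ofInjective hψ).toEquiv).symm
    have h3 : Nat.card (alternatingGroup (Fin 5)) = 60 := by
      rw [nat_card_alternatingGroup]
      simp [Nat.factorial]
    rw [h2, h3] at h1
    exact h1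
  exact small_cases heven hgt hdvd (by omega)

end Cfsg.Agent.S0234
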