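import Mathlib
import Cfsg.Statements.S0239
import Cfsg.Agent.Lib.Lead.Invol

set_option autoImplicit false
open Cfsg
open Cfsg.Agent.Lib.Lead

namespace Cfsg.Agent.S0239

/-- If some nontrivial element x of a finite group G is conjugate to x⁻¹, then |G| is even. -/
theorem result {G : Type*} [Group G] [Finite G] (x : G) (hx : x ≠ 1) (hreal : IsConj x x⁻¹) : Even (Nat.card G) := by
  by_contra hodd
  rw [Nat.not_even_iff_odd] at hodd
  obtain ⟨g, hg⟩ := isConj_iff.mp hreal
  -- g^2 commutes with x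
  have h2 : Commute (g ^ 2) x := by
    have : g ^ 2 * x * (g ^ 2)⁻¹ = x := by
      have e : g ^ 2 * x * (g ^ 2)⁻¹ = g * (g * x * g⁻¹) * g⁻¹ := by
        rw [pow_two]; group
      rw [e, hg]
      have : g * x⁻¹ * g⁻¹ = (g * x * g⁻¹)⁻¹ := by group
      rw [this, hg, inv_inv]
    exact mul_inv_eq_iff_eq_mul.mp this
  -- order of g is odd so g is a power of g^2
  have hgo : Odd (orderOf g) := hodd.of_dvd_nat (orderOf_dvd_natCard g)
  obtain ⟨k, hk⟩ := hgo
  have hg' : g = (g ^ 2) ^ (k + 1) := by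
    rw [← pow_mul, show 2 * (k + 1) = (2 * k + 1) + 1 by ring, ← hk, pow_succ, pow_orderOf_eq_one, one_mul]
  have hc : Commute g x := by
    rw [hg']; exact h2.pow_left _
  have hxx : x = x⁻¹ := by
    rw [← hg, hc.eq, mul_inv_cancel_right]
  have hx2 : x * x = 1 := by
    nth_rewrite 2 [hxx]; exact mul_inv_cancel x
  have hox : orderOf x = 2 := invol_of_mul_self hx hx2
  have : 2 ∣ Nat.card G := hox ▸ orderOf_dvd_natCard x
  exact (Nat.not_even_iff_odd.mpr hodd) (even_iff_two_dvd.mpr this)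

end Cfsg.Agent.S0239
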