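import Mathlib
import Cfsg.Statements.S0240
import Cfsg.Agent.Lib.Lead.Invol

set_option autoImplicit false
open Cfsg
open Cfsg.Agent.Lib.Lead

namespace Cfsg.Agent.S0240

/-- Let G be a finite group with n involutions and H a subgroup with |H|·(n+1) > |G|. Then some nontrivial h ∈ H is strongly real in G: an involution t of G satisfies t h t⁻¹ = h⁻¹. -/
theorem result {G : Type*} [Group G] [Finite G] (H : Subgroup G) (hH : Nat.card G < Nat.card H * (Nat.card {t : G // orderOf t = 2} + 1)) : ∃ h : G, h ∈ H ∧ h ≠ 1 ∧ ∃ t : G, orderOf t = 2 ∧ t * h * t⁻¹ = h⁻¹ := by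
  classical
  have hidx : Nat.card (G ⧸ H) < Nat.card (Option {t : G // orderOf t = 2}) := by
    rw [Finite.card_option]
    have h1 : Nat.card G = Nat.card (G ⧸ H) * Nat.card H := Subgroup.card_eq_card_quotient_mul_card_subgroup H
    rw [h1, mul_comm] at hH
    exact Nat.lt_of_mul_lt_mul_left hH
  let φ : Option {t : G // orderOf t = 2} → G ⧸ H := fun o => match o with
    | none => ((1 : G) : G ⧸ H)
    | some t => ((t.1 : G) : G ⧸ H)
  have : Fintype (Option {t : G // orderOf t = 2}) := Fintype.ofFinite _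
  have : Fintype (G ⧸ H) := Fintype.ofFinite _
  rw [Nat.card_eq_fintype_card, Nat.card_eq_fintype_card] at hidx
  obtain ⟨a, b, hab, hφ⟩ := Fintype.exists_ne_map_eq_of_card_lt φ hidx
  -- helper for the mixed case
  have mixed : ∀ t : {t : G // orderOf t = 2}, ((1 : G) : G ⧸ H) = ((t.1 : G) : G ⧸ H) →
      ∃ h : G, h ∈ H ∧ h ≠ 1 ∧ ∃ t : G, orderOf t = 2 ∧ t * h * t⁻¹ = h⁻¹ := by
    intro t ht
    rw [QuotientGroup.eq] at ht
    simp only [inv_one, one_mul] at ht
    refine ⟨t.1, ht, invol_ne_one t.2, t.1, t.2, ?_⟩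
    rw [mul_inv_cancel_right]
    exact (invol_inv t.2).symm
  cases a with
  | none =>
    cases b with
    | none => exact absurd rfl hab
    | some t => exact mixed t hφ
  | some s =>
    cases b with
    | none => exact mixed s hφ.symm
    | some t =>
      have hst : s.1 ≠ t.1 := fun h => hab (by rw [Subtype.ext h])
      have hm : s.1⁻¹ * t.1 ∈ H := QuotientGroup.eq.mp hφ
      rw [invol_inv s.2] at hm
      refine ⟨s.1 * t.1, hm, ?_, s.1, s.2, ?_⟩
      · intro h
        apply hst
        have : s.1 = t.1⁻¹ := eq_inv_of_mul_eq_one_left h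
        rw [this, invol_inv t.2]
      · rw [mul_inv_rev, invol_inv s.2, invol_inv t.2, ← mul_assoc, invol_mul_self s.2, one_mul]

end Cfsg.Agent.S0240
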