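import Mathlib
import Cfsg.Statements.S0241
import Cfsg.Agent.Lib.Lead.Invol

set_option autoImplicit false
open Cfsg
open Cfsg.Agent.Lib.Lead

namespace Cfsg.Agent.S0241

/-- If x ≠ 1 is conjugate to x⁻¹ in a finite group G and |C_G(x)| is odd, then some involution t satisfies t x t⁻¹ = x⁻¹. -/
theorem result {G : Type*} [Group G] [Finite G] (x : G) (hx : x ≠ 1) (hreal : IsConj x x⁻¹) (hodd : Odd (Nat.card (Subgroup.centralizer ({x} : Set G)))) : ∃ t : G, orderOf t = 2 ∧ t * x * t⁻¹ = x⁻¹ := by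
  obtain ⟨g, hg⟩ := isConj_iff.mp hreal
  -- x is not an involution since C(x) has odd order
  have hx2 : x ≠ x⁻¹ := by
    intro h
    have hxx : x * x = 1 := by nth_rewrite 2 [h]; exact mul_inv_cancel x
    have hox : orderOf x = 2 := invol_of_mul_self hx hxx
    have hxc : x ∈ Subgroup.centralizer ({x} : Set G) := by
      rw [Subgroup.mem_centralizer_singleton_iff]
    have h2 : orderOf (⟨x, hxc⟩ : Subgroup.centralizer ({x} : Set G)) = 2 := by
      rw [← hox]; exact Subgroup.orderOf_mk x hxc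
    have : 2 ∣ Nat.card (Subgroup.centralizer ({x} : Set G)) := h2 ▸ orderOf_dvd_natCard _
    exact (Nat.not_even_iff_odd.mpr hodd) (even_iff_two_dvd.mpr this)
  -- g^2 commutes with x
  have h2 : Commute (g ^ 2) x := by
    have : g ^ 2 * x * (g ^ 2)⁻¹ = x := by
      have e : g ^ 2 * x * (g ^ 2)⁻¹ = g * (g * x * g⁻¹) * g⁻¹ := by
        rw [pow_two]; group
      rw [e, hg]
      have : g * x⁻¹ * g⁻¹ = (g * x * g⁻¹)⁻¹ := by group
      rw [this, hg, inv_inv]
    exact mul_inv_eq_iff_eq_mul.mp this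
  have hg2c : g ^ 2 ∈ Subgroup.centralizer ({x} : Set G) := by
    rw [Subgroup.mem_centralizer_singleton_iff]; exact h2.eq
  have ho2 : Odd (orderOf (g ^ 2)) := by
    have : orderOf (⟨g ^ 2, hg2c⟩ : Subgroup.centralizer ({x} : Set G)) = orderOf (g ^ 2) :=
      Subgroup.orderOf_mk _ hg2c
    rw [← this]
    exact hodd.of_dvd_nat (orderOf_dvd_natCard _)
  obtain ⟨k, hk⟩ := ho2
  -- t = g ^ (2k+1) = g * (g^2)^k
  have hpow : (g ^ 2) ^ (2 * k + 1) = 1 := by rw [← hk]; exact pow_orderOf_eq_one _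
  have hck : Commute ((g ^ 2) ^ k) x := h2.pow_left k
  have hinv : g ^ (2 * k + 1) * x * (g ^ (2 * k + 1))⁻¹ = x⁻¹ := by
    have e : g ^ (2 * k + 1) = g * (g ^ 2) ^ k := by
      rw [← pow_mul, pow_succ']
    rw [e]
    calc g * (g ^ 2) ^ k * x * (g * (g ^ 2) ^ k)⁻¹
        = g * ((g ^ 2) ^ k * x) * ((g ^ 2) ^ k)⁻¹ * g⁻¹ := by group
      _ = g * (x * (g ^ 2) ^ k) * ((g ^ 2) ^ k)⁻¹ * g⁻¹ := by rw [hck.eq]
      _ = g * x * g⁻¹ := by group
      _ = x⁻¹ := hg
  refine ⟨g ^ (2 * k + 1), ?_, hinv⟩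
  apply invol_of_mul_self
  · intro h1
    rw [h1] at hinv
    apply hx2
    simpa using hinv
  · rw [← pow_add, ← two_mul, pow_mul]
    exact hpow

end Cfsg.Agent.S0241
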