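import Cfsg.Statements.S0244

set_option autoImplicit false
open Cfsg

namespace Cfsg.Agent.S0244

open Matrix

theorem det_sum_one {R : Type*} [CommRing R] (A : Matrix (Fin 1 ⊕ Fin 1) (Fin 1 ⊕ Fin 1) R) :
    A.det = A (Sum.inl 0) (Sum.inl 0) * A (Sum.inr 0) (Sum.inr 0)
      - A (Sum.inl 0) (Sum.inr 0) * A (Sum.inr 0) (Sum.inl 0) := by
  have e := Matrix.det_reindex_self (finSumFinEquiv (m := 1) (n := 1)) A
  rw [← e, Matrix.det_fin_two]
  simp only [Matrix.reindex_apply, Matrix.submatrix_apply]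
  rfl

theorem one_by_one_mul_comm {R : Type*} [CommRing R] (a b : Matrix (Fin 1) (Fin 1) R) :
    aᵀ * b = bᵀ * a := by
  ext i j
  fin_cases i; fin_cases j
  simp [Matrix.mul_apply, mul_comm]

/-- Sp_2 = SL_2: a matrix on Fin 1 ⊕ Fin 1 lies in Mathlib's symplectic group iff its determinant is 1. -/
theorem result {R : Type*} [CommRing R] (A : Matrix (Fin 1 ⊕ Fin 1) (Fin 1 ⊕ Fin 1) R) : A ∈ Matrix.symplecticGroup (Fin 1) R ↔ A.det = 1 := by
  rw [det_sum_one]
  conv_lhs => rw [← Matrix.fromBlocks_toBlocks A]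
  rw [SymplecticGroup.fromBlocks_mem_iff]
  constructor
  · rintro ⟨-, -, h⟩
    have := congrFun (congrFun h 0) 0
    simpa [Matrix.mul_apply, Matrix.toBlocks₁₁, Matrix.toBlocks₁₂, Matrix.toBlocks₂₁,
      Matrix.toBlocks₂₂, mul_comm] using this
  · intro h
    refine ⟨one_by_one_mul_comm _ _, one_by_one_mul_comm _ _, ?_⟩
    ext i j
    fin_cases i; fin_cases j
    simp only [Matrix.mul_apply, Matrix.toBlocks₁₁, Matrix.toBlocks₁₂, Matrix.toBlocks₂₁,
      Matrix.toBlocks₂₂, Matrix.sub_apply, Matrix.transpose_apply, Matrix.of_apply,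
      Finset.univ_unique, Finset.sum_singleton, Fin.default_eq_zero, Matrix.one_apply_eq,
      Fin.zero_eta, Fin.isValue]
    rw [← h]; ring

end Cfsg.Agent.S0244
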