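import Mathlib
import Cfsg.Statements.S0247
import Cfsg.Agent.Lib.Helper5.PermSp4

set_option autoImplicit false
open Cfsg

namespace Cfsg.Agent.S0247

/-- Sp_4(2) is isomorphic to the symmetric group S_6. -/
theorem result {F : Type*} [Field F] [Fintype F] (hF : Fintype.card F = 2) : Nonempty (Matrix.symplecticGroup (Fin 2) F ≃* Equiv.Perm (Fin 6)) := by
  have h2 := Cfsg.Agent.Lib.Helper5.PermO4m.two_eq_zero hF
  have hcard : Nat.card ↥(Matrix.symplecticGroup (Fin 2) F) = 720 := by
    rw [Cfsg.Agent.Lib.Helper5.SympCard.card_symplecticGroup, hF]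
    simp [Finset.prod_range_succ]
  have hperm : Nat.card (Equiv.Perm (Fin 6)) = 720 := by
    rw [Nat.card_eq_fintype_card, Fintype.card_perm, Fintype.card_fin]
    rfl
  have hinj := Cfsg.Agent.Lib.Helper5.PermSp4.tau_injective (F := F) h2
  have : Finite ↥(Matrix.symplecticGroup (Fin 2) F) := Nat.finite_of_card_ne_zero (by rw [hcard]; norm_num)
  have hbij : Function.Bijective (Cfsg.Agent.Lib.Helper5.PermSp4.tau (F := F) h2) :=
    hinj.bijective_of_nat_card_le (by rw [hcard, hperm])
  exact ⟨(MulEquiv.ofBijective _ hbij).symm⟩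

end Cfsg.Agent.S0247
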