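import Cfsg.Statements.S0250
import Cfsg.Agent.Lib.Helper4.PSL2Perm

set_option autoImplicit false
open Cfsg

namespace Cfsg.Agent.S0250

open Cfsg.Agent.Lib.Helper4

/-- SL_2(2) is isomorphic to S_3. -/
theorem result {F : Type*} [Field F] [Fintype F] (hF : Fintype.card F = 2) : Nonempty (Matrix.SpecialLinearGroup (Fin 2) F ≃* Equiv.Perm (Fin 3)) := by
  classical
  have h3 : Fintype.card F + 1 = 3 := by omega
  let ψ : Matrix.SpecialLinearGroup (Fin 2) F →* Equiv.Perm (Fin 3) :=
    ((finCongr h3).permCongrHom.toMonoidHom.comp (pslPerm (F := F))).comp (QuotientGroup.mk' _)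
  have hcenter : Subgroup.center (Matrix.SpecialLinearGroup (Fin 2) F) = ⊥ := by
    apply Subgroup.eq_bot_of_card_eq
    rw [card_center_SL 2 (by norm_num), hF]
    rfl
  have hinj : Function.Injective ψ := by
    intro a b hab
    have h1 := pslPerm_injective ((finCongr h3).permCongrHom.injective hab)
    have h2 : a⁻¹ * b ∈ Subgroup.center (Matrix.SpecialLinearGroup (Fin 2) F) :=
      QuotientGroup.eq.mp h1
    rw [hcenter, Subgroup.mem_bot] at h2
    exact (inv_mul_eq_one.mp h2)
  have hcard : Nat.card (Matrix.SpecialLinearGroup (Fin 2) F) = Nat.card (Equiv.Perm (Fin 3)) := by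
    rw [card_SL2, hF, Nat.card_perm]
    simp
    rfl
  have hbij : Function.Bijective ψ :=
    (Nat.bijective_iff_injective_and_card ψ).mpr ⟨hinj, hcard⟩
  exact ⟨MulEquiv.ofBijective ψ hbij⟩

end Cfsg.Agent.S0250
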