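import Cfsg.Statements.S0252
import Cfsg.Agent.Lib.Helper4.PSL2Perm

set_option autoImplicit false
open Cfsg

namespace Cfsg.Agent.S0252

open Cfsg.Agent.Lib.Helper4

/-- PSL_2(4) is isomorphic to A_5. -/
theorem result {F : Type*} [Field F] [Fintype F] (hF : Fintype.card F = 4) : Nonempty (Matrix.ProjectiveSpecialLinearGroup (Fin 2) F ≃* alternatingGroup (Fin 5)) := by
  classical
  have h4 : Fintype.card F + 1 = 5 := by omega
  let ψ : Matrix.ProjectiveSpecialLinearGroup (Fin 2) F →* Equiv.Perm (Fin 5) :=
    (finCongr h4).permCongrHom.toMonoidHom.comp (pslPerm (F := F))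
  have hinj : Function.Injective ψ := fun a b hab =>
    pslPerm_injective ((finCongr h4).permCongrHom.injective hab)
  have hcard : Nat.card (Matrix.ProjectiveSpecialLinearGroup (Fin 2) F) = 60 := by
    have h1 := card_PSL_mul (F := F) 2 (by norm_num)
    rw [card_SL2, hF] at h1
    have h2 : Nat.gcd 2 (4 - 1) = 1 := by decide
    rw [h2] at h1
    omega
  have hrange : Nat.card ψ.range = 60 := by
    rw [← hcard]
    exact (Nat.card_congr (MonoidHom.ofInjective hinj).toEquiv).symm
  have hidx : ψ.range.index = 2 := by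
    have h1 := ψ.range.card_mul_index
    rw [hrange, Nat.card_perm] at h1
    simp at h1
    have : (60 : ℕ) * ψ.range.index = 60 * 2 := by rw [h1]; rfl
    exact Nat.eq_of_mul_eq_mul_left (by norm_num) this
  have halt : ψ.range = alternatingGroup (Fin 5) :=
    Equiv.Perm.eq_alternatingGroup_of_index_eq_two hidx
  exact ⟨(MonoidHom.ofInjective hinj).trans (MulEquiv.subgroupCongr halt)⟩

end Cfsg.Agent.S0252
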