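import Mathlib
import Cfsg.Statements.S0257
import Cfsg.Agent.Lib.Helper4.SL2
import Cfsg.Agent.Lib.Helper4.SLCard
import Cfsg.Agent.Lib.Helper4.SLCenter
import Cfsg.Agent.Lib.Helper3.QuatLift

set_option autoImplicit false
open Cfsg

namespace Cfsg.Agent.S0257

open Cfsg.Agent.Lib.Helper4 Cfsg.Agent.Lib.Helper3 Matrix

variable {F : Type*} [Field F] [Fintype F]

theorem three_eq_zero (hF : Fintype.card F = 3) : (3 : F) = 0 := by
  have := Nat.cast_card_eq_zero F
  rw [hF] at this
  exact_mod_cast this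

theorem tri (hF : Fintype.card F = 3) (x : F) : x = 0 ∨ x = 1 ∨ x = -1 := by
  classical
  have h3 := three_eq_zero hF
  have h2 : (2 : F) ≠ 0 := by
    intro h2
    have : (1 : F) = 0 := by linear_combination h3 - h2
    exact one_ne_zero this
  have hne : (1 : F) ≠ -1 := by
    intro h
    apply h2
    linear_combination h
  have hcard : ({0, 1, -1} : Finset F).card = 3 := by
    rw [Finset.card_insert_of_notMem, Finset.card_insert_of_notMem, Finset.card_singleton]
    · simpa using hne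
    · simp
  have huniv : ({0, 1, -1} : Finset F) = Finset.univ :=
    Finset.eq_univ_of_card _ (by rw [hcard, hF])
  have := Finset.mem_univ x
  rw [← huniv] at this
  simpa using this

def A : SpecialLinearGroup (Fin 2) F := ⟨!![0, -1; 1, 0], by simp [Matrix.det_fin_two_of]⟩

def X (hF : Fintype.card F = 3) : SpecialLinearGroup (Fin 2) F :=
  ⟨!![1, 1; 1, -1], by
    have h3 := three_eq_zero hF
    rw [Matrix.det_fin_two_of]; linear_combination (-1 : F) * h3⟩

omit [Fintype F] in
theorem A_coe : ((A : SpecialLinearGroup (Fin 2) F) : Matrix (Fin 2) (Fin 2) F) = !![0, -1; 1, 0] := rfl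
theorem X_coe (hF : Fintype.card F = 3) : ((X hF : SpecialLinearGroup (Fin 2) F) : Matrix (Fin 2) (Fin 2) F) = !![1, 1; 1, -1] := rfl

omit [Fintype F] in
theorem A_sq : ((A ^ 2 : SpecialLinearGroup (Fin 2) F) : Matrix (Fin 2) (Fin 2) F) = !![-1, 0; 0, -1] := by
  rw [Matrix.SpecialLinearGroup.coe_pow, A_coe, pow_two, Matrix.mul_fin_two]
  simp

omit [Fintype F] in
theorem A_cube : ((A ^ 3 : SpecialLinearGroup (Fin 2) F) : Matrix (Fin 2) (Fin 2) F) = !![0, 1; -1, 0] := by
  rw [pow_succ, Matrix.SpecialLinearGroup.coe_mul, A_sq, A_coe, Matrix.mul_fin_two]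
  simp

omit [Fintype F] in
theorem A_four : ((A : SpecialLinearGroup (Fin 2) F) ^ 4) = 1 := by
  apply Subtype.ext
  show ((A ^ 4 : SpecialLinearGroup (Fin 2) F) : Matrix (Fin 2) (Fin 2) F) = 1
  rw [pow_succ, Matrix.SpecialLinearGroup.coe_mul, A_cube, A_coe, Matrix.mul_fin_two]
  simp [Matrix.one_fin_two]

theorem X_sq (hF : Fintype.card F = 3) : X hF * X hF = A ^ 2 := by
  apply Subtype.ext
  show ((X hF * X hF : SpecialLinearGroup (Fin 2) F) : Matrix (Fin 2) (Fin 2) F) = ((A ^ 2 : SpecialLinearGroup (Fin 2) F) : Matrix (Fin 2) (Fin 2) F)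
  have h3 := three_eq_zero hF
  rw [Matrix.SpecialLinearGroup.coe_mul, A_sq, X_coe, Matrix.mul_fin_two]
  have : (1 : F) + 1 = -1 := by linear_combination h3
  simp [this]

theorem XA (hF : Fintype.card F = 3) : ((X hF * A : SpecialLinearGroup (Fin 2) F) : Matrix (Fin 2) (Fin 2) F) = !![1, -1; -1, -1] := by
  rw [Matrix.SpecialLinearGroup.coe_mul, A_coe, X_coe, Matrix.mul_fin_two]
  simp

theorem XA2 (hF : Fintype.card F = 3) : ((X hF * A ^ 2 : SpecialLinearGroup (Fin 2) F) : Matrix (Fin 2) (Fin 2) F) = !![-1, -1; -1, 1] := by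
  rw [Matrix.SpecialLinearGroup.coe_mul, A_sq, X_coe, Matrix.mul_fin_two]
  simp

theorem XA3 (hF : Fintype.card F = 3) : ((X hF * A ^ 3 : SpecialLinearGroup (Fin 2) F) : Matrix (Fin 2) (Fin 2) F) = !![-1, 1; 1, 1] := by
  rw [Matrix.SpecialLinearGroup.coe_mul, A_cube, X_coe, Matrix.mul_fin_two]
  simp

theorem XAX (hF : Fintype.card F = 3) : X hF * A * (X hF)⁻¹ = A⁻¹ := by
  have h4 : (A : SpecialLinearGroup (Fin 2) F)⁻¹ = A ^ 3 := by
    rw [inv_eq_iff_mul_eq_one, ← pow_succ']; exact A_four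
  rw [h4, mul_inv_eq_iff_eq_mul]
  apply Subtype.ext
  show ((X hF * A : SpecialLinearGroup (Fin 2) F) : Matrix (Fin 2) (Fin 2) F) = ((A ^ 3 * X hF : SpecialLinearGroup (Fin 2) F) : Matrix (Fin 2) (Fin 2) F)
  rw [XA, Matrix.SpecialLinearGroup.coe_mul, A_cube, X_coe, Matrix.mul_fin_two]
  simp

/-- The homomorphism from `Q₈`. -/
noncomputable def phi (hF : Fintype.card F = 3) : QuaternionGroup 2 →* SpecialLinearGroup (Fin 2) F :=
  quatLift 2 A (X hF) A_four (X_sq hF) (XAX hF)


theorem phi_a (hF : Fintype.card F = 3) (i : ZMod 4) :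
    phi hF (QuaternionGroup.a i) = A ^ i.val := rfl

theorem phi_xa (hF : Fintype.card F = 3) (i : ZMod 4) :
    phi hF (QuaternionGroup.xa i) = X hF * A ^ i.val := rfl

/-- The eight matrices. -/
def P (h : SpecialLinearGroup (Fin 2) F) : Prop :=
  (h : Matrix (Fin 2) (Fin 2) F) = 1 ∨ (h : Matrix (Fin 2) (Fin 2) F) = -1 ∨
    (h : Matrix (Fin 2) (Fin 2) F) 0 0 + (h : Matrix (Fin 2) (Fin 2) F) 1 1 = 0

theorem P_phi (hF : Fintype.card F = 3) (g : QuaternionGroup 2) : P (phi hF g) := by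
  rcases g with i | i
  · rw [phi_a]
    fin_cases i
    · left
      show ((A ^ 0 : SpecialLinearGroup (Fin 2) F) : Matrix (Fin 2) (Fin 2) F) = 1
      rw [pow_zero]; rfl
    · right; right
      show ((A ^ 1 : SpecialLinearGroup (Fin 2) F) : Matrix (Fin 2) (Fin 2) F) 0 0 + ((A ^ 1 : SpecialLinearGroup (Fin 2) F) : Matrix (Fin 2) (Fin 2) F) 1 1 = 0
      rw [pow_one, A_coe]; simp
    · right; left
      show ((A ^ 2 : SpecialLinearGroup (Fin 2) F) : Matrix (Fin 2) (Fin 2) F) = -1
      rw [A_sq, Matrix.one_fin_two]; simp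
    · right; right
      show ((A ^ 3 : SpecialLinearGroup (Fin 2) F) : Matrix (Fin 2) (Fin 2) F) 0 0 + ((A ^ 3 : SpecialLinearGroup (Fin 2) F) : Matrix (Fin 2) (Fin 2) F) 1 1 = 0
      rw [A_cube]; simp
  · rw [phi_xa]
    right; right
    fin_cases i
    · show ((X hF * A ^ 0 : SpecialLinearGroup (Fin 2) F) : Matrix (Fin 2) (Fin 2) F) 0 0 + ((X hF * A ^ 0 : SpecialLinearGroup (Fin 2) F) : Matrix (Fin 2) (Fin 2) F) 1 1 = 0
      rw [pow_zero, mul_one, X_coe]; simp
    · show ((X hF * A ^ 1 : SpecialLinearGroup (Fin 2) F) : Matrix (Fin 2) (Fin 2) F) 0 0 + ((X hF * A ^ 1 : SpecialLinearGroup (Fin 2) F) : Matrix (Fin 2) (Fin 2) F) 1 1 = 0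
      rw [pow_one, XA]; simp
    · show ((X hF * A ^ 2 : SpecialLinearGroup (Fin 2) F) : Matrix (Fin 2) (Fin 2) F) 0 0 + ((X hF * A ^ 2 : SpecialLinearGroup (Fin 2) F) : Matrix (Fin 2) (Fin 2) F) 1 1 = 0
      rw [XA2]; simp
    · show ((X hF * A ^ 3 : SpecialLinearGroup (Fin 2) F) : Matrix (Fin 2) (Fin 2) F) 0 0 + ((X hF * A ^ 3 : SpecialLinearGroup (Fin 2) F) : Matrix (Fin 2) (Fin 2) F) 1 1 = 0
      rw [XA3]; simp


theorem phi_injective (hF : Fintype.card F = 3) : Function.Injective (phi hF) := by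
  have h3 := three_eq_zero hF
  have h2 : (2 : F) ≠ 0 := by
    intro h2
    have : (1 : F) = 0 := by linear_combination h3 - h2
    exact one_ne_zero this
  have hne : (1 : F) ≠ -1 := by
    intro h
    apply h2
    linear_combination h
  rw [injective_iff_map_eq_one]
  intro g hg
  have hg' : ((phi hF g : SpecialLinearGroup (Fin 2) F) : Matrix (Fin 2) (Fin 2) F) = 1 := by
    rw [hg]; rfl
  rcases g with i | i
  · rw [phi_a] at hg'
    fin_cases i
    · rfl
    · exfalso
      change ((A ^ 1 : SpecialLinearGroup (Fin 2) F) : Matrix (Fin 2) (Fin 2) F) = 1 at hg'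
      rw [pow_one, A_coe] at hg'
      have := congrFun (congrFun hg' 0) 0
      simp at this
    · exfalso
      change ((A ^ 2 : SpecialLinearGroup (Fin 2) F) : Matrix (Fin 2) (Fin 2) F) = 1 at hg'
      rw [A_sq] at hg'
      have := congrFun (congrFun hg' 0) 0
      simp at this
      exact hne this.symm
    · exfalso
      change ((A ^ 3 : SpecialLinearGroup (Fin 2) F) : Matrix (Fin 2) (Fin 2) F) = 1 at hg'
      rw [A_cube] at hg'
      have := congrFun (congrFun hg' 0) 0
      simp at this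
  · exfalso
    rw [phi_xa] at hg'
    fin_cases i
    · change ((X hF * A ^ 0 : SpecialLinearGroup (Fin 2) F) : Matrix (Fin 2) (Fin 2) F) = 1 at hg'
      rw [pow_zero, mul_one, X_coe] at hg'
      have := congrFun (congrFun hg' 0) 1
      simp at this
    · change ((X hF * A ^ 1 : SpecialLinearGroup (Fin 2) F) : Matrix (Fin 2) (Fin 2) F) = 1 at hg'
      rw [pow_one, XA] at hg'
      have := congrFun (congrFun hg' 0) 1
      simp at this
    · change ((X hF * A ^ 2 : SpecialLinearGroup (Fin 2) F) : Matrix (Fin 2) (Fin 2) F) = 1 at hg'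
      rw [XA2] at hg'
      have := congrFun (congrFun hg' 0) 1
      simp at this
    · change ((X hF * A ^ 3 : SpecialLinearGroup (Fin 2) F) : Matrix (Fin 2) (Fin 2) F) = 1 at hg'
      rw [XA3] at hg'
      have := congrFun (congrFun hg' 0) 1
      simp at this


omit [Fintype F] in
theorem eq_of_entries (h : SpecialLinearGroup (Fin 2) F) (g : SpecialLinearGroup (Fin 2) F)
    (a b c d : F) (hg : (g : Matrix (Fin 2) (Fin 2) F) = !![a, b; c, d])
    (h00 : h 0 0 = a) (h01 : h 0 1 = b) (h10 : h 1 0 = c) (h11 : h 1 1 = d) : g = h := by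
  rw [sl2_ext_iff]
  have e00 : g 0 0 = a := by
    show (g : Matrix (Fin 2) (Fin 2) F) 0 0 = a
    rw [hg]; rfl
  have e01 : g 0 1 = b := by
    show (g : Matrix (Fin 2) (Fin 2) F) 0 1 = b
    rw [hg]; rfl
  have e10 : g 1 0 = c := by
    show (g : Matrix (Fin 2) (Fin 2) F) 1 0 = c
    rw [hg]; rfl
  have e11 : g 1 1 = d := by
    show (g : Matrix (Fin 2) (Fin 2) F) 1 1 = d
    rw [hg]; rfl
  rw [e00, e01, e10, e11, h00, h01, h10, h11]
  exact ⟨rfl, rfl, rfl, rfl⟩

theorem mem_range_of_P (hF : Fintype.card F = 3) (h : SpecialLinearGroup (Fin 2) F) (hP : P h) :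
    h ∈ (phi hF).range := by
  have h3 := three_eq_zero hF
  have h2 : (2 : F) ≠ 0 := by
    intro h2
    have : (1 : F) = 0 := by linear_combination h3 - h2
    exact one_ne_zero this
  have hdet := sl2_det h
  rcases hP with hP | hP | hP
  · refine ⟨1, ?_⟩
    rw [map_one]
    exact (Subtype.ext hP).symm
  · refine ⟨QuaternionGroup.a 2, ?_⟩
    rw [phi_a]
    apply Subtype.ext
    show ((A ^ 2 : SpecialLinearGroup (Fin 2) F) : Matrix (Fin 2) (Fin 2) F) = h
    rw [A_sq, hP, Matrix.one_fin_two]; simp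
  · have hd : h 1 1 = - h 0 0 := by
      have : h 0 0 + h 1 1 = 0 := hP
      linear_combination this
    rw [hd] at hdet
    rcases tri hF (h 0 0) with ha | ha | ha <;> rcases tri hF (h 0 1) with hb | hb | hb
    · exfalso; rw [ha, hb] at hdet; simp at hdet
    · -- a = 0, b = 1, c = -1 : A^3
      have hc : h 1 0 = -1 := by rw [ha, hb] at hdet; linear_combination (-1 : F) * hdet
      refine ⟨QuaternionGroup.a 3, ?_⟩
      rw [phi_a]
      exact eq_of_entries h _ _ _ _ _ A_cube ha hb hc (by rw [hd, ha, neg_zero])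
    · -- a = 0, b = -1, c = 1 : A
      have hc : h 1 0 = 1 := by rw [ha, hb] at hdet; linear_combination hdet
      refine ⟨QuaternionGroup.a 1, ?_⟩
      rw [phi_a]
      show A ^ 1 = h
      rw [pow_one]
      exact eq_of_entries h _ _ _ _ _ A_coe ha hb hc (by rw [hd, ha, neg_zero])
    · exfalso; rw [ha, hb] at hdet
      apply h2; linear_combination (-1 : F) * hdet
    · -- a = 1, b = 1, c = 1 : X
      have hc : h 1 0 = 1 := by rw [ha, hb] at hdet; linear_combination (-1 : F) * hdet - h3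
      refine ⟨QuaternionGroup.xa 0, ?_⟩
      rw [phi_xa]
      show X hF * A ^ 0 = h
      rw [pow_zero, mul_one]
      exact eq_of_entries h _ _ _ _ _ (X_coe hF) ha hb hc (by rw [hd, ha])
    · -- a = 1, b = -1, c = -1 : XA
      have hc : h 1 0 = -1 := by rw [ha, hb] at hdet; linear_combination hdet + h3
      refine ⟨QuaternionGroup.xa 1, ?_⟩
      rw [phi_xa]
      show X hF * A ^ 1 = h
      rw [pow_one]
      exact eq_of_entries h _ _ _ _ _ (XA hF) ha hb hc (by rw [hd, ha])
    · exfalso; rw [ha, hb] at hdet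
      apply h2; linear_combination (-1 : F) * hdet
    · -- a = -1, b = 1, c = 1 : XA^3
      have hc : h 1 0 = 1 := by rw [ha, hb] at hdet; linear_combination (-1 : F) * hdet - h3
      refine ⟨QuaternionGroup.xa 3, ?_⟩
      rw [phi_xa]
      exact eq_of_entries h _ _ _ _ _ (XA3 hF) ha hb hc (by rw [hd, ha, neg_neg])
    · -- a = -1, b = -1, c = -1 : XA^2
      have hc : h 1 0 = -1 := by rw [ha, hb] at hdet; linear_combination hdet + h3
      refine ⟨QuaternionGroup.xa 2, ?_⟩
      rw [phi_xa]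
      exact eq_of_entries h _ _ _ _ _ (XA2 hF) ha hb hc (by rw [hd, ha, neg_neg])


omit [Fintype F] in
theorem P_conj (g n : SpecialLinearGroup (Fin 2) F) (hn : P n) : P (g * n * g⁻¹) := by
  have hinv : (g : Matrix (Fin 2) (Fin 2) F) * ((g⁻¹ : SpecialLinearGroup (Fin 2) F) : Matrix (Fin 2) (Fin 2) F) = 1 := by
    rw [← Matrix.SpecialLinearGroup.coe_mul, mul_inv_cancel]; rfl
  have hinv' : ((g⁻¹ : SpecialLinearGroup (Fin 2) F) : Matrix (Fin 2) (Fin 2) F) * (g : Matrix (Fin 2) (Fin 2) F) = 1 := by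
    rw [← Matrix.SpecialLinearGroup.coe_mul, inv_mul_cancel]; rfl
  have hc : ((g * n * g⁻¹ : SpecialLinearGroup (Fin 2) F) : Matrix (Fin 2) (Fin 2) F) =
      (g : Matrix (Fin 2) (Fin 2) F) * (n : Matrix (Fin 2) (Fin 2) F) * ((g⁻¹ : SpecialLinearGroup (Fin 2) F) : Matrix (Fin 2) (Fin 2) F) := by
    rw [Matrix.SpecialLinearGroup.coe_mul, Matrix.SpecialLinearGroup.coe_mul]
  unfold P
  rw [hc]
  rcases hn with hn | hn | hn
  · left; rw [hn, Matrix.mul_one, hinv]
  · right; left; rw [hn, Matrix.mul_neg, Matrix.mul_one, Matrix.neg_mul, hinv]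
  · right; right
    rw [← Matrix.trace_fin_two, Matrix.trace_mul_cycle, hinv', Matrix.one_mul, Matrix.trace_fin_two]
    exact hn

theorem result' (hF : Fintype.card F = 3) : (∃ Q : Subgroup (Matrix.SpecialLinearGroup (Fin 2) F), Q.Normal ∧ Q.index = 3 ∧ Nonempty (Q ≃* QuaternionGroup 2)) ∧ Nat.card (Subgroup.center (Matrix.SpecialLinearGroup (Fin 2) F)) = 2 := by
  constructor
  · refine ⟨(phi hF).range, ⟨?_⟩, ?_, ⟨(MonoidHom.ofInjective (phi_injective hF)).symm⟩⟩
    · intro n hn g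
      obtain ⟨x, rfl⟩ := hn
      exact mem_range_of_P hF _ (P_conj g _ (P_phi hF x))
    · have h1 : Nat.card (phi hF).range = 8 := by
        rw [Nat.card_congr (MonoidHom.ofInjective (phi_injective hF)).symm.toEquiv,
          Nat.card_eq_fintype_card, QuaternionGroup.card]
      have h2 := Subgroup.card_mul_index (phi hF).range
      rw [h1, card_SL2, hF] at h2
      omega
  · rw [card_center_SL 2 (by norm_num), hF]
    rfl


/-- SL_2(3) has a normal subgroup of index 3 isomorphic to the quaternion group of order 8, and its centre has order 2. -/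
theorem result {F : Type*} [Field F] [Fintype F] (hF : Fintype.card F = 3) : (∃ Q : Subgroup (Matrix.SpecialLinearGroup (Fin 2) F), Q.Normal ∧ Q.index = 3 ∧ Nonempty (Q ≃* QuaternionGroup 2)) ∧ Nat.card (Subgroup.center (Matrix.SpecialLinearGroup (Fin 2) F)) = 2 :=
  result' hF

end Cfsg.Agent.S0257
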