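import Cfsg.Statements.S0263
import Mathlib

set_option autoImplicit false
open Cfsg

namespace Cfsg.Agent.S0263

theorem not_dvd_pow_sub_one {p k m : ℕ} (hp : p.Prime) (hk : k ≠ 0) (hm : m ≠ 0) :
    ¬ p ∣ (p ^ k) ^ m - 1 := by
  intro h
  have h1 : p ∣ (p ^ k) ^ m := by
    rw [← pow_mul]
    exact dvd_pow_self p (Nat.mul_ne_zero hk hm)
  have h2 : 1 ≤ (p ^ k) ^ m := Nat.one_le_pow _ _ (pow_pos hp.pos _)
  have h3 : p ∣ 1 := by
    have := Nat.dvd_sub h1 h
    rwa [Nat.sub_sub_self h2] at this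
  exact hp.one_lt.ne' (Nat.dvd_one.mp h3)

theorem factorization_term {p k n i : ℕ} (hp : p.Prime) (hk : k ≠ 0) (hi : i < n) :
    ((p ^ k) ^ n - (p ^ k) ^ i).factorization p = k * i := by
  have h1 : (p ^ k) ^ n - (p ^ k) ^ i = (p ^ k) ^ i * ((p ^ k) ^ (n - i) - 1) := by
    rw [Nat.mul_sub, mul_one, ← pow_add, Nat.add_sub_cancel' hi.le]
  have hpos : 0 < p ^ k := pow_pos hp.pos _
  have h2 : (p ^ k) ^ (n - i) - 1 ≠ 0 := by
    have : 1 < (p ^ k) ^ (n - i) := by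
      apply Nat.one_lt_pow (by omega)
      exact Nat.one_lt_pow hk hp.one_lt
    omega
  rw [h1, Nat.factorization_mul (pow_ne_zero _ hpos.ne') h2, ← pow_mul, Finsupp.add_apply,
    hp.factorization_pow, Finsupp.single_eq_same,
    Nat.factorization_eq_zero_of_not_dvd (not_dvd_pow_sub_one hp hk (by omega)), add_zero]

theorem sum_fin_id (n : ℕ) : ∑ i : Fin n, (i : ℕ) = n * (n - 1) / 2 := by
  rw [Fin.sum_univ_eq_sum_range (fun i => i) n, Finset.sum_range_id]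

/-- A Sylow p-subgroup of GL_n(q), p the characteristic, has order q^(n(n-1)/2). -/
theorem result {F : Type*} [Field F] [Fintype F] {q : ℕ} (hF : Fintype.card F = q) (p : ℕ) [Fact p.Prime] [CharP F p] (n : ℕ) (P : Sylow p (Matrix.GeneralLinearGroup (Fin n) F)) : Nat.card P = q ^ (n * (n - 1) / 2) := by
  classical
  obtain ⟨k, hp, hk⟩ := FiniteField.card F p
  rw [hF] at hk
  rw [Sylow.card_eq_multiplicity, Matrix.card_GL_field, hF, hk]
  have hne : ∀ i ∈ (Finset.univ : Finset (Fin n)), (p ^ (k : ℕ)) ^ n - (p ^ (k : ℕ)) ^ (i : ℕ) ≠ 0 := by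
    intro i _
    have : (p ^ (k : ℕ)) ^ (i : ℕ) < (p ^ (k : ℕ)) ^ n :=
      Nat.pow_lt_pow_right (Nat.one_lt_pow k.ne_zero hp.one_lt) i.2
    omega
  rw [Nat.factorization_prod hne, Finsupp.finsetSum_apply]
  have : ∀ i : Fin n, ((p ^ (k : ℕ)) ^ n - (p ^ (k : ℕ)) ^ (i : ℕ)).factorization p = k * i :=
    fun i => factorization_term hp k.ne_zero i.2
  simp only [this]
  rw [← Finset.mul_sum, sum_fin_id, pow_mul]

end Cfsg.Agent.S0263
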