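import Cfsg.Statements.S0264
import Cfsg.Agent.Lib.Helper4.SLnGen
import Cfsg.Agent.Lib.Helper4.SLCard

set_option autoImplicit false
open Cfsg

namespace Cfsg.Agent.S0264

open Cfsg.Agent.Lib.Helper4 Matrix Matrix.SpecialLinearGroup
open scoped commutatorElement

variable {F : Type*} [Field F] {ι : Type*} [DecidableEq ι] [Fintype ι]

/-- the diagonal matrix with `a` in position `i` -/
noncomputable def dil (i : ι) (a : F) (ha : a ≠ 0) : GL ι F :=
  Matrix.GeneralLinearGroup.mkOfDetNeZero (Matrix.diagonal (fun k => if k = i then a else 1)) (by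
    rw [Matrix.det_diagonal, Finset.prod_ite_eq' Finset.univ i (fun _ => a)]
    simpa using ha)

theorem dil_coe (i : ι) (a : F) (ha : a ≠ 0) :
    (dil i a ha : Matrix ι ι F) = Matrix.diagonal (fun k => if k = i then a else 1) := rfl

theorem dil_conj {i j : ι} (hij : i ≠ j) (a : F) (ha : a ≠ 0) (b : F) :
    dil i a ha * toGL (transvection hij b) = toGL (transvection hij (a * b)) * dil i a ha := by
  apply Units.ext
  rw [Units.val_mul, Units.val_mul, dil_coe]
  change Matrix.diagonal _ * (transvection hij b : Matrix ι ι F) =
    (transvection hij (a * b) : Matrix ι ι F) * Matrix.diagonal _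
  rw [transvection_coe, transvection_coe, mul_add, add_mul, mul_one, one_mul]
  congr 1
  ext k l
  simp only [Matrix.diagonal_mul, Matrix.mul_diagonal, single_apply]
  by_cases hk : i = k
  · by_cases hl : j = l
    · subst hk hl
      simp [hij.symm]
    · simp [hl]
  · simp [hk]

theorem transvection_mem_commutator_GL {i j : ι} (hij : i ≠ j) (a : F) (ha : a ≠ 0) (ha1 : a ≠ 1)
    (c : F) : toGL (transvection hij c) ∈ commutator (GL ι F) := by
  have hne : a - 1 ≠ 0 := sub_ne_zero.mpr ha1
  set b := c / (a - 1) with hb
  have h1 : ⁅dil i a ha, toGL (transvection hij b)⁆ = toGL (transvection hij c) := by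
    rw [commutatorElement_def, dil_conj hij a ha b, mul_assoc, mul_assoc,
      ← mul_assoc (dil i a ha), mul_inv_cancel, one_mul, ← map_inv, ← map_mul, transvection_inv,
      ← transvection_add]
    congr 2
    rw [hb]; field_simp; ring
  rw [← h1]
  exact Subgroup.commutator_mem_commutator (Subgroup.mem_top _) (Subgroup.mem_top _)

theorem range_toGL_le_commutator (h : Fintype.card ι = 2 → ∃ a : F, a ≠ 0 ∧ a ≠ 1)
    (h2 : 2 ≤ Fintype.card ι) :
    (toGL : SpecialLinearGroup ι F →* GL ι F).range ≤ commutator (GL ι F) := by
  have : Nontrivial ι := Fintype.one_lt_card_iff_nontrivial.mp (by omega)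
  rintro _ ⟨M, rfl⟩
  by_cases h3 : 3 ≤ Fintype.card ι
  · have hM : M ∈ commutator (SpecialLinearGroup ι F) := by
      rw [SL_commutator_eq_top h3]; trivial
    have := Subgroup.map_commutator (⊤ : Subgroup (SpecialLinearGroup ι F)) ⊤
      (toGL : SpecialLinearGroup ι F →* GL ι F)
    have hle : Subgroup.map (toGL : SpecialLinearGroup ι F →* GL ι F)
        (commutator (SpecialLinearGroup ι F)) ≤ commutator (GL ι F) := by
      rw [commutator_def, commutator_def, Subgroup.map_commutator]
      exact Subgroup.commutator_mono le_top le_top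
    exact hle ⟨M, hM, rfl⟩
  · obtain ⟨a, ha, ha1⟩ := h (by omega)
    refine transvection_induction_gen (fun M => toGL M ∈ commutator (GL ι F))
      (fun i j hij c => transvection_mem_commutator_GL hij a ha ha1 c) ?_ M
    intro A B hA hB
    rw [map_mul]
    exact mul_mem hA hB

/-- GL_n(F)' = SL_n(F) (as the kernel of det), for every field F and every n, except n = 2 over the field of two elements. -/
theorem result {F : Type*} [Field F] (n : ℕ) (h : n = 2 → ∃ a : F, a ≠ 0 ∧ a ≠ 1) : commutator (Matrix.GeneralLinearGroup (Fin n) F) = (Matrix.GeneralLinearGroup.det : Matrix.GeneralLinearGroup (Fin n) F →* Fˣ).ker := by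
  apply le_antisymm
  · exact Abelianization.commutator_subset_ker _
  · by_cases h2 : 2 ≤ n
    · rw [ker_det_eq_range_toGL]
      exact range_toGL_le_commutator (by simpa using h) (by simpa using h2)
    · -- n ≤ 1: the kernel of det is trivial
      intro g hg
      have hg1 : g = 1 := by
        rw [MonoidHom.mem_ker] at hg
        have hn : n = 0 ∨ n = 1 := by omega
        rcases hn with rfl | rfl
        · exact Subsingleton.elim _ _
        · apply Units.ext
          ext i j
          have hi : i = 0 := Subsingleton.elim _ _
          have hj : j = 0 := Subsingleton.elim _ _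
          subst hi hj
          have := congrArg Units.val hg
          rw [Matrix.GeneralLinearGroup.val_det_apply, Matrix.det_fin_one] at this
          simpa using this
      rw [hg1]
      exact one_mem _

end Cfsg.Agent.S0264
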