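import Cfsg.Statements.S0265
import Cfsg.Agent.Lib.Helper4.SLCard

set_option autoImplicit false
open Cfsg

namespace Cfsg.Agent.S0265

open Cfsg.Agent.Lib.Helper4 Matrix

theorem scalar_injective {F : Type*} [Field F] (n : ℕ) (hn : 0 < n) :
    Function.Injective (Matrix.GeneralLinearGroup.scalar (Fin n) : Fˣ →* GL (Fin n) F) := by
  intro a b hab
  have h1 := congrArg (fun g : GL (Fin n) F => (g : Matrix (Fin n) (Fin n) F) ⟨0, hn⟩ ⟨0, hn⟩) hab
  apply Units.ext
  simpa using h1

theorem card_center_GL {F : Type*} [Field F] [Fintype F] (n : ℕ) (hn : 0 < n) :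
    Nat.card (Subgroup.center (GL (Fin n) F)) = Fintype.card F - 1 := by
  rw [Matrix.GeneralLinearGroup.center_eq_range_scalar,
    ← Nat.card_congr (MonoidHom.ofInjective (scalar_injective (F := F) n hn)).toEquiv,
    Nat.card_units, Nat.card_eq_fintype_card]

/-- |PGL_n(q)| = |SL_n(q)|: GL_n modulo its centre (the q-1 non-zero scalars) has the same order as the kernel of det. -/
theorem result {F : Type*} [Field F] [Fintype F] (n : ℕ) : Nat.card (Matrix.ProjGenLinGroup (Fin n) F) = Nat.card (Matrix.SpecialLinearGroup (Fin n) F) := by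
  classical
  rcases Nat.eq_zero_or_pos n with rfl | hn
  · have h1 : Subsingleton (Matrix.SpecialLinearGroup (Fin 0) F) := inferInstance
    have h2 : Subsingleton (GL (Fin 0) F) := inferInstance
    have h3 : Subsingleton (Matrix.ProjGenLinGroup (Fin 0) F) :=
      (Matrix.ProjGenLinGroup.mk_surjective (n := Fin 0) (R := F)).subsingleton
    rw [Nat.card_unique, Nat.card_unique]
  · have h1 := Subgroup.card_eq_card_quotient_mul_card_subgroup (Subgroup.center (GL (Fin n) F))
    rw [card_center_GL n hn, ← card_SL_mul n hn] at h1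
    have hq : 0 < Fintype.card F - 1 := by
      have := Fintype.one_lt_card (α := F)
      omega
    exact (Nat.eq_of_mul_eq_mul_right hq h1).symm

end Cfsg.Agent.S0265
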