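import Cfsg.Statements.S0267
import Cfsg.Agent.Lib.Helper4.ProjLine

set_option autoImplicit false
open Cfsg

namespace Cfsg.Agent.S0267

open Cfsg.Agent.Lib.Helper4 Matrix
open scoped LinearAlgebra.Projectivization MatrixGroups

variable {F : Type*} [Field F]

/-- the action of `SL₂` on the projective line through `PGL₂` -/
theorem sl_smul_eq (s : Matrix.SpecialLinearGroup (Fin 2) F) (p : ℙ F (Fin 2 → F)) :
    s • p = (Matrix.ProjGenLinGroup.mk (Matrix.SpecialLinearGroup.toGL s) : PGL(Fin 2, F)) • p := by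
  induction p using Projectivization.ind with | _ v hv =>
  rw [Projectivization.smul_mk, Projectivization.PGL.mk_smul_mk]
  rfl

theorem sl_three_transitive_of_sq (hsq : ∀ a : F, IsSquare a) :
    MulAction.IsMultiplyPretransitive (Matrix.SpecialLinearGroup (Fin 2) F) (ℙ F (Fin 2 → F)) 3 := by
  refine ⟨fun x y => ?_⟩
  obtain ⟨g, hg⟩ := (pgl_three_transitive (F := F)).exists_smul_eq x y
  induction g using Matrix.ProjGenLinGroup.induction_on with | mk A =>
  have hdet : (A : Matrix (Fin 2) (Fin 2) F).det ≠ 0 :=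
    ((Matrix.isUnit_iff_isUnit_det _).mp A.isUnit).ne_zero
  obtain ⟨r, hr⟩ := hsq (A : Matrix (Fin 2) (Fin 2) F).det
  have hr0 : r ≠ 0 := by
    rintro rfl
    rw [mul_zero] at hr
    exact hdet hr
  have hdet' : (r⁻¹ • (A : Matrix (Fin 2) (Fin 2) F)).det = 1 := by
    rw [Matrix.det_smul, Fintype.card_fin, hr]
    field_simp
  let s : Matrix.SpecialLinearGroup (Fin 2) F := ⟨r⁻¹ • (A : Matrix (Fin 2) (Fin 2) F), hdet'⟩
  refine ⟨s, ?_⟩
  ext i
  rw [Function.Embedding.smul_apply, sl_smul_eq, ← hg, Function.Embedding.smul_apply]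
  congr 1
  rw [Matrix.ProjGenLinGroup.mk_eq_mk_iff]
  refine ⟨Units.mk0 r hr0, Units.ext ?_⟩
  simp only [Units.val_mul, Matrix.SpecialLinearGroup.coe_GL_coe_matrix,
    Matrix.GeneralLinearGroup.coe_scalar]
  ext a b
  simp [s, Matrix.mul_apply, Matrix.scalar_apply, Matrix.diagonal_apply]
  field_simp

theorem not_three_transitive_of_nonsquare (n : F) (hn : ¬ IsSquare n) :
    ¬ MulAction.IsMultiplyPretransitive (Matrix.SpecialLinearGroup (Fin 2) F) (ℙ F (Fin 2 → F)) 3 := by
  intro htr
  have hn0 : n ≠ 0 := by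
    rintro rfl
    exact hn ⟨0, by simp⟩
  -- the two frames
  have hn1 : (![n, 1] : Fin 2 → F) ≠ 0 := fun h => by simpa using congrFun h 1
  let y : Fin 3 → ℙ F (Fin 2 → F) :=
    ![Projectivization.mk F ![1, 0] e1_ne, Projectivization.mk F ![0, 1] e2_ne,
      Projectivization.mk F ![n, 1] hn1]
  have hstd : Function.Injective (stdPt F) := by
    intro i j hij
    fin_cases i <;> fin_cases j <;> first | rfl | (exfalso; revert hij; simp [stdPt, mk_eq_mk_iff_cross, cross])
  have hy : Function.Injective y := by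
    intro i j hij
    fin_cases i <;> fin_cases j <;> first | rfl | (exfalso; revert hij; simp [y, mk_eq_mk_iff_cross, cross, hn0])
  obtain ⟨s, hs⟩ := htr.exists_smul_eq ⟨stdPt F, hstd⟩ ⟨y, hy⟩
  have hs' : ∀ i, s • stdPt F i = y i := fun i => by
    have := congrArg (fun e : Fin 3 ↪ ℙ F (Fin 2 → F) => e i) hs
    simpa using this
  -- the diagonal matrix
  let D : GL (Fin 2) F := Matrix.GeneralLinearGroup.mkOfDetNeZero !![n, 0; 0, 1] (by
    simp [Matrix.det_fin_two_of, hn0])
  have hD : ∀ i, (Matrix.ProjGenLinGroup.mk D : PGL(Fin 2, F)) • stdPt F i = y i := by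
    intro i
    fin_cases i
    · change (Matrix.ProjGenLinGroup.mk D : PGL(Fin 2, F)) • Projectivization.mk F ![1, 0] e1_ne =
        Projectivization.mk F ![1, 0] e1_ne
      rw [Projectivization.PGL.mk_smul_mk, mk_eq_mk_iff_cross]
      change cross ((!![n, 0; 0, 1] : Matrix (Fin 2) (Fin 2) F) *ᵥ ![1, 0]) ![1, 0] = 0
      simp [cross, Matrix.mulVec, dotProduct, Fin.sum_univ_two]
    · change (Matrix.ProjGenLinGroup.mk D : PGL(Fin 2, F)) • Projectivization.mk F ![0, 1] e2_ne =
        Projectivization.mk F ![0, 1] e2_ne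
      rw [Projectivization.PGL.mk_smul_mk, mk_eq_mk_iff_cross]
      change cross ((!![n, 0; 0, 1] : Matrix (Fin 2) (Fin 2) F) *ᵥ ![0, 1]) ![0, 1] = 0
      simp [cross, Matrix.mulVec, dotProduct, Fin.sum_univ_two]
    · change (Matrix.ProjGenLinGroup.mk D : PGL(Fin 2, F)) • Projectivization.mk F ![1, 1] e12_ne =
        Projectivization.mk F ![n, 1] hn1
      rw [Projectivization.PGL.mk_smul_mk, mk_eq_mk_iff_cross]
      change cross ((!![n, 0; 0, 1] : Matrix (Fin 2) (Fin 2) F) *ᵥ ![1, 1]) ![n, 1] = 0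
      simp [cross, Matrix.mulVec, dotProduct, Fin.sum_univ_two]
  -- sharpness
  have hfix : ∀ i, ((Matrix.ProjGenLinGroup.mk (Matrix.SpecialLinearGroup.toGL s))⁻¹ *
      Matrix.ProjGenLinGroup.mk D : PGL(Fin 2, F)) • stdPt F i = stdPt F i := by
    intro i
    rw [mul_smul, hD i, ← hs' i, sl_smul_eq, inv_smul_smul]
  have h1 := pgl_sharp _ (stdPt F 0) (stdPt F 1) (stdPt F 2)
    (fun h => by simpa using hstd h) (fun h => by simpa using hstd h)
    (fun h => by simpa using hstd h) (hfix 0) (hfix 1) (hfix 2)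
  rw [inv_mul_eq_one, Matrix.ProjGenLinGroup.mk_eq_mk_iff] at h1
  obtain ⟨c, hc⟩ := h1
  have hdet := congrArg (fun g : GL (Fin 2) F => (g : Matrix (Fin 2) (Fin 2) F).det) hc
  simp only [Units.val_mul, Matrix.det_mul, Matrix.SpecialLinearGroup.coe_GL_coe_matrix,
    Matrix.SpecialLinearGroup.det_coe, one_mul, Matrix.GeneralLinearGroup.coe_scalar] at hdet
  apply hn
  refine ⟨(c : F), ?_⟩
  have hDdet : ((D : GL (Fin 2) F) : Matrix (Fin 2) (Fin 2) F).det = n := by
    change (!![n, 0; 0, 1] : Matrix (Fin 2) (Fin 2) F).det = n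
    simp [Matrix.det_fin_two_of]
  rw [hDdet] at hdet
  rw [← hdet, Matrix.scalar_apply, Matrix.det_diagonal]
  simp [pow_two]

/-- SL_2(q) is 3-transitive on the q+1 points of the projective line if and only if q is even. -/
theorem result {F : Type*} [Field F] [Fintype F] : MulAction.IsMultiplyPretransitive (Matrix.SpecialLinearGroup (Fin 2) F) (Projectivization F (Fin 2 → F)) 3 ↔ ringChar F = 2 := by
  constructor
  · intro h
    by_contra hchar
    obtain ⟨n, hn⟩ := FiniteField.exists_nonsquare hchar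
    exact not_three_transitive_of_nonsquare n hn h
  · intro hchar
    exact sl_three_transitive_of_sq (FiniteField.isSquare_of_char_two hchar)

end Cfsg.Agent.S0267
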