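import Cfsg.Statements.S0268
import Cfsg.Agent.Lib.Helper4.SL2

set_option autoImplicit false
open Cfsg

namespace Cfsg.Agent.S0268

open Cfsg.Agent.Lib.Helper4 Matrix

theorem two_ne_zero_of_odd {F : Type*} [Field F] [Fintype F] (hF : Odd (Fintype.card F)) :
    (2 : F) ≠ 0 := by
  intro h2
  have hchar : ringChar F = 2 := CharP.ringChar_of_prime_eq_zero Nat.prime_two (by exact_mod_cast h2)
  have := FiniteField.even_card_of_char_two hchar
  rcases hF with ⟨k, hk⟩
  omega

/-- For q odd, -1 is the unique involution of SL_2(q). -/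
theorem result {F : Type*} [Field F] [Fintype F] (hF : Odd (Fintype.card F)) (g : Matrix.SpecialLinearGroup (Fin 2) F) (h1 : g ≠ 1) (h2 : g * g = 1) : (g : Matrix (Fin 2) (Fin 2) F) = -1 := by
  have h20 := two_ne_zero_of_odd hF
  have hdet := sl2_det g
  have hm : (g : Matrix (Fin 2) (Fin 2) F) * (g : Matrix (Fin 2) (Fin 2) F) = 1 := by
    rw [← Matrix.SpecialLinearGroup.coe_mul, h2]; rfl
  have e00 := congrFun (congrFun hm 0) 0
  have e01 := congrFun (congrFun hm 0) 1
  have e10 := congrFun (congrFun hm 1) 0
  have e11 := congrFun (congrFun hm 1) 1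
  simp only [Matrix.mul_apply, Fin.sum_univ_two, Matrix.one_apply_eq, Matrix.one_apply_ne,
    ne_eq, Fin.isValue, zero_ne_one, one_ne_zero, not_false_eq_true] at e00 e01 e10 e11
  set a := (g : Matrix (Fin 2) (Fin 2) F) 0 0 with ha
  set b := (g : Matrix (Fin 2) (Fin 2) F) 0 1 with hb
  set c := (g : Matrix (Fin 2) (Fin 2) F) 1 0 with hc
  set d := (g : Matrix (Fin 2) (Fin 2) F) 1 1 with hd
  have htr : a + d ≠ 0 := by
    intro h
    have hd' : d = -a := by linear_combination h
    apply h20
    rw [hd'] at hdet
    linear_combination (-1 : F) * e00 - hdet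
  have hb0 : b = 0 := by
    have : b * (a + d) = 0 := by linear_combination e01
    rcases mul_eq_zero.mp this with h | h
    · exact h
    · exact absurd h htr
  have hc0 : c = 0 := by
    have : c * (a + d) = 0 := by linear_combination e10
    rcases mul_eq_zero.mp this with h | h
    · exact h
    · exact absurd h htr
  rw [hb0, hc0] at hdet e00 e11
  have had : a = d := by
    have : a * (a - d) = 0 := by linear_combination e00 - hdet
    rcases mul_eq_zero.mp this with h | h
    · rw [h] at hdet; simp at hdet
    · linear_combination h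
  have ha2 : (a - 1) * (a + 1) = 0 := by linear_combination e00
  have ham : a = -1 := by
    rcases mul_eq_zero.mp ha2 with h | h
    · exfalso
      apply h1
      rw [sl2_ext_iff]
      have ha1 : a = 1 := by linear_combination h
      refine ⟨?_, ?_, ?_, ?_⟩
      · rw [← ha, ha1]; rfl
      · rw [← hb, hb0]; rfl
      · rw [← hc, hc0]; rfl
      · rw [← hd, ← had, ha1]; rfl
    · linear_combination h
  ext i j
  fin_cases i <;> fin_cases j
  · change a = _; rw [ham]; simp
  · change b = _; rw [hb0]; simp
  · change c = _; rw [hc0]; simp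
  · change d = _; rw [← had, ham]; simp

end Cfsg.Agent.S0268
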