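import Mathlib
import Cfsg.Statements.S0282
import Cfsg.Agent.Lib.Helper5.SU32b

set_option autoImplicit false
open Cfsg

namespace Cfsg.Agent.S0282

/-- PSU_3(2) is a solvable group of order 72. -/
theorem result {F : Type*} [Field F] [Fintype F] (hF : Fintype.card F = 4) : Nat.card (Cfsg.PSU 3 F 2) = 72 ∧ Group.IsSolvable (Cfsg.PSU 3 F 2) := by
  have hF' : Fintype.card F = 2 ^ 2 := hF.trans (by norm_num)
  exact ⟨Cfsg.Agent.Lib.Helper5.SU32b.card_G hF', Cfsg.Agent.Lib.Helper5.SU32b.solvable hF'⟩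

end Cfsg.Agent.S0282
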