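import Cfsg.Statements.S0290
import Cfsg.Agent.Lib.Helper4.QuadCount

set_option autoImplicit false
open Cfsg

namespace Cfsg.Agent.S0290

open Cfsg.Agent.Lib.Helper4 Matrix

/-- The minus-type quadratic form on F^(2m), m at least 1, has q^(2m-1) + q^(m-1) - q^m zeros (that is, (q^m + 1)(q^(m-1) - 1) non-zero isotropic vectors). -/
theorem result {F : Type*} [Field F] [Fintype F] {q : ℕ} (hF : Fintype.card F = q) (m : ℕ) (hm : 1 ≤ m) (a b : F) (hab : ∀ z₁ z₂ : F, z₁ ^ 2 + a * z₁ * z₂ + b * z₂ ^ 2 = 0 → z₁ = 0 ∧ z₂ = 0) : Nat.card {v : (Fin (m - 1) ⊕ Fin (m - 1)) ⊕ Fin 2 → F // Cfsg.quadFormMinus (m - 1) F a b v = 0} = q ^ (2 * m - 1) + q ^ (m - 1) - q ^ m := by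
  classical
  subst hF
  obtain ⟨k, rfl⟩ : ∃ k, m = k + 1 := ⟨m - 1, by omega⟩
  have e2 : k + 1 - 1 = k := by omega
  rw [e2]
  let h : (Fin 2 → F) → F := fun z => z 0 ^ 2 + a * z 0 * z 1 + b * z 1 ^ 2
  let e : {v : (Fin k ⊕ Fin k) ⊕ Fin 2 → F // Cfsg.quadFormMinus k F a b v = 0} ≃
      {p : (Fin 2 → F) × (Fin k → F) × (Fin k → F) // h p.1 + p.2.1 ⬝ᵥ p.2.2 = 0} :=
    { toFun := fun v => ⟨(fun j => v.1 (Sum.inr j), fun i => v.1 (Sum.inl (Sum.inl i)),
        fun i => v.1 (Sum.inl (Sum.inr i))), by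
          have := v.2
          rw [add_comm]
          exact this⟩
      invFun := fun p => ⟨Sum.elim (Sum.elim p.1.2.1 p.1.2.2) p.1.1, by
          have := p.2
          rw [add_comm] at this
          exact this⟩
      left_inv := fun v => by
        apply Subtype.ext
        funext i
        rcases i with (i | i) | i <;> rfl
      right_inv := fun p => by
        apply Subtype.ext
        rfl }
  have h1 := card_triples (F := F) h k
  rw [← Nat.card_congr e] at h1
  have hZ : Nat.card {w : Fin 2 → F // h w = 0} = 1 := by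
    have e0 : {w : Fin 2 → F // h w = 0} ≃ Unit :=
      { toFun := fun _ => ()
        invFun := fun _ => ⟨0, by simp [h]⟩
        left_inv := fun w => by
          apply Subtype.ext
          have := hab _ _ w.2
          funext i
          fin_cases i
          · exact this.1.symm
          · exact this.2.symm
        right_inv := fun _ => rfl }
    rw [Nat.card_congr e0, Nat.card_unique]
  rw [hZ] at h1
  set q := Fintype.card F with hq
  have hq2 : 2 ≤ q := Fintype.one_lt_card
  have e1 : 2 * (k + 1) - 1 = 2 * k + 1 := by omega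
  rw [e1]
  apply Nat.eq_of_mul_eq_mul_right (show 0 < q by omega)
  rw [h1]
  have h3 : 1 ≤ q ^ k := Nat.one_le_pow _ _ (by omega)
  have h4 : q ^ (k + 1) ≤ q ^ (2 * k + 1) + q ^ k :=
    le_trans (Nat.pow_le_pow_right (by omega) (by omega)) (Nat.le_add_right _ _)
  simp only [Fintype.card_fun, Fintype.card_fin]
  zify [h3, h4]
  ring

end Cfsg.Agent.S0290
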