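import Cfsg.Statements.S0291
import Cfsg.Agent.Lib.Helper4.QuadCount

set_option autoImplicit false
open Cfsg

namespace Cfsg.Agent.S0291

open Cfsg.Agent.Lib.Helper4 Matrix

/-- For q odd, the form x_0^2 + sum_{i<m} x_i y_i on F^(2m+1) has exactly q^(2m) zeros. -/
theorem result {F : Type*} [Field F] [Fintype F] {q : ℕ} (hF : Fintype.card F = q) (hodd : Odd q) (m : ℕ) : Nat.card {v : Unit ⊕ (Fin m ⊕ Fin m) → F // Cfsg.quadFormOdd m F v = 0} = q ^ (2 * m) := by
  classical
  subst hF
  let e : {v : Unit ⊕ (Fin m ⊕ Fin m) → F // Cfsg.quadFormOdd m F v = 0} ≃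
      {p : F × (Fin m → F) × (Fin m → F) // (fun w : F => w ^ 2) p.1 + p.2.1 ⬝ᵥ p.2.2 = 0} :=
    { toFun := fun v => ⟨(v.1 (Sum.inl ()), fun i => v.1 (Sum.inr (Sum.inl i)),
        fun i => v.1 (Sum.inr (Sum.inr i))), v.2⟩
      invFun := fun p => ⟨Sum.elim (fun _ => p.1.1) (Sum.elim p.1.2.1 p.1.2.2), p.2⟩
      left_inv := fun v => by
        apply Subtype.ext
        funext i
        rcases i with i | i | i <;> rfl
      right_inv := fun p => by
        apply Subtype.ext
        rfl }
  have h1 := card_triples (F := F) (fun w : F => w ^ 2) m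
  rw [← Nat.card_congr e] at h1
  have hZ : Nat.card {w : F // (fun w : F => w ^ 2) w = 0} = 1 := by
    have e0 : {w : F // (fun w : F => w ^ 2) w = 0} ≃ Unit :=
      { toFun := fun _ => ()
        invFun := fun _ => ⟨0, by simp⟩
        left_inv := fun w => by
          apply Subtype.ext
          have := w.2
          simp only [pow_eq_zero_iff (two_ne_zero)] at this
          exact this.symm
        right_inv := fun _ => rfl }
    rw [Nat.card_congr e0, Nat.card_unique]
  rw [hZ] at h1
  set q := Fintype.card F with hq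
  have hq2 : 2 ≤ q := Fintype.one_lt_card
  apply Nat.eq_of_mul_eq_mul_right (show 0 < q by omega)
  rw [h1]
  have h3 : 1 ≤ q ^ m := Nat.one_le_pow _ _ (by omega)
  zify [h3]
  ring

end Cfsg.Agent.S0291
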