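import Mathlib
import Cfsg.Statements.S0297
import Cfsg.Agent.Lib.Helper5.OmegaSimple
import Cfsg.Agent.Lib.Helper5.SpinorHyp2
import Cfsg.Agent.S2615

set_option autoImplicit false
open Cfsg

namespace Cfsg.Agent.S0297

open Cfsg.Agent.Lib.Helper5 Cfsg.Agent.Lib.Helper5.OmegaSimple Cfsg.Agent.Lib.Helper5.OrthCard
  Cfsg.Agent.Lib.Helper5.OrthPlane Cfsg.Agent.Lib.Helper5.SpinorHyp2

/-- PΩ^-_{2m}(q) is simple for m at least 4 (the form is quadFormMinus (m-1) with anisotropic binary part). -/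
theorem result {F : Type*} [Field F] [Fintype F] (m : ℕ) (hm : 4 ≤ m) (a b : F) (hab : ∀ z₁ z₂ : F, z₁ ^ 2 + a * z₁ * z₂ + b * z₂ ^ 2 = 0 → z₁ = 0 ∧ z₂ = 0) : IsSimpleGroup (Cfsg.POmega F (Cfsg.quadFormMinus (m - 1) F a b)) := by
  rw [← Cfsg.Agent.S2615.minus_eq]
  refine isSimpleGroup_POmega_of_hypFamily
    (genForm_nondegenerate _ (binForm_nondegenerate a b (anisotropic_of a b hab)) (m - 1))
    (genForm_hypFamily _ (le_refl (m - 1))) (by omega) ?_
  simp only [Fintype.card_sum, Fintype.card_fin]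
  omega

end Cfsg.Agent.S0297
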