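import Mathlib
import Cfsg.Statements.S0298
import Cfsg.Agent.Lib.Helper5.SL2Orth

set_option autoImplicit false
open Cfsg

namespace Cfsg.Agent.S0298

/-- PΩ_3(q) is isomorphic to PSL_2(q) for q odd. -/
theorem result {F : Type*} [Field F] [Fintype F] (hodd : Odd (Fintype.card F)) : Nonempty (Cfsg.POmega F (Cfsg.quadFormOdd 1 F) ≃* Matrix.ProjectiveSpecialLinearGroup (Fin 2) F) := by
  have h2 : (2 : F) ≠ 0 := by
    intro h2
    have : CharP F 2 := CharTwo.of_one_ne_zero_of_two_eq_zero one_ne_zero h2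
    have h := FiniteField.even_card_of_char_two (ringChar.eq F 2)
    rcases hodd with ⟨k, hk⟩
    omega
  have := Cfsg.Agent.Lib.Helper5.SL2Orth.nonempty_mulEquiv (F := F) h2
  rw [Cfsg.Agent.Lib.Helper5.SpinorHyp2.coe_oddForm] at this
  exact this

end Cfsg.Agent.S0298
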