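import Mathlib
import Cfsg.Statements.S0301
import Cfsg.Agent.Lib.Helper5.Sp4Orth2

set_option autoImplicit false
open Cfsg

namespace Cfsg.Agent.S0301

/-- PΩ_5(q) is isomorphic to PSp_4(q) for q odd. -/
theorem result {F : Type*} [Field F] [Fintype F] (hodd : Odd (Fintype.card F)) : Nonempty (Cfsg.POmega F (Cfsg.quadFormOdd 2 F) ≃* Cfsg.PSp 2 F) := by
  have h2 : (2 : F) ≠ 0 := by
    intro h
    have := Cfsg.Agent.Lib.Helper5.SL2SL2Orth.two_eq_zero_iff_even.mp h
    rw [← Nat.not_odd_iff_even] at this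
    exact this hodd
  have := Cfsg.Agent.Lib.Helper5.Sp4Orth.nonempty_mulEquiv h2
  rwa [Cfsg.Agent.Lib.Helper5.SpinorHyp2.coe_oddForm] at this

end Cfsg.Agent.S0301
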