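import Mathlib
import Cfsg.Statements.S0305
import Cfsg.Agent.S0206
import Cfsg.Agent.S0287
import Cfsg.Agent.Lib.Helper5.OrthCard

set_option autoImplicit false
open Cfsg

namespace Cfsg.Agent.S0305

open Matrix Cfsg.Agent.Lib.Helper5.OrthCard

section
variable {F : Type*} [Field F]

/-- antidiagonal matrix -/
def antiMat (c : F) : Matrix (Fin 1 ⊕ Fin 1) (Fin 1 ⊕ Fin 1) F :=
  fromBlocks 0 (c • 1) (c⁻¹ • 1) 0

theorem antiMat_mul (c d : F) :
    antiMat c * antiMat d = fromBlocks ((c * d⁻¹) • 1) 0 0 ((c⁻¹ * d) • 1) := by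
  unfold antiMat
  rw [fromBlocks_multiply]
  simp [smul_smul, mul_comm]

theorem antiMat_mul_self (c : F) (hc : c ≠ 0) : antiMat c * antiMat c = 1 := by
  rw [antiMat_mul, mul_inv_cancel₀ hc, inv_mul_cancel₀ hc, one_smul, fromBlocks_one]

theorem quad_antiMat (c : F) (hc : c ≠ 0) (v : Fin 1 ⊕ Fin 1 → F) :
    quadFormPlus 1 F (antiMat c *ᵥ v) = quadFormPlus 1 F v := by
  unfold quadFormPlus antiMat
  simp only [Finset.univ_unique, Fin.default_eq_zero, Finset.sum_singleton]
  have h1 : (fromBlocks (0 : Matrix (Fin 1) (Fin 1) F) (c • (1 : Matrix (Fin 1) (Fin 1) F)) (c⁻¹ • (1 : Matrix (Fin 1) (Fin 1) F)) 0 *ᵥ v) (Sum.inl 0)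
      = c * v (Sum.inr 0) := by
    simp [Matrix.mulVec, dotProduct, Fintype.sum_sum_type, fromBlocks]
  have h2 : (fromBlocks (0 : Matrix (Fin 1) (Fin 1) F) (c • (1 : Matrix (Fin 1) (Fin 1) F)) (c⁻¹ • (1 : Matrix (Fin 1) (Fin 1) F)) 0 *ᵥ v) (Sum.inr 0)
      = c⁻¹ * v (Sum.inl 0) := by
    simp [Matrix.mulVec, dotProduct, Fintype.sum_sum_type, fromBlocks]
  rw [h1, h2]
  field_simp

/-- antidiagonal isometry -/
noncomputable def antiG (c : Fˣ) : ↥(isometryGroup F (quadFormPlus 1 F)) :=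
  ⟨⟨antiMat (c : F), antiMat (c : F), antiMat_mul_self _ c.ne_zero, antiMat_mul_self _ c.ne_zero⟩,
    (mem_isometryGroup_iff _ _).mpr (fun v => quad_antiMat _ c.ne_zero v)⟩

theorem antiG_coe (c : Fˣ) :
    ((antiG c : Matrix.GeneralLinearGroup (Fin 1 ⊕ Fin 1) F) : Matrix _ _ F) = antiMat (c : F) :=
  rfl

theorem antiG_mul_self (c : Fˣ) : antiG c * antiG c = 1 := by
  apply Subtype.ext; apply Units.ext; exact antiMat_mul_self _ c.ne_zero

theorem antiG_ne_one (c : Fˣ) : antiG c ≠ 1 := by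
  intro h
  have := congrArg (fun g : ↥(isometryGroup F (quadFormPlus 1 F)) =>
    ((g : Matrix.GeneralLinearGroup (Fin 1 ⊕ Fin 1) F) : Matrix (Fin 1 ⊕ Fin 1) (Fin 1 ⊕ Fin 1) F) (Sum.inl 0) (Sum.inl 0)) h
  simp [antiG_coe, antiMat] at this

theorem orderOf_antiG (c : Fˣ) : orderOf (antiG c) = 2 :=
  orderOf_eq_prime (by rw [pow_two, antiG_mul_self]) (antiG_ne_one c)

theorem antiG_injective : Function.Injective (antiG (F := F)) := by
  intro c d h
  have := congrArg (fun g : ↥(isometryGroup F (quadFormPlus 1 F)) =>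
    ((g : Matrix.GeneralLinearGroup (Fin 1 ⊕ Fin 1) F) : Matrix (Fin 1 ⊕ Fin 1) (Fin 1 ⊕ Fin 1) F) (Sum.inl 0) (Sum.inr 0)) h
  simp only [antiG_coe, antiMat, fromBlocks_apply₁₂, Matrix.smul_apply, one_apply_eq, smul_eq_mul,
    mul_one] at this
  exact Units.ext this

/-- the rotation hom -/
noncomputable def rotHom : Fˣ →* ↥(isometryGroup F (quadFormPlus 1 F)) :=
  MonoidHom.mk' (fun c => antiG 1 * antiG c) (by
    intro c d
    apply Subtype.ext; apply Units.ext
    simp only [Subgroup.coe_mul, Units.val_mul, antiG_coe, antiMat_mul, Units.val_one,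
      fromBlocks_multiply]
    simp [smul_smul, mul_comm])

theorem rotHom_injective : Function.Injective (rotHom (F := F)) := by
  intro c d h
  exact antiG_injective (mul_left_cancel h)

end

/-- GO^+_2(q) is dihedral of order 2(q-1). -/
theorem result {F : Type*} [Field F] [Fintype F] {q : ℕ} (hF : Fintype.card F = q) : Nonempty (Cfsg.isometryGroup F (Cfsg.quadFormPlus 1 F) ≃* DihedralGroup (q - 1)) := by
  classical
  subst hF
  have hcard : Nat.card ↥(isometryGroup F (quadFormPlus 1 F)) = 2 * (Fintype.card F - 1) := by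
    have := Cfsg.Agent.S0287.result (F := F) rfl 1 le_rfl
    simpa using this
  by_cases hq : Fintype.card F = 2
  · have : Fact (Nat.Prime 2) := ⟨Nat.prime_two⟩
    exact ⟨mulEquivOfPrimeCardEq (p := 2) (by rw [hcard, hq]) (by rw [DihedralGroup.nat_card, hq])⟩
  · obtain ⟨ζ, hζ⟩ := IsCyclic.exists_generator (α := Fˣ)
    have hζord : orderOf ζ = Fintype.card F - 1 := by
      rw [orderOf_eq_card_of_forall_mem_zpowers hζ, Nat.card_eq_fintype_card, Fintype.card_units]
    have hζ1 : ζ ≠ 1 := by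
      intro h
      rw [h, orderOf_one] at hζord
      have := Fintype.one_lt_card (α := F)
      omega
    have hxy : antiG (1 : Fˣ) ≠ antiG ζ := fun h => hζ1 (antiG_injective h).symm
    have hord : orderOf (antiG (1 : Fˣ) * antiG ζ) = Fintype.card F - 1 := by
      show orderOf (rotHom ζ) = _
      rw [orderOf_injective rotHom rotHom_injective, hζord]
    obtain ⟨e⟩ := Cfsg.Agent.S0206.result (antiG (1 : Fˣ)) (antiG ζ) (orderOf_antiG 1)
      (orderOf_antiG ζ) hxy
    rw [hord] at e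
    have htop : Subgroup.closure ({antiG (1 : Fˣ), antiG ζ} : Set _) = ⊤ :=
      Subgroup.eq_top_of_card_eq _ (by rw [Nat.card_congr e.toEquiv, DihedralGroup.nat_card, hcard])
    exact ⟨(Subgroup.topEquiv.symm.trans (MulEquiv.subgroupCongr htop.symm)).trans e⟩

end Cfsg.Agent.S0305
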