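import Mathlib
import Cfsg.Statements.S0306
import Cfsg.Agent.S0206
import Cfsg.Agent.S0288
import Cfsg.Agent.Lib.Helper5.OrthPlane
import Cfsg.Agent.Lib.Helper5.IsomReindex

set_option autoImplicit false
set_option linter.unusedSectionVars false
open Cfsg

namespace Cfsg.Agent.S0306

open Matrix QuadraticMap Cfsg.Agent.Lib.Helper5 Cfsg.Agent.Lib.Helper5.OrthCard
  Cfsg.Agent.Lib.Helper5.OrthPlane Cfsg.Agent.Lib.Helper5.CartanDieudonne

section
variable {F : Type*} [Field F] (a b : F)

theorem Lmat_mul (u v : Fin 2 → F) : Lmat a b u * Lmat a b v = Lmat a b (mul a b u v) := by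
  ext i j
  fin_cases i <;> fin_cases j <;>
    simp [Lmat, mul, Matrix.mul_apply, Fin.sum_univ_two] <;> ring

theorem Lmat_add (u v : Fin 2 → F) : Lmat a b (u + v) = Lmat a b u + Lmat a b v := by
  ext i j
  fin_cases i <;> fin_cases j <;> simp [Lmat] <;> ring

theorem Lmat_neg (u : Fin 2 → F) : Lmat a b (-u) = - Lmat a b u := by
  ext i j
  fin_cases i <;> fin_cases j <;> simp [Lmat] <;> ring

theorem Lmat_zero : Lmat a b 0 = 0 := by
  ext i j
  fin_cases i <;> fin_cases j <;> simp [Lmat]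

theorem Lmat_one : Lmat a b ![1, 0] = 1 := by
  ext i j
  fin_cases i <;> fin_cases j <;> simp [Lmat]

theorem mul_comm' (u v : Fin 2 → F) : mul a b u v = mul a b v u := by
  ext i
  fin_cases i <;> simp [mul] <;> ring

theorem Lmat_injective : Function.Injective (Lmat a b) := by
  intro u v h
  ext i
  fin_cases i
  · have := congrFun (congrFun h 0) 0
    simpa [Lmat] using this
  · have := congrFun (congrFun h 1) 0
    simpa [Lmat] using this

theorem det_Lmat (u : Fin 2 → F) : (Lmat a b u).det = binForm a b u := by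
  rw [Matrix.det_fin_two, binForm_apply]
  simp [Lmat]
  ring

/-- the subring `F[ω]` of the matrix ring -/
def ringS : Subring (Matrix (Fin 2) (Fin 2) F) where
  carrier := Set.range (Lmat a b)
  mul_mem' := by
    rintro _ _ ⟨u, rfl⟩ ⟨v, rfl⟩
    exact ⟨_, (Lmat_mul a b u v).symm⟩
  one_mem' := ⟨_, Lmat_one a b⟩
  add_mem' := by
    rintro _ _ ⟨u, rfl⟩ ⟨v, rfl⟩
    exact ⟨_, Lmat_add a b u v⟩
  zero_mem' := ⟨_, Lmat_zero a b⟩
  neg_mem' := by
    rintro _ ⟨u, rfl⟩
    exact ⟨_, Lmat_neg a b u⟩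

instance commRingS : CommRing ↥(ringS a b) :=
  { (ringS a b).toRing with
    mul_comm := by
      rintro ⟨_, u, rfl⟩ ⟨_, v, rfl⟩
      apply Subtype.ext
      show Lmat a b u * Lmat a b v = Lmat a b v * Lmat a b u
      rw [Lmat_mul, Lmat_mul, mul_comm'] }

theorem isDomainS (han : ∀ v : Fin 2 → F, binForm a b v = 0 → v = 0) : IsDomain ↥(ringS a b) := by
  have : NoZeroDivisors ↥(ringS a b) := by
    constructor
    rintro ⟨_, u, rfl⟩ ⟨_, v, rfl⟩ h
    have h1 : Lmat a b u * Lmat a b v = 0 := congrArg Subtype.val h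
    have h2 := congrArg Matrix.det h1
    rw [Matrix.det_mul, det_Lmat, det_Lmat, Matrix.det_zero] at h2
    rcases mul_eq_zero.mp h2 with h3 | h3
    · left
      apply Subtype.ext
      show Lmat a b u = 0
      rw [han u h3, Lmat_zero]
    · right
      apply Subtype.ext
      show Lmat a b v = 0
      rw [han v h3, Lmat_zero]
  exact NoZeroDivisors.to_isDomain _

end

section group
variable {F : Type*} [Field F] [Fintype F] (a b : F)

theorem mul_e0 (u : Fin 2 → F) : mul a b u ![1, 0] = u := by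
  ext i
  fin_cases i <;> simp [mul]

theorem norm_of_coe_eq (g : ↥(isometryGroup F ⇑(binForm a b))) (u : Fin 2 → F)
    (hu : Lmat a b u = ((g : Matrix.GeneralLinearGroup (Fin 2) F) : Matrix (Fin 2) (Fin 2) F)) :
    binForm a b u = 1 := by
  have := (mem_isometryGroup_iff _ _).mp g.2 ![1, 0]
  rw [← hu, Lmat_mulVec, mul_e0] at this
  rw [this, binForm_apply]
  simp

/-- rotation subgroup -/
def rotSub : Subgroup ↥(isometryGroup F ⇑(binForm a b)) where
  carrier := {g | ((g : Matrix.GeneralLinearGroup (Fin 2) F) : Matrix (Fin 2) (Fin 2) F) ∈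
    ringS a b}
  mul_mem' := by
    intro g h hg hh
    show ((g * h : ↥(isometryGroup F ⇑(binForm a b))) : Matrix.GeneralLinearGroup (Fin 2) F).val
      ∈ ringS a b
    rw [Subgroup.coe_mul, Units.val_mul]
    exact (ringS a b).mul_mem hg hh
  one_mem' := (ringS a b).one_mem
  inv_mem' := by
    rintro g ⟨u, hu⟩
    have hN := norm_of_coe_eq a b g u hu
    refine ⟨conj a u, ?_⟩
    have h1 : Lmat a b (conj a u) * ((g : Matrix.GeneralLinearGroup (Fin 2) F) :
        Matrix (Fin 2) (Fin 2) F) = 1 := by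
      rw [← hu]; exact Lmat_conj_mul a b u hN
    exact Units.eq_inv_of_mul_eq_one_right h1

theorem mem_rotSub_iff (g : ↥(isometryGroup F ⇑(binForm a b))) :
    g ∈ rotSub a b ↔ ∃ (u : Fin 2 → F) (hu : binForm a b u = 1), g = LIsom a b u hu := by
  constructor
  · rintro ⟨u, hu⟩
    refine ⟨u, norm_of_coe_eq a b g u hu, ?_⟩
    apply Subtype.ext
    apply Units.ext
    exact hu.symm
  · rintro ⟨u, hu, rfl⟩
    exact ⟨u, rfl⟩

theorem LIsom_injective (u v : Fin 2 → F) (hu : binForm a b u = 1) (hv : binForm a b v = 1)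
    (h : LIsom a b u hu = LIsom a b v hv) : u = v := by
  apply Lmat_injective a b
  exact congrArg (fun g : ↥(isometryGroup F ⇑(binForm a b)) =>
    ((g : Matrix.GeneralLinearGroup (Fin 2) F) : Matrix (Fin 2) (Fin 2) F)) h

theorem card_rotSub (han : ∀ v : Fin 2 → F, binForm a b v = 0 → v = 0) :
    Nat.card ↥(rotSub a b) = Fintype.card F + 1 := by
  rw [← card_level_one a b han]
  symm
  apply Nat.card_congr
  refine Equiv.ofBijective (fun u => ⟨LIsom a b u.1 u.2, (mem_rotSub_iff a b _).mpr ⟨u.1, u.2, rfl⟩⟩)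
    ⟨?_, ?_⟩
  · intro u v h
    apply Subtype.ext
    exact LIsom_injective a b _ _ u.2 v.2 (congrArg Subtype.val h)
  · rintro ⟨g, hg⟩
    obtain ⟨u, hu, rfl⟩ := (mem_rotSub_iff a b g).mp hg
    exact ⟨⟨u, hu⟩, rfl⟩

theorem isCyclic_rotSub (han : ∀ v : Fin 2 → F, binForm a b v = 0 → v = 0) :
    IsCyclic ↥(rotSub a b) := by
  have := isDomainS a b han
  let f : ↥(rotSub a b) →* ↥(ringS a b) :=
    { toFun := fun g => ⟨_, g.2⟩
      map_one' := rfl
      map_mul' := fun g h => rfl }
  apply isCyclic_of_injective_ringHom f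
  intro g h hgh
  apply Subtype.ext
  apply Subtype.ext
  apply Units.ext
  exact congrArg Subtype.val hgh

theorem Cmat_Lmat_Cmat (u : Fin 2 → F) : Cmat a * Lmat a b u * Cmat a = Lmat a b (conj a u) := by
  ext i j
  fin_cases i <;> fin_cases j <;>
    simp [Lmat, Cmat, conj, Matrix.mul_apply, Fin.sum_univ_two] <;> ring

theorem C_mul_self : CIsom a b * CIsom a b = 1 := by
  apply Subtype.ext
  apply Units.ext
  exact Cmat_mul_self a

theorem C_conj (r : ↥(isometryGroup F ⇑(binForm a b))) (hr : r ∈ rotSub a b) :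
    CIsom a b * r * CIsom a b = r⁻¹ := by
  obtain ⟨u, hu, rfl⟩ := (mem_rotSub_iff a b r).mp hr
  apply eq_inv_of_mul_eq_one_left
  apply Subtype.ext
  apply Units.ext
  show Cmat a * Lmat a b u * Cmat a * Lmat a b u = 1
  rw [Cmat_Lmat_Cmat, Lmat_conj_mul a b u hu]

theorem C_not_mem (han : ∀ v : Fin 2 → F, binForm a b v = 0 → v = 0) :
    CIsom a b ∉ rotSub a b := by
  rintro ⟨u, hu⟩
  have hu' : Lmat a b u = Cmat a := hu
  have h0 : u 0 = 1 := by
    have := congrFun (congrFun hu' 0) 0
    simpa [Lmat, Cmat] using this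
  have h1 : u 1 = 0 := by
    have := congrFun (congrFun hu' 1) 0
    simpa [Lmat, Cmat] using this
  have hu1 : u = ![1, 0] := by
    ext i
    fin_cases i
    · simpa using h0
    · simpa using h1
  apply CIsom_ne_one a b han
  apply Subtype.ext
  apply Units.ext
  show Cmat a = 1
  rw [← hu', hu1, Lmat_one]

theorem binForm_dihedral (han : ∀ v : Fin 2 → F, binForm a b v = 0 → v = 0) :
    Nonempty (↥(isometryGroup F ⇑(binForm a b)) ≃* DihedralGroup (Fintype.card F + 1)) := by
  have := isCyclic_rotSub a b han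
  obtain ⟨ρ, hρ⟩ := IsCyclic.exists_generator (α := ↥(rotSub a b))
  have hρord : orderOf ρ = Fintype.card F + 1 := by
    rw [orderOf_eq_card_of_forall_mem_zpowers hρ, card_rotSub a b han]
  set r : ↥(isometryGroup F ⇑(binForm a b)) := ρ.1 with hr
  have hrord : orderOf r = Fintype.card F + 1 := by
    rw [hr, Subgroup.orderOf_coe, hρord]
  have hq : 2 ≤ Fintype.card F := Fintype.one_lt_card
  have hr1 : r ≠ 1 := by
    intro h
    rw [h, orderOf_one] at hrord
    omega
  have hCC := C_mul_self a b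
  have hxy : CIsom a b ≠ CIsom a b * r := by
    intro h
    apply hr1
    have := mul_left_cancel (h.symm.trans (mul_one _).symm)
    exact this
  have hordx : orderOf (CIsom a b) = 2 :=
    orderOf_eq_prime (by rw [pow_two, hCC]) (CIsom_ne_one a b han)
  have hordy : orderOf (CIsom a b * r) = 2 := by
    apply orderOf_eq_prime
    · rw [pow_two, ← mul_assoc, C_conj a b r ρ.2, inv_mul_cancel]
    · intro h
      apply C_not_mem a b han
      have : CIsom a b = r⁻¹ := eq_inv_of_mul_eq_one_left h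
      rw [this]
      exact (rotSub a b).inv_mem ρ.2
  have hord : orderOf (CIsom a b * (CIsom a b * r)) = Fintype.card F + 1 := by
    rw [← mul_assoc, hCC, one_mul, hrord]
  obtain ⟨e⟩ := Cfsg.Agent.S0206.result (CIsom a b) (CIsom a b * r) hordx hordy hxy
  rw [hord] at e
  have htop : Subgroup.closure ({CIsom a b, CIsom a b * r} : Set _) = ⊤ :=
    Subgroup.eq_top_of_card_eq _ (by
      rw [Nat.card_congr e.toEquiv, DihedralGroup.nat_card, card_binForm_isom a b han])
  exact ⟨(Subgroup.topEquiv.symm.trans (MulEquiv.subgroupCongr htop.symm)).trans e⟩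

end group

/-- GO^-_2(q) is dihedral of order 2(q+1). -/
theorem result {F : Type*} [Field F] [Fintype F] {q : ℕ} (hF : Fintype.card F = q) (a b : F) (hab : ∀ z₁ z₂ : F, z₁ ^ 2 + a * z₁ * z₂ + b * z₂ ^ 2 = 0 → z₁ = 0 ∧ z₂ = 0) : Nonempty (Cfsg.isometryGroup F (Cfsg.quadFormMinus 0 F a b) ≃* DihedralGroup (q + 1)) := by
  classical
  subst hF
  have han := anisotropic_of a b hab
  obtain ⟨e⟩ := binForm_dihedral a b han
  have e1 := IsomReindex.isometryGroupCongr (F := F) _ _ (Cfsg.Agent.S0288.minus_eq 0 a b)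
  have e2 := IsomReindex.isometryGroupReindexMul (baseEquiv (Fin 2)) ⇑(binForm a b)
    ⇑(genForm (binForm a b) 0) (genForm_zero (binForm a b))
  exact ⟨(e1.trans e2.symm).trans e⟩

end Cfsg.Agent.S0306
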