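import Cfsg.Statements.S0307
import Mathlib
import Cfsg.Agent.Lib.Helper4.SLCard

set_option autoImplicit false
open Cfsg

namespace Cfsg.Agent.S0307

open Cfsg.Agent.Lib.Helper4 Matrix
open scoped MatrixGroups

/-- PSL_n(q) is normal in PGL_n(q) with cyclic quotient of order gcd(n, q-1): the image of the natural map PSL_n → PGL_n is the kernel of a surjective homomorphism onto the cyclic group of that order. -/
theorem result {F : Type*} [Field F] [Fintype F] {q : ℕ} (hF : Fintype.card F = q) (n : ℕ) (hn : 1 ≤ n) : ∃ g : Matrix.ProjGenLinGroup (Fin n) F →* Multiplicative (ZMod (Nat.gcd n (q - 1))), Function.Surjective g ∧ g.ker = (Matrix.ProjectiveSpecialLinearGroup.toPGL : Matrix.ProjectiveSpecialLinearGroup (Fin n) F →* Matrix.ProjGenLinGroup (Fin n) F).range := by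
  classical
  subst hF
  -- the subgroup of `n`-th powers
  let N : Subgroup Fˣ := (powMonoidHom n : Fˣ →* Fˣ).range
  let π : Fˣ →* Fˣ ⧸ N := QuotientGroup.mk' N
  let f : GL (Fin n) F →* Fˣ ⧸ N := π.comp Matrix.GeneralLinearGroup.det
  have hf : f.comp (Matrix.GeneralLinearGroup.scalar (Fin n)) = 1 := by
    ext u
    change π (Matrix.GeneralLinearGroup.det (Matrix.GeneralLinearGroup.scalar (Fin n) u)) = 1
    rw [QuotientGroup.mk'_apply, QuotientGroup.eq_one_iff]
    refine ⟨u, ?_⟩
    apply Units.ext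
    simp [Matrix.GeneralLinearGroup.val_det_apply]
  let g₀ : Matrix.ProjGenLinGroup (Fin n) F →* Fˣ ⧸ N := Matrix.ProjGenLinGroup.lift f hf
  have hcard : Nat.card (Fˣ ⧸ N) = Nat.gcd n (Fintype.card F - 1) := by
    change N.index = _
    rw [IsCyclic.index_powMonoidHom_range, Nat.card_units, Nat.card_eq_fintype_card, Nat.gcd_comm]
  have hcyc : IsCyclic (Fˣ ⧸ N) := inferInstance
  let e : Multiplicative (ZMod (Nat.gcd n (Fintype.card F - 1))) ≃* Fˣ ⧸ N :=
    hcard ▸ zmodCyclicMulEquiv hcyc
  refine ⟨e.symm.toMonoidHom.comp g₀, ?_, ?_⟩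
  · -- surjective
    apply e.symm.surjective.comp
    intro x
    obtain ⟨u, rfl⟩ := QuotientGroup.mk'_surjective N x
    obtain ⟨A, hA⟩ := det_surjective_GL (F := F) n hn u
    exact ⟨Matrix.ProjGenLinGroup.mk A, by
      change π (Matrix.GeneralLinearGroup.det A) = _
      rw [hA]⟩
  · ext x
    rw [MonoidHom.mem_ker, MonoidHom.mem_range]
    change e.symm (g₀ x) = 1 ↔ _
    rw [map_eq_one_iff e.symm e.symm.injective]
    induction x using Matrix.ProjGenLinGroup.induction_on with | mk A =>
    change π (Matrix.GeneralLinearGroup.det A) = 1 ↔ _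
    rw [QuotientGroup.mk'_apply, QuotientGroup.eq_one_iff]
    constructor
    · rintro ⟨u, hu⟩
      rw [powMonoidHom_apply] at hu
      -- `A = scalar u * A'` with `det A' = 1`
      have hdet : ((u⁻¹ : Fˣ) : F) ^ n * (A : Matrix (Fin n) (Fin n) F).det = 1 := by
        have := congrArg Units.val hu
        rw [Matrix.GeneralLinearGroup.val_det_apply] at this
        rw [← this]
        simp only [Units.val_pow_eq_pow_val, Units.val_inv_eq_inv_val, inv_pow]
        exact inv_mul_cancel₀ (pow_ne_zero _ u.ne_zero)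
      have hdet' : (((u⁻¹ : Fˣ) : F) • (A : Matrix (Fin n) (Fin n) F)).det = 1 := by
        rw [Matrix.det_smul, Fintype.card_fin]; exact hdet
      let s : Matrix.SpecialLinearGroup (Fin n) F :=
        ⟨((u⁻¹ : Fˣ) : F) • (A : Matrix (Fin n) (Fin n) F), hdet'⟩
      refine ⟨QuotientGroup.mk s, ?_⟩
      rw [Matrix.ProjectiveSpecialLinearGroup.toPGL_mk, Matrix.ProjGenLinGroup.mk_eq_mk_iff]
      refine ⟨u, Units.ext ?_⟩
      simp only [Units.val_mul, Matrix.SpecialLinearGroup.coe_GL_coe_matrix,
        Matrix.GeneralLinearGroup.coe_scalar]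
      ext i j
      simp [s, Matrix.mul_apply, Matrix.scalar_apply, Matrix.diagonal_apply, mul_comm, mul_assoc]
    · rintro ⟨y, hy⟩
      induction y using QuotientGroup.induction_on with | H s =>
      rw [Matrix.ProjectiveSpecialLinearGroup.toPGL_mk, Matrix.ProjGenLinGroup.mk_eq_mk_iff] at hy
      obtain ⟨u, hu⟩ := hy
      refine ⟨u, ?_⟩
      rw [powMonoidHom_apply, ← hu, map_mul]
      apply Units.ext
      simp [Matrix.GeneralLinearGroup.val_det_apply]

end Cfsg.Agent.S0307
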