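import Cfsg.Statements.S0313
import Cfsg.Agent.Lib.Helper4.BNPair2

set_option autoImplicit false
open Cfsg

namespace Cfsg.Agent.S0313

open Cfsg.Agent.Lib.Helper4.BNPair Cfsg.Agent.Lib.Helper4.BNAbstract

theorem result {G : Type*} [Group G] (P : Cfsg.BNPair G) {J K : Set G}
    (hJ : J ⊆ P.S) (hK : K ⊆ P.S) (g : G)
    (h : (P.parabolic J).map (MulAut.conj g).toMonoidHom = P.parabolic K) :
    P.parabolic J = P.parabolic K := by
  have key : ∀ x, x ∈ P.parabolic K ↔ g⁻¹ * x * g ∈ P.parabolic J := by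
    intro x
    rw [← h, mem_map_conj]
  have hg : g ∈ P.parabolic J := by
    apply mem_parabolic_of_conj g
    intro c hc
    exact (key c).1 (B_le_parabolic K hc)
  ext x
  rw [key x]
  constructor
  · intro hx
    exact mul_mem (mul_mem (inv_mem hg) hx) hg
  · intro hx
    have e : x = g * (g⁻¹ * x * g) * g⁻¹ := by group
    rw [e]
    exact mul_mem (mul_mem hg hx) (inv_mem hg)

end Cfsg.Agent.S0313
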