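import Cfsg.Statements.S0316
import Cfsg.Agent.Lib.Helper4.BNPair2

set_option autoImplicit false
open Cfsg

namespace Cfsg.Agent.S0316

open Cfsg.Agent.Lib.Helper4.BNPair Cfsg.Agent.Lib.Helper4.BNAbstract

theorem result {G : Type*} [Group G] (P : Cfsg.BNPair G) :
    ∃ e : Set P.S ≃o {M : Subgroup G // P.B ≤ M},
      ∀ J : Set P.S, ((e J : {M : Subgroup G // P.B ≤ M}) : Subgroup G) = P.parabolic (Subtype.val '' J) := by
  let f : Set P.S → {M : Subgroup G // P.B ≤ M} :=
    fun J => ⟨P.parabolic (Subtype.val '' J), B_le_parabolic _⟩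
  have hsub : ∀ J : Set P.S, Subtype.val '' J ⊆ P.S := by
    rintro J _ ⟨x, _, rfl⟩
    exact x.2
  have hle : ∀ J K : Set P.S, f J ≤ f K ↔ J ≤ K := by
    intro J K
    constructor
    · intro h
      have h1 : P.parabolic (Subtype.val '' J) ≤ P.parabolic (Subtype.val '' K) := h
      have h2 := subset_of_parabolic_le (hsub J) (hsub K) h1
      exact (Set.image_subset_image_iff Subtype.val_injective).1 h2
    · intro h
      show P.parabolic (Subtype.val '' J) ≤ P.parabolic (Subtype.val '' K)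
      exact parabolic_mono (Set.image_mono h)
  have hinj : Function.Injective f := by
    intro J K h
    exact le_antisymm ((hle J K).1 h.le) ((hle K J).1 h.ge)
  have hsurj : Function.Surjective f := by
    rintro ⟨M, hM⟩
    refine ⟨{x : P.S | x.1 ∈ M}, ?_⟩
    apply Subtype.ext
    show P.parabolic (Subtype.val '' {x : P.S | x.1 ∈ M}) = M
    have hset : Subtype.val '' {x : P.S | x.1 ∈ M} = {s | s ∈ P.S ∧ s ∈ M} := by
      ext s
      constructor
      · rintro ⟨x, hx, rfl⟩
        exact ⟨x.2, hx⟩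
      · rintro ⟨hs, hsM⟩
        exact ⟨⟨s, hs⟩, hsM, rfl⟩
    rw [hset]
    exact (eq_parabolic_of_le hM).symm
  refine ⟨{ toEquiv := Equiv.ofBijective f ⟨hinj, hsurj⟩, map_rel_iff' := ?_ }, ?_⟩
  · intro J K
    exact hle J K
  · intro J
    rfl

end Cfsg.Agent.S0316
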