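import Cfsg.Statements.S0317
import Cfsg.Agent.Lib.Helper4.BNPair2

set_option autoImplicit false
open Cfsg

namespace Cfsg.Agent.S0317

open Cfsg.Agent.Lib.Helper4.BNPair Cfsg.Agent.Lib.Helper4.BNAbstract

theorem result {G : Type*} [Group G] (P : Cfsg.BNPair G) {s : G}
    (hs : s ∈ P.S) : s ∉ Subgroup.closure (P.S \ {s}) ⊔ (P.B ⊓ P.N) := by
  intro h
  have hK : P.S \ {s} ⊆ P.S := Set.sdiff_subset
  have h1 : Subgroup.closure (P.S \ {s}) ⊔ (P.B ⊓ P.N) ≤ P.parabolic (P.S \ {s}) :=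
    sup_le (closure_le_parabolic _) (inf_le_left.trans (B_le_parabolic _))
  have := mem_of_mem_parabolic hK hs (h1 h)
  exact this.2 rfl

end Cfsg.Agent.S0317
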