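import Cfsg.Statements.S0320
import Cfsg.Agent.Lib.Helper4.BNPair2
import Cfsg.Agent.Lib.Helper4.BNCoxeter

set_option autoImplicit false
open Cfsg

namespace Cfsg.Agent.S0320

open Cfsg.Agent.Lib.Helper4.BNPair Cfsg.Agent.Lib.Helper4.BNAbstract Cfsg.Agent.Lib.Helper4.BNCoxeter

/-- the simple reflections -/
noncomputable def fS {G : Type*} [Group G] (P : Cfsg.BNPair G) (s : P.S) : W P := π P (s : G)

lemma range_fS {G : Type*} [Group G] (P : Cfsg.BNPair G) : Set.range (fS P) = SW P := by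
  ext w
  constructor
  · rintro ⟨s, rfl⟩
    exact ⟨s.1, s.2, rfl⟩
  · rintro ⟨s, hs, rfl⟩
    exact ⟨⟨s, hs⟩, rfl⟩

lemma hyp {G : Type*} [Group G] (P : Cfsg.BNPair G) : Hyp (fS P) where
  inj := by
    intro s s' h
    exact Subtype.ext (π_S_inj s.2 s'.2 h)
  gen := by rw [range_fS]; exact genInv
  exch := by rw [range_fS]; exact exchange
  ne_one := fun s => π_S_ne_one s.2

theorem result {G : Type*} [Group G] (P : Cfsg.BNPair G)
    [hN : ((P.B ⊓ P.N).subgroupOf P.N).Normal] :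
    ∃ (M : CoxeterMatrix P.S) (cs : CoxeterSystem M (P.N ⧸ (P.B ⊓ P.N).subgroupOf P.N)),
      ∀ s : P.S, cs.simple s = QuotientGroup.mk (⟨(s : G), P.subset s.2⟩ : P.N) := by
  obtain ⟨M, cs, hcs⟩ := coxeter_of_exchange (hyp P)
  refine ⟨M, cs, ?_⟩
  intro s
  rw [hcs s]
  exact π_of_mem (P.subset s.2)

end Cfsg.Agent.S0320
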