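import Cfsg.Statements.S0321
import Cfsg.Agent.Lib.Helper4.BNPair2

set_option autoImplicit false
open Cfsg

namespace Cfsg.Agent.S0321

open Cfsg.Agent.Lib.Helper4.BNPair Cfsg.Agent.Lib.Helper4.BNAbstract

lemma π_closure_singleton {G : Type*} [Group G] {P : Cfsg.BNPair G} {s : G} (hs : s ∈ P.S) {m : G}
    (hm : m ∈ Subgroup.closure {s}) : π P m = 1 ∨ π P m = π P s := by
  have hJ : ({s} : Set G) ⊆ P.S := by
    intro x hx; rw [Set.mem_singleton_iff] at hx; rw [hx]; exact hs
  induction hm using Subgroup.closure_induction with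
  | mem x hx =>
    rw [Set.mem_singleton_iff] at hx
    right; rw [hx]
  | one => left; exact π_one
  | mul x y hx hy ihx ihy =>
    rw [π_mul (closure_le_N hJ hx) (closure_le_N hJ hy)]
    rcases ihx with h | h <;> rcases ihy with h' | h' <;> rw [h, h']
    · left; rw [mul_one]
    · right; rw [one_mul]
    · right; rw [mul_one]
    · left; exact π_S_sq hs
  | inv x hx ih =>
    rw [π_inv (closure_le_N hJ hx)]
    rcases ih with h | h <;> rw [h]
    · left; rw [inv_one]
    · right
      exact inv_eq_of_mul_eq_one_right (π_S_sq hs)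

theorem result {G : Type*} [Group G] (P : Cfsg.BNPair G) {n : G}
    (hn : n ∈ P.N) (hnB : n ∉ P.B) :
    (∃ H : Subgroup G, (H : Set G) = (P.B : Set G) ∪ DoubleCoset.doubleCoset n (P.B : Set G) P.B) ↔ ∃ s ∈ P.S, s⁻¹ * n ∈ P.B := by
  constructor
  · rintro ⟨H, hH⟩
    have hBH : P.B ≤ H := by
      intro b hb
      show b ∈ (H : Set G)
      rw [hH]; exact Or.inl hb
    have hnH : n ∈ H := by
      show n ∈ (H : Set G)
      rw [hH]; exact Or.inr (DoubleCoset.mem_doubleCoset_self _ _ _)
    obtain ⟨l, hl, hp⟩ := exists_red genInv (π P n)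
    have hπn : π P n ≠ 1 := by
      rw [Ne, π_eq_one_iff hn]; exact hnB
    match l, hl, hp with
    | [], _, hp =>
      exact absurd hp.symm hπn
    | x :: l', hl, hp =>
      obtain ⟨s1, hs1, hs1x⟩ := hl.1 x (by simp)
      have h1 : s1 ∈ HB P n := letters_mem _ hl n hn hp.symm s1 hs1 (by rw [hs1x]; simp)
      have h2 : HB P n ≤ H := by
        rw [← sup_closure_eq_HB hn]
        apply sup_le hBH
        rw [Subgroup.closure_le]
        intro y hy
        rw [Set.mem_singleton_iff] at hy
        rw [hy]; exact hnH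
      have h3 : s1 ∈ (H : Set G) := h2 h1
      rw [hH] at h3
      rcases h3 with h3 | h3
      · exact absurd h3 (S_not_mem_B hs1)
      · refine ⟨s1, hs1, ?_⟩
        have h4 : π P s1 = π P n :=
          Cw_inj (mem_Cw_π (S_mem_N hs1)) (by rw [Cw_π hn]; exact h3)
        exact (π_eq_iff (S_mem_N hs1) hn).1 h4
  · rintro ⟨s, hs, hsn⟩
    have hJ : ({s} : Set G) ⊆ P.S := by
      intro x hx; rw [Set.mem_singleton_iff] at hx; rw [hx]; exact hs
    have hCn : C P n = C P s :=
      (C_eq_of_π_eq (S_mem_N hs) hn ((π_eq_iff (S_mem_N hs) hn).2 hsn)).symm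
    refine ⟨P.parabolic {s}, ?_⟩
    ext g
    rw [SetLike.mem_coe, mem_parabolic_iff hJ]
    show _ ↔ g ∈ (P.B : Set G) ∨ g ∈ C P n
    rw [hCn]
    constructor
    · rintro ⟨m, hm, hgm⟩
      have hmN := closure_le_N hJ hm
      rcases π_closure_singleton hs hm with h | h
      · left
        rw [π_eq_one_iff hmN] at h
        rw [C_of_mem_B h] at hgm
        exact hgm
      · right
        rw [← C_eq_of_π_eq hmN (S_mem_N hs) h]
        exact hgm
    · rintro (h | h)
      · exact ⟨1, one_mem _, by rw [C_one]; exact h⟩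
      · exact ⟨s, Subgroup.subset_closure rfl, h⟩

end Cfsg.Agent.S0321
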