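import Mathlib
import Cfsg.Statements.S0322

set_option autoImplicit false
open Cfsg

namespace Cfsg.Agent.S0322

/-- The stabiliser of a set under left multiplication (both directions). -/
def stab {G : Type*} [Group G] (X : Set G) : Subgroup G where
  carrier := {g | (∀ x ∈ X, g * x ∈ X) ∧ (∀ x ∈ X, g⁻¹ * x ∈ X)}
  one_mem' := by
    constructor <;> intro x hx <;> simpa using hx
  mul_mem' := by
    rintro a b ⟨ha1, ha2⟩ ⟨hb1, hb2⟩
    constructor
    · intro x hx
      rw [mul_assoc]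
      exact ha1 _ (hb1 _ hx)
    · intro x hx
      rw [mul_inv_rev, mul_assoc]
      exact hb2 _ (ha2 _ hx)
  inv_mem' := by
    rintro a ⟨ha1, ha2⟩
    refine ⟨ha2, ?_⟩
    intro x hx
    rw [inv_inv]
    exact ha1 x hx

/-- A set containing `1` and stable under left multiplication by `B` and `S` is everything. -/
theorem univ_of_stable {G : Type*} [Group G] (P : Cfsg.BNPair G) (X : Set G) (h1 : (1 : G) ∈ X)
    (hB : ∀ b ∈ P.B, ∀ x ∈ X, b * x ∈ X) (hS : ∀ s ∈ P.S, ∀ x ∈ X, s * x ∈ X) (g : G) : g ∈ X := by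
  have hBs : P.B ≤ stab X := fun b hb => ⟨hB b hb, hB b⁻¹ (P.B.inv_mem hb)⟩
  have hSs : P.S ⊆ (stab X : Set G) := by
    intro s hs
    refine ⟨hS s hs, ?_⟩
    intro x hx
    have h1 : s⁻¹ = (s * s)⁻¹ * s := by group
    rw [h1, mul_assoc]
    exact hB _ (P.B.inv_mem (P.sq_mem s hs)) _ (hS s hs x hx)
  have htop : stab X = ⊤ := by
    rw [eq_top_iff, ← P.sup_eq_top, sup_le_iff]
    refine ⟨hBs, ?_⟩
    rw [← P.closure_sup, sup_le_iff]
    refine ⟨(Subgroup.closure_le _).mpr hSs, ?_⟩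
    exact inf_le_left.trans hBs
  have hg : g ∈ stab X := by rw [htop]; trivial
  have := hg.1 1 h1
  rw [mul_one] at this
  exact this

/-- In rank one, `G = B ∪ B s B`. -/
theorem rank_one_cover {G : Type*} [Group G] (P : Cfsg.BNPair G) {s : G} (hs : P.S = {s}) (g : G) :
    g ∈ P.B ∨ ∃ b ∈ P.B, ∃ b' ∈ P.B, g = b * s * b' := by
  have hsS : s ∈ P.S := by rw [hs]; rfl
  apply univ_of_stable P {g | g ∈ P.B ∨ ∃ b ∈ P.B, ∃ b' ∈ P.B, g = b * s * b'}
  · left; exact P.B.one_mem
  · rintro b hb x (hx | ⟨b1, hb1, b2, hb2, rfl⟩)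
    · left; exact P.B.mul_mem hb hx
    · right; exact ⟨b * b1, P.B.mul_mem hb hb1, b2, hb2, by group⟩
  · intro s' hs' x hx
    rw [hs] at hs'
    have hs'' : s' = s := hs'
    subst hs''
    rcases hx with hx | ⟨b1, hb1, b2, hb2, rfl⟩
    · right; exact ⟨1, P.B.one_mem, x, hx, by group⟩
    · have h := P.mul_mem_union s' hsS s' (P.subset hsS) b1 hb1
      rcases h with h | h
      · rw [DoubleCoset.mem_doubleCoset] at h
        obtain ⟨c1, hc1, c2, hc2, h⟩ := h
        left
        have : s' * (b1 * s' * b2) = (s' * b1 * s') * b2 := by group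
        rw [this, h]
        exact P.B.mul_mem (P.B.mul_mem (P.B.mul_mem hc1 (P.sq_mem s' hsS)) hc2) hb2
      · rw [DoubleCoset.mem_doubleCoset] at h
        obtain ⟨c1, hc1, c2, hc2, h⟩ := h
        right
        refine ⟨c1, hc1, c2 * b2, P.B.mul_mem hc2 hb2, ?_⟩
        calc s' * (b1 * s' * b2) = (s' * b1 * s') * b2 := by group
          _ = (c1 * s' * c2) * b2 := by rw [h]
          _ = _ := by group

/-- A group with a (B,N)-pair of rank one acts doubly transitively on the left cosets of `B`. -/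
theorem result {G : Type*} [Group G] (P : Cfsg.BNPair G) (h : P.rank = 1) : MulAction.IsMultiplyPretransitive G (G ⧸ P.B) 2 := by
  unfold Cfsg.BNPair.rank at h
  rw [Nat.card_eq_one_iff_exists] at h
  obtain ⟨⟨s, hsS⟩, hs⟩ := h
  have hS : P.S = {s} := by
    ext t
    constructor
    · intro ht
      have := hs ⟨t, ht⟩
      exact congrArg Subtype.val this
    · rintro rfl
      exact hsS
  rw [MulAction.is_two_pretransitive_iff]
  intro a b c d hab hcd
  induction a using QuotientGroup.induction_on with | H u => ?_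
  induction b using QuotientGroup.induction_on with | H v => ?_
  induction c using QuotientGroup.induction_on with | H w => ?_
  induction d using QuotientGroup.induction_on with | H z => ?_
  have huv : u⁻¹ * v ∉ P.B := fun hmem => hab (QuotientGroup.eq.mpr hmem)
  have hwz : w⁻¹ * z ∉ P.B := fun hmem => hcd (QuotientGroup.eq.mpr hmem)
  rcases rank_one_cover P hS (u⁻¹ * v) with h1 | ⟨b1, hb1, b2, hb2, h1⟩
  · exact absurd h1 huv
  rcases rank_one_cover P hS (w⁻¹ * z) with h2 | ⟨c1, hc1, c2, hc2, h2⟩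
  · exact absurd h2 hwz
  refine ⟨w * c1 * b1⁻¹ * u⁻¹, ?_, ?_⟩
  · rw [MulAction.Quotient.smul_mk, QuotientGroup.eq]
    have : (w * c1 * b1⁻¹ * u⁻¹ * u)⁻¹ * w = b1 * c1⁻¹ := by group
    rw [smul_eq_mul, this]
    exact P.B.mul_mem hb1 (P.B.inv_mem hc1)
  · rw [MulAction.Quotient.smul_mk, QuotientGroup.eq]
    have hv : v = u * (b1 * s * b2) := by rw [← h1]; group
    have hz : z = w * (c1 * s * c2) := by rw [← h2]; group
    have : (w * c1 * b1⁻¹ * u⁻¹ * v)⁻¹ * z = b2⁻¹ * c2 := by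
      rw [hv, hz]; group
    rw [smul_eq_mul, this]
    exact P.B.mul_mem (P.B.inv_mem hb2) hc2

end Cfsg.Agent.S0322
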