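import Mathlib
import Cfsg.Statements.S0323

set_option autoImplicit false
open scoped Pointwise
open Cfsg

namespace Cfsg.Agent.S0323

open MulAction

/-- A doubly transitive action on a set with at least three points yields a (B,N)-pair of rank one:
`B` is the stabiliser of a point `x`, `N` the setwise stabiliser of a pair `{x, y}`. -/
theorem result {G Ω : Type*} [Group G] [MulAction G Ω]
    (h2 : MulAction.IsMultiplyPretransitive G Ω 2) {x y z : Ω} (hxy : x ≠ y) (hyz : y ≠ z) (hxz : x ≠ z) :
    ∃ P : Cfsg.BNPair G, P.B = MulAction.stabilizer G x ∧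
      P.N = MulAction.stabilizer G ({x, y} : Set Ω) ∧ P.rank = 1 := by
  classical
  rw [MulAction.is_two_pretransitive_iff] at h2
  -- the swapping element
  obtain ⟨s, hsx, hsy⟩ := h2 hxy hxy.symm
  have hsN : s ∈ stabilizer G ({x, y} : Set Ω) := by
    rw [mem_stabilizer_iff, Set.smul_set_insert, Set.smul_set_singleton, hsx, hsy]
    exact Set.pair_comm _ _
  have memB : ∀ g : G, g ∈ stabilizer G x ↔ g • x = x := fun g => mem_stabilizer_iff
  -- elements of N either fix both or swap
  have hN : ∀ n ∈ stabilizer G ({x, y} : Set Ω), (n • x = x ∧ n • y = y) ∨ (n • x = y ∧ n • y = x) := by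
    intro n hn
    rw [mem_stabilizer_iff] at hn
    have hx : n • x ∈ ({x, y} : Set Ω) := by
      rw [← hn]; exact Set.smul_mem_smul_set (Set.mem_insert _ _)
    have hy : n • y ∈ ({x, y} : Set Ω) := by
      rw [← hn]; exact Set.smul_mem_smul_set (Set.mem_insert_of_mem _ rfl)
    have hne : n • x ≠ n • y := fun h => hxy (MulAction.injective n h)
    rcases hx with hx | hx <;> rcases hy with hy | hy
    · exact absurd (hx.trans hy.symm) hne
    · left; exact ⟨hx, hy⟩
    · right; exact ⟨hx, hy⟩
    · exact absurd (hx.trans hy.symm) hne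
  -- the key double coset lemma
  have key : ∀ g h : G, g • x ≠ x → h • x ≠ x →
      h ∈ DoubleCoset.doubleCoset g (stabilizer G x : Set G) (stabilizer G x) := by
    intro g h hg hh
    obtain ⟨b, hbx, hbg⟩ := h2 hg.symm hh.symm
    rw [DoubleCoset.mem_doubleCoset]
    refine ⟨b, hbx, (h⁻¹ * b * g)⁻¹, ?_, by group⟩
    apply Subgroup.inv_mem
    rw [memB, mul_smul, mul_smul, hbg, inv_smul_smul]
  have keyB : ∀ g h : G, g • x = x → h • x = x →
      h ∈ DoubleCoset.doubleCoset g (stabilizer G x : Set G) (stabilizer G x) := by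
    intro g h hg hh
    rw [DoubleCoset.mem_doubleCoset]
    refine ⟨h * g⁻¹, ?_, 1, Subgroup.one_mem _, by group⟩
    have hg' : g⁻¹ • x = x := by rw [inv_smul_eq_iff, hg]
    rw [SetLike.mem_coe, memB, mul_smul, hg', hh]
  refine ⟨{ B := stabilizer G x
            N := stabilizer G ({x, y} : Set Ω)
            S := {s}
            sup_eq_top := ?_
            conj_mem := ?_
            subset := ?_
            sq_mem := ?_
            inj := ?_
            closure_sup := ?_
            mul_mem_union := ?_
            conj_ne := ?_ }, rfl, rfl, ?_⟩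
  · -- sup_eq_top
    rw [eq_top_iff]
    intro g _
    by_cases hg : g • x = x
    · exact Subgroup.mem_sup_left ((memB g).mpr hg)
    · have := key s g (by rw [hsx]; exact hxy.symm) hg
      rw [DoubleCoset.mem_doubleCoset] at this
      obtain ⟨b1, hb1, b2, hb2, rfl⟩ := this
      exact Subgroup.mul_mem _ (Subgroup.mul_mem _ (Subgroup.mem_sup_left hb1)
        (Subgroup.mem_sup_right hsN)) (Subgroup.mem_sup_left hb2)
  · -- conj_mem
    rintro n hn t ⟨htB, htN⟩
    replace htB : t ∈ stabilizer G x := htB
    replace htN : t ∈ stabilizer G ({x, y} : Set Ω) := htN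
    rw [memB] at htB
    have hty : t • y = y := by
      rcases hN t htN with h | h
      · exact h.2
      · exact absurd (htB.symm.trans h.1) hxy
    rw [memB, mul_smul, mul_smul]
    have hn' := hN n⁻¹ (Subgroup.inv_mem _ hn)
    rcases hn' with h | h
    · have h1 := h.1
      rw [inv_smul_eq_iff] at h1
      rw [h.1, htB, ← h1]
    · have h1 := h.1
      rw [inv_smul_eq_iff] at h1
      rw [h.1, hty, ← h1]
  · -- subset
    rintro t rfl
    exact hsN
  · -- sq_mem
    rintro t rfl
    rw [memB, mul_smul, hsx, hsy]
  · -- inj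
    rintro t rfl t' rfl _
    rfl
  · -- closure_sup
    apply le_antisymm
    · rw [sup_le_iff]
      refine ⟨(Subgroup.closure_le _).mpr ?_, inf_le_right⟩
      rintro t rfl
      exact hsN
    · intro n hn
      rcases hN n hn with h | h
      · exact Subgroup.mem_sup_right ⟨(memB n).mpr h.1, hn⟩
      · have : n = s * (s⁻¹ * n) := by group
        rw [this]
        refine Subgroup.mul_mem _ (Subgroup.mem_sup_left (Subgroup.subset_closure rfl))
          (Subgroup.mem_sup_right ⟨?_, Subgroup.mul_mem _ (Subgroup.inv_mem _ hsN) hn⟩)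
        change s⁻¹ * n ∈ stabilizer G x
        rw [memB, mul_smul, h.1, inv_smul_eq_iff, hsx]
  · -- mul_mem_union
    rintro t rfl n hn b hb
    rw [memB] at hb
    rcases hN n hn with h | h
    · -- n fixes x: t*b*n moves x, so does t*n
      left
      apply key
      · rw [mul_smul, h.1, hsx]; exact hxy.symm
      · rw [mul_smul, mul_smul, h.1, hb, hsx]; exact hxy.symm
    · -- n swaps
      by_cases hc : (t * b * n) • x = x
      · left
        apply keyB _ _ _ hc
        rw [mul_smul, h.1, hsy]
      · right
        apply key _ _ _ hc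
        rw [h.1]; exact hxy.symm
  · -- conj_ne
    rintro t rfl hEq
    obtain ⟨b, hbx, hby⟩ := h2 hxy hxz
    have hmem : t * b * t ∈ (fun b : G => t * b * t) '' (stabilizer G x : Set G) :=
      ⟨b, (memB b).mpr hbx, rfl⟩
    rw [hEq, SetLike.mem_coe, memB, mul_smul, mul_smul, hsx, hby] at hmem
    have : t • z = t • y := by rw [hmem, hsy]
    exact hyz (MulAction.injective t this).symm
  · -- rank
    unfold Cfsg.BNPair.rank
    simp

end Cfsg.Agent.S0323
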