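import Mathlib
import Cfsg.Statements.S0328
import Cfsg.Agent.Lib.Helper4.Suz5
import Cfsg.Agent.S0329

set_option autoImplicit false

open Cfsg

namespace Cfsg.Agent.S0328

open Cfsg.Agent.Lib.Helper4.Suz MulAction

theorem stab_zero_eq {F : Type*} [Field F] (m : ℕ) :
    MulAction.stabilizer (Cfsg.Sz F m) (Cfsg.suzukiPointZero F) =
      MulAction.stabilizer (Cfsg.Sz F m) (oPt m (0 : F) 0) := by
  ext g
  rw [mem_stabilizer_iff, mem_stabilizer_iff, Subtype.ext_iff, ← pt_zero_eq m]
  rfl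

/-- The torus as a homomorphism. -/
def torusHom {F : Type*} [Field F] [Fintype F] {m : ℕ} (hF : Fintype.card F = 2 ^ (2 * m + 1)) :
    Fˣ →* Cfsg.Sz F m where
  toFun := hZ hF
  map_one' := hZ_one hF
  map_mul' := hZ_mul hF

/-- The stabiliser in the Suzuki group of the two ovoid points spanned by `(1,0,0,0)` and `(0,0,0,1)` is
isomorphic to the multiplicative group of the field (cyclic of order `q - 1`). -/
theorem result {F : Type*} [Field F] [Fintype F] {m : ℕ} (hm : 1 ≤ m)
    (hF : Fintype.card F = 2 ^ (2 * m + 1)) :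
    Nonempty (↥(MulAction.stabilizer (Cfsg.Sz F m) (Cfsg.suzukiPointInfinity F) ⊓
        MulAction.stabilizer (Cfsg.Sz F m) (Cfsg.suzukiPointZero F)) ≃* Fˣ) := by
  rw [Cfsg.Agent.S0329.stab_eq m, stab_zero_eq m]
  set H := MulAction.stabilizer (Cfsg.Sz F m) (oInf F m) ⊓
    MulAction.stabilizer (Cfsg.Sz F m) (oPt m (0 : F) 0) with hH
  have hmem : ∀ z : Fˣ, torusHom hF z ∈ H := by
    intro z
    rw [hH, Subgroup.mem_inf, mem_stabilizer_iff, mem_stabilizer_iff]
    exact ⟨hZ_smul_oInf hF z, hZ_smul_zero hF z⟩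
  let φ : Fˣ →* H := (torusHom hF).codRestrict H hmem
  have hbij : Function.Bijective φ := by
    constructor
    · intro z z' h
      have := congrArg Subtype.val h
      exact hZ_injective hF this
    · rintro ⟨g, hg⟩
      rw [hH, Subgroup.mem_inf, mem_stabilizer_iff, mem_stabilizer_iff] at hg
      obtain ⟨z, hz⟩ := fix_oInf_zero hF hm g hg.1 hg.2
      exact ⟨z, Subtype.ext hz.symm⟩
  exact ⟨(MulEquiv.ofBijective φ hbij).symm⟩

end Cfsg.Agent.S0328
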