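import Cfsg.Statements.S0333
import Cfsg.Agent.Lib.Helper4.Suz20

set_option autoImplicit false
open Cfsg

namespace Cfsg.Agent.S0333

open Cfsg.Agent.Lib.Helper4.Suz in
theorem result {F : Type*} [Field F] [Fintype F] {m : ℕ} (hm : 1 ≤ m)
    (hF : Fintype.card F = 2 ^ (2 * m + 1)) :
    ∀ k ∈ ({2 ^ (2 * m + 1) + 2 ^ (m + 1) + 1, 2 ^ (2 * m + 1) - 2 ^ (m + 1) + 1} : Set ℕ),
      ∃ U : Subgroup (Cfsg.Sz F m), IsCyclic U ∧ Nat.card U = k ∧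
        (∀ u ∈ U, u ≠ 1 → Subgroup.centralizer {u} = U) ∧ Nat.card (Subgroup.normalizer (U : Set (Cfsg.Sz F m))) = 4 * k := by
  obtain ⟨A₁, A₂, hA₁, hA₂, h1, h2, hN₁, hN₂, -⟩ := exists_two_classes hF hm
  intro k hk
  rcases hk with rfl | hk
  · refine ⟨A₁, hA₁.isCyclic hF, h1, ?_, ?_⟩
    · intro u hu hu1
      exact hA₁.centralizer_eq hF hm hu hu1
    · rw [hN₁, h1]
  · rw [Set.mem_singleton_iff] at hk
    subst hk
    refine ⟨A₂, hA₂.isCyclic hF, h2, ?_, ?_⟩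
    · intro u hu hu1
      exact hA₂.centralizer_eq hF hm hu hu1
    · rw [hN₂, h2]

end Cfsg.Agent.S0333
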