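import Cfsg.Statements.S0338
import Cfsg.Agent.Lib.Helper4.Zass

set_option autoImplicit false
open Cfsg

namespace Cfsg.Agent.S0338

open MulAction Cfsg.Agent.Lib.Helper4.Zass

theorem result {G Ω : Type*} [Group G] [MulAction G Ω] [Fintype Ω]
    (hZ : Cfsg.IsZassenhausGroup G Ω) (hodd : Odd (Fintype.card Ω)) : IsSimpleGroup G := by
  classical
  have h := ZH.of hZ
  haveI : Finite G := h.finite
  haveI : Nontrivial G := by
    obtain ⟨g, hg1, _⟩ := h.fix2
    exact ⟨⟨g, 1, hg1⟩⟩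
  refine ⟨fun N hN => ?_⟩
  by_cases hN1 : N = ⊥
  · exact Or.inl hN1
  right
  obtain ⟨a⟩ : Nonempty Ω := by
    rw [← Fintype.card_pos_iff]; have := h.card_gt; omega
  obtain ⟨K, hK⟩ := h.exists_KData a
  -- an involution in K
  have h2 : 2 ∣ Nat.card K := by
    rw [hK.card]
    obtain ⟨m, hm⟩ := hodd
    have := h.card_gt
    omega
  haveI : Fact (Nat.Prime 2) := ⟨Nat.prime_two⟩
  obtain ⟨⟨t, htK⟩, hto⟩ := exists_prime_orderOf_dvd_card' 2 h2
  have hto' : orderOf t = 2 := by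
    rw [← hto]
    exact (Subgroup.orderOf_mk t htK).symm
  have ht1 : t ≠ 1 := by
    intro hh
    rw [hh, orderOf_one] at hto'
    omega
  have htt : t * t = 1 := by
    have := pow_orderOf_eq_one t
    rw [hto', pow_two] at this
    exact this
  have htinv : t⁻¹ = t := inv_eq_of_mul_eq_one_left htt
  have htN : t ∈ N := h.K_le hK hN hN1 htK
  obtain ⟨hta, htfix⟩ := (hK.mem t).1 htK
  have htfix' : ∀ b, b ≠ a → t • b ≠ b := by
    rcases htfix with hh | hh
    · exact absurd hh ht1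
    · exact hh
  obtain ⟨b, hb⟩ := h.exists_ne a
  have hcb : t • b ≠ b := htfix' b hb
  have hca : t • b ≠ a := by
    intro hh
    apply hb
    have : t • b = t • a := by rw [hh, hta]
    exact smul_left_cancel t this
  have htc : t • (t • b) = b := by rw [← mul_smul, htt, one_smul]
  -- the two point stabiliser
  let H' : Subgroup G := stabilizer G b ⊓ stabilizer G (t • b)
  have hH'mem : ∀ x, x ∈ H' ↔ x • b = b ∧ x • (t • b) = t • b := by
    intro x
    rw [Subgroup.mem_inf, mem_stabilizer_iff, mem_stabilizer_iff]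
  have hφ : ∀ x ∈ H', x⁻¹ * t * x * t⁻¹ ∈ H' := by
    intro x hx
    have hx' := (hH'mem x).1 hx
    rw [hH'mem, htinv]
    have hxi1 : x⁻¹ • b = b := by rw [inv_smul_eq_iff, hx'.1]
    have hxi2 : x⁻¹ • (t • b) = t • b := by rw [inv_smul_eq_iff, hx'.2]
    constructor
    · rw [mul_smul, mul_smul, mul_smul, hx'.2, htc, hxi1]
    · rw [mul_smul, mul_smul, mul_smul, htc, hx'.1, hxi2]
  let φ : H' → H' := fun x => ⟨(x : G)⁻¹ * t * x * t⁻¹, hφ x x.2⟩
  have hφinj : Function.Injective φ := by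
    intro x y hxy
    have hxy' : (x : G)⁻¹ * t * x * t⁻¹ = (y : G)⁻¹ * t * y * t⁻¹ := congrArg Subtype.val hxy
    have hxy2 : (x : G)⁻¹ * t * x = (y : G)⁻¹ * t * y := mul_right_cancel hxy'
    -- z = y x⁻¹ commutes with t
    have hz : (y : G) * (x : G)⁻¹ * t = t * ((y : G) * (x : G)⁻¹) := by
      have : (y : G) * ((x : G)⁻¹ * t * x) * (x : G)⁻¹ = (y : G) * ((y : G)⁻¹ * t * y) * (x : G)⁻¹ := by
        rw [hxy2]
      have e1 : (y : G) * ((x : G)⁻¹ * t * x) * (x : G)⁻¹ = (y : G) * (x : G)⁻¹ * t := by group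
      have e2 : (y : G) * ((y : G)⁻¹ * t * y) * (x : G)⁻¹ = t * ((y : G) * (x : G)⁻¹) := by group
      rw [← e1, ← e2, this]
    have hx' := (hH'mem x).1 x.2
    have hy' := (hH'mem y).1 y.2
    have hxi1 : (x : G)⁻¹ • b = b := by rw [inv_smul_eq_iff, hx'.1]
    have hxi2 : (x : G)⁻¹ • (t • b) = t • b := by rw [inv_smul_eq_iff, hx'.2]
    have hza : ((y : G) * (x : G)⁻¹) • a = a := by
      by_contra hne
      apply htfix' _ hne
      rw [← mul_smul, ← hz, mul_smul, hta]
    have hzb : ((y : G) * (x : G)⁻¹) • b = b := by rw [mul_smul, hxi1, hy'.1]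
    have hzc : ((y : G) * (x : G)⁻¹) • (t • b) = t • b := by rw [mul_smul, hxi2, hy'.2]
    have hz1 := h.three _ a b (t • b) hb.symm hcb.symm hca.symm hza hzb hzc
    apply Subtype.ext
    have : (y : G) = (y : G) * (x : G)⁻¹ * x := by group
    rw [this, hz1, one_mul]
  have hφsurj : Function.Surjective φ := Finite.surjective_of_injective hφinj
  have hH'N : H' ≤ N := by
    intro x hx
    obtain ⟨y, hy⟩ := hφsurj ⟨x, hx⟩
    have hy' : (y : G)⁻¹ * t * y * t⁻¹ = x := congrArg Subtype.val hy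
    rw [← hy']
    have := hN.conj_mem t htN (y : G)⁻¹
    rw [inv_inv] at this
    exact mul_mem this (inv_mem htN)
  rw [eq_top_iff]
  intro g _
  have hne : g • b ≠ g • (t • b) := by
    intro hh
    exact hcb (smul_left_cancel g hh).symm
  obtain ⟨n, hn, hnb, hnc⟩ := h.normal_two hN hN1 b (t • b) (g • b) (g • (t • b)) hcb.symm hne
  have hmem : n⁻¹ * g ∈ H' := by
    rw [hH'mem]
    constructor
    · rw [mul_smul, ← hnb, inv_smul_smul]
    · rw [mul_smul, ← hnc, inv_smul_smul]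
  have : g = n * (n⁻¹ * g) := by group
  rw [this]
  exact mul_mem hn (hH'N hmem)

end Cfsg.Agent.S0338
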