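import Cfsg.Statements.S0339
import Cfsg.Agent.Lib.Helper1.FrobeniusTheorem
import Cfsg.Agent.Lib.Helper1.RegularNormal

set_option autoImplicit false
open Cfsg

open Pointwise
namespace Cfsg.Agent.S0339

open Cfsg.Agent.Lib.Helper1

/-- Frobenius action: a finite group `X` fixing `a`, transitive on the other points, where
nonidentity elements fix at most one further point, some nonidentity element fixing a further
point, and at least two further points: there is a normal subgroup acting regularly on the points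
other than `a`. -/
theorem frobAct {X Ω : Type*} [Group X] [Finite X] [MulAction X Ω] (a b : Ω) (hba : b ≠ a)
    (hfix : ∀ x : X, x • a = a)
    (htr : ∀ c d : Ω, c ≠ a → d ≠ a → ∃ x : X, x • c = d)
    (h2 : ∀ x : X, ∀ c d : Ω, c ≠ a → d ≠ a → c ≠ d → x • c = c → x • d = d → x = 1)
    (hH : ∃ x : X, x ≠ 1 ∧ x • b = b)
    (h3 : ∃ c : Ω, c ≠ a ∧ c ≠ b) :
    ∃ K : Subgroup X, K.Normal ∧ (∀ k ∈ K, k ≠ 1 → ∀ c : Ω, c ≠ a → k • c ≠ c) ∧
      (∀ c d : Ω, c ≠ a → d ≠ a → ∃ k ∈ K, k • c = d) := by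
  set H : Subgroup X := MulAction.stabilizer X b with hHdef
  have hne : ∀ x : X, ∀ c : Ω, c ≠ a → x • c ≠ a := by
    intro x c hc h
    apply hc
    have : x⁻¹ • (x • c) = x⁻¹ • a := by rw [h]
    rw [inv_smul_smul] at this
    rw [this, inv_smul_eq_iff, hfix]
  have hFC : Cfsg.IsFrobeniusComplement H := by
    refine ⟨?_, ?_, ?_⟩
    · obtain ⟨x, hx1, hxb⟩ := hH
      intro h
      have : x ∈ H := MulAction.mem_stabilizer_iff.2 hxb
      rw [h, Subgroup.mem_bot] at this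
      exact hx1 this
    · obtain ⟨c, hca, hcb⟩ := h3
      obtain ⟨x, hx⟩ := htr b c hba hca
      intro h
      have : x ∈ H := by rw [h]; trivial
      rw [hHdef, MulAction.mem_stabilizer_iff] at this
      exact hcb (hx.symm.trans this)
    · intro g hg
      rw [eq_bot_iff]
      intro y hy
      rw [Subgroup.mem_inf] at hy
      obtain ⟨hy1, hy2⟩ := hy
      rw [mem_conj_smul_iff', hHdef, MulAction.mem_stabilizer_iff] at hy2
      rw [hHdef, MulAction.mem_stabilizer_iff] at hy1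
      rw [Subgroup.mem_bot]
      have hgb : g • b ≠ b := fun h => hg (MulAction.mem_stabilizer_iff.2 h)
      have hy3 : y • (g • b) = g • b := by
        have := congrArg (fun t => g • t) hy2
        simp only [mul_smul, smul_inv_smul] at this
        exact this
      exact h2 y b (g • b) hba (hne g b hba) (Ne.symm hgb) hy1 hy3
  obtain ⟨K, hKset, hKn, hKc⟩ := frobenius_theorem H hFC
  refine ⟨K, hKn, ?_, ?_⟩
  · intro k hk hk1 c hca hkc
    have hk' : k ∈ Cfsg.frobeniusKernel H := by rw [← hKset]; exact hk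
    rcases hk' with h | h
    · exact hk1 h
    · obtain ⟨g, hg⟩ := htr b c hba hca
      apply h g
      rw [mem_conj_smul_iff', hHdef, MulAction.mem_stabilizer_iff, mul_smul, mul_smul, hg, hkc,
        ← hg, inv_smul_smul]
  · have key : ∀ d : Ω, d ≠ a → ∃ k ∈ K, k • b = d := by
      intro d hda
      obtain ⟨x, hx⟩ := htr b d hba hda
      obtain ⟨⟨k, h⟩, hkh, -⟩ := (Subgroup.isComplement'_def.1 hKc).existsUnique x
      refine ⟨k.1, k.2, ?_⟩
      have hhb : (h : X) • b = b := MulAction.mem_stabilizer_iff.1 h.2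
      rw [← hx, ← hkh]
      simp only [mul_smul, hhb]
    intro c d hca hda
    obtain ⟨k1, hk1, hk1c⟩ := key c hca
    obtain ⟨k2, hk2, hk2d⟩ := key d hda
    refine ⟨k2 * k1⁻¹, K.mul_mem hk2 (K.inv_mem hk1), ?_⟩
    rw [mul_smul, ← hk1c, inv_smul_smul, hk2d]


/-- Element-level Zassenhaus hypotheses. -/
structure Zas (G Ω : Type*) [Group G] [MulAction G Ω] : Prop where
  faithful : ∀ g : G, (∀ c : Ω, g • c = c) → g = 1
  h2 : ∀ a b c d : Ω, a ≠ b → c ≠ d → ∃ g : G, g • a = c ∧ g • b = d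
  h3 : ∀ g : G, ∀ a b c : Ω, a ≠ b → b ≠ c → a ≠ c → g • a = a → g • b = b → g • c = c → g = 1

theorem zas_of {G Ω : Type*} [Group G] [MulAction G Ω] (hZ : Cfsg.IsZassenhausGroup G Ω) :
    Zas G Ω := by
  obtain ⟨hf, h2, h3, -, -⟩ := hZ
  refine ⟨?_, ?_, h3⟩
  · intro g hg
    exact hf.eq_of_smul_eq_smul fun c => by rw [hg c, one_smul]
  · intro a b c d hab hcd
    exact MulAction.is_two_pretransitive_iff.1 h2 hab hcd

theorem finite_of_zas {G Ω : Type*} [Group G] [MulAction G Ω] [Finite Ω]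
    (hZ : Cfsg.IsZassenhausGroup G Ω) : Finite G := by
  haveI := hZ.1
  exact Finite.of_injective _ (MulAction.toPerm_injective (α := G) (β := Ω))

variable {G Ω : Type*} [Group G] [MulAction G Ω]

/-- a nontrivial normal subgroup is transitive. -/
theorem normal_trans (hZ : Zas G Ω) (N : Subgroup G) [hN : N.Normal] (hN1 : N ≠ ⊥) (c d : Ω) :
    ∃ n ∈ N, n • c = d := by
  by_cases hcd : c = d
  · exact ⟨1, N.one_mem, by rw [one_smul, hcd]⟩
  obtain ⟨n₀, hn₀⟩ := (Subgroup.ne_bot_iff_exists_ne_one).1 hN1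
  have hn₀1 : (n₀ : G) ≠ 1 := fun h => hn₀ (Subtype.ext h)
  obtain ⟨a, ha⟩ : ∃ a : Ω, (n₀ : G) • a ≠ a := by
    by_contra hcon
    push Not at hcon
    exact hn₀1 (hZ.faithful _ hcon)
  obtain ⟨g, hg1, hg2⟩ := hZ.h2 a ((n₀ : G) • a) c d (Ne.symm ha) hcd
  refine ⟨g * n₀ * g⁻¹, hN.conj_mem _ n₀.2 g, ?_⟩
  rw [mul_smul, mul_smul, ← hg1, inv_smul_smul, hg2]

/-- the Frobenius kernel of a point stabiliser. -/
theorem kernelAt [Finite G] (hZ : Zas G Ω) (a b : Ω) (hab : a ≠ b) (h₀ : G) (h₀1 : h₀ ≠ 1)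
    (h₀a : h₀ • a = a) (h₀b : h₀ • b = b) :
    ∃ K : Subgroup G, (∀ k ∈ K, k • a = a) ∧ (∀ k ∈ K, k ≠ 1 → ∀ c : Ω, c ≠ a → k • c ≠ c) ∧
      (∀ c d : Ω, c ≠ a → d ≠ a → ∃ k ∈ K, k • c = d) ∧
      (∀ g : G, g • a = a → ∀ k ∈ K, g * k * g⁻¹ ∈ K) := by
  set S : Subgroup G := MulAction.stabilizer G a with hS
  obtain ⟨c₀, hc₀⟩ : ∃ c : Ω, h₀ • c ≠ c := by
    by_contra hcon
    push Not at hcon
    exact h₀1 (hZ.faithful _ hcon)
  obtain ⟨K', hKn, hK1, hK2⟩ := frobAct (X := S) (Ω := Ω) a b (Ne.symm hab)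
    (fun x => MulAction.mem_stabilizer_iff.1 x.2)
    (by
      intro c d hca hda
      obtain ⟨g, hg1, hg2⟩ := hZ.h2 a c a d (Ne.symm hca) (Ne.symm hda)
      exact ⟨⟨g, MulAction.mem_stabilizer_iff.2 hg1⟩, hg2⟩)
    (by
      intro x c d hca hda hcd hxc hxd
      apply Subtype.ext
      exact hZ.h3 x.1 a c d (Ne.symm hca) hcd (Ne.symm hda) (MulAction.mem_stabilizer_iff.1 x.2)
        hxc hxd)
    ⟨⟨h₀, MulAction.mem_stabilizer_iff.2 h₀a⟩, fun h => h₀1 (congrArg Subtype.val h), h₀b⟩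
    ⟨c₀, fun h => hc₀ (h ▸ h₀a), fun h => hc₀ (h ▸ h₀b)⟩
  refine ⟨K'.map S.subtype, ?_, ?_, ?_, ?_⟩
  · rintro k ⟨x, -, rfl⟩
    exact MulAction.mem_stabilizer_iff.1 x.2
  · rintro k ⟨x, hx, rfl⟩ hk1 c hca
    exact hK1 x hx (fun h => hk1 (by rw [h]; rfl)) c hca
  · intro c d hca hda
    obtain ⟨k, hk, hkc⟩ := hK2 c d hca hda
    exact ⟨k.1, ⟨k, hk, rfl⟩, hkc⟩
  · rintro g hga k ⟨x, hx, rfl⟩
    have := hKn.conj_mem x hx ⟨g, MulAction.mem_stabilizer_iff.2 hga⟩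
    exact ⟨_, this, rfl⟩


/-- a normal subgroup containing a nonidentity element fixing two points is 2-transitive. -/
theorem normal_two_trans [Finite G] (hZ : Zas G Ω) (N : Subgroup G) [hN : N.Normal] (a b : Ω)
    (hab : a ≠ b) (h₀ : G) (h₀N : h₀ ∈ N) (h₀1 : h₀ ≠ 1) (h₀a : h₀ • a = a) (h₀b : h₀ • b = b)
    (c d c' d' : Ω) (hcd : c ≠ d) (hcd' : c' ≠ d') : ∃ n ∈ N, n • c = c' ∧ n • d = d' := by
  have hN1 : N ≠ ⊥ := fun h => h₀1 (by rw [h, Subgroup.mem_bot] at h₀N; exact h₀N)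
  obtain ⟨K, hKa, hKfree, hKtr, hKconj⟩ := kernelAt hZ a b hab h₀ h₀1 h₀a h₀b
  -- K ≤ N
  have hh₀inv : h₀⁻¹ • a = a := by rw [inv_smul_eq_iff, h₀a]
  let f : K → K := fun k => ⟨(k : G)⁻¹ * (h₀ * k * h₀⁻¹), K.mul_mem (K.inv_mem k.2) (hKconj h₀ h₀a k k.2)⟩
  have hfinj : Function.Injective f := by
    intro k k' hkk
    have h1 : (k : G)⁻¹ * (h₀ * k * h₀⁻¹) = (k' : G)⁻¹ * (h₀ * k' * h₀⁻¹) := congrArg Subtype.val hkk
    -- c := k' k⁻¹ commutes with h₀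
    set c : G := (k' : G) * (k : G)⁻¹ with hc
    have hcK : c ∈ K := K.mul_mem k'.2 (K.inv_mem k.2)
    have hcomm : c * h₀ = h₀ * c := by
      have h2 : (k : G)⁻¹ * h₀ * k = (k' : G)⁻¹ * h₀ * k' := by
        have := congrArg (fun t => t * h₀) h1
        simpa [mul_assoc] using this
      have h3 : h₀ * k = (k : G) * ((k' : G)⁻¹ * h₀ * k') := by
        rw [← h2]; group
      rw [hc]
      calc (k' : G) * (k : G)⁻¹ * h₀ = (k' : G) * ((k : G)⁻¹ * h₀ * k) * (k : G)⁻¹ := by group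
        _ = (k' : G) * ((k' : G)⁻¹ * h₀ * k') * (k : G)⁻¹ := by rw [h2]
        _ = h₀ * ((k' : G) * (k : G)⁻¹) := by group
    have hc1 : c = 1 := by
      by_contra hc1
      have hcb : c • b ≠ b := hKfree c hcK hc1 b (Ne.symm hab)
      have hcba : c • b ≠ a := by
        intro h
        have h5 : b = c⁻¹ • a := by rw [← h, inv_smul_smul]
        have : c⁻¹ • a = a := by rw [inv_smul_eq_iff, hKa c hcK]
        exact hab (by rw [h5, this])
      have hfix : h₀ • (c • b) = c • b := by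
        rw [← mul_smul, ← hcomm, mul_smul, h₀b]
      exact h₀1 (hZ.h3 h₀ a b (c • b) hab (Ne.symm hcb) (Ne.symm hcba) h₀a h₀b hfix)
    apply Subtype.ext
    have : (k' : G) = c * k := by rw [hc]; group
    rw [this, hc1, one_mul]
  have hfsurj : Function.Surjective f := Finite.injective_iff_surjective.1 hfinj
  have hKN : K ≤ N := by
    intro k hk
    obtain ⟨k₀, hk₀⟩ := hfsurj ⟨k, hk⟩
    have : k = (k₀ : G)⁻¹ * (h₀ * k₀ * h₀⁻¹) := (congrArg Subtype.val hk₀).symm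
    rw [this]
    have h1 : (k₀ : G)⁻¹ * h₀ * ((k₀ : G)⁻¹)⁻¹ ∈ N := hN.conj_mem h₀ h₀N _
    have h2 : (k₀ : G)⁻¹ * (h₀ * k₀ * h₀⁻¹) = ((k₀ : G)⁻¹ * h₀ * ((k₀ : G)⁻¹)⁻¹) * h₀⁻¹ := by group
    rw [h2]
    exact N.mul_mem h1 (N.inv_mem h₀N)
  -- 2-transitivity
  obtain ⟨n₁, hn₁, hn₁c⟩ := normal_trans hZ N hN1 c a
  obtain ⟨n₂, hn₂, hn₂c⟩ := normal_trans hZ N hN1 c' a
  have hd₁ : n₁ • d ≠ a := by
    intro h
    apply hcd
    have : n₁ • c = n₁ • d := by rw [hn₁c, h]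
    exact (MulAction.injective n₁) this
  have hd₂ : n₂ • d' ≠ a := by
    intro h
    apply hcd'
    have : n₂ • c' = n₂ • d' := by rw [hn₂c, h]
    exact (MulAction.injective n₂) this
  obtain ⟨k, hk, hkd⟩ := hKtr (n₁ • d) (n₂ • d') hd₁ hd₂
  refine ⟨n₂⁻¹ * k * n₁, N.mul_mem (N.mul_mem (N.inv_mem hn₂) (hKN hk)) hn₁, ?_, ?_⟩
  · rw [mul_smul, mul_smul, hn₁c, hKa k hk, inv_smul_eq_iff, hn₂c]
  · rw [mul_smul, mul_smul, hkd, inv_smul_smul]


/-- Step 3: a nontrivial normal subgroup contains a nonidentity element fixing two points. -/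
theorem exists_fix_two [Finite G] (hZ : Zas G Ω)
    (hnoreg : ∀ M : Subgroup G, M.Normal → (∀ c d : Ω, ∃ m ∈ M, m • c = d) →
      ∃ m ∈ M, m ≠ 1 ∧ ∃ a : Ω, m • a = a)
    (N : Subgroup G) [hN : N.Normal] (hN1 : N ≠ ⊥) (p₁ p₂ : Ω) (hp : p₁ ≠ p₂) :
    ∃ n ∈ N, n ≠ 1 ∧ ∃ a b : Ω, a ≠ b ∧ n • a = a ∧ n • b = b := by
  by_contra hcon
  push Not at hcon
  have hNtr := normal_trans hZ N hN1
  obtain ⟨n₁, hn₁N, hn₁1, a₀, hn₁a⟩ := hnoreg N hN hNtr
  set H : Subgroup N := MulAction.stabilizer N a₀ with hHdef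
  have hFC : Cfsg.IsFrobeniusComplement H := by
    refine ⟨?_, ?_, ?_⟩
    · intro h
      have : (⟨n₁, hn₁N⟩ : N) ∈ H := MulAction.mem_stabilizer_iff.2 hn₁a
      rw [h, Subgroup.mem_bot] at this
      exact hn₁1 (congrArg Subtype.val this)
    · obtain ⟨d, hd⟩ : ∃ d : Ω, d ≠ a₀ := by
        by_cases h : p₁ = a₀
        · exact ⟨p₂, fun h2 => hp (h.trans h2.symm)⟩
        · exact ⟨p₁, h⟩
      obtain ⟨n, hn, hnd⟩ := hNtr a₀ d
      intro h
      have : (⟨n, hn⟩ : N) ∈ H := by rw [h]; trivial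
      rw [hHdef, MulAction.mem_stabilizer_iff] at this
      exact hd (hnd.symm.trans this)
    · intro g hg
      rw [eq_bot_iff]
      intro y hy
      rw [Subgroup.mem_inf] at hy
      obtain ⟨hy1, hy2⟩ := hy
      rw [mem_conj_smul_iff', hHdef, MulAction.mem_stabilizer_iff] at hy2
      rw [hHdef, MulAction.mem_stabilizer_iff] at hy1
      rw [Subgroup.mem_bot]
      have hga : g • a₀ ≠ a₀ := fun h => hg (MulAction.mem_stabilizer_iff.2 h)
      have hy3 : y • (g • a₀) = g • a₀ := by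
        have := congrArg (fun t => g • t) hy2
        simp only [mul_smul, smul_inv_smul] at this
        exact this
      by_contra hy0
      exact hcon y.1 y.2 (fun h => hy0 (Subtype.ext h)) a₀ (g • a₀) (Ne.symm hga) hy1 hy3
  obtain ⟨M', hMset, hMn, hMc⟩ := frobenius_theorem H hFC
  -- semiregularity of M'
  have hfree : ∀ x ∈ M', x ≠ 1 → ∀ c : Ω, (x : G) • c ≠ c := by
    intro x hx hx1 c hxc
    have hx' : x ∈ Cfsg.frobeniusKernel H := by rw [← hMset]; exact hx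
    rcases hx' with h | h
    · exact hx1 h
    · obtain ⟨g, hg, hgc⟩ := hNtr a₀ c
      apply h ⟨g, hg⟩
      rw [mem_conj_smul_iff', hHdef, MulAction.mem_stabilizer_iff]
      show ((⟨g, hg⟩ : N)⁻¹ * x * ⟨g, hg⟩ : N) • a₀ = a₀
      rw [mul_smul, mul_smul]
      show (⟨g, hg⟩ : N)⁻¹ • (x : G) • g • a₀ = a₀
      rw [hgc, hxc, ← hgc]
      exact inv_smul_smul (⟨g, hg⟩ : N) a₀
  set M : Subgroup G := M'.map N.subtype with hM
  have hMtr : ∀ c d : Ω, ∃ m ∈ M, m • c = d := by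
    have key : ∀ d : Ω, ∃ m ∈ M, m • a₀ = d := by
      intro d
      obtain ⟨n, hn, hnd⟩ := hNtr a₀ d
      obtain ⟨⟨k, h⟩, hkh, -⟩ := (Subgroup.isComplement'_def.1 hMc).existsUnique (⟨n, hn⟩ : N)
      refine ⟨k.1.1, ⟨k.1, k.2, rfl⟩, ?_⟩
      have hha : ((h : N) : G) • a₀ = a₀ := MulAction.mem_stabilizer_iff.1 h.2
      have h1 : n = (k : N).1 * (h : N).1 := by
        have := congrArg Subtype.val hkh
        simpa using this.symm
      rw [← hnd, h1, mul_smul, hha]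
    intro c d
    obtain ⟨m1, hm1, hm1c⟩ := key c
    obtain ⟨m2, hm2, hm2d⟩ := key d
    refine ⟨m2 * m1⁻¹, M.mul_mem hm2 (M.inv_mem hm1), ?_⟩
    rw [mul_smul, ← hm1c, inv_smul_smul, hm2d]
  have hMnorm : M.Normal := by
    constructor
    rintro m ⟨x, hx, rfl⟩ g
    have hmem : g * (x : G) * g⁻¹ ∈ N := hN.conj_mem _ x.2 g
    refine ⟨⟨g * (x : G) * g⁻¹, hmem⟩, ?_, rfl⟩
    have : (⟨g * (x : G) * g⁻¹, hmem⟩ : N) ∈ Cfsg.frobeniusKernel H := by
      by_cases hx1 : x = 1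
      · left
        apply Subtype.ext
        simp [hx1]
      · right
        intro y hy
        rw [mem_conj_smul_iff', hHdef, MulAction.mem_stabilizer_iff] at hy
        -- x fixes g⁻¹ y a₀
        apply hfree x hx hx1 (g⁻¹ • (y : G) • a₀)
        have h1 : ((y⁻¹ * ⟨g * (x : G) * g⁻¹, hmem⟩ * y : N) : G) • a₀ = a₀ := hy
        have h2 : ((y⁻¹ * ⟨g * (x : G) * g⁻¹, hmem⟩ * y : N) : G) =
            (y : G)⁻¹ * (g * (x : G) * g⁻¹) * (y : G) := by simp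
        rw [h2] at h1
        have h3 := congrArg (fun t => g⁻¹ • (y : G) • t) h1
        simp only [mul_smul, smul_inv_smul, inv_smul_smul] at h3
        exact h3
    rw [← hMset] at this
    exact this
  obtain ⟨m, hm, hm1, a, hma⟩ := hnoreg M hMnorm hMtr
  obtain ⟨x, hx, rfl⟩ := hm
  exact hfree x hx (fun h => hm1 (by rw [h]; rfl)) a hma


theorem le_of_common (N : Subgroup G)
    (hN2 : ∀ c d c' d' : Ω, c ≠ d → c' ≠ d' → ∃ n ∈ N, n • c = c' ∧ n • d = d')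
    (M₁ M₂ : Subgroup G) (h1N : ∀ n ∈ N, ∀ m ∈ M₁, n * m * n⁻¹ ∈ M₁)
    (h2N : ∀ n ∈ N, ∀ m ∈ M₂, n * m * n⁻¹ ∈ M₂)
    (h1free : ∀ m ∈ M₁, m ≠ 1 → ∀ c : Ω, m • c ≠ c) (a₀ : Ω)
    (x : G) (hx1 : x ∈ M₁) (hx2 : x ∈ M₂) (hx : x ≠ 1) : M₁ ≤ M₂ := by
  intro y hy
  by_cases hy1 : y = 1
  · rw [hy1]; exact M₂.one_mem
  obtain ⟨n, hn, hna, hnx⟩ := hN2 a₀ (x • a₀) a₀ (y • a₀) (Ne.symm (h1free x hx1 hx a₀))
    (Ne.symm (h1free y hy hy1 a₀))
  have hninv : n⁻¹ • a₀ = a₀ := by rw [inv_smul_eq_iff, hna]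
  have h1 : (n * x * n⁻¹) • a₀ = y • a₀ := by rw [mul_smul, mul_smul, hninv, hnx]
  have h2 : y⁻¹ * (n * x * n⁻¹) ∈ M₁ := M₁.mul_mem (M₁.inv_mem hy) (h1N n hn x hx1)
  have h3 : (y⁻¹ * (n * x * n⁻¹)) • a₀ = a₀ := by rw [mul_smul, h1, inv_smul_smul]
  have h4 : y⁻¹ * (n * x * n⁻¹) = 1 := by
    by_contra h
    exact h1free _ h2 h a₀ h3
  have h5 : y = n * x * n⁻¹ := (inv_mul_eq_one.1 h4)
  rw [h5]
  exact h2N n hn x hx2

theorem unique_regular (hZ : Zas G Ω) (N : Subgroup G)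
    (hN2 : ∀ c d c' d' : Ω, c ≠ d → c' ≠ d' → ∃ n ∈ N, n • c = c' ∧ n • d = d')
    (M₁ M₂ : Subgroup G) (h1N : ∀ n ∈ N, ∀ m ∈ M₁, n * m * n⁻¹ ∈ M₁)
    (h2N : ∀ n ∈ N, ∀ m ∈ M₂, n * m * n⁻¹ ∈ M₂) (hM₁N : M₁ ≤ N) (hM₂N : M₂ ≤ N)
    (h1tr : ∀ c d : Ω, ∃ m ∈ M₁, m • c = d) (h2tr : ∀ c d : Ω, ∃ m ∈ M₂, m • c = d)
    (h1free : ∀ m ∈ M₁, m ≠ 1 → ∀ c : Ω, m • c ≠ c)
    (h2free : ∀ m ∈ M₂, m ≠ 1 → ∀ c : Ω, m • c ≠ c)
    (h1ab : ∀ x ∈ M₁, ∀ y ∈ M₁, x * y = y * x) (a₀ a₁ : Ω) (ha : a₀ ≠ a₁) : M₁ = M₂ := by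
  by_cases hcommon : ∃ x : G, x ∈ M₁ ∧ x ∈ M₂ ∧ x ≠ 1
  · obtain ⟨x, hx1, hx2, hx⟩ := hcommon
    exact le_antisymm (le_of_common N hN2 M₁ M₂ h1N h2N h1free a₀ x hx1 hx2 hx)
      (le_of_common N hN2 M₂ M₁ h2N h1N h2free a₀ x hx2 hx1 hx)
  · exfalso
    push Not at hcommon
    have hcomm : ∀ m₁ ∈ M₁, ∀ m₂ ∈ M₂, m₁ * m₂ = m₂ * m₁ := by
      intro m₁ hm₁ m₂ hm₂
      have hc1 : m₁ * m₂ * m₁⁻¹ * m₂⁻¹ ∈ M₁ := by
        have := M₁.mul_mem hm₁ (h1N m₂ (hM₂N hm₂) m₁⁻¹ (M₁.inv_mem hm₁))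
        have e : m₁ * m₂ * m₁⁻¹ * m₂⁻¹ = m₁ * (m₂ * m₁⁻¹ * m₂⁻¹) := by group
        rw [e]; exact this
      have hc2 : m₁ * m₂ * m₁⁻¹ * m₂⁻¹ ∈ M₂ :=
        M₂.mul_mem (h2N m₁ (hM₁N hm₁) m₂ hm₂) (M₂.inv_mem hm₂)
      have := hcommon _ hc1 hc2
      have e : m₁ * m₂ = (m₁ * m₂ * m₁⁻¹ * m₂⁻¹) * (m₂ * m₁) := by group
      rw [e, this, one_mul]
    obtain ⟨m₂, hm₂, hm₂a⟩ := h2tr a₀ a₁
    obtain ⟨m, hm, hma⟩ := h1tr a₀ a₁
    have hm₂1 : m₂ ≠ 1 := by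
      intro h
      rw [h, one_smul] at hm₂a
      exact ha hm₂a
    set c := m⁻¹ * m₂ with hc
    have hca : c • a₀ = a₀ := by rw [hc, mul_smul, hm₂a, ← hma, inv_smul_smul]
    have hcM : ∀ m' ∈ M₁, c * m' = m' * c := by
      intro m' hm'
      rw [hc, mul_assoc, ← hcomm m' hm' m₂ hm₂, ← mul_assoc, h1ab m⁻¹ (M₁.inv_mem hm) m' hm',
        mul_assoc]
    have hc1 : c = 1 := by
      apply hZ.faithful
      intro b
      obtain ⟨m', hm', hm'b⟩ := h1tr a₀ b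
      rw [← hm'b, ← mul_smul, hcM m' hm', mul_smul, hca]
    have : m₂ = m := by
      have := congrArg (fun t => m * t) hc1
      simp only [hc, mul_inv_cancel_left, mul_one] at this
      exact this
    exact hm₂1 (hcommon m₂ (this ▸ hm) hm₂)


theorem result' {G Ω : Type*} [Group G] [MulAction G Ω] [Finite Ω]
    (hZ : Cfsg.IsZassenhausGroup G Ω) (N : Subgroup G) [hNn : N.Normal] (hN : N ≠ ⊥) :
    Cfsg.IsZassenhausGroup N Ω := by
  haveI := finite_of_zas hZ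
  have hz := zas_of hZ
  obtain ⟨hf, h2, h3, ⟨g₀, hg₀1, p₁, p₂, hp, hg₀a, hg₀b⟩, h5⟩ := hZ
  have hnoreg : ∀ M : Subgroup G, M.Normal → (∀ c d : Ω, ∃ m ∈ M, m • c = d) →
      ∃ m ∈ M, m ≠ 1 ∧ ∃ a : Ω, m • a = a := by
    intro M hM hMtr
    have : MulAction.IsPretransitive M Ω :=
      ⟨fun c d => by obtain ⟨m, hm, h⟩ := hMtr c d; exact ⟨⟨m, hm⟩, h⟩⟩
    obtain ⟨a, ha⟩ := h5 M hM this
    obtain ⟨x, hx1⟩ := (Subgroup.ne_bot_iff_exists_ne_one).1 ha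
    refine ⟨x.1.1, x.1.2, ?_, a, ?_⟩
    · intro h
      apply hx1
      apply Subtype.ext
      apply Subtype.ext
      exact h
    · exact MulAction.mem_stabilizer_iff.1 x.2
  obtain ⟨n₀, hn₀N, hn₀1, a, b, hab, hn₀a, hn₀b⟩ := exists_fix_two hz hnoreg N hN p₁ p₂ hp
  have hN2 := normal_two_trans hz N a b hab n₀ hn₀N hn₀1 hn₀a hn₀b
  have h2N : MulAction.IsMultiplyPretransitive N Ω 2 := by
    rw [MulAction.is_two_pretransitive_iff]
    intro c d c' d' hcd hcd'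
    obtain ⟨n, hn, h1, h2⟩ := hN2 c d c' d' hcd hcd'
    exact ⟨⟨n, hn⟩, h1, h2⟩
  refine ⟨?_, h2N, ?_, ?_, ?_⟩
  · constructor
    intro x y hxy
    apply Subtype.ext
    apply hf.eq_of_smul_eq_smul
    intro c
    exact hxy c
  · intro g a b c hab hbc hac ha hb hc
    apply Subtype.ext
    exact h3 g.1 a b c hab hbc hac ha hb hc
  · exact ⟨⟨n₀, hn₀N⟩, fun h => hn₀1 (congrArg Subtype.val h), a, b, hab, hn₀a, hn₀b⟩
  · intro M hMn hMtr
    by_contra hcon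
    push Not at hcon
    haveI : Nonempty Ω := ⟨a⟩
    obtain ⟨hMab, -⟩ := regular_normal_of_two_transitive h2N M hcon
    set MG : Subgroup G := M.map N.subtype with hMG
    have hMG_N : MG ≤ N := by
      rintro _ ⟨x, -, rfl⟩
      exact x.2
    have hMGnorm : ∀ n ∈ N, ∀ m ∈ MG, n * m * n⁻¹ ∈ MG := by
      rintro n hn _ ⟨x, hx, rfl⟩
      exact ⟨⟨n, hn⟩ * x * ⟨n, hn⟩⁻¹, hMn.conj_mem x hx ⟨n, hn⟩, by simp⟩
    have hMGtr : ∀ c d : Ω, ∃ m ∈ MG, m • c = d := by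
      intro c d
      obtain ⟨x, hx⟩ := hMtr.exists_smul_eq c d
      exact ⟨x.1.1, ⟨x.1, x.2, rfl⟩, hx⟩
    have hMGfree : ∀ m ∈ MG, m ≠ 1 → ∀ c : Ω, m • c ≠ c := by
      rintro _ ⟨x, hx, rfl⟩ hm1 c hc
      have : (⟨x, hx⟩ : M) ∈ MulAction.stabilizer M c := hc
      rw [hcon c, Subgroup.mem_bot] at this
      apply hm1
      have h1 : x = 1 := congrArg Subtype.val this
      rw [h1]; rfl
    have hMGab : ∀ x ∈ MG, ∀ y ∈ MG, x * y = y * x := by
      rintro _ ⟨x, hx, rfl⟩ _ ⟨y, hy, rfl⟩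
      have := hMab.is_comm.comm ⟨x, hx⟩ ⟨y, hy⟩
      have h1 : x * y = y * x := congrArg Subtype.val this
      have h2 := congrArg Subtype.val h1
      simpa using h2
    have hMGnormal : MG.Normal := by
      constructor
      intro m hm g
      set M₂ : Subgroup G := MG.map (MulAut.conj g).toMonoidHom with hM₂
      have hmem : ∀ y : G, y ∈ M₂ ↔ g⁻¹ * y * g ∈ MG := by
        intro y
        constructor
        · rintro ⟨x, hx, rfl⟩
          simp only [MulEquiv.coe_toMonoidHom, MulAut.conj_apply]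
          have : g⁻¹ * (g * x * g⁻¹) * g = x := by group
          rw [this]; exact hx
        · intro hy
          refine ⟨g⁻¹ * y * g, hy, ?_⟩
          simp only [MulEquiv.coe_toMonoidHom, MulAut.conj_apply]
          group
      have h2le : M₂ ≤ N := by
        intro y hy
        rw [hmem] at hy
        have := hNn.conj_mem _ (hMG_N hy) g
        have e : g * (g⁻¹ * y * g) * g⁻¹ = y := by group
        rwa [e] at this
      have h2norm : ∀ n ∈ N, ∀ y ∈ M₂, n * y * n⁻¹ ∈ M₂ := by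
        intro n hn y hy
        rw [hmem] at hy ⊢
        have hn' : g⁻¹ * n * g ∈ N := by
          have := hNn.conj_mem n hn g⁻¹
          simpa using this
        have := hMGnorm _ hn' _ hy
        have e : g⁻¹ * n * g * (g⁻¹ * y * g) * (g⁻¹ * n * g)⁻¹ = g⁻¹ * (n * y * n⁻¹) * g := by group
        rwa [e] at this
      have h2tr : ∀ c d : Ω, ∃ y ∈ M₂, y • c = d := by
        intro c d
        obtain ⟨x, hx, hxc⟩ := hMGtr (g⁻¹ • c) (g⁻¹ • d)
        refine ⟨g * x * g⁻¹, (hmem _).2 (by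
          have e : g⁻¹ * (g * x * g⁻¹) * g = x := by group
          rw [e]; exact hx), ?_⟩
        rw [mul_smul, mul_smul, hxc, smul_inv_smul]
      have h2free : ∀ y ∈ M₂, y ≠ 1 → ∀ c : Ω, y • c ≠ c := by
        intro y hy hy1 c hc
        rw [hmem] at hy
        apply hMGfree _ hy (fun h => hy1 (by
          have := congrArg (fun t => g * t * g⁻¹) h
          simp only [mul_one, mul_inv_cancel] at this
          rw [← this]; group)) (g⁻¹ • c)
        rw [mul_smul, mul_smul, smul_inv_smul, hc]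
      have heq : MG = M₂ := unique_regular hz N hN2 MG M₂ hMGnorm h2norm hMG_N h2le hMGtr h2tr
        hMGfree h2free hMGab a b hab
      rw [heq, hmem]
      have e : g⁻¹ * (g * m * g⁻¹) * g = m := by group
      rw [e]; exact hm
    obtain ⟨m, hm, hm1, c, hmc⟩ := hnoreg MG hMGnormal hMGtr
    exact hMGfree m hm hm1 c hmc


/-- A non-trivial normal subgroup of a Zassenhaus group is itself a Zassenhaus group on the same set. -/
theorem result {G Ω : Type*} [Group G] [MulAction G Ω] [Finite Ω]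
    (hZ : Cfsg.IsZassenhausGroup G Ω) (N : Subgroup G) [N.Normal] (hN : N ≠ ⊥) :
    Cfsg.IsZassenhausGroup N Ω := by
  exact result' hZ N hN

end Cfsg.Agent.S0339
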