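import Cfsg.Statements.S0346
import Mathlib
import Cfsg.Agent.Lib.Helper6.ZassPP2
import Cfsg.Agent.S0885

set_option autoImplicit false
open Cfsg

namespace Cfsg.Agent.S0346

/-- The number of points of a finite simple Zassenhaus group is `p^k + 1` for some prime power `p^k` (the regular normal
subgroup of a point stabiliser is a `p`-group). -/
theorem result {G Ω : Type*} [Group G] [Finite G] [MulAction G Ω] [Fintype Ω]
    (hZ : Cfsg.IsZassenhausGroup G Ω) [IsSimpleGroup G] :
    IsPrimePow (Fintype.card Ω - 1) := by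
  classical
  haveI : Fintype G := Fintype.ofFinite G
  have h0 := Cfsg.Agent.Lib.Helper6.Zs.ZD.of hZ
  have hn := h0.card_gt
  obtain ⟨g, hg1, a, b, hab, -, -⟩ := h0.fix2
  obtain ⟨K, hK⟩ := h0.exists_kernel a
  rcases Nat.even_or_odd
      (Nat.card ↥(MulAction.stabilizer G a ⊓ MulAction.stabilizer G b : Subgroup G)) with heven | hodd
  · obtain ⟨hcomm, hle⟩ := Cfsg.Agent.Lib.Helper6.Zs.ZD.even_case h0 hab hK heven
    exact Cfsg.Agent.Lib.Helper6.Zs.ZD.isPrimePow_of_le h0 hab hK
      (fun x hx y hy _ => hcomm x hx y hy) hle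
  · rcases Cfsg.Agent.S0885.result hZ hab (Fintype.card Ω - 1) _ (by omega) rfl hodd K hK.le
        hK.card hK.fix with hle | ⟨h2, -, -⟩
    · exact Cfsg.Agent.Lib.Helper6.Zs.ZD.isPrimePow_of_le h0 hab hK
        (Cfsg.Agent.Lib.Helper6.Zs.KD.commute_of_coprime h0 hab hK) (by omega)
    · obtain ⟨m, hm⟩ := (IsPGroup.iff_card.1 h2)
      have hKc := hK.card
      have h3 : Fintype.card Ω - 1 = 2 ^ m := by omega
      rw [h3]
      have hm0 : m ≠ 0 := by
        rintro rfl
        simp at hm
        omega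
      exact (Nat.prime_two.isPrimePow).pow hm0


end Cfsg.Agent.S0346
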