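import Mathlib
import Cfsg.Statements.S0350

set_option autoImplicit false
open Cfsg

namespace Cfsg.Agent.S0350

open Finset

/-- Counting pairs (t-subset, block containing it) in two ways: the number of blocks of a Steiner system with parameters (t, k, v), multiplied by C(k, t), equals C(v, t). -/
theorem result {α : Type*} [Fintype α] [DecidableEq α] {t k : ℕ} {B : Set (Finset α)} (hB : Cfsg.IsSteinerSystem t k B) : B.ncard * Nat.choose k t = Nat.choose (Fintype.card α) t := by
  classical
  have hfin : B.Finite := Set.toFinite B
  rw [Set.ncard_eq_toFinset_card B hfin]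
  have hunion : powersetCard t (univ : Finset α) = hfin.toFinset.biUnion (fun b => powersetCard t b) := by
    ext s
    simp only [mem_powersetCard, subset_univ, true_and, mem_biUnion, Set.Finite.mem_toFinset]
    constructor
    · intro hs
      obtain ⟨b, ⟨hb, hsb⟩, _⟩ := hB.2 s hs
      exact ⟨b, hb, hsb, hs⟩
    · rintro ⟨b, _, _, hs⟩
      exact hs
  have hdisj : (hfin.toFinset : Set (Finset α)).PairwiseDisjoint (fun b => powersetCard t b) := by
    intro b hb c hc hbc
    rw [Function.onFun, Finset.disjoint_left]
    intro s hsb hsc
    rw [mem_powersetCard] at hsb hsc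
    obtain ⟨b₀, _, huniq⟩ := hB.2 s hsb.2
    have hb' : b ∈ B := by simpa using hb
    have hc' : c ∈ B := by simpa using hc
    exact hbc ((huniq b ⟨hb', hsb.1⟩).trans (huniq c ⟨hc', hsc.1⟩).symm)
  have := card_biUnion hdisj
  rw [← hunion, card_powersetCard, card_univ] at this
  rw [this]
  have hconst : ∀ b ∈ hfin.toFinset, (powersetCard t b).card = Nat.choose k t := by
    intro b hb
    have hb' : b ∈ B := by simpa using hb
    rw [card_powersetCard, hB.1 b hb']
  rw [sum_congr rfl hconst, sum_const, smul_eq_mul]

end Cfsg.Agent.S0350
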