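import Mathlib
import Cfsg.Statements.S0351

set_option autoImplicit false
open Cfsg

namespace Cfsg.Agent.S0351

open Finset

/-- Derived design: removing a point p from the blocks through p of an S(t+1, k+1, v) yields an S(t, k, v-1) on the points other than p. -/
theorem result {α : Type*} [Fintype α] [DecidableEq α] {t k : ℕ} {B : Set (Finset α)} (hB : Cfsg.IsSteinerSystem (t + 1) (k + 1) B) (p : α) : Cfsg.IsSteinerSystem t k {b' : Finset {a : α // a ≠ p} | ∃ b ∈ B, p ∈ b ∧ b' = Finset.subtype (fun a => a ≠ p) b} := by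
  classical
  constructor
  · rintro b' ⟨b, hb, hpb, rfl⟩
    rw [Finset.card_subtype, Finset.filter_ne', Finset.card_erase_of_mem hpb, hB.1 b hb]
    rfl
  · intro s' hs'
    -- the (t+1)-set
    set s : Finset α := insert p (s'.map (Function.Embedding.subtype _)) with hs
    have hpn : p ∉ s'.map (Function.Embedding.subtype (fun a => a ≠ p)) := by
      rw [Finset.mem_map]
      rintro ⟨⟨a, ha⟩, _, h⟩
      exact ha h
    have hscard : s.card = t + 1 := by
      rw [hs, Finset.card_insert_of_notMem hpn, Finset.card_map, hs']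
    obtain ⟨b, ⟨hb, hsb⟩, huniq⟩ := hB.2 s hscard
    have hpb : p ∈ b := hsb (Finset.mem_insert_self _ _)
    have hsub : ∀ c : Finset α, s ⊆ c ↔ p ∈ c ∧ s' ⊆ Finset.subtype (fun a => a ≠ p) c := by
      intro c
      constructor
      · intro h
        refine ⟨h (Finset.mem_insert_self _ _), ?_⟩
        intro a ha
        rw [Finset.mem_subtype]
        apply h
        rw [hs, Finset.mem_insert]
        right
        rw [Finset.mem_map]
        exact ⟨a, ha, rfl⟩
      · rintro ⟨hpc, hsc⟩ a ha
        rw [hs, Finset.mem_insert] at ha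
        rcases ha with rfl | ha
        · exact hpc
        · rw [Finset.mem_map] at ha
          obtain ⟨a', ha', rfl⟩ := ha
          have := hsc ha'
          rw [Finset.mem_subtype] at this
          exact this
    refine ⟨Finset.subtype (fun a => a ≠ p) b, ⟨⟨b, hb, hpb, rfl⟩, ((hsub b).mp hsb).2⟩, ?_⟩
    rintro c' ⟨⟨c, hc, hpc, rfl⟩, hsc⟩
    have : c = b := huniq c ⟨hc, (hsub c).mpr ⟨hpc, hsc⟩⟩
    rw [this]

end Cfsg.Agent.S0351
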