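import Cfsg.Statements.S0375
import Cfsg.Agent.Lib.Helper2.SteinerSum3
import Cfsg.Agent.Lib.Helper9.GolayG4
import Cfsg.Agent.Lib.Helper9.GolayQR5

set_option autoImplicit false
open Cfsg

namespace Cfsg.Agent.S0375

/-- A doubly even self-dual binary code of length 24 with no words of weight 4 is equivalent to the length-24 code built from the squares modulo 23. -/
theorem result (C : Submodule (ZMod 2) (Fin 24 → ZMod 2)) (hdim : Module.finrank (ZMod 2) C = 12) (horth : ∀ v ∈ C, ∀ w ∈ C, ∑ i, v i * w i = 0) (h4 : ∀ w ∈ C, 4 ∣ hammingNorm w) (hno4 : ∀ w ∈ C, hammingNorm w ≠ 4) : ∃ e : Fin 24 ≃ Cfsg.GolayPt, ∀ w : Cfsg.GolayPt → ZMod 2, w ∈ Cfsg.golayCode ↔ (fun i => w (e i)) ∈ C := by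
  have hι : Fintype.card (Fin 24) = 24 := by simp
  have hmin : ∀ w ∈ C, w ≠ 0 → 8 ≤ hammingNorm w := by
    intro w hw hne
    obtain ⟨k, hk⟩ := h4 w hw
    have h0 : hammingNorm w ≠ 0 := by
      rw [Ne, hammingNorm_eq_zero]
      exact hne
    have := hno4 w hw
    omega
  have hS := (Cfsg.Agent.Lib.Helper9.GolayG3.octads_steiner hι C hdim hmin).2
  obtain ⟨e, he⟩ := Cfsg.Agent.Lib.Helper2.SteinerSum.unique_5_8_24 hι
    Cfsg.Agent.Lib.Helper9.GolayQR5.card_golayPt hS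
    Cfsg.Agent.Lib.Helper9.GolayQR5.octads_isSteiner
  refine ⟨e, ?_⟩
  obtain ⟨T, hT⟩ : ∃ T : (Cfsg.GolayPt → ZMod 2) ≃ₗ[ZMod 2] (Fin 24 → ZMod 2),
      ∀ w i, T w i = w (e i) :=
    ⟨LinearEquiv.funCongrLeft (ZMod 2) (ZMod 2) e, fun w i => rfl⟩
  have hTw : ∀ w, T w = fun i => w (e i) := fun w => funext (hT w)
  have hle : Cfsg.golayCode.map T.toLinearMap ≤ C := by
    rw [← Cfsg.Agent.Lib.Helper9.GolayG4.span_octads
      Cfsg.Agent.Lib.Helper9.GolayQR5.card_golayPt Cfsg.golayCode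
      Cfsg.Agent.Lib.Helper9.GolayQR4.finrank_golayCode
      Cfsg.Agent.Lib.Helper9.GolayQR4.min_weight, Submodule.map_span_le]
    rintro w ⟨hw, hw8⟩
    have hoct : Cfsg.support₂ w ∈ Cfsg.octads :=
      ⟨⟨w, hw, rfl⟩, by
        rw [← Cfsg.Agent.Lib.Helper9.Golay1.supp_eq_support₂,
          ← Cfsg.Agent.Lib.Helper9.Golay1.wt_eq]
        exact hw8⟩
    rw [← he] at hoct
    obtain ⟨b, ⟨⟨c, hc, rfl⟩, -⟩, hbe⟩ := hoct
    have : T w = c := by
      rw [← Cfsg.Agent.Lib.Helper9.Golay1.supp_eq_iff]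
      ext i
      rw [Cfsg.Agent.Lib.Helper9.Golay1.mem_supp, hT,
        Cfsg.Agent.Lib.Helper9.Golay1.supp_eq_support₂ c]
      have h1 : w (e i) ≠ 0 ↔ e i ∈ Cfsg.support₂ w := by
        rw [← Cfsg.Agent.Lib.Helper9.Golay1.supp_eq_support₂,
          Cfsg.Agent.Lib.Helper9.Golay1.mem_supp]
      rw [h1, ← hbe, Finset.mem_image]
      constructor
      · rintro ⟨j, hj, hje⟩
        rw [← e.injective hje]
        exact hj
      · intro hi
        exact ⟨i, hi, rfl⟩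
    show T w ∈ C
    rw [this]
    exact hc
  have heq : Cfsg.golayCode.map T.toLinearMap = C := by
    apply Submodule.eq_of_le_of_finrank_eq hle
    rw [LinearEquiv.finrank_map_eq, Cfsg.Agent.Lib.Helper9.GolayQR4.finrank_golayCode, hdim]
  intro w
  rw [← hTw, ← heq]
  constructor
  · intro hw
    exact ⟨w, hw, rfl⟩
  · rintro ⟨w', hw', hww'⟩
    have : w' = w := T.injective hww'
    rw [← this]
    exact hw'

end Cfsg.Agent.S0375
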