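import Cfsg.Statements.S0377
import Cfsg.Agent.Lib.Helper9.M24Q4

set_option autoImplicit false
open Cfsg

namespace Cfsg.Agent.S0377

/-- A point stabiliser in the group of the length-24 code is simple. -/
theorem result (p : Cfsg.GolayPt) : IsSimpleGroup (MulAction.stabilizer Cfsg.M24 p) := by
  have e := Cfsg.Agent.Lib.Helper9.M24Q3.subEquiv Cfsg.M24 (MulAction.stabilizer Cfsg.M24 p)
    (Cfsg.Agent.Lib.Helper9.M24T3.fixL Cfsg.M24 [p])
    (Cfsg.Agent.Lib.Helper9.M24T3.fixL_le _ _) (by
      intro g
      rw [MulAction.mem_stabilizer_iff, Cfsg.Agent.Lib.Helper9.M24T3.mem_fixL]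
      constructor
      · intro h
        refine ⟨g.2, ?_⟩
        intro b hb
        rw [List.mem_singleton] at hb
        rw [hb]; exact h
      · intro h
        exact h.2 p (by simp))
  haveI := Cfsg.Agent.Lib.Helper9.M24Q3.m23_simple p
  exact e.isSimpleGroup

end Cfsg.Agent.S0377
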