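import Cfsg.Statements.S0383
import Cfsg.Agent.Lib.Helper9.M24Q4

set_option autoImplicit false
open scoped Pointwise
open Cfsg

namespace Cfsg.Agent.S0383

/-- A dodecad stabiliser in the group of the length-24 code is simple. -/
theorem result (d : Finset Cfsg.GolayPt) (hd : d ∈ Cfsg.dodecads) : IsSimpleGroup (MulAction.stabilizer Cfsg.M24 d) := by
  have e := Cfsg.Agent.Lib.Helper9.M24Q3.subEquiv Cfsg.M24 (MulAction.stabilizer Cfsg.M24 d)
    (Cfsg.Agent.Lib.Helper9.M24T9.stabF d)
    (Cfsg.Agent.Lib.Helper9.M24Q4.stabF_le d) (by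
      intro g
      rw [MulAction.mem_stabilizer_iff, Cfsg.Agent.Lib.Helper9.M24T9.mem_stabF]
      constructor
      · intro h
        exact ⟨g.2, h⟩
      · intro h
        exact h.2)
  haveI := Cfsg.Agent.Lib.Helper9.M24Q4.m12_simple d hd
  exact e.isSimpleGroup

end Cfsg.Agent.S0383
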