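import Cfsg.Statements.S0387
import Cfsg.Agent.Lib.Helper9.M24T11

set_option autoImplicit false
open scoped Pointwise
open Cfsg

namespace Cfsg.Agent.S0387

/-- The stabiliser of a dodecad and a point on it has order 7920 = 2^4·3^2·5·11. -/
theorem result (d : Finset Cfsg.GolayPt) (hd : d ∈ Cfsg.dodecads) (p : Cfsg.GolayPt) (hp : p ∈ d) : Nat.card ↥(MulAction.stabilizer Cfsg.M24 d ⊓ MulAction.stabilizer Cfsg.M24 p) = 7920 := by
  rw [← Cfsg.Agent.Lib.Helper9.M24T11.card_stab_point d hd p hp]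
  apply Nat.card_congr
  exact
    { toFun := fun x => ⟨x.1.1, by
        have hx := Subgroup.mem_inf.mp x.2
        rw [Cfsg.Agent.Lib.Helper9.Chain1.mem_inf_stab, Cfsg.Agent.Lib.Helper9.M24T9.mem_stabF]
        exact ⟨⟨x.1.2, MulAction.mem_stabilizer_iff.mp hx.1⟩,
          MulAction.mem_stabilizer_iff.mp hx.2⟩⟩
      invFun := fun y => ⟨⟨y.1, by
        have hy := (Cfsg.Agent.Lib.Helper9.Chain1.mem_inf_stab _ _ _).mp y.2
        exact ((Cfsg.Agent.Lib.Helper9.M24T9.mem_stabF d _).mp hy.1).1⟩, by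
        have hy := (Cfsg.Agent.Lib.Helper9.Chain1.mem_inf_stab _ _ _).mp y.2
        exact Subgroup.mem_inf.mpr
          ⟨MulAction.mem_stabilizer_iff.mpr ((Cfsg.Agent.Lib.Helper9.M24T9.mem_stabF d _).mp hy.1).2,
            MulAction.mem_stabilizer_iff.mpr hy.2⟩⟩
      left_inv := fun x => rfl
      right_inv := fun y => rfl }

end Cfsg.Agent.S0387
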