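import Cfsg.Statements.S0388
import Cfsg.Agent.Lib.Helper9.M24Q4

set_option autoImplicit false
open scoped Pointwise
open Cfsg

namespace Cfsg.Agent.S0388

/-- The stabiliser of a dodecad and a point on it is simple. -/
theorem result (d : Finset Cfsg.GolayPt) (hd : d ∈ Cfsg.dodecads) (p : Cfsg.GolayPt) (hp : p ∈ d) : IsSimpleGroup ↥(MulAction.stabilizer Cfsg.M24 d ⊓ MulAction.stabilizer Cfsg.M24 p) := by
  have e := Cfsg.Agent.Lib.Helper9.M24Q3.subEquiv Cfsg.M24
    (MulAction.stabilizer Cfsg.M24 d ⊓ MulAction.stabilizer Cfsg.M24 p)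
    (Cfsg.Agent.Lib.Helper9.M24T9.stabF d ⊓ MulAction.stabilizer (Equiv.Perm Cfsg.GolayPt) p)
    (inf_le_left.trans (Cfsg.Agent.Lib.Helper9.M24Q4.stabF_le d)) (by
      intro g
      rw [Subgroup.mem_inf, MulAction.mem_stabilizer_iff, MulAction.mem_stabilizer_iff,
        Subgroup.mem_inf, MulAction.mem_stabilizer_iff, Cfsg.Agent.Lib.Helper9.M24T9.mem_stabF]
      constructor
      · intro h
        exact ⟨⟨g.2, h.1⟩, h.2⟩
      · intro h
        exact ⟨h.1.2, h.2⟩)
  haveI := Cfsg.Agent.Lib.Helper9.M24Q4.m11_simple d hd p hp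
  exact e.isSimpleGroup

end Cfsg.Agent.S0388
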