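import Cfsg.Statements.S0406
import Cfsg.Agent.S0375
import Cfsg.Agent.Lib.Helper9.LeechU7
import Cfsg.Agent.Lib.Helper9.EvenLat2

set_option autoImplicit false
open Matrix
open Cfsg

namespace Cfsg.Agent.S0406

/-- A rank-24 even lattice with no roots and the stated numbers of vectors of norms 4, 6, 8 is isomorphic to the Leech lattice. -/
theorem result (B : Matrix (Fin 24) (Fin 24) ℤ) (hsymm : B.IsSymm) (hpos : ∀ x : Fin 24 → ℤ, x ≠ 0 → 0 < x ⬝ᵥ (B *ᵥ x)) (heven : ∀ x : Fin 24 → ℤ, (2 : ℤ) ∣ x ⬝ᵥ (B *ᵥ x)) (h2 : ∀ x : Fin 24 → ℤ, x ⬝ᵥ (B *ᵥ x) ≠ 2) (h4 : {x : Fin 24 → ℤ | x ⬝ᵥ (B *ᵥ x) = 4}.ncard = 196560) (h6 : {x : Fin 24 → ℤ | x ⬝ᵥ (B *ᵥ x) = 6}.ncard = 16773120) (h8 : {x : Fin 24 → ℤ | x ⬝ᵥ (B *ᵥ x) = 8}.ncard = 398034000) : ∃ f : (Fin 24 → ℤ) ≃+ Cfsg.leechLattice, ∀ x : Fin 24 → ℤ, Cfsg.sqNorm ((f x : Cfsg.leechLattice) : Cfsg.GolayPt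 → ℤ) = 8 * (x ⬝ᵥ (B *ᵥ x)) := by
  classical
  have f4 : {x : Fin 24 → ℤ | x ⬝ᵥ (B *ᵥ x) = 4}.Finite :=
    Set.finite_of_ncard_ne_zero (by rw [h4]; norm_num)
  have f6 : {x : Fin 24 → ℤ | x ⬝ᵥ (B *ᵥ x) = 6}.Finite :=
    Set.finite_of_ncard_ne_zero (by rw [h6]; norm_num)
  have f8 : {x : Fin 24 → ℤ | x ⬝ᵥ (B *ᵥ x) = 8}.Finite :=
    Set.finite_of_ncard_ne_zero (by rw [h8]; norm_num)
  have m4 : ∀ x, x ∈ f4.toFinset ↔ x ⬝ᵥ (B *ᵥ x) = 4 := fun x => by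
    rw [Set.Finite.mem_toFinset]; rfl
  have m6 : ∀ x, x ∈ f6.toFinset ↔ x ⬝ᵥ (B *ᵥ x) = 6 := fun x => by
    rw [Set.Finite.mem_toFinset]; rfl
  have m8 : ∀ x, x ∈ f8.toFinset ↔ x ⬝ᵥ (B *ᵥ x) = 8 := fun x => by
    rw [Set.Finite.mem_toFinset]; rfl
  have c4 : f4.toFinset.card = 196560 := by rw [← Set.ncard_eq_toFinset_card _ f4]; exact h4
  have c6 : f6.toFinset.card = 16773120 := by rw [← Set.ncard_eq_toFinset_card _ f6]; exact h6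
  have c8 : f8.toFinset.card = 398034000 := by rw [← Set.ncard_eq_toFinset_card _ f8]; exact h8
  have hne : f8.toFinset.Nonempty := by
    rw [← Finset.card_pos, c8]; norm_num
  obtain ⟨x8, hx8⟩ := hne
  have key := Cfsg.Agent.Lib.Helper9.EvenLat2.fiber_eq B hsymm hpos heven h2 f4.toFinset
    f6.toFinset f8.toFinset m4 m6 m8 c4 c6 c8 x8 hx8
  obtain ⟨F0⟩ := Cfsg.Agent.Lib.Helper9.LeechU5.exists_frame hsymm hpos heven h2 f8.toFinset m8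
    x8 hx8 key
  obtain ⟨⟨x0, hx0⟩, -⟩ := Cfsg.Agent.Lib.Helper9.LeechU4.count_main hsymm hpos heven h2 F0
    f4.toFinset m4 c4
  obtain ⟨F, hF⟩ := Cfsg.Agent.Lib.Helper9.LeechU5.exists_normal hsymm hpos heven h2 F0 x0 hx0
  obtain ⟨-, hcard⟩ := Cfsg.Agent.Lib.Helper9.LeechU4.count_main hsymm hpos heven h2 F
    f4.toFinset m4 c4
  have hdim := Cfsg.Agent.Lib.Helper9.LeechU5.finrank_code hsymm hpos heven h2 F hcard
  obtain ⟨e, he⟩ := Cfsg.Agent.S0375.result (Cfsg.Agent.Lib.Helper9.LeechU2.code F) hdim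
    (fun v hv w hw => Cfsg.Agent.Lib.Helper9.LeechU2.code_orth hsymm hpos F v w hv hw)
    (fun w hw => Cfsg.Agent.Lib.Helper9.LeechU2.code_dvd hsymm hpos heven F w hw)
    (fun w hw => Cfsg.Agent.Lib.Helper9.LeechU2.code_no_four hsymm hpos heven h2 F w hw)
  exact Cfsg.Agent.Lib.Helper9.LeechU7.exists_iso hsymm hpos heven h2 F x0 hF e he

end Cfsg.Agent.S0406
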