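import Cfsg.Statements.S0412
import Cfsg.Agent.Lib.Helper2.SteinerSum3
import Cfsg.Agent.Lib.Helper2.AutTransport
import Cfsg.Agent.Lib.Helper9.GolayM24c
import Cfsg.Agent.Lib.Helper9.M24T5
import Cfsg.Agent.Lib.Helper9.M24T4
import Cfsg.Agent.Lib.Helper9.M24Q4

set_option autoImplicit false
open Cfsg

namespace Cfsg.Agent.S0412

/-- Aut of an S(5, 8, 24) is simple of order 244823040 and 5-transitive on points. -/
theorem result {α : Type*} [Fintype α] [DecidableEq α] (hα : Fintype.card α = 24) {B : Set (Finset α)} (hB : Cfsg.IsSteinerSystem 5 8 B) : Cfsg.IsM24 (Cfsg.setSystemAut B) ∧ MulAction.IsMultiplyPretransitive (Cfsg.setSystemAut B) α 5 := by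
  obtain ⟨e, he⟩ := Cfsg.Agent.Lib.Helper2.SteinerSum.unique_5_8_24 hα
    Cfsg.Agent.Lib.Helper9.GolayQR5.card_golayPt hB
    Cfsg.Agent.Lib.Helper9.GolayQR5.octads_isSteiner
  obtain ⟨φ⟩ := Cfsg.Agent.Lib.Helper2.AutTransport.aut_transport e he
  have hM : Cfsg.M24 = Cfsg.setSystemAut Cfsg.octads :=
    Cfsg.Agent.Lib.Helper9.GolayM24c.M24_eq_aut_octads
  have hs : IsSimpleGroup ↥(Cfsg.setSystemAut Cfsg.octads) :=
    hM ▸ Cfsg.Agent.Lib.Helper9.M24Q4.m24_simple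
  have hc : Nat.card ↥(Cfsg.setSystemAut Cfsg.octads) = 244823040 :=
    hM ▸ Cfsg.Agent.Lib.Helper9.M24T4.card_M24
  have ht : MulAction.IsMultiplyPretransitive ↥(Cfsg.setSystemAut Cfsg.octads) Cfsg.GolayPt 5 :=
    hM ▸ Cfsg.Agent.Lib.Helper9.M24T5.five_transitive
  refine ⟨⟨?_, ?_⟩, ?_⟩
  · exact φ.isSimpleGroup
  · rw [Nat.card_congr φ.toEquiv, hc]
  · exact Cfsg.Agent.Lib.Helper2.AutTransport.pretransitive_transport e he 5 ht

end Cfsg.Agent.S0412
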