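import Cfsg.Statements.S0413
import Cfsg.Agent.Lib.Helper2.AutDerived
import Cfsg.Agent.Lib.Helper9.GolayM24c
import Cfsg.Agent.Lib.Helper9.M24T5
import Cfsg.Agent.S0376
import Cfsg.Agent.S0377

set_option autoImplicit false
open Cfsg

namespace Cfsg.Agent.S0413

/-- Aut of an S(4, 7, 23) is simple of order 10200960 and 4-transitive. -/
theorem result {α : Type*} [Fintype α] [DecidableEq α] (hα : Fintype.card α = 23) {B : Set (Finset α)} (hB : Cfsg.IsSteinerSystem 4 7 B) : Cfsg.IsM23 (Cfsg.setSystemAut B) ∧ MulAction.IsMultiplyPretransitive (Cfsg.setSystemAut B) α 4 := by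
  obtain ⟨Of, hOf⟩ := Cfsg.Agent.Lib.Helper9.Steiner5.exists_finset Cfsg.octads
  have hO : Cfsg.IsSteinerSystem 5 8 (Of : Set (Finset (Option (ZMod 23)))) := by
    rw [hOf]
    exact Cfsg.Agent.Lib.Helper9.GolayQR5.octads_isSteiner
  have h24 : Fintype.card (Option (ZMod 23)) = 24 :=
    Cfsg.Agent.Lib.Helper9.GolayQR5.card_golayPt
  have hD : Cfsg.IsSteinerSystem 4 7
      ((Cfsg.Agent.Lib.Helper2.S22.lines Of : Finset (Finset (ZMod 23))) : Set (Finset (ZMod 23))) :=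
    Cfsg.Agent.Lib.Helper2.Plane4.steiner_derive 4 7 Of hO
  have h23 : Fintype.card (ZMod 23) = 23 := ZMod.card 23
  obtain ⟨e, he⟩ := Cfsg.Agent.Lib.Helper2.SteinerSum.unique_4_7_23 hα h23 hB hD
  obtain ⟨φ⟩ := Cfsg.Agent.Lib.Helper2.AutTransport.aut_transport e he
  have hM : Cfsg.M24 = Cfsg.setSystemAut (Of : Set (Finset (Option (ZMod 23)))) := by
    rw [hOf]
    exact Cfsg.Agent.Lib.Helper9.GolayM24c.M24_eq_aut_octads
  obtain ⟨ψ⟩ := Cfsg.Agent.Lib.Helper2.AutDerived.stab_equiv h24 hO Cfsg.M24 hM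
  refine ⟨⟨?_, ?_⟩, ?_⟩
  · haveI := Cfsg.Agent.S0377.result none
    exact (φ.trans ψ).isSimpleGroup
  · rw [Nat.card_congr (φ.trans ψ).toEquiv]
    exact Cfsg.Agent.S0376.result none
  · exact Cfsg.Agent.Lib.Helper2.AutTransport.pretransitive_transport e he 4
      (Cfsg.Agent.Lib.Helper2.AutDerived.derived_trans h24 hO Cfsg.M24 hM 4
        Cfsg.Agent.Lib.Helper9.M24T5.five_transitive)

end Cfsg.Agent.S0413
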