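import Mathlib
import Cfsg.Statements.S0427
import Cfsg.Agent.Lib.Helper5.Steiner22

set_option autoImplicit false
open Cfsg

namespace Cfsg.Agent.S0427

/-- The block graph (adjacent = disjoint) of an S(3, 6, 22) is strongly regular with parameters (77, 16, 0, 4). -/
theorem result {α : Type*} [Fintype α] (hα : Fintype.card α = 22) {B : Set (Finset α)} (hB : Cfsg.IsSteinerSystem 3 6 B) [Fintype B] [DecidableRel (Cfsg.blockGraph B).Adj] : (Cfsg.blockGraph B).IsSRGWith 77 16 0 4 := by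
  classical
  have hmem : ∀ b, b ∈ B.toFinset ↔ b ∈ B := fun b => Set.mem_toFinset
  have hsys : Cfsg.Agent.Lib.Helper5.Steiner22.Sys B.toFinset := by
    refine ⟨hα, fun b hb => hB.1 b ((hmem b).mp hb), fun s hs => ?_⟩
    obtain ⟨b, ⟨hb1, hb2⟩, hb3⟩ := hB.2 s hs
    exact ⟨b, ⟨(hmem b).mpr hb1, hb2⟩, fun c hc => hb3 c ⟨(hmem c).mp hc.1, hc.2⟩⟩
  have hadj : ∀ v w : B, (Cfsg.blockGraph B).Adj v w ↔ Disjoint v.1 w.1 := by
    intro v w
    unfold Cfsg.blockGraph
    rw [SimpleGraph.fromRel_adj]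
    constructor
    · rintro ⟨_, h | h⟩
      · exact h
      · exact h.symm
    · intro h
      refine ⟨?_, Or.inl h⟩
      intro hvw
      have := Cfsg.Agent.Lib.Helper5.Steiner22.ne_of_disjoint hsys v.1 w.1 ((hmem _).mpr v.2) h
      exact this (congrArg Subtype.val hvw).symm
  refine ⟨?_, ?_, ?_, ?_⟩
  · rw [← Set.toFinset_card, Cfsg.Agent.Lib.Helper5.Steiner22.card_blocks hsys]
  · intro v
    rw [← SimpleGraph.card_neighborSet_eq_degree,
      Cfsg.Agent.Lib.Helper5.Steiner22.card_transfer B (fun d => Disjoint v.1 d) _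
        (fun d => by rw [SimpleGraph.mem_neighborSet, hadj])]
    exact Cfsg.Agent.Lib.Helper5.Steiner22.card_disjoint hsys v.1 ((hmem _).mpr v.2)
  · intro v w hvw
    rw [Cfsg.Agent.Lib.Helper5.Steiner22.card_transfer B
        (fun d => Disjoint v.1 d ∧ Disjoint w.1 d) _
        (fun d => by rw [SimpleGraph.mem_commonNeighbors, hadj, hadj])]
    exact Cfsg.Agent.Lib.Helper5.Steiner22.card_common_of_disjoint hsys v.1 w.1
      ((hmem _).mpr v.2) ((hmem _).mpr w.2) ((hadj v w).mp hvw)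
  · intro v w hne hvw
    rw [Cfsg.Agent.Lib.Helper5.Steiner22.card_transfer B
        (fun d => Disjoint v.1 d ∧ Disjoint w.1 d) _
        (fun d => by rw [SimpleGraph.mem_commonNeighbors, hadj, hadj])]
    apply Cfsg.Agent.Lib.Helper5.Steiner22.card_common_of_meet hsys v.1 w.1
      ((hmem _).mpr v.2) ((hmem _).mpr w.2)
    have hwv : w.1 ≠ v.1 := fun h => hne (Subtype.ext h.symm)
    rcases Cfsg.Agent.Lib.Helper5.Steiner22.inter_zero_or_two hsys v.1 ((hmem _).mpr v.2) w.1
      ((hmem _).mpr w.2) hwv with h0 | h2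
    · exfalso
      apply hvw
      rw [hadj, Cfsg.Agent.Lib.Helper5.Steiner22.disjoint_iff_card]
      exact h0
    · exact h2

end Cfsg.Agent.S0427
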