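import Cfsg.Statements.S0436

set_option autoImplicit false
open Cfsg

namespace Cfsg.Agent.S0436

theorem sq_one_of_order_two {G : Type*} [Group G] {x : G} (h : orderOf x = 2) : x * x = 1 := by
  rw [← pow_two, ← h, pow_orderOf_eq_one]

theorem commute_of_mul_sq {G : Type*} [Group G] {x y : G} (hx : x * x = 1) (hy : y * y = 1)
    (h : (x * y) ^ 2 = 1) : Commute x y := by
  have hxi : x⁻¹ = x := inv_eq_of_mul_eq_one_right hx
  have hyi : y⁻¹ = y := inv_eq_of_mul_eq_one_right hy
  have h2 : (x * y) * (x * y) = 1 := by rw [← pow_two]; exact h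
  have h3 : (x * y)⁻¹ = x * y := inv_eq_of_mul_eq_one_right h2
  rw [mul_inv_rev, hxi, hyi] at h3
  exact h3.symm

/-- For distinct commuting members a, b of a set of 3-transpositions E, a member e of E centralises the product a * b if and only if it centralises both a and b. -/
theorem result {G : Type*} [Group G] {E : Set G} (hE : Cfsg.IsThreeTranspositionSet E) {a b e : G} (ha : a ∈ E) (hb : b ∈ E) (he : e ∈ E) (hab : a ≠ b) (hcomm : Commute a b) : Commute e (a * b) ↔ (Commute e a ∧ Commute e b) := by
  obtain ⟨hord, hprod⟩ := hE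
  have ha2 : a * a = 1 := sq_one_of_order_two (hord a ha)
  have hb2 : b * b = 1 := sq_one_of_order_two (hord b hb)
  have he2 : e * e = 1 := sq_one_of_order_two (hord e he)
  constructor
  · intro hc
    have hbc : b = a * (a * b) := by rw [← mul_assoc, ha2, one_mul]
    have hca : Commute (a * b) a := (Commute.refl a).mul_left hcomm.symm
    have hcx : Commute (e * a) (a * b) := hc.mul_left hca.symm
    have hc2 : (a * b) * (a * b) = 1 := by
      have : a * b * (a * b) = (a * a) * (b * b) := by
        rw [mul_assoc, ← mul_assoc b a b, ← hcomm.eq, mul_assoc, ← mul_assoc]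
      rw [this, ha2, hb2, one_mul]
    have hc1 : a * b ≠ 1 := by
      intro h
      apply hab
      have : a = b⁻¹ := eq_inv_of_mul_eq_one_left h
      rw [this]; exact inv_eq_of_mul_eq_one_right hb2
    have heb : e * b = (e * a) * (a * b) := by rw [mul_assoc, ← hbc]
    have hsq : (e * b) ^ 2 = (e * a) ^ 2 := by
      rw [heb, hcx.mul_pow, pow_two (a * b), hc2, mul_one]
    have hcube : (e * b) ^ 3 = (e * a) ^ 3 * (a * b) := by
      rw [heb, hcx.mul_pow, pow_succ (a * b) 2, pow_two (a * b), hc2, one_mul]
    have key : (e * a) ^ 2 = 1 := by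
      rcases hprod e he a ha with h | h
      · exact h
      · rcases hprod e he b hb with h' | h'
        · rw [← hsq]; exact h'
        · rw [hcube, h, one_mul] at h'
          exact absurd h' hc1
    exact ⟨commute_of_mul_sq he2 ha2 key, commute_of_mul_sq he2 hb2 (hsq.trans key)⟩
  · rintro ⟨h1, h2⟩
    exact h1.mul_right h2

end Cfsg.Agent.S0436
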