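import Mathlib
import Cfsg.Statements.S0437

set_option autoImplicit false
open Cfsg

namespace Cfsg.Agent.S0437

variable {G : Type*} [Group G]

theorem sq_one_of_order {a : G} (ha : orderOf a = 2) : a * a = 1 := by
  have := pow_orderOf_eq_one a
  rw [ha, pow_two] at this
  exact this

/-- braid relation when not commuting -/
theorem braid {e y : G} (he : e * e = 1) (hy : y * y = 1)
    (h : (e * y) ^ 2 = 1 ∨ (e * y) ^ 3 = 1) (hc : ¬ Commute e y) : e * y * e = y * e * y := by
  have hei : e⁻¹ = e := inv_eq_of_mul_eq_one_right he
  have hyi : y⁻¹ = y := inv_eq_of_mul_eq_one_right hy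
  rcases h with h | h
  · exfalso
    apply hc
    show e * y = y * e
    have h1 : e * y * (e * y) = 1 := by rw [← pow_two]; exact h
    have h2 := eq_inv_of_mul_eq_one_left h1
    rw [mul_inv_rev, hei, hyi] at h2
    exact h2
  · have h' : e * y * (e * y) * (e * y) = 1 := by rw [← h, pow_succ, pow_two]
    have h1 : e * y * e * (y * e * y) = 1 := by
      rw [← h']; group
    have h2 := eq_inv_of_mul_eq_one_left h1
    rw [mul_inv_rev, mul_inv_rev, hei, hyi, ← mul_assoc] at h2
    exact h2

/-- conjugation by an involution -/
theorem conj_of_commute {e x : G} (he : e * e = 1) (h : Commute e x) : e * x * e = x := by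
  have h' : e * x = x * e := h
  rw [h', mul_assoc, he, mul_one]

theorem commute_of_conj {e x : G} (he : e * e = 1) (h : e * x * e = x) : Commute e x := by
  show e * x = x * e
  calc e * x = e * x * (e * e) := by rw [he, mul_one]
    _ = (e * x * e) * e := by group
    _ = x * e := by rw [h]

/-- Two braided commuting involutions whose product commutes with `e` are equal. -/
theorem eq_of_two {a b e : G} (ha : a * a = 1) (hb : b * b = 1) (he : e * e = 1)
    (_hab : Commute a b) (h1 : e * a * e = a * e * a) (h2 : e * b * e = b * e * b)
    (h3 : Commute e (a * b)) : a = b := by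
  have h4 := conj_of_commute he h3
  have h5 : a * b = 1 := by
    calc a * b = e * (a * b) * e := h4.symm
      _ = (e * a * e) * (e * b * e) := by
          rw [show (e * a * e) * (e * b * e) = e * a * (e * e) * b * e by group, he]; group
      _ = (a * e * a) * (b * e * b) := by rw [h1, h2]
      _ = a * (e * (a * b) * e) * b := by group
      _ = a * (a * b) * b := by rw [h4]
      _ = (a * a) * (b * b) := by group
      _ = 1 := by rw [ha, hb, one_mul]
  have hbi : b⁻¹ = b := inv_eq_of_mul_eq_one_right hb
  rw [← hbi]
  exact eq_inv_of_mul_eq_one_left h5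

/-- Three braided pairwise commuting involutions: `e` commutes with `a * b`. -/
theorem commute_of_three {a b c e : G} (_ha : a * a = 1) (hb : b * b = 1) (hc : c * c = 1)
    (he : e * e = 1)
    (hab : Commute a b) (hac : Commute a c) (hbc : Commute b c)
    (h1 : e * a * e = a * e * a) (h2 : e * b * e = b * e * b) (h3 : e * c * e = c * e * c)
    (h : Commute e (a * b * c)) : Commute e (a * b) := by
  have hab' : a * b = b * a := hab
  have hac' : a * c = c * a := hac
  have hbc' : b * c = c * b := hbc
  have h4 := conj_of_commute he h
  -- e (ab) e (bc) e = b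
  have k1 : e * (a * b) * e * (b * c) * e = b := by
    have : a * (e * (a * b) * e * (b * c) * e) * c = a * b * c := by
      calc a * (e * (a * b) * e * (b * c) * e) * c
          = (a * e * a) * (b * e * b) * (c * e * c) := by group
        _ = (e * a * e) * (e * b * e) * (e * c * e) := by rw [h1, h2, h3]
        _ = e * a * (e * e) * b * (e * e) * c * e := by group
        _ = e * (a * b * c) * e := by rw [he]; group
        _ = a * b * c := h4
    have h5 : e * (a * b) * e * (b * c) * e = a⁻¹ * (a * b * c) * c⁻¹ := by
      rw [← this]; group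
    rw [h5]; group
  -- e (ab) e (ac) e = a   (swap roles of a and b)
  have k2 : e * (a * b) * e * (a * c) * e = a := by
    have : b * (e * (b * a) * e * (a * c) * e) * c = b * a * c := by
      calc b * (e * (b * a) * e * (a * c) * e) * c
          = (b * e * b) * (a * e * a) * (c * e * c) := by group
        _ = (e * b * e) * (e * a * e) * (e * c * e) := by rw [h1, h2, h3]
        _ = e * b * (e * e) * a * (e * e) * c * e := by group
        _ = e * (b * a * c) * e := by rw [he]; group
        _ = b * a * c := by rw [← hab']; exact h4
    have h5 : e * (b * a) * e * (a * c) * e = b⁻¹ * (b * a * c) * c⁻¹ := by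
      rw [← this]; group
    rw [hab', h5]; group
  -- combine
  apply commute_of_conj he
  have hei : e⁻¹ = e := inv_eq_of_mul_eq_one_right he
  have hbi : b⁻¹ = b := inv_eq_of_mul_eq_one_right hb
  have hci : c⁻¹ = c := inv_eq_of_mul_eq_one_right hc
  have k3 : b⁻¹ * a = e * (b * c)⁻¹ * (a * c) * e := by
    calc b⁻¹ * a = (e * (a * b) * e * (b * c) * e)⁻¹ * (e * (a * b) * e * (a * c) * e) := by
          rw [k1, k2]
      _ = e⁻¹ * (b * c)⁻¹ * (a * c) * e := by group
      _ = e * (b * c)⁻¹ * (a * c) * e := by rw [hei]
  have k4 : (b * c)⁻¹ * (a * c) = a * b := by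
    rw [mul_inv_rev, hbi, hci]
    calc c * b * (a * c) = c * (b * a) * c := by group
      _ = c * (a * b) * c := by rw [hab']
      _ = (c * a) * (b * c) := by group
      _ = (a * c) * (c * b) := by rw [hac', hbc']
      _ = a * (c * c) * b := by group
      _ = a * b := by rw [hc, mul_one]
  have k5 : e * (a * b) * e = b⁻¹ * a := by
    rw [k3, ← k4]; group
  rw [k5, hbi, hab']

/-- For three distinct, pairwise commuting members a, b, c of a set of 3-transpositions E, a member e of E centralises a * b * c if and only if it centralises each of a, b and c. -/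
theorem result {G : Type*} [Group G] {E : Set G} (hE : Cfsg.IsThreeTranspositionSet E) {a b c e : G} (ha : a ∈ E) (hb : b ∈ E) (hc : c ∈ E) (he : e ∈ E) (hab : a ≠ b) (hac : a ≠ c) (hbc : b ≠ c) (h₁ : Commute a b) (h₂ : Commute a c) (h₃ : Commute b c) : Commute e (a * b * c) ↔ (Commute e a ∧ Commute e b ∧ Commute e c) := by
  constructor
  · intro h
    have haa := sq_one_of_order (hE.1 a ha)
    have hbb := sq_one_of_order (hE.1 b hb)
    have hcc := sq_one_of_order (hE.1 c hc)
    have hee := sq_one_of_order (hE.1 e he)
    have Ba := fun hn => braid hee haa (hE.2 e he a ha) hn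
    have Bb := fun hn => braid hee hbb (hE.2 e he b hb) hn
    have Bc := fun hn => braid hee hcc (hE.2 e he c hc) hn
    have hbi : b⁻¹ = b := inv_eq_of_mul_eq_one_right hbb
    have hci : c⁻¹ = c := inv_eq_of_mul_eq_one_right hcc
    have hai : a⁻¹ = a := inv_eq_of_mul_eq_one_right haa
    -- the three "two-element" products
    have e_ab_of_c : Commute e c → Commute e (a * b) := by
      intro hcc'
      have : a * b = (a * b * c) * c⁻¹ := by group
      rw [this]
      exact h.mul_right hcc'.inv_right
    have e_ac_of_b : Commute e b → Commute e (a * c) := by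
      intro hb'
      have : a * c = (a * b * c) * b⁻¹ := by
        have h3' : b * c = c * b := h₃
        calc a * c = a * (c * b) * b⁻¹ := by group
          _ = a * (b * c) * b⁻¹ := by rw [h3']
          _ = (a * b * c) * b⁻¹ := by group
      rw [this]
      exact h.mul_right hb'.inv_right
    have e_bc_of_a : Commute e a → Commute e (b * c) := by
      intro ha'
      have : b * c = a⁻¹ * (a * b * c) := by group
      rw [this]
      exact ha'.inv_right.mul_right h
    by_cases ca : Commute e a <;> by_cases cb : Commute e b <;> by_cases cc : Commute e c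
    · exact ⟨ca, cb, cc⟩
    · -- only c fails
      exfalso; apply cc
      have : c = (a * b)⁻¹ * (a * b * c) := by group
      rw [this]
      exact (ca.mul_right cb).inv_right.mul_right h
    · -- only b fails
      exfalso; apply cb
      have h3' : b * c = c * b := h₃
      have : b = a⁻¹ * (a * b * c) * c⁻¹ := by group
      rw [this]
      exact (ca.inv_right.mul_right h).mul_right cc.inv_right
    · -- b, c fail
      exfalso
      exact hbc (eq_of_two hbb hcc hee h₃ (Bb cb) (Bc cc) (e_bc_of_a ca))
    · -- only a fails
      exfalso; apply ca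
      have : a = (a * b * c) * (b * c)⁻¹ := by group
      rw [this]
      exact h.mul_right (cb.mul_right cc).inv_right
    · -- a, c fail
      exfalso
      exact hac (eq_of_two haa hcc hee h₂ (Ba ca) (Bc cc) (e_ac_of_b cb))
    · -- a, b fail
      exfalso
      exact hab (eq_of_two haa hbb hee h₁ (Ba ca) (Bb cb) (e_ab_of_c cc))
    · -- all fail
      exfalso
      have hab' := commute_of_three haa hbb hcc hee h₁ h₂ h₃ (Ba ca) (Bb cb) (Bc cc) h
      exact hab (eq_of_two haa hbb hee h₁ (Ba ca) (Bb cb) hab')
  · rintro ⟨h1, h2, h3⟩
    exact (h1.mul_right h2).mul_right h3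

end Cfsg.Agent.S0437
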