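import Mathlib
import Cfsg.Statements.S0438

set_option autoImplicit false
open Cfsg

namespace Cfsg.Agent.S0438

/-- Let E be a set of 3-transpositions closed under conjugation, and x an involutory automorphism of the group mapping E to itself. If some a in E fails to commute with its image x a, then x fixes an element of E. -/
theorem result {G : Type*} [Group G] {E : Set G} (hE : Cfsg.IsThreeTranspositionSet E) (hconj : ∀ g : G, ∀ d ∈ E, g * d * g⁻¹ ∈ E) (x : G ≃* G) (hx : ∀ g : G, x (x g) = g) (hxE : ∀ d ∈ E, x d ∈ E) {a : G} (ha : a ∈ E) (h : ¬ Commute a (x a)) : ∃ d ∈ E, x d = d := by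
  set b := x a with hb
  have hbE : b ∈ E := hxE a ha
  have haa : a * a = 1 := by
    have := pow_orderOf_eq_one a
    rwa [hE.1 a ha, pow_two] at this
  have hbb : b * b = 1 := by
    have := pow_orderOf_eq_one b
    rwa [hE.1 b hbE, pow_two] at this
  have hai : a⁻¹ = a := inv_eq_of_mul_eq_one_right haa
  have hbi : b⁻¹ = b := inv_eq_of_mul_eq_one_right hbb
  have h3 : (a * b) ^ 3 = 1 := by
    rcases hE.2 a ha b hbE with h2 | h3
    · exfalso
      apply h
      show a * b = b * a
      have h1 : a * b * (a * b) = 1 := by rw [← pow_two]; exact h2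
      have h2' := eq_inv_of_mul_eq_one_left h1
      rw [mul_inv_rev, hai, hbi] at h2'
      exact h2'
    · exact h3
  -- braid relation
  have hbraid : a * b * a = b * a * b := by
    have h' : a * b * (a * b) * (a * b) = 1 := by rw [← h3, pow_succ, pow_two]
    have h1 : a * b * a * (b * a * b) = 1 := by rw [← h']; group
    have h2 := eq_inv_of_mul_eq_one_left h1
    rw [mul_inv_rev, mul_inv_rev, hai, hbi, ← mul_assoc] at h2
    exact h2
  refine ⟨a * b * a⁻¹, hconj a b hbE, ?_⟩
  rw [hai, map_mul, map_mul, ← hb, hb, hx a, ← hb]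
  exact hbraid.symm

end Cfsg.Agent.S0438
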