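import Mathlib
import Cfsg.Statements.S0439

set_option autoImplicit false
open Cfsg

namespace Cfsg.Agent.S0439

open Equiv Equiv.Perm

theorem same_case {α : Type*} [DecidableEq α] [Fintype α] (a b d : α) (hab : a ≠ b) (had : a ≠ d) :
    (swap a b * swap a d) ^ 2 = 1 ∨ (swap a b * swap a d) ^ 3 = 1 := by
  by_cases hbd : b = d
  · subst hbd
    left
    rw [swap_mul_self, one_pow]
  · right
    have := (isThreeCycle_swap_mul_swap_same hab had hbd).orderOf
    rw [← this]
    exact pow_orderOf_eq_one _

theorem swap_case {α : Type*} [DecidableEq α] [Fintype α] (a b c d : α) (hab : a ≠ b) (hcd : c ≠ d) :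
    (swap a b * swap c d) ^ 2 = 1 ∨ (swap a b * swap c d) ^ 3 = 1 := by
  by_cases hac : a = c
  · subst hac
    exact same_case a b d hab hcd
  by_cases had : a = d
  · subst had
    rw [swap_comm c a]
    exact same_case a b c hab (Ne.symm hcd)
  by_cases hbc : b = c
  · subst hbc
    rw [swap_comm a b]
    exact same_case b a d (Ne.symm hab) hcd
  by_cases hbd : b = d
  · subst hbd
    rw [swap_comm a b, swap_comm c b]
    exact same_case b a c (Ne.symm hab) (Ne.symm hcd)
  left
  have hdisj : Perm.Disjoint (swap a b) (swap c d) := by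
    intro x
    by_cases hxa : x = a
    · right
      subst hxa
      exact swap_apply_of_ne_of_ne hac had
    by_cases hxb : x = b
    · right
      subst hxb
      exact swap_apply_of_ne_of_ne hbc hbd
    left
    exact swap_apply_of_ne_of_ne hxa hxb
  have hcomm : Commute (swap a b) (swap c d) := hdisj.commute
  rw [hcomm.mul_pow, pow_two, pow_two, swap_mul_self, swap_mul_self, one_mul]

/-- In the symmetric group of degree n ≥ 2, the set of transpositions is a conjugacy class of 3-transpositions which generates the group. -/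
theorem result (n : ℕ) (hn : 2 ≤ n) : Cfsg.IsThreeTranspositionClass {σ : Equiv.Perm (Fin n) | σ.IsSwap} := by
  refine ⟨⟨?_, ?_⟩, ?_, ?_⟩
  · intro σ hσ
    exact hσ.orderOf
  · rintro σ ⟨a, b, hab, rfl⟩ τ ⟨c, d, hcd, rfl⟩
    exact swap_case a b c d hab hcd
  · have h01 : (⟨0, by omega⟩ : Fin n) ≠ ⟨1, by omega⟩ := by
      intro h
      have := congrArg Fin.val h
      simp at this
    refine ⟨swap ⟨0, by omega⟩ ⟨1, by omega⟩, ⟨_, _, h01, rfl⟩, ?_⟩
    ext σ
    show _ ↔ IsConj _ σ
    constructor
    · rintro ⟨a, b, hab, rfl⟩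
      exact isConj_swap h01 hab
    · intro hc
      rw [isConj_iff] at hc
      obtain ⟨c, hc⟩ := hc
      rw [← hc]
      refine ⟨c ⟨0, by omega⟩, c ⟨1, by omega⟩, ?_, ?_⟩
      · intro h; exact h01 (c.injective h)
      · rw [Equiv.swap_apply_apply]
  · exact closure_isSwap

end Cfsg.Agent.S0439
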