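import Cfsg.Statements.S0441
import Cfsg.Agent.Lib.Helper3.TT17

set_option autoImplicit false
open Cfsg

namespace Cfsg.Agent.S0441

/-- Fischer's rank-three property. Let a finite group be generated by a conjugacy class D of 3-transpositions, with non-abelian simple commutator subgroup. Then for a in D there are members of D other than a commuting with a and members not commuting with a, and the centraliser of a acts transitively on each of these two sets. -/
theorem result {G : Type*} [Group G] [Finite G] {D : Set G} (hD : Cfsg.IsThreeTranspositionClass D) (hsimple : IsSimpleGroup (commutator G)) (hnonab : ∃ x y : commutator G, x * y ≠ y * x) {a : G} (ha : a ∈ D) : (∃ b ∈ D, b ≠ a ∧ Commute a b) ∧ (∃ c ∈ D, ¬ Commute a c) ∧ (∀ b ∈ D, ∀ b' ∈ D, b ≠ a → b' ≠ a → Commute a b → Commute a b' → ∃ g : G, Commute g a ∧ g * b * g⁻¹ = b') ∧ (∀ c ∈ D, ∀ c' ∈ D, ¬ Commute a c → ¬ Commute a c' → ∃ g : G, Commute g a ∧ g * c * g⁻¹ = c') := by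
  classical
  have hT := Cfsg.Agent.Lib.Helper3.TT.TSet.of_class hD
  have hG : Cfsg.IsThreeTranspositionGroup D := ⟨hD.1, hT.conj, hD.2.2⟩
  have hna : ¬ ∀ x y : ↥(commutator G), x * y = y * x := by
    intro hh
    obtain ⟨x, y, hxy⟩ := hnonab
    exact hxy (hh x y)
  -- two members
  have hD2 : ∃ x ∈ D, ∃ y ∈ D, x ≠ y := by
    by_contra hcon
    push Not at hcon
    apply hna
    have hle : (⊤ : Subgroup G) ≤ Subgroup.zpowers a := by
      rw [← hD.2.2, Subgroup.closure_le]
      intro x hx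
      rw [hcon x hx a ha]
      exact Subgroup.mem_zpowers a
    intro x y
    apply Subtype.ext
    obtain ⟨i, hi⟩ := Subgroup.mem_zpowers_iff.mp (hle (Subgroup.mem_top (x : G)))
    obtain ⟨j, hj⟩ := Subgroup.mem_zpowers_iff.mp (hle (Subgroup.mem_top (y : G)))
    show (x : G) * (y : G) = (y : G) * (x : G)
    rw [← hi, ← hj, ← zpow_add, ← zpow_add, add_comm]
  have hq : Cfsg.IsQuasisimple ↥(commutator G) :=
    Cfsg.Agent.Lib.Helper2.isQuasisimple_of_simple hna
  have hn : (commutator G).Normal := inferInstance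
  have hLc : Cfsg.IsComponent (commutator G) := ⟨hn.isSubnormal, hq⟩
  have h2 : Cfsg.pCore 2 G ≤ Subgroup.center G := by
    by_contra hnc
    exact Cfsg.Agent.Lib.Helper3.TT.no_component_of_pCore_not_central hD (Or.inl rfl) hnc hLc
  have h3 : Cfsg.pCore 3 G ≤ Subgroup.center G := by
    by_contra hnc
    exact Cfsg.Agent.Lib.Helper3.TT.no_component_of_pCore_not_central hD (Or.inr rfl) hnc hLc
  -- width at least two
  have hw : ∃ x ∈ D, ∃ y ∈ D, x ≠ y ∧ Commute x y := by
    by_contra hcon
    push Not at hcon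
    have hw' : ∀ x ∈ D, ∀ y ∈ D, x * y = y * x → x = y := by
      intro x hx y hy hxy
      by_contra hne
      exact hcon x hx y hy hne hxy
    obtain ⟨T, hTn, hTp, hTe⟩ :=
      Cfsg.Agent.Lib.Helper3.TT.exists_normal_three hT hD.2.2 hw' ha
    have hTc : T ≤ Subgroup.center G := le_trans (Cfsg.Agent.Lib.Helper1.le_pCore hTn hTp) h3
    obtain ⟨x, hx, y, hy, hxy⟩ := hD2
    have hall : ∀ e ∈ D, e = a := by
      intro e he
      apply hw' e he a ha
      have hc := Subgroup.mem_center_iff.mp (hTc (hTe e he)) e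
      -- `e * (e * a) = (e * a) * e`
      calc e * a = e * (e * (e * a)) := by rw [← mul_assoc e e, hT.sq e he, one_mul]
        _ = e * ((e * a) * e) := by rw [hc]
        _ = (e * e) * a * e := by group
        _ = a * e := by rw [hT.sq e he, one_mul]
    exact hxy ((hall x hx).trans (hall y hy).symm)
  -- the commutator subgroup has index at most two
  have hcommD : ∀ b ∈ D, a * b ∈ commutator G := by
    intro b hb
    obtain ⟨g, hg⟩ := Cfsg.Agent.Lib.Helper3.TT.class_conj hD ha hb
    have e : a * b = a * g * a⁻¹ * g⁻¹ := by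
      rw [← hg, hT.inv ha]; group
    rw [e]
    exact Subgroup.commutator_mem_commutator (Subgroup.mem_top a) (Subgroup.mem_top g)
  have hi : (commutator G).index ≤ 2 := by
    have htop : Subgroup.zpowers a ⊔ commutator G = ⊤ := by
      rw [eq_top_iff, ← hD.2.2, Subgroup.closure_le]
      intro b hb
      have e : b = a * (a * b) := by rw [← mul_assoc, hT.sq a ha, one_mul]
      rw [e]
      exact Subgroup.mul_mem_sup (Subgroup.mem_zpowers a) (hcommD b hb)
    have h1 : (commutator G).index = (commutator G).relIndex (Subgroup.zpowers a) := by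
      rw [← Subgroup.relIndex_top_right, ← htop, Subgroup.relIndex_sup_right]
    have h2' : (commutator G).relIndex (Subgroup.zpowers a) ∣ Nat.card (Subgroup.zpowers a) :=
      Subgroup.relIndex_dvd_card _ _
    rw [Nat.card_zpowers, hT.orderOf_eq ha] at h2'
    rw [h1]
    exact Nat.le_of_dvd (by norm_num) h2'
  -- primitivity
  have hprim : Cfsg.IsPrimitiveUnderConj D := by
    refine ⟨fun x hx y hy => Cfsg.Agent.Lib.Helper3.TT.class_conj hD hx hy, hD2, ?_⟩
    intro B hBD hblk
    by_cases hs : B.Subsingleton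
    · left; exact hs
    · right
      exact Cfsg.Agent.Lib.Helper3.TT.block_eq_of_index_le_two hD hD2 h2 h3 hLc hi hBD hblk hs
  refine ⟨?_, ?_, ?_, ?_⟩
  · obtain ⟨x, hx, y, hy, hxy, hc⟩ := hw
    obtain ⟨g, hg⟩ := Cfsg.Agent.Lib.Helper3.TT.class_conj hD hx ha
    refine ⟨g * y * g⁻¹, hT.conj g y hy, ?_, ?_⟩
    · intro hh
      apply hxy
      rw [← hg] at hh
      have := mul_left_cancel (mul_right_cancel hh)
      exact this.symm
    · rw [← hg]
      show (g * x * g⁻¹) * (g * y * g⁻¹) = (g * y * g⁻¹) * (g * x * g⁻¹)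
      exact Cfsg.Agent.Lib.Helper3.TT.conj_comm_iff.mpr hc.eq
  · obtain ⟨e, he, hne⟩ := Cfsg.Agent.Lib.Helper3.TT.exists_not_comm hD hD2 ha
    exact ⟨e, he, fun hh => hne hh.eq.symm⟩
  · intro b hb b' hb' hbne hb'ne hab hab'
    obtain ⟨g, hg, hgb⟩ := Cfsg.Agent.Lib.Helper3.TT.trans_D hG hprim hw ha b hb b' hb' hbne hb'ne
      hab.eq.symm hab'.eq.symm
    exact ⟨g, hg, hgb⟩
  · intro c hc c' hc' hac hac'
    obtain ⟨g, hg, hgc⟩ := Cfsg.Agent.Lib.Helper3.TT.trans_A hG hprim hw ha c hc c' hc'
      (fun hh => hac hh.symm) (fun hh => hac' hh.symm)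
    exact ⟨g, Cfsg.Agent.Lib.Helper3.TT.Cd_comm hg, hgc⟩

end Cfsg.Agent.S0441
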