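import Mathlib
import Cfsg.Statements.S0442

set_option autoImplicit false
open Cfsg

namespace Cfsg.Agent.S0442

theorem key {G : Type*} [Group G] (a b : G) (ha : a * a = 1) (hb : b * b = 1) (m : ℕ) :
    a * (a * b) ^ m * a⁻¹ = ((a * b) ^ m)⁻¹ := by
  rw [← conj_pow, ← inv_pow]
  congr 1
  rw [eq_inv_iff_mul_eq_one]
  have hinv : a⁻¹ = a := inv_eq_of_mul_eq_one_right ha
  rw [hinv]
  calc a * (a * b) * a * (a * b) = (a * a) * b * (a * a) * b := by group
    _ = 1 := by rw [ha]; simp [hb]

theorem comm_even {G : Type*} [Group G] (a b : G) (ha : a * a = 1) (hb : b * b = 1) (m : ℕ)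
    (h : (a * b) ^ (2 * m) = 1) : Commute ((a * b) ^ m) a := by
  have h1 := key a b ha hb m
  have h2 : ((a * b) ^ m)⁻¹ = (a * b) ^ m := by
    rw [inv_eq_iff_mul_eq_one, ← pow_add, ← two_mul]; exact h
  rw [h2] at h1
  -- a * c * a⁻¹ = c
  show (a * b) ^ m * a = a * (a * b) ^ m
  have h3 : a * (a * b) ^ m = (a * b) ^ m * a := by
    rw [← mul_inv_eq_iff_eq_mul]; exact h1
  exact h3.symm

/-- A standard trick for producing elements of an involution centraliser: for an involution a and an element g, let b be the conjugate g⁻¹ * a * g. If a * b has odd order 2m + 1 then g * (a * b) ^ m commutes with a; if a * b has even order 2m then (a * b) ^ m and (a * (g * a * g⁻¹)) ^ m commute with a. -/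
theorem result {G : Type*} [Group G] (a g : G) (ha : orderOf a = 2) : (∀ m : ℕ, orderOf (a * (g⁻¹ * a * g)) = 2 * m + 1 → Commute (g * (a * (g⁻¹ * a * g)) ^ m) a) ∧ (∀ m : ℕ, orderOf (a * (g⁻¹ * a * g)) = 2 * m → Commute ((a * (g⁻¹ * a * g)) ^ m) a ∧ Commute ((a * (g * a * g⁻¹)) ^ m) a) := by
  have haa : a * a = 1 := by
    have := pow_orderOf_eq_one a
    rw [ha, pow_two] at this
    exact this
  have hinv : a⁻¹ = a := inv_eq_of_mul_eq_one_right haa
  have hbb : (g⁻¹ * a * g) * (g⁻¹ * a * g) = 1 := by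
    calc (g⁻¹ * a * g) * (g⁻¹ * a * g) = g⁻¹ * (a * a) * g := by group
      _ = 1 := by rw [haa]; group
  have hbb' : (g * a * g⁻¹) * (g * a * g⁻¹) = 1 := by
    calc (g * a * g⁻¹) * (g * a * g⁻¹) = g * (a * a) * g⁻¹ := by group
      _ = 1 := by rw [haa]; group
  constructor
  · intro m hm
    have hpow : (a * (g⁻¹ * a * g)) ^ (2 * m + 1) = 1 := by
      rw [← hm]; exact pow_orderOf_eq_one _
    set b := g⁻¹ * a * g with hb
    set c := (a * b) ^ m with hc
    have h1 : a * c * a⁻¹ = c⁻¹ := key a b haa hbb m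
    have h2 : c⁻¹ = (a * b) * c := by
      rw [inv_eq_iff_mul_eq_one, hc, ← pow_succ', ← pow_add]
      have : m + (m + 1) = 2 * m + 1 := by ring
      rw [this]; exact hpow
    -- c * a = a * c⁻¹
    have h3 : c * a = a * c⁻¹ := by
      rw [← h1, hinv]
      calc c * a = (a * a) * c * a := by rw [haa, one_mul]
        _ = a * (a * c * a) := by group
    show g * c * a = a * (g * c)
    calc g * c * a = g * (c * a) := by group
      _ = g * (a * ((a * b) * c)) := by rw [h3, h2]
      _ = g * ((a * a) * b * c) := by group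
      _ = g * (b * c) := by rw [haa, one_mul]
      _ = a * (g * c) := by rw [hb]; group
  · intro m hm
    have hpow : (a * (g⁻¹ * a * g)) ^ (2 * m) = 1 := by
      rw [← hm]; exact pow_orderOf_eq_one _
    refine ⟨comm_even a _ haa hbb m hpow, comm_even a _ haa hbb' m ?_⟩
    have hconj : a * (g * a * g⁻¹) = g * (a * (g⁻¹ * a * g))⁻¹ * g⁻¹ := by
      rw [mul_inv_rev, mul_inv_rev, mul_inv_rev, inv_inv, hinv]
      group
    rw [hconj, conj_pow, inv_pow, hpow]
    group

end Cfsg.Agent.S0442
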