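import Mathlib
import Cfsg.Statements.S0443

set_option autoImplicit false
open Cfsg

namespace Cfsg.Agent.S0443

/-- Two definitions of a 2-central involution agree: an element t of order 2 of a finite group lies in the centre of some Sylow 2-subgroup if and only if its centraliser contains some Sylow 2-subgroup. -/
theorem result {G : Type*} [Group G] [Finite G] (t : G) (ht : orderOf t = 2) : Cfsg.IsTwoCentralInvolution t ↔ ∃ P : Sylow 2 G, (P : Subgroup G) ≤ Subgroup.centralizer ({t} : Set G) := by
  have : Fact (Nat.Prime 2) := ⟨Nat.prime_two⟩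
  constructor
  · rintro ⟨_, P, htP, hP⟩
    refine ⟨P, fun x hx => ?_⟩
    rw [Subgroup.mem_centralizer_iff]
    intro y hy
    rw [Set.mem_singleton_iff] at hy
    subst hy
    exact (hP x hx).symm
  · rintro ⟨P, hP⟩
    have hcomm : ∀ x ∈ (P : Subgroup G), x * t = t * x := by
      intro x hx
      have := Subgroup.mem_centralizer_iff.mp (hP hx) t (Set.mem_singleton t)
      exact this.symm
    refine ⟨ht, P, ?_, hcomm⟩
    -- t ∈ P by maximality
    have hZ : IsPGroup 2 (Subgroup.zpowers t) := by
      rw [IsPGroup.iff_card]
      exact ⟨1, by rw [Nat.card_zpowers, ht, pow_one]⟩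
    have hnorm : Subgroup.zpowers t ≤ Subgroup.normalizer ((P : Subgroup G) : Set G) := by
      rw [Subgroup.zpowers_le]
      rw [Subgroup.mem_normalizer_iff]
      intro x
      constructor
      · intro hx
        have h1 : t * x * t⁻¹ = x := by
          rw [← hcomm x hx, mul_assoc, mul_inv_cancel, mul_one]
        rw [h1]; exact hx
      · intro hx
        have hx' := hcomm _ hx
        have h1 : t * x * t⁻¹ = x := by
          have : t * x * t⁻¹ * t = t * (t * x * t⁻¹) := hx'
          have h2 : t * x = t * (t * x * t⁻¹) := by
            rw [← this]; group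
          have h3 := mul_left_cancel h2
          exact h3.symm
        rw [h1] at hx; exact hx
    have hsup : IsPGroup 2 ((Subgroup.zpowers t ⊔ (P : Subgroup G) : Subgroup G)) :=
      IsPGroup.to_sup_of_normal_right' hZ P.2 hnorm
    have := P.is_maximal' hsup le_sup_right
    have h2 : Subgroup.zpowers t ≤ (P : Subgroup G) := by
      rw [← this]; exact le_sup_left
    exact h2 (Subgroup.mem_zpowers t)

end Cfsg.Agent.S0443
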