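import Mathlib
import Cfsg.Statements.S0445
import Cfsg.Agent.Lib.Helper4.SLCard

set_option autoImplicit false
open Cfsg

namespace Cfsg.Agent.S0445

open Matrix

abbrev F2 := ZMod 2

def toMat (a : Fin 4 → F2) (c : Fin 3 → F2) (D : Matrix (Fin 3) (Fin 3) F2) : Matrix (Fin 5) (Fin 5) F2 :=
  !![1, a 0, a 1, a 2, a 3;
     0, 1, 0, 0, 0;
     0, c 0, D 0 0, D 0 1, D 0 2;
     0, c 1, D 1 0, D 1 1, D 1 2;
     0, c 2, D 2 0, D 2 1, D 2 2]

theorem det_toMat (a : Fin 4 → F2) (c : Fin 3 → F2) (D : Matrix (Fin 3) (Fin 3) F2) :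
    (toMat a c D).det = D.det := by
  rw [Matrix.det_succ_column_zero]
  simp [Fin.sum_univ_succ, toMat]
  rw [Matrix.det_succ_row_zero]
  simp [Fin.sum_univ_succ, Matrix.submatrix]
  congr 1
  ext i j
  fin_cases i <;> fin_cases j <;> rfl

theorem toMat_comm (a : Fin 4 → F2) (c : Fin 3 → F2) (D : Matrix (Fin 3) (Fin 3) F2) :
    toMat a c D * Matrix.transvection 0 1 1 = Matrix.transvection 0 1 1 * toMat a c D := by
  unfold Matrix.transvection
  rw [mul_add, add_mul, mul_one, one_mul]
  congr 1
  ext i j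
  fin_cases i <;> fin_cases j <;> simp [toMat, Matrix.mul_apply, Matrix.single_apply]

theorem zmod2_cases (a : ZMod 2) : a = 0 ∨ a = 1 := by
  revert a
  decide

theorem eq_toMat (g : Matrix (Fin 5) (Fin 5) F2) (hdet : g.det = 1)
    (h : g * Matrix.transvection 0 1 1 = Matrix.transvection 0 1 1 * g) :
    g = toMat (fun j => g 0 j.succ) (fun i => g i.succ.succ 1) (fun i j => g i.succ.succ j.succ.succ) := by
  unfold Matrix.transvection at h
  rw [mul_add, add_mul, mul_one, one_mul] at h
  have h' := add_left_cancel h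
  have e : ∀ i j : Fin 5, (g * Matrix.single (0 : Fin 5) (1 : Fin 5) (1 : F2)) i j =
      (Matrix.single (0 : Fin 5) (1 : Fin 5) (1 : F2) * g) i j := fun i j => by rw [h']
  have e10 := e 1 1
  have e20 := e 2 1
  have e30 := e 3 1
  have e40 := e 4 1
  have e00 := e 0 1
  have r0 := e 0 0
  have r2 := e 0 2
  have r3 := e 0 3
  have r4 := e 0 4
  simp [Matrix.mul_apply, Matrix.single_apply] at e10 e20 e30 e40 e00 r0 r2 r3 r4
  have g00 : g 0 0 = 1 := by
    rcases (zmod2_cases (g 0 0)) with h0 | h1
    · exfalso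
      have : g.det = 0 := by
        apply Matrix.det_eq_zero_of_column_eq_zero 0
        intro i
        fin_cases i
        · exact h0
        · exact e10
        · exact e20
        · exact e30
        · exact e40
      rw [this] at hdet
      exact zero_ne_one hdet
    · exact h1
  have g11 : g 1 1 = 1 := by rw [← e00, g00]
  ext i j
  fin_cases i <;> fin_cases j <;> simp [toMat, g00, g11, e10, e20, e30, e40, ← r2, ← r3, ← r4]

theorem toMat_injective (a a' : Fin 4 → F2) (c c' : Fin 3 → F2) (D D' : Matrix (Fin 3) (Fin 3) F2)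
    (h : toMat a c D = toMat a' c' D') : a = a' ∧ c = c' ∧ D = D' := by
  have e : ∀ i j : Fin 5, toMat a c D i j = toMat a' c' D' i j := fun i j => by rw [h]
  refine ⟨?_, ?_, ?_⟩
  · ext j
    fin_cases j
    · exact e 0 1
    · exact e 0 2
    · exact e 0 3
    · exact e 0 4
  · ext j
    fin_cases j
    · exact e 2 1
    · exact e 3 1
    · exact e 4 1
  · ext i j
    fin_cases i <;> fin_cases j
    · exact e 2 2
    · exact e 2 3
    · exact e 2 4
    · exact e 3 2
    · exact e 3 3
    · exact e 3 4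
    · exact e 4 2
    · exact e 4 3
    · exact e 4 4

theorem card_SL3 : Nat.card (Matrix.SpecialLinearGroup (Fin 3) F2) = 168 := by
  have h := Cfsg.Agent.Lib.Helper4.card_SL_mul (F := F2) 3 (by norm_num)
  rw [Matrix.card_GL_field, Fin.prod_univ_three] at h
  simp at h
  rw [Nat.card_eq_fintype_card]
  exact h

/-- In the special linear group of dimension 5 over the field with two elements, the centraliser of a transvection has order 21504 = 2 ^ 7 · 168 (it is an extension of an extraspecial group of order 2 ^ 7 by the simple group of order 168). -/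
theorem result (s : Matrix.SpecialLinearGroup (Fin 5) (ZMod 2)) (hs : (s : Matrix (Fin 5) (Fin 5) (ZMod 2)) = Matrix.transvection 0 1 1) : Nat.card (Subgroup.centralizer ({s} : Set (Matrix.SpecialLinearGroup (Fin 5) (ZMod 2)))) = 21504 := by
  let f : (Fin 4 → F2) × (Fin 3 → F2) × Matrix.SpecialLinearGroup (Fin 3) F2 →
      Subgroup.centralizer ({s} : Set (Matrix.SpecialLinearGroup (Fin 5) (ZMod 2))) :=
    fun p => ⟨⟨toMat p.1 p.2.1 p.2.2.1, by rw [det_toMat]; exact p.2.2.2⟩, by
      refine Subgroup.mem_centralizer_iff.mpr ?_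
      intro h hh
      rw [Set.mem_singleton_iff] at hh
      subst hh
      apply Subtype.ext
      show (h : Matrix (Fin 5) (Fin 5) (ZMod 2)) * toMat p.1 p.2.1 p.2.2.1 =
        toMat p.1 p.2.1 p.2.2.1 * (h : Matrix (Fin 5) (Fin 5) (ZMod 2))
      rw [hs, toMat_comm]⟩
  have hf : Function.Bijective f := by
    constructor
    · rintro ⟨a, c, D⟩ ⟨a', c', D'⟩ h
      have h1 : toMat a c D.1 = toMat a' c' D'.1 := by
        have := congrArg (fun x : Subgroup.centralizer ({s} : Set (Matrix.SpecialLinearGroup (Fin 5) (ZMod 2))) =>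
          ((x : Matrix.SpecialLinearGroup (Fin 5) (ZMod 2)) : Matrix (Fin 5) (Fin 5) (ZMod 2))) h
        exact this
      obtain ⟨h1, h2, h3⟩ := toMat_injective _ _ _ _ _ _ h1
      rw [h1, h2, Subtype.ext h3]
    · rintro ⟨g, hg⟩
      rw [Subgroup.mem_centralizer_iff] at hg
      have hc := hg s rfl
      have hc' : (g : Matrix (Fin 5) (Fin 5) (ZMod 2)) * Matrix.transvection 0 1 1 =
          Matrix.transvection 0 1 1 * (g : Matrix (Fin 5) (Fin 5) (ZMod 2)) := by
        rw [← hs]
        have := congrArg (fun x : Matrix.SpecialLinearGroup (Fin 5) (ZMod 2) =>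
          (x : Matrix (Fin 5) (Fin 5) (ZMod 2))) hc
        exact this.symm
      have heq := eq_toMat g.1 g.2 hc'
      have hdet : Matrix.det (fun i j : Fin 3 => g.1 i.succ.succ j.succ.succ) = 1 := by
        have h1 := g.2
        rw [heq] at h1
        exact (det_toMat (fun j => g.1 0 j.succ) (fun i => g.1 i.succ.succ 1) _).symm.trans h1
      refine ⟨(fun j => g.1 0 j.succ, fun i => g.1 i.succ.succ 1,
        ⟨fun i j => g.1 i.succ.succ j.succ.succ, hdet⟩), ?_⟩
      apply Subtype.ext
      apply Subtype.ext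
      exact heq.symm
  rw [← Nat.card_congr (Equiv.ofBijective f hf), Nat.card_prod, Nat.card_prod, card_SL3]
  simp [Nat.card_eq_fintype_card]

end Cfsg.Agent.S0445
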