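import Mathlib
import Cfsg.Statements.S0446

set_option autoImplicit false
open Cfsg

namespace Cfsg.Agent.S0446

/-- Every finite group of even order contains a 2-central involution, i.e. an element of order 2 in the centre of some Sylow 2-subgroup. -/
theorem result {G : Type*} [Group G] [Finite G] (h : Even (Nat.card G)) : ∃ t : G, Cfsg.IsTwoCentralInvolution t := by
  have : Fact (Nat.Prime 2) := ⟨Nat.prime_two⟩
  obtain ⟨P⟩ : Nonempty (Sylow 2 G) := inferInstance
  have h2 : 2 ∣ Nat.card G := even_iff_two_dvd.mp h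
  have hPnt : Nontrivial (P : Subgroup G) := by
    have hcard := Sylow.card_eq_multiplicity P
    have hpos : 0 < (Nat.card G).factorization 2 :=
      Nat.Prime.factorization_pos_of_dvd Nat.prime_two Nat.card_pos.ne' h2
    have : 1 < Nat.card (P : Subgroup G) := by
      rw [hcard]
      exact Nat.one_lt_pow hpos.ne' (by norm_num)
    exact Finite.one_lt_card_iff_nontrivial.mp this
  have hcn : Nontrivial (Subgroup.center (P : Subgroup G)) := P.2.center_nontrivial
  have hpg : IsPGroup 2 (Subgroup.center (P : Subgroup G)) := P.2.to_subgroup _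
  obtain ⟨k, hk⟩ := IsPGroup.iff_card.mp hpg
  have hk0 : k ≠ 0 := by
    intro hk0
    rw [hk0, pow_zero] at hk
    have := Finite.one_lt_card_iff_nontrivial.mpr hcn
    omega
  have hdvd : 2 ∣ Nat.card (Subgroup.center (P : Subgroup G)) := by
    rw [hk]; exact dvd_pow_self 2 hk0
  obtain ⟨z, hz⟩ := exists_prime_orderOf_dvd_card' 2 hdvd
  refine ⟨((z : (P : Subgroup G)) : G), ?_, P, ?_, ?_⟩
  · rw [Subgroup.orderOf_coe, Subgroup.orderOf_coe]; exact hz
  · exact (z : (P : Subgroup G)).2
  · intro x hx
    have := Subgroup.mem_center_iff.mp z.2 ⟨x, hx⟩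
    exact congrArg (fun t : (P : Subgroup G) => (t : G)) this

end Cfsg.Agent.S0446
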