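import Mathlib
import Cfsg.Statements.S0481

set_option autoImplicit false
open Cfsg

namespace Cfsg.Agent.S0481

open scoped Pointwise

/-- Large extraspecial subgroups: let z be an involution of a finite group G whose centraliser C contains a normal 2-subgroup Q with centre of order 2 and all squares central, such that every element of G centralising Q lies in Q. Then C contains a Sylow 2-subgroup of G, and any involution of G whose centraliser contains a Sylow 2-subgroup of G is conjugate to z. -/
theorem result {G : Type*} [Group G] [Finite G] (z : G) (hz : orderOf z = 2) (Q : Subgroup G) (hQC : Q ≤ Subgroup.centralizer ({z} : Set G)) (hQn : ∀ g ∈ Subgroup.centralizer ({z} : Set G), ∀ q ∈ Q, g * q * g⁻¹ ∈ Q) (hQ2 : IsPGroup 2 Q) (hZ : Nat.card (Subgroup.center Q) = 2) (hsq : ∀ x : Q, x ^ 2 ∈ Subgroup.center Q) (hlarge : Subgroup.centralizer (Q : Set G) ≤ Q) : (∃ P : Sylow 2 G, (P : Subgroup G) ≤ Subgroup.centralizer ({z} : Set G)) ∧ ∀ u : G, orderOf u = 2 → (∃ P : Sylow 2 G, (P : Subgroup G) ≤ Subgroup.centralizer ({u}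 : Set G)) → IsConj z u := by
  have : Fact (Nat.Prime 2) := ⟨Nat.prime_two⟩
  have hz1 : z ≠ 1 := by
    intro h; rw [h, orderOf_one] at hz; omega
  -- z ∈ Q
  have hzQ : z ∈ Q := by
    apply hlarge
    rw [Subgroup.mem_centralizer_iff]
    intro q hq
    have := hQC hq
    rw [Subgroup.mem_centralizer_iff] at this
    exact (this z rfl).symm
  -- elements centralising Q are 1 or z
  have key : ∀ w : G, w ∈ Subgroup.centralizer (Q : Set G) → w = 1 ∨ w = z := by
    intro w hw
    have hwQ : w ∈ Q := hlarge hw
    rw [Subgroup.mem_centralizer_iff] at hw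
    have hwc : (⟨w, hwQ⟩ : Q) ∈ Subgroup.center Q := by
      rw [Subgroup.mem_center_iff]
      rintro ⟨q, hq⟩
      apply Subtype.ext
      exact hw q hq
    have hzc : (⟨z, hzQ⟩ : Q) ∈ Subgroup.center Q := by
      rw [Subgroup.mem_center_iff]
      rintro ⟨q, hq⟩
      apply Subtype.ext
      have := hQC hq
      rw [Subgroup.mem_centralizer_iff] at this
      exact (this z rfl).symm
    obtain ⟨y, -, hy⟩ := (Nat.card_eq_two_iff' (1 : Subgroup.center Q)).mp hZ
    by_cases hw1 : w = 1
    · left; exact hw1
    · right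
      have e1 : (⟨⟨w, hwQ⟩, hwc⟩ : Subgroup.center Q) = y := hy _ (fun h => hw1 (by
        have := congrArg (fun x : Subgroup.center Q => ((x : Q) : G)) h
        exact this))
      have e2 : (⟨⟨z, hzQ⟩, hzc⟩ : Subgroup.center Q) = y := hy _ (fun h => hz1 (by
        have := congrArg (fun x : Subgroup.center Q => ((x : Q) : G)) h
        exact this))
      have := congrArg (fun x : Subgroup.center Q => ((x : Q) : G)) (e1.trans e2.symm)
      exact this
  -- a Sylow subgroup containing Q
  obtain ⟨P, hQP⟩ := hQ2.exists_le_sylow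
  have hPz : (P : Subgroup G) ≤ Subgroup.centralizer ({z} : Set G) := by
    have hnt : Nontrivial (P : Subgroup G) :=
      ⟨⟨1, ⟨z, hQP hzQ⟩, fun h => hz1 (congrArg Subtype.val h).symm⟩⟩
    have hcn : Nontrivial (Subgroup.center (P : Subgroup G)) := P.2.center_nontrivial
    obtain ⟨w, hw1⟩ := exists_ne (1 : Subgroup.center (P : Subgroup G))
    have hwc : ∀ x ∈ (P : Subgroup G), x * ((w : (P : Subgroup G)) : G) = ((w : (P : Subgroup G)) : G) * x := by
      intro x hx
      have := Subgroup.mem_center_iff.mp w.2 ⟨x, hx⟩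
      exact congrArg Subtype.val this
    have hwQ : ((w : (P : Subgroup G)) : G) ∈ Subgroup.centralizer (Q : Set G) := by
      rw [Subgroup.mem_centralizer_iff]
      intro q hq
      exact hwc q (hQP hq)
    rcases key _ hwQ with h | h
    · exfalso
      apply hw1
      apply Subtype.ext
      apply Subtype.ext
      exact h
    · intro x hx
      rw [Subgroup.mem_centralizer_iff]
      rintro _ rfl
      rw [← h]
      exact (hwc x hx).symm
  refine ⟨⟨P, hPz⟩, ?_⟩
  rintro u hu ⟨P', hP'⟩
  obtain ⟨g, hg⟩ := MulAction.exists_smul_eq G P' P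
  have hu1 : u ≠ 1 := by
    intro h; rw [h, orderOf_one] at hu; omega
  -- g u g⁻¹ centralises P
  have hcent : g * u * g⁻¹ ∈ Subgroup.centralizer (Q : Set G) := by
    rw [Subgroup.mem_centralizer_iff]
    intro q hq
    have hqP : q ∈ ((g • P' : Sylow 2 G) : Subgroup G) := by rw [hg]; exact hQP hq
    rw [Sylow.coe_subgroup_smul, Subgroup.mem_pointwise_smul_iff_inv_smul_mem, MulAut.smul_def,
      ← map_inv, MulAut.conj_apply, inv_inv] at hqP
    have := hP' hqP
    rw [Subgroup.mem_centralizer_iff] at this
    have h2 := this u rfl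
    calc q * (g * u * g⁻¹) = g * ((g⁻¹ * q * g) * u) * g⁻¹ := by group
      _ = g * (u * (g⁻¹ * q * g)) * g⁻¹ := by rw [← h2]
      _ = _ := by group
  rcases key _ hcent with h | h
  · exfalso
    apply hu1
    have : u = g⁻¹ * (g * u * g⁻¹) * g := by group
    rw [this, h]; group
  · rw [isConj_iff]
    refine ⟨g⁻¹, ?_⟩
    rw [← h]; group

end Cfsg.Agent.S0481
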