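import Cfsg.Statements.S4419
import Mathlib
import Cfsg.Agent.Lib.Helper1.FrattiniP
import Cfsg.Agent.Lib.Helper1.FrattiniAction
import Cfsg.Agent.Lib.Helper1.PNilpotentLocal
import Cfsg.Agent.Lib.Helper1.PLengthOne
import Cfsg.Agent.Lib.Helper3.AutElemAb
-- import your own Cfsg.Agent.* helpers here

set_option autoImplicit false
open Cfsg

namespace Cfsg.Agent.S4419

open Cfsg.Agent.Lib.Helper1 Cfsg.Agent.Lib.Helper3
open scoped commutatorElement


/-- Metacyclic groups: closed under injective homomorphisms into them. -/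
theorem isMetacyclic_of_injective {H R : Type*} [Group H] [Group R] (f : H →* R)
    (hf : Function.Injective f) (hR : Cfsg.IsMetacyclic R) : Cfsg.IsMetacyclic H := by
  obtain ⟨N, hN, hNc, hQc⟩ := hR
  set φ : H →* R ⧸ N := (QuotientGroup.mk' N).comp f with hφ
  refine ⟨φ.ker, inferInstance, ?_, ?_⟩
  · -- `ker φ` embeds in `N`
    have hmem : ∀ h : φ.ker, f h ∈ N := by
      intro h
      have h1 : φ (h : H) = 1 := MonoidHom.mem_ker.1 h.2
      have h2 : (QuotientGroup.mk (f (h : H)) : R ⧸ N) = 1 := h1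
      exact (QuotientGroup.eq_one_iff _).1 h2
    let ψ : φ.ker →* N :=
      { toFun := fun h => ⟨f h, hmem h⟩
        map_one' := by apply Subtype.ext; simp
        map_mul' := by intro a b; apply Subtype.ext; simp }
    have hψ : Function.Injective ψ := by
      intro a b hab
      apply Subtype.ext
      apply hf
      exact congrArg Subtype.val hab
    exact isCyclic_of_injective ψ hψ
  · exact isCyclic_of_injective (QuotientGroup.kerLift φ) (QuotientGroup.kerLift_injective φ)


/-- A finite cyclic group of exponent dividing `p` has order dividing `p`. -/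
theorem card_dvd_of_isCyclic_of_exp {C : Type*} [Group C] [Finite C] [IsCyclic C] (p : ℕ)
    (hexp : ∀ c : C, c ^ p = 1) : Nat.card C ∣ p := by
  obtain ⟨g, hg⟩ := IsCyclic.exists_generator (α := C)
  rw [← orderOf_eq_card_of_forall_mem_zpowers hg]
  exact orderOf_dvd_of_pow_eq_one (hexp g)




/-- The Frattini quotient of a metacyclic `p`-group has order dividing `p ^ 2`. -/
theorem card_frattini_quotient_dvd {R : Type*} [Group R] [Finite R] (p : ℕ) [Fact p.Prime]
    (hR : IsPGroup p R) (hm : Cfsg.IsMetacyclic R) : Nat.card (R ⧸ frattini R) ∣ p ^ 2 := by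
  obtain ⟨N, hN, hNc, hQc⟩ := hm
  haveI := hN
  haveI := hNc
  haveI := hQc
  rw [← Subgroup.index_eq_card]
  have h1 : (frattini R).relIndex (N ⊔ frattini R) * (N ⊔ frattini R).index = (frattini R).index :=
    Subgroup.relIndex_mul_index le_sup_right
  rw [← h1, pow_two]
  apply Nat.mul_dvd_mul
  · rw [Subgroup.relIndex_sup_right]
    show ((frattini R).subgroupOf N).index ∣ p
    rw [Subgroup.index_eq_card]
    haveI : IsCyclic (↥N ⧸ (frattini R).subgroupOf N) :=
      isCyclic_of_surjective (QuotientGroup.mk' ((frattini R).subgroupOf N))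
        (QuotientGroup.mk'_surjective _)
    apply card_dvd_of_isCyclic_of_exp
    intro c
    induction c using QuotientGroup.induction_on with
    | H x =>
      rw [← QuotientGroup.mk_pow, QuotientGroup.eq_one_iff, Subgroup.mem_subgroupOf]
      exact pow_prime_mem_frattini_of_isPGroup p hR (x : R)
  · rw [Subgroup.index_eq_card]
    haveI : IsCyclic (R ⧸ (N ⊔ frattini R)) :=
      isCyclic_of_surjective (QuotientGroup.map N (N ⊔ frattini R) (MonoidHom.id R)
        (by intro x hx; exact le_sup_left (a := N) hx))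
        (by
          intro y
          induction y using QuotientGroup.induction_on with
          | H x => exact ⟨QuotientGroup.mk x, rfl⟩)
    apply card_dvd_of_isCyclic_of_exp
    intro c
    induction c using QuotientGroup.induction_on with
    | H x =>
      rw [← QuotientGroup.mk_pow, QuotientGroup.eq_one_iff]
      exact le_sup_right (a := N) (pow_prime_mem_frattini_of_isPGroup p hR x)




theorem map_frattini_aut {A : Type*} [Group A] (e : A ≃* A) :
    (frattini A).map (e : A →* A) = frattini A := by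
  have := OrderIso.map_radical e.mapSubgroup
  exact this


/-- Automorphisms act on the Frattini quotient. -/
noncomputable def autFrattini (A : Type*) [Group A] : MulAut A →* MulAut (A ⧸ frattini A) where
  toFun e := QuotientGroup.congr (frattini A) (frattini A) e (map_frattini_aut e)
  map_one' := by
    ext v
    induction v using QuotientGroup.induction_on with
    | H u => simp
  map_mul' := by
    intro g h
    ext v
    induction v using QuotientGroup.induction_on with
    | H u => simp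


theorem autFrattini_mk (A : Type*) [Group A] (e : MulAut A) (u : A) :
    autFrattini A e (QuotientGroup.mk u) = QuotientGroup.mk (e u) := rfl


/-- The action of the normalizer of `Q` on the Frattini quotient of `Q`. -/
noncomputable def normAct {G : Type*} [Group G] (Q : Subgroup G) :
    Subgroup.normalizer (Q : Set G) →* MulAut (↥Q ⧸ frattini ↥Q) :=
  (autFrattini ↥Q).comp Q.normalizerMonoidHom


theorem normAct_eq_one {G : Type*} [Group G] (Q : Subgroup G)
    (y : Subgroup.normalizer (Q : Set G)) (h : normAct Q y = 1) :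
    ∀ k ∈ Q, (y : G) * k * (y : G)⁻¹ * k⁻¹ ∈ (frattini ↥Q).map Q.subtype := by
  intro k hk
  have h1 := DFunLike.congr_fun h (QuotientGroup.mk ⟨k, hk⟩)
  rw [MulAut.one_apply] at h1
  have h1' : (QuotientGroup.mk (Q.normalizerMonoidHom y ⟨k, hk⟩) : ↥Q ⧸ frattini ↥Q) =
      QuotientGroup.mk ⟨k, hk⟩ := h1
  have h2 := QuotientGroup.eq.1 h1'.symm
  have h3 : (⟨k, hk⟩ : Q) * ((⟨k, hk⟩ : Q)⁻¹ * Q.normalizerMonoidHom y ⟨k, hk⟩) * (⟨k, hk⟩ : Q)⁻¹
      ∈ frattini ↥Q := (inferInstance : (frattini ↥Q).Normal).conj_mem _ h2 _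
  refine ⟨_, h3, ?_⟩
  simp [Subgroup.normalizerMonoidHom_apply_apply_coe]




/-- The automorphism group of the Frattini quotient of a `p`-group. -/
theorem card_mulAut_frattini_quotient_dvd {R : Type*} [Group R] [Finite R] (p : ℕ) [Fact p.Prime]
    (hR : IsPGroup p R) (d : ℕ) (hd : Nat.card (R ⧸ frattini R) = p ^ d) :
    Nat.card (MulAut (R ⧸ frattini R)) ∣ ∏ i ∈ Finset.range d, (p ^ d - p ^ i) := by
  have hcomm : ∀ a b : R ⧸ frattini R, a * b = b * a := by
    intro a b
    induction a using QuotientGroup.induction_on with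
    | H a =>
      induction b using QuotientGroup.induction_on with
      | H b =>
        rw [← QuotientGroup.mk_mul, ← QuotientGroup.mk_mul, QuotientGroup.eq]
        have h1 : ⁅b⁻¹, a⁻¹⁆ ∈ commutator R :=
          Subgroup.commutator_mem_commutator (Subgroup.mem_top _) (Subgroup.mem_top _)
        have h2 := commutator_le_frattini_of_isPGroup p hR h1
        convert h2 using 1
        simp [commutatorElement_def, mul_assoc]
  letI : CommGroup (R ⧸ frattini R) := { (inferInstance : Group (R ⧸ frattini R)) with mul_comm := hcomm }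
  apply card_mulAut_dvd_of_elementary p d
  · intro v
    induction v using QuotientGroup.induction_on with
    | H x =>
      rw [← QuotientGroup.mk_pow, QuotientGroup.eq_one_iff]
      exact pow_prime_mem_frattini_of_isPGroup p hR x
  · exact hd


/-- The arithmetic of `|GL_d(p)|` for `d ≤ 2`. -/
theorem prod_dvd (p d : ℕ) (hp : 1 ≤ p) (hd : d ≤ 2) :
    ∏ i ∈ Finset.range d, (p ^ d - p ^ i) ∣ (p ^ 2 - 1) * (p * (p ^ 2 - 1)) := by
  obtain ⟨k, rfl⟩ : ∃ k, p = k + 1 := ⟨p - 1, by omega⟩
  have e1 : (k + 1) ^ 2 - 1 = k * (k + 2) := by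
    have : (k + 1) ^ 2 = k * (k + 2) + 1 := by ring
    omega
  interval_cases d
  · simp
  · simp only [Finset.prod_range_one, pow_one, pow_zero]
    rw [e1]
    have : k + 1 - 1 = k := by omega
    rw [this]
    exact (Dvd.intro (k + 2) rfl).mul_right _
  · rw [Finset.prod_range_succ, Finset.prod_range_one, pow_zero, pow_one]
    apply Nat.mul_dvd_mul dvd_rfl
    have e2 : (k + 1) ^ 2 - (k + 1) = (k + 1) * k := by
      have : (k + 1) ^ 2 = (k + 1) * k + (k + 1) := by ring
      omega
    rw [e1, e2]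
    exact Dvd.intro (k + 2) (by ring)




/-- An element of `O_{p'}(G)` normalizing a `p`-subgroup centralizes it. -/
theorem centralizes_of_mem_pPrimeCore {G : Type*} [Group G] [Finite G] (p : ℕ) [Fact p.Prime]
    (Q : Subgroup G) (hQ : IsPGroup p Q) (y : G) (hy : y ∈ Subgroup.normalizer (Q : Set G))
    (hyK : y ∈ Cfsg.pPrimeCore p G) : y ∈ Subgroup.centralizer (Q : Set G) := by
  have hp : p.Prime := Fact.out
  haveI hKn : (Cfsg.pPrimeCore p G).Normal := inferInstance
  have hdisj : Q ⊓ Cfsg.pPrimeCore p G = ⊥ := by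
    apply (Subgroup.disjoint_of_coprime_natCard _).eq_bot
    obtain ⟨k, hk⟩ := IsPGroup.iff_card.1 hQ
    rw [hk]
    exact Nat.Coprime.pow_left k (Nat.Coprime.symm (pPrimeCore_card_coprime p))
  rw [Subgroup.mem_centralizer_iff]
  intro k hk
  have h1 : y * k * y⁻¹ ∈ Q := (Subgroup.mem_normalizer_iff.1 hy k).1 hk
  have h2 : y * k * y⁻¹ * k⁻¹ ∈ Q := Q.mul_mem h1 (Q.inv_mem hk)
  have h3 : y * k * y⁻¹ * k⁻¹ ∈ Cfsg.pPrimeCore p G := by
    have : y * k * y⁻¹ * k⁻¹ = y * (k * y⁻¹ * k⁻¹) := by group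
    rw [this]
    exact Subgroup.mul_mem _ hyK (hKn.conj_mem _ (Subgroup.inv_mem _ hyK) k)
  have h4 : y * k * y⁻¹ * k⁻¹ ∈ Q ⊓ Cfsg.pPrimeCore p G := ⟨h2, h3⟩
  rw [hdisj, Subgroup.mem_bot] at h4
  calc k * y = (y * k * y⁻¹ * k⁻¹)⁻¹ * (y * k) := by group
    _ = y * k := by rw [h4, inv_one, one_mul]


/-- A `p'`-element of `O_{p',p}(G)` lies in `O_{p'}(G)`. -/
theorem mem_pPrimeCore_of_mem_pPrimePCore {G : Type*} [Group G] [Finite G] (p : ℕ) [Fact p.Prime]
    (y : G) (hy : y ∈ Cfsg.pPrimePCore p G) (hyo : Nat.Coprime (orderOf y) p) :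
    y ∈ Cfsg.pPrimeCore p G := by
  have hp : p.Prime := Fact.out
  have h1 : (QuotientGroup.mk' (Cfsg.pPrimeCore p G) y) ∈ Cfsg.pCore p (G ⧸ Cfsg.pPrimeCore p G) := hy
  obtain ⟨j, hj⟩ := (pCore_isPGroup (G := G ⧸ Cfsg.pPrimeCore p G) p) ⟨_, h1⟩
  have hj' : (QuotientGroup.mk' (Cfsg.pPrimeCore p G) y) ^ p ^ j = 1 := congrArg Subtype.val hj
  have h2 : orderOf (QuotientGroup.mk' (Cfsg.pPrimeCore p G) y) ∣ p ^ j :=
    orderOf_dvd_of_pow_eq_one hj'
  have h3 : orderOf (QuotientGroup.mk' (Cfsg.pPrimeCore p G) y) ∣ orderOf y := orderOf_map_dvd _ y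
  have h4 : orderOf (QuotientGroup.mk' (Cfsg.pPrimeCore p G) y) = 1 := by
    apply Nat.eq_one_of_dvd_coprimes (Nat.Coprime.pow_right j hyo) h3 h2
  rw [orderOf_eq_one_iff] at h4
  exact (QuotientGroup.eq_one_iff y).1 h4




theorem pPrimePCore_normal' {G : Type*} [Group G] (p : ℕ) : (Cfsg.pPrimePCore p G).Normal := by
  unfold Cfsg.pPrimePCore
  haveI : (Cfsg.pCore p (G ⧸ Cfsg.pPrimeCore p G)).Normal := inferInstance
  infer_instance


/-- The main step: the Frobenius condition. -/
theorem frob_step {G : Type*} [Group G] [Finite G] (p : ℕ) [Fact p.Prime]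
    (hcop : Nat.Coprime (Nat.card (G ⧸ Cfsg.pPrimePCore p G)) (p ^ 2 - 1))
    (Q : Subgroup G) (hQ : IsPGroup p Q) (hQm : Cfsg.IsMetacyclic Q)
    (g : G) (hg : g ∈ Subgroup.normalizer (Q : Set G)) (hgo : Nat.Coprime (orderOf g) p) :
    g ∈ Subgroup.centralizer (Q : Set G) := by
  have hp : p.Prime := Fact.out
  haveI hLn : (Cfsg.pPrimePCore p G).Normal := pPrimePCore_normal' p
  set y : Subgroup.normalizer (Q : Set G) := ⟨g, hg⟩ with hy
  have hyo : orderOf y = orderOf g :=
    (orderOf_injective (Subgroup.subtype _) (Subgroup.subtype_injective _) y).symm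
  -- the order of the action on the Frattini quotient
  set m := orderOf (normAct Q y) with hm
  have hm1 : m ∣ orderOf g := hyo ▸ orderOf_map_dvd (normAct Q) y
  obtain ⟨d, hd2, hd⟩ := (Nat.dvd_prime_pow hp).1 (card_frattini_quotient_dvd p hQ hQm)
  have hm2 : m ∣ (p ^ 2 - 1) * (p * (p ^ 2 - 1)) :=
    (orderOf_dvd_natCard _).trans ((card_mulAut_frattini_quotient_dvd p hQ d hd).trans
      (prod_dvd p d hp.one_le hd2))
  -- the order modulo `O_{p',p}(G)`
  set a := orderOf (QuotientGroup.mk' (Cfsg.pPrimePCore p G) g) with ha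
  have ha1 : a ∣ orderOf g := orderOf_map_dvd _ g
  have ha2 : a ∣ Nat.card (G ⧸ Cfsg.pPrimePCore p G) := orderOf_dvd_natCard _
  have hap : Nat.Coprime a p := Nat.Coprime.coprime_dvd_left ha1 hgo
  have haq : Nat.Coprime a (p ^ 2 - 1) := Nat.Coprime.coprime_dvd_left ha2 hcop
  have ham : Nat.Coprime a m :=
    Nat.Coprime.coprime_dvd_right hm2 (haq.mul_right (hap.mul_right haq))
  -- `g ^ a` centralizes `Q`
  have h1 : g ^ a ∈ Subgroup.centralizer (Q : Set G) := by
    have hL : g ^ a ∈ Cfsg.pPrimePCore p G := by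
      rw [← QuotientGroup.eq_one_iff, QuotientGroup.mk_pow]
      exact pow_orderOf_eq_one _
    have hK := mem_pPrimeCore_of_mem_pPrimePCore p (g ^ a) hL
      (Nat.Coprime.coprime_dvd_left (orderOf_pow_dvd a) hgo)
    exact centralizes_of_mem_pPrimeCore p Q hQ _ (Subgroup.pow_mem _ hg a) hK
  -- `g ^ m` centralizes `Q`
  have h2 : g ^ m ∈ Subgroup.centralizer (Q : Set G) := by
    have hker : normAct Q (y ^ m) = 1 := by rw [map_pow]; exact pow_orderOf_eq_one _
    have hA : Subgroup.zpowers (g ^ m) ≤ Subgroup.normalizer (Q : Set G) := by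
      rw [Subgroup.zpowers_le]; exact Subgroup.pow_mem _ hg m
    have hcopA : (Nat.card (Subgroup.zpowers (g ^ m))).Coprime (Nat.card (frattini ↥Q)) := by
      rw [Nat.card_zpowers]
      obtain ⟨j, hj⟩ := IsPGroup.iff_card.1 (hQ.to_subgroup (frattini ↥Q))
      rw [hj]
      exact Nat.Coprime.pow_right j (Nat.Coprime.coprime_dvd_left (orderOf_pow_dvd m) hgo)
    have htriv : ∀ b ∈ Subgroup.zpowers (g ^ m), ∀ k ∈ Q,
        b * k * b⁻¹ * k⁻¹ ∈ (frattini ↥Q).map Q.subtype := by
      rintro b ⟨j, rfl⟩ k hk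
      have hker' : normAct Q ((y ^ m) ^ j) = 1 := by rw [map_zpow, hker, one_zpow]
      have := normAct_eq_one Q ((y ^ m) ^ j) hker' k hk
      simpa [hy] using this
    exact centralizes_of_trivial_on_frattini_quotient _ Q hA hcopA htriv
      (Subgroup.mem_zpowers (g ^ m))
  -- Bezout
  have hbez := Int.gcd_eq_gcd_ab (a : ℤ) (m : ℤ)
  have hgcd : Int.gcd (a : ℤ) (m : ℤ) = 1 := by
    rw [Int.gcd_natCast_natCast]; exact ham
  rw [hgcd] at hbez
  have hgeq : g = (g ^ a) ^ (Int.gcdA a m) * (g ^ m) ^ (Int.gcdB a m) := by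
    rw [← zpow_natCast, ← zpow_natCast, ← zpow_mul, ← zpow_mul, ← zpow_add, ← hbez]
    simp
  rw [hgeq]
  exact Subgroup.mul_mem _ (Subgroup.zpow_mem _ h1 _) (Subgroup.zpow_mem _ h2 _)




/-- With a normal `p`-complement, `O_{p',p}(G) = G`. -/
theorem pPrimePCore_eq_top {G : Type*} [Group G] [Finite G] (p : ℕ) [Fact p.Prime]
    (h : Cfsg.HasNormalPComplement p G) : Cfsg.pPrimePCore p G = ⊤ := by
  have hp : p.Prime := Fact.out
  obtain ⟨P, N, hNn, hc⟩ := h
  haveI := hNn
  have hNcard : Nat.card N = (P : Subgroup G).index := hc.index_eq_card.symm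
  have hNidx : N.index = Nat.card (P : Subgroup G) := hc.symm.index_eq_card
  have hNK : N ≤ Cfsg.pPrimeCore p G := by
    apply le_pPrimeCore hNn
    rw [hNcard]
    exact Nat.Coprime.symm ((Nat.Prime.coprime_iff_not_dvd hp).2 P.not_dvd_index)
  have hpg : IsPGroup p (G ⧸ Cfsg.pPrimeCore p G) := by
    obtain ⟨k, hk⟩ := IsPGroup.iff_card.1 P.isPGroup'
    have h1 : (Cfsg.pPrimeCore p G).index ∣ p ^ k := by
      rw [← hk, ← hNidx]
      exact Subgroup.index_dvd_of_le hNK
    obtain ⟨j, -, hj⟩ := (Nat.dvd_prime_pow hp).1 h1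
    rw [Subgroup.index_eq_card] at hj
    exact IsPGroup.of_card hj
  have htop : Cfsg.pCore p (G ⧸ Cfsg.pPrimeCore p G) = ⊤ := by
    rw [eq_top_iff]
    exact le_pCore inferInstance (hpg.to_subgroup ⊤)
  unfold Cfsg.pPrimePCore
  rw [htop, Subgroup.comap_top]


theorem main {G : Type*} [Group G] [Finite G] (p : ℕ) [Fact p.Prime] (S : Sylow p G)
    (hS : Cfsg.IsMetacyclic ↥(S : Subgroup G)) :
    Cfsg.HasNormalPComplement p G ↔
      Nat.Coprime (Nat.card (G ⧸ Cfsg.pPrimePCore p G)) (p ^ 2 - 1) := by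
  constructor
  · intro h
    rw [← Subgroup.index_eq_card, pPrimePCore_eq_top p h, Subgroup.index_top]
    exact Nat.coprime_one_left _
  · intro hcop
    rw [hasNormalPComplement_iff_frobeniusCondition]
    apply frobeniusCondition_of_sylow S
    intro Q hQS g hg hgo
    have hQ : IsPGroup p Q := S.isPGroup'.to_le hQS
    have hQm : Cfsg.IsMetacyclic Q :=
      isMetacyclic_of_injective (Subgroup.inclusion hQS) (Subgroup.inclusion_injective hQS) hS
    exact frob_step p hcop Q hQ hQm g hg hgo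





/-- Let p be a prime and G a finite group whose Sylow p-subgroups are metacyclic (a cyclic normal subgroup with cyclic quotient). Then G has a normal p-complement if and only if the order of G/O_{p′,p}(G) is coprime to p² − 1. -/
theorem result {G : Type*} [Group G] [Finite G] (p : ℕ) [Fact p.Prime] (S : Sylow p G) (hS : Cfsg.IsMetacyclic ↥(S : Subgroup G)) : Cfsg.HasNormalPComplement p G ↔ Nat.Coprime (Nat.card (G ⧸ Cfsg.pPrimePCore p G)) (p ^ 2 - 1) := by
  exact main p S hS

end Cfsg.Agent.S4419
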