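import Cfsg.Statements.S0499
import Mathlib
import Cfsg.Agent.S4419
-- import your own Cfsg.Agent.* helpers here

set_option autoImplicit false
open Cfsg

namespace Cfsg.Agent.S0499

open Cfsg.Agent.Lib.Helper1 Cfsg.Agent.Lib.Helper3 Cfsg.Agent.S4419


/-- an element normalizing a `p`-group `Q`, of order prime to `p`, and acting trivially on the Frattini
quotient centralizes `Q`. -/
theorem centralizes_of_normAct_eq_one {G : Type*} [Group G] [Finite G] (p : ℕ) [Fact p.Prime]
    (Q : Subgroup G) (hQ : IsPGroup p Q)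
    (g : G) (hg : g ∈ Subgroup.normalizer (Q : Set G)) (hgo : Nat.Coprime (orderOf g) p)
    (hker : normAct Q ⟨g, hg⟩ = 1) :
    g ∈ Subgroup.centralizer (Q : Set G) := by
  set y : Subgroup.normalizer (Q : Set G) := ⟨g, hg⟩ with hy
  have hA : Subgroup.zpowers g ≤ Subgroup.normalizer (Q : Set G) := by
    rw [Subgroup.zpowers_le]; exact hg
  have hcopA : (Nat.card (Subgroup.zpowers g)).Coprime (Nat.card (frattini ↥Q)) := by
    rw [Nat.card_zpowers]
    obtain ⟨j, hj⟩ := IsPGroup.iff_card.1 (hQ.to_subgroup (frattini ↥Q))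
    rw [hj]
    exact Nat.Coprime.pow_right j hgo
  have htriv : ∀ b ∈ Subgroup.zpowers g, ∀ k ∈ Q,
      b * k * b⁻¹ * k⁻¹ ∈ (frattini ↥Q).map Q.subtype := by
    rintro b ⟨j, rfl⟩ k hk
    have hker' : normAct Q (y ^ j) = 1 := by rw [map_zpow, hker, one_zpow]
    have := normAct_eq_one Q (y ^ j) hker' k hk
    simpa [hy] using this
  exact centralizes_of_trivial_on_frattini_quotient _ Q hA hcopA htriv
    (Subgroup.mem_zpowers g)


theorem prod_vals (d : ℕ) (hd : d ≤ 3) :
    ∏ i ∈ Finset.range d, (2 ^ d - 2 ^ i) ∣ 168 := by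
  interval_cases d <;> decide


theorem prod_vals' (d : ℕ) (hd : d ≤ 2) :
    ∏ i ∈ Finset.range d, (2 ^ d - 2 ^ i) ∣ 6 := by
  interval_cases d <;> decide


theorem prod_vals'' (d : ℕ) (hd : d ≤ 1) :
    ∏ i ∈ Finset.range d, (2 ^ d - 2 ^ i) ∣ 1 := by
  interval_cases d <;> decide




theorem frob {G : Type*} [Group G] [Finite G]
    (h12 : ¬ 12 ∣ Nat.card G) (h16 : ¬ 16 ∣ Nat.card G) (h56 : ¬ 56 ∣ Nat.card G) :
    FrobeniusCondition 2 G := by
  haveI : Fact (Nat.Prime 2) := ⟨Nat.prime_two⟩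
  intro Q hQ g hg hgo
  apply centralizes_of_normAct_eq_one 2 Q hQ g hg hgo
  set y : Subgroup.normalizer (Q : Set G) := ⟨g, hg⟩ with hy
  have hyo : orderOf y = orderOf g :=
    (orderOf_injective (Subgroup.subtype _) (Subgroup.subtype_injective _) y).symm
  set m := orderOf (normAct Q y) with hm
  have hm1 : m ∣ orderOf g := hyo ▸ orderOf_map_dvd (normAct Q) y
  have hmn : m ∣ Nat.card G := hm1.trans (orderOf_dvd_natCard g)
  have hm2 : Nat.Coprime m 2 := Nat.Coprime.coprime_dvd_left hm1 hgo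
  obtain ⟨j, hj⟩ := IsPGroup.iff_card.1 hQ
  have hjn : 2 ^ j ∣ Nat.card G := hj ▸ Subgroup.card_subgroup_dvd_card Q
  have hj3 : j ≤ 3 := by
    by_contra h
    push Not at h
    apply h16
    exact (pow_dvd_pow 2 (show 4 ≤ j by omega)).trans hjn
  have hfq : Nat.card (↥Q ⧸ frattini ↥Q) ∣ 2 ^ j := by
    rw [← hj, ← Subgroup.index_eq_card]
    exact Subgroup.index_dvd_card _
  obtain ⟨d, hdj, hd⟩ := (Nat.dvd_prime_pow Nat.prime_two).1 hfq
  have hmd : m ∣ ∏ i ∈ Finset.range d, (2 ^ d - 2 ^ i) :=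
    (orderOf_dvd_natCard _).trans (card_mulAut_frattini_quotient_dvd 2 hQ d hd)
  have hdn : 2 ^ d ∣ Nat.card G := (pow_dvd_pow 2 hdj).trans hjn
  -- 3 ∤ m
  have h3 : 2 ≤ d → Nat.Coprime m 3 := by
    intro h2d
    rw [Nat.coprime_comm, Nat.Prime.coprime_iff_not_dvd Nat.prime_three]
    intro h
    apply h12
    have h4 : 4 ∣ Nat.card G := (pow_dvd_pow 2 h2d).trans hdn
    have : 3 * 4 ∣ Nat.card G :=
      Nat.Coprime.mul_dvd_of_dvd_of_dvd (by decide) (h.trans hmn) h4
    simpa using this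
  have h7 : 3 ≤ d → Nat.Coprime m 7 := by
    intro h3d
    rw [Nat.coprime_comm, Nat.Prime.coprime_iff_not_dvd (by norm_num)]
    intro h
    apply h56
    have h8 : 8 ∣ Nat.card G := (pow_dvd_pow 2 h3d).trans hdn
    have : 7 * 8 ∣ Nat.card G :=
      Nat.Coprime.mul_dvd_of_dvd_of_dvd (by decide) (h.trans hmn) h8
    simpa using this
  have hm_one : m = 1 := by
    have hd3 : d ≤ 3 := hdj.trans hj3
    rcases Nat.lt_or_ge d 2 with hlt | hge
    · have := hmd.trans (prod_vals'' d (by omega))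
      exact Nat.dvd_one.1 this
    · rcases Nat.lt_or_ge d 3 with hlt3 | hge3
      · have h6 : m ∣ 2 * 3 := hmd.trans (prod_vals' d (by omega))
        have h3' : m ∣ 3 := Nat.Coprime.dvd_of_dvd_mul_left hm2 h6
        have : m ∣ 1 := Nat.Coprime.dvd_of_dvd_mul_left (h3 hge) (by simpa using h3')
        exact Nat.dvd_one.1 this
      · have h168 : m ∣ 8 * (3 * 7) := hmd.trans (prod_vals d hd3)
        have hm8 : Nat.Coprime m 8 := by
          have : (8 : ℕ) = 2 ^ 3 := by norm_num
          rw [this]; exact hm2.pow_right 3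
        have h21 : m ∣ 3 * 7 := Nat.Coprime.dvd_of_dvd_mul_left hm8 h168
        have h7' : m ∣ 7 := Nat.Coprime.dvd_of_dvd_mul_left (h3 hge) h21
        have : m ∣ 1 := Nat.Coprime.dvd_of_dvd_mul_left (h7 hge3) (by simpa using h7')
        exact Nat.dvd_one.1 this
  exact orderOf_eq_one_iff.1 hm_one




theorem not_simple_of_complement {G : Type*} [Group G] [Finite G] [IsSimpleGroup G]
    (hG : ¬ IsMulCommutative G) (h2 : Even (Nat.card G)) :
    ¬ Cfsg.HasNormalPComplement 2 G := by
  haveI : Fact (Nat.Prime 2) := ⟨Nat.prime_two⟩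
  rintro ⟨P, N, hN, hc⟩
  have h2' : 2 ∣ Nat.card G := even_iff_two_dvd.1 h2
  rcases hN.eq_bot_or_eq_top with h | h
  · -- G is a 2-group
    have hidx : (P : Subgroup G).index = 1 := by
      rw [hc.index_eq_card, h, Subgroup.card_bot]
    have hPtop : (P : Subgroup G) = ⊤ := Subgroup.index_eq_one.1 hidx
    have hGp : IsPGroup 2 G := by
      have := P.2
      rw [hPtop] at this
      exact this.of_equiv Subgroup.topEquiv
    haveI : Nontrivial G := IsSimpleGroup.toNontrivial
    have hcen := hGp.center_nontrivial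
    have hcn : (Subgroup.center G) ≠ ⊥ := by
      intro hb
      rw [hb] at hcen
      exact not_nontrivial _ hcen
    have hct : Subgroup.center G = ⊤ :=
      ((inferInstance : (Subgroup.center G).Normal).eq_bot_or_eq_top).resolve_left hcn
    apply hG
    refine ⟨⟨fun a b => ?_⟩⟩
    have ha : a ∈ Subgroup.center G := by rw [hct]; trivial
    exact (Subgroup.mem_center_iff.1 ha b).symm
  · have hcard : Nat.card (P : Subgroup G) = 1 := by
      have := hc.symm.index_eq_card
      rw [h, Subgroup.index_top] at this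
      exact this.symm
    have := P.dvd_card_of_dvd_card h2'
    rw [hcard] at this
    omega





/-- A non-abelian finite simple group of even order has order divisible by 12, 16 or 56. -/
theorem result {G : Type*} [Group G] [Finite G] [IsSimpleGroup G]
    (hG : ¬ IsMulCommutative G) (h2 : Even (Nat.card G)) :
    12 ∣ Nat.card G ∨ 16 ∣ Nat.card G ∨ 56 ∣ Nat.card G := by
  by_contra hcon
  push Not at hcon
  obtain ⟨h12, h16, h56⟩ := hcon
  exact not_simple_of_complement hG h2 (hasNormalPComplement_iff_frobeniusCondition.2 (frob h12 h16 h56))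

end Cfsg.Agent.S0499
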