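import Cfsg.Statements.S0502
import Mathlib
import Mathlib
import Cfsg.Agent.Lib.Helper3.PGroupFix
-- import your own Cfsg.Agent.* helpers here

set_option autoImplicit false
open Cfsg

namespace Cfsg.Agent.S0502

open Cfsg.Agent.Lib.Helper3
variable {S : Type*} [Group S]
variable {P : Type*} [Group P] [Finite P]


/-- The four-group generated by two commuting involutions. -/
def four (x y : S) (hx : x * x = 1) (hy : y * y = 1) (hc : x * y = y * x) : Subgroup S where
  carrier := {g | g = 1 ∨ g = x ∨ g = y ∨ g = x * y}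
  one_mem' := Or.inl rfl
  mul_mem' := by
    have h1 : x * (x * y) = y := by rw [← mul_assoc, hx, one_mul]
    have h2 : y * (x * y) = x := by rw [hc, ← mul_assoc, hy, one_mul]
    have h3 : x * y * x = y := by rw [hc, mul_assoc, hx, mul_one]
    have h4 : x * y * y = x := by rw [mul_assoc, hy, mul_one]
    have h5 : x * y * (x * y) = 1 := by rw [mul_assoc, h2, hx]
    have h6 : y * x = x * y := hc.symm
    rintro a b (rfl | rfl | rfl | rfl) (rfl | rfl | rfl | rfl) <;>
      simp only [Set.mem_setOf_eq, one_mul, mul_one, hx, hy, h1, h2, h3, h4, h5, h6, true_or, or_true]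
  inv_mem' := by
    have e1 : x⁻¹ = x := inv_eq_of_mul_eq_one_right hx
    have e2 : y⁻¹ = y := inv_eq_of_mul_eq_one_right hy
    rintro a (rfl | rfl | rfl | rfl)
    · simp
    · simp [e1]
    · simp [e2]
    · right; right; right
      rw [mul_inv_rev, e1, e2, hc]


theorem mem_four {x y : S} {hx : x * x = 1} {hy : y * y = 1} {hc : x * y = y * x} {g : S} :
    g ∈ four x y hx hy hc ↔ g = 1 ∨ g = x ∨ g = y ∨ g = x * y := Iff.rfl


theorem isKleinFour_four (x y : S) (hx : x * x = 1) (hy : y * y = 1) (hc : x * y = y * x)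
    (hx1 : x ≠ 1) (hy1 : y ≠ 1) (hxy : x ≠ y) : IsKleinFour (four x y hx hy hc) := by
  classical
  have hcar : ((four x y hx hy hc : Subgroup S) : Set S) = {1, x, y, x * y} := by
    ext g
    simp only [SetLike.mem_coe, mem_four, Set.mem_insert_iff, Set.mem_singleton_iff]
  have hxxy : x ≠ x * y := by
    intro h
    apply hy1
    have : x * 1 = x * y := by rw [mul_one]; exact h
    exact (mul_left_cancel this).symm
  have hyxy : y ≠ x * y := by
    intro h
    apply hx1
    have : 1 * y = x * y := by rw [one_mul]; exact h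
    exact (mul_right_cancel this).symm
  have h1xy : (1 : S) ≠ x * y := by
    intro h
    apply hxy
    have : x * x = x * y := by rw [hx]; exact h
    exact mul_left_cancel this
  have hcard : Nat.card (four x y hx hy hc) = 4 := by
    have e0 : Nat.card (four x y hx hy hc) = Set.ncard ((four x y hx hy hc : Subgroup S) : Set S) :=
      (Nat.card_coe_set_eq _)
    rw [e0, hcar]
    rw [Set.ncard_eq_toFinset_card']
    simp only [Set.toFinset_insert, Set.toFinset_singleton]
    rw [Finset.card_insert_of_notMem, Finset.card_insert_of_notMem, Finset.card_insert_of_notMem,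
      Finset.card_singleton]
    · simp [hyxy]
    · simp [hxy, hxxy]
    · simp [hx1.symm, hy1.symm, h1xy]
  refine ⟨hcard, ?_⟩
  haveI : Nontrivial (four x y hx hy hc) := by
    refine ⟨⟨⟨x, Or.inr (Or.inl rfl)⟩, 1, ?_⟩⟩
    intro h
    exact hx1 (congrArg Subtype.val h)
  rw [Monoid.exponent_eq_prime_iff Nat.prime_two]
  rintro ⟨g, hg⟩ hg1
  apply orderOf_eq_prime
  · apply Subtype.ext
    have hgg : g * g = 1 := by
      rcases hg with rfl | rfl | rfl | rfl
      · simp
      · exact hx
      · exact hy
      · rw [mul_assoc, ← mul_assoc y, ← hc, mul_assoc x, hy, mul_one, hx]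
    simp only [Subgroup.coe_pow, Subgroup.coe_one, pow_two]
    exact hgg
  · exact hg1




theorem exists_mem_ne_ne (H : Subgroup P) (h3 : 3 ≤ Nat.card H) (e : P) :
    ∃ x ∈ H, x ≠ 1 ∧ x ≠ e := by
  by_contra hcon
  push Not at hcon
  classical
  have hinj : Function.Injective (fun x : H => decide ((x : P) = 1)) := by
    intro x y hxy
    simp only [decide_eq_decide] at hxy
    by_cases hx : (x : P) = 1
    · have hy := hxy.mp hx
      exact Subtype.ext (hx.trans hy.symm)
    · have hy : (y : P) ≠ 1 := fun h => hx (hxy.mpr h)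
      have h1 := hcon x x.2 hx
      have h2 := hcon y y.2 hy
      exact Subtype.ext (h1.trans h2.symm)
  have := Nat.card_le_card_of_injective _ hinj
  simp at this
  omega


theorem exists_fixed (E : Subgroup P) [hEn : E.Normal] (hE : IsMulCommutative E)
    (hE2 : ∀ e ∈ E, e ^ 2 = 1) (hE8 : 8 ≤ Nat.card E) (u : P) (hu : u * u = 1) (e : P) :
    ∃ e' ∈ E, u * e' = e' * u ∧ e' ≠ 1 ∧ e' ≠ e := by
  have hcomm : ∀ x ∈ E, ∀ y ∈ E, x * y = y * x := by
    intro x hx y hy
    have := hE.is_comm.comm ⟨x, hx⟩ ⟨y, hy⟩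
    exact congrArg Subtype.val this
  have huinv : u⁻¹ = u := inv_eq_of_mul_eq_one_right hu
  have hconj : ∀ x ∈ E, u * x * u ∈ E := by
    intro x hx
    have := hEn.conj_mem x hx u
    rwa [huinv] at this
  let φ : E →* E := MonoidHom.mk' (fun x => ⟨x * (u * x * u), E.mul_mem x.2 (hconj x x.2)⟩) (by
    intro x y
    apply Subtype.ext
    simp only [Subgroup.coe_mul]
    have h1 := hcomm y y.2 (u * x * u) (hconj x x.2)
    have e1 : u * ((x : P) * y) * u = (u * x * u) * (u * y * u) := by
      have : (u * (x : P) * u) * (u * y * u) = u * x * (u * u) * y * u := by simp only [mul_assoc]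
      rw [this, hu, mul_one]; simp only [mul_assoc]
    calc (x : P) * y * (u * (x * y) * u) = x * (y * (u * x * u)) * (u * y * u) := by
          rw [e1]; simp only [mul_assoc]
      _ = x * ((u * x * u) * y) * (u * y * u) := by rw [h1]
      _ = x * (u * x * u) * (y * (u * y * u)) := by simp only [mul_assoc])
  have hφ : ∀ x : E, ((φ x : E) : P) = x * (u * x * u) := fun x => rfl
  set C := E ⊓ Subgroup.centralizer ({u} : Set P) with hC
  have hker : φ.ker.map E.subtype ≤ C := by
    rintro _ ⟨x, hx, rfl⟩
    refine Subgroup.mem_inf.mpr ⟨x.2, ?_⟩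
    rw [Subgroup.mem_centralizer_iff]
    intro h hh
    rw [Set.mem_singleton_iff] at hh
    subst hh
    rw [SetLike.mem_coe, MonoidHom.mem_ker] at hx
    have h1 : (x : P) * (h * x * h) = 1 := by
      rw [← hφ, hx]; rfl
    have h2 : (x : P) * x = 1 := by rw [← pow_two]; exact hE2 x x.2
    have h3 : h * (x : P) * h = x := by
      have := h1.trans h2.symm
      exact mul_left_cancel this
    simp only [Subgroup.subtype_apply]
    calc h * (x : P) = (h * x * h) * h := by rw [mul_assoc, mul_assoc, hu, mul_one]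
      _ = x * h := by rw [h3]
  have hrange : φ.range.map E.subtype ≤ C := by
    rintro _ ⟨_, ⟨x, rfl⟩, rfl⟩
    refine Subgroup.mem_inf.mpr ⟨(φ x).2, ?_⟩
    rw [Subgroup.mem_centralizer_iff]
    intro h hh
    rw [Set.mem_singleton_iff] at hh
    subst hh
    simp only [Subgroup.subtype_apply, hφ]
    have h1 := hcomm x x.2 (h * x * h) (hconj x x.2)
    calc h * ((x : P) * (h * x * h)) = (h * x * h * x) * h := by simp only [mul_assoc]
      _ = (x * (h * x * h)) * h := by rw [h1]
      _ = x * (h * x * (h * h)) := by simp only [mul_assoc]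
      _ = x * (h * x * h) * h := by
        rw [hu, mul_one]
        have : (x : P) * (h * x * h) * h = x * (h * x * (h * h)) := by simp only [mul_assoc]
        rw [this, hu, mul_one]
  have hc1 : Nat.card φ.ker ≤ Nat.card C := by
    rw [← Subgroup.card_map_of_injective (E.subtype_injective)]
    exact Subgroup.card_le_of_le hker
  have hc2 : Nat.card φ.range ≤ Nat.card C := by
    rw [← Subgroup.card_map_of_injective (E.subtype_injective)]
    exact Subgroup.card_le_of_le hrange
  have hc3 : Nat.card E = Nat.card φ.ker * Nat.card φ.range := by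
    rw [← Subgroup.index_ker, Subgroup.card_mul_index]
  have hc4 : 3 ≤ Nat.card C := by
    by_contra hlt
    push Not at hlt
    have : Nat.card E ≤ 2 * 2 := by
      rw [hc3]
      exact Nat.mul_le_mul (by omega) (by omega)
    omega
  obtain ⟨e', he'C, h1, h2⟩ := exists_mem_ne_ne C hc4 e
  refine ⟨e', (Subgroup.mem_inf.mp he'C).1, ?_, h1, h2⟩
  have := (Subgroup.mem_inf.mp he'C).2
  rw [Subgroup.mem_centralizer_iff] at this
  exact this u rfl




/-- the relation -/
def R (A B : Subgroup P) : Prop :=
  IsKleinFour A ∧ IsKleinFour B ∧ ∀ a ∈ A, ∀ b ∈ B, a * b = b * a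


theorem R_symm {A B : Subgroup P} (h : R A B) : R B A := by
  obtain ⟨h1, h2, h3⟩ := h
  exact ⟨h2, h1, fun a ha b hb => (h3 b hb a ha).symm⟩


theorem rtg_symm {A B : Subgroup P} (h : Relation.ReflTransGen R A B) :
    Relation.ReflTransGen R B A := by
  induction h with
  | refl => exact Relation.ReflTransGen.refl
  | tail _ hbc ih => exact Relation.ReflTransGen.head (R_symm hbc) ih


theorem commute_four {x y : P} {hx : x * x = 1} {hy : y * y = 1} {hc : x * y = y * x} {a : P}
    (h1 : a * x = x * a) (h2 : a * y = y * a) : ∀ b ∈ four x y hx hy hc, a * b = b * a := by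
  rintro b (rfl | rfl | rfl | rfl)
  · simp
  · exact h1
  · exact h2
  · rw [← mul_assoc, h1, mul_assoc, h2, mul_assoc]


theorem step (hP : IsPGroup 2 P)
    (E : Subgroup P) [hEn : E.Normal] (hE : IsMulCommutative E) (hE2 : ∀ e ∈ E, e ^ 2 = 1)
    (hE8 : 8 ≤ Nat.card E) (U : Subgroup P) (hU : IsKleinFour U) :
    ∃ V : Subgroup P, V ≤ E ∧ IsKleinFour V ∧ Relation.ReflTransGen R U V := by
  haveI : Fact (Nat.Prime 2) := ⟨Nat.prime_two⟩
  have hcomm : ∀ x ∈ E, ∀ y ∈ E, x * y = y * x := by
    intro x hx y hy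
    have := hE.is_comm.comm ⟨x, hx⟩ ⟨y, hy⟩
    exact congrArg Subtype.val this
  have hU2 : IsPGroup 2 U := hP.to_subgroup U
  have hEp : IsPGroup 2 E := hP.to_subgroup E
  have hEne : E ≠ ⊥ := by
    intro h
    rw [h, Subgroup.card_bot] at hE8
    omega
  have hUN : U ≤ Subgroup.normalizer ((E : Subgroup P) : Set P) := by
    rw [Subgroup.normalizer_eq_top]; exact le_top
  have h1 := inf_centralizer_ne_bot_of_isPGroup 2 hEp hU2 hUN hEne
  obtain ⟨e, heI, he1⟩ : ∃ e ∈ E ⊓ Subgroup.centralizer (U : Set P), e ≠ 1 := by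
    by_contra hcon
    push Not at hcon
    exact h1 ((Subgroup.eq_bot_iff_forall _).mpr hcon)
  have heE : e ∈ E := (Subgroup.mem_inf.mp heI).1
  have heC : ∀ h ∈ U, h * e = e * h := by
    have := (Subgroup.mem_inf.mp heI).2
    rw [Subgroup.mem_centralizer_iff] at this
    exact this
  have hUcard : 3 ≤ Nat.card U := by rw [hU.card_four]; norm_num
  obtain ⟨u, huU, hu1, hue⟩ := exists_mem_ne_ne U hUcard e
  have hUmul : ∀ a ∈ U, a * a = 1 := by
    intro a ha
    have := IsKleinFour.mul_self (⟨a, ha⟩ : U)
    exact congrArg Subtype.val this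
  have hUcomm : ∀ a ∈ U, ∀ b ∈ U, a * b = b * a := by
    intro a ha b hb
    have := (IsKleinFour.isMulCommutative (G := U)).is_comm.comm ⟨a, ha⟩ ⟨b, hb⟩
    exact congrArg Subtype.val this
  have hu : u * u = 1 := hUmul u huU
  have he : e * e = 1 := by rw [← pow_two]; exact hE2 e heE
  have hue' : u * e = e * u := heC u huU
  obtain ⟨e', he'E, hue', he'1, he'e⟩ := exists_fixed E hE hE2 hE8 u hu e
  have he' : e' * e' = 1 := by rw [← pow_two]; exact hE2 e' he'E
  have hee' : e * e' = e' * e := hcomm e heE e' he'E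
  have hW : IsKleinFour (four u e hu he (heC u huU)) :=
    isKleinFour_four u e hu he _ hu1 he1 hue
  have hV : IsKleinFour (four e e' he he' hee') :=
    isKleinFour_four e e' he he' _ he1 he'1 (Ne.symm he'e)
  refine ⟨four e e' he he' hee', ?_, hV, ?_⟩
  · rintro g (rfl | rfl | rfl | rfl)
    · exact E.one_mem
    · exact heE
    · exact he'E
    · exact E.mul_mem heE he'E
  · refine Relation.ReflTransGen.trans (Relation.ReflTransGen.single
      (b := four u e hu he (heC u huU)) ?_) (Relation.ReflTransGen.single ?_)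
    · refine ⟨hU, hW, ?_⟩
      intro a ha
      exact commute_four (hUcomm a ha u huU) (heC a ha)
    · refine ⟨hW, hV, ?_⟩
      rintro a (rfl | rfl | rfl | rfl)
      · intro b _; simp
      · exact commute_four (heC a huU) hue'
      · exact commute_four rfl hee'
      · apply commute_four
        · exact (Commute.mul_left (show Commute u e from heC u huU) (Commute.refl e)).eq
        · exact (Commute.mul_left (show Commute u e' from hue') (show Commute e e' from hee')).eq




theorem final (hP : IsPGroup 2 P)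
    (E : Subgroup P) [E.Normal] (hE : IsMulCommutative E) (hE2 : ∀ e ∈ E, e ^ 2 = 1) (hE8 : 8 ≤ Nat.card E) :
    Cfsg.IsFourConnected P := by
  intro U V hU hV
  obtain ⟨U', hU'E, hU'4, hUU'⟩ := step hP E hE hE2 hE8 U hU
  obtain ⟨V', hV'E, hV'4, hVV'⟩ := step hP E hE hE2 hE8 V hV
  have hcomm : ∀ x ∈ E, ∀ y ∈ E, x * y = y * x := by
    intro x hx y hy
    have := hE.is_comm.comm ⟨x, hx⟩ ⟨y, hy⟩
    exact congrArg Subtype.val this
  have hmid : R U' V' := ⟨hU'4, hV'4, fun a ha b hb => hcomm a (hU'E ha) b (hV'E hb)⟩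
  have := (hUU'.tail hmid).trans (rtg_symm hVV')
  exact this





/-- If a finite 2-group has a normal elementary abelian subgroup of order at least 8, then any two of its Klein
four-subgroups are joined by a chain of Klein four-subgroups with consecutive members commuting elementwise. -/
theorem result {P : Type*} [Group P] [Finite P] (hP : IsPGroup 2 P)
    (E : Subgroup P) [E.Normal] (hE : IsMulCommutative E) (hE2 : ∀ e ∈ E, e ^ 2 = 1) (hE8 : 8 ≤ Nat.card E) :
    Cfsg.IsFourConnected P := by
  exact final hP E hE hE2 hE8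

end Cfsg.Agent.S0502
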