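import Cfsg.Statements.S0505
import Mathlib
import Cfsg.Agent.Lib.Helper8.CharP2

set_option autoImplicit false
open Cfsg

namespace Cfsg.Agent.S0505

/-- Let G be a finite group of even order in which the centralizer of every involution is solvable and has trivial
core (no nontrivial normal subgroup of odd order). Then G is of characteristic 2 type. -/
theorem result {G : Type*} [Group G] [Finite G]
    (h2 : Even (Nat.card G))
    (hs : ∀ t : G, orderOf t = 2 → Group.IsSolvable (Subgroup.centralizer ({t} : Set G)))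
    (hc : ∀ t : G, orderOf t = 2 → Cfsg.oddCore (Subgroup.centralizer ({t} : Set G)) = ⊥) :
    Cfsg.IsCharacteristicTwoType G := by
  classical
  haveI : Fact (Nat.Prime 2) := ⟨Nat.prime_two⟩
  refine ⟨h2, ?_⟩
  intro T hT hT1
  have key : ∀ t : G, orderOf t = 2 →
      Cfsg.Agent.Lib.Helper7.CharPIn 2 (Subgroup.centralizer ({t} : Set G)) := by
    intro t ht
    rw [Cfsg.Agent.Lib.Helper8.charPIn_iff_gfs]
    have hO : Cfsg.pPrimeCore 2 ↥(Subgroup.centralizer ({t} : Set G)) = ⊥ := hc t ht
    haveI hsol : Group.IsSolvable ↥(Subgroup.centralizer ({t} : Set G)) := hs t ht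
    have hL : Cfsg.layer ↥(Subgroup.centralizer ({t} : Set G)) = ⊥ := by
      unfold Cfsg.layer
      rw [eq_bot_iff]
      apply sSup_le
      intro L hLc
      exfalso
      have hs' : Group.IsSolvable ↥L :=
        Group.isSolvable_of_isSolvable_injective (Subgroup.subtype_injective L)
      have hpf : Group.IsPerfect ↥L := hLc.2.1
      have hne : Nontrivial ↥L :=
        (Subgroup.nontrivial_iff_ne_bot L).2 (Cfsg.Agent.Lib.Helper2.isComponent_ne_bot hLc)
      exact Group.IsPerfect.not_isSolvable ↥L hs'
    unfold Cfsg.generalizedFittingSubgroup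
    rw [hL, bot_sup_eq]
    exact Cfsg.Agent.Lib.Helper1.fittingSubgroup_eq_pCore_of_pPrimeCore_eq_bot 2 hO
  have h1 := Cfsg.Agent.Lib.Helper8.charPIn_normalizer_of_centralizers 2 key T hT hT1
  exact (Cfsg.Agent.Lib.Helper7.charPIn_iff 2 _).1 h1

end Cfsg.Agent.S0505
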