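import Cfsg.Statements.S0514
import Mathlib
import Cfsg.Agent.Lib.Helper3.Irrational
import Cfsg.Agent.Lib.Helper1.PNilpotentLocal
-- import your own Cfsg.Agent.* helpers here

set_option autoImplicit false
open Cfsg

namespace Cfsg.Agent.S0514

open Cfsg.Agent.Lib.Helper3 Cfsg.Agent.Lib.Helper1 Pointwise DihedralGroup


/-- iterated conjugation when the defect commutes with `g` -/
theorem conj_pow_of_defect {X : Type*} [Group X] (g q c : X) (h : g * q * g⁻¹ = q * c)
    (hc : g * c = c * g) (j : ℕ) : g ^ j * q * (g ^ j)⁻¹ = q * c ^ j := by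
  induction j with
  | zero => simp
  | succ j ih =>
    have e : g ^ (j + 1) * q * (g ^ (j + 1))⁻¹ = g * (g ^ j * q * (g ^ j)⁻¹) * g⁻¹ := by
      rw [pow_succ']; group
    rw [e, ih]
    have e2 : g * (q * c ^ j) * g⁻¹ = (g * q * g⁻¹) * (g * c ^ j * g⁻¹) := by group
    rw [e2, h]
    have hcj : g * c ^ j * g⁻¹ = c ^ j := by
      have : Commute g (c ^ j) := (show Commute g c from hc).pow_right j
      rw [this.eq]; group
    rw [hcj, pow_succ', mul_assoc]


/-- `F ≤ Q` of index at most two, `g` of odd order normalizing the `2`-group `Q` and centralizing `F`: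
then `g` centralizes `Q`. -/
theorem subL {X : Type*} [Group X] [Finite X] (Q F : Subgroup X) (hFQ : F ≤ Q)
    (hQ : IsPGroup 2 Q)
    (hmul : ∀ a ∈ Q, ∀ b ∈ Q, a ∉ F → b ∉ F → a * b ∈ F)
    (g : X) (hg : g ∈ Subgroup.normalizer (Q : Set X)) (hodd : Odd (orderOf g))
    (hF : ∀ f ∈ F, g * f = f * g) :
    ∀ q ∈ Q, g * q = q * g := by
  intro q hq
  by_cases hqF : q ∈ F
  · exact hF q hqF
  have hq' : g * q * g⁻¹ ∈ Q := (Subgroup.mem_normalizer_iff.1 hg q).1 hq
  have hq'F : g * q * g⁻¹ ∉ F := by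
    intro h
    apply hqF
    have h1 := hF _ h
    have h2 : g * q * g⁻¹ = q := by
      have : g * (g * q * g⁻¹) * g⁻¹ = g * q * g⁻¹ := by rw [h1]; group
      have h3 : g * q * g⁻¹ = q := by
        have := congrArg (fun z => g⁻¹ * z * g) this
        have e1 : g⁻¹ * (g * (g * q * g⁻¹) * g⁻¹) * g = g * q * g⁻¹ := by group
        have e2 : g⁻¹ * (g * q * g⁻¹) * g = q := by group
        rw [e1, e2] at this
        exact this
      exact h3
    rwa [h2] at h
  have hqinvF : q⁻¹ ∉ F := fun h => hqF (by simpa using F.inv_mem h)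
  have hc : q⁻¹ * (g * q * g⁻¹) ∈ F := hmul _ (Q.inv_mem hq) _ hq' hqinvF hq'F
  set c := q⁻¹ * (g * q * g⁻¹) with hcdef
  have h1 : g * q * g⁻¹ = q * c := by rw [hcdef]; group
  have h2 := conj_pow_of_defect g q c h1 (hF c hc) (orderOf g)
  rw [pow_orderOf_eq_one] at h2
  have h3 : c ^ orderOf g = 1 := by
    have : q = q * c ^ orderOf g := by simpa using h2
    exact (mul_eq_left (a := q)).1 this.symm
  obtain ⟨k, hk⟩ := hQ ⟨c, hFQ hc⟩
  have h4 : c ^ 2 ^ k = 1 := by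
    have := congrArg Subtype.val hk
    simpa using this
  have h5 : orderOf c ∣ orderOf g := orderOf_dvd_of_pow_eq_one h3
  have h6 : orderOf c ∣ 2 ^ k := orderOf_dvd_of_pow_eq_one h4
  have h7 : orderOf c = 1 := by
    have hcop : (orderOf g).Coprime (2 ^ k) := (Nat.coprime_two_right.2 hodd).pow_right k
    exact Nat.eq_one_of_dvd_coprimes hcop h5 h6
  have h8 : c = 1 := orderOf_eq_one_iff.1 h7
  rw [h8, mul_one] at h1
  have := congrArg (fun z => z * g) h1
  simpa using this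




/-- Case 1: some element of `Q` has order greater than two. -/
theorem lemmaA1 {X : Type*} [Group X] [Finite X] (Q : Subgroup X) (y : X) (hyQ : y ∈ Q)
    (hQ : IsPGroup 2 Q)
    (hinv : ∀ q ∈ Q, q ∉ Subgroup.zpowers y → q * q = 1)
    (hmul : ∀ a ∈ Q, ∀ b ∈ Q, a ∉ Subgroup.zpowers y → b ∉ Subgroup.zpowers y →
      a * b ∈ Subgroup.zpowers y)
    (g : X) (hg : g ∈ Subgroup.normalizer (Q : Set X)) (hodd : Odd (orderOf g))
    (x : X) (hxQ : x ∈ Q) (hx : x * x ≠ 1) :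
    ∀ q ∈ Q, g * q = q * g := by
  have hy2 : y * y ≠ 1 := by
    intro h
    apply hx
    have hx0 : x ∈ Subgroup.zpowers y := by
      by_contra h'
      exact hx (hinv x hxQ h')
    obtain ⟨k, rfl⟩ := hx0
    rw [← zpow_add, ← two_mul, zpow_mul, zpow_two, h, one_zpow]
  have hgy : g * y * g⁻¹ ∈ Subgroup.zpowers y := by
    by_contra h'
    have h1 := hinv _ ((Subgroup.mem_normalizer_iff.1 hg y).1 hyQ) h'
    apply hy2
    have e : g * y * g⁻¹ * (g * y * g⁻¹) = g * (y * y) * g⁻¹ := by group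
    rw [e] at h1
    have := congrArg (fun z => g⁻¹ * z * g) h1
    simpa [mul_assoc] using this
  have hgn : g ∈ Subgroup.normalizer ((Subgroup.zpowers y : Subgroup X) : Set X) :=
    (mem_normalizer_zpowers_iff g y).2 hgy
  obtain ⟨k, hk⟩ := (IsPGroup.iff_orderOf.1 hQ) ⟨y, hyQ⟩
  rw [Subgroup.orderOf_mk] at hk
  have hcomm : g * y = y * g := commute_of_mem_normalizer_zpowers_of_odd y g k hk hgn hodd
  refine subL Q (Subgroup.zpowers y) ?_ hQ hmul g hg hodd ?_
  · rw [Subgroup.zpowers_le]; exact hyQ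
  · rintro f ⟨j, rfl⟩
    exact ((show Commute g y from hcomm).zpow_right j).eq


/-- Case 2: `Q` has exponent two. -/
theorem lemmaA2 {X : Type*} [Group X] [Finite X] (Q : Subgroup X) (y : X) (hyQ : y ∈ Q)
    (hQ : IsPGroup 2 Q)
    (hmul : ∀ a ∈ Q, ∀ b ∈ Q, a ∉ Subgroup.zpowers y → b ∉ Subgroup.zpowers y →
      a * b ∈ Subgroup.zpowers y)
    (g : X) (hg : g ∈ Subgroup.normalizer (Q : Set X)) (hodd : Odd (orderOf g))
    (hexp : ∀ x ∈ Q, x * x = 1)
    (τ : X) (hτQ : τ ∈ Q) (hτ1 : τ ≠ 1) (hgτ : g * τ = τ * g) :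
    ∀ q ∈ Q, g * q = q * g := by
  have hcomm : ∀ a ∈ Q, ∀ b ∈ Q, a * b = b * a := by
    intro a ha b hb
    have h1 := hexp _ (Q.mul_mem ha hb)
    have h2 := hexp a ha
    have h3 := hexp b hb
    have ea : a⁻¹ = a := (eq_inv_of_mul_eq_one_left h2).symm
    have eb : b⁻¹ = b := (eq_inv_of_mul_eq_one_left h3).symm
    have eab : (a * b)⁻¹ = a * b := (eq_inv_of_mul_eq_one_left h1).symm
    rw [← eab, mul_inv_rev, ea, eb]
  have hz : ∀ a ∈ Subgroup.zpowers y, a = 1 ∨ a = y := by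
    rintro a ⟨k, rfl⟩
    rcases Int.even_or_odd' k with ⟨m, rfl | rfl⟩
    · left
      show y ^ (2 * m) = 1
      rw [zpow_mul, zpow_two, hexp y hyQ, one_zpow]
    · right
      show y ^ (2 * m + 1) = y
      rw [zpow_add, zpow_mul, zpow_two, hexp y hyQ, one_zpow, one_mul, zpow_one]
  have hτ2 := hexp τ hτQ
  have hτmem : ∀ f ∈ Subgroup.zpowers τ, f = 1 ∨ f = τ := by
    rintro a ⟨k, rfl⟩
    rcases Int.even_or_odd' k with ⟨m, rfl | rfl⟩
    · left
      show τ ^ (2 * m) = 1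
      rw [zpow_mul, zpow_two, hτ2, one_zpow]
    · right
      show τ ^ (2 * m + 1) = τ
      rw [zpow_add, zpow_mul, zpow_two, hτ2, one_zpow, one_mul, zpow_one]
  refine subL Q (Subgroup.zpowers τ) ?_ hQ ?_ g hg hodd ?_
  · rw [Subgroup.zpowers_le]; exact hτQ
  · intro a ha b hb haF hbF
    have ha1 : a ≠ 1 := fun h => haF (h ▸ Subgroup.one_mem _)
    have haτ : a ≠ τ := fun h => haF (h ▸ Subgroup.mem_zpowers _)
    have hb1 : b ≠ 1 := fun h => hbF (h ▸ Subgroup.one_mem _)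
    have hbτ : b ≠ τ := fun h => hbF (h ▸ Subgroup.mem_zpowers _)
    by_cases hτy : τ = y
    · subst hτy
      exact hmul a ha b hb haF hbF
    · have hτ0 : τ ∉ Subgroup.zpowers y := by
        intro h
        rcases hz τ h with h | h
        · exact hτ1 h
        · exact hτy h
      have key : ∀ c ∈ Q, c ≠ 1 → c ≠ τ → c = y ∨ c = τ * y := by
        intro c hc hc1 hcτ
        by_cases hc0 : c ∈ Subgroup.zpowers y
        · rcases hz c hc0 with h | h
          · exact absurd h hc1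
          · exact Or.inl h
        · rcases hz _ (hmul τ hτQ c hc hτ0 hc0) with h | h
          · exfalso
            apply hcτ
            have : c = τ⁻¹ := (eq_inv_of_mul_eq_one_right h)
            rw [this]
            exact (eq_inv_of_mul_eq_one_left hτ2).symm
          · right
            rw [← h, ← mul_assoc, hτ2, one_mul]
      have hy2 := hexp y hyQ
      have hτy' : τ * y = y * τ := hcomm τ hτQ y hyQ
      rcases key a ha ha1 haτ with h | h <;> rcases key b hb hb1 hbτ with h' | h'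
      · rw [h, h', hy2]; exact Subgroup.one_mem _
      · rw [h, h', hτy', ← mul_assoc, hy2, one_mul]; exact Subgroup.mem_zpowers _
      · rw [h, h', mul_assoc, hy2, mul_one]; exact Subgroup.mem_zpowers _
      · rw [h'] at hb
        rw [h, h', hexp _ hb]; exact Subgroup.one_mem _
  · intro f hf
    rcases hτmem f hf with rfl | rfl
    · simp
    · exact hgτ


theorem lemmaA {X : Type*} [Group X] [Finite X] (Q : Subgroup X) (y : X) (hyQ : y ∈ Q)
    (hQ : IsPGroup 2 Q)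
    (hinv : ∀ q ∈ Q, q ∉ Subgroup.zpowers y → q * q = 1)
    (hmul : ∀ a ∈ Q, ∀ b ∈ Q, a ∉ Subgroup.zpowers y → b ∉ Subgroup.zpowers y →
      a * b ∈ Subgroup.zpowers y)
    (g : X) (hg : g ∈ Subgroup.normalizer (Q : Set X)) (hodd : Odd (orderOf g))
    (τ : X) (hτQ : τ ∈ Q) (hτ1 : τ ≠ 1) (hgτ : g * τ = τ * g) :
    ∀ q ∈ Q, g * q = q * g := by
  by_cases hex : ∃ x ∈ Q, x * x ≠ 1
  · obtain ⟨x, hxQ, hx⟩ := hex
    exact lemmaA1 Q y hyQ hQ hinv hmul g hg hodd x hxQ hx
  · push Not at hex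
    exact lemmaA2 Q y hyQ hQ hmul g hg hodd hex τ hτQ hτ1 hgτ




theorem dihedral_struct {T : Type*} [Group T] (n : ℕ) [NeZero n] (e : T ≃* DihedralGroup n) :
    ∃ y : T, (∀ q : T, q ∉ Subgroup.zpowers y → q * q = 1) ∧
      (∀ a b : T, a ∉ Subgroup.zpowers y → b ∉ Subgroup.zpowers y → a * b ∈ Subgroup.zpowers y) := by
  have hrot : ∀ (q : T) (i : ZMod n), e q = r i → q ∈ Subgroup.zpowers (e.symm (r 1)) := by
    intro q i h
    refine ⟨(ZMod.cast i : ℤ), ?_⟩
    show (e.symm (r 1)) ^ (ZMod.cast i : ℤ) = q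
    rw [← map_zpow, r_one_zpow, ZMod.intCast_cast, ZMod.cast_id', id, ← h, e.symm_apply_apply]
  refine ⟨e.symm (r 1), ?_, ?_⟩
  · intro q hq
    rcases h : e q with i | i
    · exact absurd (hrot q i h) hq
    · apply e.injective
      rw [map_mul, h, sr_mul_self, map_one]
  · intro a b ha hb
    rcases h1 : e a with i | i
    · exact absurd (hrot a i h1) ha
    rcases h2 : e b with j | j
    · exact absurd (hrot b j h2) hb
    apply hrot (a * b) (j - i)
    rw [map_mul, h1, h2, sr_mul_sr]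


theorem sub_struct {X : Type*} [Group X] (T Q : Subgroup X) (hQT : Q ≤ T) (y : X)
    (hinv : ∀ q ∈ T, q ∉ Subgroup.zpowers y → q * q = 1)
    (hmul : ∀ a ∈ T, ∀ b ∈ T, a ∉ Subgroup.zpowers y → b ∉ Subgroup.zpowers y →
      a * b ∈ Subgroup.zpowers y) :
    ∃ y' ∈ Q, (∀ q ∈ Q, q ∉ Subgroup.zpowers y' → q * q = 1) ∧
      (∀ a ∈ Q, ∀ b ∈ Q, a ∉ Subgroup.zpowers y' → b ∉ Subgroup.zpowers y' →
        a * b ∈ Subgroup.zpowers y') := by
  have hcyc : IsCyclic ↥(Q ⊓ Subgroup.zpowers y) := Subgroup.isCyclic_of_le inf_le_right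
  obtain ⟨⟨y', hy'⟩, hgen⟩ := hcyc.exists_generator
  have heq : Q ⊓ Subgroup.zpowers y = Subgroup.zpowers y' := by
    apply le_antisymm
    · intro x hx
      obtain ⟨k, hk⟩ := hgen ⟨x, hx⟩
      refine ⟨k, ?_⟩
      have := congrArg Subtype.val hk
      simpa using this
    · rw [Subgroup.zpowers_le]; exact hy'
  refine ⟨y', hy'.1, ?_, ?_⟩
  · intro q hq hq'
    apply hinv q (hQT hq)
    intro h
    apply hq'
    rw [← heq]
    exact ⟨hq, h⟩
  · intro a ha b hb ha' hb'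
    rw [← heq] at ha' hb' ⊢
    refine ⟨Q.mul_mem ha hb, hmul a (hQT ha) b (hQT hb) (fun h => ha' ⟨ha, h⟩) (fun h => hb' ⟨hb, h⟩)⟩




theorem key {X : Type*} [Group X] [Finite X] (n : ℕ) (hn : 2 ≤ n)
    (hS : ∀ T : Sylow 2 X, Nonempty ((T : Subgroup X) ≃* DihedralGroup n))
    (Q : Subgroup X) (hQ : IsPGroup 2 Q)
    (g : X) (hg : g ∈ Subgroup.normalizer (Q : Set X)) (hodd : Odd (orderOf g))
    (τ : X) (hτQ : τ ∈ Q) (hτ1 : τ ≠ 1) (hgτ : g * τ = τ * g) :
    ∀ q ∈ Q, g * q = q * g := by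
  obtain ⟨T, hT⟩ := hQ.exists_le_sylow
  obtain ⟨e⟩ := hS T
  haveI : NeZero n := ⟨by omega⟩
  obtain ⟨y, h1, h2⟩ := dihedral_struct n e
  have hz : ∀ (q : X) (hq : q ∈ (T : Subgroup X)), q ∉ Subgroup.zpowers (y : X) →
      (⟨q, hq⟩ : (T : Subgroup X)) ∉ Subgroup.zpowers y := by
    intro q hq h h'
    apply h
    obtain ⟨k, hk⟩ := h'
    refine ⟨k, ?_⟩
    have := congrArg Subtype.val hk
    simpa using this
  have hinvT : ∀ q ∈ (T : Subgroup X), q ∉ Subgroup.zpowers (y : X) → q * q = 1 := by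
    intro q hq hq'
    have := h1 ⟨q, hq⟩ (hz q hq hq')
    have := congrArg Subtype.val this
    simpa using this
  have hmulT : ∀ a ∈ (T : Subgroup X), ∀ b ∈ (T : Subgroup X), a ∉ Subgroup.zpowers (y : X) →
      b ∉ Subgroup.zpowers (y : X) → a * b ∈ Subgroup.zpowers (y : X) := by
    intro a ha b hb ha' hb'
    obtain ⟨k, hk⟩ := h2 ⟨a, ha⟩ ⟨b, hb⟩ (hz a ha ha') (hz b hb hb')
    refine ⟨k, ?_⟩
    have := congrArg Subtype.val hk
    simpa using this
  obtain ⟨y', hy'Q, h3, h4⟩ := sub_struct (T : Subgroup X) Q hT (y : X) hinvT hmulT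
  exact lemmaA Q y' hy'Q hQ h3 h4 g hg hodd τ hτQ hτ1 hgτ


theorem all_sylow {X : Type*} [Group X] [Finite X] (S : Sylow 2 X) (n : ℕ)
    (hS : Nonempty ((S : Subgroup X) ≃* DihedralGroup n)) (T : Sylow 2 X) :
    Nonempty ((T : Subgroup X) ≃* DihedralGroup n) := by
  obtain ⟨e⟩ := hS
  obtain ⟨u, rfl⟩ := MulAction.exists_smul_eq X S T
  exact ⟨(Sylow.equivSMul S u).symm.trans e⟩


theorem frob {X : Type*} [Group X] [Finite X] (n : ℕ) (hn : 2 ≤ n)
    (hS : ∀ T : Sylow 2 X, Nonempty ((T : Subgroup X) ≃* DihedralGroup n)) (t : X)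
    (ht : orderOf t = 2) (C : Subgroup X) (hC : ∀ c ∈ C, c * t = t * c) :
    FrobeniusCondition 2 ↥C := by
  intro Q hQ g hg hgo
  have ht1 : t ≠ 1 := by
    rintro rfl
    simp at ht
  have hgt : (g : X) * t = t * g := hC g g.2
  set Q1 : Subgroup X := Q.map C.subtype with hQ1
  have hQ1p : IsPGroup 2 Q1 := hQ.map _
  have htp : IsPGroup 2 (Subgroup.zpowers t) := by
    rw [IsPGroup.iff_card]
    exact ⟨1, by rw [Nat.card_zpowers, ht, pow_one]⟩
  have hQ1C : Q1 ≤ C := by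
    rintro _ ⟨q, _, rfl⟩
    exact q.2
  have hCn : C ≤ Subgroup.normalizer ((Subgroup.zpowers t : Subgroup X) : Set X) := by
    intro c hc
    rw [mem_normalizer_zpowers_iff]
    have : c * t * c⁻¹ = t := by rw [hC c hc]; group
    rw [this]
    exact Subgroup.mem_zpowers t
  have hQ'p : IsPGroup 2 (Q1 ⊔ Subgroup.zpowers t : Subgroup X) :=
    hQ1p.to_sup_of_normal_right' htp (hQ1C.trans hCn)
  have hg1 : (g : X) ∈ Subgroup.normalizer ((Q1 : Subgroup X) : Set X) := by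
    rw [Subgroup.mem_normalizer_iff]
    intro y
    constructor
    · rintro ⟨y₀, hy₀, rfl⟩
      exact ⟨g * y₀ * g⁻¹, (Subgroup.mem_normalizer_iff.mp hg y₀).mp hy₀, rfl⟩
    · rintro ⟨z₀, hz₀, hz⟩
      have hyH : y ∈ C := by
        have : y = (g : X)⁻¹ * ((g : X) * y * (g : X)⁻¹) * g := by group
        rw [this, ← hz]
        exact C.mul_mem (C.mul_mem (C.inv_mem g.2) z₀.2) g.2
      refine ⟨⟨y, hyH⟩, ?_, rfl⟩
      show (⟨y, hyH⟩ : C) ∈ Q
      rw [Subgroup.mem_normalizer_iff.mp hg ⟨y, hyH⟩]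
      have hz₀' : z₀ ∈ Q := hz₀
      have e : g * ⟨y, hyH⟩ * g⁻¹ = z₀ := Subtype.ext hz.symm
      rw [e]; exact hz₀'
  have hg' : (g : X) ∈ Subgroup.normalizer ((Q1 ⊔ Subgroup.zpowers t : Subgroup X) : Set X) :=
    Subgroup.normalizer_inf_normalizer_le_normalizer_sup _ _ ⟨hg1, hCn g.2⟩
  have hodd : Odd (orderOf (g : X)) := by
    rw [Subgroup.orderOf_coe]
    exact Nat.coprime_two_right.1 hgo
  have hkey := key n hn hS _ hQ'p (g : X) hg' hodd t
    (le_sup_right (a := Q1) (Subgroup.mem_zpowers t)) ht1 hgt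
  rw [Subgroup.mem_centralizer_iff]
  intro q hq
  apply Subtype.ext
  have := hkey (q : X) (le_sup_left (b := Subgroup.zpowers t) ⟨q, hq, rfl⟩)
  simpa using this.symm




theorem final {C : Type*} [Group C] [Finite C] (h : Cfsg.HasNormalPComplement 2 C) :
    ∃ N : Subgroup C, N.Normal ∧ Odd (Nat.card N) ∧ ∃ k : ℕ, N.index = 2 ^ k := by
  obtain ⟨P, N, hN, hc⟩ := h
  refine ⟨N, hN, ?_, ?_⟩
  · have h3 : (P : Subgroup C).index = Nat.card N := hc.index_eq_card
    rw [← Nat.not_even_iff_odd, even_iff_two_dvd, ← h3]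
    exact P.not_dvd_index
  · obtain ⟨k, hk⟩ := IsPGroup.iff_card.1 P.2
    exact ⟨k, by rw [hc.symm.index_eq_card]; exact hk⟩





/-- In a finite group whose Sylow 2-subgroups are dihedral of order at least 4, the centralizer of any involution has a
normal subgroup of odd order whose index in the centralizer is a power of 2. -/
theorem result {X : Type*} [Group X] [Finite X]
    (S : Sylow 2 X) (n : ℕ) (hn : 2 ≤ n) (hS : Nonempty ((S : Subgroup X) ≃* DihedralGroup n)) (t : X)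
    (ht : orderOf t = 2) :
    ∃ N : Subgroup (Subgroup.centralizer ({t} : Set X)), N.Normal ∧ Odd (Nat.card N) ∧ ∃ k : ℕ, N.index = 2 ^ k := by
  have hfrob := frob n hn (all_sylow S n hS) t ht (Subgroup.centralizer ({t} : Set X)) (fun c hc => (Subgroup.mem_centralizer_iff.1 hc t rfl).symm)
  exact final (hasNormalPComplement_iff_frobeniusCondition.2 hfrob)

end Cfsg.Agent.S0514
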