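import Cfsg.Statements.S0521
import Mathlib
import Cfsg.Agent.Lib.Helper2.CycDerived

set_option autoImplicit false
open Cfsg

namespace Cfsg.Agent.S0521

/-- Let X be a finite solvable group of odd order, p a prime and S a Sylow p-subgroup of X whose commutator subgroup is
cyclic. Then the product of the largest normal subgroup of X of order prime to p with S is a normal subgroup of X. -/
theorem result {X : Type*} [Group X] [Finite X] [Group.IsSolvable X]
    (hX : Odd (Nat.card X)) (p : ℕ) [Fact p.Prime] (S : Sylow p X) (hS : IsCyclic (commutator (S : Subgroup X))) :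
    (Cfsg.pPrimeCore p X ⊔ (S : Subgroup X)).Normal := by
  classical
  have hNn : (Cfsg.pPrimeCore p X).Normal := Cfsg.Agent.Lib.Helper1.pPrimeCore_normal p
  by_cases hp2 : p = 2
  · subst hp2
    have hSbot : (S : Subgroup X) = ⊥ := by
      apply Subgroup.eq_bot_of_card_eq
      obtain ⟨k, hk⟩ := IsPGroup.iff_card.1 S.isPGroup'
      have hodd : Odd (Nat.card (S : Subgroup X)) :=
        Odd.of_dvd_nat hX (Subgroup.card_subgroup_dvd_card _)
      rw [hk] at hodd ⊢
      rcases Nat.eq_zero_or_pos k with rfl | hkpos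
      · simp
      · exfalso
        rw [Nat.odd_pow_iff (by omega)] at hodd
        exact (by decide : ¬ Odd 2) hodd
    rw [hSbot, sup_bot_eq]
    exact hNn
  · obtain ⟨N, hNdef⟩ : ∃ N : Subgroup X, N = Cfsg.pPrimeCore p X := ⟨_, rfl⟩
    rw [← hNdef] at hNn ⊢
    have hsurj : Function.Surjective (QuotientGroup.mk' N) := QuotientGroup.mk'_surjective N
    have hsol : Cfsg.IsPSolvable p (X ⧸ N) :=
      Cfsg.Agent.Lib.Helper3.isPSolvable_of_isSolvable p inferInstance
    have hodd : Odd (Nat.card (X ⧸ N)) := Odd.of_dvd_nat hX (Subgroup.card_quotient_dvd_card N)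
    have hcore : Cfsg.pPrimeCore p (X ⧸ N) = ⊥ := by
      subst hNdef
      exact Cfsg.Agent.Lib.Helper1.pPrimeCore_quotient_eq_bot p
    have hSp : IsPGroup p ((S : Subgroup X).map (QuotientGroup.mk' N)) := S.isPGroup'.map _
    have hPS : Cfsg.pCore p (X ⧸ N) ≤ (S : Subgroup X).map (QuotientGroup.mk' N) := by
      rw [Cfsg.Agent.Lib.Helper1.pCore_eq_iInf_sylow p, ← Sylow.coe_mapSurjective hsurj S]
      exact iInf_le _ _
    obtain ⟨g, hg⟩ := IsCyclic.exists_generator (α := ↥(commutator ↥(S : Subgroup X)))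
    have hc : ⁅(S : Subgroup X).map (QuotientGroup.mk' N), (S : Subgroup X).map (QuotientGroup.mk' N)⁆ ≤
        Subgroup.zpowers (QuotientGroup.mk' N ((g : ↥(S : Subgroup X)) : X)) := by
      rw [← Subgroup.map_commutator, ← Subgroup.map_subtype_commutator, ← MonoidHom.map_zpowers]
      apply Subgroup.map_mono
      rintro _ ⟨y, hy, rfl⟩
      obtain ⟨k, hk⟩ := Subgroup.mem_zpowers_iff.1 (hg ⟨y, hy⟩)
      refine Subgroup.mem_zpowers_iff.2 ⟨k, ?_⟩
      have := congrArg (fun t : ↥(commutator ↥(S : Subgroup X)) => ((t : ↥(S : Subgroup X)) : X)) hk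
      simpa using this
    have hle := Cfsg.Agent.Lib.Helper2.CycDerived.le_pCore_of_cyclic_derived hp2 hsol hodd hcore
      ((S : Subgroup X).map (QuotientGroup.mk' N)) hSp hPS _ hc
    have heq : (S : Subgroup X).map (QuotientGroup.mk' N) = Cfsg.pCore p (X ⧸ N) := le_antisymm hle hPS
    have hnorm : ((S : Subgroup X).map (QuotientGroup.mk' N)).Normal := by
      rw [heq]; exact Cfsg.Agent.Lib.Helper1.pCore_normal p
    have hcomap : ((S : Subgroup X).map (QuotientGroup.mk' N)).comap (QuotientGroup.mk' N) =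
        N ⊔ (S : Subgroup X) := by
      rw [Subgroup.comap_map_eq, QuotientGroup.ker_mk', sup_comm]
    rw [← hcomap]
    exact hnorm.comap _

end Cfsg.Agent.S0521
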