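import Cfsg.Statements.S0574
import Cfsg.Agent.Lib.Helper1.AbcB
import Cfsg.Agent.Lib.Helper3.KW8

set_option autoImplicit false
open Cfsg

namespace Cfsg.Agent.S0574

/-- Let the finite group G be the product AB of an abelian subgroup A and a subgroup B of nilpotency class at most two, and let Ω be the number of prime factors, with multiplicity, of the order of the commutator subgroup of B. Then the term of index 2(1 + Ω) of the derived series of G is trivial. -/
theorem result {G : Type*} [Group G] [Finite G] (A B : Subgroup G) [IsMulCommutative A] (hB : commutator ↥B ≤ Subgroup.center ↥B) (hAB : ∀ g : G, ∃ a ∈ A, ∃ b ∈ B, g = a * b) : derivedSeries G (2 * (1 + (Nat.card ↥(commutator ↥B)).primeFactorsList.length)) = ⊥ := by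
  have hA : ∀ x ∈ A, ∀ y ∈ A, x * y = y * x := fun x hx y hy =>
    congrArg Subtype.val ((inferInstance : IsMulCommutative A).is_comm.comm ⟨x, hx⟩ ⟨y, hy⟩)
  have hAnil : Group.IsNilpotent ↥A := by
    apply Lib.Helper1.Abc.isNilpotent_of_commutator_le_center
    rw [commutator_eq_bot]
    exact bot_le
  have hBnil : Group.IsNilpotent ↥B := Lib.Helper1.Abc.isNilpotent_of_commutator_le_center _ hB
  haveI hsolv : Group.IsSolvable G :=
    Cfsg.Agent.Lib.Helper3.KW.nilpotent_product_solvable A B hAnil hBnil hAB
  have hmap : (commutator ↥B).map B.subtype = ⁅B, B⁆ := Subgroup.map_subtype_commutator B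
  have hB' : ∀ w ∈ (⁅B, B⁆ : Subgroup G), ∀ b ∈ B, w * b = b * w := by
    intro w hw b hb
    rw [← hmap] at hw
    obtain ⟨w', hw', rfl⟩ := hw
    have hc := hB hw'
    rw [Subgroup.mem_center_iff] at hc
    have := hc ⟨b, hb⟩
    exact (congrArg Subtype.val this).symm
  have hcard : Nat.card ↥(⁅B, B⁆ : Subgroup G) = Nat.card ↥(commutator ↥B) := by
    rw [← hmap]
    exact Subgroup.card_map_of_injective B.subtype_injective
  have := Lib.Helper1.Abc.derived_length_bound A B hA hB' hAB
  rw [hcard] at this
  have e : 2 * (1 + (Nat.card ↥(commutator ↥B)).primeFactorsList.length) =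
      2 + 2 * (Nat.card ↥(commutator ↥B)).primeFactorsList.length := by ring
  rw [e]
  exact this

end Cfsg.Agent.S0574
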