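import Cfsg.Statements.S0578
import Cfsg.Agent.Lib.Helper1.NormalizerCentralizer

set_option autoImplicit false
open Cfsg

namespace Cfsg.Agent.S0578

/-- If in a finite group the normalizer of each abelian subgroup coincides with its centralizer, then the group is abelian. -/
theorem result {G : Type*} [Group G] [Finite G] (h : ∀ A : Subgroup G, IsMulCommutative A → Subgroup.normalizer (A : Set G) = Subgroup.centralizer (A : Set G)) : IsMulCommutative G := by
  have h' : ∀ A : Subgroup G, (∀ a ∈ A, ∀ b ∈ A, a * b = b * a) →
      Subgroup.normalizer (A : Set G) = Subgroup.centralizer (A : Set G) := by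
    intro A hA
    exact h A ⟨⟨fun a b => Subtype.ext (hA a a.2 b b.2)⟩⟩
  exact ⟨⟨Lib.Helper1.abelian_of_normalizer_eq_centralizer_aux _ G rfl h'⟩⟩

end Cfsg.Agent.S0578
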