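import Cfsg.Statements.S0585
import Cfsg.Agent.Lib.Helper1.FrattiniComplement

set_option autoImplicit false
open Cfsg

namespace Cfsg.Agent.S0585

/-- If the Frattini subgroup of a finite group G is trivial, then every abelian normal subgroup of G has a complement in G. -/
theorem result {G : Type*} [Group G] [Finite G] (hΦ : frattini G = ⊥) (A : Subgroup G) [A.Normal] [IsMulCommutative A] : ∃ H : Subgroup G, Subgroup.IsComplement' A H := by
  have hAc : ∀ a ∈ A, ∀ b ∈ A, a * b = b * a := fun x hx y hy =>
    congrArg Subtype.val ((inferInstance : IsMulCommutative A).is_comm.comm ⟨x, hx⟩ ⟨y, hy⟩)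
  exact Lib.Helper1.abelian_normal_complemented_of_frattini_eq_bot hΦ A hAc

end Cfsg.Agent.S0585
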