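import Cfsg.Statements.S0633
import Cfsg.Agent.Lib.Helper3.HHC10

set_option autoImplicit false
open Cfsg

namespace Cfsg.Agent.S0633

/-- Theorem B of Hall and Higman on the minimal polynomial of a p-element of order p^n in a p-solvable linear group on a nonzero vector space in characteristic p with no nontrivial normal p-subgroup: its degree is p^n, except when some p^n₀ - 1 (n₀ ≤ n) is a power of a prime q for which the Sylow q-subgroups are non-abelian, in which case the degree is at least p^(n-n₀)(p^n₀ - 1). -/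
theorem result {F : Type*} [Field F] {p : ℕ} [Fact p.Prime] [CharP F p] {V : Type*} [AddCommGroup V] [Module F V] [FiniteDimensional F V] [Nontrivial V] (H : Subgroup (V ≃ₗ[F] V)) [Finite H] (hsol : Cfsg.IsPSolvable p H) (hOp : Cfsg.pCore p H = ⊥) (x : V ≃ₗ[F] V) (hx : x ∈ H) (n : ℕ) (hn : orderOf x = p ^ n) (r : ℕ) (hr : minpoly F (x : Module.End F V) = (Polynomial.X - 1) ^ r) : r = p ^ n ∨ ∃ n₀ q m : ℕ, 1 ≤ n₀ ∧ n₀ ≤ n ∧ q.Prime ∧ 1 ≤ m ∧ p ^ n₀ - 1 = q ^ m ∧ (∀ Q : Sylow q H, ¬ IsMulCommutative Q) ∧ p ^ (n - n₀) * (p ^ n₀ - 1) ≤ r := by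
  classical
  obtain ⟨A, hA⟩ : ∃ A : Module.End F V, A = (x : Module.End F V) := ⟨_, rfl⟩
  rw [← hA] at hr
  have hdeg : ∀ k : ℕ, ((Polynomial.X - 1 : Polynomial F) ^ k).natDegree = k := by
    intro k
    have : (Polynomial.X - 1 : Polynomial F) = Polynomial.X - Polynomial.C 1 := by simp
    rw [Polynomial.natDegree_pow, this, Polynomial.natDegree_X_sub_C, mul_one]
  have hne : ∀ k : ℕ, ((Polynomial.X - 1 : Polynomial F) ^ k) ≠ 0 := by
    intro k
    have : (Polynomial.X - 1 : Polynomial F) = Polynomial.X - Polynomial.C 1 := by simp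
    rw [this]
    exact pow_ne_zero k (Polynomial.X_sub_C_ne_zero 1)
  have haev : ∀ k : ℕ,
      Polynomial.aeval A ((Polynomial.X - 1 : Polynomial F) ^ k) = (A - 1) ^ k := by
    intro k
    rw [map_pow, map_sub, Polynomial.aeval_X, map_one]
  have hr0 : (A - 1) ^ r = 0 := by
    rw [← haev, ← hr]; exact minpoly.aeval F A
  have hrle : ∀ k : ℕ, (A - 1) ^ k = 0 → r ≤ k := by
    intro k hk
    have hd : minpoly F A ∣ (Polynomial.X - 1 : Polynomial F) ^ k :=
      minpoly.dvd F A (by rw [haev]; exact hk)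
    rw [hr] at hd
    have := Polynomial.natDegree_le_of_dvd hd (hne k)
    rwa [hdeg, hdeg] at this
  have hcoe : ∀ k : ℕ, ((x ^ k : V ≃ₗ[F] V) : Module.End F V) = A ^ k := by
    intro k
    rw [hA]
    exact map_pow (LinearEquiv.automorphismGroup.toLinearMapMonoidHom (R := F) (M := V)) x k
  have hApow : A ^ (p ^ n) = 1 := by
    rw [← hcoe, ← hn, pow_orderOf_eq_one]; rfl
  have hAsub : (A - 1) ^ (p ^ n) = 0 := by
    rw [Cfsg.Agent.Lib.Helper3.HHB3.alg_sub_one_pow (K := F) p n A, hApow, sub_self]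
  have hrpn : r ≤ p ^ n := hrle _ hAsub
  rcases n with _ | n
  · left
    have hr1 : r ≤ 1 := by simpa using hrpn
    have hr0' : r ≠ 0 := by
      intro h
      rw [h, pow_zero] at hr0
      obtain ⟨v, hv⟩ := exists_ne (0 : V)
      apply hv
      have := congrArg (fun f : Module.End F V => f v) hr0
      simpa using this
    rw [pow_zero]; omega
  · have key := Cfsg.Agent.Lib.Helper3.HHC10.theoremB_concrete H hsol hOp x hx n hn
    rw [← hA] at key
    rcases key with h | ⟨q, n₀, m, h1, h2, h3, h4, h5, h6, h7⟩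
    · left
      have hnle : ¬ r ≤ p ^ (n + 1) - 1 := by
        intro hle
        exact h (pow_eq_zero_of_le hle hr0)
      omega
    · right
      refine ⟨n₀, q, m, h2, h3, h1, h4, h5, h6, ?_⟩
      by_contra hlt
      push Not at hlt
      exact h7 (pow_eq_zero_of_le (Nat.le_sub_one_of_lt hlt) hr0)

end Cfsg.Agent.S0633
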