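import Mathlib
import Cfsg.Statements.S0668

set_option autoImplicit false
open Cfsg

namespace Cfsg.Agent.S0668

open MulAction

section
variable {G : Type*} [Group G] {K : Type*} [Field K] {Ω : Type*} [MulAction G Ω] [DecidableEq Ω]

theorem permRep_apply (g : G) (f : Ω → K) (x : Ω) : (permRep K G Ω) g f x = f (g⁻¹ • x) := rfl

theorem permRep_single (g : G) (x : Ω) :
    (permRep K G Ω) g (Pi.single x (1 : K)) = Pi.single (g • x) 1 := by
  funext z
  rw [permRep_apply]
  by_cases h : z = g • x
  · subst h
    rw [inv_smul_smul, Pi.single_eq_same, Pi.single_eq_same]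
  · rw [Pi.single_eq_of_ne h, Pi.single_eq_of_ne]
    intro h'
    apply h
    rw [← h', smul_inv_smul]
end

/-- The equivariant linear maps between the permutation modules of two finite `G`-sets form a space whose dimension is the number of `G`-orbits on the product of the two sets. -/
theorem result {G : Type*} [Group G] {K : Type*} [Field K] {Ω₁ Ω₂ : Type*} [Fintype Ω₁] [Fintype Ω₂] [MulAction G Ω₁] [MulAction G Ω₂] : Module.finrank K ((Cfsg.permRep K G Ω₁).linHom (Cfsg.permRep K G Ω₂)).invariants = Nat.card (MulAction.orbitRel.Quotient G (Ω₁ × Ω₂)) := by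
  classical
  -- intertwining property of invariants
  have hint : ∀ f : ((permRep K G Ω₁).linHom (permRep K G Ω₂)).invariants, ∀ (g : G) (v : Ω₁ → K),
      (f : (Ω₁ → K) →ₗ[K] (Ω₂ → K)) ((permRep K G Ω₁) g v) = (permRep K G Ω₂) g ((f : (Ω₁ → K) →ₗ[K] (Ω₂ → K)) v) := by
    intro f g v
    have h1 : ∀ g : G, (permRep K G Ω₂) g ∘ₗ (f : (Ω₁ → K) →ₗ[K] (Ω₂ → K)) ∘ₗ (permRep K G Ω₁) g⁻¹ = f := fun g => f.2 g
    have := (Representation.mem_linHom_invariants_iff_isIntertwining _).mp h1
    exact this.isIntertwining g v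
  have hcompat : ∀ f : ((permRep K G Ω₁).linHom (permRep K G Ω₂)).invariants, ∀ (p q : Ω₁ × Ω₂),
      (orbitRel G (Ω₁ × Ω₂)) p q →
      (f : (Ω₁ → K) →ₗ[K] (Ω₂ → K)) (Pi.single p.1 1) p.2 =
        (f : (Ω₁ → K) →ₗ[K] (Ω₂ → K)) (Pi.single q.1 1) q.2 := by
    rintro f p q ⟨g, rfl⟩
    show (f : (Ω₁ → K) →ₗ[K] (Ω₂ → K)) (Pi.single (g • q.1) 1) (g • q.2) = _
    rw [← permRep_single (K := K) g q.1, hint f g, permRep_apply, inv_smul_smul]
  -- the linear equivalence
  let Φ : ((permRep K G Ω₁).linHom (permRep K G Ω₂)).invariants →ₗ[K] (orbitRel.Quotient G (Ω₁ × Ω₂) → K) :=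
    { toFun := fun f q => Quotient.liftOn' q
        (fun p => (f : (Ω₁ → K) →ₗ[K] (Ω₂ → K)) (Pi.single p.1 1) p.2) (hcompat f)
      map_add' := by
        intro f₁ f₂
        funext q
        induction q using Quotient.inductionOn'
        rfl
      map_smul' := by
        intro c f
        funext q
        induction q using Quotient.inductionOn'
        rfl }
  have hΦinj : Function.Injective Φ := by
    intro f₁ f₂ h
    apply Subtype.ext
    apply LinearMap.pi_ext'
    intro x
    apply LinearMap.ext_ring
    funext y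
    have := congrFun h (Quotient.mk'' (x, y))
    exact this
  have hΦsurj : Function.Surjective Φ := by
    intro φ
    let F : (Ω₁ → K) →ₗ[K] (Ω₂ → K) :=
      { toFun := fun v y => ∑ x, φ (Quotient.mk'' (x, y)) * v x
        map_add' := by
          intro v w; funext y
          simp only [Pi.add_apply, mul_add, Finset.sum_add_distrib]
        map_smul' := by
          intro c v; funext y
          simp only [Pi.smul_apply, smul_eq_mul, RingHom.id_apply, Finset.mul_sum]
          apply Finset.sum_congr rfl
          intro x _; ring }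
    have hF : F ∈ ((permRep K G Ω₁).linHom (permRep K G Ω₂)).invariants := by
      have : (permRep K G Ω₁).IsIntertwiningMap (permRep K G Ω₂) F := by
        constructor
        intro g v
        funext y
        show ∑ x, φ (Quotient.mk'' (x, y)) * ((permRep K G Ω₁) g v) x = ((permRep K G Ω₂) g (F v)) y
        rw [permRep_apply]
        show _ = ∑ x, φ (Quotient.mk'' (x, g⁻¹ • y)) * v x
        rw [← Equiv.sum_comp (MulAction.toPerm g) (fun x => φ (Quotient.mk'' (x, y)) * ((permRep K G Ω₁) g v) x)]
        apply Finset.sum_congr rfl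
        intro x _
        have h1 : ((permRep K G Ω₁) g v) (MulAction.toPerm g x) = v x := by
          rw [permRep_apply]
          show v (g⁻¹ • g • x) = v x
          rw [inv_smul_smul]
        have h2 : (Quotient.mk'' (MulAction.toPerm g x, y) : orbitRel.Quotient G (Ω₁ × Ω₂)) =
            Quotient.mk'' (x, g⁻¹ • y) := by
          apply Quotient.sound'
          refine ⟨g, ?_⟩
          show (g • x, g • g⁻¹ • y) = (g • x, y)
          rw [smul_inv_smul]
        rw [h1, h2]
      exact (Representation.mem_linHom_invariants_iff_isIntertwining F).mpr this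
    refine ⟨⟨F, hF⟩, ?_⟩
    funext q
    induction q using Quotient.inductionOn' with
    | h p =>
      show ∑ x, φ (Quotient.mk'' (x, p.2)) * (Pi.single p.1 (1 : K) : Ω₁ → K) x = φ (Quotient.mk'' p)
      rw [Finset.sum_eq_single p.1]
      · rw [Pi.single_eq_same, mul_one]
      · intro x _ hx
        rw [Pi.single_eq_of_ne hx, mul_zero]
      · intro h; exact absurd (Finset.mem_univ _) h
  have e : ((permRep K G Ω₁).linHom (permRep K G Ω₂)).invariants ≃ₗ[K] (orbitRel.Quotient G (Ω₁ × Ω₂) → K) :=
    LinearEquiv.ofBijective Φ ⟨hΦinj, hΦsurj⟩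
  haveI : Fintype (orbitRel.Quotient G (Ω₁ × Ω₂)) := Fintype.ofFinite _
  rw [e.finrank_eq, Module.finrank_fintype_fun_eq_card, Nat.card_eq_fintype_card]

end Cfsg.Agent.S0668
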