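import Mathlib
import Cfsg.Statements.S0669

set_option autoImplicit false
open Cfsg

namespace Cfsg.Agent.S0669

open MulAction

/-- The rank of a transitive action: orbits on ordered pairs correspond to orbits of a point stabiliser. -/
theorem result {G : Type*} [Group G] {Ω : Type*} [Finite Ω] [MulAction G Ω] [MulAction.IsPretransitive G Ω] (a : Ω) : Nat.card (MulAction.orbitRel.Quotient G (Ω × Ω)) = Nat.card (MulAction.orbitRel.Quotient (MulAction.stabilizer G a) Ω) := by
  symm
  let f : orbitRel.Quotient (stabilizer G a) Ω → orbitRel.Quotient G (Ω × Ω) :=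
    Quotient.map' (fun b => (a, b)) (by
      intro b b' h
      rw [orbitRel_apply, mem_orbit_iff] at h ⊢
      obtain ⟨g, hg⟩ := h
      refine ⟨g.1, ?_⟩
      have h1 : (g : G) • a = a := g.2
      have h2 : (g : G) • b' = b := hg
      rw [Prod.smul_mk, h1, h2])
  have hinj : Function.Injective f := by
    intro q q'
    induction q using Quotient.inductionOn' with | _ b => ?_
    induction q' using Quotient.inductionOn' with | _ b' => ?_
    intro h
    have h' : (Quotient.mk'' (a, b) : orbitRel.Quotient G (Ω × Ω)) = Quotient.mk'' (a, b') := h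
    rw [Quotient.eq''] at h' ⊢
    rw [orbitRel_apply, mem_orbit_iff] at h' ⊢
    obtain ⟨g, hg⟩ := h'
    rw [Prod.smul_mk, Prod.mk.injEq] at hg
    exact ⟨⟨g, hg.1⟩, hg.2⟩
  have hsurj : Function.Surjective f := by
    intro q
    induction q using Quotient.inductionOn' with | _ xy => ?_
    obtain ⟨x, y⟩ := xy
    obtain ⟨g, hg⟩ := exists_smul_eq G x a
    refine ⟨Quotient.mk'' (g • y), ?_⟩
    change (Quotient.mk'' (a, g • y) : orbitRel.Quotient G (Ω × Ω)) = Quotient.mk'' (x, y)
    rw [Quotient.eq'', orbitRel_apply, mem_orbit_iff]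
    exact ⟨g, by rw [Prod.smul_mk, hg]⟩
  exact Nat.card_congr (Equiv.ofBijective f ⟨hinj, hsurj⟩)

end Cfsg.Agent.S0669
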