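import Mathlib
import Cfsg.Statements.S0670
import Cfsg.Agent.Lib.Lead.SylowTrans
import Cfsg.Agent.Lib.Lead.PGroupFixedVector

set_option autoImplicit false
open Cfsg

namespace Cfsg.Agent.S0670

open MulAction

/-- In characteristic `p`, the permutation module of a transitive action of degree `p ^ f` has the line of constant functions as its only irreducible submodule: every non-zero subrepresentation contains it. -/
theorem result {G : Type*} [Group G] [Finite G] {K : Type*} [Field K] {p f : ℕ} [Fact p.Prime] [CharP K p] {Ω : Type*} [Fintype Ω] [MulAction G Ω] [MulAction.IsPretransitive G Ω] (hf : 1 ≤ f) (hcard : Fintype.card Ω = p ^ f) (W : Subrepresentation (Cfsg.permRep K G Ω)) (hW : W.toSubmodule ≠ ⊥) : (Cfsg.permConstants K G Ω).toSubmodule ≤ W.toSubmodule := by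
  let P : Sylow p G := default
  have hPt : IsPretransitive (P : Subgroup G) Ω :=
    Cfsg.Agent.Lib.Lead.SylowTrans.sylow_pretransitive (f := f)
      (by rw [Nat.card_eq_fintype_card, hcard]) P
  let ρ' : Representation K (P : Subgroup G) (Ω → K) :=
    (permRep K G Ω).comp (P : Subgroup G).subtype
  obtain ⟨w, hwW, hw0, hwfix⟩ :=
    Cfsg.Agent.Lib.Lead.PGroupFixedVector.exists_fixed_ne_zero (p := p) P.isPGroup' ρ' W.toSubmodule
      (fun g w hw => W.apply_mem_toSubmodule (g : G) hw) hW
  -- w is constant
  have hconst : ∀ x y : Ω, w x = w y := by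
    intro x y
    obtain ⟨g, hg⟩ := hPt.exists_smul_eq x y
    have h1 := congrFun (hwfix g) y
    have h2 : ρ' g w y = w ((g : G)⁻¹ • y) := rfl
    rw [h2] at h1
    have h3 : (g : G)⁻¹ • y = x := by
      rw [inv_smul_eq_iff]; exact hg.symm
    rw [h3] at h1
    exact h1
  obtain ⟨x₀, hx₀⟩ : ∃ x₀, w x₀ ≠ 0 := by
    by_contra hne
    push Not at hne
    exact hw0 (funext hne)
  have hw : w = w x₀ • (fun _ => (1 : K)) := by
    funext y
    simp only [Pi.smul_apply, smul_eq_mul, mul_one]
    exact hconst y x₀
  have h1 : (fun _ : Ω => (1 : K)) ∈ W.toSubmodule := by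
    have : (fun _ : Ω => (1 : K)) = (w x₀)⁻¹ • w := by
      rw [hw]
      funext y
      simp only [Pi.smul_apply, smul_eq_mul, mul_one]
      rw [inv_mul_cancel₀ hx₀]
    rw [this]
    exact W.toSubmodule.smul_mem _ hwW
  show Submodule.span K {fun _ => 1} ≤ W.toSubmodule
  rw [Submodule.span_le]
  intro v hv
  rw [Set.mem_singleton_iff] at hv
  rw [hv]; exact h1

end Cfsg.Agent.S0670
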