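import Mathlib
import Cfsg.Statements.S0671
import Cfsg.Agent.Lib.Lead.PermModule

namespace Cfsg.Agent.S0671

open Cfsg.Agent.Lib.Lead

theorem result {G : Type*} [Group G] [Finite G] {K : Type*} [Field K] {p f : ℕ} [Fact p.Prime] [CharP K p] {Ω : Type*} [Fintype Ω] [MulAction G Ω] [MulAction.IsPretransitive G Ω] (hf : 1 ≤ f) (hcard : Fintype.card Ω = p ^ f) (h : ∀ W W' : Subrepresentation (Cfsg.permRep K G Ω), (Cfsg.permConstants K G Ω).toSubmodule ≤ W.toSubmodule → W.toSubmodule < W'.toSubmodule → W'.toSubmodule ≤ (Cfsg.permSumZero K G Ω).toSubmodule → ∃ g : G, ∃ v ∈ W'.toSubmodule, Cfsg.permRep K G Ω g v - v ∉ W.toSubmodule) : MulAction.IsMultiplyPretransitive G Ω 2 := by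
  classical
  by_contra h2
  obtain ⟨W, W', h1, h3, h4, h5⟩ := PermModule.exists_trivial_factor (K := K) hcard h2
  obtain ⟨g, v, hv, hnot⟩ := h W W' h1 h3 h4
  exact hnot (h5 g v hv)
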