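import Mathlib
import Cfsg.Statements.S0681
import Cfsg.Agent.Lib.Lead.NearField

set_option autoImplicit false
open Cfsg

namespace Cfsg.Agent.S0681

open Cfsg.Agent.Lib.Lead.NearFieldLib

/-- the group of affine maps of a near-field -/
noncomputable def affGroup (F : Type*) [NearField F] : Subgroup (Equiv.Perm F) where
  carrier := {σ | ∃ a b : F, a ≠ 0 ∧ ∀ x : F, σ x = x * a + b}
  one_mem' := ⟨1, 0, fun h => NearField.zero_ne_one h.symm, fun x => by simp⟩
  mul_mem' := by
    rintro σ τ ⟨a, b, ha, hσ⟩ ⟨c, d, hc, hτ⟩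
    refine ⟨c * a, d * a + b, nf_mul_ne_zero hc ha, fun x => ?_⟩
    simp only [Equiv.Perm.coe_mul, Function.comp_apply, hτ, hσ, NearField.right_distrib,
      mul_assoc, add_assoc]
  inv_mem' := by
    rintro σ ⟨a, b, ha, hσ⟩
    refine ⟨nfInv a ha, -(b * nfInv a ha), nfInv_ne_zero a ha, fun x => ?_⟩
    apply σ.injective
    rw [Equiv.Perm.inv_def, Equiv.apply_symm_apply, hσ, NearField.right_distrib, mul_assoc,
      nfInv_mul, mul_one, nf_neg_mul, mul_assoc, nfInv_mul, mul_one, neg_add_cancel_right]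

/-- The affine maps `x ↦ x * a + b`, `a ≠ 0`, of a near-field form a sharply doubly transitive permutation group. -/
theorem result {F : Type*} [Cfsg.NearField F] : ∃ H : Subgroup (Equiv.Perm F), (∀ σ : Equiv.Perm F, σ ∈ H ↔ ∃ a b : F, a ≠ 0 ∧ ∀ x : F, σ x = x * a + b) ∧ MulAction.IsMultiplyPretransitive H F 2 ∧ ∀ x : Fin 2 ↪ F, MulAction.stabilizer H x = ⊥ := by
  refine ⟨affGroup F, fun σ => Iff.rfl, ?_, ?_⟩
  · rw [MulAction.isMultiplyPretransitive_iff]
    intro x y
    have hx : x 1 - x 0 ≠ 0 := by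
      intro h
      have := x.injective (sub_eq_zero.mp h)
      exact absurd this (by decide)
    have hy : y 1 - y 0 ≠ 0 := by
      intro h
      have := y.injective (sub_eq_zero.mp h)
      exact absurd this (by decide)
    set a := nfInv (x 1 - x 0) hx * (y 1 - y 0) with ha
    have ha0 : a ≠ 0 := nf_mul_ne_zero (nfInv_ne_zero _ hx) hy
    set b := -(x 0 * a) + y 0 with hb
    have hmem : affPerm a ha0 b ∈ affGroup F := ⟨a, b, ha0, fun z => rfl⟩
    refine ⟨⟨affPerm a ha0 b, hmem⟩, ?_⟩
    ext i
    rw [Function.Embedding.smul_apply]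
    change affPerm a ha0 b (x i) = y i
    rw [affPerm_apply]
    have h0 : x 0 * a + b = y 0 := by rw [hb, add_neg_cancel_left]
    have h1 : x 1 * a + b = y 1 := by
      have e : (x 1 - x 0) * a = y 1 - y 0 := by
        rw [ha, ← mul_assoc, mul_nfInv, one_mul]
      rw [nf_sub_mul] at e
      rw [hb]
      have : x 1 * a + (-(x 0 * a) + y 0) = (x 1 * a - x 0 * a) + y 0 := by
        rw [sub_eq_add_neg, add_assoc]
      rw [this, e, sub_add_cancel]
    fin_cases i
    · exact h0
    · exact h1
  · intro x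
    rw [eq_bot_iff]
    rintro ⟨σ, a, b, ha, hσ⟩ hstab
    rw [Subgroup.mem_bot]
    rw [MulAction.mem_stabilizer_iff] at hstab
    have hx : x 1 - x 0 ≠ 0 := by
      intro h
      have := x.injective (sub_eq_zero.mp h)
      exact absurd this (by decide)
    have h0 : x 0 * a + b = x 0 := by
      have := DFunLike.congr_fun hstab 0
      change σ (x 0) = x 0 at this
      rw [← hσ]; exact this
    have h1 : x 1 * a + b = x 1 := by
      have := DFunLike.congr_fun hstab 1
      change σ (x 1) = x 1 at this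
      rw [← hσ]; exact this
    have e : (x 1 - x 0) * a = (x 1 - x 0) * 1 := by
      rw [nf_sub_mul, mul_one]
      calc x 1 * a - x 0 * a = (x 1 * a + b) - (x 0 * a + b) := by
            rw [add_sub_add_right_eq_sub]
        _ = x 1 - x 0 := by rw [h0, h1]
    have ha1 : a = 1 := nf_mul_left_cancel hx e
    have hb0 : b = 0 := by
      rw [ha1, mul_one] at h0
      exact left_eq_add.mp h0.symm
    apply Subtype.ext
    ext z
    change σ z = z
    rw [hσ, ha1, hb0, mul_one, add_zero]

end Cfsg.Agent.S0681
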