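import Cfsg.Statements.S0688
import Cfsg.Agent.Lib.Helper6.HgB

set_option autoImplicit false
open Cfsg

namespace Cfsg.Agent.S0688

/-- Degrees of the soluble exceptional sharply doubly transitive groups: if a solvable linear group over the prime field is regular on the non-zero vectors of `V` and has no irreducible cyclic normal subgroup, then `V` has 25, 49, 121 or 529 elements. -/
theorem result {p : ℕ} [Fact p.Prime] {V : Type*} [AddCommGroup V] [Module (ZMod p) V] [Finite V] (H : Subgroup (V ≃ₗ[ZMod p] V)) (hreg : ∀ v w : V, v ≠ 0 → w ≠ 0 → ∃! h : H, (h : V ≃ₗ[ZMod p] V) v = w) (hI : ∀ A : Subgroup H, A.Normal → IsCyclic A → ∃ W : Submodule (ZMod p) V, W ≠ ⊥ ∧ W ≠ ⊤ ∧ ∀ a ∈ A, ∀ v ∈ W, ((a : H) : V ≃ₗ[ZMod p] V) v ∈ W) (hsolv : Group.IsSolvable H) : Nat.card V = 25 ∨ Nat.card V = 49 ∨ Nat.card V = 121 ∨ Nat.card V = 529 := by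
  classical
  haveI : Finite (V ≃ₗ[ZMod p] V) :=
    Finite.of_injective (fun e : V ≃ₗ[ZMod p] V => (e : V → V)) DFunLike.coe_injective
  -- `V` is nontrivial
  obtain ⟨W0, hW0, -, -⟩ := hI ⊥ inferInstance inferInstance
  obtain ⟨w0, -, hw0⟩ := Submodule.exists_mem_ne_zero_of_ne_bot hW0
  haveI : Nontrivial V := ⟨⟨w0, 0, hw0⟩⟩
  have h : Cfsg.Agent.Lib.Helper6.Hup.Hyp H.subtype := by
    refine ⟨Subgroup.subtype_injective H, ?_⟩
    intro v w hv hw
    obtain ⟨g, hg, -⟩ := hreg v w hv hw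
    exact ⟨g, hg⟩
  have hR : Cfsg.Agent.Lib.Helper6.Hup.Reg H.subtype := by
    intro v hv g hg
    exact (hreg v v hv hv).unique hg (by simp)
  rcases h.reg_casesG hsolv hR with ⟨N, hNn, hN, hc⟩ | ⟨hn, -, hq⟩
  · exfalso
    have hcyc := h.cyclic_of_abel hNn hN
    obtain ⟨W, hW0, hWt, hWinv⟩ := hI N hNn hcyc
    exact hWt (h.irred_of_card hNn hN hc W hW0 (fun n hn v hv => hWinv n hn v hv))
  · have hV : Nat.card V = p ^ 2 := by
      rw [Cfsg.Agent.Lib.Helper6.Hup.natCard_eq_pow (q := p) V, hn]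
    rcases hq with r | r | r | r
    · left; rw [hV, r]; norm_num
    · right; left; rw [hV, r]; norm_num
    · right; right; left; rw [hV, r]; norm_num
    · right; right; right; rw [hV, r]; norm_num

end Cfsg.Agent.S0688
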