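import Mathlib
import Cfsg.Statements.S0691
import Cfsg.Agent.Lib.Lead.MatTwo

set_option autoImplicit false

open Cfsg

namespace Cfsg.Agent.S0691

open Cfsg.Agent.Lib.Lead.MatTwo

def gens : List Q := [(2, 0, 0, 3), (0, 4, 1, 0), (1, 2, 1, 3)]

def W : List (ℕ × ℕ) := [(0, 0), (1, 0), (2, 0), (0, 1), (1, 1), (2, 1), (0, 2), (2, 2), (1, 3), (2, 3), (0, 4), (1, 4), (2, 4), (1, 6), (2, 6), (2, 7), (2, 8), (0, 9), (2, 9), (2, 13), (2, 14), (2, 16), (2, 18)]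

instance : Fact (Nat.Prime 5) := ⟨by norm_num⟩

theorem result (A : Matrix.GeneralLinearGroup (Fin 2) (ZMod 5)) (B : Matrix.GeneralLinearGroup (Fin 2) (ZMod 5)) (C : Matrix.GeneralLinearGroup (Fin 2) (ZMod 5)) (hA : (A : Matrix (Fin 2) (Fin 2) (ZMod 5)) = !![2, 0; 0, -2]) (hB : (B : Matrix (Fin 2) (Fin 2) (ZMod 5)) = !![0, -1; 1, 0]) (hC : (C : Matrix (Fin 2) (Fin 2) (ZMod 5)) = !![1, 2; 1, -2]) : Nat.card (Subgroup.closure ({A, B, C} : Set (Matrix.GeneralLinearGroup (Fin 2) (ZMod 5)))) = 24 ∧ ∀ v w : Fin 2 → ZMod 5, v ≠ 0 → w ≠ 0 → ∃! h : Subgroup.closure ({A, B, C} : Set (Matrix.GeneralLinearGroup (Fin 2) (ZMod 5))), Matrix.mulVec ((h : Matrix.GeneralLinearGroup (Fin 2) (ZMod 5)) : Matrix (Fin 2) (Fin 2) (ZMod 5)) v = w := by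
  have h := sharp 5 gens W ({A, B, C} : Set (Matrix.GeneralLinearGroup (Fin 2) (ZMod 5))) ?_ ?_
    (by decide) (by decide) (by decide) (by decide) (by decide)
  · simpa using h
  · intro g hg
    simp only [Set.mem_insert_iff, Set.mem_singleton_iff] at hg
    rcases hg with rfl | rfl | rfl
    · exact ⟨(2, 0, 0, 3), by simp [gens], by rw [hA]; decide⟩
    · exact ⟨(0, 4, 1, 0), by simp [gens], by rw [hB]; decide⟩
    · exact ⟨(1, 2, 1, 3), by simp [gens], by rw [hC]; decide⟩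
  · intro x hx
    simp only [gens, List.mem_cons, List.mem_nil_iff, or_false] at hx
    rcases hx with rfl | rfl | rfl
    · exact ⟨A, by simp, by rw [hA]; decide⟩
    · exact ⟨B, by simp, by rw [hB]; decide⟩
    · exact ⟨C, by simp, by rw [hC]; decide⟩

end Cfsg.Agent.S0691
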