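import Mathlib
import Cfsg.Statements.S0692
import Cfsg.Agent.Lib.Lead.MatTwo

set_option autoImplicit false

open Cfsg

namespace Cfsg.Agent.S0692

open Cfsg.Agent.Lib.Lead.MatTwo

def gens : List Q := [(0, 10, 1, 0), (2, 4, 1, 8)]

def W : List (ℕ × ℕ) := [(0, 0), (1, 0), (0, 1), (1, 1), (0, 2), (1, 2), (0, 3), (1, 3), (0, 4), (1, 4), (1, 5), (0, 6), (1, 7), (0, 8), (1, 8), (1, 9), (0, 10), (0, 11), (1, 11), (1, 12), (0, 13), (1, 13), (1, 14), (0, 15), (0, 16), (1, 16), (1, 17), (1, 18), (0, 19), (0, 20), (1, 20), (1, 21), (0, 22), (0, 23), (1, 23), (1, 24), (1, 25), (0, 26), (0, 27), (1, 27), (1, 28), (1, 29), (1, 30), (0, 32), (1, 32), (1, 33), (1, 34), (0, 35), (0, 36), (1, 36), (1, 37), (1, 38), (1, 39), (0, 41), (0, 42), (1, 42), (1, 43), (1, 44), (0, 45), (0, 46), (1, 46), (1, 47), (1, 48), (1, 49), (0, 51), (0, 52), (1, 52), (1, 53), (1, 54), (1, 55), (0, 57), (1, 58), (1, 59), (1, 60), (0, 62), (0, 63), (1, 63), (1, 64), (1, 65), (1, 66),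 (0, 68), (0, 69), (1, 69), (1, 70), (1, 71), (0, 72), (0, 73), (1, 73), (1, 74), (1, 75), (1, 76), (0, 78), (0, 79), (1, 79), (1, 80), (1, 81), (1, 82), (0, 84), (0, 85), (1, 86), (1, 87), (0, 90), (1, 90), (1, 91), (1, 92), (0, 95), (0, 96), (1, 97), (1, 98), (1, 99), (0, 100), (1, 100), (1, 101), (0, 105), (1, 106), (1, 107), (0, 108), (0, 109), (1, 110)]

instance : Fact (Nat.Prime 11) := ⟨by norm_num⟩

set_option maxRecDepth 100000 in
theorem hclosed : closedB 11 gens (build 11 gens W) = true := by decide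

set_option maxRecDepth 100000 in
theorem hred : reducedB 11 (build 11 gens W) = true := by decide

set_option maxRecDepth 100000 in
theorem hnodup : (build 11 gens W).Nodup := by decide

set_option maxRecDepth 100000 in
theorem hlen : (build 11 gens W).length = 11 ^ 2 - 1 := by decide

set_option maxRecDepth 100000 in
theorem hfpf : fpfB 11 (build 11 gens W) = true := by decide

theorem result (A : Matrix.GeneralLinearGroup (Fin 2) (ZMod 11)) (B : Matrix.GeneralLinearGroup (Fin 2) (ZMod 11)) (hA : (A : Matrix (Fin 2) (Fin 2) (ZMod 11)) = !![0, -1; 1, 0]) (hB : (B : Matrix (Fin 2) (Fin 2) (ZMod 11)) = !![2, 4; 1, -3]) : Nat.card (Subgroup.closure ({A, B} : Set (Matrix.GeneralLinearGroup (Fin 2) (ZMod 11)))) = 120 ∧ ∀ v w : Fin 2 → ZMod 11, v ≠ 0 → w ≠ 0 → ∃! h : Subgroup.closure ({A, B} : Set (Matrix.GeneralLinearGroup (Fin 2) (ZMod 11))), Matrix.mulVec ((h : Matrix.GeneralLinearGroup (Fin 2) (ZMod 11)) : Matrix (Fin 2) (Fin 2) (ZMod 11)) v = w :=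 by
  have h := sharp 11 gens W ({A, B} : Set (Matrix.GeneralLinearGroup (Fin 2) (ZMod 11))) ?_ ?_
    hclosed hred hnodup hlen hfpf
  · simpa using h
  · intro g hg
    simp only [Set.mem_insert_iff, Set.mem_singleton_iff] at hg
    rcases hg with rfl | rfl
    · exact ⟨(0, 10, 1, 0), by simp [gens], by rw [hA]; decide⟩
    · exact ⟨(2, 4, 1, 8), by simp [gens], by rw [hB]; decide⟩
  · intro x hx
    simp only [gens, List.mem_cons, List.mem_nil_iff, or_false] at hx
    rcases hx with rfl | rfl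
    · exact ⟨A, by simp, by rw [hA]; decide⟩
    · exact ⟨B, by simp, by rw [hB]; decide⟩

end Cfsg.Agent.S0692
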