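import Mathlib
import Cfsg.Statements.S0693
import Cfsg.Agent.Lib.Lead.MatTwo

set_option autoImplicit false

open Cfsg

namespace Cfsg.Agent.S0693

open Cfsg.Agent.Lib.Lead.MatTwo

def gens : List Q := [(0, 58, 1, 0), (9, 15, 49, 49)]

def W : List (ℕ × ℕ) := [(0, 0), (1, 0), (0, 1), (1, 1), (0, 2), (1, 2), (0, 3), (1, 3), (0, 4), (1, 4), (1, 5), (0, 6), (1, 7), (0, 8), (1, 8), (1, 9), (0, 10), (0, 11), (1, 11), (1, 12), (0, 13), (1, 13), (1, 14), (0, 15), (0, 16), (1, 16), (1, 17), (1, 18), (0, 19), (0, 20), (1, 20), (1, 21), (0, 22), (0, 23), (1, 23), (1, 24), (1, 25), (0, 26), (0, 27), (1, 27), (1, 28), (1, 29), (1, 30), (0, 32), (1, 32), (1, 33), (1, 34), (0, 35), (0, 36), (1, 36), (1, 37), (1, 38), (1, 39), (0, 41), (0, 42), (1, 42), (1, 43), (1, 44), (0, 45), (0, 46), (1, 46), (1, 47), (1, 48), (1, 49), (0, 51), (0, 52), (1, 52), (1, 53), (1, 54), (1, 55), (0, 57), (1, 58), (1, 59), (1, 60), (0, 62), (0, 63), (1, 63), (1, 64), (1, 65), (1, 66), (0, 68), (0, 69),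 (1, 69), (1, 70), (1, 71), (0, 72), (0, 73), (1, 73), (1, 74), (1, 75), (1, 76), (0, 78), (0, 79), (1, 79), (1, 80), (1, 81), (1, 82), (0, 84), (0, 85), (1, 86), (1, 87), (0, 90), (1, 90), (1, 91), (1, 92), (0, 95), (0, 96), (1, 97), (1, 98), (1, 99), (0, 100), (1, 100), (1, 101), (0, 105), (1, 106), (1, 107), (0, 108), (0, 109), (1, 110)]

instance : Fact (Nat.Prime 59) := ⟨by norm_num⟩

set_option maxRecDepth 100000 in
theorem hclosed : closedB 59 gens (build 59 gens W) = true := by decide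

set_option maxRecDepth 100000 in
theorem hred : reducedB 59 (build 59 gens W) = true := by decide

set_option maxRecDepth 100000 in
theorem hnodup : (build 59 gens W).Nodup := by decide

set_option maxRecDepth 100000 in
theorem hlen : (build 59 gens W).length = 120 := by decide

def big : List Q :=
  (List.range 29).flatMap fun k => (build 59 gens W).map (smulQ 59 (4 ^ k % 59))

set_option maxRecDepth 1000000 in
theorem hfpf : fpfB 59 big = true := by decide

theorem result (A : Matrix.GeneralLinearGroup (Fin 2) (ZMod 59)) (B : Matrix.GeneralLinearGroup (Fin 2) (ZMod 59)) (C : Matrix.GeneralLinearGroup (Fin 2) (ZMod 59)) (hA : (A : Matrix (Fin 2) (Fin 2) (ZMod 59)) = !![0, -1; 1, 0]) (hB : (B : Matrix (Fin 2) (Fin 2) (ZMod 59)) = !![9, 15; -10, -10]) (hC : (C : Matrix (Fin 2) (Fin 2) (ZMod 59)) = !![4, 0; 0, 4]) : Nat.card (Subgroup.closure ({A, B, C} : Set (Matrix.GeneralLinearGroup (Fin 2) (ZMod 59)))) = 3480 ∧ ∀ v w : Fin 2 → ZMod 59, v ≠ 0 → w ≠ 0 → ∃! h : Subgroup.closure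 ({A, B, C} : Set (Matrix.GeneralLinearGroup (Fin 2) (ZMod 59))), Matrix.mulVec ((h : Matrix.GeneralLinearGroup (Fin 2) (ZMod 59)) : Matrix (Fin 2) (Fin 2) (ZMod 59)) v = w := by
  classical
  haveI : NeZero 59 := ⟨by norm_num⟩
  set L := build 59 gens W with hL
  have hG : ∀ g ∈ ({A, B} : Set (Matrix.GeneralLinearGroup (Fin 2) (ZMod 59))), ∃ x ∈ gens,
      (g : Matrix (Fin 2) (Fin 2) (ZMod 59)) = toMat 59 x := by
    intro g hg
    simp only [Set.mem_insert_iff, Set.mem_singleton_iff] at hg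
    rcases hg with rfl | rfl
    · exact ⟨(0, 58, 1, 0), by simp [gens], by rw [hA]; decide⟩
    · exact ⟨(9, 15, 49, 49), by simp [gens], by rw [hB]; decide⟩
  have hG' : ∀ x ∈ gens, ∃ g ∈ ({A, B} : Set (Matrix.GeneralLinearGroup (Fin 2) (ZMod 59))),
      (g : Matrix (Fin 2) (Fin 2) (ZMod 59)) = toMat 59 x := by
    intro x hx
    simp only [gens, List.mem_cons, List.mem_nil_iff, or_false] at hx
    rcases hx with rfl | rfl
    · exact ⟨A, by simp, by rw [hA]; decide⟩
    · exact ⟨B, by simp, by rw [hB]; decide⟩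
  have hmem0 := mem_closure_iff 59 gens W _ hG hG' hclosed
  have hcard0 : Nat.card (Subgroup.closure
      ({A, B} : Set (Matrix.GeneralLinearGroup (Fin 2) (ZMod 59)))) = 120 := by
    rw [card_closure 59 gens W _ hG hG' hclosed hred hnodup, hlen]
  have hcl := closedB_spec hclosed
  have hCs : (C : Matrix (Fin 2) (Fin 2) (ZMod 59)) = (4 : ZMod 59) • (1 : Matrix (Fin 2) (Fin 2) (ZMod 59)) := by
    rw [hC]; decide
  have h429 : (4 : ZMod 59) ^ 29 = 1 := by decide
  set K := Subgroup.closure ({A, B, C} : Set (Matrix.GeneralLinearGroup (Fin 2) (ZMod 59))) with hK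
  let S : Set (Matrix.GeneralLinearGroup (Fin 2) (ZMod 59)) :=
    {h | ∃ k < 29, ∃ x ∈ L, (h : Matrix (Fin 2) (Fin 2) (ZMod 59)) = ((4 : ZMod 59) ^ k) • toMat 59 x}
  have hKS : ∀ h ∈ K, h ∈ S := by
    apply closure_subset_of_mul_closed _ S (Set.toFinite S)
    · exact ⟨0, by norm_num, one, one_mem_build _ _ _, by rw [toMat_one]; simp⟩
    · intro g hg s hs
      obtain ⟨k, hk, x, hx, hsx⟩ := hs
      simp only [Set.mem_insert_iff, Set.mem_singleton_iff] at hg
      have hAB : ∀ g : Matrix.GeneralLinearGroup (Fin 2) (ZMod 59), (∃ y ∈ gens,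
          (g : Matrix (Fin 2) (Fin 2) (ZMod 59)) = toMat 59 y) → g * s ∈ S := by
        rintro g ⟨y, hy, hgy⟩
        refine ⟨k, hk, mul 59 y x, hcl y hy x hx, ?_⟩
        rw [toMat_mul, Units.val_mul, hsx, hgy, Matrix.mul_smul]
      rcases hg with rfl | rfl | rfl
      · exact hAB _ (hG _ (by simp))
      · exact hAB _ (hG _ (by simp))
      · by_cases hk' : k + 1 < 29
        · refine ⟨k + 1, hk', x, hx, ?_⟩
          rw [Units.val_mul, hsx, hCs, Matrix.smul_mul, Matrix.one_mul, smul_smul, pow_succ']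
        · have hk28 : k = 28 := by omega
          refine ⟨0, by norm_num, x, hx, ?_⟩
          rw [Units.val_mul, hsx, hCs, Matrix.smul_mul, Matrix.one_mul, smul_smul, ← pow_succ',
            hk28, h429, pow_zero]
  -- cardinality
  have hK0le : Subgroup.closure ({A, B} : Set (Matrix.GeneralLinearGroup (Fin 2) (ZMod 59))) ≤ K := by
    apply Subgroup.closure_mono
    intro g hg
    simp only [Set.mem_insert_iff, Set.mem_singleton_iff] at hg ⊢
    rcases hg with h | h
    · exact Or.inl h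
    · exact Or.inr (Or.inl h)
  have hCK : C ∈ K := Subgroup.subset_closure (by simp)
  have h120 : 120 ∣ Nat.card K := by
    rw [← hcard0]; exact Subgroup.card_dvd_of_le hK0le
  have hordC : orderOf C = 29 := by
    haveI : Fact (Nat.Prime 29) := ⟨by norm_num⟩
    apply orderOf_eq_prime
    · apply Units.ext
      rw [Units.val_pow_eq_pow_val, hCs, smul_pow, one_pow, h429, one_smul]; rfl
    · intro h1
      have := congrArg (fun g : Matrix.GeneralLinearGroup (Fin 2) (ZMod 59) =>
        (g : Matrix (Fin 2) (Fin 2) (ZMod 59)) 0 0) h1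
      simp only [hC] at this
      revert this
      simp
      decide
  have h29 : 29 ∣ Nat.card K := by
    rw [← hordC, ← Nat.card_zpowers]
    apply Subgroup.card_dvd_of_le
    rw [Subgroup.zpowers_le]; exact hCK
  have h3480 : 3480 ∣ Nat.card K := by
    have : Nat.Coprime 120 29 := by norm_num
    exact this.mul_dvd_of_dvd_of_dvd h120 h29
  have hle : Nat.card K ≤ 3480 := by
    let F : ℕ × Q → Matrix (Fin 2) (Fin 2) (ZMod 59) := fun kx => ((4 : ZMod 59) ^ kx.1) • toMat 59 kx.2
    let T : Finset (ℕ × Q) := Finset.range 29 ×ˢ L.toFinset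
    let ι : K → Matrix (Fin 2) (Fin 2) (ZMod 59) := fun h => ((h : Matrix.GeneralLinearGroup (Fin 2) (ZMod 59)) : Matrix (Fin 2) (Fin 2) (ZMod 59))
    have hι : Function.Injective ι := by
      intro h h' hh
      exact Subtype.ext (Units.ext hh)
    have hsub : Set.range ι ⊆ F '' (T : Set (ℕ × Q)) := by
      rintro _ ⟨h, rfl⟩
      obtain ⟨k, hk, x, hx, hhx⟩ := hKS h.1 h.2
      refine ⟨(k, x), ?_, hhx.symm⟩
      simp only [T, Finset.coe_product, Set.mem_prod, Finset.mem_coe, Finset.mem_range,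
        List.mem_toFinset]
      exact ⟨hk, hx⟩
    calc Nat.card K = (Set.range ι).ncard := by
          rw [← Set.image_univ, Set.ncard_image_of_injective _ hι, Set.ncard_univ]
      _ ≤ (F '' (T : Set (ℕ × Q))).ncard := Set.ncard_le_ncard hsub (Set.toFinite _)
      _ ≤ (T : Set (ℕ × Q)).ncard := Set.ncard_image_le (Set.toFinite _)
      _ = T.card := Set.ncard_coe_finset T
      _ = 29 * L.toFinset.card := by rw [Finset.card_product, Finset.card_range]
      _ = 3480 := by rw [List.toFinset_card_of_nodup hnodup, hlen]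
  have hpos : 0 < Nat.card K := Nat.card_pos
  have hcard : Nat.card K = 3480 := by
    obtain ⟨m, hm⟩ := h3480
    have : m = 1 := by nlinarith
    rw [hm, this]
  refine ⟨hcard, regular 59 K (by rw [hcard]; norm_num) ?_⟩
  intro h hh h1
  obtain ⟨k, hk, x, hx, hhx⟩ := hKS h hh
  have hy : smulQ 59 (4 ^ k % 59) x ∈ big := by
    rw [big, List.mem_flatMap]
    exact ⟨k, List.mem_range.2 hk, List.mem_map.2 ⟨x, hx, rfl⟩⟩
  have hhy : (h : Matrix (Fin 2) (Fin 2) (ZMod 59)) = toMat 59 (smulQ 59 (4 ^ k % 59) x) := by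
    rw [toMat_smulQ, hhx, ZMod.natCast_mod]
    push_cast
    rfl
  rw [hhy]
  apply fpfB_spec hfpf _ hy
  intro hone
  apply h1
  apply Units.ext
  rw [hhy, hone, toMat_one]; rfl

end Cfsg.Agent.S0693
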