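import Mathlib
import Cfsg.Statements.S0694

set_option autoImplicit false
open Cfsg

namespace Cfsg.Agent.S0694


/-- `v_s(x^k - 1) = v_s(x - 1)` when `s ∣ x - 1` and `s ∤ k`. -/
theorem padicVal_pow_sub_one_of_not_dvd {s x k : ℕ} (hs : s.Prime) (hx : 2 ≤ x) (hsx : s ∣ x - 1)
    (hk : ¬ s ∣ k) : padicValNat s (x ^ k - 1) = padicValNat s (x - 1) := by
  haveI : Fact s.Prime := ⟨hs⟩
  have hk0 : k ≠ 0 := fun h => hk (h ▸ dvd_zero s)
  have h1 : 1 ≤ x ^ k := Nat.one_le_pow _ _ (by omega)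
  have hx1 : x - 1 ≠ 0 := by omega
  have hxk1 : x ^ k - 1 ≠ 0 := by
    have : 2 ≤ x ^ k := by
      calc 2 ≤ x := hx
        _ = x ^ 1 := (pow_one x).symm
        _ ≤ x ^ k := Nat.pow_le_pow_right (by omega) (Nat.one_le_iff_ne_zero.mpr hk0)
    omega
  rw [← Nat.cast_inj (R := ℕ∞), padicValNat_eq_emultiplicity hxk1, padicValNat_eq_emultiplicity hx1]
  rw [← Int.natCast_emultiplicity, ← Int.natCast_emultiplicity s (x - 1)]
  rw [Nat.cast_sub h1, Nat.cast_sub (by omega : 1 ≤ x)]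
  push_cast
  have hsx' : (s : ℤ) ∣ (x : ℤ) - 1 := by
    have : ((x - 1 : ℕ) : ℤ) = (x : ℤ) - 1 := by rw [Nat.cast_sub (by omega : 1 ≤ x)]; simp
    rw [← this]; exact Int.natCast_dvd_natCast.mpr hsx
  have hnx : ¬ (s : ℤ) ∣ (x : ℤ) := by
    intro h
    have h2 : (s : ℤ) ∣ 1 := by
      have := dvd_sub h hsx'
      simpa using this
    have h3 : s ∣ 1 := by exact_mod_cast h2
    exact hs.one_lt.ne' (Nat.dvd_one.mp h3)
  have hk' : ¬ (s : ℤ) ∣ (k : ℤ) := by
    intro h; exact hk (by exact_mod_cast h)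
  have := emultiplicity_pow_sub_pow_of_prime (Nat.prime_iff_prime_int.mp hs) (x := (x : ℤ)) (y := 1)
    (by simpa using hsx') hnx hk'
  simpa using this



/-- LTE for an odd prime `s ∣ q - 1`. -/
theorem lte_odd {s q m : ℕ} (hs : s.Prime) (hodd : Odd s) (hq : 2 ≤ q) (hsq : s ∣ q - 1)
    (hm : m ≠ 0) : padicValNat s (q ^ m - 1) = padicValNat s (q - 1) + padicValNat s m := by
  haveI : Fact s.Prime := ⟨hs⟩
  have hnq : ¬ s ∣ q := by
    intro h
    have : s ∣ q - (q - 1) := Nat.dvd_sub h hsq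
    have e : q - (q - 1) = 1 := by omega
    rw [e] at this
    exact hs.one_lt.ne' (Nat.dvd_one.mp this)
  have := padicValNat.pow_sub_pow (p := s) hodd (x := q) (y := 1) (by omega) hsq hnq hm
  simpa using this

/-- divisibility by `n * (q - 1)` through valuations -/
theorem dvd_iff {q n m : ℕ} (hq : 2 ≤ q) (hn : n ≠ 0) (hm : m ≠ 0) :
    n * (q - 1) ∣ q ^ m - 1 ↔
      ∀ s : ℕ, s.Prime → padicValNat s n + padicValNat s (q - 1) ≤ padicValNat s (q ^ m - 1) := by
  have hq1 : q - 1 ≠ 0 := by omega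
  have hX : q ^ m - 1 ≠ 0 := by
    have : 2 ≤ q ^ m := by
      calc 2 ≤ q := hq
        _ = q ^ 1 := (pow_one q).symm
        _ ≤ q ^ m := Nat.pow_le_pow_right (by omega) (Nat.one_le_iff_ne_zero.mpr hm)
    omega
  rw [← Nat.factorization_prime_le_iff_dvd (mul_ne_zero hn hq1) hX]
  constructor
  · intro h s hs
    haveI : Fact s.Prime := ⟨hs⟩
    have := h s hs
    rw [Nat.factorization_def _ hs, Nat.factorization_def _ hs, padicValNat.mul hn hq1] at this
    exact this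
  · intro h s hs
    haveI : Fact s.Prime := ⟨hs⟩
    rw [Nat.factorization_def _ hs, Nat.factorization_def _ hs, padicValNat.mul hn hq1]
    exact h s hs

/-- the congruence as divisibility -/
theorem modEq_iff {q n m : ℕ} (hq : 2 ≤ q) :
    q ^ m ≡ 1 [MOD n * (q - 1)] ↔ n * (q - 1) ∣ q ^ m - 1 := by
  have h1 : 1 ≤ q ^ m := Nat.one_le_pow _ _ (by omega)
  rw [Nat.ModEq.comm, Nat.modEq_iff_dvd' h1]



theorem padicVal_le_of_dvd {s a b : ℕ} [Fact s.Prime] (hab : a ∣ b) (hb : b ≠ 0) :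
    padicValNat s a ≤ padicValNat s b :=
  (padicValNat_dvd_iff_le hb).mp (pow_padicValNat_dvd.trans hab)

theorem cast_pow_sub_one_eq_zero_iff {s q k : ℕ} (hq : 2 ≤ q) :
    s ∣ q ^ k - 1 ↔ ((q : ZMod s)) ^ k = 1 := by
  have h1 : 1 ≤ q ^ k := Nat.one_le_pow _ _ (by omega)
  rw [← ZMod.natCast_eq_zero_iff, Nat.cast_sub h1, sub_eq_zero]
  push_cast
  rfl

theorem ord_lemma {s q n r m : ℕ} (hs : s.Prime) (hr : r.Prime) (hsr : s ≤ r) (hn : n = r * m)
    (hn0 : n ≠ 0) (hq : 2 ≤ q) (hdiv : s ∣ q ^ n - 1) :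
    ∃ d, d ≠ 0 ∧ d ∣ m ∧ d < s ∧ s ∣ q ^ d - 1 := by
  haveI : Fact s.Prime := ⟨hs⟩
  have han : ((q : ZMod s)) ^ n = 1 := (cast_pow_sub_one_eq_zero_iff hq).mp hdiv
  have ha0 : (q : ZMod s) ≠ 0 := by
    intro h
    rw [h, zero_pow hn0] at han
    exact zero_ne_one han
  have hd1 : orderOf (q : ZMod s) ∣ n := orderOf_dvd_of_pow_eq_one han
  have hd2 : orderOf (q : ZMod s) ∣ s - 1 :=
    orderOf_dvd_of_pow_eq_one (ZMod.pow_card_sub_one_eq_one ha0)
  have hs1 : s - 1 ≠ 0 := by have := hs.two_le; omega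
  have hd0 : orderOf (q : ZMod s) ≠ 0 := fun h => hs1 (by rw [h] at hd2; exact zero_dvd_iff.mp hd2)
  have hdlt : orderOf (q : ZMod s) < s := by
    have := Nat.le_of_dvd (Nat.pos_of_ne_zero hs1) hd2
    omega
  have hcop : Nat.Coprime (orderOf (q : ZMod s)) r := by
    rw [Nat.coprime_comm, hr.coprime_iff_not_dvd]
    intro h
    have := Nat.le_of_dvd (Nat.pos_of_ne_zero hd0) h
    omega
  refine ⟨orderOf (q : ZMod s), hd0, ?_, hdlt, ?_⟩
  · rw [hn] at hd1
    exact hcop.dvd_of_dvd_mul_left hd1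
  · rw [cast_pow_sub_one_eq_zero_iff hq]
    exact pow_orderOf_eq_one _

theorem pow_sub_one_dvd {q d m : ℕ} (h : d ∣ m) : q ^ d - 1 ∣ q ^ m - 1 :=
  Nat.pow_sub_one_dvd_pow_sub_one q h


theorem two_le_pow {q m : ℕ} (hq : 2 ≤ q) (hm : m ≠ 0) : 2 ≤ q ^ m :=
  calc 2 ≤ q := hq
    _ = q ^ 1 := (pow_one q).symm
    _ ≤ q ^ m := Nat.pow_le_pow_right (by omega) (Nat.one_le_iff_ne_zero.mpr hm)

theorem val_two_eq_one {a : ℕ} (ha : a ≠ 0) (h2 : 2 ∣ a) (h4 : ¬ 4 ∣ a) : padicValNat 2 a = 1 := by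
  have h1 : 1 ≤ padicValNat 2 a := (padicValNat_dvd_iff_le ha).mp (by simpa using h2)
  have h3 : ¬ 2 ≤ padicValNat 2 a := fun h => h4 (by
    have := (padicValNat_dvd_iff_le (p := 2) ha).mpr h
    simpa using this)
  omega

/-- Under the Dickson condition, valuation comparison reduces to `v_s(n) ≤ v_s(m)`. -/
theorem val_cases {q n m s : ℕ} (hq : 2 ≤ q) (hn : n ≠ 0) (hm : m ≠ 0) (hs : s.Prime)
    (H1 : ∀ r : ℕ, r.Prime → r ∣ n → r ∣ q - 1) (H2 : 4 ∣ n → 4 ∣ q - 1) :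
    (padicValNat s n + padicValNat s (q - 1) ≤ padicValNat s (q ^ m - 1)) ↔
      padicValNat s n ≤ padicValNat s m := by
  haveI : Fact s.Prime := ⟨hs⟩
  have hq1 : q - 1 ≠ 0 := by omega
  have hX : q ^ m - 1 ≠ 0 := by have := two_le_pow hq hm; omega
  by_cases hsn : s ∣ n
  · have hsq : s ∣ q - 1 := H1 s hs hsn
    rcases hs.eq_two_or_odd' with rfl | hodd
    · -- s = 2
      have hqodd : ¬ 2 ∣ q := by omega
      by_cases h4 : 4 ∣ q - 1
      · -- formula v(q^m-1) = v(q-1) + v(m)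
        have hq1' : padicValNat 2 (q + 1) = 1 := by
          apply val_two_eq_one (by omega) (by omega) (by omega)
        have key : padicValNat 2 (q ^ m - 1) = padicValNat 2 (q - 1) + padicValNat 2 m := by
          by_cases hme : Even m
          · have := padicValNat.pow_two_sub_one (x := q) (n := m) (by omega) hqodd hm hme
            omega
          · have hm2 : ¬ 2 ∣ m := fun h => hme (even_iff_two_dvd.mpr h)
            rw [padicVal_pow_sub_one_of_not_dvd Nat.prime_two hq hsq hm2,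
              padicValNat.eq_zero_of_not_dvd hm2, add_zero]
        rw [key]; omega
      · have h4n : ¬ 4 ∣ n := fun h => h4 (H2 h)
        have hvn : padicValNat 2 n = 1 := val_two_eq_one hn hsn h4n
        have hvq : padicValNat 2 (q - 1) = 1 := val_two_eq_one hq1 hsq h4
        have hvq1 : 2 ≤ padicValNat 2 (q + 1) := by
          apply (padicValNat_dvd_iff_le (by omega)).mp
          show 2 ^ 2 ∣ q + 1
          omega
        by_cases hme : Even m
        · have := padicValNat.pow_two_sub_one (x := q) (n := m) (by omega) hqodd hm hme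
          have hvm : 1 ≤ padicValNat 2 m :=
            (padicValNat_dvd_iff_le hm).mp (by simpa using even_iff_two_dvd.mp hme)
          constructor
          · intro _; omega
          · intro _; omega
        · have hm2 : ¬ 2 ∣ m := fun h => hme (even_iff_two_dvd.mpr h)
          rw [padicVal_pow_sub_one_of_not_dvd Nat.prime_two hq hsq hm2,
            padicValNat.eq_zero_of_not_dvd hm2]
          omega
    · rw [lte_odd hs hodd hq hsq hm]; omega
  · rw [padicValNat.eq_zero_of_not_dvd hsn]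
    have := padicVal_le_of_dvd (s := s) (Nat.sub_one_dvd_pow_sub_one q m) hX
    constructor
    · intro _; omega
    · intro _; omega

theorem forward {q n : ℕ} (hq : 2 ≤ q) (hn : 1 < n)
    (H1 : ∀ r : ℕ, r.Prime → r ∣ n → r ∣ q - 1) (H2 : 4 ∣ n → 4 ∣ q - 1) (m : ℕ) (hm : m ≠ 0) :
    n * (q - 1) ∣ q ^ m - 1 ↔ n ∣ m := by
  have hn0 : n ≠ 0 := by omega
  rw [dvd_iff hq hn0 hm, ← Nat.factorization_prime_le_iff_dvd hn0 hm]
  constructor
  · intro h s hs
    rw [Nat.factorization_def _ hs, Nat.factorization_def _ hs]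
    exact (val_cases hq hn0 hm hs H1 H2).mp (h s hs)
  · intro h s hs
    have := h s hs
    rw [Nat.factorization_def _ hs, Nat.factorization_def _ hs] at this
    exact (val_cases hq hn0 hm hs H1 H2).mpr this

theorem backward1 {q n : ℕ} (hq : 2 ≤ q) (hn : 1 < n) (hC : n * (q - 1) ∣ q ^ n - 1)
    (hmin : ∀ i : ℕ, 0 < i → i < n → ¬ n * (q - 1) ∣ q ^ i - 1) :
    ∀ r : ℕ, r.Prime → r ∣ n → r ∣ q - 1 := by
  have hn0 : n ≠ 0 := by omega
  have hq1 : q - 1 ≠ 0 := by omega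
  by_contra hbad
  push Not at hbad
  obtain ⟨r₀, hr₀p, hr₀n, hr₀q⟩ := hbad
  let B : Finset ℕ := n.primeFactors.filter (fun r => ¬ r ∣ q - 1)
  have hBne : B.Nonempty :=
    ⟨r₀, Finset.mem_filter.mpr ⟨Nat.mem_primeFactors.mpr ⟨hr₀p, hr₀n, hn0⟩, hr₀q⟩⟩
  set r := B.max' hBne with hrdef
  have hrB : r ∈ B := Finset.max'_mem B hBne
  have hr : r.Prime := (Nat.mem_primeFactors.mp (Finset.mem_filter.mp hrB).1).1
  have hrn : r ∣ n := (Nat.mem_primeFactors.mp (Finset.mem_filter.mp hrB).1).2.1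
  have hrq : ¬ r ∣ q - 1 := (Finset.mem_filter.mp hrB).2
  obtain ⟨m, hnrm⟩ := hrn
  have hm0 : m ≠ 0 := by
    rintro rfl; rw [mul_zero] at hnrm; exact hn0 hnrm
  have hmn : m < n := by
    rw [hnrm]
    have := hr.two_le
    nlinarith [Nat.pos_of_ne_zero hm0]
  have hCn := (dvd_iff hq hn0 hn0).mp hC
  -- r is odd
  have hr2 : r ≠ 2 := by
    intro h2
    rw [h2] at hrq
    have hqe : 2 ∣ q := by omega
    have hX : 2 ∣ q ^ n := dvd_pow hqe hn0
    have h1 : 2 ∣ q ^ n - 1 := by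
      have : 2 ∣ n * (q - 1) := by rw [← h2]; exact Dvd.dvd.mul_right ⟨m, hnrm⟩ _
      exact this.trans hC
    have h3 : 1 ≤ q ^ n := Nat.one_le_pow _ _ (by omega)
    omega
  have hrodd : Odd r := hr.odd_of_ne_two hr2
  apply hmin m (Nat.pos_of_ne_zero hm0) hmn
  rw [dvd_iff hq hn0 hm0]
  intro s hs
  haveI : Fact s.Prime := ⟨hs⟩
  by_cases hsN : s ∣ n * (q - 1)
  · have hsX : s ∣ q ^ n - 1 := hsN.trans hC
    have hsm : s ∣ q ^ m - 1 := by
      by_cases hsq : s ∣ q - 1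
      · exact hsq.trans (Nat.sub_one_dvd_pow_sub_one q m)
      · have hsn : s ∣ n := (hs.dvd_mul.mp hsN).resolve_right hsq
        have hsB : s ∈ B :=
          Finset.mem_filter.mpr ⟨Nat.mem_primeFactors.mpr ⟨hs, hsn, hn0⟩, hsq⟩
        have hsr : s ≤ r := Finset.le_max' B s hsB
        obtain ⟨d, hd0, hdm, hds, hsd⟩ := ord_lemma hs hr hsr hnrm hn0 hq hsX
        exact hsd.trans (pow_sub_one_dvd hdm)
    by_cases hsr : s = r
    · subst hsr
      rw [padicValNat.eq_zero_of_not_dvd hrq, add_zero]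
      obtain ⟨d, hd0, hdm, hdr, hrd⟩ := ord_lemma hr hr le_rfl hnrm hn0 hq hsX
      obtain ⟨e, rfl⟩ := hdm
      have he0 : e ≠ 0 := by
        rintro rfl; rw [mul_zero] at hm0; exact hm0 rfl
      have hrd' : ¬ r ∣ d := fun h => by
        have := Nat.le_of_dvd (Nat.pos_of_ne_zero hd0) h
        omega
      have h1 : padicValNat r (q ^ (d * e) - 1) =
          padicValNat r (q ^ d - 1) + padicValNat r e := by
        rw [pow_mul]
        exact lte_odd hr hrodd (two_le_pow hq hd0) hrd he0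
      have h2 : 1 ≤ padicValNat r (q ^ d - 1) := by
        have : q ^ d - 1 ≠ 0 := by have := two_le_pow hq hd0; omega
        exact one_le_padicValNat_of_dvd this hrd
      have h3 : padicValNat r n = 1 + padicValNat r e := by
        rw [hnrm, padicValNat.mul hr.ne_zero (mul_ne_zero hd0 he0), padicValNat_self,
          padicValNat.mul hd0 he0, padicValNat.eq_zero_of_not_dvd hrd', zero_add]
      omega
    · have hsr' : ¬ s ∣ r := fun h => hsr ((Nat.prime_dvd_prime_iff_eq hs hr).mp h)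
      have h1 : padicValNat s (q ^ n - 1) = padicValNat s (q ^ m - 1) := by
        rw [hnrm, mul_comm, pow_mul]
        exact padicVal_pow_sub_one_of_not_dvd hs (two_le_pow hq hm0) hsm hsr'
      rw [← h1]
      exact hCn s hs
  · have hsn : ¬ s ∣ n := fun h => hsN (Dvd.dvd.mul_right h _)
    have hsq : ¬ s ∣ q - 1 := fun h => hsN (Dvd.dvd.mul_left h _)
    rw [padicValNat.eq_zero_of_not_dvd hsn, padicValNat.eq_zero_of_not_dvd hsq]
    exact Nat.zero_le _

theorem backward2 {q n : ℕ} (hq : 2 ≤ q) (hn : 1 < n)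
    (H1 : ∀ r : ℕ, r.Prime → r ∣ n → r ∣ q - 1)
    (hmin : ∀ i : ℕ, 0 < i → i < n → ¬ n * (q - 1) ∣ q ^ i - 1) :
    4 ∣ n → 4 ∣ q - 1 := by
  intro h4n
  by_contra h4q
  have hn0 : n ≠ 0 := by omega
  have hq1 : q - 1 ≠ 0 := by omega
  have h2n : 2 ∣ n := Dvd.dvd.trans (by norm_num) h4n
  have h2q : 2 ∣ q - 1 := H1 2 Nat.prime_two h2n
  obtain ⟨m, hnm⟩ := h2n
  have hm0 : m ≠ 0 := by
    rintro rfl; rw [mul_zero] at hnm; exact hn0 hnm
  have hme : Even m := by
    rw [even_iff_two_dvd]; omega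
  have hqodd : ¬ 2 ∣ q := by omega
  apply hmin m (Nat.pos_of_ne_zero hm0) (by omega)
  rw [dvd_iff hq hn0 hm0]
  intro s hs
  haveI : Fact s.Prime := ⟨hs⟩
  have hX : q ^ m - 1 ≠ 0 := by have := two_le_pow hq hm0; omega
  rcases hs.eq_two_or_odd' with rfl | hodd
  · have hvq : padicValNat 2 (q - 1) = 1 := val_two_eq_one hq1 h2q h4q
    have hvq1 : 2 ≤ padicValNat 2 (q + 1) := by
      apply (padicValNat_dvd_iff_le (by omega)).mp
      show 2 ^ 2 ∣ q + 1
      omega
    have := padicValNat.pow_two_sub_one (x := q) (n := m) (by omega) hqodd hm0 hme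
    have hvn : padicValNat 2 n = 1 + padicValNat 2 m := by
      rw [hnm, padicValNat.mul (by norm_num) hm0, padicValNat_self]
    omega
  · have hs2 : ¬ s ∣ 2 := by
      intro h
      have := (Nat.prime_dvd_prime_iff_eq hs Nat.prime_two).mp h
      rw [this] at hodd
      exact absurd hodd (by decide)
    have hvn : padicValNat s n = padicValNat s m := by
      rw [hnm, padicValNat.mul (by norm_num) hm0, padicValNat.eq_zero_of_not_dvd hs2, zero_add]
    by_cases hsn : s ∣ n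
    · have hsq := H1 s hs hsn
      rw [lte_odd hs hodd hq hsq hm0, hvn]; omega
    · rw [padicValNat.eq_zero_of_not_dvd hsn, zero_add]
      exact padicVal_le_of_dvd (Nat.sub_one_dvd_pow_sub_one q m) hX

/-- The Dickson pair condition: for a prime power `q` and `n > 1`, (every prime factor of `n` divides `q - 1`, and `4 ∣ n → 4 ∣ q - 1`) holds exactly when `q ^ n ≡ 1` modulo `n * (q - 1)` but `q ^ i` is not, for `0 < i < n`. -/
theorem result (q n : ℕ) (hq : IsPrimePow q) (hn : 1 < n) : ((∀ r : ℕ, r.Prime → r ∣ n → r ∣ q - 1) ∧ (4 ∣ n → 4 ∣ q - 1)) ↔ (q ^ n ≡ 1 [MOD n * (q - 1)] ∧ ∀ i : ℕ, 0 < i → i < n → ¬ q ^ i ≡ 1 [MOD n * (q - 1)]) := by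
  have hq2 : 2 ≤ q := hq.two_le
  have hn0 : n ≠ 0 := by omega
  constructor
  · rintro ⟨H1, H2⟩
    refine ⟨?_, ?_⟩
    · rw [modEq_iff hq2, forward hq2 hn H1 H2 n hn0]
    · intro i hi hin
      rw [modEq_iff hq2, forward hq2 hn H1 H2 i (by omega)]
      intro h
      have := Nat.le_of_dvd hi h
      omega
  · rintro ⟨hC, hmin⟩
    rw [modEq_iff hq2] at hC
    have hmin' : ∀ i : ℕ, 0 < i → i < n → ¬ n * (q - 1) ∣ q ^ i - 1 := by
      intro i hi hin h
      exact hmin i hi hin ((modEq_iff hq2).mpr h)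
    have H1 := backward1 hq2 hn hC hmin'
    exact ⟨H1, backward2 hq2 hn H1 hmin'⟩

end Cfsg.Agent.S0694
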