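import Mathlib
import Cfsg.Statements.S0695
import Cfsg.Agent.Lib.Lead.RegularNormal

set_option autoImplicit false
open Cfsg

namespace Cfsg.Agent.S0695

open MulAction SubMulAction Cfsg.Agent.Lib.Lead.RegularNormal

section

variable {G X : Type*} [Group G] [MulAction G X] (N : Subgroup G) [N.Normal]
  (htrans : IsPretransitive N X) (hreg : ∀ x : X, stabilizer N x = ⊥) (x : X)

/-- The map `n • x ↦ n⁻¹ • x`. -/
noncomputable def iota (y : X) : X := ((nu N htrans x y : N) : G)⁻¹ • x

include hreg in
theorem nu_iota (y : X) : nu N htrans x (iota N htrans x y) = (nu N htrans x y)⁻¹ := by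
  symm
  apply nu_unique N htrans hreg x
  rfl

include hreg in
theorem iota_iota (y : X) : iota N htrans x (iota N htrans x y) = y := by
  show ((nu N htrans x (iota N htrans x y) : N) : G)⁻¹ • x = y
  rw [nu_iota N htrans hreg, InvMemClass.coe_inv, inv_inv]
  exact nu_spec N htrans x y

include hreg in
theorem iota_smul (y : X) (h : G) (hx : h • x = x) :
    iota N htrans x (h • y) = h • iota N htrans x y := by
  show ((nu N htrans x (h • y) : N) : G)⁻¹ • x = h • (((nu N htrans x y : N) : G)⁻¹ • x)
  rw [nu_conj N htrans hreg x y h hx]
  have hx' : h⁻¹ • x = x := by rw [inv_smul_eq_iff, hx]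
  have : (h * (nu N htrans x y : G) * h⁻¹)⁻¹ = h * ((nu N htrans x y : G))⁻¹ * h⁻¹ := by group
  rw [this, mul_smul, mul_smul, hx']

include hreg in
theorem iota_eq_base (y : X) (h : iota N htrans x y = x) : y = x := by
  have h1 : (nu N htrans x y)⁻¹ = 1 := by
    apply eq_of_smul_eq N hreg x
    rw [one_smul]
    exact h
  have h2 : nu N htrans x y = 1 := inv_eq_one.mp h1
  have := nu_spec N htrans x y
  rw [h2, one_smul] at this
  exact this.symm

include hreg in
theorem sq_of_iota_fixed (y : X) (h : iota N htrans x y = y) : (nu N htrans x y) ^ 2 = 1 := by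
  have h1 : (nu N htrans x y)⁻¹ = nu N htrans x y := by
    apply eq_of_smul_eq N hreg x
    rw [nu_spec]
    exact h
  rw [pow_two]
  nth_rewrite 1 [← h1]
  exact inv_mul_cancel _

end

/-- A regular normal subgroup of a doubly primitive group of finite degree at least 2 is an elementary abelian 2-group (and the degree is a power of 2), unless the degree is 3. -/
theorem result {G : Type*} [Group G] {X : Type*} [Fintype X] [MulAction G X] (hX : 2 ≤ Fintype.card X) (h2 : MulAction.IsMultiplyPreprimitive G X 2) (N : Subgroup G) [N.Normal] (htrans : MulAction.IsPretransitive N X) (hreg : ∀ x : X, MulAction.stabilizer N x = ⊥) : Fintype.card X = 3 ∨ (IsMulCommutative N ∧ (∀ n ∈ N, n ^ 2 = 1) ∧ ∃ m : ℕ, Fintype.card X = 2 ^ m) := by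
  classical
  have hne : Nonempty X := by
    rw [← Fintype.card_pos_iff]; omega
  obtain ⟨x⟩ := hne
  have hprim : IsPreprimitive (fixingSubgroup G ({x} : Set X)) (ofFixingSubgroup G ({x} : Set X)) :=
    h2.isPreprimitive_ofFixingSubgroup (s := {x}) (by rw [Set.encard_singleton]; rfl)
  -- the involution on the complement
  have hfix : ∀ h : fixingSubgroup G ({x} : Set X), (h : G) • x = x := fun h =>
    (mem_fixingSubgroup_iff G).mp h.2 x rfl
  let ι : ofFixingSubgroup G ({x} : Set X) → ofFixingSubgroup G ({x} : Set X) := fun y =>
    ⟨iota N htrans x (y : X), fun hy => y.2 (by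
      have := iota_eq_base N htrans hreg x (y : X) hy
      exact this)⟩
  have hι : ∀ (h : fixingSubgroup G ({x} : Set X)) (y : ofFixingSubgroup G ({x} : Set X)),
      ι (h • y) = h • ι y := by
    intro h y
    apply Subtype.ext
    exact iota_smul N htrans hreg x (y : X) (h : G) (hfix h)
  have hinv : ∀ y, ι (ι y) = y := by
    intro y
    apply Subtype.ext
    exact iota_iota N htrans hreg x (y : X)
  by_cases hall : ∀ y : ofFixingSubgroup G ({x} : Set X), ι y = y
  · right
    have hsq : ∀ n : N, n ^ 2 = 1 := by
      intro n
      by_cases hn : n = 1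
      · rw [hn, one_pow]
      · have hy : n • x ≠ x := by
          intro h
          apply hn
          have : n ∈ stabilizer N x := h
          rwa [hreg x, Subgroup.mem_bot] at this
        have hnu : n = nu N htrans x (n • x) := nu_unique N htrans hreg x _ n rfl
        have := hall ⟨n • x, hy⟩
        have h3 : iota N htrans x (n • x) = n • x := congrArg Subtype.val this
        have := sq_of_iota_fixed N htrans hreg x (n • x) h3
        rwa [← hnu] at this
    have hcomm : ∀ a b : N, a * b = b * a := by
      intro a b
      have ha : a⁻¹ = a := by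
        rw [inv_eq_iff_mul_eq_one, ← pow_two]; exact hsq a
      have hb : b⁻¹ = b := by
        rw [inv_eq_iff_mul_eq_one, ← pow_two]; exact hsq b
      have hab : (a * b)⁻¹ = a * b := by
        rw [inv_eq_iff_mul_eq_one, ← pow_two]; exact hsq (a * b)
      rw [mul_inv_rev, ha, hb] at hab
      exact hab.symm
    refine ⟨⟨⟨hcomm⟩⟩, fun n hn => ?_, ?_⟩
    · have := hsq ⟨n, hn⟩
      exact congrArg Subtype.val this
    · have hp : IsPGroup 2 N := fun n => ⟨1, by rw [pow_one]; exact hsq n⟩
      haveI : Finite N := by
        have := card_eq N htrans hreg x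
        apply Nat.finite_of_card_ne_zero
        rw [← this, Nat.card_eq_fintype_card]
        omega
      obtain ⟨m, hm⟩ := IsPGroup.iff_card.mp hp
      refine ⟨m, ?_⟩
      rw [← Nat.card_eq_fintype_card, card_eq N htrans hreg x, hm]
  · left
    push Not at hall
    obtain ⟨y, hy⟩ := hall
    have hcover := (involution_block ι hι hinv y).resolve_left hy
    have huniv : (Finset.univ : Finset X) = {x, (y : X), (ι y : X)} := by
      apply Finset.eq_of_subset_of_card_le
      · intro z _
        by_cases hz : z = x
        · simp [hz]
        · have := hcover ⟨z, hz⟩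
          rcases this with h | h
          · have : z = (y : X) := congrArg Subtype.val h
            simp [this]
          · have : z = (ι y : X) := congrArg Subtype.val h
            simp [this]
      · exact Finset.card_le_univ _
    have h1 : x ≠ (y : X) := fun h => y.2 h.symm
    have h2 : x ≠ (ι y : X) := fun h => (ι y).2 h.symm
    have h3 : (y : X) ≠ (ι y : X) := fun h => hy (Subtype.ext h.symm)
    rw [← Finset.card_univ, huniv]
    rw [Finset.card_insert_of_notMem (by simp [h1, h2]), Finset.card_pair h3]

end Cfsg.Agent.S0695
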