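import Mathlib
import Cfsg.Statements.S0696
import Cfsg.Agent.Lib.Lead.RegularNormal
import Cfsg.Agent.S0695

set_option autoImplicit false
open Cfsg

namespace Cfsg.Agent.S0696

open MulAction SubMulAction Cfsg.Agent.Lib.Lead.RegularNormal

section

variable {G X : Type*} [Group G] [MulAction G X] (N : Subgroup G) [N.Normal]
  (htrans : IsPretransitive N X) (hreg : ∀ x : X, stabilizer N x = ⊥) (x : X) (n : N)

/-- The map `m • x ↦ (m * n) • x`. -/
noncomputable def tau (z : X) : X := (nu N htrans x z * n) • x

include hreg in
theorem nu_tau (z : X) : nu N htrans x (tau N htrans x n z) = nu N htrans x z * n := by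
  symm
  apply nu_unique N htrans hreg x
  rfl

include hreg in
theorem tau_tau (hn : n * n = 1) (z : X) : tau N htrans x n (tau N htrans x n z) = z := by
  show (nu N htrans x (tau N htrans x n z) * n) • x = z
  rw [nu_tau N htrans hreg, mul_assoc, hn, mul_one]
  exact nu_spec N htrans x z

include hreg in
theorem tau_ne (hn : n ≠ 1) (z : X) : tau N htrans x n z ≠ z := by
  intro h
  have h1 : nu N htrans x z * n = nu N htrans x z := by
    apply eq_of_smul_eq N hreg x
    rw [nu_spec]; exact h
  exact hn (mul_eq_left.mp h1)

include hreg in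
theorem tau_eq_base (hn : n * n = 1) (z : X) (h : tau N htrans x n z = x) : z = n • x := by
  have h1 : nu N htrans x z * n = 1 := by
    apply eq_of_smul_eq N hreg x
    rw [one_smul]; exact h
  have h2 : nu N htrans x z = n := by
    have : nu N htrans x z = n⁻¹ := eq_inv_of_mul_eq_one_left h1
    rw [this, inv_eq_iff_mul_eq_one]; exact hn
  have := nu_spec N htrans x z
  rw [h2] at this
  exact this.symm

include hreg in
theorem tau_eq_n (z : X) (h : tau N htrans x n z = n • x) : z = x := by
  have h1 : nu N htrans x z * n = n := by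
    apply eq_of_smul_eq N hreg x
    exact h
  have h2 : nu N htrans x z = 1 := mul_eq_right.mp h1
  have := nu_spec N htrans x z
  rw [h2, one_smul] at this
  exact this.symm

include hreg in
theorem tau_smul (z : X) (h : G) (hx : h • x = x) (hy : h • (n • x) = n • x) :
    tau N htrans x n (h • z) = h • tau N htrans x n z := by
  have hnn : nu N htrans x (n • x) = n := (nu_unique N htrans hreg x _ n rfl).symm
  have hc := nu_conj N htrans hreg x (n • x) h hx
  rw [hy, hnn] at hc
  -- hc : (n : G) = h * n * h⁻¹
  show ((nu N htrans x (h • z) * n : N) : G) • x = h • (((nu N htrans x z * n : N) : G) • x)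
  rw [Subgroup.coe_mul, Subgroup.coe_mul, nu_conj N htrans hreg x z h hx]
  have hx' : h⁻¹ • x = x := by rw [inv_smul_eq_iff, hx]
  have e : h * (nu N htrans x z : G) * h⁻¹ * (n : G) = h * ((nu N htrans x z : G) * n) * h⁻¹ := by
    nth_rewrite 1 [hc]; group
  rw [e, mul_smul, mul_smul, hx']

end

/-- A triply primitive group of degree at least 3 having a regular normal subgroup has degree 3 or 4. -/
theorem result {G : Type*} [Group G] {X : Type*} [Fintype X] [MulAction G X] (hX : 3 ≤ Fintype.card X) (h3 : MulAction.IsMultiplyPreprimitive G X 3) (N : Subgroup G) [N.Normal] (htrans : MulAction.IsPretransitive N X) (hreg : ∀ x : X, MulAction.stabilizer N x = ⊥) : Fintype.card X = 3 ∨ Fintype.card X = 4 := by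
  classical
  have hcardX : ((3 : ℕ) : ℕ∞) ≤ ENat.card X := by
    rw [ENat.card_eq_coe_fintype_card]
    exact_mod_cast hX
  have h2 : IsMultiplyPreprimitive G X 2 :=
    isMultiplyPreprimitive_of_le G X h3 (by norm_num) hcardX
  rcases Cfsg.Agent.S0695.result (by omega) h2 N htrans hreg with h | ⟨-, hsq, -⟩
  · exact Or.inl h
  right
  have hne : Nonempty X := by
    rw [← Fintype.card_pos_iff]; omega
  obtain ⟨x⟩ := hne
  -- a nonidentity element of N
  obtain ⟨y0, hy0⟩ : ∃ y0 : X, y0 ≠ x := by
    by_contra hne
    push Not at hne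
    have : Fintype.card X ≤ 1 := Fintype.card_le_one_iff.mpr (fun a b => (hne a).trans (hne b).symm)
    omega
  set n := nu N htrans x y0 with hn
  have hny : n • x = y0 := nu_spec N htrans x y0
  have hn1 : n ≠ 1 := by
    intro h
    rw [h, one_smul] at hny
    exact hy0 hny.symm
  have hnn : n * n = 1 := by
    have := hsq (n : G) n.2
    apply Subtype.ext
    rw [Subgroup.coe_mul, ← pow_two]; exact this
  have hprim : IsPreprimitive (fixingSubgroup G ({x, y0} : Set X))
      (ofFixingSubgroup G ({x, y0} : Set X)) :=
    h3.isPreprimitive_ofFixingSubgroup (s := {x, y0}) (by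
      rw [Set.encard_pair hy0.symm]; rfl)
  have hfixx : ∀ h : fixingSubgroup G ({x, y0} : Set X), (h : G) • x = x := fun h =>
    (mem_fixingSubgroup_iff G).mp h.2 x (Set.mem_insert _ _)
  have hfixy : ∀ h : fixingSubgroup G ({x, y0} : Set X), (h : G) • (n • x) = n • x := fun h => by
    rw [hny]
    exact (mem_fixingSubgroup_iff G).mp h.2 y0 (Set.mem_insert_of_mem _ rfl)
  let ι : ofFixingSubgroup G ({x, y0} : Set X) → ofFixingSubgroup G ({x, y0} : Set X) := fun z =>
    ⟨tau N htrans x n (z : X), fun hz => z.2 (by
      rcases hz with hz | hz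
      · right
        have := tau_eq_base N htrans hreg x n hnn (z : X) hz
        rw [hny] at this
        exact this
      · left
        have hz' : tau N htrans x n (z : X) = n • x := by
          rw [hny]; exact hz
        exact tau_eq_n N htrans hreg x n (z : X) hz')⟩
  have hι : ∀ (h : fixingSubgroup G ({x, y0} : Set X)) (z : ofFixingSubgroup G ({x, y0} : Set X)),
      ι (h • z) = h • ι z := by
    intro h z
    apply Subtype.ext
    exact tau_smul N htrans hreg x n (z : X) (h : G) (hfixx h) (hfixy h)
  have hinv : ∀ z, ι (ι z) = z := by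
    intro z
    apply Subtype.ext
    exact tau_tau N htrans hreg x n hnn (z : X)
  have hnofix : ∀ z, ι z ≠ z := by
    intro z h
    exact tau_ne N htrans hreg x n hn1 (z : X) (congrArg Subtype.val h)
  -- the complement is nonempty
  obtain ⟨y, hy⟩ : ∃ y : X, y ∉ ({x, y0} : Set X) := by
    by_contra hne
    push Not at hne
    have : (Finset.univ : Finset X) ⊆ {x, y0} := by
      intro z _
      have := hne z
      simpa using this
    have := Finset.card_le_card this
    rw [Finset.card_univ] at this
    have h2 : ({x, y0} : Finset X).card ≤ 2 := Finset.card_le_two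
    omega
  have hcover := (involution_block ι hι hinv ⟨y, hy⟩).resolve_left (hnofix _)
  set y' := ι ⟨y, hy⟩ with hy'
  have huniv : (Finset.univ : Finset X) = {x, y0, y, (y' : X)} := by
    apply Finset.eq_of_subset_of_card_le
    · intro z _
      by_cases hz : z ∈ ({x, y0} : Set X)
      · rcases hz with hz | hz
        · simp [hz]
        · rw [Set.mem_singleton_iff] at hz
          simp [hz]
      · have := hcover ⟨z, hz⟩
        rcases this with h | h
        · have : z = y := congrArg Subtype.val h
          simp [this]
        · have : z = (y' : X) := congrArg Subtype.val h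
          simp [this]
    · exact Finset.card_le_univ _
  have hyx : y ≠ x := fun h => hy (by rw [h]; exact Set.mem_insert _ _)
  have hyy0 : y ≠ y0 := fun h => hy (by rw [h]; exact Set.mem_insert_of_mem _ rfl)
  have hy'x : (y' : X) ≠ x := fun h => y'.2 (by rw [h]; exact Set.mem_insert _ _)
  have hy'y0 : (y' : X) ≠ y0 := fun h => y'.2 (by rw [h]; exact Set.mem_insert_of_mem _ rfl)
  have hy'y : (y' : X) ≠ y := fun h => hnofix ⟨y, hy⟩ (Subtype.ext h)
  rw [← Finset.card_univ, huniv]
  rw [Finset.card_insert_of_notMem, Finset.card_insert_of_notMem, Finset.card_pair hy'y.symm]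
  · simp only [Finset.mem_insert, Finset.mem_singleton, not_or]
    exact ⟨hyy0.symm, hy'y0.symm⟩
  · simp only [Finset.mem_insert, Finset.mem_singleton, not_or]
    exact ⟨hy0.symm, hyx.symm, hy'x.symm⟩

end Cfsg.Agent.S0696
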