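import Mathlib
import Cfsg.Statements.S0697
import Cfsg.Agent.Lib.Lead.KPrimNormal

set_option autoImplicit false

open Cfsg

namespace Cfsg.Agent.S0697

theorem result {α : Type*} [Fintype α] [DecidableEq α] (G : Subgroup (Equiv.Perm α)) {k : ℕ} (hk : 1 ≤ k) (hkn : k ≤ Fintype.card α) (hG : MulAction.IsMultiplyPreprimitive G α k) (htop : G ≠ ⊤) (H : Subgroup G) [H.Normal] (hH : H ≠ ⊥) (hnr : ∃ a : α, MulAction.stabilizer H a ≠ ⊥) : MulAction.IsMultiplyPretransitive H α k := by
  have hcard : k ≤ Nat.card α := by rw [Nat.card_eq_fintype_card]; exact hkn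
  have hne : Nat.card G ≠ (Nat.card α).factorial := by
    intro h
    apply htop
    apply Subgroup.eq_top_of_card_eq
    rw [h, Nat.card_perm]
  apply Cfsg.Agent.Lib.Lead.KPrimNormal.kprim_aux k hk G α hcard hG hne H
  obtain ⟨a, ha⟩ := hnr
  obtain ⟨n, hn1⟩ := (Subgroup.ne_bot_iff_exists_ne_one).mp ha
  refine ⟨a, n.1, n.1.2, ?_, ?_⟩
  · intro h
    apply hn1
    apply Subtype.ext
    apply Subtype.ext
    exact h
  · exact n.2

end Cfsg.Agent.S0697
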