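import Mathlib
import Cfsg.Statements.S0700
import Cfsg.Agent.Lib.Lead.BurnsideSocle

set_option autoImplicit false

open Cfsg

namespace Cfsg.Agent.S0700

theorem result {α : Type*} [Fintype α] [DecidableEq α] (G : Subgroup (Equiv.Perm α)) (hG : MulAction.IsMultiplyPretransitive G α 2) (N : Subgroup G) [N.Normal] (hN : N ≠ ⊥) (hmin : ∀ M : Subgroup G, M.Normal → M ≤ N → M = ⊥ ∨ M = N) : (IsMulCommutative N ∧ (∃ p : ℕ, p.Prime ∧ ∀ n ∈ N, n ^ p = 1) ∧ ∀ a : α, MulAction.stabilizer N a = ⊥) ∨ (IsSimpleGroup N ∧ MulAction.IsPreprimitive N α) := by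
  classical
  -- at least two points
  obtain ⟨n₁, hn₁⟩ := (Subgroup.ne_bot_iff_exists_ne_one).mp hN
  have hn₁' : (n₁ : G) ≠ 1 := fun h => hn₁ (Subtype.ext h)
  have hmove : ∃ x : α, (n₁ : G) • x ≠ x := by
    by_contra hcon
    push Not at hcon
    apply hn₁'
    apply FaithfulSMul.eq_of_smul_eq_smul (α := α)
    intro a
    rw [hcon a, one_smul]
  obtain ⟨x₁, hx₁⟩ := hmove
  have hcard : 2 ≤ Nat.card α := by
    haveI : Nontrivial α := ⟨⟨_, _, hx₁⟩⟩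
    exact Finite.one_lt_card
  by_cases hreg : ∀ a : α, MulAction.stabilizer N a = ⊥
  · left
    have hreg' : ∀ n ∈ N, n • x₁ = x₁ → n = 1 := by
      intro n hn hnx
      have : (⟨n, hn⟩ : N) ∈ MulAction.stabilizer N x₁ := by
        rw [MulAction.mem_stabilizer_iff]; exact hnx
      rw [hreg x₁, Subgroup.mem_bot] at this
      exact congrArg Subtype.val this
    obtain ⟨hcomm, p, hp, hpow⟩ :=
      Cfsg.Agent.Lib.Lead.BurnsideSocle.regular_case hG hcard N hN x₁ hreg'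
    refine ⟨⟨⟨fun x y => Subtype.ext (hcomm x.1 x.2 y.1 y.2)⟩⟩, ⟨p, hp, hpow⟩, hreg⟩
  · right
    push Not at hreg
    obtain ⟨a₀, ha₀⟩ := hreg
    obtain ⟨x₀, hx₀1⟩ := (Subgroup.ne_bot_iff_exists_ne_one).mp ha₀
    have hx₀a : (x₀.1 : G) • a₀ = a₀ := x₀.2
    have hx₀1' : (x₀.1 : G) ≠ 1 := fun h => hx₀1 (Subtype.ext (Subtype.ext h))
    have hprim := Cfsg.Agent.Lib.Lead.BurnsideSocle.primitive_case hG hcard N hN hmin a₀
      (x₀.1 : G) x₀.1.2 hx₀1' hx₀a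
    exact ⟨Cfsg.Agent.Lib.Lead.BurnsideSocle.simple_case hG hcard N hN hmin hprim a₀
      (x₀.1 : G) x₀.1.2 hx₀1' hx₀a, hprim⟩

end Cfsg.Agent.S0700
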