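import Mathlib
import Cfsg.Statements.S0701

set_option autoImplicit false
open Cfsg

namespace Cfsg.Agent.S0701

/-- a regular (transitive with trivial stabilizers) group is in bijection with the set via an
orbit map -/
theorem orbitMap_bijective {α : Type*} (G : Subgroup (Equiv.Perm α))
    [MulAction.IsPretransitive G α] (hreg : ∀ a : α, MulAction.stabilizer G a = ⊥) (a : α) :
    Function.Bijective (fun g : G => (g : Equiv.Perm α) a) := by
  constructor
  · intro g h hgh
    have h1 : h⁻¹ * g ∈ MulAction.stabilizer G a := by
      rw [MulAction.mem_stabilizer_iff]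
      change ((h⁻¹ * g : G) : Equiv.Perm α) a = a
      simp only [Subgroup.coe_mul, Subgroup.coe_inv, Equiv.Perm.coe_mul, Function.comp_apply]
      have hgh' : (g : Equiv.Perm α) a = (h : Equiv.Perm α) a := hgh
      rw [hgh']
      simp
    rw [hreg a, Subgroup.mem_bot] at h1
    have : g = h * (h⁻¹ * g) := by group
    rw [this, h1, mul_one]
  · intro b
    obtain ⟨g, hg⟩ := MulAction.exists_smul_eq G a b
    exact ⟨g, hg⟩

/-- The centraliser in the full symmetric group of a transitive permutation group `G` is semiregular, and it is transitive if and only if `G` is regular. -/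
theorem result {α : Type*} (G : Subgroup (Equiv.Perm α)) [MulAction.IsPretransitive G α] : (∀ c ∈ Subgroup.centralizer (G : Set (Equiv.Perm α)), ∀ a : α, c a = a → c = 1) ∧ (MulAction.IsPretransitive (Subgroup.centralizer (G : Set (Equiv.Perm α))) α ↔ ∀ a : α, MulAction.stabilizer G a = ⊥) := by
  constructor
  · intro c hc a hca
    ext b
    obtain ⟨g, hg⟩ := MulAction.exists_smul_eq G a b
    have hg' : (g : Equiv.Perm α) a = b := hg
    have hcomm := (Subgroup.mem_centralizer_iff.mp hc) (g : Equiv.Perm α) g.2
    rw [← hg', Equiv.Perm.coe_one, id_eq]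
    calc c ((g : Equiv.Perm α) a) = (c * (g : Equiv.Perm α)) a := rfl
      _ = ((g : Equiv.Perm α) * c) a := by rw [hcomm]
      _ = (g : Equiv.Perm α) (c a) := rfl
      _ = (g : Equiv.Perm α) a := by rw [hca]
  · constructor
    · intro htr a
      rw [eq_bot_iff]
      intro g hg
      rw [Subgroup.mem_bot]
      rw [MulAction.mem_stabilizer_iff] at hg
      have hg' : (g : Equiv.Perm α) a = a := hg
      apply Subtype.ext
      ext b
      obtain ⟨c, hc⟩ := htr.exists_smul_eq a b
      have hc' : (c : Equiv.Perm α) a = b := hc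
      have hcomm := (Subgroup.mem_centralizer_iff.mp c.2) (g : Equiv.Perm α) g.2
      rw [← hc']
      change (g : Equiv.Perm α) ((c : Equiv.Perm α) a) = (c : Equiv.Perm α) a
      calc (g : Equiv.Perm α) ((c : Equiv.Perm α) a) = ((g : Equiv.Perm α) * c) a := rfl
        _ = ((c : Equiv.Perm α) * g) a := by rw [hcomm]
        _ = (c : Equiv.Perm α) ((g : Equiv.Perm α) a) := rfl
        _ = (c : Equiv.Perm α) a := by rw [hg']
    · intro hreg
      constructor
      intro a b
      let ea : G ≃ α := Equiv.ofBijective _ (orbitMap_bijective G hreg a)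
      let eb : G ≃ α := Equiv.ofBijective _ (orbitMap_bijective G hreg b)
      let c : Equiv.Perm α := ea.symm.trans eb
      have hea : ∀ g : G, ea g = (g : Equiv.Perm α) a := fun g => rfl
      have heb : ∀ g : G, eb g = (g : Equiv.Perm α) b := fun g => rfl
      have hc : c ∈ Subgroup.centralizer (G : Set (Equiv.Perm α)) := by
        rw [Subgroup.mem_centralizer_iff]
        intro h hh
        ext x
        obtain ⟨g, rfl⟩ := ea.surjective x
        change h (c (ea g)) = c (h (ea g))
        have h1 : c (ea g) = eb g := by simp [c]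
        have h2 : h (ea g) = ea (⟨h, hh⟩ * g) := by
          rw [hea, hea]; rfl
        rw [h1, h2]
        have h3 : c (ea (⟨h, hh⟩ * g)) = eb (⟨h, hh⟩ * g) := by simp [c]
        rw [h3, heb, heb]; rfl
      refine ⟨⟨c, hc⟩, ?_⟩
      change c a = b
      have h1 : ea 1 = a := by rw [hea]; simp
      have h2 : eb 1 = b := by rw [heb]; simp
      rw [← h1]
      have : c (ea 1) = eb 1 := by simp [c]
      rw [this, h2]

end Cfsg.Agent.S0701
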