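import Mathlib
import Cfsg.Statements.S0702
import Cfsg.Agent.S0701

set_option autoImplicit false
open Cfsg

namespace Cfsg.Agent.S0702

open MulAction

section construction

variable {α : Type*} (G : Subgroup (Equiv.Perm α)) [MulAction.IsPretransitive G α]

theorem exists_map (a x : α) : ∃ g : G, (g : Equiv.Perm α) a = x :=
  MulAction.exists_smul_eq G a x

/-- the map `g a ↦ g b` -/
noncomputable def cmap (a b : α) : α → α := fun x =>
  ((Classical.choose (exists_map G a x) : G) : Equiv.Perm α) b

theorem cmap_apply (a b : α) (hb : ∀ h : G, (h : Equiv.Perm α) a = a → (h : Equiv.Perm α) b = b)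
    (g : G) : cmap G a b ((g : Equiv.Perm α) a) = (g : Equiv.Perm α) b := by
  unfold cmap
  set g' := Classical.choose (exists_map G a ((g : Equiv.Perm α) a)) with hg'
  have hspec : (g' : Equiv.Perm α) a = (g : Equiv.Perm α) a :=
    Classical.choose_spec (exists_map G a ((g : Equiv.Perm α) a))
  have h1 : ((g⁻¹ * g' : G) : Equiv.Perm α) a = a := by
    simp only [Subgroup.coe_mul, Subgroup.coe_inv, Equiv.Perm.coe_mul, Function.comp_apply]
    rw [hspec]; simp
  have h2 := hb _ h1
  simp only [Subgroup.coe_mul, Subgroup.coe_inv, Equiv.Perm.coe_mul, Function.comp_apply] at h2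
  have := congrArg (g : Equiv.Perm α) h2
  simpa using this

/-- the permutation `g a ↦ g b`, when `a` and `b` have the same stabilizer -/
noncomputable def cperm (a b : α)
    (hb : ∀ h : G, (h : Equiv.Perm α) a = a → (h : Equiv.Perm α) b = b)
    (ha : ∀ h : G, (h : Equiv.Perm α) b = b → (h : Equiv.Perm α) a = a) : Equiv.Perm α where
  toFun := cmap G a b
  invFun := cmap G b a
  left_inv x := by
    obtain ⟨g, rfl⟩ := exists_map G a x
    rw [cmap_apply G a b hb, cmap_apply G b a ha]
  right_inv x := by
    obtain ⟨g, rfl⟩ := exists_map G b x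
    rw [cmap_apply G b a ha, cmap_apply G a b hb]

theorem cperm_apply (a b : α)
    (hb : ∀ h : G, (h : Equiv.Perm α) a = a → (h : Equiv.Perm α) b = b)
    (ha : ∀ h : G, (h : Equiv.Perm α) b = b → (h : Equiv.Perm α) a = a) (g : G) :
    cperm G a b hb ha ((g : Equiv.Perm α) a) = (g : Equiv.Perm α) b :=
  cmap_apply G a b hb g

theorem cperm_self (a b : α)
    (hb : ∀ h : G, (h : Equiv.Perm α) a = a → (h : Equiv.Perm α) b = b)
    (ha : ∀ h : G, (h : Equiv.Perm α) b = b → (h : Equiv.Perm α) a = a) :
    cperm G a b hb ha a = b := by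
  have := cperm_apply G a b hb ha 1
  simpa using this

theorem cperm_mem (a b : α)
    (hb : ∀ h : G, (h : Equiv.Perm α) a = a → (h : Equiv.Perm α) b = b)
    (ha : ∀ h : G, (h : Equiv.Perm α) b = b → (h : Equiv.Perm α) a = a) :
    cperm G a b hb ha ∈ Subgroup.centralizer (G : Set (Equiv.Perm α)) := by
  rw [Subgroup.mem_centralizer_iff]
  intro h hh
  ext x
  obtain ⟨g, rfl⟩ := exists_map G a x
  change h (cperm G a b hb ha ((g : Equiv.Perm α) a)) = cperm G a b hb ha (h ((g : Equiv.Perm α) a))
  have e : h ((g : Equiv.Perm α) a) = ((⟨h, hh⟩ * g : G) : Equiv.Perm α) a := rfl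
  rw [e, cperm_apply, cperm_apply]
  rfl

/-- two centralizing permutations agreeing at a point are equal -/
theorem cent_ext (a : α) (c d : Equiv.Perm α)
    (hc : c ∈ Subgroup.centralizer (G : Set (Equiv.Perm α)))
    (hd : d ∈ Subgroup.centralizer (G : Set (Equiv.Perm α))) (h : c a = d a) : c = d := by
  have h1 : d⁻¹ * c ∈ Subgroup.centralizer (G : Set (Equiv.Perm α)) :=
    mul_mem (inv_mem hd) hc
  have h2 : (d⁻¹ * c) a = a := by
    simp only [Equiv.Perm.coe_mul, Function.comp_apply]
    rw [h]; simp
  have := (Cfsg.Agent.S0701.result G).1 _ h1 a h2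
  calc c = d * (d⁻¹ * c) := by group
    _ = d := by rw [this, mul_one]

end construction

/-- For a transitive permutation group `G` on a finite set, the centraliser of `G` in the symmetric group is isomorphic to `N_G(G_ω)/G_ω`, and its orbit of `ω` is the set of fixed points of `G_ω`. -/
theorem result {α : Type*} [Finite α] (G : Subgroup (Equiv.Perm α)) [MulAction.IsPretransitive G α] (a : α) : Nonempty (Subgroup.centralizer (G : Set (Equiv.Perm α)) ≃* Subgroup.normalizer ((MulAction.stabilizer G a : Subgroup G) : Set G) ⧸ (MulAction.stabilizer G a).subgroupOf (Subgroup.normalizer ((MulAction.stabilizer G a : Subgroup G) : Set G))) ∧ MulAction.orbit (Subgroup.centralizer (G : Set (Equiv.Perm α))) a = MulAction.fixedPoints (MulAction.stabilizer G a) α := by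
  classical
  set H := stabilizer G a with hH
  set N := Subgroup.normalizer (H : Set G) with hN
  set C := Subgroup.centralizer (G : Set (Equiv.Perm α)) with hC
  -- points fixed by H have stabilizer exactly H
  have hfix_iff : ∀ b : α, b ∈ fixedPoints H α ↔ ∀ h : G, (h : Equiv.Perm α) a = a →
      (h : Equiv.Perm α) b = b := by
    intro b
    rw [mem_fixedPoints]
    constructor
    · intro hb h ha
      exact hb ⟨h, ha⟩
    · intro hb h
      exact hb h.1 h.2
  have hstab_eq : ∀ b : α, b ∈ fixedPoints H α → stabilizer G b = H := by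
    intro b hb
    have hle : H ≤ stabilizer G b := by
      intro h hh
      exact (hfix_iff b).mp hb h hh
    obtain ⟨k, hk⟩ := MulAction.exists_smul_eq G a b
    have hconj : stabilizer G b = H.map (MulAut.conj k).toMonoidHom := by
      rw [← hk]; exact stabilizer_smul_eq_stabilizer_map_conj k a
    have hcard : Nat.card (stabilizer G b) = Nat.card H := by
      rw [hconj]
      exact Nat.card_congr (H.equivMapOfInjective _ (MulAut.conj k).injective).toEquiv.symm
    exact (Subgroup.eq_of_le_of_card_ge hle (by rw [hcard])).symm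
  have hfix_back : ∀ b : α, b ∈ fixedPoints H α → ∀ h : G, (h : Equiv.Perm α) b = b →
      (h : Equiv.Perm α) a = a := by
    intro b hb h hh
    have : h ∈ stabilizer G b := hh
    rw [hstab_eq b hb] at this
    exact this
  -- n⁻¹ a is fixed by H for n ∈ N
  have hNfix : ∀ n : N, ((n : G)⁻¹ : G) • a ∈ fixedPoints H α := by
    intro n
    rw [mem_fixedPoints]
    intro h
    have hn := (Subgroup.mem_normalizer_iff.mp n.2 (h : G)).mp h.2
    have : ((n : G) * (h : G) * (n : G)⁻¹) • a = a := hn
    calc h • ((n : G)⁻¹ • a) = ((h : G) * (n : G)⁻¹) • a := by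
          rw [mul_smul]; rfl
      _ = ((n : G)⁻¹ * ((n : G) * (h : G) * (n : G)⁻¹)) • a := by
          congr 1; group
      _ = (n : G)⁻¹ • a := by rw [mul_smul, this]
  -- the homomorphism
  have hbN : ∀ n : N, ∀ h : G, (h : Equiv.Perm α) a = a →
      (h : Equiv.Perm α) (((n : G)⁻¹ : G) • a) = ((n : G)⁻¹ : G) • a :=
    fun n => (hfix_iff _).mp (hNfix n)
  have haN : ∀ n : N, ∀ h : G, (h : Equiv.Perm α) (((n : G)⁻¹ : G) • a) = ((n : G)⁻¹ : G) • a →
      (h : Equiv.Perm α) a = a :=
    fun n => hfix_back _ (hNfix n)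
  let ψfun : N → C := fun n =>
    ⟨cperm G a (((n : G)⁻¹ : G) • a) (hbN n) (haN n),
      cperm_mem G a (((n : G)⁻¹ : G) • a) (hbN n) (haN n)⟩
  have hψa : ∀ n : N, ((ψfun n : C) : Equiv.Perm α) a = ((n : G)⁻¹ : G) • a := fun n =>
    cperm_self G a (((n : G)⁻¹ : G) • a) (hbN n) (haN n)
  let ψ : N →* C :=
    { toFun := ψfun
      map_one' := by
        apply Subtype.ext
        apply cent_ext G a _ _ (ψfun 1).2 (one_mem _)
        rw [hψa]
        simp
      map_mul' := by
        intro n₁ n₂
        apply Subtype.ext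
        apply cent_ext G a _ _ (ψfun (n₁ * n₂)).2 (mul_mem (ψfun n₁).2 (ψfun n₂).2)
        rw [hψa]
        change _ = ((ψfun n₁ : C) : Equiv.Perm α) (((ψfun n₂ : C) : Equiv.Perm α) a)
        rw [hψa n₂]
        have e : (((n₂ : G)⁻¹ : G) • a) = (((n₂ : G)⁻¹ : G) : Equiv.Perm α) a := rfl
        rw [e]
        change _ = cperm G a (((n₁ : G)⁻¹ : G) • a) (hbN n₁) (haN n₁) _
        rw [cperm_apply]
        change _ = ((n₂ : G)⁻¹ : G) • (((n₁ : G)⁻¹ : G) • a)
        rw [← mul_smul]
        congr 1 }
  have hψ_apply : ∀ n : N, ((ψ n : C) : Equiv.Perm α) a = ((n : G)⁻¹ : G) • a := hψa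
  have hker : ψ.ker = H.subgroupOf N := by
    ext n
    rw [MonoidHom.mem_ker, Subgroup.mem_subgroupOf]
    constructor
    · intro h1
      have := hψ_apply n
      rw [h1] at this
      have h2 : ((n : G)⁻¹ : G) • a = a := by rw [← this]; rfl
      have h3 : ((n : G)⁻¹ : G) ∈ H := h2
      have := H.inv_mem h3
      rwa [inv_inv] at this
    · intro hn
      apply Subtype.ext
      apply cent_ext G a _ _ (ψ n).2 (one_mem _)
      rw [hψ_apply]
      have : ((n : G)⁻¹ : G) ∈ H := H.inv_mem hn
      exact this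
  have hCfix : ∀ c : C, (c : Equiv.Perm α) a ∈ fixedPoints H α := by
    intro c
    rw [hfix_iff]
    intro h ha
    have hcomm := (Subgroup.mem_centralizer_iff.mp c.2) (h : Equiv.Perm α) h.2
    calc (h : Equiv.Perm α) ((c : Equiv.Perm α) a) = ((h : Equiv.Perm α) * c) a := rfl
      _ = ((c : Equiv.Perm α) * h) a := by rw [hcomm]
      _ = (c : Equiv.Perm α) ((h : Equiv.Perm α) a) := rfl
      _ = (c : Equiv.Perm α) a := by rw [ha]
  have hsurj : Function.Surjective ψ := by
    intro c
    set b := (c : Equiv.Perm α) a with hb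
    have hbfix := hCfix c
    obtain ⟨k, hk⟩ := MulAction.exists_smul_eq G a b
    -- k⁻¹ normalizes H
    have hkN : k⁻¹ ∈ N := by
      have h1 : stabilizer G (k • a) = H.map (MulAut.conj k).toMonoidHom :=
        stabilizer_smul_eq_stabilizer_map_conj k a
      rw [hk, hstab_eq b hbfix] at h1
      -- H = k H k⁻¹
      have hknorm : k ∈ N := by
        rw [hN, Subgroup.mem_normalizer_iff]
        intro x
        constructor
        · intro hx
          rw [h1]
          exact ⟨x, hx, rfl⟩
        · intro hx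
          rw [h1] at hx
          obtain ⟨y, hy, hxy⟩ := hx
          simp only [MulEquiv.coe_toMonoidHom, MulAut.conj_apply] at hxy
          have : y = x := by
            calc y = k⁻¹ * (k * y * k⁻¹) * k := by group
              _ = k⁻¹ * (k * x * k⁻¹) * k := by rw [hxy]
              _ = x := by group
          rwa [← this]
      exact N.inv_mem hknorm
    refine ⟨⟨k⁻¹, hkN⟩, ?_⟩
    apply Subtype.ext
    apply cent_ext G a _ _ (ψ ⟨k⁻¹, hkN⟩).2 c.2
    rw [hψ_apply]
    simp only [inv_inv]
    exact hk
  constructor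
  · have e1 := QuotientGroup.quotientKerEquivOfSurjective ψ hsurj
    have e2 := QuotientGroup.quotientMulEquivOfEq hker
    exact ⟨(e2.symm.trans e1).symm⟩
  · ext b
    constructor
    · rintro ⟨c, rfl⟩
      exact hCfix c
    · intro hb
      refine ⟨⟨cperm G a b ((hfix_iff b).mp hb) (hfix_back b hb),
        cperm_mem G a b ((hfix_iff b).mp hb) (hfix_back b hb)⟩, ?_⟩
      exact cperm_self G a b ((hfix_iff b).mp hb) (hfix_back b hb)

end Cfsg.Agent.S0702
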