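import Mathlib
import Cfsg.Statements.S0703

namespace Cfsg.Agent.S0703

theorem result {α : Type*} [Finite α] (G : Subgroup (Equiv.Perm α)) (M : Subgroup G) [M.Normal] (hM : M ≠ ⊥) (hmin : ∀ L : Subgroup G, L.Normal → L ≤ M → L = ⊥ ∨ L = M) (hab : IsMulCommutative M) (htrans : MulAction.IsPretransitive M α) : Subgroup.centralizer ((M.map G.subtype : Subgroup (Equiv.Perm α)) : Set (Equiv.Perm α)) = M.map G.subtype ∧ (∀ a : α, MulAction.stabilizer M a = ⊥) ∧ (∃ p : ℕ, p.Prime ∧ ∀ m ∈ M, m ^ p = 1) ∧ ∀ L : Subgroup G, L.Normal → L ≠ ⊥ → (∀ L' : Subgroup G, L'.Normal → L' ≤ L → L' = ⊥ ∨ L' = L) → L = M := by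
  classical
  haveI : Finite (Equiv.Perm α) := inferInstance
  haveI : Finite G := inferInstance
  have hMn : M.Normal := inferInstance
  -- commutativity in M
  have hcomm : ∀ x ∈ M, ∀ y ∈ M, x * y = y * x := by
    intro x hx y hy
    have := hab.is_comm.comm (⟨x, hx⟩ : M) ⟨y, hy⟩
    exact congrArg Subtype.val this
  -- action description
  have hsmul : ∀ (m : M) (a : α), m • a = ((m : G) : Equiv.Perm α) a := fun m a => rfl
  -- transitivity elementwise
  have htr : ∀ a b : α, ∃ m : G, m ∈ M ∧ (m : Equiv.Perm α) a = b := by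
    intro a b
    obtain ⟨m, hm⟩ := htrans.exists_smul_eq a b
    exact ⟨m.1, m.2, hm⟩
  -- a permutation commuting with M and fixing a point is trivial
  have hfix : ∀ (c : Equiv.Perm α) (a : α), (∀ m : G, m ∈ M → c * (m : Equiv.Perm α) = (m : Equiv.Perm α) * c) →
      c a = a → c = 1 := by
    intro c a hc hca
    ext b
    obtain ⟨n, hn, hnb⟩ := htr a b
    have := congrArg (fun e : Equiv.Perm α => e a) (hc n hn)
    simp only [Equiv.Perm.mul_apply] at this
    rw [hnb, hca, hnb] at this
    simpa using this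
  set M' : Subgroup (Equiv.Perm α) := M.map G.subtype with hM'
  have hmemM' : ∀ c : Equiv.Perm α, c ∈ M' ↔ ∃ m : G, m ∈ M ∧ (m : Equiv.Perm α) = c := by
    intro c
    rw [hM', Subgroup.mem_map]
    constructor
    · rintro ⟨m, hm, rfl⟩; exact ⟨m, hm, rfl⟩
    · rintro ⟨m, hm, rfl⟩; exact ⟨m, hm, rfl⟩
  -- nonempty α
  obtain ⟨a₀⟩ : Nonempty α := by
    by_contra hemp
    rw [not_nonempty_iff] at hemp
    apply hM
    rw [eq_bot_iff]
    intro m _
    rw [Subgroup.mem_bot]
    apply Subtype.ext
    ext x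
    exact (hemp.false x).elim
  have hcent : Subgroup.centralizer (M' : Set (Equiv.Perm α)) = M' := by
    apply le_antisymm
    · intro c hc
      rw [Subgroup.mem_centralizer_iff] at hc
      obtain ⟨m, hm, hma⟩ := htr a₀ (c a₀)
      have hcm : ∀ n : G, n ∈ M → ((m : Equiv.Perm α)⁻¹ * c) * (n : Equiv.Perm α) =
          (n : Equiv.Perm α) * ((m : Equiv.Perm α)⁻¹ * c) := by
        intro n hn
        have h1 : (n : Equiv.Perm α) * c = c * (n : Equiv.Perm α) :=
          hc _ ((hmemM' _).mpr ⟨n, hn, rfl⟩)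
        have h2 : (m : Equiv.Perm α) * (n : Equiv.Perm α) = (n : Equiv.Perm α) * (m : Equiv.Perm α) := by
          have := hcomm m hm n hn
          exact congrArg Subtype.val this
        have h3 : (m : Equiv.Perm α)⁻¹ * (n : Equiv.Perm α) = (n : Equiv.Perm α) * (m : Equiv.Perm α)⁻¹ := by
          calc (m : Equiv.Perm α)⁻¹ * (n : Equiv.Perm α)
              = (m : Equiv.Perm α)⁻¹ * ((n : Equiv.Perm α) * (m : Equiv.Perm α)) * (m : Equiv.Perm α)⁻¹ := by group
            _ = (m : Equiv.Perm α)⁻¹ * ((m : Equiv.Perm α) * (n : Equiv.Perm α)) * (m : Equiv.Perm α)⁻¹ := by rw [h2]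
            _ = (n : Equiv.Perm α) * (m : Equiv.Perm α)⁻¹ := by group
        calc ((m : Equiv.Perm α)⁻¹ * c) * (n : Equiv.Perm α)
            = (m : Equiv.Perm α)⁻¹ * (c * (n : Equiv.Perm α)) := by group
          _ = (m : Equiv.Perm α)⁻¹ * ((n : Equiv.Perm α) * c) := by rw [h1]
          _ = ((m : Equiv.Perm α)⁻¹ * (n : Equiv.Perm α)) * c := by group
          _ = ((n : Equiv.Perm α) * (m : Equiv.Perm α)⁻¹) * c := by rw [h3]
          _ = (n : Equiv.Perm α) * ((m : Equiv.Perm α)⁻¹ * c) := by group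
      have hfa : ((m : Equiv.Perm α)⁻¹ * c) a₀ = a₀ := by
        rw [Equiv.Perm.mul_apply, ← hma]
        simp
      have := hfix _ a₀ hcm hfa
      have hc' : c = (m : Equiv.Perm α) := by
        calc c = (m : Equiv.Perm α) * ((m : Equiv.Perm α)⁻¹ * c) := by group
          _ = (m : Equiv.Perm α) := by rw [this, mul_one]
      rw [hc']
      exact (hmemM' _).mpr ⟨m, hm, rfl⟩
    · intro c hc
      obtain ⟨m, hm, rfl⟩ := (hmemM' c).mp hc
      rw [Subgroup.mem_centralizer_iff]
      intro d hd
      obtain ⟨n, hn, rfl⟩ := (hmemM' d).mp hd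
      have := hcomm n hn m hm
      exact congrArg Subtype.val this
  refine ⟨hcent, ?_, ?_, ?_⟩
  · intro a
    rw [eq_bot_iff]
    intro m hm
    rw [Subgroup.mem_bot]
    rw [MulAction.mem_stabilizer_iff, hsmul] at hm
    have h1 : ((m : G) : Equiv.Perm α) = 1 := by
      apply hfix _ a _ hm
      intro n hn
      have := hcomm (m : G) m.2 n hn
      exact congrArg Subtype.val this
    apply Subtype.ext
    apply Subtype.ext
    exact h1
  · -- elementary abelian
    have hcardM : 1 < Nat.card M := by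
      rw [Finite.one_lt_card_iff_nontrivial]
      exact (Subgroup.nontrivial_iff_ne_bot M).mpr hM
    obtain ⟨p, hp, hpdvd⟩ := Nat.exists_prime_and_dvd (ne_of_gt hcardM)
    haveI : Fact p.Prime := ⟨hp⟩
    refine ⟨p, hp, ?_⟩
    let L : Subgroup G :=
      { carrier := {m | m ∈ M ∧ m ^ p = 1}
        one_mem' := ⟨M.one_mem, one_pow p⟩
        mul_mem' := by
          rintro x y ⟨hx, hxp⟩ ⟨hy, hyp⟩
          refine ⟨M.mul_mem hx hy, ?_⟩
          have hc : Commute x y := hcomm x hx y hy
          rw [hc.mul_pow, hxp, hyp, one_mul]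
        inv_mem' := by
          rintro x ⟨hx, hxp⟩
          exact ⟨M.inv_mem hx, by rw [inv_pow, hxp, inv_one]⟩ }
    have hLn : L.Normal := by
      constructor
      rintro x ⟨hx, hxp⟩ g
      refine ⟨hMn.conj_mem x hx g, ?_⟩
      rw [conj_pow, hxp]; group
    have hLM : L ≤ M := fun x hx => hx.1
    have hLne : L ≠ ⊥ := by
      obtain ⟨⟨x, hxM⟩, hx⟩ := exists_prime_orderOf_dvd_card' p hpdvd
      rw [Subgroup.orderOf_mk] at hx
      intro hbot
      have hxL : x ∈ L := ⟨hxM, by rw [← hx]; exact pow_orderOf_eq_one x⟩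
      rw [hbot, Subgroup.mem_bot] at hxL
      rw [hxL, orderOf_one] at hx
      exact hp.one_lt.ne hx
    rcases hmin L hLn hLM with h | h
    · exact absurd h hLne
    · intro m hm
      rw [← h] at hm
      exact hm.2
  · intro L hLn hLne hLmin
    haveI := hLn
    have hLMn : (L ⊓ M).Normal := inferInstance
    rcases hLmin (L ⊓ M) hLMn inf_le_left with h | h
    · -- disjoint: L centralizes M
      exfalso
      have hdis : Disjoint L M := disjoint_iff.mpr h
      have hLM' : L.map G.subtype ≤ M' := by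
        rw [← hcent]
        intro c hc
        obtain ⟨l, hl, rfl⟩ := Subgroup.mem_map.mp hc
        rw [Subgroup.mem_centralizer_iff]
        intro d hd
        obtain ⟨n, hn, rfl⟩ := (hmemM' d).mp hd
        have := Subgroup.commute_of_normal_of_disjoint L M hLn hMn hdis l n hl hn
        exact (congrArg Subtype.val this.eq).symm
      have hLM : L ≤ M := by
        intro l hl
        have : (l : Equiv.Perm α) ∈ M' := hLM' (Subgroup.mem_map.mpr ⟨l, hl, rfl⟩)
        obtain ⟨m, hm, hml⟩ := (hmemM' _).mp this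
        have : m = l := Subtype.ext hml
        rw [← this]; exact hm
      apply hLne
      rw [← h]
      exact (inf_of_le_left hLM).symm
    · have hLM : L ≤ M := by rw [← h]; exact inf_le_right
      rcases hmin L hLn hLM with h' | h'
      · exact absurd h' hLne
      · exact h'

end Cfsg.Agent.S0703
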