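import Mathlib
import Cfsg.Statements.S0704

namespace Cfsg.Agent.S0704

variable {α : Type*} (G : Subgroup (Equiv.Perm α))

/-- a permutation commuting with a transitive subgroup and fixing a point is trivial -/
theorem eq_one_of_commute_of_fix (X : Subgroup G) (hX : MulAction.IsPretransitive X α)
    (c : Equiv.Perm α) (a : α)
    (hc : ∀ m : G, m ∈ X → c * (m : Equiv.Perm α) = (m : Equiv.Perm α) * c) (hca : c a = a) :
    c = 1 := by
  ext b
  obtain ⟨n, hnb⟩ := hX.exists_smul_eq a b
  have hnb' : ((n : G) : Equiv.Perm α) a = b := hnb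
  have := congrArg (fun e : Equiv.Perm α => e a) (hc n.1 n.2)
  simp only [Equiv.Perm.mul_apply] at this
  rw [hnb', hca, hnb'] at this
  simpa using this

/-- if transitive normal subgroups `X`, `Y` are disjoint, then `C(X) = Y` in `Sym(α)`. -/
theorem centralizer_eq (X Y : Subgroup G) [hXn : X.Normal] [hYn : Y.Normal] (hdis : Disjoint X Y)
    (hXt : MulAction.IsPretransitive X α) (hYt : MulAction.IsPretransitive Y α) (a₀ : α) :
    Subgroup.centralizer ((X.map G.subtype : Subgroup (Equiv.Perm α)) : Set (Equiv.Perm α)) =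
      Y.map G.subtype := by
  have hcomm : ∀ x ∈ X, ∀ y ∈ Y, (x : Equiv.Perm α) * (y : Equiv.Perm α) =
      (y : Equiv.Perm α) * (x : Equiv.Perm α) := by
    intro x hx y hy
    have := Subgroup.commute_of_normal_of_disjoint X Y hXn hYn hdis x y hx hy
    exact congrArg Subtype.val this.eq
  apply le_antisymm
  · intro c hc
    rw [Subgroup.mem_centralizer_iff] at hc
    obtain ⟨n, hn⟩ := hYt.exists_smul_eq a₀ (c a₀)
    have hn' : ((n : G) : Equiv.Perm α) a₀ = c a₀ := hn
    set n' : Equiv.Perm α := ((n : G) : Equiv.Perm α) with hn'def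
    have hcm : ∀ m : G, m ∈ X → (n'⁻¹ * c) * (m : Equiv.Perm α) =
        (m : Equiv.Perm α) * (n'⁻¹ * c) := by
      intro m hm
      have h1 : (m : Equiv.Perm α) * c = c * (m : Equiv.Perm α) :=
        hc _ (Subgroup.mem_map.mpr ⟨m, hm, rfl⟩)
      have h2 : (m : Equiv.Perm α) * n' = n' * (m : Equiv.Perm α) := hcomm m hm n.1 n.2
      have h3 : n'⁻¹ * (m : Equiv.Perm α) = (m : Equiv.Perm α) * n'⁻¹ := by
        calc n'⁻¹ * (m : Equiv.Perm α)
            = n'⁻¹ * ((m : Equiv.Perm α) * n') * n'⁻¹ := by group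
          _ = n'⁻¹ * (n' * (m : Equiv.Perm α)) * n'⁻¹ := by rw [h2]
          _ = (m : Equiv.Perm α) * n'⁻¹ := by group
      calc (n'⁻¹ * c) * (m : Equiv.Perm α)
          = n'⁻¹ * (c * (m : Equiv.Perm α)) := by group
        _ = n'⁻¹ * ((m : Equiv.Perm α) * c) := by rw [h1]
        _ = (n'⁻¹ * (m : Equiv.Perm α)) * c := by group
        _ = ((m : Equiv.Perm α) * n'⁻¹) * c := by rw [h3]
        _ = (m : Equiv.Perm α) * (n'⁻¹ * c) := by group
    have hfa : (n'⁻¹ * c) a₀ = a₀ := by
      rw [Equiv.Perm.mul_apply, ← hn']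
      simp
    have h1 := eq_one_of_commute_of_fix G X hXt _ a₀ hcm hfa
    have hc' : c = n' := by
      calc c = n' * (n'⁻¹ * c) := by group
        _ = n' := by rw [h1, mul_one]
    rw [hc']
    exact Subgroup.mem_map.mpr ⟨n.1, n.2, rfl⟩
  · intro c hc
    obtain ⟨y, hy, rfl⟩ := Subgroup.mem_map.mp hc
    rw [Subgroup.mem_centralizer_iff]
    intro d hd
    obtain ⟨x, hx, rfl⟩ := Subgroup.mem_map.mp hd
    exact hcomm x hx y hy

/-- a subgroup commuting with a transitive one acts semiregularly -/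
theorem stabilizer_eq_bot (X Y : Subgroup G) [hXn : X.Normal] [hYn : Y.Normal] (hdis : Disjoint X Y)
    (hXt : MulAction.IsPretransitive X α) (a : α) : MulAction.stabilizer Y a = ⊥ := by
  rw [eq_bot_iff]
  intro y hy
  rw [Subgroup.mem_bot]
  have hy' : ((y : G) : Equiv.Perm α) a = a := hy
  have h1 : ((y : G) : Equiv.Perm α) = 1 := by
    apply eq_one_of_commute_of_fix G X hXt _ a _ hy'
    intro m hm
    have := Subgroup.commute_of_normal_of_disjoint X Y hXn hYn hdis m y hm y.2
    exact (congrArg Subtype.val this.eq).symm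
  apply Subtype.ext
  apply Subtype.ext
  exact h1

/-- the isomorphism between two commuting regular normal subgroups -/
theorem nonempty_mulEquiv (X Y : Subgroup G) [hXn : X.Normal] [hYn : Y.Normal] (hdis : Disjoint X Y)
    (hXt : MulAction.IsPretransitive X α) (hYt : MulAction.IsPretransitive Y α) (a : α) :
    Nonempty (X ≃* Y) := by
  have hXreg := stabilizer_eq_bot G Y X hdis.symm hYt a
  have hcomm : ∀ (x : X) (y : Y) (b : α), x • y • b = y • x • b := by
    intro x y b
    have := Subgroup.commute_of_normal_of_disjoint X Y hXn hYn hdis x y x.2 y.2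
    have h2 : ((x : G) : Equiv.Perm α) * ((y : G) : Equiv.Perm α) =
        ((y : G) : Equiv.Perm α) * ((x : G) : Equiv.Perm α) := congrArg Subtype.val this.eq
    have := congrArg (fun e : Equiv.Perm α => e b) h2
    simp only [Equiv.Perm.mul_apply] at this
    exact this
  have huniqY : ∀ (y₁ y₂ : Y) (b : α), y₁ • b = y₂ • b → y₁ = y₂ := by
    intro y₁ y₂ b h
    have hst := stabilizer_eq_bot G X Y hdis hXt b
    have : y₂⁻¹ * y₁ ∈ MulAction.stabilizer Y b := by
      rw [MulAction.mem_stabilizer_iff, mul_smul, h, inv_smul_smul]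
    rw [hst, Subgroup.mem_bot] at this
    calc y₁ = y₂ * (y₂⁻¹ * y₁) := by group
      _ = y₂ := by rw [this, mul_one]
  have hex : ∀ x : X, ∃ y : Y, y • (x • a) = a := fun x => hYt.exists_smul_eq (x • a) a
  choose ψ hψ using hex
  have hmul : ∀ x₁ x₂ : X, ψ (x₁ * x₂) = ψ x₁ * ψ x₂ := by
    intro x₁ x₂
    apply huniqY _ _ ((x₁ * x₂) • a)
    rw [hψ, mul_smul, mul_smul, ← hcomm x₁ (ψ x₂), hψ x₂, hψ x₁]
  let f : X →* Y := MonoidHom.mk' ψ hmul
  have hinj : Function.Injective f := by
    rw [← MonoidHom.ker_eq_bot_iff, eq_bot_iff]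
    intro x hx
    rw [MonoidHom.mem_ker] at hx
    have hx' : ψ x = 1 := hx
    have h1 := hψ x
    rw [hx', one_smul] at h1
    have : x ∈ MulAction.stabilizer X a := h1
    rw [hXreg] at this
    exact this
  have hsurj : Function.Surjective f := by
    intro y
    obtain ⟨x, hx⟩ := hXt.exists_smul_eq a (y⁻¹ • a)
    refine ⟨x, ?_⟩
    apply huniqY _ _ (x • a)
    change ψ x • (x • a) = y • x • a
    rw [hψ, hx, smul_inv_smul]
  exact ⟨MulEquiv.ofBijective f ⟨hinj, hsurj⟩⟩

theorem result {α : Type*} (G : Subgroup (Equiv.Perm α)) (M N : Subgroup G) [M.Normal] [N.Normal] (hM : M ≠ ⊥) (hN : N ≠ ⊥) (hMmin : ∀ L : Subgroup G, L.Normal → L ≤ M → L = ⊥ ∨ L = M) (hNmin : ∀ L : Subgroup G, L.Normal → L ≤ N → L = ⊥ ∨ L = N) (hMN : M ≠ N) (hMt : MulAction.IsPretransitive M α) (hNt : MulAction.IsPretransitive N α) : (∀ a : α, MulAction.stabilizer M a = ⊥) ∧ (∀ a : α, MulAction.stabilizer N a = ⊥) ∧ ¬ IsMulCommutative M ∧ Nonempty (M ≃* N) ∧ Subgroup.centralizer ((M.map G.subtype : Subgroup (Equiv.Perm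 α)) : Set (Equiv.Perm α)) = N.map G.subtype ∧ Subgroup.centralizer ((N.map G.subtype : Subgroup (Equiv.Perm α)) : Set (Equiv.Perm α)) = M.map G.subtype ∧ ∀ L : Subgroup G, L.Normal → L ≠ ⊥ → (∀ L' : Subgroup G, L'.Normal → L' ≤ L → L' = ⊥ ∨ L' = L) → L = M ∨ L = N := by
  classical
  have hMn : M.Normal := inferInstance
  have hNn : N.Normal := inferInstance
  -- general disjointness
  have hdisj_of : ∀ L : Subgroup G, L.Normal → L ≠ ⊥ →
      (∀ L' : Subgroup G, L'.Normal → L' ≤ L → L' = ⊥ ∨ L' = L) →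
      ∀ K : Subgroup G, K.Normal → (∀ L' : Subgroup G, L'.Normal → L' ≤ K → L' = ⊥ ∨ L' = K) →
      L ≠ K → Disjoint L K := by
    intro L hLn hLne hLmin K hKn hKmin hLK
    haveI := hLn
    haveI := hKn
    rw [disjoint_iff]
    rcases hLmin (L ⊓ K) inferInstance inf_le_left with h | h
    · exact h
    · exfalso
      have hle : L ≤ K := by rw [← h]; exact inf_le_right
      rcases hKmin L hLn hle with h' | h'
      · exact hLne h'
      · exact hLK h'
  have hdis : Disjoint M N := hdisj_of M hMn hM hMmin N hNn hNmin hMN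
  obtain ⟨a₀⟩ : Nonempty α := by
    by_contra hemp
    rw [not_nonempty_iff] at hemp
    apply hM
    rw [eq_bot_iff]
    intro m _
    rw [Subgroup.mem_bot]
    apply Subtype.ext
    ext x
    exact (hemp.false x).elim
  have hCM := centralizer_eq G M N hdis hMt hNt a₀
  have hCN := centralizer_eq G N M hdis.symm hNt hMt a₀
  refine ⟨fun a => stabilizer_eq_bot G N M hdis.symm hNt a,
    fun a => stabilizer_eq_bot G M N hdis hMt a, ?_,
    nonempty_mulEquiv G M N hdis hMt hNt a₀, hCM, hCN, ?_⟩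
  · intro hab
    have hle : M.map G.subtype ≤ N.map G.subtype := by
      rw [← hCM]
      intro c hc
      obtain ⟨m, hm, rfl⟩ := Subgroup.mem_map.mp hc
      rw [Subgroup.mem_centralizer_iff]
      intro d hd
      obtain ⟨n, hn, rfl⟩ := Subgroup.mem_map.mp hd
      have := hab.is_comm.comm (⟨n, hn⟩ : M) ⟨m, hm⟩
      have h2 : n * m = m * n := congrArg Subtype.val this
      exact congrArg Subtype.val h2
    have hMleN : M ≤ N := (Subgroup.map_le_map_iff_of_injective G.subtype_injective).mp hle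
    have : M ⊓ N = ⊥ := disjoint_iff.mp hdis
    rw [inf_of_le_left hMleN] at this
    exact hM this
  · intro L hLn hLne hLmin
    by_cases hLM : L = M
    · exact Or.inl hLM
    · right
      haveI := hLn
      have hd : Disjoint M L := (hdisj_of L hLn hLne hLmin M hMn hMmin hLM).symm
      have hle : L.map G.subtype ≤ N.map G.subtype := by
        rw [← hCM]
        intro c hc
        obtain ⟨l, hl, rfl⟩ := Subgroup.mem_map.mp hc
        rw [Subgroup.mem_centralizer_iff]
        intro d hd'
        obtain ⟨m, hm, rfl⟩ := Subgroup.mem_map.mp hd'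
        have := Subgroup.commute_of_normal_of_disjoint M L hMn hLn hd m l hm hl
        exact congrArg Subtype.val this.eq
      have hLleN : L ≤ N := (Subgroup.map_le_map_iff_of_injective G.subtype_injective).mp hle
      rcases hNmin L hLn hLleN with h | h
      · exact absurd h hLne
      · exact h

end Cfsg.Agent.S0704
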