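import Mathlib
import Cfsg.Statements.S0705
import Cfsg.Agent.Lib.Lead.MultiTrans

set_option autoImplicit false
open scoped Pointwise
open Cfsg

namespace Cfsg.Agent.S0705

open MulAction SubMulAction Equiv

/-- `G` induces every permutation on every `j`-subset. -/
def Gen {α : Type*} (G : Subgroup (Equiv.Perm α)) (j : ℕ) : Prop :=
  ∀ s : Finset α, s.card = j → ∀ τ : Equiv.Perm α, (∀ x, τ x ∈ s ↔ x ∈ s) →
    ∃ g ∈ G, ∀ x ∈ s, g x = τ x

theorem gen_down {α : Type*} [Fintype α] [DecidableEq α] (G : Subgroup (Equiv.Perm α)) {j : ℕ}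
    (h : Gen G (j + 1)) (hj : j < Fintype.card α) : Gen G j := by
  intro s hs τ hτ
  obtain ⟨c, hc⟩ : ∃ c, c ∉ s := by
    by_contra hne
    push Not at hne
    have : s = Finset.univ := Finset.eq_univ_iff_forall.mpr hne
    rw [this, Finset.card_univ] at hs
    omega
  let τ' : Equiv.Perm α := Equiv.Perm.ofSubtype (τ.subtypePerm hτ)
  have h1 : ∀ x ∈ s, τ' x = τ x := by
    intro x hx
    have := Equiv.Perm.ofSubtype_apply_of_mem (p := fun x => x ∈ s) (τ.subtypePerm hτ) hx
    simpa [τ'] using this
  have h2 : ∀ x, x ∉ s → τ' x = x := by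
    intro x hx
    exact Equiv.Perm.ofSubtype_apply_of_not_mem (p := fun x => x ∈ s) (τ.subtypePerm hτ) hx
  have hcard : (insert c s).card = j + 1 := by rw [Finset.card_insert_of_notMem hc, hs]
  have hstab : ∀ x, τ' x ∈ insert c s ↔ x ∈ insert c s := by
    intro x
    by_cases hx : x ∈ s
    · rw [h1 x hx]
      have := (hτ x).mpr hx
      simp [hx, this]
    · rw [h2 x hx]
  obtain ⟨g, hg, hgs⟩ := h (insert c s) hcard τ' hstab
  refine ⟨g, hg, fun x hx => ?_⟩
  rw [hgs x (Finset.mem_insert_of_mem hx), h1 x hx]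

theorem trans_of_gen {α : Type*} [Fintype α] [DecidableEq α] (G : Subgroup (Equiv.Perm α)) :
    ∀ j : ℕ, j < Fintype.card α → Gen G (j + 1) → MulAction.IsMultiplyPretransitive G α j := by
  intro j
  induction j with
  | zero => intro _ _; exact MulAction.is_zero_pretransitive'
  | succ j ih =>
    intro hj hgen
    have hgen' : Gen G (j + 1) := gen_down G hgen hj
    have hjt := ih (by omega) hgen'
    obtain ⟨t, ht⟩ : ∃ t : Finset α, t.card = j := by
      obtain ⟨t, -, ht⟩ := Finset.exists_subset_card_eq (s := (Finset.univ : Finset α)) (n := j)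
        (by rw [Finset.card_univ]; omega)
      exact ⟨t, ht⟩
    have hfin : Finite (t : Set α) := Finset.finite_toSet t |>.to_subtype
    have hncard : (t : Set α).ncard = j := by rw [Set.ncard_coe_finset, ht]
    refine Cfsg.Agent.Lib.Lead.MultiTrans.isMultiplyPretransitive_add (t : Set α) hncard hjt ?_
    rw [MulAction.is_one_pretransitive_iff]
    constructor
    rintro ⟨a, ha⟩ ⟨b, hb⟩
    have ha' : a ∉ t := fun h => (mem_ofFixingSubgroup_iff G).mp ha (Finset.mem_coe.mpr h)
    have hb' : b ∉ t := fun h => (mem_ofFixingSubgroup_iff G).mp hb (Finset.mem_coe.mpr h)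
    by_cases hab : a = b
    · subst hab
      exact ⟨1, one_smul _ _⟩
    · have hcard : (insert a (insert b t)).card = j + 1 + 1 := by
        rw [Finset.card_insert_of_notMem, Finset.card_insert_of_notMem hb', ht]
        simp [hab, ha']
      have hstab : ∀ x, Equiv.swap a b x ∈ insert a (insert b t) ↔ x ∈ insert a (insert b t) := by
        intro x
        by_cases hxa : x = a
        · subst hxa; simp
        · by_cases hxb : x = b
          · subst hxb; simp
          · rw [Equiv.swap_apply_of_ne_of_ne hxa hxb]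
      obtain ⟨g, hg, hgs⟩ := hgen _ hcard (Equiv.swap a b) hstab
      have hfix : (⟨g, hg⟩ : G) ∈ fixingSubgroup G (t : Set α) := by
        rw [mem_fixingSubgroup_iff]
        intro y hy
        have hy' : y ∈ t := by simpa using hy
        show g y = y
        rw [hgs y (by simp [hy'])]
        refine Equiv.swap_apply_of_ne_of_ne ?_ ?_
        · rintro rfl; exact ha' hy'
        · rintro rfl; exact hb' hy'
      refine ⟨⟨⟨g, hg⟩, hfix⟩, ?_⟩
      apply Subtype.ext
      show g a = b
      rw [hgs a (by simp), Equiv.swap_apply_left]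

/-- A generously `k`-transitive permutation group (every `(k+1)`-subset has its full symmetric group induced by the setwise stabiliser) of degree greater than `k` is `k`-transitive, and for a `k`-subset the setwise and pointwise stabilisers have the same orbits outside it. -/
theorem result {α : Type*} [Fintype α] [DecidableEq α] (G : Subgroup (Equiv.Perm α)) {k : ℕ} (hk : k < Fintype.card α) (hgen : ∀ s : Finset α, s.card = k + 1 → ∀ σ : Equiv.Perm ↥s, ∃ g ∈ G, ∀ x : ↥s, g (x : α) = σ x) : MulAction.IsMultiplyPretransitive G α k ∧ ∀ s : Finset α, s.card = k → ∀ a b : α, a ∉ s → b ∉ s → (∃ g ∈ G, g • s = s ∧ g a = b) → ∃ g ∈ G, (∀ x ∈ s, g x = x) ∧ g a = b := by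
  have hG : Gen G (k + 1) := by
    intro s hs τ hτ
    obtain ⟨g, hg, hgs⟩ := hgen s hs (τ.subtypePerm hτ)
    refine ⟨g, hg, fun x hx => ?_⟩
    have := hgs ⟨x, hx⟩
    simpa using this
  refine ⟨trans_of_gen G k hk hG, ?_⟩
  rintro s hs a b ha hb ⟨g, hg, hgs, hgab⟩
  have hstab : ∀ x, g x ∈ s ↔ x ∈ s := by
    intro x
    have : g • x ∈ g • s ↔ x ∈ s := Finset.smul_mem_smul_finset_iff g
    rw [hgs] at this
    exact this
  -- the permutation equal to g on s and the identity elsewhere
  let τ : Equiv.Perm α := Equiv.Perm.ofSubtype (g.subtypePerm hstab)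
  have h1 : ∀ x ∈ s, τ x = g x := by
    intro x hx
    have := Equiv.Perm.ofSubtype_apply_of_mem (p := fun x => x ∈ s) (g.subtypePerm hstab) hx
    simpa [τ] using this
  have h2 : ∀ x, x ∉ s → τ x = x := by
    intro x hx
    exact Equiv.Perm.ofSubtype_apply_of_not_mem (p := fun x => x ∈ s) (g.subtypePerm hstab) hx
  have hcard : (insert a s).card = k + 1 := by rw [Finset.card_insert_of_notMem ha, hs]
  have hstab' : ∀ x, τ x ∈ insert a s ↔ x ∈ insert a s := by
    intro x
    by_cases hx : x ∈ s
    · rw [h1 x hx]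
      have := (hstab x).mpr hx
      simp [hx, this]
    · rw [h2 x hx]
  obtain ⟨h, hh, hhs⟩ := hG (insert a s) hcard τ hstab'
  refine ⟨g * h⁻¹, G.mul_mem hg (G.inv_mem hh), ?_, ?_⟩
  · intro x hx
    -- h⁻¹ x ∈ s and g = h there
    have hx' : h⁻¹ x ∈ s := by
      -- h maps s onto s (it agrees with g there), so h⁻¹ maps s into s
      have hinj : Set.InjOn h (s : Set α) := fun _ _ _ _ hxy => h.injective hxy
      have hmaps : ∀ y ∈ s, h y ∈ s := by
        intro y hy
        rw [hhs y (Finset.mem_insert_of_mem hy), h1 y hy]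
        exact (hstab y).mpr hy
      have himg : s.image h = s := by
        apply Finset.eq_of_subset_of_card_le
        · intro z hz
          obtain ⟨y, hy, rfl⟩ := Finset.mem_image.mp hz
          exact hmaps y hy
        · rw [Finset.card_image_of_injective _ h.injective]
      have : x ∈ s.image h := by rw [himg]; exact hx
      obtain ⟨y, hy, rfl⟩ := Finset.mem_image.mp this
      simpa using hy
    show g (h⁻¹ x) = x
    have e : g (h⁻¹ x) = h (h⁻¹ x) := by
      rw [hhs _ (Finset.mem_insert_of_mem hx'), h1 _ hx']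
    rw [e]; simp
  · show g (h⁻¹ a) = b
    have : h a = a := by
      rw [hhs a (Finset.mem_insert_self a s), h2 a ha]
    have : h⁻¹ a = a := by
      rw [Equiv.Perm.inv_eq_iff_eq]; exact this.symm
    rw [this, hgab]

end Cfsg.Agent.S0705
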