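import Mathlib
import Cfsg.Statements.S0707
import Cfsg.Agent.S0701

set_option autoImplicit false
open Cfsg

namespace Cfsg.Agent.S0707

open MulAction
open scoped Pointwise

/-- a group in which the trivial subgroup is maximal has prime order -/
theorem prime_card_of_isCoatom_bot {G : Type*} [Group G] (h : IsCoatom (⊥ : Subgroup G)) :
    (Nat.card G).Prime := by
  have hne : (⊥ : Subgroup G) ≠ ⊤ := h.1
  have hall : ∀ K : Subgroup G, K ≠ ⊥ → K = ⊤ := fun K hK => h.2 K (bot_lt_iff_ne_bot.mpr hK)
  -- a nontrivial element
  obtain ⟨g, hg⟩ : ∃ g : G, g ≠ 1 := by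
    by_contra hcon
    push Not at hcon
    apply hne
    ext x
    simp [hcon x]
  have hz : ∀ k : G, k ≠ 1 → Subgroup.zpowers k = ⊤ := by
    intro k hk
    apply hall
    intro hbot
    apply hk
    have : k ∈ Subgroup.zpowers k := Subgroup.mem_zpowers k
    rwa [hbot, Subgroup.mem_bot] at this
  have hcard : ∀ k : G, k ≠ 1 → Nat.card G = orderOf k := by
    intro k hk
    rw [← Nat.card_zpowers, hz k hk, Subgroup.card_top]
  by_cases h0 : orderOf g = 0
  · -- infinite order: g^2 generates a proper subgroup
    exfalso
    have hg2 : g ^ 2 ≠ 1 := by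
      intro h2
      have := orderOf_dvd_of_pow_eq_one h2
      rw [h0] at this
      simp at this
    have := hz (g ^ 2) hg2
    have hmem : g ∈ Subgroup.zpowers (g ^ 2) := by rw [this]; trivial
    obtain ⟨k, hk⟩ := Subgroup.mem_zpowers_iff.mp hmem
    rw [← zpow_natCast, ← zpow_mul] at hk
    have h3 : g ^ ((2 : ℕ) * k - 1) = 1 := by
      rw [zpow_sub, hk, zpow_one, mul_inv_cancel]
    have h4 := orderOf_dvd_iff_zpow_eq_one.mpr h3
    rw [h0] at h4
    simp at h4
    omega
  · -- finite order n; it must be prime
    set n := orderOf g with hn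
    have hn1 : n ≠ 1 := by
      intro h1
      exact hg (orderOf_eq_one_iff.mp h1)
    rw [hcard g hg]
    set p := n.minFac with hp
    have hpp : p.Prime := Nat.minFac_prime hn1
    have hpn : p ∣ n := Nat.minFac_dvd n
    set k := g ^ (n / p) with hk
    have hok : orderOf k = p := by
      rw [hk, orderOf_pow_of_dvd (by
        intro h; have := Nat.div_pos (Nat.le_of_dvd (Nat.pos_of_ne_zero h0) hpn) hpp.pos
        rw [h] at this; exact lt_irrefl _ this)
        (Nat.div_dvd_of_dvd hpn), ← hn]
      exact Nat.div_div_self hpn h0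
    have hk1 : k ≠ 1 := by
      intro h1
      rw [h1, orderOf_one] at hok
      exact hpp.one_lt.ne hok
    have := hcard k hk1
    rw [hcard g hg, hok] at this
    rw [this]
    exact hpp

/-- In a primitive permutation group, distinct points have distinct stabilisers unless the group is regular of prime degree. -/
theorem result {α : Type*} (G : Subgroup (Equiv.Perm α)) [MulAction.IsPreprimitive G α] (h : ¬ (Nat.card α).Prime ∨ ∃ a : α, MulAction.stabilizer G a ≠ ⊥) {a b : α} (hab : a ≠ b) : MulAction.stabilizer G a ≠ MulAction.stabilizer G b := by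
  intro heq
  haveI : Nontrivial α := ⟨a, b, hab⟩
  set K := stabilizer G a with hK
  set B : Set α := {x | stabilizer G x = K} with hB
  have hblock : IsBlock G B := by
    rw [isBlock_iff_smul_eq_of_mem]
    intro g x hx hgx
    have hx' : stabilizer G x = K := hx
    have hgx' : stabilizer G (g • x) = K := hgx
    rw [stabilizer_smul_eq_stabilizer_map_conj, hx'] at hgx'
    -- conj g K = K
    have hsub : ∀ g' : G, K.map (MulAut.conj g').toMonoidHom = K → g' • B ⊆ B := by
      rintro g' hg' _ ⟨y, hy, rfl⟩
      have hy' : stabilizer G y = K := hy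
      change stabilizer G (g' • y) = K
      rw [stabilizer_smul_eq_stabilizer_map_conj, hy', hg']
    apply Set.Subset.antisymm (hsub g hgx')
    have hinv : K.map (MulAut.conj g⁻¹).toMonoidHom = K := by
      conv_lhs => rw [← hgx']
      rw [Subgroup.map_map]
      have : (MulAut.conj g⁻¹).toMonoidHom.comp (MulAut.conj g).toMonoidHom = MonoidHom.id G := by
        ext y; simp
      rw [this, Subgroup.map_id]
    have := hsub g⁻¹ hinv
    intro y hy
    have hy2 : g⁻¹ • y ∈ B := this ⟨y, hy, rfl⟩
    exact ⟨g⁻¹ • y, hy2, by simp⟩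
  have haB : a ∈ B := rfl
  have hbB : b ∈ B := heq.symm
  have huniv : B = Set.univ := by
    rcases hblock.subsingleton_or_eq_univ with hs | hu
    · exact absurd (hs haB hbB) hab
    · exact hu
  have hall : ∀ x : α, stabilizer G x = K := by
    intro x
    have : x ∈ B := by rw [huniv]; trivial
    exact this
  have hKbot : K = ⊥ := by
    rw [eq_bot_iff]
    intro k hk
    rw [Subgroup.mem_bot]
    apply Subtype.ext
    ext x
    have : k ∈ stabilizer G x := by rw [hall x]; exact hk
    exact this
  have hreg : ∀ x : α, stabilizer G x = ⊥ := fun x => (hall x).trans hKbot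
  rcases h with hnp | ⟨c, hc⟩
  · apply hnp
    have hco : IsCoatom (stabilizer G a) :=
      IsPreprimitive.isCoatom_stabilizer_of_isPreprimitive (G := G) a
    rw [hreg a] at hco
    have hp := prime_card_of_isCoatom_bot hco
    have hbij := Cfsg.Agent.S0701.orbitMap_bijective G hreg a
    rw [← Nat.card_congr (Equiv.ofBijective _ hbij)]
    exact hp
  · exact hc (hreg c)

end Cfsg.Agent.S0707
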