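import Mathlib
import Cfsg.Statements.S0711
import Cfsg.Agent.Lib.Lead.SmallSupport

set_option autoImplicit false

open Cfsg

namespace Cfsg.Agent.S0711

theorem result {α : Type*} [Fintype α] [DecidableEq α] (G : Subgroup (Equiv.Perm α)) {k : ℕ} (hk : 3 ≤ k) (hkn : k ≤ Fintype.card α) (hG : MulAction.IsMultiplyPretransitive G α k) (g : Equiv.Perm α) (hg : g ∈ G) (hg1 : g ≠ 1) (hsupp : g.support.card < 2 * k - 2) : (∃ h : Equiv.Perm α, h ∈ G ∧ h ≠ 1 ∧ h.support.card ≤ 3) ∧ alternatingGroup α ≤ G := by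
  obtain ⟨h, hhG, hh1, hh3⟩ := Cfsg.Agent.Lib.Lead.SmallSupport.small_support G hk hkn hG
    g.support.card g hg hg1 rfl (by omega)
  refine ⟨⟨h, hhG, hh1, hh3⟩, ?_⟩
  have h2 : MulAction.IsMultiplyPretransitive G α 2 :=
    MulAction.isMultiplyPretransitive_of_le (n := k) (by omega)
      (by rw [Nat.card_eq_fintype_card]; exact hkn)
  have hprim : MulAction.IsPreprimitive G α := MulAction.isPreprimitive_of_is_two_pretransitive h2
  exact Cfsg.Agent.Lib.Lead.SmallSupport.alt_le_of_small G hprim h hhG hh1 hh3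

end Cfsg.Agent.S0711
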