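import Mathlib
import Cfsg.Statements.S0714

set_option autoImplicit false
open Cfsg

namespace Cfsg.Agent.S0714

theorem result {α : Type*} [Fintype α] [DecidableEq α] (hα : 5 ≤ Fintype.card α) {K : Type*} [Field K] (W : Subrepresentation (Cfsg.permRep K (alternatingGroup α) α)) : W.toSubmodule = ⊥ ∨ W = Cfsg.permConstants K (alternatingGroup α) α ∨ W = Cfsg.permSumZero K (alternatingGroup α) α ∨ W.toSubmodule = ⊤ := by
  classical
  -- invariance under even permutations
  have hinv : ∀ (σ : Equiv.Perm α), Equiv.Perm.sign σ = 1 → ∀ f ∈ W.toSubmodule,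
      (fun x => f (σ x)) ∈ W.toSubmodule := by
    intro σ hσ f hf
    have hmem : σ⁻¹ ∈ alternatingGroup α := by
      rw [Equiv.Perm.mem_alternatingGroup, Equiv.Perm.sign_inv, hσ]
    have := W.apply_mem_toSubmodule ⟨σ⁻¹, hmem⟩ hf
    convert this using 1
    ext x
    change f (σ x) = f ((⟨σ⁻¹, hmem⟩ : alternatingGroup α)⁻¹ • x)
    rw [Subgroup.smul_def]
    simp
  have hcard : 5 ≤ Fintype.card α := hα
  -- values of the three cycle
  have hρ : ∀ a b c : α, a ≠ b → b ≠ c → a ≠ c →
      (Equiv.swap a b * Equiv.swap b c) a = b ∧ (Equiv.swap a b * Equiv.swap b c) b = c ∧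
      (Equiv.swap a b * Equiv.swap b c) c = a ∧
      ∀ t, t ≠ a → t ≠ b → t ≠ c → (Equiv.swap a b * Equiv.swap b c) t = t := by
    intro a b c hab hbc hac
    refine ⟨?_, ?_, ?_, ?_⟩
    · rw [Equiv.Perm.mul_apply, Equiv.swap_apply_of_ne_of_ne hab hac, Equiv.swap_apply_left]
    · rw [Equiv.Perm.mul_apply, Equiv.swap_apply_left, Equiv.swap_apply_of_ne_of_ne hac.symm hbc.symm]
    · rw [Equiv.Perm.mul_apply, Equiv.swap_apply_right, Equiv.swap_apply_right]
    · intro t hta htb htc
      rw [Equiv.Perm.mul_apply, Equiv.swap_apply_of_ne_of_ne htb htc,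
        Equiv.swap_apply_of_ne_of_ne hta htb]
  have hsign : ∀ a b c : α, a ≠ b → b ≠ c →
      Equiv.Perm.sign (Equiv.swap a b * Equiv.swap b c) = 1 := by
    intro a b c hab hbc
    rw [Equiv.Perm.sign_mul, Equiv.Perm.sign_swap hab, Equiv.Perm.sign_swap hbc]
    rfl
  have h3c : ∀ a b c : α, a ≠ b → b ≠ c → a ≠ c → ∀ f ∈ W.toSubmodule,
      (fun x => f x - f ((Equiv.swap a b * Equiv.swap b c) x)) ∈ W.toSubmodule := by
    intro a b c hab hbc hac f hf
    exact W.toSubmodule.sub_mem hf (hinv _ (hsign a b c hab hbc) f hf)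
  have hne : Nonempty α := by
    rw [← Fintype.card_pos_iff]; omega
  obtain ⟨a₀⟩ := hne
  by_cases hconst : ∀ f ∈ W.toSubmodule, ∀ a b, f a = f b
  · -- W consists of constants
    by_cases hbot : W.toSubmodule = ⊥
    · left; exact hbot
    · right; left
      apply Subrepresentation.toSubmodule_injective
      change W.toSubmodule = Submodule.span K {fun _ => 1}
      apply le_antisymm
      · intro f hf
        rw [Submodule.mem_span_singleton]
        refine ⟨f a₀, ?_⟩
        ext x
        simp [hconst f hf x a₀]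
      · rw [Submodule.span_le, Set.singleton_subset_iff]
        obtain ⟨f, hf, hf0⟩ := (Submodule.ne_bot_iff _).mp hbot
        have hfa : f a₀ ≠ 0 := by
          intro h0
          apply hf0
          ext x
          rw [hconst f hf x a₀, h0]; rfl
        have : (fun _ => 1 : α → K) = (f a₀)⁻¹ • f := by
          ext x
          simp [hconst f hf x a₀, hfa]
        rw [SetLike.mem_coe, this]
        exact W.toSubmodule.smul_mem _ hf
  · push Not at hconst
    obtain ⟨f, hf, a, b, hab'⟩ := hconst
    have hab : a ≠ b := by rintro rfl; exact hab' rfl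
    -- three further points
    have hex : ∃ c d e : α, c ≠ a ∧ c ≠ b ∧ d ≠ a ∧ d ≠ b ∧ d ≠ c ∧ e ≠ a ∧ e ≠ b ∧ e ≠ c ∧ e ≠ d := by
      have h1 : (({a, b} : Finset α)ᶜ).card = Fintype.card α - 2 := by
        rw [Finset.card_compl, Finset.card_pair hab]
      have h2 : 3 ≤ (({a, b} : Finset α)ᶜ).card := by omega
      obtain ⟨s, hs, hs3⟩ := Finset.exists_subset_card_eq h2
      obtain ⟨c, d, e, hcd, hce, hde, rfl⟩ := Finset.card_eq_three.mp hs3
      have hc := hs (show c ∈ ({c, d, e} : Finset α) by simp)
      have hd := hs (show d ∈ ({c, d, e} : Finset α) by simp)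
      have he := hs (show e ∈ ({c, d, e} : Finset α) by simp)
      simp only [Finset.mem_compl, Finset.mem_insert, Finset.mem_singleton, not_or] at hc hd he
      exact ⟨c, d, e, hc.1, hc.2, hd.1, hd.2, hcd.symm, he.1, he.2, hce.symm, hde.symm⟩
    obtain ⟨c, d, e, hca, hcb, hda, hdb, hdc, hea, heb, hec, hed⟩ := hex
    -- step 1
    set g₁ : α → K := fun x => f x - f ((Equiv.swap a b * Equiv.swap b c) x) with hg₁
    have hg₁W : g₁ ∈ W.toSubmodule := h3c a b c hab hcb.symm hca.symm f hf
    obtain ⟨ρa, ρb, ρc, ρt⟩ := hρ a b c hab hcb.symm hca.symm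
    have hg₁a : g₁ a ≠ 0 := by
      simp only [hg₁, ρa]
      exact sub_ne_zero.mpr hab'
    have hg₁d : g₁ d = 0 := by
      simp only [hg₁, ρt d hda hdb hdc, sub_self]
    have hg₁e : g₁ e = 0 := by
      simp only [hg₁, ρt e hea heb hec, sub_self]
    -- step 2
    set k : α → K := fun x => g₁ x - g₁ ((Equiv.swap a d * Equiv.swap d e) x) with hk
    have hkW : k ∈ W.toSubmodule := h3c a d e hda.symm hed.symm hea.symm g₁ hg₁W
    obtain ⟨σa, σd, σe, σt⟩ := hρ a d e hda.symm hed.symm hea.symm
    have hkeq : k = g₁ a • (Pi.single a 1 - Pi.single e 1) := by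
      ext t
      simp only [hk, Pi.smul_apply, Pi.sub_apply, smul_eq_mul, Pi.single_apply]
      by_cases hta : t = a
      · subst hta
        rw [σa, hg₁d, if_pos rfl, if_neg hea.symm]; ring
      · by_cases hte : t = e
        · subst hte
          rw [σe, hg₁e, if_neg hea, if_pos rfl]; ring
        · by_cases htd : t = d
          · subst htd
            rw [σd, hg₁d, hg₁e, if_neg hda, if_neg hed.symm]; ring
          · rw [σt t hta htd hte, if_neg hta, if_neg hte]; ring
    have hbase : (Pi.single a 1 - Pi.single e 1 : α → K) ∈ W.toSubmodule := by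
      have : (Pi.single a 1 - Pi.single e 1 : α → K) = (g₁ a)⁻¹ • k := by
        rw [hkeq, smul_smul, inv_mul_cancel₀ hg₁a, one_smul]
      rw [this]
      exact W.toSubmodule.smul_mem _ hkW
    -- step 3 : all differences
    have h2t : MulAction.IsMultiplyPretransitive (alternatingGroup α) α 2 := by
      have := alternatingGroup.isMultiplyPretransitive α
      apply MulAction.isMultiplyPretransitive_of_le (n := Nat.card α - 2) _ (Nat.sub_le _ _)
      rw [Nat.card_eq_fintype_card]; omega
    have hdiff : ∀ p q : α, p ≠ q → (Pi.single p 1 - Pi.single q 1 : α → K) ∈ W.toSubmodule := by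
      intro p q hpq
      obtain ⟨g, hgp, hgq⟩ := (MulAction.is_two_pretransitive_iff.mp h2t) hpq hea.symm
      have hs : Equiv.Perm.sign (g : Equiv.Perm α) = 1 := Equiv.Perm.mem_alternatingGroup.mp g.2
      have := hinv (g : Equiv.Perm α) hs _ hbase
      convert this using 1
      ext t
      have hgp' : (g : Equiv.Perm α) p = a := hgp
      have hgq' : (g : Equiv.Perm α) q = e := hgq
      simp only [Pi.sub_apply, Pi.single_apply]
      have e1 : ((g : Equiv.Perm α) t = a) ↔ t = p := by
        rw [← hgp']; exact (g : Equiv.Perm α).injective.eq_iff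
      have e2 : ((g : Equiv.Perm α) t = e) ↔ t = q := by
        rw [← hgq']; exact (g : Equiv.Perm α).injective.eq_iff
      simp only [e1, e2]
    have hSZ : (Cfsg.permSumZero K (alternatingGroup α) α).toSubmodule ≤ W.toSubmodule := by
      intro h hh
      have hh' : ∑ x, h x = 0 := hh
      have : h = ∑ x, h x • (Pi.single x 1 - Pi.single a₀ 1 : α → K) := by
        ext t
        simp only [Finset.sum_apply, Pi.smul_apply, Pi.sub_apply, smul_eq_mul, Pi.single_apply,
          mul_sub, Finset.sum_sub_distrib, mul_ite, mul_one, mul_zero]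
        rw [Finset.sum_ite_eq Finset.univ t h, if_pos (Finset.mem_univ _)]
        by_cases ht : t = a₀
        · simp [ht, hh']
        · simp [ht]
      rw [this]
      apply Submodule.sum_mem
      intro x _
      apply Submodule.smul_mem
      by_cases hx : x = a₀
      · rw [hx, sub_self]; exact Submodule.zero_mem _
      · exact hdiff x a₀ hx
    by_cases hle : W.toSubmodule ≤ (Cfsg.permSumZero K (alternatingGroup α) α).toSubmodule
    · right; right; left
      apply Subrepresentation.toSubmodule_injective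
      exact le_antisymm hle hSZ
    · right; right; right
      obtain ⟨f₀, hf₀, hf₀s⟩ := Set.not_subset.mp hle
      have hs : ∑ x, f₀ x ≠ 0 := hf₀s
      rw [eq_top_iff]
      intro h _
      have hdecomp : h = (h - ((∑ x, h x) / (∑ x, f₀ x)) • f₀) + ((∑ x, h x) / (∑ x, f₀ x)) • f₀ := by
        rw [sub_add_cancel]
      rw [hdecomp]
      apply Submodule.add_mem
      · apply hSZ
        change ∑ x, (h - ((∑ x, h x) / (∑ x, f₀ x)) • f₀) x = 0
        simp only [Pi.sub_apply, Pi.smul_apply, smul_eq_mul, Finset.sum_sub_distrib, ← Finset.mul_sum]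
        rw [div_mul_cancel₀ _ hs, sub_self]
      · exact Submodule.smul_mem _ _ hf₀

end Cfsg.Agent.S0714
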