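import Mathlib
import Cfsg.Statements.S0717
import Cfsg.Agent.Lib.Lead.Hecke5

set_option autoImplicit false

open Cfsg

namespace Cfsg.Agent.S0717

theorem result {G : Type*} [Group G] [Fintype G] {Ω : Type*} [Fintype Ω] [MulAction G Ω] [MulAction.IsPretransitive G Ω] : (∀ a b : Ω, ∃ g : G, g • a = b ∧ g • b = a) ↔ ∀ χ : G → ℂ, Cfsg.IsIrrCharacter G χ → Cfsg.classInner (fun g : G => (Nat.card (MulAction.fixedBy Ω g) : ℂ)) χ ≠ 0 → Cfsg.classInner (fun g : G => (Nat.card (MulAction.fixedBy Ω g) : ℂ)) χ = 1 ∧ ∀ g : G, (starRingEnd ℂ) (χ g) = χ g := by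
  constructor
  · intro hsw χ hχ h0
    by_cases hne : Nonempty Ω
    · haveI := hne
      exact Cfsg.Agent.Lib.Lead.Hecke.multfree_real_of_swap (G := G) (Ω := Ω) hsw χ hχ h0
    · exfalso
      apply h0
      unfold Cfsg.classInner
      have : ∀ g : G, (Nat.card (MulAction.fixedBy Ω g) : ℂ) = 0 := by
        intro g
        haveI : IsEmpty Ω := not_nonempty_iff.mp hne
        simp
      rw [Finset.sum_eq_zero (fun g _ => by
        show (Nat.card (MulAction.fixedBy Ω g) : ℂ) * _ = 0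
        rw [this g, zero_mul]), mul_zero]
  · intro hyp a b
    exact Cfsg.Agent.Lib.Lead.Hecke.swap_of_multfree_real (G := G) (Ω := Ω) hyp a b

end Cfsg.Agent.S0717
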