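import Mathlib
import Cfsg.Statements.S0721
import Cfsg.Agent.Lib.Lead.MinNormalPower

set_option autoImplicit false

open Cfsg

namespace Cfsg.Agent.S0721

theorem result {H : Type*} [Group H] [Finite H] (N : Subgroup H) [N.Normal] (hN : N ≠ ⊥) (hmin : ∀ M : Subgroup H, M.Normal → M ≤ N → M = ⊥ ∨ M = N) : ∃ (T : Type) (_ : Group T) (m : ℕ), IsSimpleGroup T ∧ 0 < m ∧ Nonempty (N ≃* (Fin m → T)) := by
  exact Cfsg.Agent.Lib.Lead.MinNormalPower.min_normal_power N hN hmin

end Cfsg.Agent.S0721
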