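import Mathlib
import Cfsg.Statements.S0724

set_option autoImplicit false
open Cfsg

namespace Cfsg.Agent.S0724

open MulAction Polynomial

/-- fixed points of `g` on tuples are tuples of fixed points -/
def fixedTupleEquiv {α : Type*} (G : Subgroup (Equiv.Perm α)) (k : ℕ) (g : G) :
    fixedBy (Fin k → α) g ≃ (Fin k → fixedBy α (g : Equiv.Perm α)) where
  toFun v i := ⟨v.1 i, congrFun v.2 i⟩
  invFun w := ⟨fun i => (w i).1, funext fun i => (w i).2⟩
  left_inv _ := rfl
  right_inv _ := rfl

/-- Blichfeldt's Theorem: if a finite set `L` of natural numbers contains the number of fixed points of every non-identity element of a permutation group `G` of degree `n`, then the order of `G` divides `∏ (n - l)` over `l ∈ L`. -/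
theorem result {α : Type*} [Fintype α] [DecidableEq α] (G : Subgroup (Equiv.Perm α)) (L : Finset ℕ) (hL : ∀ g ∈ G, g ≠ 1 → Nat.card (MulAction.fixedBy α g) ∈ L) : Nat.card G ∣ ∏ l ∈ L, (Fintype.card α - l) := by
  classical
  haveI : Fintype G := Fintype.ofFinite G
  set n := Fintype.card α with hn
  let f : G → ℕ := fun g => Nat.card (fixedBy α (g : Equiv.Perm α))
  have hkey : ∀ k : ℕ, Fintype.card G ∣ ∑ g : G, (f g) ^ k := by
    intro k
    have hB := MulAction.sum_card_fixedBy_eq_card_orbits_mul_card_group G (Fin k → α)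
    have hcard : ∀ g : G, Fintype.card (fixedBy (Fin k → α) g) = (f g) ^ k := by
      intro g
      rw [Fintype.card_congr (fixedTupleEquiv G k g), Fintype.card_fun, Fintype.card_fin]
      change _ = (Nat.card (fixedBy α (g : Equiv.Perm α))) ^ k
      rw [Nat.card_eq_fintype_card]
    rw [Finset.sum_congr rfl (fun g _ => hcard g)] at hB
    rw [hB]
    exact dvd_mul_left _ _
  have hpoly : ∀ P : Polynomial ℤ, (Fintype.card G : ℤ) ∣ ∑ g : G, P.eval (f g : ℤ) := by
    intro P
    have e : ∀ g : G, P.eval (f g : ℤ) =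
        ∑ i ∈ Finset.range (P.natDegree + 1), P.coeff i * (f g : ℤ) ^ i :=
      fun g => Polynomial.eval_eq_sum_range _
    rw [Finset.sum_congr rfl (fun g _ => e g), Finset.sum_comm]
    apply Finset.dvd_sum
    intro i _
    rw [← Finset.mul_sum]
    apply Dvd.dvd.mul_left
    have := hkey i
    have h2 : ((∑ g : G, (f g) ^ i : ℕ) : ℤ) = ∑ g : G, (f g : ℤ) ^ i := by
      push_cast; rfl
    rw [← h2]
    exact Int.natCast_dvd_natCast.mpr this
  set P : Polynomial ℤ := ∏ l ∈ L, (X - C (l : ℤ)) with hP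
  have hPeval : ∀ x : ℤ, P.eval x = ∏ l ∈ L, (x - l) := by
    intro x
    rw [hP, Polynomial.eval_prod]
    apply Finset.prod_congr rfl
    intro l _
    simp
  have hf1 : f 1 = n := by
    change Nat.card (fixedBy α ((1 : G) : Equiv.Perm α)) = n
    rw [hn, ← Nat.card_eq_fintype_card]
    apply Nat.card_congr
    exact
      { toFun := fun x => x.1
        invFun := fun x => ⟨x, by simp [mem_fixedBy]⟩
        left_inv := fun _ => rfl
        right_inv := fun _ => rfl }
  have hsum : ∑ g : G, P.eval (f g : ℤ) = ∏ l ∈ L, ((n : ℤ) - l) := by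
    rw [← hPeval, ← hf1]
    apply Finset.sum_eq_single_of_mem (1 : G) (Finset.mem_univ _)
    intro g _ hg
    have hg' : (g : Equiv.Perm α) ≠ 1 := fun h => hg (Subtype.ext h)
    have hmem := hL g g.2 hg'
    rw [hPeval]
    apply Finset.prod_eq_zero hmem
    simp [f]
  have hdvd := hpoly P
  rw [hsum] at hdvd
  rw [Nat.card_eq_fintype_card]
  by_cases hbig : ∃ l ∈ L, n < l
  · obtain ⟨l, hl, hnl⟩ := hbig
    have : ∏ l ∈ L, (n - l) = 0 := Finset.prod_eq_zero hl (by omega)
    rw [this]
    exact dvd_zero _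
  · push Not at hbig
    have hcast : ((∏ l ∈ L, (n - l) : ℕ) : ℤ) = ∏ l ∈ L, ((n : ℤ) - l) := by
      rw [Nat.cast_prod]
      apply Finset.prod_congr rfl
      intro l hl
      rw [Nat.cast_sub (hbig l hl)]
    rw [← hcast] at hdvd
    exact Int.natCast_dvd_natCast.mp hdvd

end Cfsg.Agent.S0724
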