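import Cfsg.Statements.S0729
import Cfsg.Agent.Lib.Helper2.SttA
import Cfsg.Agent.Lib.Helper2.SttE

set_option autoImplicit false
open Cfsg

namespace Cfsg.Agent.S0729

/-- In a sharply triply transitive group of even degree at least 6, the two-point stabiliser `H = G_{a,b}` has a normal subgroup of index 2 that is normalised by the element `s` interchanging `a, b` and fixing a third point `c`. -/
theorem result {α : Type*} [Fintype α] [DecidableEq α] (heven : Even (Fintype.card α)) (h6 : 6 ≤ Fintype.card α) (G : Subgroup (Equiv.Perm α)) (h3 : MulAction.IsMultiplyPretransitive G α 3) (hsharp : ∀ x : Fin 3 ↪ α, MulAction.stabilizer G x = ⊥) {a b c : α} (hab : a ≠ b) (hac : a ≠ c) (hbc : b ≠ c) (s : G) (hsa : s • a = b) (hsb : s • b = a) (hsc : s • c = c) : ∃ N : Subgroup G, N ≤ MulAction.stabilizer G a ⊓ MulAction.stabilizer G b ∧ (N.subgroupOf (MulAction.stabilizer G a ⊓ MulAction.stabilizer G b)).Normal ∧ N.relIndex (MulAction.stabilizer G a ⊓ MulAction.stabilizer G b) = 2 ∧ ∀ n ∈ N, s *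 n * s⁻¹ ∈ N := by
  classical
  obtain ⟨M, hM⟩ := Cfsg.Agent.Lib.Helper2.Stt.exists_index_two heven h6 G h3 hsharp hab
  -- s is an involution
  have hss : s * s = 1 :=
    Cfsg.Agent.Lib.Lead.Sharp3.eq_one_of_fix3 hsharp hab hac hbc (s * s)
      (by rw [mul_smul, hsa, hsb]) (by rw [mul_smul, hsb, hsa]) (by rw [mul_smul, hsc, hsc])
  have hsinv : s⁻¹ = s := inv_eq_of_mul_eq_one_left hss
  -- conjugation by s preserves the two-point stabiliser
  have hconj : ∀ h ∈ MulAction.stabilizer G a ⊓ MulAction.stabilizer G b,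
      s * h * s⁻¹ ∈ MulAction.stabilizer G a ⊓ MulAction.stabilizer G b := by
    intro h hh
    rw [hsinv]
    obtain ⟨ha, hb⟩ := Subgroup.mem_inf.mp hh
    rw [MulAction.mem_stabilizer_iff] at ha hb
    refine Subgroup.mem_inf.mpr ⟨?_, ?_⟩
    · rw [MulAction.mem_stabilizer_iff, mul_smul, mul_smul, hsa, hb, hsb]
    · rw [MulAction.mem_stabilizer_iff, mul_smul, mul_smul, hsb, ha, hsa]
  have hinvol : ∀ h : G, s * (s * h * s⁻¹) * s⁻¹ = h := by
    intro h
    rw [hsinv]
    calc s * (s * h * s) * s = (s * s) * h * (s * s) := by group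
      _ = h := by rw [hss, one_mul, mul_one]
  let σ : ↥(MulAction.stabilizer G a ⊓ MulAction.stabilizer G b) ≃*
      ↥(MulAction.stabilizer G a ⊓ MulAction.stabilizer G b) :=
    { toFun := fun h => ⟨s * h * s⁻¹, hconj h h.2⟩
      invFun := fun h => ⟨s * h * s⁻¹, hconj h h.2⟩
      left_inv := fun h => Subtype.ext (hinvol h)
      right_inv := fun h => Subtype.ext (hinvol h)
      map_mul' := fun h k => Subtype.ext (by
        simp only [Subgroup.coe_mul]
        group) }
  have hσ : ∀ x, σ (σ x) = x := fun h => Subtype.ext (hinvol h)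
  obtain ⟨N', hN'idx, hN'inv⟩ :=
    Cfsg.Agent.Lib.Helper2.Stt.exists_invariant_index_two σ hσ M hM
  have hsub : (N'.map (MulAction.stabilizer G a ⊓ MulAction.stabilizer G b).subtype).subgroupOf
      (MulAction.stabilizer G a ⊓ MulAction.stabilizer G b) = N' :=
    Subgroup.comap_map_eq_self_of_injective (Subgroup.subtype_injective _) N'
  refine ⟨N'.map (MulAction.stabilizer G a ⊓ MulAction.stabilizer G b).subtype,
    Subgroup.map_subtype_le N', ?_, ?_, ?_⟩
  · rw [hsub]
    exact Subgroup.normal_of_index_eq_two hN'idx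
  · unfold Subgroup.relIndex
    rw [hsub]
    exact hN'idx
  · rintro n ⟨n', hn', rfl⟩
    exact ⟨σ n', hN'inv n' hn', rfl⟩

end Cfsg.Agent.S0729
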