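import Mathlib
import Cfsg.Statements.S0733

set_option autoImplicit false
open Cfsg

namespace Cfsg.Agent.S0733

open MulAction
open scoped Pointwise

/-- A permutation group of affine type — generated by the translations of a finite vector space `V` over `ZMod p` together with a group `G₀` of linear automorphisms — is primitive on `V` if and only if `G₀` is irreducible on `V`. -/
theorem result {p : ℕ} [Fact p.Prime] {V : Type*} [AddCommGroup V] [Module (ZMod p) V] [Finite V] [Nontrivial V] (G₀ : Subgroup (V ≃ₗ[ZMod p] V)) (G : Subgroup (Equiv.Perm V)) (hG : ∀ σ : Equiv.Perm V, σ ∈ G ↔ ∃ g ∈ G₀, ∃ b : V, ∀ x : V, σ x = (g : V ≃ₗ[ZMod p] V) x + b) : MulAction.IsPreprimitive G V ↔ ∀ W : Submodule (ZMod p) V, (∀ g ∈ G₀, ∀ v ∈ W, (g : V ≃ₗ[ZMod p] V) v ∈ W) → W = ⊥ ∨ W = ⊤ := by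
  -- translations and linear parts
  have htr : ∀ b : V, Equiv.addRight b ∈ G := by
    intro b
    rw [hG]
    exact ⟨1, G₀.one_mem, b, fun x => by simp⟩
  have hlin : ∀ g ∈ G₀, (g : V ≃ₗ[ZMod p] V).toEquiv ∈ G := by
    intro g hg
    rw [hG]
    exact ⟨g, hg, 0, fun x => by simp⟩
  constructor
  · intro hprim W hW
    have hWinv : ∀ g ∈ G₀, ∀ v ∈ W, (g⁻¹ : V ≃ₗ[ZMod p] V) v ∈ W := fun g hg v hv =>
      hW g⁻¹ (G₀.inv_mem hg) v hv
    have hB : IsBlock G (W : Set V) := by
      rw [isBlock_iff_smul_eq_or_disjoint]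
      intro σ
      obtain ⟨g, hg, b, hσ⟩ := (hG σ.1).mp σ.2
      have hσ' : ∀ x : V, σ • x = g x + b := hσ
      by_cases hb : b ∈ W
      · left
        ext x
        rw [Set.mem_smul_set]
        constructor
        · rintro ⟨w, hw, rfl⟩
          rw [hσ']
          exact W.add_mem (hW g hg w hw) hb
        · intro hx
          refine ⟨(g⁻¹ : V ≃ₗ[ZMod p] V) (x - b), hWinv g hg _ (W.sub_mem hx hb), ?_⟩
          rw [hσ']
          have : g ((g⁻¹ : V ≃ₗ[ZMod p] V) (x - b)) = x - b := by
            show (g * g⁻¹) (x - b) = x - b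
            rw [mul_inv_cancel]; rfl
          rw [this]; abel
      · right
        rw [Set.disjoint_left]
        rintro x ⟨w, hw, rfl⟩ hx
        apply hb
        have hx' : g w + b ∈ W := by
          have : σ • w = g w + b := hσ' w
          rw [← this]; exact hx
        have := W.sub_mem hx' (hW g hg w hw)
        simpa using this
    rcases hB.subsingleton_or_eq_univ with hs | hu
    · left
      rw [eq_bot_iff]
      intro w hw
      rw [Submodule.mem_bot]
      exact hs hw W.zero_mem
    · right
      rw [eq_top_iff]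
      intro w _
      have : w ∈ (W : Set V) := by rw [hu]; exact Set.mem_univ w
      exact this
  · intro hirr
    haveI : IsPretransitive G V := by
      constructor
      intro x y
      refine ⟨⟨Equiv.addRight (y - x), htr _⟩, ?_⟩
      show x + (y - x) = y
      abel
    apply IsPreprimitive.of_isTrivialBlock_base (0 : V)
    intro B h0 hB
    have hadd : ∀ a ∈ B, ∀ b ∈ B, a + b ∈ B := by
      intro a ha b hb
      have h1 : (⟨Equiv.addRight b, htr b⟩ : G) • B = B := by
        apply hB.smul_eq_of_mem h0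
        show (0 : V) + b ∈ B
        rw [zero_add]; exact hb
      rw [← h1]
      exact ⟨a, ha, rfl⟩
    have hneg : ∀ a ∈ B, -a ∈ B := by
      intro a ha
      have h1 : (⟨Equiv.addRight (-a), htr (-a)⟩ : G) • B = B := by
        apply hB.smul_eq_of_mem ha
        show a + -a ∈ B
        rw [add_neg_cancel]; exact h0
      rw [← h1]
      exact ⟨0, h0, by show (0 : V) + -a = -a; rw [zero_add]⟩
    let A : AddSubgroup V :=
      { carrier := B
        zero_mem' := h0
        add_mem' := fun {a b} ha hb => hadd a ha b hb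
        neg_mem' := fun {a} ha => hneg a ha }
    let W : Submodule (ZMod p) V := AddSubgroup.toZModSubmodule p A
    have hWB : ∀ v, v ∈ W ↔ v ∈ B := fun v => Iff.rfl
    have hWinv : ∀ g ∈ G₀, ∀ v ∈ W, (g : V ≃ₗ[ZMod p] V) v ∈ W := by
      intro g hg v hv
      rw [hWB] at hv ⊢
      have h1 : (⟨(g : V ≃ₗ[ZMod p] V).toEquiv, hlin g hg⟩ : G) • B = B := by
        apply hB.smul_eq_of_mem h0
        show g (0 : V) ∈ B
        rw [map_zero]; exact h0
      rw [← h1]
      exact ⟨v, hv, rfl⟩
    rcases hirr W hWinv with h | h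
    · left
      intro x hx y hy
      have hx' : x ∈ W := (hWB x).mpr hx
      have hy' : y ∈ W := (hWB y).mpr hy
      rw [h, Submodule.mem_bot] at hx' hy'
      rw [hx', hy']
    · right
      ext x
      simp only [Set.mem_univ, iff_true]
      rw [← hWB, h]
      exact Submodule.mem_top

end Cfsg.Agent.S0733
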