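import Mathlib
import Cfsg.Statements.S0734

set_option autoImplicit false
open Cfsg

namespace Cfsg.Agent.S0734

open MulAction
open scoped Pointwise

section

variable {G : Type*} [Group G] {Ω : Type*} [MulAction G Ω]

/-- the orbital graph of the pair `(a, b)` -/
def orbGraph (G : Type*) [Group G] {Ω : Type*} [MulAction G Ω] (a b : Ω) : SimpleGraph Ω :=
  SimpleGraph.fromRel fun x y : Ω => ∃ g : G, g • a = x ∧ g • b = y

theorem adj_smul (a b : Ω) (g : G) {x y : Ω} (h : (orbGraph G a b).Adj x y) :
    (orbGraph G a b).Adj (g • x) (g • y) := by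
  unfold orbGraph at h ⊢
  rw [SimpleGraph.fromRel_adj] at h ⊢
  obtain ⟨hne, h⟩ := h
  refine ⟨fun e => hne (MulAction.injective g e), ?_⟩
  rcases h with ⟨k, rfl, rfl⟩ | ⟨k, rfl, rfl⟩
  · left; exact ⟨g * k, mul_smul _ _ _, mul_smul _ _ _⟩
  · right; exact ⟨g * k, mul_smul _ _ _, mul_smul _ _ _⟩

theorem reachable_smul (a b : Ω) (g : G) {x y : Ω} (h : (orbGraph G a b).Reachable x y) :
    (orbGraph G a b).Reachable (g • x) (g • y) := by
  rw [SimpleGraph.reachable_iff_reflTransGen] at h ⊢
  induction h with
  | refl => exact Relation.ReflTransGen.refl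
  | tail _ hadj ih => exact ih.tail (adj_smul a b g hadj)

end

/-- Higman's criterion for primitivity: a transitive action on a finite set is primitive if and only if every non-trivial orbital graph (edges = images of a fixed pair of distinct points) is connected. -/
theorem result {G : Type*} [Group G] {Ω : Type*} [Finite Ω] [MulAction G Ω] [MulAction.IsPretransitive G Ω] [Nontrivial Ω] : MulAction.IsPreprimitive G Ω ↔ ∀ a b : Ω, a ≠ b → (SimpleGraph.fromRel fun x y : Ω => ∃ g : G, g • a = x ∧ g • b = y).Connected := by
  constructor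
  · intro hprim a b hab
    change (orbGraph G a b).Connected
    set Γ := orbGraph G a b with hΓ
    set C : Set Ω := {x | Γ.Reachable a x} with hC
    have hblock : IsBlock G C := by
      rw [isBlock_iff_smul_eq_of_mem]
      intro g x hx hgx
      have hx' : Γ.Reachable a x := hx
      have hgx' : Γ.Reachable a (g • x) := hgx
      have h1 : Γ.Reachable (g • a) (g • x) := reachable_smul a b g hx'
      have h2 : Γ.Reachable a (g • a) := hgx'.trans h1.symm
      ext y
      constructor
      · rintro ⟨z, hz, rfl⟩
        have hz' : Γ.Reachable a z := hz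
        exact h2.trans (reachable_smul a b g hz')
      · intro hy
        have hy' : Γ.Reachable a y := hy
        refine ⟨g⁻¹ • y, ?_, by simp⟩
        change Γ.Reachable a (g⁻¹ • y)
        have h3 : Γ.Reachable (g • a) y := h2.symm.trans hy'
        have h4 := reachable_smul a b g⁻¹ h3
        rwa [inv_smul_smul] at h4
    have haC : a ∈ C := SimpleGraph.Reachable.refl a
    have hbC : b ∈ C := by
      apply SimpleGraph.Adj.reachable
      rw [hΓ]
      unfold orbGraph
      rw [SimpleGraph.fromRel_adj]
      exact ⟨hab, Or.inl ⟨1, one_smul _ _, one_smul _ _⟩⟩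
    have huniv : C = Set.univ := by
      rcases hblock.subsingleton_or_eq_univ with hs | hu
      · exact absurd (hs haC hbC) hab
      · exact hu
    rw [SimpleGraph.connected_iff_exists_forall_reachable]
    refine ⟨a, fun w => ?_⟩
    have : w ∈ C := by rw [huniv]; trivial
    exact this
  · intro hconn
    obtain ⟨a⟩ : Nonempty Ω := inferInstance
    apply IsPreprimitive.of_isTrivialBlock_base a
    intro B haB hB
    by_cases hsub : B.Subsingleton
    · left; exact hsub
    right
    rw [Set.not_subsingleton_iff] at hsub
    obtain ⟨b, hbB, hba⟩ : ∃ b ∈ B, b ≠ a := by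
      obtain ⟨x, hx, y, hy, hxy⟩ := hsub
      by_cases hxa : x = a
      · exact ⟨y, hy, fun h => hxy (hxa.trans h.symm)⟩
      · exact ⟨x, hx, hxa⟩
    have hc := hconn a b (Ne.symm hba)
    change (orbGraph G a b).Connected at hc
    rw [Set.eq_univ_iff_forall]
    intro x
    have hreach := hc.preconnected a x
    rw [SimpleGraph.reachable_iff_reflTransGen] at hreach
    induction hreach with
    | refl => exact haB
    | tail _ hadj ih =>
      rename_i y z
      unfold orbGraph at hadj
      rw [SimpleGraph.fromRel_adj] at hadj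
      obtain ⟨-, h⟩ := hadj
      rcases h with ⟨g, rfl, rfl⟩ | ⟨g, rfl, rfl⟩
      · have := hB.smul_eq_of_mem haB ih
        rw [← this]
        exact ⟨b, hbB, rfl⟩
      · have := hB.smul_eq_of_mem hbB ih
        rw [← this]
        exact ⟨a, haB, rfl⟩

end Cfsg.Agent.S0734
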