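import Mathlib
import Cfsg.Statements.S0735

set_option autoImplicit false
open Cfsg

namespace Cfsg.Agent.S0735

open MulAction
open scoped Pointwise

section

variable {α : Type*} [DecidableEq α] {G : Type*} [Group G] [MulAction G α]

/-- the 2-subset `{a, b}` -/
def pairSet (a b : α) (hab : a ≠ b) : Set.powersetCard α 2 := ⟨{a, b}, Finset.card_pair hab⟩

theorem smul_mem_of_smul_eq (g : G) (s t : Set.powersetCard α 2) (h : g • s = t) (x : α)
    (hx : x ∈ (s : Finset α)) : g • x ∈ (t : Finset α) := by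
  rw [← h, Set.powersetCard.coe_smul]
  exact Finset.smul_mem_smul_finset hx

theorem pair_map (g : G) (a b c d : α) (hab : a ≠ b) (hcd : c ≠ d)
    (h : g • pairSet a b hab = pairSet c d hcd) :
    (g • a = c ∧ g • b = d) ∨ (g • a = d ∧ g • b = c) := by
  have ha := smul_mem_of_smul_eq g _ _ h a (by simp [pairSet])
  have hb := smul_mem_of_smul_eq g _ _ h b (by simp [pairSet])
  simp only [pairSet, Finset.mem_insert, Finset.mem_singleton] at ha hb
  have hne : g • a ≠ g • b := fun e => hab (MulAction.injective g e)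
  rcases ha with ha | ha <;> rcases hb with hb | hb
  · exact absurd (ha.trans hb.symm) hne
  · left; exact ⟨ha, hb⟩
  · right; exact ⟨ha, hb⟩
  · exact absurd (ha.trans hb.symm) hne

end

/-- A 2-homogeneous permutation group (transitive on 2-subsets) of even order is doubly transitive; a non-trivial 2-homogeneous group is primitive. -/
theorem result {α : Type*} [Fintype α] [DecidableEq α] (G : Subgroup (Equiv.Perm α)) (h2 : MulAction.IsPretransitive G (Set.powersetCard α 2)) (hα : 3 ≤ Fintype.card α) : (Even (Nat.card G) → MulAction.IsMultiplyPretransitive G α 2) ∧ (G ≠ ⊥ → MulAction.IsPreprimitive G α) := by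
  -- a third point
  have hthird : ∀ a b : α, ∃ c : α, c ≠ a ∧ c ≠ b := by
    intro a b
    by_contra hcon
    push Not at hcon
    have : (Finset.univ : Finset α) ⊆ {a, b} := by
      intro x _
      by_cases hx : x = a
      · simp [hx]
      · simp [hcon x hx]
    have := Finset.card_le_card this
    rw [Finset.card_univ] at this
    have h3 : ({a, b} : Finset α).card ≤ 2 := Finset.card_le_two
    omega
  have hhom : ∀ (a b c d : α) (hab : a ≠ b) (hcd : c ≠ d), ∃ g : G,
      (g • a = c ∧ g • b = d) ∨ (g • a = d ∧ g • b = c) := by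
    intro a b c d hab hcd
    obtain ⟨g, hg⟩ := h2.exists_smul_eq (pairSet a b hab) (pairSet c d hcd)
    exact ⟨g, pair_map g a b c d hab hcd hg⟩
  constructor
  · intro heven
    haveI : Fact (Nat.Prime 2) := ⟨Nat.prime_two⟩
    obtain ⟨t, ht⟩ := exists_prime_orderOf_dvd_card' 2 (even_iff_two_dvd.mp heven)
    have ht1 : t ≠ 1 := by
      intro h; rw [h, orderOf_one] at ht; omega
    have htt : t * t = 1 := by
      rw [← pow_two, ← ht]; exact pow_orderOf_eq_one t
    -- t moves some point
    obtain ⟨a, hta⟩ : ∃ a : α, t • a ≠ a := by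
      by_contra hcon
      push Not at hcon
      apply ht1
      apply Subtype.ext
      ext x
      exact hcon x
    set b := t • a with hb
    have htb : t • b = a := by
      rw [hb, ← mul_smul, htt, one_smul]
    rw [MulAction.isMultiplyPretransitive_iff]
    intro x y
    have hx : x 0 ≠ x 1 := fun h => absurd (x.injective h) (by decide)
    have hy : y 0 ≠ y 1 := fun h => absurd (y.injective h) (by decide)
    obtain ⟨g, hg⟩ := hhom (x 0) (x 1) a b hx (Ne.symm hta)
    obtain ⟨k, hk⟩ := hhom a b (y 0) (y 1) (Ne.symm hta) hy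
    -- four cases
    have key : ∃ m : G, m • x 0 = y 0 ∧ m • x 1 = y 1 := by
      rcases hg with ⟨g0, g1⟩ | ⟨g0, g1⟩ <;> rcases hk with ⟨k0, k1⟩ | ⟨k0, k1⟩
      · exact ⟨k * g, by rw [mul_smul, g0, k0], by rw [mul_smul, g1, k1]⟩
      · refine ⟨k * t * g, ?_, ?_⟩
        · rw [mul_smul, mul_smul, g0, ← hb, k1]
        · rw [mul_smul, mul_smul, g1, htb, k0]
      · refine ⟨k * t * g, ?_, ?_⟩
        · rw [mul_smul, mul_smul, g0, htb, k0]
        · rw [mul_smul, mul_smul, g1, ← hb, k1]
      · exact ⟨k * g, by rw [mul_smul, g0, k1], by rw [mul_smul, g1, k0]⟩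
    obtain ⟨m, hm0, hm1⟩ := key
    refine ⟨m, ?_⟩
    ext i
    rw [Function.Embedding.smul_apply]
    fin_cases i
    · exact hm0
    · exact hm1
  · intro _
    -- transitivity
    haveI htrans : IsPretransitive G α := by
      constructor
      intro a b
      by_cases hab : a = b
      · exact ⟨1, by rw [one_smul, hab]⟩
      obtain ⟨c, hca, hcb⟩ := hthird a b
      -- map {a, c} to {b, c}
      obtain ⟨g, hg⟩ := hhom a c b c (Ne.symm hca) (Ne.symm hcb)
      rcases hg with ⟨g0, -⟩ | ⟨g0, g1⟩
      · exact ⟨g, g0⟩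
      · -- g a = c, g c = b; map {a, c} to {a, b}
        obtain ⟨k, hk⟩ := hhom a c a b (Ne.symm hca) hab
        rcases hk with ⟨-, k1⟩ | ⟨k0, -⟩
        · -- k c = b, so k g a = b
          exact ⟨k * g, by rw [mul_smul, g0, k1]⟩
        · exact ⟨k, k0⟩
    obtain ⟨a₀⟩ : Nonempty α := by
      apply Fintype.card_pos_iff.mp; omega
    apply IsPreprimitive.of_isTrivialBlock_base a₀
    intro B haB hB
    by_cases hsub : B.Subsingleton
    · left; exact hsub
    right
    rw [Set.not_subsingleton_iff] at hsub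
    obtain ⟨b, hbB, hba⟩ : ∃ b ∈ B, b ≠ a₀ := by
      obtain ⟨x, hx, y, hy, hxy⟩ := hsub
      by_cases hxa : x = a₀
      · exact ⟨y, hy, fun h => hxy (hxa.trans h.symm)⟩
      · exact ⟨x, hx, hxa⟩
    rw [Set.eq_univ_iff_forall]
    intro c
    by_cases hca : c = a₀
    · rw [hca]; exact haB
    obtain ⟨g, hg⟩ := hhom a₀ b a₀ c (Ne.symm hba) (Ne.symm hca)
    rcases hg with ⟨g0, g1⟩ | ⟨g0, g1⟩
    · have := hB.smul_eq_of_mem haB (by rw [g0]; exact haB)
      rw [← this, ← g1]
      exact ⟨b, hbB, rfl⟩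
    · have := hB.smul_eq_of_mem hbB (by rw [g1]; exact haB)
      rw [← this, ← g0]
      exact ⟨a₀, haB, rfl⟩

end Cfsg.Agent.S0735
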