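import Mathlib
import Cfsg.Statements.S0741
import Cfsg.Agent.Lib.Lead.ConjCount

set_option autoImplicit false
open Cfsg

namespace Cfsg.Agent.S0741

theorem result {G Ω : Type*} [Group G] [Finite G] [MulAction G Ω] [Fintype Ω] (hZ : Cfsg.IsZassenhausGroup G Ω) {a b : Ω} (hab : a ≠ b) (heven : Even (Nat.card ↥(MulAction.stabilizer G a ⊓ MulAction.stabilizer G b))) : Fintype.card Ω - 2 ≤ 2 * Nat.card ↥(MulAction.stabilizer G a ⊓ MulAction.stabilizer G b) := by
  classical
  obtain ⟨hfaith, h2t, h3, -, -⟩ := hZ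
  set H := MulAction.stabilizer G a ⊓ MulAction.stabilizer G b with hH
  have h2 : 2 ∣ Nat.card H := heven.two_dvd
  haveI : Fact (Nat.Prime 2) := ⟨Nat.prime_two⟩
  obtain ⟨t', ht'⟩ := exists_prime_orderOf_dvd_card' 2 h2
  set t : G := t'.1 with ht
  have hto : orderOf t = 2 := by rw [ht, Subgroup.orderOf_coe]; exact ht'
  have ht1 : t ≠ 1 := by intro h; rw [h, orderOf_one] at hto; omega
  have htt : t * t = 1 := by rw [← sq, ← hto]; exact pow_orderOf_eq_one t
  have hta : t • a = a := (Subgroup.mem_inf.mp t'.2).1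
  have htb : t • b = b := (Subgroup.mem_inf.mp t'.2).2
  have hfix : ∀ c, t • c = c → c = a ∨ c = b := by
    intro c hc
    by_contra hne
    push Not at hne
    exact ht1 (h3 t a b c hab (Ne.symm hne.2) (Ne.symm hne.1) hta htb hc)
  set C := Subgroup.centralizer ({t} : Set G) with hC
  have hCfix : ∀ c ∈ C, ∀ x, t • x = x → (c • x = a ∨ c • x = b) := by
    intro c hc x hx
    apply hfix
    have := Subgroup.mem_centralizer_singleton_iff.mp hc
    rw [← mul_smul, ← this, mul_smul, hx]
  have hCcard : Nat.card C ≤ 2 * Nat.card H := by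
    have h1 := Subgroup.card_mul_index (MulAction.stabilizer C a)
    rw [MulAction.index_stabilizer] at h1
    have h2 : (MulAction.orbit C a).ncard ≤ 2 := by
      calc (MulAction.orbit C a).ncard ≤ ({a, b} : Set Ω).ncard := by
            apply Set.ncard_le_ncard _ (Set.toFinite _)
            rintro _ ⟨c, rfl⟩
            rcases hCfix c.1 c.2 a hta with h | h
            · left; exact h
            · right; exact h
        _ ≤ 2 := by rw [Set.ncard_pair hab]
    have h3 : Nat.card (MulAction.stabilizer C a) ≤ Nat.card H := by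
      refine Nat.card_le_card_of_injective (fun x => (⟨x.1.1, ?_⟩ : H)) ?_
      · have hxa : (x.1.1 : G) • a = a := x.2
        refine Subgroup.mem_inf.mpr ⟨hxa, ?_⟩
        rcases hCfix x.1.1 x.1.2 b htb with h | h
        · exfalso
          have h' : (x.1.1 : G) • b = (x.1.1 : G) • a := h.trans hxa.symm
          exact hab (smul_left_cancel _ h').symm
        · exact h
      · intro x y hxy
        have : x.1.1 = y.1.1 := congrArg (fun z : H => (z : G)) hxy
        exact Subtype.ext (Subtype.ext this)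
    calc Nat.card C = Nat.card (MulAction.stabilizer C a) * (MulAction.orbit C a).ncard := h1.symm
      _ ≤ Nat.card H * 2 := Nat.mul_le_mul h3 h2
      _ = 2 * Nat.card H := Nat.mul_comm _ _
  -- the conjugacy class
  have hTC := Cfsg.Agent.Lib.Lead.card_conj_mul_card_centralizer t
  have hTinv : ∀ τ : G, IsConj t τ → τ * τ = 1 ∧ τ ≠ 1 := by
    intro τ hτ
    obtain ⟨c, rfl⟩ := isConj_iff.mp hτ
    constructor
    · have : c * t * c⁻¹ * (c * t * c⁻¹) = c * (t * t) * c⁻¹ := by group
      rw [this, htt]; group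
    · intro h
      apply ht1
      have : t = c⁻¹ * (c * t * c⁻¹) * c := by group
      rw [this, h]; group
  have hg : ∀ c e : Ω, c ≠ e → ∃ g : G, g • a = c ∧ g • b = e :=
    fun c e hce => (MulAction.is_two_pretransitive_iff.mp h2t) hab hce
  choose! g hg using hg
  haveI : Fintype {τ : G // IsConj t τ} := Fintype.ofFinite _
  have hX1 : Nat.card {τ : G // IsConj t τ} * (Fintype.card Ω - 2) ≤
      Nat.card (Σ τ : {τ : G // IsConj t τ}, {c : Ω // ¬ (τ.1 • c = c)}) := by
    rw [Nat.card_sigma]
    have : ∀ τ : {τ : G // IsConj t τ}, Fintype.card Ω - 2 ≤ Nat.card {c : Ω // ¬ (τ.1 • c = c)} := by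
      intro τ
      rw [Nat.card_eq_fintype_card, Fintype.card_subtype_compl]
      have : Fintype.card {c : Ω // τ.1 • c = c} ≤ 2 := by
        by_contra hlt
        push Not at hlt
        obtain ⟨x, y, z, hxy, hxz, hyz⟩ := Fintype.two_lt_card_iff.mp hlt
        apply (hTinv τ.1 τ.2).2
        refine h3 τ.1 x.1 y.1 z.1 ?_ ?_ ?_ x.2 y.2 z.2
        · intro h; exact hxy (Subtype.ext h)
        · intro h; exact hyz (Subtype.ext h)
        · intro h; exact hxz (Subtype.ext h)
      omega
    calc Nat.card {τ : G // IsConj t τ} * (Fintype.card Ω - 2)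
        = ∑ _τ : {τ : G // IsConj t τ}, (Fintype.card Ω - 2) := by
          rw [Finset.sum_const, Finset.card_univ, smul_eq_mul, Nat.card_eq_fintype_card]
      _ ≤ _ := Finset.sum_le_sum (fun τ _ => this τ)
  have hX2 : Nat.card (Σ τ : {τ : G // IsConj t τ}, {c : Ω // ¬ (τ.1 • c = c)}) ≤ Nat.card G := by
    refine Nat.card_le_card_of_injective (fun x => x.1.1 * g x.2.1 (x.1.1 • x.2.1)) ?_
    rintro ⟨⟨τ, hτ⟩, ⟨c, hc⟩⟩ ⟨⟨τ', hτ'⟩, ⟨c', hc'⟩⟩ h
    simp only at h
    have hb := congrArg (· • b) h
    simp only [mul_smul] at hb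
    rw [(hg c (τ • c) (Ne.symm hc)).2, (hg c' (τ' • c') (Ne.symm hc')).2, ← mul_smul, ← mul_smul,
      (hTinv τ hτ).1, (hTinv τ' hτ').1, one_smul, one_smul] at hb
    subst hb
    have ha := congrArg (· • a) h
    simp only [mul_smul] at ha
    rw [(hg c (τ • c) (Ne.symm hc)).1, (hg c (τ' • c) (Ne.symm hc')).1] at ha
    rw [ha] at h
    have := mul_right_cancel h
    subst this
    rfl
  have hTpos : 0 < Nat.card {τ : G // IsConj t τ} := by
    haveI : Nonempty {τ : G // IsConj t τ} := ⟨⟨t, IsConj.refl t⟩⟩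
    exact Nat.card_pos
  have hfinal : Fintype.card Ω - 2 ≤ Nat.card C := by
    have := le_trans hX1 hX2
    rw [← hTC] at this
    exact Nat.le_of_mul_le_mul_left this hTpos
  exact le_trans hfinal hCcard

end Cfsg.Agent.S0741
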