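import Mathlib
import Cfsg.Statements.S0743
import Cfsg.Agent.Lib.Lead.MultiTrans
import Cfsg.Agent.Lib.Lead.FixedMod

set_option autoImplicit false
open Cfsg

namespace Cfsg.Agent.S0743

open MulAction SubMulAction

theorem step {α : Type*} [Fintype α] [DecidableEq α] (G : Subgroup (Equiv.Perm α)) {p k : ℕ}
    (hp : p.Prime) (hkn : k < Fintype.card α)
    (h : ∀ s : Finset α, s.card = k → ∃ P : Subgroup G, IsPGroup p P ∧ MulAction.fixedPoints P α = (s : Set α))
    (t : Finset α) (ht : t.card + 1 ≤ k) (a b : α) (ha : a ∉ t) (hb : b ∉ t) :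
    b ∈ MulAction.orbit (fixingSubgroup G (t : Set α)) a := by
  haveI : Fact p.Prime := ⟨hp⟩
  by_contra hbO
  set H := fixingSubgroup G (t : Set α) with hH
  set O : Set α := MulAction.orbit H a with hO
  have haO : a ∈ O := MulAction.mem_orbit_self a
  have hab : a ≠ b := by
    rintro rfl; exact hbO haO
  -- choose u
  have htsub : t ⊆ Finset.univ \ {a, b} := by
    intro x hx
    simp only [Finset.mem_sdiff, Finset.mem_univ, Finset.mem_insert, Finset.mem_singleton, true_and]
    rintro (rfl | rfl)
    · exact ha hx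
    · exact hb hx
  have hcardab : (Finset.univ \ ({a, b} : Finset α)).card = Fintype.card α - 2 := by
    rw [Finset.card_sdiff_of_subset (Finset.subset_univ _), Finset.card_univ, Finset.card_pair hab]
  obtain ⟨u, htu, hu, hucard⟩ := Finset.exists_subsuperset_card_eq (n := k - 1) htsub (by omega)
    (by rw [hcardab]; omega)
  have hau : a ∉ u := by
    intro hx
    have := hu hx
    simp at this
  have hbu : b ∉ u := by
    intro hx
    have := hu hx
    simp at this
  have hs1 : (insert b u).card = k := by rw [Finset.card_insert_of_notMem hbu, hucard]; omega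
  have hs2 : (insert a u).card = k := by rw [Finset.card_insert_of_notMem hau, hucard]; omega
  obtain ⟨P, hP, hPfix⟩ := h _ hs1
  obtain ⟨P', hP', hPfix'⟩ := h _ hs2
  -- P, P' ≤ H
  have hle : ∀ (Q : Subgroup G) (s : Finset α), t ⊆ s → MulAction.fixedPoints Q α = (s : Set α) →
      ∀ g : Q, ∀ x ∈ O, g • x ∈ O := by
    intro Q s hts hQ g x hx
    have hgH : (g : G) ∈ H := by
      rw [hH, mem_fixingSubgroup_iff]
      intro y hy
      have hy' : y ∈ (s : Set α) := Finset.mem_coe.mpr (hts (Finset.mem_coe.mp hy))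
      rw [← hQ] at hy'
      exact hy' g
    have : (⟨(g : G), hgH⟩ : H) • x ∈ O := MulAction.mem_orbit_of_mem_orbit _ hx
    exact this
  have h1 := Cfsg.Agent.Lib.Lead.FixedMod.card_modEq_inter_fixedPoints hP O
    (hle P _ (htu.trans (Finset.subset_insert _ _)) hPfix)
  have h2 := Cfsg.Agent.Lib.Lead.FixedMod.card_modEq_inter_fixedPoints hP' O
    (hle P' _ (htu.trans (Finset.subset_insert _ _)) hPfix')
  rw [hPfix, Nat.card_coe_set_eq, Nat.card_coe_set_eq] at h1
  rw [hPfix', Nat.card_coe_set_eq, Nat.card_coe_set_eq] at h2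
  have hset : O ∩ ((insert a u : Finset α) : Set α) = insert a (O ∩ ((insert b u : Finset α) : Set α)) := by
    ext x
    simp only [Finset.coe_insert, Set.mem_inter_iff, Set.mem_insert_iff, Finset.mem_coe]
    constructor
    · rintro ⟨hxO, hx | hx⟩
      · exact Or.inl hx
      · exact Or.inr ⟨hxO, Or.inr hx⟩
    · rintro (rfl | ⟨hxO, hx | hx⟩)
      · exact ⟨haO, Or.inl rfl⟩
      · exfalso; rw [hx] at hxO; exact hbO hxO
      · exact ⟨hxO, Or.inr hx⟩
  have hnotin : a ∉ O ∩ ((insert b u : Finset α) : Set α) := by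
    rintro ⟨-, hx⟩
    simp only [Finset.coe_insert, Set.mem_insert_iff, Finset.mem_coe] at hx
    rcases hx with hx | hx
    · exact hab hx
    · exact hau hx
  rw [hset, Set.ncard_insert_of_notMem hnotin (Set.toFinite _)] at h2
  have h3 : (O ∩ ((insert b u : Finset α) : Set α)).ncard ≡
      (O ∩ ((insert b u : Finset α) : Set α)).ncard + 1 [MOD p] := h1.symm.trans h2
  have h4 : p ∣ 1 := by
    have := (Nat.modEq_iff_dvd' (Nat.le_succ _)).mp h3
    simpa using this
  exact hp.one_lt.ne' (Nat.dvd_one.mp h4)

/-- Gleason's Lemma: let `p` be a prime and `1 ≤ k < n`; if every `k`-subset of the `n` points is exactly the fixed-point set of some `p`-subgroup of `G`, then `G` is `k`-transitive. -/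
theorem result {α : Type*} [Fintype α] [DecidableEq α] (G : Subgroup (Equiv.Perm α)) {p k : ℕ} (hp : p.Prime) (hk : 1 ≤ k) (hkn : k < Fintype.card α) (h : ∀ s : Finset α, s.card = k → ∃ P : Subgroup G, IsPGroup p P ∧ MulAction.fixedPoints P α = (s : Set α)) : MulAction.IsMultiplyPretransitive G α k := by
  have key : ∀ j : ℕ, j ≤ k → MulAction.IsMultiplyPretransitive G α j := by
    intro j
    induction j with
    | zero => intro _; exact MulAction.is_zero_pretransitive'
    | succ j ih =>
      intro hj
      have hjt := ih (by omega)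
      obtain ⟨t, ht⟩ : ∃ t : Finset α, t.card = j := by
        obtain ⟨t, -, ht⟩ := Finset.exists_subset_card_eq (s := (Finset.univ : Finset α)) (n := j)
          (by rw [Finset.card_univ]; omega)
        exact ⟨t, ht⟩
      have hfin : Finite (t : Set α) := Finset.finite_toSet t |>.to_subtype
      have hncard : (t : Set α).ncard = j := by rw [Set.ncard_coe_finset, ht]
      refine Cfsg.Agent.Lib.Lead.MultiTrans.isMultiplyPretransitive_add (t : Set α) hncard hjt ?_
      rw [MulAction.is_one_pretransitive_iff]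
      constructor
      rintro ⟨a, ha⟩ ⟨b, hb⟩
      have ha' : a ∉ t := fun h => (mem_ofFixingSubgroup_iff G).mp ha (Finset.mem_coe.mpr h)
      have hb' : b ∉ t := fun h => (mem_ofFixingSubgroup_iff G).mp hb (Finset.mem_coe.mpr h)
      obtain ⟨g, hg⟩ := step G hp hkn h t (by omega) a b ha' hb'
      exact ⟨g, Subtype.ext hg⟩
  exact key k le_rfl

end Cfsg.Agent.S0743
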