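import Cfsg.Statements.S0747
import Cfsg.Agent.Lib.Helper6.KHom11

set_option autoImplicit false
open Cfsg

namespace Cfsg.Agent.S0747

/-- A `k`-transitive group (`4 ≤ k < n`) induces at least the alternating group on some
`(k+1)`-set. -/
theorem result {α : Type*} [Fintype α] [DecidableEq α] (G : Subgroup (Equiv.Perm α)) {k : ℕ} (hk : 4 ≤ k) (hkn : k < Fintype.card α) (hG : MulAction.IsMultiplyPretransitive G α k) : ∃ Δ : Finset α, Δ.card = k + 1 ∧ ∀ σ : Equiv.Perm ↥Δ, σ ∈ alternatingGroup ↥Δ → ∃ g ∈ G, ∀ x : ↥Δ, g (x : α) = σ x :=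
  Cfsg.Agent.Lib.Helper6.KHom.exists_inducesAlt G hk hkn hG

end Cfsg.Agent.S0747
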