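import Mathlib
import Cfsg.Statements.S0754

set_option autoImplicit false
open Cfsg

namespace Cfsg.Agent.S0754

/-- In a field F with q^2 elements, every non-zero μ with μ^q = μ (that is, μ in the subfield of order q) has exactly q + 1 solutions λ of λ^(q+1) = μ. -/
theorem result {F : Type*} [Field F] [Fintype F] {q : ℕ} (hF : Fintype.card F = q ^ 2) (μ : F) (hμ : μ ≠ 0) (hμq : μ ^ q = μ) : Nat.card {x : F // x ^ (q + 1) = μ} = q + 1 := by
  classical
  have hq2 : 2 ≤ q := by
    have h1 : 1 < Fintype.card F := Fintype.one_lt_card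
    rw [hF] at h1
    by_contra hlt
    push Not at hlt
    interval_cases q <;> simp at h1
  have hfac : q ^ 2 - 1 = (q - 1) * (q + 1) := by
    obtain ⟨k, rfl⟩ : ∃ k, q = k + 1 := ⟨q - 1, by omega⟩
    simp only [Nat.add_sub_cancel]
    have : (k + 1) ^ 2 = k * (k + 1 + 1) + 1 := by ring
    rw [this, Nat.add_sub_cancel]
  have hcard : Nat.card Fˣ = q ^ 2 - 1 := by
    rw [Nat.card_eq_fintype_card, Fintype.card_units, hF]
  let μ' : Fˣ := Units.mk0 μ hμ
  have hμ' : μ' ^ (q - 1) = 1 := by
    apply Units.ext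
    simp only [Units.val_pow_eq_pow_val, Units.val_mk0, Units.val_one, μ']
    have : μ ^ (q - 1) * μ = 1 * μ := by
      rw [← pow_succ, Nat.sub_add_cancel (by omega), hμq, one_mul]
    exact mul_right_cancel₀ hμ this
  obtain ⟨g, hg⟩ := IsCyclic.exists_generator (α := Fˣ)
  have hgord : orderOf g = q ^ 2 - 1 := by
    rw [orderOf_eq_card_of_forall_mem_zpowers hg, hcard]
  obtain ⟨k, hk⟩ : ∃ k : ℕ, g ^ k = μ' := by
    have := hg μ'
    rw [← mem_powers_iff_mem_zpowers] at this
    exact this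
  have hdvd : (q + 1) ∣ k := by
    have h1 : g ^ (k * (q - 1)) = 1 := by rw [pow_mul, hk, hμ']
    have h2 := orderOf_dvd_of_pow_eq_one h1
    rw [hgord, hfac, mul_comm (q - 1) (q + 1)] at h2
    exact Nat.dvd_of_mul_dvd_mul_right (by omega) h2
  obtain ⟨j, hj⟩ := hdvd
  have hx₀ : (g ^ j) ^ (q + 1) = μ' := by
    rw [← pow_mul, mul_comm, ← hj, hk]
  set x₀ := g ^ j with hx₀def
  have hne : ∀ x : F, x ^ (q + 1) = μ → x ≠ 0 := by
    intro x hx h0
    rw [h0, zero_pow (by omega)] at hx
    exact hμ hx.symm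
  let e : {x : F // x ^ (q + 1) = μ} ≃ (powMonoidHom (q + 1) : Fˣ →* Fˣ).ker :=
    { toFun := fun x => ⟨x₀⁻¹ * Units.mk0 x.1 (hne x.1 x.2), by
        rw [MonoidHom.mem_ker, powMonoidHom_apply, mul_pow, inv_pow, hx₀]
        have : (Units.mk0 x.1 (hne x.1 x.2)) ^ (q + 1) = μ' := by
          apply Units.ext
          simp only [Units.val_pow_eq_pow_val, Units.val_mk0, x.2, μ']
        rw [this, inv_mul_cancel]⟩
      invFun := fun y => ⟨((x₀ * y.1 : Fˣ) : F), by
        have hy : y.1 ^ (q + 1) = 1 := y.2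
        rw [← Units.val_pow_eq_pow_val, mul_pow, hx₀, hy, mul_one]
        rfl⟩
      left_inv := by
        intro x
        apply Subtype.ext
        simp
      right_inv := by
        intro y
        apply Subtype.ext
        apply Units.ext
        simp }
  rw [Nat.card_congr e, IsCyclic.card_powMonoidHom_ker, hcard, hfac]
  exact Nat.gcd_eq_right (Dvd.intro_left _ rfl)

end Cfsg.Agent.S0754
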