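import Mathlib
import Cfsg.Statements.S0756
import Cfsg.Agent.Lib.Helper5.QuadDiag
import Cfsg.Agent.Lib.Helper5.Discriminant

set_option autoImplicit false
open Cfsg

namespace Cfsg.Agent.S0756

/-- Classification of symmetric bilinear forms over finite fields of odd characteristic: if B is non-degenerate symmetric on V of dimension n + 1 and α is a fixed non-square of F, there is an orthogonal basis b_0, ..., b_n with B(b_i, b_i) = 1 for i < n and B(b_n, b_n) ∈ {1, α}. -/
theorem result {F V : Type*} [Field F] [Finite F] [AddCommGroup V] [Module F V] [FiniteDimensional F V] (h2 : (2 : F) ≠ 0) (B : LinearMap.BilinForm F V) (hS : B.IsSymm) (hB : B.Nondegenerate) {n : ℕ} (hn : Module.finrank F V = n + 1) (α : F) (hα : ¬ IsSquare α) : ∃ b : Module.Basis (Fin (n + 1)) F V, (∀ i j, i ≠ j → B (b i) (b j) = 0) ∧ (∀ i, i ≠ Fin.last n → B (b i) (b i) = 1) ∧ (B (b (Fin.last n)) (b (Fin.last n)) = 1 ∨ B (b (Fin.last n)) (b (Fin.last n)) = α) := by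
  classical
  have : Fintype F := Fintype.ofFinite F
  have hodd : Odd (Fintype.card F) := by
    rw [Nat.odd_iff]
    apply FiniteField.odd_card_of_char_ne_two
    intro h
    have : CharP F 2 := ringChar.of_eq h
    exact h2 (CharTwo.two_eq_zero)
  set Q : QuadraticForm F V := LinearMap.BilinMap.toQuadraticMap B with hQdef
  have hQv : ∀ v, Q v = B v v := fun v => LinearMap.BilinMap.toQuadraticMap_apply B v
  have hpol : ∀ x y, QuadraticMap.polar Q x y = 2 * B x y := by
    intro x y
    rw [QuadraticMap.polar, hQv, hQv, hQv, map_add, map_add, LinearMap.add_apply, LinearMap.add_apply,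
      hS.eq y x]
    ring
  have hQnd : ∀ z : V, (∀ z', QuadraticMap.polar Q z z' = 0) → z = 0 := by
    intro z hz
    apply hB.1 z
    intro z'
    have := hz z'
    rw [hpol] at this
    exact (mul_eq_zero.mp this).resolve_left h2
  obtain ⟨b, hb1, hb2⟩ := Cfsg.Agent.Lib.Helper5.exists_diag_basis h2 n Q hQnd hn
  have horth : ∀ i j, i ≠ j → B (b i) (b j) = 0 := by
    intro i j hij
    have := hb1 i j hij
    rw [hpol] at this
    exact (mul_eq_zero.mp this).resolve_left h2
  set d : F := B (b (Fin.last n)) (b (Fin.last n)) with hd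
  have hd0 : d ≠ 0 := by
    intro h0
    apply b.ne_zero (Fin.last n)
    apply hB.1
    intro z
    have : B (b (Fin.last n)) = 0 := by
      apply b.ext
      intro j
      rw [LinearMap.zero_apply]
      by_cases hj : Fin.last n = j
      · rw [← hj]; exact h0
      · exact horth _ _ hj
    rw [this, LinearMap.zero_apply]
  -- d = τ * s^2 with τ = 1 or α
  obtain ⟨τ, s, hτ, hs0, hds⟩ : ∃ τ s : F, (τ = 1 ∨ τ = α) ∧ s ≠ 0 ∧ d = τ * (s * s) := by
    by_cases hsq : IsSquare d
    · obtain ⟨s, hs⟩ := hsq
      refine ⟨1, s, Or.inl rfl, ?_, by rw [hs, one_mul]⟩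
      rintro rfl
      exact hd0 (by rw [hs, mul_zero])
    · have hα0 : α ≠ 0 := by
        rintro rfl
        exact hα ⟨0, by simp⟩
      obtain ⟨r, hr⟩ := (Cfsg.Agent.Lib.Helper5.isSquare_mul_nonsquare_iff hodd d α hd0 hα).mpr hsq
      refine ⟨α, r / α, Or.inr rfl, ?_, ?_⟩
      · intro h
        have : r = 0 := by
          rcases div_eq_zero_iff.mp h with h | h
          · exact h
          · exact absurd h hα0
        rw [this, mul_zero] at hr
        exact (mul_ne_zero hd0 hα0) hr
      · field_simp
        rw [hr]; ring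
  set w : Fin (n + 1) → Fˣ := fun i => if i = Fin.last n then Units.mk0 s⁻¹ (inv_ne_zero hs0) else 1 with hw
  refine ⟨b.unitsSMul w, ?_, ?_, ?_⟩
  · intro i j hij
    rw [Module.Basis.unitsSMul_apply, Module.Basis.unitsSMul_apply, Units.smul_def, Units.smul_def, map_smul,
      map_smul, LinearMap.smul_apply, horth i j hij, smul_zero, smul_zero]
  · intro i hi
    rw [Module.Basis.unitsSMul_apply, hw]
    simp only [hi, if_false, one_smul]
    have hlt : (i : ℕ) < n := by
      have := i.2
      have hne : (i : ℕ) ≠ n := fun h => hi (Fin.ext h)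
      omega
    rw [← hQv]
    exact hb2 i hlt
  · have hval : B ((b.unitsSMul w) (Fin.last n)) ((b.unitsSMul w) (Fin.last n)) = τ := by
      rw [Module.Basis.unitsSMul_apply, hw]
      simp only [if_true, Units.smul_def, Units.val_mk0]
      rw [map_smul, map_smul, LinearMap.smul_apply, ← hd, hds, smul_eq_mul, smul_eq_mul]
      field_simp
    rw [hval]
    exact hτ

end Cfsg.Agent.S0756
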