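import Mathlib
import Cfsg.Statements.S0757
import Cfsg.Agent.Lib.Helper5.Discriminant

set_option autoImplicit false
open Cfsg

namespace Cfsg.Agent.S0757

open Cfsg.Agent.Lib.Helper5 in
theorem gram_wss {F : Type*} [Field F] {k : ℕ} (w : Fin k → F) :
    LinearMap.BilinForm.toMatrix' (QuadraticMap.polarBilin (QuadraticMap.weightedSumSquares F w)) =
      Matrix.diagonal (fun i => 2 * w i) := by
  classical
  ext i j
  rw [LinearMap.BilinForm.toMatrix'_apply, QuadraticMap.polarBilin_apply_apply]
  simp only [QuadraticMap.polar, QuadraticMap.weightedSumSquares_apply, Pi.add_apply, smul_eq_mul]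
  by_cases hij : i = j
  · subst hij
    rw [Matrix.diagonal_apply_eq]
    rw [← Finset.sum_sub_distrib, ← Finset.sum_sub_distrib, Finset.sum_eq_single i]
    · simp; ring
    · intro l _ hl
      simp [hl]
    · intro h; exact absurd (Finset.mem_univ _) h
  · rw [Matrix.diagonal_apply_ne _ hij]
    rw [← Finset.sum_sub_distrib, ← Finset.sum_sub_distrib]
    apply Finset.sum_eq_zero
    intro l _
    by_cases h1 : l = i
    · subst h1
      simp [hij]
    · by_cases h2 : l = j
      · subst h2
        simp [h1]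
      · simp [h1, h2]

/-- The two diagonal forms Σ x_i^2 and Σ_(i<n) x_i^2 + α x_n^2 on F^(n+1), with α a non-square and 2 ≠ 0 in F, are inequivalent quadratic forms (so over a finite field of odd order there are exactly two classes of non-singular symmetric bilinear forms in each dimension). -/
theorem result {F : Type*} [Field F] (h2 : (2 : F) ≠ 0) (n : ℕ) (α : F) (hα : ¬ IsSquare α) : ¬ (QuadraticMap.weightedSumSquares F (fun _ : Fin (n + 1) => (1 : F))).Equivalent (QuadraticMap.weightedSumSquares F (fun i : Fin (n + 1) => if i = Fin.last n then α else (1 : F))) := by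
  classical
  rintro ⟨e⟩
  set Q₁ := QuadraticMap.weightedSumSquares F (fun _ : Fin (n + 1) => (1 : F)) with hQ₁
  set Q₂ := QuadraticMap.weightedSumSquares F
    (fun i : Fin (n + 1) => if i = Fin.last n then α else (1 : F)) with hQ₂
  let b : Module.Basis (Fin (n + 1)) F (Fin (n + 1) → F) :=
    (Pi.basisFun F (Fin (n + 1))).map e.toLinearEquiv
  obtain ⟨d, hd0, hd⟩ := Cfsg.Agent.Lib.Helper5.gram_det_basis (QuadraticMap.polarBilin Q₂) b
  have hG : (Matrix.of fun i j : Fin (n + 1) => QuadraticMap.polarBilin Q₂ (b i) (b j)) =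
      LinearMap.BilinForm.toMatrix' (QuadraticMap.polarBilin Q₁) := by
    ext i j
    rw [LinearMap.BilinForm.toMatrix'_apply]
    simp only [Matrix.of_apply, QuadraticMap.polarBilin_apply_apply, b, Module.Basis.map_apply,
      Pi.basisFun_apply, QuadraticMap.polar]
    have h1 : ∀ v, Q₂ (e.toLinearEquiv v) = Q₁ v := fun v => e.map_app v
    rw [← map_add, h1, h1, h1]
  rw [hG, gram_wss, gram_wss, Matrix.det_diagonal, Matrix.det_diagonal] at hd
  simp only [Finset.prod_mul_distrib, Finset.prod_const, Finset.card_univ, Fintype.card_fin,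
    Finset.prod_ite_eq', mul_one] at hd
  simp only [Finset.mem_univ, if_true] at hd
  have h2n : (2 : F) ^ (n + 1) ≠ 0 := pow_ne_zero _ h2
  apply hα
  refine ⟨d⁻¹, ?_⟩
  have : (1 : F) = d * d * α := by
    have := mul_left_cancel₀ h2n (by rw [mul_one]; linear_combination hd : (2 : F) ^ (n + 1) * 1 = 2 ^ (n + 1) * (d * d * α))
    exact this
  have h3 : d * d * (d⁻¹ * d⁻¹) = 1 := by
    rw [mul_mul_mul_comm, mul_inv_cancel₀ hd0, one_mul]
  have h4 : d * d ≠ 0 := mul_ne_zero hd0 hd0
  apply mul_left_cancel₀ h4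
  rw [h3, ← this]

end Cfsg.Agent.S0757
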