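import Mathlib
import Cfsg.Statements.S0758
import Cfsg.Agent.Lib.Helper5.Discriminant

set_option autoImplicit false
open Cfsg

namespace Cfsg.Agent.S0758

/-- For a finite field F of odd order q and a non-square α: the form x² + y² is isotropic iff q ≡ 1 mod 4, and the form x² + α y² is isotropic iff q ≡ 3 mod 4. -/
theorem result {F : Type*} [Field F] [Fintype F] (h2 : (2 : F) ≠ 0) (α : F) (hα : ¬ IsSquare α) : ((∃ x y : F, (x ≠ 0 ∨ y ≠ 0) ∧ x ^ 2 + y ^ 2 = 0) ↔ Fintype.card F % 4 = 1) ∧ ((∃ x y : F, (x ≠ 0 ∨ y ≠ 0) ∧ x ^ 2 + α * y ^ 2 = 0) ↔ Fintype.card F % 4 = 3) := by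
  classical
  have hchar : ringChar F ≠ 2 := by
    intro h
    haveI : CharP F 2 := ringChar.of_eq h
    exact h2 (CharP.cast_eq_zero F 2)
  have hodd : Fintype.card F % 2 = 1 := FiniteField.odd_card_of_char_ne_two hchar
  have hodd' : Odd (Fintype.card F) := Nat.odd_iff.2 hodd
  have hm1 := FiniteField.isSquare_neg_one_iff (F := F)
  -- general criterion
  have key : ∀ β : F, β ≠ 0 → ((∃ x y : F, (x ≠ 0 ∨ y ≠ 0) ∧ x ^ 2 + β * y ^ 2 = 0) ↔ IsSquare (-β)) := by
    intro β hβ
    constructor
    · rintro ⟨x, y, hxy, h⟩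
      have hy : y ≠ 0 := by
        rintro rfl
        have hx : x = 0 := by
          have : x ^ 2 = 0 := by linear_combination h
          exact pow_eq_zero_iff (by norm_num) |>.1 this
        rcases hxy with h' | h' <;> exact h' (by first | exact hx | rfl)
      refine ⟨x / y, ?_⟩
      field_simp
      linear_combination -h
    · rintro ⟨z, hz⟩
      refine ⟨z, 1, Or.inr one_ne_zero, ?_⟩
      linear_combination -hz
  constructor
  · have := key 1 one_ne_zero
    simp only [one_mul] at this
    rw [this, hm1]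
    omega
  · have hα0 : α ≠ 0 := by
      rintro rfl
      exact hα ⟨0, by simp⟩
    rw [key α hα0]
    have h3 := Cfsg.Agent.Lib.Helper5.isSquare_mul_nonsquare_iff hodd' (-1) α (by simp) hα
    rw [show -α = -1 * α by ring, h3, hm1]
    omega

end Cfsg.Agent.S0758
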