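import Mathlib
import Cfsg.Statements.S0759
import Cfsg.Agent.Lib.Helper5.HypDisc

set_option autoImplicit false
open Cfsg

namespace Cfsg.Agent.S0759

open Matrix Module

/-- a matrix with `Mᵀ M = -1` exists unless `q ≡ 3 mod 4` and `m` is odd -/
theorem exists_M {F : Type*} [Field F] [Fintype F] (m : ℕ)
    (h : ¬ (Fintype.card F % 4 = 3 ∧ Odd m)) :
    ∃ M : Matrix (Fin m) (Fin m) F, Mᵀ * M = -1 := by
  classical
  by_cases hsq : IsSquare (-1 : F)
  · obtain ⟨i, hi⟩ := hsq
    refine ⟨i • 1, ?_⟩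
    rw [transpose_smul, transpose_one, smul_mul_smul_comm, Matrix.one_mul, ← hi]
    simp
  · have h3 : Fintype.card F % 4 = 3 := by
      by_contra hne
      exact hsq (FiniteField.isSquare_neg_one_iff.mpr hne)
    have hev : Even m := by
      rw [← Nat.not_odd_iff_even]
      intro ho
      exact h ⟨h3, ho⟩
    obtain ⟨r, hr⟩ := hev
    obtain ⟨p, hp⟩ := CharP.exists F
    have hpp : p.Prime := CharP.char_is_prime F p
    have : NeZero p := ⟨hpp.ne_zero⟩
    obtain ⟨a₀, b₀, hab⟩ := CharP.sq_add_sq F p (-1)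
    set a : F := (a₀ : F) with ha
    set b : F := (b₀ : F) with hb
    have hab' : a ^ 2 + b ^ 2 = -1 := by
      rw [hab]; simp
    set N : Matrix (Fin 2) (Fin 2) F := !![a, -b; b, a] with hN
    have hNN : Nᵀ * N = -1 := by
      ext i j
      fin_cases i <;> fin_cases j <;> simp [hN, Matrix.mul_apply, Fin.sum_univ_two] <;>
        first | ring1 | linear_combination hab'
    set M' : Matrix (Fin 2 × Fin r) (Fin 2 × Fin r) F := blockDiagonal (fun _ : Fin r => N) with hM'
    have hM'M' : M'ᵀ * M' = -1 := by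
      rw [hM', blockDiagonal_transpose, ← blockDiagonal_mul]
      have : (fun _ : Fin r => Nᵀ * N) = -(1 : Fin r → Matrix (Fin 2) (Fin 2) F) := by
        funext k; rw [hNN]; rfl
      rw [this, blockDiagonal_neg, blockDiagonal_one]
    have hcard : Fintype.card (Fin 2 × Fin r) = m := by
      simp [hr]; ring
    let e : Fin 2 × Fin r ≃ Fin m := Fintype.equivFinOfCardEq hcard
    refine ⟨M'.submatrix e.symm e.symm, ?_⟩
    rw [transpose_submatrix, submatrix_mul_equiv, hM'M']
    ext i j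
    simp [Matrix.one_apply]

/-- a totally isotropic subspace as the graph of `M` -/
theorem exists_W {F : Type*} [Field F] (m : ℕ) (M : Matrix (Fin m) (Fin m) F) (hM : Mᵀ * M = -1) :
    ∃ W : Submodule F (Fin (2 * m) → F), Module.finrank F W = m ∧ ∀ w ∈ W, ∑ i, w i ^ 2 = 0 := by
  classical
  let e : Fin m ⊕ Fin m ≃ Fin (2 * m) := finSumFinEquiv.trans (finCongr (two_mul m).symm)
  let ψ : Fin m ⊕ Fin m → ((Fin m → F) →ₗ[F] F) :=
    Sum.elim (fun k => LinearMap.proj k) (fun k => (LinearMap.proj k) ∘ₗ M.mulVecLin)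
  let T : (Fin m → F) →ₗ[F] (Fin (2 * m) → F) := LinearMap.pi (fun j => ψ (e.symm j))
  have hT : ∀ s t, T s (e t) = Sum.elim s (M *ᵥ s) t := by
    intro s t
    show ψ (e.symm (e t)) s = _
    rw [Equiv.symm_apply_apply]
    rcases t with k | k <;> rfl
  have hinj : Function.Injective T := by
    rw [← LinearMap.ker_eq_bot, LinearMap.ker_eq_bot']
    intro s hs
    funext k
    have := hT s (Sum.inl k)
    rw [hs] at this
    exact this.symm
  refine ⟨LinearMap.range T, ?_, ?_⟩
  · rw [LinearMap.finrank_range_of_inj hinj, Module.finrank_fin_fun]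
  · rintro _ ⟨s, rfl⟩
    rw [← Equiv.sum_comp e (fun j => T s j ^ 2), Fintype.sum_sum_type]
    simp only [hT, Sum.elim_inl, Sum.elim_inr]
    have h1 : ∑ k, s k ^ 2 = s ⬝ᵥ s := by
      simp [dotProduct, sq]
    have h2 : ∑ k, (M *ᵥ s) k ^ 2 = (M *ᵥ s) ⬝ᵥ (M *ᵥ s) := by
      simp [dotProduct, sq]
    rw [h1, h2, dotProduct_mulVec, ← mulVec_transpose, mulVec_mulVec, hM, neg_mulVec, one_mulVec,
      neg_dotProduct, add_neg_cancel]

/-- the converse via discriminants -/
theorem isSquare_of_W {F : Type*} [Field F] (h2 : (2 : F) ≠ 0) (m : ℕ)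
    (W : Submodule F (Fin (2 * m) → F)) (hW : Module.finrank F W = m)
    (hiso : ∀ w ∈ W, ∑ i, w i ^ 2 = 0) : IsSquare ((-1 : F) ^ m) := by
  classical
  set B : LinearMap.BilinForm F (Fin (2 * m) → F) := Matrix.toBilin' (1 : Matrix (Fin (2 * m)) (Fin (2 * m)) F) with hB
  have hBa : ∀ x y, B x y = x ⬝ᵥ y := by
    intro x y
    rw [hB, Matrix.toBilin'_apply', one_mulVec]
  have hQ : ∀ x : Fin (2 * m) → F, ∑ i, x i ^ 2 = x ⬝ᵥ x := by
    intro x; simp [dotProduct, sq]
  have hnd : B.Nondegenerate := by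
    rw [hB]
    exact Matrix.Nondegenerate.toBilin' (Matrix.nondegenerate_of_det_ne_zero (by simp))
  have hS : B.IsSymm := by
    rw [LinearMap.BilinForm.isSymm_def]
    intro x y
    rw [hBa, hBa, dotProduct_comm]
  have hiso' : ∀ u ∈ W, ∀ v ∈ W, B u v = 0 := by
    intro u hu v hv
    have h1 := hiso _ (W.add_mem hu hv)
    rw [hQ, add_dotProduct, dotProduct_add, dotProduct_add, ← hQ u, ← hQ v, hiso u hu, hiso v hv,
      dotProduct_comm v u] at h1
    rw [hBa]
    have : (2 : F) * (u ⬝ᵥ v) = 0 := by linear_combination h1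
    exact (mul_eq_zero.mp this).resolve_left h2
  obtain ⟨d, _, hd⟩ := Cfsg.Agent.Lib.Helper5.HypDisc.neg_one_pow_eq B hnd hS W m hW (by simp) hiso'
  rw [hB, LinearMap.BilinForm.toMatrix'_toBilin', Matrix.det_one, mul_one] at hd
  exact ⟨d, hd⟩

/-- Type of the orthonormal form: over a finite field of odd order q and for m ≥ 1, the quadratic form Σ_(i<2m) x_i² on F^(2m) admits an m-dimensional subspace on which it vanishes identically if and only if it is not the case that q ≡ 3 (mod 4) and m is odd. -/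
theorem result {F : Type*} [Field F] [Fintype F] (h2 : (2 : F) ≠ 0) (m : ℕ) (hm : 1 ≤ m) : (∃ W : Submodule F (Fin (2 * m) → F), Module.finrank F W = m ∧ ∀ w ∈ W, ∑ i, w i ^ 2 = 0) ↔ ¬ (Fintype.card F % 4 = 3 ∧ Odd m) := by
  constructor
  · rintro ⟨W, hW, hiso⟩ ⟨h3, hodd⟩
    have h := isSquare_of_W h2 m W hW hiso
    rw [Odd.neg_one_pow hodd, FiniteField.isSquare_neg_one_iff] at h
    exact h h3
  · intro h
    obtain ⟨M, hM⟩ := exists_M (F := F) m h
    exact exists_W m M hM

end Cfsg.Agent.S0759
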