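import Mathlib
import Cfsg.Statements.S0763
import Cfsg.Agent.Lib.Helper5.QuadPlane

set_option autoImplicit false
open Cfsg

namespace Cfsg.Agent.S0763

/-- Binary quadratic forms in characteristic two over a finite field: if Q is a quadratic form on a 2-dimensional space whose polar form is non-degenerate, then either there are vectors v, w with Q v = Q w = 0 and polar value 1 (Q is xy in these coordinates), or there are v, w and μ with Q v = 1, Q w = μ, polar value 1 and x² + x + μ without roots in F (Q is x² + xy + μy²). -/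
theorem result {F V : Type*} [Field F] [Finite F] [CharP F 2] [AddCommGroup V] [Module F V] (Q : QuadraticForm F V) (h2 : Module.finrank F V = 2) (hQ : (QuadraticMap.polarBilin Q).Nondegenerate) : (∃ v w : V, LinearIndependent F ![v, w] ∧ Q v = 0 ∧ Q w = 0 ∧ QuadraticMap.polar Q v w = 1) ∨ (∃ (v w : V) (μ : F), LinearIndependent F ![v, w] ∧ (∀ x : F, x ^ 2 + x + μ ≠ 0) ∧ Q v = 1 ∧ Q w = μ ∧ QuadraticMap.polar Q v w = 1) := by
  have hfd : FiniteDimensional F V := Module.finite_of_finrank_pos (by rw [h2]; norm_num)
  have hQnd : ∀ z : V, (∀ z', QuadraticMap.polar Q z z' = 0) → z = 0 := by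
    intro z hz
    apply hQ.1 z
    intro z'
    exact hz z'
  by_cases hsing : ∃ v : V, v ≠ 0 ∧ Q v = 0
  · left
    obtain ⟨v, hv0, hQv⟩ := hsing
    obtain ⟨w, hQw, hvw⟩ := Cfsg.Agent.Lib.Helper5.exists_partner Q hQnd v hv0 hQv
    refine ⟨v, w, ?_, hQv, hQw, hvw⟩
    rw [LinearIndependent.pair_iff]
    intro a b hab
    have h1 : QuadraticMap.polar Q v (a • v + b • w) = b := by
      rw [QuadraticMap.polar_add_right, QuadraticMap.polar_smul_right, QuadraticMap.polar_smul_right,
        QuadraticMap.polar_self, hQv, hvw]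
      simp
    rw [hab] at h1
    have hb : b = 0 := by
      rw [← h1]; simp [QuadraticMap.polar]
    refine ⟨?_, hb⟩
    rw [hb, zero_smul, add_zero] at hab
    exact (smul_eq_zero.mp hab).resolve_right hv0
  · right
    push Not at hsing
    have hR : Module.finrank F (⊤ : Submodule F V) = 2 := by rw [finrank_top, h2]
    obtain ⟨x, _, y, _, hQx, hxy, hli, hirr⟩ :=
      Cfsg.Agent.Lib.Helper5.exists_elliptic_pair Q ⊤ hR
        (fun z _ hz => hQnd z (fun z' => hz z' Submodule.mem_top))
        (fun z _ hz => by
          by_contra hne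
          exact hsing z hne hz)
    exact ⟨x, y, Q y, hli, hirr, hQx, rfl, hxy⟩

end Cfsg.Agent.S0763
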