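import Mathlib
import Cfsg.Statements.S0768
import Cfsg.Agent.Lib.Helper5.SympBridge
import Cfsg.Agent.Lib.Helper5.AltWitt

set_option autoImplicit false
open scoped LinearAlgebra.Projectivization Pointwise
open Cfsg

namespace Cfsg.Agent.S0768

open Matrix Cfsg.Agent.Lib.Helper5.SympBridge Cfsg.Agent.Lib.Helper5.SympTv
open scoped LinearAlgebra.Projectivization Pointwise

section
variable {F : Type*} [Field F] {m : ℕ}

local notation "V" => (Fin m ⊕ Fin m → F)

theorem smul_mk' (A : ↥(Cfsg.spGL m F)) (u : V) (hu : u ≠ 0) :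
    ∃ hu' : ((A : Matrix.GeneralLinearGroup (Fin m ⊕ Fin m) F) : Matrix (Fin m ⊕ Fin m) (Fin m ⊕ Fin m) F) *ᵥ u ≠ 0,
      A • Projectivization.mk F u hu = Projectivization.mk F
        (((A : Matrix.GeneralLinearGroup (Fin m ⊕ Fin m) F) : Matrix (Fin m ⊕ Fin m) (Fin m ⊕ Fin m) F) *ᵥ u) hu' := by
  have h : A • Projectivization.mk F u hu = Projectivization.mk F (A • u) ((smul_ne_zero_iff_ne A).mpr hu) :=
    Projectivization.smul_mk A hu
  exact ⟨(smul_ne_zero_iff_ne A).mpr hu, h⟩

/-- Witt for one vector -/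
theorem witt1 (u u' : V) (hu : u ≠ 0) (hu' : u' ≠ 0) :
    ∃ A : ↥(Cfsg.spGL m F),
      ((A : Matrix.GeneralLinearGroup (Fin m ⊕ Fin m) F) : Matrix (Fin m ⊕ Fin m) (Fin m ⊕ Fin m) F) *ᵥ u = u' := by
  obtain ⟨g, hg, hgx⟩ := Cfsg.Agent.Lib.Helper5.AltWitt.witt_family (sympBilin F m)
    (sympBilin_nondegenerate m) (sympBilin_isAlt m) 1 ![u] ![u']
    (by
      rw [linearIndependent_unique_iff]
      simpa using hu)
    (by
      rw [linearIndependent_unique_iff]
      simpa using hu')
    (by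
      intro i j
      fin_cases i; fin_cases j
      simp [sympForm_self])
  obtain ⟨A, hA⟩ := exists_spGL_of_isometry m g hg
  exact ⟨A, by rw [hA]; exact hgx 0⟩

/-- Witt for two vectors -/
theorem witt2 (u v u' v' : V) (h : LinearIndependent F ![u, v]) (h' : LinearIndependent F ![u', v'])
    (hf : Cfsg.sympForm m F u v = Cfsg.sympForm m F u' v') :
    ∃ A : ↥(Cfsg.spGL m F),
      ((A : Matrix.GeneralLinearGroup (Fin m ⊕ Fin m) F) : Matrix (Fin m ⊕ Fin m) (Fin m ⊕ Fin m) F) *ᵥ u = u' ∧
      ((A : Matrix.GeneralLinearGroup (Fin m ⊕ Fin m) F) : Matrix (Fin m ⊕ Fin m) (Fin m ⊕ Fin m) F) *ᵥ v = v' := by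
  obtain ⟨g, hg, hgx⟩ := Cfsg.Agent.Lib.Helper5.AltWitt.witt_family (sympBilin F m)
    (sympBilin_nondegenerate m) (sympBilin_isAlt m) 2 ![u, v] ![u', v'] h h'
    (by
      intro i j
      fin_cases i <;> fin_cases j
      · simp [sympForm_self]
      · simpa using hf
      · simp only [sympBilin_apply]
        show Cfsg.sympForm m F v u = Cfsg.sympForm m F v' u'
        rw [sympForm_swap m v u, sympForm_swap m v' u', hf]
      · simp [sympForm_self])
  obtain ⟨A, hA⟩ := exists_spGL_of_isometry m g hg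
  exact ⟨A, by rw [hA]; exact hgx 0, by rw [hA]; exact hgx 1⟩

theorem L1 (B : Set (ℙ F V)) (hB : MulAction.IsBlock ↥(Cfsg.spGL m F) B) (u v w : V)
    (hu : u ≠ 0) (hv : v ≠ 0) (hw : w ≠ 0)
    (hpB : Projectivization.mk F u hu ∈ B) (hqB : Projectivization.mk F v hv ∈ B)
    (hne : Projectivization.mk F v hv ≠ Projectivization.mk F u hu)
    (hne' : Projectivization.mk F w hw ≠ Projectivization.mk F u hu)
    (hiff : Cfsg.sympForm m F u v = 0 ↔ Cfsg.sympForm m F u w = 0) :
    Projectivization.mk F w hw ∈ B := by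
  have hli : LinearIndependent F ![u, v] := (LinearIndependent.pair_iff' hu).mpr
    (fun a ha => hne ((Projectivization.mk_eq_mk_iff' F v u hv hu).mpr ⟨a, ha⟩))
  -- general conclusion from an element fixing `u` and moving `v` to a multiple of `w`
  have concl : ∀ (A : ↥(Cfsg.spGL m F)) (c : F),
      ((A : Matrix.GeneralLinearGroup (Fin m ⊕ Fin m) F) : Matrix (Fin m ⊕ Fin m) (Fin m ⊕ Fin m) F) *ᵥ u = u →
      ((A : Matrix.GeneralLinearGroup (Fin m ⊕ Fin m) F) : Matrix (Fin m ⊕ Fin m) (Fin m ⊕ Fin m) F) *ᵥ v = c • w →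
      Projectivization.mk F w hw ∈ B := by
    intro A c hAu hAv
    obtain ⟨h1, h2⟩ := smul_mk' A u hu
    have hfix : A • Projectivization.mk F u hu = Projectivization.mk F u hu := by
      rw [h2]
      exact (Projectivization.mk_eq_mk_iff' F _ _ _ _).mpr ⟨1, by rw [one_smul, hAu]⟩
    have hAB : A • B = B := hB.smul_eq_of_mem hpB (by rw [hfix]; exact hpB)
    have h3 : A • Projectivization.mk F v hv ∈ A • B := Set.smul_mem_smul_set hqB
    rw [hAB] at h3
    obtain ⟨h4, h5⟩ := smul_mk' A v hv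
    rw [h5] at h3
    have : Projectivization.mk F w hw = Projectivization.mk F _ h4 :=
      (Projectivization.mk_eq_mk_iff' F _ _ _ _).mpr ⟨c⁻¹, by
        rw [hAv, smul_smul, inv_mul_cancel₀, one_smul]
        rintro rfl
        rw [hAv, zero_smul] at h4
        exact h4 rfl⟩
    rw [this]
    exact h3
  by_cases h0 : Cfsg.sympForm m F u v = 0
  · have h0' := hiff.mp h0
    have hli' : LinearIndependent F ![u, w] := (LinearIndependent.pair_iff' hu).mpr
      (fun a ha => hne' ((Projectivization.mk_eq_mk_iff' F w u hw hu).mpr ⟨a, ha⟩))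
    obtain ⟨A, hAu, hAv⟩ := witt2 u v u w hli hli' (h0.trans h0'.symm)
    exact concl A 1 hAu (by rw [hAv, one_smul])
  · have h0' : Cfsg.sympForm m F u w ≠ 0 := fun h => h0 (hiff.mpr h)
    have hc : Cfsg.sympForm m F u ((Cfsg.sympForm m F u v / Cfsg.sympForm m F u w) • w) =
        Cfsg.sympForm m F u v := by
      rw [sympForm_smul_right, div_mul_cancel₀ _ h0']
    have hli' : LinearIndependent F ![u, (Cfsg.sympForm m F u v / Cfsg.sympForm m F u w) • w] :=
      (LinearIndependent.pair_iff' hu).mpr (fun a ha => by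
        apply h0
        rw [← hc, ← ha, sympForm_smul_right, sympForm_self, mul_zero])
    obtain ⟨A, hAu, hAv⟩ := witt2 u v u _ hli hli' hc.symm
    exact concl A _ hAu hAv

theorem mk_ne_of_sympForm_ne (u w : V) (hu : u ≠ 0) (hw : w ≠ 0) (x : V)
    (h1 : Cfsg.sympForm m F x u = 0) (h2 : Cfsg.sympForm m F x w ≠ 0) :
    Projectivization.mk F w hw ≠ Projectivization.mk F u hu := by
  intro h
  obtain ⟨a, ha⟩ := (Projectivization.mk_eq_mk_iff' F w u hw hu).mp h
  apply h2
  rw [← ha, sympForm_smul_right, h1, mul_zero]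

theorem main (B : Set (ℙ F V)) (hB : MulAction.IsBlock ↥(Cfsg.spGL m F) B) (u v : V)
    (hu : u ≠ 0) (hv : v ≠ 0)
    (hpB : Projectivization.mk F u hu ∈ B) (hqB : Projectivization.mk F v hv ∈ B)
    (hne : Projectivization.mk F v hv ≠ Projectivization.mk F u hu) (w : V) (hw : w ≠ 0) :
    Projectivization.mk F w hw ∈ B := by
  by_cases hwu : Projectivization.mk F w hw = Projectivization.mk F u hu
  · rw [hwu]; exact hpB
  by_cases h0 : Cfsg.sympForm m F u v = 0
  · -- perpendicular case
    by_cases h1 : Cfsg.sympForm m F u w = 0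
    · exact L1 B hB u v w hu hv hw hpB hqB hne hwu ⟨fun _ => h1, fun _ => h0⟩
    · -- choose z perpendicular to both u and w
      have hwu' : Cfsg.sympForm m F w u ≠ 0 := by
        rw [sympForm_swap]; simpa using h1
      obtain ⟨z, hz⟩ : ∃ z : V, z = v - (Cfsg.sympForm m F w v / Cfsg.sympForm m F w u) • u := ⟨_, rfl⟩
      have hzu : Cfsg.sympForm m F u z = 0 := by
        rw [hz, sympForm_sub_right, sympForm_smul_right, sympForm_self, mul_zero, sub_zero, h0]
      have hzw : Cfsg.sympForm m F w z = 0 := by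
        rw [hz, sympForm_sub_right, sympForm_smul_right, div_mul_cancel₀ _ hwu', sub_self]
      have hzv : ∀ a : F, z ≠ a • u := by
        intro a ha
        apply hne
        refine (Projectivization.mk_eq_mk_iff' F v u hv hu).mpr
          ⟨a + Cfsg.sympForm m F w v / Cfsg.sympForm m F w u, ?_⟩
        rw [add_smul, ← ha, hz]
        abel
      have hz0 : z ≠ 0 := by
        intro h
        exact hzv 0 (by rw [h, zero_smul])
      have hzne : Projectivization.mk F z hz0 ≠ Projectivization.mk F u hu := by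
        intro h
        obtain ⟨a, ha⟩ := (Projectivization.mk_eq_mk_iff' F z u hz0 hu).mp h
        exact hzv a ha.symm
      have hzB : Projectivization.mk F z hz0 ∈ B :=
        L1 B hB u v z hu hv hz0 hpB hqB hne hzne ⟨fun _ => hzu, fun _ => h0⟩
      have hzu' : Cfsg.sympForm m F z u = 0 := by rw [sympForm_swap, hzu, neg_zero]
      have hzw' : Cfsg.sympForm m F z w = 0 := by rw [sympForm_swap, hzw, neg_zero]
      refine L1 B hB z u w hz0 hu hw hzB hpB hzne.symm ?_ ⟨fun _ => hzw', fun _ => hzu'⟩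
      -- w is not a multiple of z
      exact mk_ne_of_sympForm_ne z w hz0 hw u hzu h1
  · -- non-perpendicular case
    by_cases h1 : Cfsg.sympForm m F u w ≠ 0
    · exact L1 B hB u v w hu hv hw hpB hqB hne hwu ⟨fun h => absurd h h0, fun h => absurd h h1⟩
    · push Not at h1
      -- find z with f(u,z) ≠ 0 and f(w,z) ≠ 0
      obtain ⟨z, hzu, hzw⟩ : ∃ z : V, Cfsg.sympForm m F u z ≠ 0 ∧ Cfsg.sympForm m F w z ≠ 0 := by
        by_cases hwv : Cfsg.sympForm m F w v ≠ 0
        · exact ⟨v, h0, hwv⟩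
        · push Not at hwv
          obtain ⟨y, hy⟩ : ∃ y, Cfsg.sympForm m F w y ≠ 0 := by
            by_contra hcon
            push Not at hcon
            exact hw (eq_zero_of_sympForm_right m w hcon)
          by_cases huy : Cfsg.sympForm m F u y ≠ 0
          · exact ⟨y, huy, hy⟩
          · push Not at huy
            refine ⟨v + y, ?_, ?_⟩
            · rw [sympForm_add_right, huy, add_zero]; exact h0
            · rw [sympForm_add_right, hwv, zero_add]; exact hy
      have hz0 : z ≠ 0 := by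
        rintro rfl
        apply hzu
        have := sympForm_smul_right m (0 : F) u (0 : V)
        rw [zero_smul, zero_mul] at this
        exact this
      have hzne : Projectivization.mk F z hz0 ≠ Projectivization.mk F u hu :=
        mk_ne_of_sympForm_ne u z hu hz0 u (sympForm_self m u) hzu
      have hzB : Projectivization.mk F z hz0 ∈ B :=
        L1 B hB u v z hu hv hz0 hpB hqB hne hzne ⟨fun h => absurd h h0, fun h => absurd h hzu⟩
      have hzu' : Cfsg.sympForm m F z u ≠ 0 := by
        rw [sympForm_swap]; simpa using hzu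
      have hzw' : Cfsg.sympForm m F z w ≠ 0 := by
        rw [sympForm_swap]; simpa using hzw
      refine L1 B hB z u w hz0 hu hw hzB hpB hzne.symm ?_
        ⟨fun h => absurd h hzu', fun h => absurd h hzw'⟩
      exact mk_ne_of_sympForm_ne z w hz0 hw z (sympForm_self m z) hzw'

end

/-- Primitivity: for m ≥ 1 and F finite, the symplectic group of the form sympForm (as a subgroup of the general linear group) acts primitively on the projective space of F^(2m). -/
theorem result {F : Type*} [Field F] [Finite F] (m : ℕ) (hm : 1 ≤ m) : MulAction.IsPreprimitive ↥(Cfsg.spGL m F) (ℙ F (Fin m ⊕ Fin m → F)) := by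
  haveI : MulAction.IsPretransitive ↥(Cfsg.spGL m F) (ℙ F (Fin m ⊕ Fin m → F)) := ⟨by
    intro p q
    obtain ⟨u, hu, rfl⟩ : ∃ (u : Fin m ⊕ Fin m → F) (hu : u ≠ 0), p = Projectivization.mk F u hu :=
      ⟨p.rep, p.rep_nonzero, (Projectivization.mk_rep p).symm⟩
    obtain ⟨v, hv, rfl⟩ : ∃ (v : Fin m ⊕ Fin m → F) (hv : v ≠ 0), q = Projectivization.mk F v hv :=
      ⟨q.rep, q.rep_nonzero, (Projectivization.mk_rep q).symm⟩
    obtain ⟨A, hA⟩ := witt1 u v hu hv
    refine ⟨A, ?_⟩
    obtain ⟨h1, h2⟩ := smul_mk' A u hu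
    rw [h2]
    exact (Projectivization.mk_eq_mk_iff' F _ _ _ _).mpr ⟨1, by rw [one_smul, hA]⟩⟩
  refine ⟨fun {B} hB => ?_⟩
  by_cases hs : B.Subsingleton
  · exact Or.inl hs
  · right
    rw [Set.not_subsingleton_iff] at hs
    obtain ⟨p, hp, q, hq, hpq⟩ := hs
    obtain ⟨u, hu, rfl⟩ : ∃ (u : Fin m ⊕ Fin m → F) (hu : u ≠ 0), p = Projectivization.mk F u hu :=
      ⟨p.rep, p.rep_nonzero, (Projectivization.mk_rep p).symm⟩
    obtain ⟨v, hv, rfl⟩ : ∃ (v : Fin m ⊕ Fin m → F) (hv : v ≠ 0), q = Projectivization.mk F v hv :=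
      ⟨q.rep, q.rep_nonzero, (Projectivization.mk_rep q).symm⟩
    rw [Set.eq_univ_iff_forall]
    intro r
    obtain ⟨w, hw, rfl⟩ : ∃ (w : Fin m ⊕ Fin m → F) (hw : w ≠ 0), r = Projectivization.mk F w hw :=
      ⟨r.rep, r.rep_nonzero, (Projectivization.mk_rep r).symm⟩
    exact main B hB u v hu hv hp hq (Ne.symm hpq) w hw

end Cfsg.Agent.S0768
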