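import Mathlib
import Cfsg.Statements.S0769

set_option autoImplicit false
open Cfsg

namespace Cfsg.Agent.S0769

theorem inner_prod (q : ℕ) (n : ℕ) (i : Fin n) :
    (∏ j : Fin n, (if i < j then 1 else if i = j then (q - 1) else q)) = (q - 1) * q ^ (i : ℕ) := by
  have h1 : ∀ j : Fin n, (if i < j then 1 else if i = j then (q - 1) else q)
      = (if i = j then (q - 1) else 1) * (if j < i then q else 1) := by
    intro j
    rcases lt_trichotomy i j with h | h | h
    · simp [h, h.ne, not_lt_of_gt h]
    · subst h; simp
    · simp [h, h.ne', not_lt_of_gt h]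
  rw [Finset.prod_congr rfl (fun j _ => h1 j), Finset.prod_mul_distrib, Finset.prod_ite_eq,
    Finset.prod_ite, Finset.prod_const_one, mul_one, Finset.prod_const]
  have : (Finset.univ.filter (fun x : Fin n => x < i)) = Finset.Iio i := by
    ext x; simp
  rw [this, Fin.card_Iio]
  simp

/-- Order of the Borel subgroup of GL_n(q): the invertible lower-triangular n × n matrices over a field with q elements number q^(n(n-1)/2) (q-1)^n (unitriangular part times the diagonal torus). -/
theorem result {F : Type*} [Field F] [Fintype F] {q : ℕ} (hF : Fintype.card F = q) (n : ℕ) : Nat.card {g : Matrix.GeneralLinearGroup (Fin n) F // ∀ i j : Fin n, i < j → (g : Matrix (Fin n) (Fin n) F) i j = 0} = q ^ (n * (n - 1) / 2) * (q - 1) ^ n := by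
  classical
  subst hF
  set t : Fin n × Fin n → Finset F := fun p =>
    if p.1 < p.2 then {0} else if p.1 = p.2 then Finset.univ.erase 0 else Finset.univ with ht
  have hcard : ∀ p, (t p).card = (if p.1 < p.2 then 1 else if p.1 = p.2 then (Fintype.card F - 1)
      else Fintype.card F) := by
    intro p
    simp only [ht]
    split_ifs
    · simp
    · rw [Finset.card_erase_of_mem (Finset.mem_univ _), Finset.card_univ]
    · rw [Finset.card_univ]
  let φ : {g : Matrix.GeneralLinearGroup (Fin n) F // ∀ i j : Fin n, i < j →
      (g : Matrix (Fin n) (Fin n) F) i j = 0} → ↥(Fintype.piFinset t) := fun g =>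
    ⟨fun p => (g.1 : Matrix (Fin n) (Fin n) F) p.1 p.2, by
      rw [Fintype.mem_piFinset]
      intro p
      simp only [ht]
      split_ifs with h1 h2
      · rw [Finset.mem_singleton]; exact g.2 _ _ h1
      · rw [Finset.mem_erase]
        refine ⟨?_, Finset.mem_univ _⟩
        intro h0
        have hdet : (g.1 : Matrix (Fin n) (Fin n) F).det = ∏ i, (g.1 : Matrix (Fin n) (Fin n) F) i i :=
          Matrix.det_of_isLowerTriangular _ (fun i j hij => g.2 i j hij)
        have hunit : IsUnit (g.1 : Matrix (Fin n) (Fin n) F).det :=
          (Matrix.isUnit_iff_isUnit_det _).mp (Units.isUnit g.1)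
        rw [hdet] at hunit
        have hz : ∏ i, (g.1 : Matrix (Fin n) (Fin n) F) i i = 0 :=
          Finset.prod_eq_zero (Finset.mem_univ p.1) (by
            have : (g.1 : Matrix (Fin n) (Fin n) F) p.1 p.1 = (g.1 : Matrix (Fin n) (Fin n) F) p.1 p.2 :=
              congrArg _ h2
            rw [this]; exact h0)
        rw [hz] at hunit
        exact not_isUnit_zero hunit
      · exact Finset.mem_univ _⟩
  have hφ : Function.Bijective φ := by
    constructor
    · intro g g' h
      apply Subtype.ext
      apply Units.ext
      ext i j
      have := congrFun (congrArg Subtype.val h) (i, j)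
      exact this
    · intro f
      have hf := f.2
      rw [Fintype.mem_piFinset] at hf
      set M : Matrix (Fin n) (Fin n) F := Matrix.of (fun i j => f.1 (i, j)) with hM
      have hlow : ∀ i j : Fin n, i < j → M i j = 0 := by
        intro i j hij
        have := hf (i, j)
        simp only [ht, hij, if_true, Finset.mem_singleton] at this
        exact this
      have hdiag : ∀ i : Fin n, M i i ≠ 0 := by
        intro i
        have := hf (i, i)
        simp only [ht, lt_irrefl, if_false, if_true, Finset.mem_erase] at this
        exact this.1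
      have hdet : M.det ≠ 0 := by
        rw [Matrix.det_of_isLowerTriangular M (fun i j hij => hlow i j hij)]
        exact Finset.prod_ne_zero_iff.mpr (fun i _ => hdiag i)
      refine ⟨⟨Matrix.GeneralLinearGroup.mkOfDetNeZero M hdet, hlow⟩, ?_⟩
      apply Subtype.ext
      funext p
      rfl
  rw [Nat.card_congr (Equiv.ofBijective φ hφ), Nat.card_eq_fintype_card, Fintype.card_coe,
    Fintype.card_piFinset, Finset.prod_congr rfl (fun p _ => hcard p), Fintype.prod_prod_type]
  simp only
  rw [Finset.prod_congr rfl (fun i _ => inner_prod (Fintype.card F) n i), Finset.prod_mul_distrib,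
    Finset.prod_const, Finset.prod_pow_eq_pow_sum, Finset.card_univ, Fintype.card_fin,
    Fin.sum_univ_eq_sum_range (fun i => i) n, Finset.sum_range_id, mul_comm]

end Cfsg.Agent.S0769
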