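import Mathlib
import Cfsg.Statements.S0770

set_option autoImplicit false
open Cfsg

namespace Cfsg.Agent.S0770

open Matrix

variable {F : Type*} [Field F] {n : ℕ}

/-- The diagonal torus. -/
abbrev torus (F : Type*) [Field F] (n : ℕ) : Subgroup (Matrix.GeneralLinearGroup (Fin n) F) :=
  (Units.map (Matrix.diagonalRingHom (Fin n) F).toMonoidHom).range

theorem mem_torus_iff (h : Matrix.GeneralLinearGroup (Fin n) F) :
    h ∈ torus F n ↔ ∀ i j, i ≠ j → (h : Matrix (Fin n) (Fin n) F) i j = 0 := by
  constructor
  · rintro ⟨d, rfl⟩ i j hij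
    show Matrix.diagonal (d : Fin n → F) i j = 0
    exact Matrix.diagonal_apply_ne _ hij
  · intro hoff
    have hdiag : (h : Matrix (Fin n) (Fin n) F) = Matrix.diagonal (fun i => (h : Matrix (Fin n) (Fin n) F) i i) := by
      ext i j
      by_cases hij : i = j
      · subst hij; simp
      · rw [hoff i j hij, Matrix.diagonal_apply_ne _ hij]
    have hdet : (h : Matrix (Fin n) (Fin n) F).det ≠ 0 := by
      have := (Matrix.isUnit_iff_isUnit_det _).mp (Units.isUnit h)
      exact this.ne_zero
    rw [hdiag, Matrix.det_diagonal] at hdet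
    have hne : ∀ i, (h : Matrix (Fin n) (Fin n) F) i i ≠ 0 := by
      intro i
      exact (Finset.prod_ne_zero_iff.mp hdet) i (Finset.mem_univ i)
    let d : (Fin n → F)ˣ := ⟨fun i => (h : Matrix (Fin n) (Fin n) F) i i,
      fun i => ((h : Matrix (Fin n) (Fin n) F) i i)⁻¹,
      by funext i; exact mul_inv_cancel₀ (hne i), by funext i; exact inv_mul_cancel₀ (hne i)⟩
    refine ⟨d, ?_⟩
    apply Units.ext
    show Matrix.diagonal (fun i => (h : Matrix (Fin n) (Fin n) F) i i) = _
    exact hdiag.symm

/-- conjugation relation entrywise -/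
theorem conj_entries (g h t : Matrix.GeneralLinearGroup (Fin n) F) (hc : g * h * g⁻¹ = t) :
    (g : Matrix (Fin n) (Fin n) F) * (h : Matrix (Fin n) (Fin n) F) =
      (t : Matrix (Fin n) (Fin n) F) * (g : Matrix (Fin n) (Fin n) F) := by
  have : g * h = t * g := by rw [← hc]; group
  have h2 := congrArg (fun x : Matrix.GeneralLinearGroup (Fin n) F => (x : Matrix (Fin n) (Fin n) F)) this
  simpa using h2

/-- For a field with at least 3 elements, an invertible matrix normalises the subgroup of invertible diagonal matrices of GL_n if and only if it is monomial (exactly one non-zero entry in each row). -/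
theorem result {F : Type*} [Field F] (hF : ∃ a : F, a ≠ 0 ∧ a ≠ 1) (n : ℕ) (g : Matrix.GeneralLinearGroup (Fin n) F) : g ∈ Subgroup.normalizer ((Units.map (Matrix.diagonalRingHom (Fin n) F).toMonoidHom).range : Subgroup (Matrix.GeneralLinearGroup (Fin n) F)) ↔ ∀ i : Fin n, ∃! j : Fin n, (g : Matrix (Fin n) (Fin n) F) i j ≠ 0 := by
  classical
  obtain ⟨a, ha0, ha1⟩ := hF
  show g ∈ Subgroup.normalizer ((torus F n : Subgroup _) : Set _) ↔ _
  rw [Subgroup.mem_set_normalizer_iff]
  constructor
  · intro hnorm i
    -- existence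
    have hex : ∃ j, (g : Matrix (Fin n) (Fin n) F) i j ≠ 0 := by
      by_contra hcon
      push Not at hcon
      have hdet : (g : Matrix (Fin n) (Fin n) F).det = 0 := Matrix.det_eq_zero_of_row_eq_zero i hcon
      have := (Matrix.isUnit_iff_isUnit_det _).mp (Units.isUnit g)
      rw [hdet] at this
      exact not_isUnit_zero this
    obtain ⟨j, hj⟩ := hex
    refine ⟨j, hj, ?_⟩
    intro j' hj'
    by_contra hne
    -- the torus element with `a` at position `j`
    let d : (Fin n → F)ˣ := ⟨fun k => if k = j then a else 1, fun k => if k = j then a⁻¹ else 1,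
      by funext k; by_cases hk : k = j <;> simp [hk, ha0],
      by funext k; by_cases hk : k = j <;> simp [hk, ha0]⟩
    set t : Matrix.GeneralLinearGroup (Fin n) F :=
      Units.map (Matrix.diagonalRingHom (Fin n) F).toMonoidHom d with ht
    have htT : t ∈ torus F n := ⟨d, rfl⟩
    have htval : (t : Matrix (Fin n) (Fin n) F) = Matrix.diagonal (fun k => if k = j then a else 1) := rfl
    have h1 := (hnorm t).mp htT
    rw [SetLike.mem_coe, mem_torus_iff] at h1
    have h2 := conj_entries g t (g * t * g⁻¹) rfl
    have e1 := congrFun (congrFun h2 i) j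
    have e2 := congrFun (congrFun h2 i) j'
    rw [htval, Matrix.mul_diagonal, Matrix.mul_apply] at e1 e2
    rw [Finset.sum_eq_single i (fun k _ hk => by rw [h1 i k (Ne.symm hk), zero_mul])
      (fun h => absurd (Finset.mem_univ _) h)] at e1 e2
    simp only [if_true] at e1
    rw [if_neg hne, mul_one] at e2
    have h3 : ((g * t * g⁻¹ : Matrix.GeneralLinearGroup (Fin n) F) : Matrix (Fin n) (Fin n) F) i i = a := by
      have e1' : a * (g : Matrix (Fin n) (Fin n) F) i j =
          ((g * t * g⁻¹ : Matrix.GeneralLinearGroup (Fin n) F) : Matrix (Fin n) (Fin n) F) i i *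
            (g : Matrix (Fin n) (Fin n) F) i j := by
        rw [mul_comm]; exact e1
      exact (mul_right_cancel₀ hj e1').symm
    have h4 : ((g * t * g⁻¹ : Matrix.GeneralLinearGroup (Fin n) F) : Matrix (Fin n) (Fin n) F) i i = 1 := by
      have : (1 : F) * (g : Matrix (Fin n) (Fin n) F) i j' =
          ((g * t * g⁻¹ : Matrix.GeneralLinearGroup (Fin n) F) : Matrix (Fin n) (Fin n) F) i i *
            (g : Matrix (Fin n) (Fin n) F) i j' := by
        rw [one_mul]; exact e2
      exact (mul_right_cancel₀ hj' this).symm
    rw [h3] at h4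
    exact ha1 h4
  · intro hmono h
    choose π hπ hπu using hmono
    have hsupp : ∀ i j, (g : Matrix (Fin n) (Fin n) F) i j ≠ 0 → j = π i := fun i j hij => hπu i j hij
    have hzero : ∀ i j, j ≠ π i → (g : Matrix (Fin n) (Fin n) F) i j = 0 := by
      intro i j hj
      by_contra h0
      exact hj (hsupp i j h0)
    -- π is injective
    have hginv : (g : Matrix (Fin n) (Fin n) F) * ((g⁻¹ : Matrix.GeneralLinearGroup (Fin n) F) : Matrix (Fin n) (Fin n) F) = 1 := by
      rw [← Units.val_mul, mul_inv_cancel, Units.val_one]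
    have hπinj : Function.Injective π := by
      intro i i' hii
      by_contra hne
      have e1 := congrFun (congrFun hginv i) i
      have e2 := congrFun (congrFun hginv i') i
      rw [Matrix.mul_apply, Finset.sum_eq_single (π i) (fun k _ hk => by rw [hzero i k hk, zero_mul])
        (fun h => absurd (Finset.mem_univ _) h), Matrix.one_apply_eq] at e1
      rw [Matrix.mul_apply, Finset.sum_eq_single (π i') (fun k _ hk => by rw [hzero i' k hk, zero_mul])
        (fun h => absurd (Finset.mem_univ _) h), Matrix.one_apply_ne (Ne.symm hne), ← hii] at e2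
      have h1 : ((g⁻¹ : Matrix.GeneralLinearGroup (Fin n) F) : Matrix (Fin n) (Fin n) F) (π i) i ≠ 0 := by
        intro h0; rw [h0, mul_zero] at e1; exact zero_ne_one e1
      rcases mul_eq_zero.mp e2 with h0 | h0
      · rw [hii] at h0; exact hπ i' h0
      · exact h1 h0
    have hπsurj : Function.Surjective π := Finite.surjective_of_injective hπinj
    constructor
    · intro hh
      rw [SetLike.mem_coe, mem_torus_iff] at hh ⊢
      have h2 := conj_entries g h (g * h * g⁻¹) rfl
      -- g h = t' g where t' = conj; show t' diagonal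
      intro i j hij
      -- (g h g⁻¹) = diag (h_{π i, π i})
      have hgh : (g : Matrix (Fin n) (Fin n) F) * (h : Matrix (Fin n) (Fin n) F) =
          Matrix.diagonal (fun k => (h : Matrix (Fin n) (Fin n) F) (π k) (π k)) * (g : Matrix (Fin n) (Fin n) F) := by
        ext k l
        rw [Matrix.diagonal_mul, Matrix.mul_apply,
          Finset.sum_eq_single (π k) (fun m _ hm => by rw [hzero k m hm, zero_mul])
          (fun h => absurd (Finset.mem_univ _) h)]
        by_cases hl : l = π k
        · rw [hl, mul_comm]
        · rw [hh (π k) l (Ne.symm hl), hzero k l hl, mul_zero, mul_zero]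
      have h3 : ((g * h * g⁻¹ : Matrix.GeneralLinearGroup (Fin n) F) : Matrix (Fin n) (Fin n) F) =
          Matrix.diagonal (fun k => (h : Matrix (Fin n) (Fin n) F) (π k) (π k)) := by
        rw [Units.val_mul, Units.val_mul, hgh, Matrix.mul_assoc, hginv, Matrix.mul_one]
      rw [h3, Matrix.diagonal_apply_ne _ hij]
    · intro hh
      rw [SetLike.mem_coe, mem_torus_iff] at hh ⊢
      have h2 := conj_entries g h (g * h * g⁻¹) rfl
      intro k l hkl
      obtain ⟨i, rfl⟩ := hπsurj k
      have e := congrFun (congrFun h2 i) l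
      rw [Matrix.mul_apply, Finset.sum_eq_single (π i) (fun m _ hm => by rw [hzero i m hm, zero_mul])
        (fun h => absurd (Finset.mem_univ _) h), Matrix.mul_apply,
        Finset.sum_eq_single i (fun m _ hm => by rw [hh i m (Ne.symm hm), zero_mul])
        (fun h => absurd (Finset.mem_univ _) h), hzero i l (Ne.symm hkl), mul_zero] at e
      exact (mul_eq_zero.mp e).resolve_left (hπ i)

end Cfsg.Agent.S0770
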