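import Mathlib
import Cfsg.Statements.S0771
import Cfsg.Agent.Lib.Helper5.BlockCount

set_option autoImplicit false
open Cfsg

namespace Cfsg.Agent.S0771

open Matrix Cfsg.Agent.Lib.Helper5.BlockCount

theorem mem_iff {F : Type*} [Field F] [Fintype F] (k m : ℕ)
    (g : Matrix.GeneralLinearGroup (Fin (k + m)) F) :
    g ∈ Cfsg.stabilizing (Cfsg.glToMat (Fin (k + m)) F)
        {v : Fin (k + m) → F | ∀ i : Fin (k + m), k ≤ (i : ℕ) → v i = 0} ↔
      ((g : Matrix (Fin (k + m)) (Fin (k + m)) F).submatrix finSumFinEquiv finSumFinEquiv).toBlocks₂₁ = 0 := by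
  constructor
  · intro hg
    ext i j
    have h1 := (hg (Pi.single (finSumFinEquiv (Sum.inl j)) 1)).mp (by
      intro i hi
      rw [Pi.single_apply, if_neg]
      rintro rfl
      simp at hi
      omega)
    have h2 := h1 (finSumFinEquiv (Sum.inr i)) (by simp)
    simp only [Cfsg.glToMat, Units.coeHom_apply, Matrix.mulVec_single_one] at h2
    simpa [Matrix.toBlocks₂₁] using h2
  · intro hg
    have hfwd : ∀ v : Fin (k + m) → F, v ∈ {v : Fin (k + m) → F | ∀ i : Fin (k + m), k ≤ (i : ℕ) → v i = 0} →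
        (g : Matrix (Fin (k + m)) (Fin (k + m)) F) *ᵥ v ∈
          {v : Fin (k + m) → F | ∀ i : Fin (k + m), k ≤ (i : ℕ) → v i = 0} := by
      intro v hv i hi
      rw [Matrix.mulVec, dotProduct]
      apply Finset.sum_eq_zero
      intro j _
      by_cases hj : k ≤ (j : ℕ)
      · rw [hv j hj, mul_zero]
      · push Not at hj
        have h3 := congrFun (congrFun hg ⟨(i : ℕ) - k, by omega⟩) ⟨(j : ℕ), hj⟩
        simp only [Matrix.toBlocks₂₁, Matrix.of_apply, Matrix.submatrix_apply, Matrix.zero_apply] at h3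
        have e1 : finSumFinEquiv (Sum.inr (⟨(i : ℕ) - k, by omega⟩ : Fin m)) = i := by
          apply Fin.ext; simp; omega
        have e2 : finSumFinEquiv (Sum.inl (⟨(j : ℕ), hj⟩ : Fin k)) = (j : Fin (k + m)) := by
          apply Fin.ext; simp
        rw [e1, e2] at h3
        rw [h3, zero_mul]
    intro v
    refine ⟨hfwd v, fun hv => ?_⟩
    -- the restricted map is injective hence surjective
    let S : Set (Fin (k + m) → F) := {v : Fin (k + m) → F | ∀ i : Fin (k + m), k ≤ (i : ℕ) → v i = 0}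
    let φ : S → S := fun w => ⟨(g : Matrix (Fin (k + m)) (Fin (k + m)) F) *ᵥ w.1, hfwd w.1 w.2⟩
    have hinj : Function.Injective φ := by
      intro a b hab
      have h4 : (g : Matrix (Fin (k + m)) (Fin (k + m)) F) *ᵥ a.1 =
          (g : Matrix (Fin (k + m)) (Fin (k + m)) F) *ᵥ b.1 := congrArg Subtype.val hab
      have h5 := congrArg (fun w => ((g⁻¹ : Matrix.GeneralLinearGroup (Fin (k + m)) F) : Matrix (Fin (k + m)) (Fin (k + m)) F) *ᵥ w) h4
      simp only [Matrix.mulVec_mulVec, ← Units.val_mul, inv_mul_cancel, Units.val_one, Matrix.one_mulVec] at h5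
      exact Subtype.ext h5
    obtain ⟨w, hw⟩ := (Finite.injective_iff_surjective.mp hinj) ⟨_, hv⟩
    have h4 : (g : Matrix (Fin (k + m)) (Fin (k + m)) F) *ᵥ w.1 =
        (g : Matrix (Fin (k + m)) (Fin (k + m)) F) *ᵥ v := congrArg Subtype.val hw
    have h5 := congrArg (fun w => ((g⁻¹ : Matrix.GeneralLinearGroup (Fin (k + m)) F) : Matrix (Fin (k + m)) (Fin (k + m)) F) *ᵥ w) h4
    simp only [Matrix.mulVec_mulVec, ← Units.val_mul, inv_mul_cancel, Units.val_one, Matrix.one_mulVec] at h5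
    rw [← h5]
    exact w.2

theorem card_aux {F : Type*} [Field F] [Fintype F] (k m : ℕ) :
    Nat.card ↥(Cfsg.stabilizing (Cfsg.glToMat (Fin (k + m)) F)
        {v : Fin (k + m) → F | ∀ i : Fin (k + m), k ≤ (i : ℕ) → v i = 0}) =
      Fintype.card F ^ (k * m) * (∏ i : Fin k, (Fintype.card F ^ k - Fintype.card F ^ (i : ℕ))) *
        ∏ i : Fin m, (Fintype.card F ^ m - Fintype.card F ^ (i : ℕ)) := by
  let ρ : Matrix.GeneralLinearGroup (Fin (k + m)) F ≃* Matrix.GeneralLinearGroup (Fin k ⊕ Fin m) F :=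
    Units.mapEquiv (Matrix.reindexAlgEquiv F F finSumFinEquiv.symm).toMulEquiv
  have hρ : ∀ g, ((ρ g : Matrix.GeneralLinearGroup (Fin k ⊕ Fin m) F) : Matrix (Fin k ⊕ Fin m) (Fin k ⊕ Fin m) F) =
      (g : Matrix (Fin (k + m)) (Fin (k + m)) F).submatrix finSumFinEquiv finSumFinEquiv := by
    intro g
    rfl
  have e : ↥(Cfsg.stabilizing (Cfsg.glToMat (Fin (k + m)) F)
        {v : Fin (k + m) → F | ∀ i : Fin (k + m), k ≤ (i : ℕ) → v i = 0}) ≃
      {g : Matrix.GeneralLinearGroup (Fin k ⊕ Fin m) F //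
        (g : Matrix (Fin k ⊕ Fin m) (Fin k ⊕ Fin m) F).toBlocks₂₁ = 0} :=
    Equiv.subtypeEquiv ρ.toEquiv (fun g => by
      rw [mem_iff]
      exact Iff.rfl)
  rw [Nat.card_congr e, card_blockTriangular, Matrix.card_GL_field, Matrix.card_GL_field]
  simp only [Fintype.card_fin]
  ring

/-- Maximal parabolic of GL_n(q): the stabiliser of the coordinate subspace spanned by the first k basis vectors has order q^(k(n-k)) · |GL_k(q)| · |GL_(n-k)(q)| (unipotent radical of order q^(k(n-k)) and Levi complement GL_k × GL_(n-k)). -/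
theorem result {F : Type*} [Field F] [Fintype F] {q : ℕ} (hF : Fintype.card F = q) (n k : ℕ) (hk : k ≤ n) : Nat.card ↥(Cfsg.stabilizing (Cfsg.glToMat (Fin n) F) {v : Fin n → F | ∀ i : Fin n, k ≤ (i : ℕ) → v i = 0}) = q ^ (k * (n - k)) * (∏ i : Fin k, (q ^ k - q ^ (i : ℕ))) * ∏ i : Fin (n - k), (q ^ (n - k) - q ^ (i : ℕ)) := by
  subst hF
  obtain ⟨m, rfl⟩ := Nat.exists_eq_add_of_le hk
  rw [Nat.add_sub_cancel_left]
  exact card_aux k m

end Cfsg.Agent.S0771
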