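import Mathlib
import Cfsg.Statements.S0772
import Cfsg.Agent.Lib.Helper5.GLParabolic

set_option autoImplicit false
open Cfsg

namespace Cfsg.Agent.S0772

open Matrix Cfsg.Agent.Lib.Helper5.GLParabolic

section
variable {F : Type*} [Field F] {n : ℕ}

local notation "GLn" => Matrix.GeneralLinearGroup (Fin n) F
local notation "Mn" => Matrix (Fin n) (Fin n) F

theorem vecMul_r (x : GLn) (a φ ψ : Fin n → F) (hx : (x : Mn) = 1 + vecMulVec a φ) :
    ψ ᵥ* (x : Mn) = ψ + (ψ ⬝ᵥ a) • φ := by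
  rw [hx, vecMul_add, vecMul_one, vecMul_vecMulVec]

theorem inv_mulVec_eq (g : GLn) {u v : Fin n → F} (h : (g : Mn) *ᵥ u = v) :
    ((g⁻¹ : GLn) : Mn) *ᵥ v = u := by
  rw [← h, Matrix.mulVec_mulVec, ← Units.val_mul, inv_mul_cancel, Units.val_one, Matrix.one_mulVec]

theorem vecMul_inv_eq (g : GLn) {u v : Fin n → F} (h : u ᵥ* (g : Mn) = v) :
    v ᵥ* ((g⁻¹ : GLn) : Mn) = u := by
  rw [← h, Matrix.vecMul_vecMul, ← Units.val_mul, mul_inv_cancel, Units.val_one, Matrix.vecMul_one]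

/-- conjugating a rank one perturbation -/
theorem move (H : Subgroup GLn) (x : GLn) (hxH : x ∈ H) (a φ : Fin n → F)
    (hx : (x : Mn) = 1 + vecMulVec a φ) (g : GLn) (hg : g ∈ H) (a' φ' : Fin n → F)
    (ha : (g : Mn) *ᵥ a = a') (hφ : φ' ᵥ* (g : Mn) = φ) :
    ∀ y : GLn, (y : Mn) = 1 + vecMulVec a' φ' → y ∈ H := by
  intro y hy
  have : y = g * x * g⁻¹ := by
    apply Units.ext
    rw [hy, conj_val g x a φ hx, ha, vecMul_inv_eq g hφ]
  rw [this]
  exact H.mul_mem (H.mul_mem hg hxH) (H.inv_mem hg)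

theorem split_right (H : Subgroup GLn) (x : GLn) (hxH : x ∈ H) (a φ ψ : Fin n → F)
    (hx : (x : Mn) = 1 + vecMulVec a φ) (y : GLn) (hyH : y ∈ H)
    (hy : (y : Mn) = 1 + vecMulVec a ψ) (h : φ ⬝ᵥ a = 0) :
    ∀ z : GLn, (z : Mn) = 1 + vecMulVec a (φ + ψ) → z ∈ H := by
  intro z hz
  have : z = x * y := by
    apply Units.ext
    rw [hz, mul_val_right x y a φ ψ hx hy h]
  rw [this]
  exact H.mul_mem hxH hyH

theorem split_left (H : Subgroup GLn) (x : GLn) (hxH : x ∈ H) (a b φ : Fin n → F)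
    (hx : (x : Mn) = 1 + vecMulVec a φ) (y : GLn) (hyH : y ∈ H)
    (hy : (y : Mn) = 1 + vecMulVec b φ) (h : φ ⬝ᵥ b = 0) :
    ∀ z : GLn, (z : Mn) = 1 + vecMulVec (a + b) φ → z ∈ H := by
  intro z hz
  have : z = x * y := by
    apply Units.ext
    rw [hz, mul_val_left x y a b φ hx hy h]
  rw [this]
  exact H.mul_mem hxH hyH

theorem inv_val (x : GLn) (a φ : Fin n → F) (hx : (x : Mn) = 1 + vecMulVec a φ)
    (h : φ ⬝ᵥ a = 0) : ((x⁻¹ : GLn) : Mn) = 1 + vecMulVec a (-φ) := by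
  obtain ⟨y, hy⟩ := exists_r a (-φ) (by rw [neg_dotProduct, h, neg_zero, add_zero]; exact one_ne_zero)
  have h1 : ((x * y : GLn) : Mn) = 1 := by
    rw [mul_val_right x y a φ (-φ) hx hy h, add_neg_cancel, vecMulVec_zero, add_zero]
  have h2 : x * y = 1 := Units.ext h1
  rw [← hy, ← eq_inv_of_mul_eq_one_right h2]

theorem not_mem_P [Finite F] {k : ℕ} (h : GLn) (hh : h ∉ P F n k) :
    ∃ a b : Fin n, k ≤ (a : ℕ) ∧ (b : ℕ) < k ∧ (h : Mn) a b ≠ 0 := by
  by_contra hcon
  push Not at hcon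
  exact hh ((mem_P_iff k h).mpr hcon)

/-- a subgroup strictly containing the parabolic contains a lower left elementary transvection -/
theorem exists_elementary [Finite F] {k : ℕ} (H : Subgroup GLn) (hPH : P F n k ≤ H) (h : GLn)
    (hH : h ∈ H) (hP : h ∉ P F n k) :
    ∃ i₁ j₂ : Fin n, k ≤ (i₁ : ℕ) ∧ (j₂ : ℕ) < k ∧
      ∀ y : GLn, (y : Mn) = 1 + vecMulVec (Pi.single i₁ (1 : F)) (Pi.single j₂ (1 : F)) → y ∈ H := by
  classical
  obtain ⟨i₁, j₁, hi₁, hj₁, hne₁⟩ := not_mem_P h hP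
  have hP' : h⁻¹ ∉ P F n k := fun hc => hP (by simpa using inv_mem hc)
  obtain ⟨i₂, j₂, hi₂, hj₂, hne₂⟩ := not_mem_P h⁻¹ hP'
  refine ⟨i₁, j₂, hi₁, hj₂, ?_⟩
  -- step 1: the conjugate of an upper right transvection
  obtain ⟨T, hT⟩ := exists_r (Pi.single j₁ (1 : F) : Fin n → F) (Pi.single i₂ (1 : F)) (by
    rw [single_dotProduct, one_mul, Pi.single_apply, if_neg (by rintro rfl; omega), add_zero]
    exact one_ne_zero)
  have hTP : T ∈ P F n k := r_mem_P T _ _ hT (Or.inl (fun i hi => by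
    rw [Pi.single_apply, if_neg]; rintro rfl; omega))
  obtain ⟨a, ha⟩ : ∃ a : Fin n → F, a = (h : Mn) *ᵥ (Pi.single j₁ (1 : F)) := ⟨_, rfl⟩
  obtain ⟨φ, hφ⟩ : ∃ φ : Fin n → F, φ = (Pi.single i₂ (1 : F)) ᵥ* ((h⁻¹ : GLn) : Mn) := ⟨_, rfl⟩
  have hai : a i₁ ≠ 0 := by
    rw [ha, Matrix.mulVec_single_one]; exact hne₁
  have hφj : φ j₂ ≠ 0 := by
    rw [hφ, Matrix.single_one_vecMul]; exact hne₂
  have hφa : φ ⬝ᵥ a = 0 := by
    rw [hφ, ha, ← Matrix.dotProduct_mulVec, Matrix.mulVec_mulVec, ← Units.val_mul, inv_mul_cancel,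
      Units.val_one, Matrix.one_mulVec, single_dotProduct, one_mul, Pi.single_apply,
      if_neg (by rintro rfl; omega)]
  have hτ : ∀ y : GLn, (y : Mn) = 1 + vecMulVec a φ → y ∈ H :=
    move H T (hPH hTP) _ _ hT h hH a φ ha.symm (by
      rw [hφ, Matrix.vecMul_vecMul, ← Units.val_mul, inv_mul_cancel, Units.val_one, Matrix.vecMul_one])
  obtain ⟨τ, hτv⟩ := exists_r a φ (by rw [hφa, add_zero]; exact one_ne_zero)
  have hτH := hτ τ hτv
  -- step 2: column replacement
  obtain ⟨p', hp'⟩ := exists_r (a - Pi.single i₁ (1 : F)) (Pi.single i₁ (1 : F)) (by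
    rw [single_dotProduct, one_mul, Pi.sub_apply, Pi.single_eq_same]
    simpa using hai)
  have hp'P : p' ∈ P F n k := r_mem_P p' _ _ hp' (Or.inr (fun b hb => by
    rw [Pi.single_apply, if_neg]; rintro rfl; omega))
  have hp'a : (p' : Mn) *ᵥ (Pi.single i₁ (1 : F)) = a := by
    rw [r_mulVec p' _ _ _ hp', single_dotProduct, one_mul, Pi.single_eq_same, one_smul]
    abel
  obtain ⟨φ', hφ'⟩ : ∃ φ' : Fin n → F, φ' = φ - φ i₁ • Pi.single i₁ (1 : F) := ⟨_, rfl⟩
  have hφ'p : φ ᵥ* (p' : Mn) = φ' := by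
    rw [vecMul_r p' _ _ φ hp', hφ', dotProduct_sub, hφa, dotProduct_single, mul_one, zero_sub,
      neg_smul, sub_eq_add_neg]
  have hτ₁ : ∀ y : GLn, (y : Mn) = 1 + vecMulVec (Pi.single i₁ (1 : F)) φ' → y ∈ H :=
    move H τ hτH _ _ hτv p'⁻¹ (H.inv_mem (hPH hp'P)) _ _ (inv_mulVec_eq p' hp'a) (by
      have := vecMul_inv_eq p' hφ'p
      exact this)
  have hφ'i : φ' i₁ = 0 := by
    rw [hφ', Pi.sub_apply, Pi.smul_apply, Pi.single_eq_same, smul_eq_mul, mul_one, sub_self]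
  have hφ'j : φ' j₂ = φ j₂ := by
    rw [hφ', Pi.sub_apply, Pi.smul_apply, Pi.single_apply, if_neg (by rintro rfl; omega), smul_zero,
      sub_zero]
  obtain ⟨τ₁, hτ₁v⟩ := exists_r (Pi.single i₁ (1 : F)) φ' (by
    rw [dotProduct_single, mul_one, hφ'i, add_zero]; exact one_ne_zero)
  have hτ₁H := hτ₁ τ₁ hτ₁v
  -- step 3: remove the coordinates of φ' outside the first k
  obtain ⟨ψ, hψ⟩ : ∃ ψ : Fin n → F, ψ = fun b : Fin n => if (b : ℕ) < k then φ' b else 0 := ⟨_, rfl⟩
  obtain ⟨y₁, hy₁⟩ := exists_r (Pi.single i₁ (1 : F)) (ψ - φ') (by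
    rw [dotProduct_single, mul_one, Pi.sub_apply, hφ'i, hψ]
    simp only
    rw [if_neg (by omega), sub_zero, add_zero]
    exact one_ne_zero)
  have hy₁P : y₁ ∈ P F n k := r_mem_P y₁ _ _ hy₁ (Or.inr (fun b hb => by
    rw [Pi.sub_apply, hψ]
    simp only
    rw [if_pos hb, sub_self]))
  have hτ₂ : ∀ y : GLn, (y : Mn) = 1 + vecMulVec (Pi.single i₁ (1 : F)) ψ → y ∈ H := by
    have := split_right H τ₁ hτ₁H _ _ _ hτ₁v y₁ (hPH hy₁P) hy₁ (by
      rw [dotProduct_single, mul_one, hφ'i])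
    rwa [add_sub_cancel] at this
  have hψi : ψ i₁ = 0 := by
    rw [hψ]; simp only; rw [if_neg (by omega)]
  have hψj : ψ j₂ = φ j₂ := by
    rw [hψ]; simp only; rw [if_pos hj₂, hφ'j]
  have hψ0 : ∀ b : Fin n, k ≤ (b : ℕ) → ψ b = 0 := by
    intro b hb
    rw [hψ]; simp only; rw [if_neg (by omega)]
  obtain ⟨τ₂, hτ₂v⟩ := exists_r (Pi.single i₁ (1 : F)) ψ (by
    rw [dotProduct_single, mul_one, hψi, add_zero]; exact one_ne_zero)
  have hτ₂H := hτ₂ τ₂ hτ₂v
  -- step 4: row replacement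
  obtain ⟨q, hq⟩ := exists_r (Pi.single j₂ (1 : F)) (ψ - Pi.single j₂ (1 : F)) (by
    rw [dotProduct_single, mul_one, Pi.sub_apply, Pi.single_eq_same, hψj]
    simpa using hφj)
  have hqP : q ∈ P F n k := r_mem_P q _ _ hq (Or.inl (fun i hi => by
    rw [Pi.single_apply, if_neg]; rintro rfl; omega))
  refine move H τ₂ hτ₂H _ _ hτ₂v q (hPH hqP) _ _ ?_ ?_
  · rw [r_mulVec q _ _ _ hq, dotProduct_single, mul_one, Pi.sub_apply, hψi, Pi.single_apply,
      if_neg (by rintro rfl; omega), sub_zero, zero_smul, add_zero]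
  · rw [vecMul_r q _ _ _ hq, single_dotProduct, one_mul, Pi.single_eq_same, one_smul]
    abel

theorem single_dot_single (i j : Fin n) (c d : F) (hij : i ≠ j) :
    (Pi.single i c : Fin n → F) ⬝ᵥ (Pi.single j d) = 0 := by
  rw [single_dotProduct, Pi.single_apply, if_neg hij, mul_zero]

/-- all lower left elementary transvections -/
theorem all_lower [Finite F] {k : ℕ} (H : Subgroup GLn) (hPH : P F n k ≤ H) (i₁ j₂ : Fin n)
    (hi₁ : k ≤ (i₁ : ℕ)) (hj₂ : (j₂ : ℕ) < k)
    (hE : ∀ y : GLn, (y : Mn) = 1 + vecMulVec (Pi.single i₁ (1 : F)) (Pi.single j₂ (1 : F)) → y ∈ H)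
    (a b : Fin n) (ha : k ≤ (a : ℕ)) (hb : (b : ℕ) < k) (c : F) :
    ∀ y : GLn, (y : Mn) = 1 + vecMulVec (Pi.single a c) (Pi.single b (1 : F)) → y ∈ H := by
  classical
  -- 5a
  have h5a : ∀ a : Fin n, k ≤ (a : ℕ) →
      ∀ y : GLn, (y : Mn) = 1 + vecMulVec (Pi.single a (1 : F)) (Pi.single j₂ (1 : F)) → y ∈ H := by
    intro a ha
    by_cases hai : a = i₁
    · subst hai; exact hE
    have hj₂a : j₂ ≠ a := by rintro rfl; omega
    have hj₂i : j₂ ≠ i₁ := by rintro rfl; omega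
    obtain ⟨τ₃, hτ₃⟩ := exists_r (Pi.single i₁ (1 : F) : Fin n → F) (Pi.single j₂ (1 : F)) (by
      rw [single_dot_single _ _ _ _ hj₂i, add_zero]; exact one_ne_zero)
    have hτ₃H := hE τ₃ hτ₃
    obtain ⟨g, hg⟩ := exists_r (Pi.single a (1 : F) : Fin n → F) (Pi.single i₁ (1 : F)) (by
      rw [single_dot_single _ _ _ _ (Ne.symm hai), add_zero]; exact one_ne_zero)
    have hgP : g ∈ P F n k := r_mem_P g _ _ hg (Or.inr (fun b hb => by
      rw [Pi.single_apply, if_neg]; rintro rfl; omega))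
    have h1 : ∀ y : GLn, (y : Mn) = 1 + vecMulVec (Pi.single i₁ (1 : F) + Pi.single a (1 : F))
        (Pi.single j₂ (1 : F)) → y ∈ H :=
      move H τ₃ hτ₃H _ _ hτ₃ g (hPH hgP) _ _ (by
        rw [r_mulVec g _ _ _ hg, single_dotProduct, one_mul, Pi.single_eq_same, one_smul]) (by
        rw [vecMul_r g _ _ _ hg, single_dot_single _ _ _ _ hj₂a, zero_smul, add_zero])
    obtain ⟨y₁, hy₁⟩ := exists_r (Pi.single i₁ (1 : F) + Pi.single a (1 : F) : Fin n → F)
        (Pi.single j₂ (1 : F)) (by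
      rw [dotProduct_add, single_dot_single _ _ _ _ hj₂i, single_dot_single _ _ _ _ hj₂a, add_zero,
        add_zero]; exact one_ne_zero)
    have hinv := inv_val τ₃ _ _ hτ₃ (single_dot_single _ _ _ _ hj₂i)
    rw [vecMulVec_neg, ← neg_vecMulVec] at hinv
    have := split_left H τ₃⁻¹ (H.inv_mem hτ₃H) _ _ _ hinv y₁ (h1 y₁ hy₁) hy₁ (by
      rw [dotProduct_add, single_dot_single _ _ _ _ hj₂i, single_dot_single _ _ _ _ hj₂a, add_zero])
    rwa [neg_add_cancel_left] at this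
  -- 5b
  have h5b : ∀ a b : Fin n, k ≤ (a : ℕ) → (b : ℕ) < k →
      ∀ y : GLn, (y : Mn) = 1 + vecMulVec (Pi.single a (1 : F)) (Pi.single b (1 : F)) → y ∈ H := by
    intro a b ha hb
    by_cases hbj : b = j₂
    · subst hbj; exact h5a a ha
    have hba : b ≠ a := by rintro rfl; omega
    have hj₂a : j₂ ≠ a := by rintro rfl; omega
    obtain ⟨x, hx⟩ := exists_r (Pi.single a (1 : F) : Fin n → F) (Pi.single j₂ (1 : F)) (by
      rw [single_dot_single _ _ _ _ hj₂a, add_zero]; exact one_ne_zero)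
    have hxH := h5a a ha x hx
    obtain ⟨g', hg'⟩ := exists_r (Pi.single j₂ (1 : F) : Fin n → F) (Pi.single b (1 : F)) (by
      rw [single_dot_single _ _ _ _ hbj, add_zero]; exact one_ne_zero)
    have hg'P : g' ∈ P F n k := r_mem_P g' _ _ hg' (Or.inl (fun i hi => by
      rw [Pi.single_apply, if_neg]; rintro rfl; omega))
    have h1 : ∀ y : GLn, (y : Mn) = 1 + vecMulVec (Pi.single a (1 : F))
        (Pi.single j₂ (1 : F) + Pi.single b (1 : F)) → y ∈ H :=
      move H x hxH _ _ hx g'⁻¹ (H.inv_mem (hPH hg'P)) _ _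
        (inv_mulVec_eq g' (by
          rw [r_mulVec g' _ _ _ hg', single_dot_single _ _ _ _ hba, zero_smul, add_zero]))
        (vecMul_inv_eq g' (by
          rw [vecMul_r g' _ _ _ hg', single_dotProduct, one_mul, Pi.single_eq_same, one_smul]))
    obtain ⟨y₁, hy₁⟩ := exists_r (Pi.single a (1 : F) : Fin n → F)
        (Pi.single j₂ (1 : F) + Pi.single b (1 : F)) (by
      rw [add_dotProduct, single_dot_single _ _ _ _ hj₂a, single_dot_single _ _ _ _ hba, add_zero,
        add_zero]; exact one_ne_zero)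
    have hinv := inv_val x _ _ hx (single_dot_single _ _ _ _ hj₂a)
    have := split_right H x⁻¹ (H.inv_mem hxH) _ _ _ hinv y₁ (h1 y₁ hy₁) hy₁ (by
      rw [neg_dotProduct, single_dot_single _ _ _ _ hj₂a, neg_zero])
    rwa [neg_add_cancel_left] at this
  -- 5c
  intro y hy
  by_cases hc : c = 0
  · subst hc
    have : y = 1 := by
      apply Units.ext
      rw [hy, Pi.single_zero, zero_vecMulVec, add_zero, Units.val_one]
    rw [this]; exact H.one_mem
  have hba : b ≠ a := by rintro rfl; omega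
  obtain ⟨x, hx⟩ := exists_r (Pi.single a (1 : F) : Fin n → F) (Pi.single b (1 : F)) (by
    rw [single_dot_single _ _ _ _ hba, add_zero]; exact one_ne_zero)
  have hxH := h5b a b ha hb x hx
  obtain ⟨d, hd⟩ := exists_r ((c - 1) • Pi.single a (1 : F) : Fin n → F) (Pi.single a (1 : F)) (by
    rw [dotProduct_smul, single_dotProduct, one_mul, Pi.single_eq_same, smul_eq_mul, mul_one,
      add_sub_cancel]
    exact hc)
  have hdP : d ∈ P F n k := r_mem_P d _ _ hd (Or.inr (fun b hb => by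
    rw [Pi.single_apply, if_neg]; rintro rfl; omega))
  refine move H x hxH _ _ hx d (hPH hdP) _ _ ?_ ?_ y hy
  · rw [r_mulVec d _ _ _ hd, single_dotProduct, one_mul, Pi.single_eq_same, one_smul]
    ext i
    simp only [Pi.add_apply, Pi.smul_apply, Pi.single_apply, smul_eq_mul]
    split_ifs <;> ring
  · rw [vecMul_r d _ _ _ hd, dotProduct_smul, single_dot_single _ _ _ _ hba, smul_zero, zero_smul,
      add_zero]

end

/-- Maximal parabolics are maximal: over a finite field, for 0 < k < n the stabiliser in GL_n of the span of the first k coordinate vectors is a maximal proper subgroup. -/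
theorem result {F : Type*} [Field F] [Finite F] (n k : ℕ) (hk0 : 0 < k) (hkn : k < n) : IsCoatom (Cfsg.stabilizing (Cfsg.glToMat (Fin n) F) {v : Fin n → F | ∀ i : Fin n, k ≤ (i : ℕ) → v i = 0}) := by
  classical
  show IsCoatom (P F n k)
  constructor
  · intro htop
    obtain ⟨x, hx⟩ := exists_r (Pi.single (⟨k, hkn⟩ : Fin n) (1 : F) : Fin n → F)
      (Pi.single (⟨0, by omega⟩ : Fin n) (1 : F)) (by
        rw [single_dot_single _ _ _ _ (by intro h; have := congrArg Fin.val h; simp at this; omega),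
          add_zero]; exact one_ne_zero)
    have hxP : x ∈ P F n k := by rw [htop]; exact Subgroup.mem_top x
    rw [mem_P_iff] at hxP
    have := hxP ⟨k, hkn⟩ ⟨0, by omega⟩ le_rfl hk0
    rw [hx, Matrix.add_apply, Matrix.one_apply_ne (by intro h; have := congrArg Fin.val h; simp at this; omega),
      vecMulVec_apply, Pi.single_eq_same, Pi.single_eq_same] at this
    simp at this
  · intro H hlt
    obtain ⟨h, hH, hP⟩ := SetLike.exists_of_lt hlt
    obtain ⟨i₁, j₂, hi₁, hj₂, hE⟩ := exists_elementary H hlt.le h hH hP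
    rw [eq_top_iff]
    intro g _
    have key : ∀ M : Matrix (Fin n) (Fin n) F, M.det ≠ 0 →
        ∃ g' ∈ H, ((g' : Matrix.GeneralLinearGroup (Fin n) F) : Matrix (Fin n) (Fin n) F) = M := by
      intro M hM
      refine Matrix.diagonal_transvection_induction_of_det_ne_zero
        (fun M => ∃ g' ∈ H, ((g' : Matrix.GeneralLinearGroup (Fin n) F) : Matrix (Fin n) (Fin n) F) = M)
        M hM ?_ ?_ ?_
      · intro D hD
        refine ⟨Matrix.GeneralLinearGroup.mkOfDetNeZero (Matrix.diagonal D) hD, hlt.le ?_, rfl⟩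
        rw [mem_P_iff]
        intro a b ha hb
        show Matrix.diagonal D a b = 0
        rw [Matrix.diagonal_apply_ne _ (by rintro rfl; omega)]
      · intro t
        have hsingle : t.toMatrix = 1 + vecMulVec (Pi.single t.i t.c) (Pi.single t.j (1 : F)) := by
          rw [Matrix.TransvectionStruct.toMatrix, Matrix.transvection]
          congr 1
          ext a b
          rw [Matrix.single_apply, vecMulVec_apply, Pi.single_apply, Pi.single_apply]
          by_cases h1 : a = t.i <;> by_cases h2 : b = t.j <;> simp [h1, h2, eq_comm]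
        obtain ⟨x, hx⟩ := exists_r (Pi.single t.i t.c : Fin n → F) (Pi.single t.j (1 : F)) (by
          rw [single_dot_single _ _ _ _ (Ne.symm t.hij), add_zero]; exact one_ne_zero)
        refine ⟨x, ?_, hx.trans hsingle.symm⟩
        by_cases hcase : k ≤ (t.i : ℕ) ∧ (t.j : ℕ) < k
        · exact all_lower H hlt.le i₁ j₂ hi₁ hj₂ hE t.i t.j hcase.1 hcase.2 t.c x hx
        · apply hlt.le
          apply r_mem_P x _ _ hx
          by_cases hi : k ≤ (t.i : ℕ)
          · right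
            intro b hb
            rw [Pi.single_apply, if_neg]
            rintro rfl
            exact hcase ⟨hi, hb⟩
          · left
            intro i hi'
            rw [Pi.single_apply, if_neg]
            rintro rfl
            exact hi hi'
      · rintro A B _ _ ⟨g₁, hg₁, rfl⟩ ⟨g₂, hg₂, rfl⟩
        exact ⟨g₁ * g₂, H.mul_mem hg₁ hg₂, Units.val_mul _ _⟩
    obtain ⟨g', hg'H, hg'⟩ := key (g : Matrix (Fin n) (Fin n) F)
      ((Matrix.isUnit_iff_isUnit_det _).mp (Units.isUnit g)).ne_zero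
    have : g' = g := Units.ext hg'
    rw [← this]
    exact hg'H

end Cfsg.Agent.S0772
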