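import Mathlib
import Cfsg.Statements.S0773
import Cfsg.Agent.Lib.Helper5.GLParabolic

set_option autoImplicit false
open Cfsg

namespace Cfsg.Agent.S0773

open Matrix Cfsg.Agent.Lib.Helper5.GLParabolic

/-- inverse transpose composed with reversal of the coordinates -/
noncomputable def dualRev (F : Type*) [Field F] (n : ℕ) :
    Matrix.GeneralLinearGroup (Fin n) F →* Matrix.GeneralLinearGroup (Fin n) F :=
  MonoidHom.mk' (fun g =>
    ⟨((g⁻¹ : Matrix.GeneralLinearGroup (Fin n) F) : Matrix (Fin n) (Fin n) F)ᵀ.submatrix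
        (Fin.revPerm : Equiv.Perm (Fin n)) (Fin.revPerm : Equiv.Perm (Fin n)),
      (g : Matrix (Fin n) (Fin n) F)ᵀ.submatrix
        (Fin.revPerm : Equiv.Perm (Fin n)) (Fin.revPerm : Equiv.Perm (Fin n)),
      by
        rw [Matrix.submatrix_mul_equiv, ← Matrix.transpose_mul, ← Units.val_mul, mul_inv_cancel,
          Units.val_one, Matrix.transpose_one, Matrix.submatrix_one_equiv],
      by
        rw [Matrix.submatrix_mul_equiv, ← Matrix.transpose_mul, ← Units.val_mul, inv_mul_cancel,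
          Units.val_one, Matrix.transpose_one, Matrix.submatrix_one_equiv]⟩)
    (fun g h => by
      apply Units.ext
      show ((g * h)⁻¹ : Matrix.GeneralLinearGroup (Fin n) F).valᵀ.submatrix _ _ =
        ((g⁻¹ : Matrix.GeneralLinearGroup (Fin n) F).valᵀ.submatrix _ _) *
          ((h⁻¹ : Matrix.GeneralLinearGroup (Fin n) F).valᵀ.submatrix _ _)
      rw [Matrix.submatrix_mul_equiv, ← Matrix.transpose_mul, ← Units.val_mul, _root_.mul_inv_rev])

theorem dualRev_apply {F : Type*} [Field F] {n : ℕ} (g : Matrix.GeneralLinearGroup (Fin n) F)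
    (a b : Fin n) :
    ((dualRev F n g : Matrix.GeneralLinearGroup (Fin n) F) : Matrix (Fin n) (Fin n) F) a b =
      ((g⁻¹ : Matrix.GeneralLinearGroup (Fin n) F) : Matrix (Fin n) (Fin n) F) (Fin.rev b) (Fin.rev a) :=
  rfl

theorem dualRev_inv_apply {F : Type*} [Field F] {n : ℕ} (g : Matrix.GeneralLinearGroup (Fin n) F)
    (a b : Fin n) :
    (((dualRev F n g)⁻¹ : Matrix.GeneralLinearGroup (Fin n) F) : Matrix (Fin n) (Fin n) F) a b =
      (g : Matrix (Fin n) (Fin n) F) (Fin.rev b) (Fin.rev a) :=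
  rfl

theorem dualRev_dualRev {F : Type*} [Field F] {n : ℕ} (g : Matrix.GeneralLinearGroup (Fin n) F) :
    dualRev F n (dualRev F n g) = g := by
  apply Units.ext
  ext a b
  rw [dualRev_apply, dualRev_inv_apply, Fin.rev_rev, Fin.rev_rev]

theorem dualRev_mem {F : Type*} [Field F] [Finite F] {n k : ℕ} (hk0 : 0 < k) (hkn : k < n)
    (g : Matrix.GeneralLinearGroup (Fin n) F) (hg : g ∈ P F n k) : dualRev F n g ∈ P F n (n - k) := by
  have hg' : g⁻¹ ∈ P F n k := inv_mem hg
  rw [mem_P_iff] at hg' ⊢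
  intro a b ha hb
  rw [dualRev_apply]
  apply hg'
  · rw [Fin.val_rev]; omega
  · rw [Fin.val_rev]; omega

theorem iso_part {F : Type*} [Field F] [Finite F] (n k : ℕ) (hk0 : 0 < k) (hkn : k < n) :
    Nonempty (↥(P F n k) ≃* ↥(P F n (n - k))) := by
  have hnk : n - (n - k) = k := by omega
  refine ⟨{
    toFun := fun x => ⟨dualRev F n x.1, dualRev_mem hk0 hkn x.1 x.2⟩
    invFun := fun y => ⟨dualRev F n y.1, by
      have := dualRev_mem (k := n - k) (by omega) (by omega) y.1 y.2
      rwa [hnk] at this⟩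
    left_inv := fun x => Subtype.ext (dualRev_dualRev x.1)
    right_inv := fun y => Subtype.ext (dualRev_dualRev y.1)
    map_mul' := fun x y => Subtype.ext (map_mul (dualRev F n) x.1 y.1) }⟩

theorem nonconj_part {F : Type*} [Field F] [Finite F] (n k : ℕ) (hk0 : 0 < k) (hkn : k < n)
    (h2 : 2 * k ≠ n) (g : Matrix.GeneralLinearGroup (Fin n) F) :
    (P F n k).map (MulAut.conj g).toMonoidHom ≠ P F n (n - k) := by
  intro heq
  let e : (Fin n → F) ≃ₗ[F] (Fin n → F) :=
    Matrix.toLin'OfInv (M := ((g⁻¹ : Matrix.GeneralLinearGroup (Fin n) F) : Matrix (Fin n) (Fin n) F))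
      (M' := (g : Matrix (Fin n) (Fin n) F))
      (by rw [← Units.val_mul, inv_mul_cancel, Units.val_one])
      (by rw [← Units.val_mul, mul_inv_cancel, Units.val_one])
  have he : ∀ v, e v = (g : Matrix (Fin n) (Fin n) F) *ᵥ v := fun v => rfl
  let W : Submodule F (Fin n → F) := (Usub F n k).map (e : (Fin n → F) →ₗ[F] (Fin n → F))
  have hfr : Module.finrank F W = Module.finrank F (Usub F n k) := LinearEquiv.finrank_map_eq e _
  have hinv : ∀ x ∈ P F n (n - k), ∀ w ∈ W, (x : Matrix (Fin n) (Fin n) F) *ᵥ w ∈ W := by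
    intro x hx w hw
    rw [← heq] at hx
    obtain ⟨y, hy, rfl⟩ := hx
    obtain ⟨u, hu, rfl⟩ := hw
    refine ⟨(y : Matrix (Fin n) (Fin n) F) *ᵥ u, (hy u).mp hu, ?_⟩
    show e ((y : Matrix (Fin n) (Fin n) F) *ᵥ u) = _ *ᵥ (e u)
    rw [he, he]
    show _ = ((g * y * g⁻¹ : Matrix.GeneralLinearGroup (Fin n) F) : Matrix (Fin n) (Fin n) F) *ᵥ _
    rw [Matrix.mulVec_mulVec, Matrix.mulVec_mulVec, ← Units.val_mul, ← Units.val_mul,
      inv_mul_cancel_right]
  have h0 : 0 < Module.finrank F (Usub F n k) := by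
    have := Submodule.finrank_lt_finrank_of_lt (Usub_lt (F := F) (n := n) hk0 (by omega))
    omega
  rcases invariant_submodule W hinv with hW | hW | hW
  · rw [hW, finrank_bot] at hfr
    omega
  · rw [hW] at hfr
    rcases Nat.lt_or_ge k (n - k) with hlt | hge
    · have := Submodule.finrank_lt_finrank_of_lt (Usub_lt (F := F) (n := n) hlt hkn)
      omega
    · have hlt : n - k < k := by omega
      have := Submodule.finrank_lt_finrank_of_lt (Usub_lt (F := F) (n := n) hlt (by omega))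
      omega
  · rw [hW] at hfr
    have := Submodule.finrank_lt_finrank_of_lt (Usub_lt_top (F := F) (n := n) hkn)
    omega

/-- The stabilisers in GL_n(F), F finite, of the coordinate subspaces of dimensions k and n − k are isomorphic groups, but when 2k ≠ n (and 0 < k < n) no element of GL_n conjugates one onto the other. -/
theorem result {F : Type*} [Field F] [Finite F] (n k : ℕ) (hk0 : 0 < k) (hkn : k < n) (h2 : 2 * k ≠ n) : Nonempty (↥(Cfsg.stabilizing (Cfsg.glToMat (Fin n) F) {v : Fin n → F | ∀ i : Fin n, k ≤ (i : ℕ) → v i = 0}) ≃* ↥(Cfsg.stabilizing (Cfsg.glToMat (Fin n) F) {v : Fin n → F | ∀ i : Fin n, n - k ≤ (i : ℕ) → v i = 0})) ∧ ∀ g : Matrix.GeneralLinearGroup (Fin n) F, (Cfsg.stabilizing (Cfsg.glToMat (Fin n) F) {v : Fin n → F | ∀ i : Fin n, k ≤ (i : ℕ) → v i = 0}).map (MulAut.conj g).toMonoidHom ≠ Cfsg.stabilizing (Cfsg.glToMat (Fin n) F) {v : Fin n → F | ∀ i : Fin n, n - k ≤ (i : ℕ) → v i = 0} := by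
  exact ⟨iso_part n k hk0 hkn, nonconj_part n k hk0 hkn h2⟩

end Cfsg.Agent.S0773
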