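import Mathlib
import Cfsg.Statements.S0774
import Cfsg.Agent.Lib.Helper5.SympFrames

set_option autoImplicit false
open Cfsg

namespace Cfsg.Agent.S0774

open Matrix Cfsg.Agent.Lib.Helper5.SympTv Cfsg.Agent.Lib.Helper5.SympGen
  Cfsg.Agent.Lib.Helper5.SympBridge Cfsg.Agent.Lib.Helper5.SympFrames

section geom
variable {F : Type*} [Field F] (m : ℕ)

attribute [local instance] frameAction

/-- the first half of the standard basis -/
abbrev e (j : Fin m) : Fin m ⊕ Fin m → F := Pi.single (Sum.inl j) 1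

/-- span of the first `j` basis vectors, by coordinates -/
def Wlt (j : ℕ) : Submodule F (Fin m ⊕ Fin m → F) where
  carrier := {v | (∀ i : Fin m, j ≤ (i : ℕ) → v (Sum.inl i) = 0) ∧ ∀ i : Fin m, v (Sum.inr i) = 0}
  add_mem' := by
    rintro a b ⟨ha1, ha2⟩ ⟨hb1, hb2⟩
    refine ⟨fun i hi => ?_, fun i => ?_⟩
    · rw [Pi.add_apply, ha1 i hi, hb1 i hi, add_zero]
    · rw [Pi.add_apply, ha2 i, hb2 i, add_zero]
  zero_mem' := ⟨fun i _ => rfl, fun i => rfl⟩
  smul_mem' := by
    rintro c a ⟨ha1, ha2⟩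
    refine ⟨fun i hi => ?_, fun i => ?_⟩
    · rw [Pi.smul_apply, ha1 i hi, smul_zero]
    · rw [Pi.smul_apply, ha2 i, smul_zero]

theorem mem_Wlt (j : ℕ) (v : Fin m ⊕ Fin m → F) :
    v ∈ Wlt (F := F) m j ↔
      (∀ i : Fin m, j ≤ (i : ℕ) → v (Sum.inl i) = 0) ∧ ∀ i : Fin m, v (Sum.inr i) = 0 := Iff.rfl

theorem Wlt_mono {j j' : ℕ} (h : j ≤ j') : Wlt (F := F) m j ≤ Wlt m j' := by
  intro v hv
  exact ⟨fun i hi => hv.1 i (le_trans h hi), hv.2⟩

/-- span of the first `j` members of a family -/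
def pre (t : Fin m → (Fin m ⊕ Fin m → F)) (j : ℕ) : Submodule F (Fin m ⊕ Fin m → F) :=
  Submodule.span F (Set.range (fun i : {i : Fin m // (i : ℕ) < j} => t i.1))

theorem e_mem_Wlt (i : Fin m) (j : ℕ) (h : (i : ℕ) < j) : (e m i : Fin m ⊕ Fin m → F) ∈ Wlt m j := by
  refine ⟨fun i' hi' => ?_, fun i' => ?_⟩
  · unfold e
    rw [Pi.single_apply, if_neg]
    intro h'
    have := Sum.inl.inj h'
    rw [this] at hi'
    omega
  · unfold e
    rw [Pi.single_apply, if_neg]
    exact fun h => by cases h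

theorem Wlt_eq_pre (j : ℕ) : Wlt (F := F) m j = pre m (e m) j := by
  apply le_antisymm
  · intro v hv
    rw [← Finset.univ_sum_single v]
    apply Submodule.sum_mem
    intro x _
    rcases x with i | i
    · by_cases hi : (i : ℕ) < j
      · have : (Pi.single (Sum.inl i) (v (Sum.inl i)) : Fin m ⊕ Fin m → F) =
            v (Sum.inl i) • e m i := by
          rw [← Pi.single_smul, smul_eq_mul, mul_one]
        rw [this]
        apply Submodule.smul_mem
        exact Submodule.subset_span ⟨⟨i, hi⟩, rfl⟩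
      · rw [hv.1 i (by omega), Pi.single_zero]
        exact Submodule.zero_mem _
    · rw [hv.2 i, Pi.single_zero]
      exact Submodule.zero_mem _
  · unfold pre
    rw [Submodule.span_le]
    rintro _ ⟨i, rfl⟩
    exact e_mem_Wlt m i.1 j i.2

/-- adapted frames -/
def InT (t : Fin m → (Fin m ⊕ Fin m → F)) : Prop :=
  ∀ j : Fin m, t j ∈ Wlt m ((j : ℕ) + 1) ∧ t j (Sum.inl j) ≠ 0

theorem e_InT : InT m (e (F := F) m) := by
  intro j
  refine ⟨e_mem_Wlt m j _ (by omega), ?_⟩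
  unfold e
  rw [Pi.single_apply, if_pos rfl]
  exact one_ne_zero

theorem linearIndependent_of_InT (t : Fin m → (Fin m ⊕ Fin m → F)) (ht : InT m t) :
    LinearIndependent F t := by
  have h1 : LinearIndependent F (fun j : Fin m => fun i : Fin m => t j (Sum.inl i)) := by
    have hdet : (Matrix.of (fun j i : Fin m => t j (Sum.inl i))).det ≠ 0 := by
      rw [Matrix.det_of_isLowerTriangular]
      · rw [Finset.prod_ne_zero_iff]
        intro j _
        exact (ht j).2
      · intro i j hij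
        have hij' : i < j := by simpa using hij
        exact (ht i).1.1 j (by
          have : (i : ℕ) < (j : ℕ) := hij'
          omega)
    exact Matrix.linearIndependent_rows_of_det_ne_zero hdet
  let φ : (Fin m ⊕ Fin m → F) →ₗ[F] (Fin m → F) :=
    LinearMap.funLeft F F (Sum.inl : Fin m → Fin m ⊕ Fin m)
  exact LinearIndependent.of_comp φ h1

theorem sympForm_eq_zero_of_mem (u v : Fin m ⊕ Fin m → F) (j j' : ℕ) (hu : u ∈ Wlt m j)
    (hv : v ∈ Wlt m j') : sympForm m F u v = 0 := by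
  unfold sympForm
  simp only [dotProduct, mulVec, J, Fintype.sum_sum_type, Matrix.fromBlocks_apply₁₁,
    Matrix.fromBlocks_apply₁₂, Matrix.fromBlocks_apply₂₁, Matrix.fromBlocks_apply₂₂,
    Matrix.zero_apply, zero_mul, Finset.sum_const_zero, zero_add, add_zero, Matrix.neg_apply,
    Matrix.one_apply, neg_mul, ite_mul, one_mul, Finset.sum_neg_distrib, Finset.sum_ite_eq,
    Finset.mem_univ, if_true, mul_neg, hu.2, hv.2]
  simp

theorem isIso_of_InT (t : Fin m → (Fin m ⊕ Fin m → F)) (ht : InT m t) : IsIso m t :=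
  ⟨linearIndependent_of_InT m t ht, fun i j =>
    sympForm_eq_zero_of_mem m _ _ _ _ (ht i).1 (ht j).1⟩

theorem pre_le (t : Fin m → (Fin m ⊕ Fin m → F)) (ht : InT m t) (j : ℕ) : pre m t j ≤ Wlt m j := by
  unfold pre
  rw [Submodule.span_le]
  rintro _ ⟨i, rfl⟩
  exact Wlt_mono m (by have := i.2; omega) (ht i.1).1

theorem finrank_pre (t : Fin m → (Fin m ⊕ Fin m → F)) (ht : LinearIndependent F t) (j : ℕ) :
    Module.finrank F (pre m t j) = Fintype.card {i : Fin m // (i : ℕ) < j} := by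
  unfold pre
  exact finrank_span_eq_card (ht.comp _ Subtype.val_injective)

theorem pre_eq (t : Fin m → (Fin m ⊕ Fin m → F)) (ht : InT m t) (j : ℕ) : pre m t j = Wlt m j := by
  apply Submodule.eq_of_le_of_finrank_eq (pre_le m t ht j)
  rw [Wlt_eq_pre, finrank_pre m t (linearIndependent_of_InT m t ht),
    finrank_pre m _ (linearIndependent_of_InT m _ (e_InT m))]

theorem map_pre (g : symplecticGroup (Fin m) F) (t : Fin m → (Fin m ⊕ Fin m → F)) (j : ℕ) :
    (pre m t j).map (linEquiv m g).toLinearMap = pre m (g • t) j := by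
  unfold pre
  rw [Submodule.map_span, ← Set.range_comp]
  congr 2

/-- the Borel subgroup of the statement -/
abbrev Borel (F : Type*) [Field F] (m : ℕ) : Subgroup (symplecticGroup (Fin m) F) :=
  ⨅ k : Fin m, Cfsg.stabilizing (Cfsg.spToMat m F)
    {v : Fin m ⊕ Fin m → F | (∀ i : Fin m, (k : ℕ) < (i : ℕ) → v (Sum.inl i) = 0) ∧
      ∀ i : Fin m, v (Sum.inr i) = 0}

theorem mem_Borel_of (g : symplecticGroup (Fin m) F) (t : Fin m → (Fin m ⊕ Fin m → F))
    (ht : InT m t) (hg : g • (e (F := F) m) = t) : g ∈ Borel F m := by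
  rw [Subgroup.mem_iInf]
  intro k
  have := mem_stabilizing_of_map_eq m g (Wlt m ((k : ℕ) + 1)) (by
    conv_lhs => rw [Wlt_eq_pre]
    rw [map_pre, hg, pre_eq m t ht])
  exact this

theorem InT_of_mem_Borel (g : symplecticGroup (Fin m) F) (hg : g ∈ Borel F m) :
    InT m (g • (e (F := F) m)) := by
  rw [Subgroup.mem_iInf] at hg
  intro j
  have h1 : (g • (e (F := F) m)) j ∈ Wlt m ((j : ℕ) + 1) := by
    rw [Cfsg.Agent.Lib.Helper5.SympFrames.smul_apply]
    exact ((hg j) (e m j)).mp (e_mem_Wlt m j _ (by omega))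
  refine ⟨h1, fun h0 => ?_⟩
  have h2 : (g • (e (F := F) m)) j ∈ Wlt m (j : ℕ) := by
    refine ⟨fun i hi => ?_, h1.2⟩
    rcases Nat.eq_or_lt_of_le hi with h | h
    · have : i = j := Fin.ext h.symm
      rw [this]; exact h0
    · exact h1.1 i (by omega)
  have h3 : (e (F := F) m j) ∈ Wlt m (j : ℕ) := by
    by_cases hj : (j : ℕ) = 0
    · -- `Wlt 0 = 0`
      have hz : (g • (e (F := F) m)) j = 0 := by
        rw [hj] at h2
        funext x
        rcases x with i | i
        · exact h2.1 i (Nat.zero_le _)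
        · exact h2.2 i
      rw [Cfsg.Agent.Lib.Helper5.SympFrames.smul_apply, ← linEquiv_apply, LinearEquiv.map_eq_zero_iff] at hz
      rw [hz]
      exact Submodule.zero_mem _
    · obtain ⟨j', hj'⟩ : ∃ j' : ℕ, (j : ℕ) = j' + 1 := ⟨(j : ℕ) - 1, by omega⟩
      have hlt : j' < m := by have := j.2; omega
      have := (hg ⟨j', hlt⟩) (e m j)
      rw [Cfsg.Agent.Lib.Helper5.SympFrames.smul_apply, hj'] at h2
      rw [hj']
      exact this.mpr h2
  have h4 := h3.1 j le_rfl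
  unfold e at h4
  rw [Pi.single_apply, if_pos rfl] at h4
  exact one_ne_zero h4

theorem orbit_Borel :
    MulAction.orbit ↥(Borel F m) (e (F := F) m) = {t | InT m t} := by
  ext t
  constructor
  · rintro ⟨p, rfl⟩
    show InT m ((p.1 : symplecticGroup (Fin m) F) • (e (F := F) m))
    exact InT_of_mem_Borel m p.1 p.2
  · intro ht
    obtain ⟨g, hg⟩ := exists_smul_eq m m (e (F := F) m) t (isIso_of_InT m _ (e_InT m)) (isIso_of_InT m t ht)
    exact ⟨⟨g, mem_Borel_of m g t ht hg⟩, hg⟩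

theorem stabilizer_le_Borel :
    MulAction.stabilizer (symplecticGroup (Fin m) F) (e (F := F) m) ≤ Borel F m := by
  intro g hg
  rw [MulAction.mem_stabilizer_iff] at hg
  exact mem_Borel_of m g _ (e_InT m) hg

end geom

section count
variable {F : Type*} [Field F] [Fintype F] (m : ℕ)

attribute [local instance] frameAction

theorem card_lt (j : ℕ) (hj : j ≤ m) : Fintype.card {i : Fin m // (i : ℕ) < j} = j := by
  refine (Fintype.card_congr ?_).trans (Fintype.card_fin j)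
  exact
    { toFun := fun i => ⟨i.1.1, i.2⟩
      invFun := fun i => ⟨⟨i.1, lt_of_lt_of_le i.2 hj⟩, i.2⟩
      left_inv := fun i => rfl
      right_inv := fun i => rfl }

theorem card_Wlt (j : ℕ) (hj : j ≤ m) : Nat.card (Wlt (F := F) m j) = Fintype.card F ^ j := by
  rw [Module.natCard_eq_pow_finrank (K := F) (V := Wlt (F := F) m j), Wlt_eq_pre,
    finrank_pre m _ (linearIndependent_of_InT m _ (e_InT m)), card_lt m j hj,
    Nat.card_eq_fintype_card]

theorem card_Tj (j : Fin m) :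
    Nat.card {v : Fin m ⊕ Fin m → F // v ∈ Wlt m ((j : ℕ) + 1) ∧ v (Sum.inl j) ≠ 0} =
      Fintype.card F ^ ((j : ℕ) + 1) - Fintype.card F ^ (j : ℕ) := by
  have hset : {v : Fin m ⊕ Fin m → F | v ∈ Wlt m ((j : ℕ) + 1) ∧ v (Sum.inl j) ≠ 0} =
      ((Wlt (F := F) m ((j : ℕ) + 1) : Submodule F (Fin m ⊕ Fin m → F)) : Set (Fin m ⊕ Fin m → F)) \ ((Wlt (F := F) m (j : ℕ) : Submodule F (Fin m ⊕ Fin m → F)) : Set (Fin m ⊕ Fin m → F)) := by
    ext v
    simp only [Set.mem_ofPred_eq, Set.mem_sdiff, SetLike.mem_coe]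
    constructor
    · rintro ⟨h1, h2⟩
      exact ⟨h1, fun h3 => h2 (h3.1 j le_rfl)⟩
    · rintro ⟨h1, h2⟩
      refine ⟨h1, fun h3 => h2 ⟨fun i hi => ?_, h1.2⟩⟩
      rcases Nat.eq_or_lt_of_le hi with h | h
      · have : i = j := Fin.ext h.symm
        rw [this]; exact h3
      · exact h1.1 i (by omega)
  have h1 : Nat.card {v : Fin m ⊕ Fin m → F // v ∈ Wlt m ((j : ℕ) + 1) ∧ v (Sum.inl j) ≠ 0} =
      ({v : Fin m ⊕ Fin m → F | v ∈ Wlt m ((j : ℕ) + 1) ∧ v (Sum.inl j) ≠ 0}).ncard := rfl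
  rw [h1, hset, Set.ncard_sdiff (by exact_mod_cast Wlt_mono m (Nat.le_succ _))]
  have h2 : ((Wlt (F := F) m ((j : ℕ) + 1) : Submodule F (Fin m ⊕ Fin m → F)) : Set (Fin m ⊕ Fin m → F)).ncard =
      Nat.card (Wlt (F := F) m ((j : ℕ) + 1)) := rfl
  have h3 : ((Wlt (F := F) m (j : ℕ) : Submodule F (Fin m ⊕ Fin m → F)) : Set (Fin m ⊕ Fin m → F)).ncard = Nat.card (Wlt (F := F) m (j : ℕ)) := rfl
  rw [h2, h3, card_Wlt m _ (by have := j.2; omega), card_Wlt m _ (by have := j.2; omega)]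

theorem card_InT :
    Nat.card {t : Fin m → (Fin m ⊕ Fin m → F) // InT m t} =
      ∏ j : Fin m, (Fintype.card F ^ ((j : ℕ) + 1) - Fintype.card F ^ (j : ℕ)) := by
  unfold InT
  rw [Nat.card_congr (Equiv.subtypePiEquivPi
    (p := fun (j : Fin m) (v : Fin m ⊕ Fin m → F) => v ∈ Wlt m ((j : ℕ) + 1) ∧ v (Sum.inl j) ≠ 0)),
    Nat.card_pi]
  exact Finset.prod_congr rfl fun j _ => card_Tj m j

theorem card_Borel_mul :
    Nat.card ↥(Borel F m) *
      (∏ i ∈ Finset.range m, (Fintype.card F ^ (2 * m - i) - Fintype.card F ^ i)) =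
      (∏ j : Fin m, (Fintype.card F ^ ((j : ℕ) + 1) - Fintype.card F ^ (j : ℕ))) *
        Nat.card (symplecticGroup (Fin m) F) := by
  rw [card_subgroup_eq _ (e (F := F) m) (stabilizer_le_Borel m), orbit_Borel m,
    card_eq_mul_card_stabilizer m m (e (F := F) m) (isIso_of_InT m _ (e_InT m))]
  have : Nat.card ↥{t : Fin m → (Fin m ⊕ Fin m → F) | InT m t} =
      Nat.card {t : Fin m → (Fin m ⊕ Fin m → F) // InT m t} := rfl
  rw [this, card_InT]
  ring

end count

theorem arith (q : ℕ) (m : ℕ) :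
    q ^ (m ^ 2) * (q - 1) ^ m * (∏ i ∈ Finset.range m, (q ^ (2 * m - i) - q ^ i)) =
      (∏ j : Fin m, (q ^ ((j : ℕ) + 1) - q ^ (j : ℕ))) *
        (q ^ (m ^ 2) * ∏ i ∈ Finset.range m, (q ^ (2 * (i + 1)) - 1)) := by
  have h1 : ∏ j : Fin m, (q ^ ((j : ℕ) + 1) - q ^ (j : ℕ)) =
      (∏ j ∈ Finset.range m, q ^ j) * (q - 1) ^ m := by
    rw [Fin.prod_univ_eq_prod_range (fun j => q ^ (j + 1) - q ^ j) m]
    have : ∀ j ∈ Finset.range m, q ^ (j + 1) - q ^ j = q ^ j * (q - 1) := by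
      intro j _
      rw [pow_succ, Nat.mul_sub, mul_one]
    rw [Finset.prod_congr rfl this, Finset.prod_mul_distrib, Finset.prod_const, Finset.card_range]
  have h2 : ∏ i ∈ Finset.range m, (q ^ (2 * m - i) - q ^ i) =
      (∏ j ∈ Finset.range m, q ^ j) * ∏ i ∈ Finset.range m, (q ^ (2 * (i + 1)) - 1) := by
    rw [← Finset.prod_range_reflect (fun i => q ^ (2 * (i + 1)) - 1) m, ← Finset.prod_mul_distrib]
    apply Finset.prod_congr rfl
    intro i hi
    rw [Finset.mem_range] at hi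
    have e1 : 2 * m - i = i + 2 * (m - 1 - i + 1) := by omega
    rw [e1, pow_add, Nat.mul_sub, mul_one]
  rw [h1, h2]
  ring

theorem N_pos (q : ℕ) (hq : 2 ≤ q) (m : ℕ) :
    0 < ∏ i ∈ Finset.range m, (q ^ (2 * m - i) - q ^ i) := by
  apply Finset.prod_pos
  intro i hi
  rw [Finset.mem_range] at hi
  apply Nat.sub_pos_of_lt
  apply Nat.pow_lt_pow_right hq
  omega

/-- Borel subgroup of the symplectic group: the elements of Sp_2m(q) stabilising each of the totally isotropic coordinate subspaces ⟨e_0, ..., e_k⟩ (k < m) form a subgroup of order q^(m²) (q − 1)^m. -/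
theorem result {F : Type*} [Field F] [Fintype F] {q : ℕ} (hF : Fintype.card F = q) (m : ℕ) : Nat.card ↥(⨅ k : Fin m, Cfsg.stabilizing (Cfsg.spToMat m F) {v : Fin m ⊕ Fin m → F | (∀ i : Fin m, (k : ℕ) < (i : ℕ) → v (Sum.inl i) = 0) ∧ ∀ i : Fin m, v (Sum.inr i) = 0}) = q ^ (m ^ 2) * (q - 1) ^ m := by
  subst hF
  have hq : 2 ≤ Fintype.card F := Fintype.one_lt_card
  have h1 := card_Borel_mul (F := F) m
  rw [Cfsg.Agent.Lib.Helper5.SympCard.card_symplecticGroup] at h1
  apply Nat.eq_of_mul_eq_mul_right (N_pos (Fintype.card F) hq m)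
  rw [arith]
  exact h1

end Cfsg.Agent.S0774
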