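import Mathlib
import Cfsg.Statements.S0775
import Cfsg.Agent.Lib.Helper5.SympFrames

set_option autoImplicit false
open Cfsg

namespace Cfsg.Agent.S0775

theorem tri_succ (k : ℕ) : (k + 1) * (k + 1 + 1) / 2 = k * (k + 1) / 2 + (k + 1) := by
  have : (k + 1) * (k + 1 + 1) = k * (k + 1) + 2 * (k + 1) := by ring
  rw [this, Nat.add_mul_div_left _ _ (by norm_num : 0 < 2)]

theorem arith (q : ℕ) (hq : 1 ≤ q) (k : ℕ) : ∀ r : ℕ,
    q ^ (k * (k + 1) / 2 + 2 * k * r) * (q ^ (r ^ 2) * ∏ i ∈ Finset.range r, (q ^ (2 * (i + 1)) - 1)) *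
      ∏ i ∈ Finset.range k, (q ^ (2 * (k + r) - i) - q ^ i) =
    q ^ ((k + r) ^ 2) * ∏ i ∈ Finset.range (k + r), (q ^ (2 * (i + 1)) - 1) := by
  induction k with
  | zero =>
    intro r
    simp
  | succ k ih =>
    intro r
    have h := ih (r + 1)
    have e1 : k + (r + 1) = k + 1 + r := by ring
    rw [e1] at h
    rw [← h, Finset.prod_range_succ, Finset.prod_range_succ, tri_succ]
    have e2 : q ^ (2 * (k + 1 + r) - k) - q ^ k = q ^ k * (q ^ (2 * (r + 1)) - 1) := by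
      have : 2 * (k + 1 + r) - k = k + 2 * (r + 1) := by omega
      rw [this, pow_add, Nat.mul_sub, mul_one]
    rw [e2]
    have e3 : k * (k + 1) / 2 + (k + 1) + 2 * (k + 1) * r + k =
        k * (k + 1) / 2 + 2 * k * (r + 1) + (2 * r + 1) := by ring
    have e4 : (r + 1) ^ 2 = r ^ 2 + (2 * r + 1) := by ring
    rw [e4]
    generalize ∏ i ∈ Finset.range k, (q ^ (2 * (k + 1 + r) - i) - q ^ i) = N
    generalize ∏ i ∈ Finset.range r, (q ^ (2 * (i + 1)) - 1) = S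
    generalize q ^ (2 * (r + 1)) - 1 = c
    calc q ^ (k * (k + 1) / 2 + (k + 1) + 2 * (k + 1) * r) * (q ^ r ^ 2 * S) * (N * (q ^ k * c))
        = q ^ (k * (k + 1) / 2 + (k + 1) + 2 * (k + 1) * r + k) * (q ^ r ^ 2 * S) * (N * c) := by
          rw [pow_add _ _ k]; ring
      _ = q ^ (k * (k + 1) / 2 + 2 * k * (r + 1)) * (q ^ (r ^ 2 + (2 * r + 1)) * (S * c)) * N := by
          rw [e3, pow_add _ _ (2 * r + 1), pow_add _ _ (2 * r + 1)]; ring

theorem N_pos (q : ℕ) (hq : 2 ≤ q) (m k : ℕ) (hk : k ≤ m) :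
    0 < ∏ i ∈ Finset.range k, (q ^ (2 * m - i) - q ^ i) := by
  apply Finset.prod_pos
  intro i hi
  rw [Finset.mem_range] at hi
  apply Nat.sub_pos_of_lt
  apply Nat.pow_lt_pow_right hq
  omega

/-- Maximal parabolics of the symplectic group: if W is a k-dimensional subspace of F^(2m) on which the symplectic form vanishes identically, its stabiliser in Sp_2m(q) has order q^(k(k+1)/2 + 2k(m−k)) · |Sp_(2m−2k)(q)| · |GL_k(q)|. -/
theorem result {F : Type*} [Field F] [Fintype F] {q : ℕ} (hF : Fintype.card F = q) (m k : ℕ) (hk : k ≤ m) (W : Submodule F (Fin m ⊕ Fin m → F)) (hWk : Module.finrank F W = k) (hW : ∀ u ∈ W, ∀ v ∈ W, Cfsg.sympForm m F u v = 0) : Nat.card ↥(Cfsg.stabilizing (Cfsg.spToMat m F) (W : Set (Fin m ⊕ Fin m → F))) = q ^ (k * (k + 1) / 2 + 2 * k * (m - k)) * (q ^ ((m - k) ^ 2) * ∏ i ∈ Finset.range (m - k), (q ^ (2 * (i + 1)) - 1)) * ∏ i : Fin k, (q ^ k - q ^ (i : ℕ)) := by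
  subst hF
  have hq : 2 ≤ Fintype.card F := Fintype.one_lt_card
  have h1 := Cfsg.Agent.Lib.Helper5.SympFrames.card_stab_mul m k W hWk hW
  rw [Cfsg.Agent.Lib.Helper5.SympCard.card_symplecticGroup] at h1
  obtain ⟨r, rfl⟩ := Nat.exists_eq_add_of_le hk
  have h2 := arith (Fintype.card F) (by omega) k r
  have hN := N_pos (Fintype.card F) hq (k + r) k hk
  apply Nat.eq_of_mul_eq_mul_right hN
  rw [h1, ← h2, Nat.add_sub_cancel_left]
  ring

end Cfsg.Agent.S0775
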