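import Mathlib
import Cfsg.Statements.S0776
import Cfsg.Agent.Lib.Helper5.SympBridge
import Cfsg.Agent.Lib.Helper5.SympBlock
import Cfsg.Agent.Lib.Helper5.StabConj
import Cfsg.Agent.Lib.Helper5.AltWitt
import Cfsg.Agent.Lib.Helper5.AltForm

set_option autoImplicit false
open Cfsg

namespace Cfsg.Agent.S0776

open Matrix Cfsg.Agent.Lib.Helper5.SympBridge Cfsg.Agent.Lib.Helper5.SympTv
  Cfsg.Agent.Lib.Helper5.SympGen Cfsg.Agent.Lib.Helper5.SympBlock

theorem witt_family' {F V : Type*} [Field F] [AddCommGroup V] [Module F V] [FiniteDimensional F V]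
    (B : LinearMap.BilinForm F V) (hB : B.Nondegenerate) (hA : B.IsAlt) {ι : Type*} [Fintype ι]
    (x y : ι → V) (hx : LinearIndependent F x) (hy : LinearIndependent F y)
    (hgram : ∀ i j, B (x i) (x j) = B (y i) (y j)) :
    ∃ g : V ≃ₗ[F] V, (∀ u v, B (g u) (g v) = B u v) ∧ ∀ i, g (x i) = y i := by
  let e := Fintype.equivFin ι
  obtain ⟨g, hg, hgx⟩ := Cfsg.Agent.Lib.Helper5.AltWitt.witt_family B hB hA (Fintype.card ι)
    (x ∘ e.symm) (y ∘ e.symm) (hx.comp _ e.symm.injective) (hy.comp _ e.symm.injective)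
    (fun i j => hgram _ _)
  exact ⟨g, hg, fun i => by simpa using hgx (e i)⟩

section
variable {F : Type*} [Field F] (k l : ℕ)

local notation "V" => (Fin (k + l) ⊕ Fin (k + l) → F)

/-- the standard hyperbolic family spanning `W0` -/
def yfam (F : Type*) [Field F] (k l : ℕ) (j : Fin k ⊕ Fin k) : Fin (k + l) ⊕ Fin (k + l) → F :=
  Pi.single (eKL k l (Sum.inl j.swap)) 1

theorem sympForm_single_single (a b : Fin (k + l) ⊕ Fin (k + l)) :
    Cfsg.sympForm (k + l) F (Pi.single a 1) (Pi.single b 1) =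
      match b with
      | Sum.inl i => if a = Sum.inr i then 1 else 0
      | Sum.inr i => if a = Sum.inl i then -1 else 0 := by
  rcases b with i | i
  · rw [sympForm_single_inl, Pi.single_apply]
    simp [eq_comm]
  · rw [sympForm_single_inr, Pi.single_apply]
    simp only
    split_ifs with h1 h2 h2
    · rfl
    · exact absurd h1.symm h2
    · exact absurd h2.symm h1
    · simp

theorem yfam_gram_lr (i j : Fin k) :
    Cfsg.sympForm (k + l) F (yfam F k l (Sum.inl i)) (yfam F k l (Sum.inr j)) = if i = j then 1 else 0 := by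
  unfold yfam
  simp only [Sum.swap_inl, Sum.swap_inr, eKL_inl_inr, eKL_inl_inl]
  rw [sympForm_single_single]
  simp [Fin.ext_iff]

theorem yfam_gram_ll (i j : Fin k) :
    Cfsg.sympForm (k + l) F (yfam F k l (Sum.inl i)) (yfam F k l (Sum.inl j)) = 0 := by
  unfold yfam
  simp only [Sum.swap_inl, eKL_inl_inr]
  rw [sympForm_single_single]
  simp

theorem yfam_gram_rr (i j : Fin k) :
    Cfsg.sympForm (k + l) F (yfam F k l (Sum.inr i)) (yfam F k l (Sum.inr j)) = 0 := by
  unfold yfam
  simp only [Sum.swap_inr, eKL_inl_inl]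
  rw [sympForm_single_single]
  simp

theorem yfam_li : LinearIndependent F (yfam F k l) := by
  have := (Pi.basisFun F (Fin (k + l) ⊕ Fin (k + l))).linearIndependent.comp
    (fun j : Fin k ⊕ Fin k => eKL k l (Sum.inl j.swap))
    (fun a b hab => by
      have h1 := (eKL k l).injective hab
      have h2 := Sum.inl_injective h1
      exact Sum.swap_leftInverse.injective h2)
  convert this using 1
  ext j a
  simp [yfam, Pi.basisFun_apply]

theorem W0_decomp (w : V) (hw : w ∈ W0 F k l) :
    w = ∑ j : Fin k ⊕ Fin k, w (eKL k l (Sum.inl j.swap)) • yfam F k l j := by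
  classical
  have h1 : w = ∑ a : Fin (k + l) ⊕ Fin (k + l), w a • (Pi.single a (1 : F) : V) := by
    ext i
    simp [Finset.sum_apply, Pi.single_apply]
  have h2 : ∑ a : Fin (k + l) ⊕ Fin (k + l), w a • (Pi.single a (1 : F) : V) =
      ∑ x : (Fin k ⊕ Fin k) ⊕ (Fin l ⊕ Fin l), w (eKL k l x) • (Pi.single (eKL k l x) (1 : F) : V) :=
    (Fintype.sum_equiv (eKL k l) _ _ (fun x => rfl)).symm
  rw [mem_W0_iff] at hw
  rw [h2, Fintype.sum_sum_type] at h1
  have h3 : ∑ x : Fin l ⊕ Fin l, w (eKL k l (Sum.inr x)) • (Pi.single (eKL k l (Sum.inr x)) (1 : F) : V) = 0 :=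
    Finset.sum_eq_zero (fun x _ => by rw [hw x, zero_smul])
  rw [h3, add_zero] at h1
  rw [h1]
  exact (Fintype.sum_equiv (Equiv.sumComm (Fin k) (Fin k)) _ _ (fun x => by
    simp [yfam, Pi.single_apply])).symm

theorem yfam_mem (j : Fin k ⊕ Fin k) : yfam F k l j ∈ W0 F k l :=
  single_mem_W0 k l _

/-- `W0` as a submodule -/
def W0sub (F : Type*) [Field F] (k l : ℕ) : Submodule F (Fin (k + l) ⊕ Fin (k + l) → F) where
  carrier := W0 F k l
  add_mem' {u v} hu hv := fun i hi => by
    simp only [Pi.add_apply, (hu i hi).1, (hu i hi).2, (hv i hi).1, (hv i hi).2, add_zero, and_self]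
  zero_mem' := fun _ _ => ⟨rfl, rfl⟩
  smul_mem' c v hv := fun i hi => by
    simp only [Pi.smul_apply, (hv i hi).1, (hv i hi).2, smul_zero, and_self]

/-- a nondegenerate subspace of dimension `2k` can be moved to the standard one -/
theorem exists_to_standard (W : Submodule F V) (hWk : Module.finrank F W = 2 * k)
    (hW : ∀ u ∈ W, (∀ v ∈ W, Cfsg.sympForm (k + l) F u v = 0) → u = 0) :
    ∃ h : Matrix.symplecticGroup (Fin (k + l)) F, ∀ v : V,
      v ∈ (W : Set V) ↔ (Cfsg.spToMat (k + l) F) h *ᵥ v ∈ W0 F k l := by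
  classical
  let BW : LinearMap.BilinForm F W := (sympBilin F (k + l)).restrict W
  have hBW : ∀ x y : W, BW x y = Cfsg.sympForm (k + l) F (x : V) (y : V) := fun x y => rfl
  have hA : BW.IsAlt := fun x => sympForm_self (k + l) (x : V)
  obtain ⟨m', r, b, h1, h2, h3, h4, h5, h6⟩ := Cfsg.Agent.Lib.Helper5.AltForm.exists_darboux_basis BW hA
  have hker : LinearMap.ker BW = ⊥ := by
    rw [LinearMap.ker_eq_bot']
    intro x hx
    apply Subtype.ext
    apply hW x.1 x.2
    intro v hv
    have : BW x ⟨v, hv⟩ = 0 := by rw [hx]; rfl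
    exact this
  rw [hker, finrank_bot] at h6
  subst h6
  have hm' : k = m' := by omega
  subst hm'
  let x : Fin k ⊕ Fin k → V := fun j => ((b (Sum.inl j) : W) : V)
  have hxli : LinearIndependent F x := by
    have h1 : LinearIndependent F (fun j : Fin k ⊕ Fin k => b (Sum.inl j)) :=
      b.linearIndependent.comp (fun j : Fin k ⊕ Fin k => (Sum.inl j : (Fin k ⊕ Fin k) ⊕ Fin 0))
        Sum.inl_injective
    exact h1.map' W.subtype (Submodule.ker_subtype _)
  have hgram : ∀ i j, sympBilin F (k + l) (x i) (x j) = sympBilin F (k + l) (yfam F k l i) (yfam F k l j) := by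
    intro i j
    rw [sympBilin_apply, sympBilin_apply]
    rcases i with i | i <;> rcases j with j | j
    · rw [yfam_gram_ll]; exact h2 i j
    · rw [yfam_gram_lr]; exact h1 i j
    · rw [sympForm_swap, sympForm_swap (k + l) (yfam F k l (Sum.inr i)), yfam_gram_lr]
      have := h1 j i
      rw [hBW] at this
      show -Cfsg.sympForm (k + l) F ((b (Sum.inl (Sum.inl j)) : W) : V) ((b (Sum.inl (Sum.inr i)) : W) : V) = _
      rw [this]
    · rw [yfam_gram_rr]; exact h3 i j
  obtain ⟨g, hg, hgx⟩ := witt_family' (sympBilin F (k + l)) (sympBilin_nondegenerate _)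
    (sympBilin_isAlt _) x (yfam F k l) hxli (yfam_li k l) hgram
  obtain ⟨A, hA⟩ := exists_symplectic_of_isometry (k + l) g hg
  refine ⟨A, fun v => ?_⟩
  show v ∈ W ↔ (A : Matrix _ _ F) *ᵥ v ∈ W0 F k l
  rw [hA]
  constructor
  · intro hv
    have hrepr : (⟨v, hv⟩ : W) = ∑ i, b.repr ⟨v, hv⟩ i • b i := (b.sum_repr ⟨v, hv⟩).symm
    have hv' : v = ∑ i, b.repr ⟨v, hv⟩ i • ((b i : W) : V) := by
      have := congrArg (fun w : W => (w : V)) hrepr
      simp only [Submodule.coe_sum, Submodule.coe_smul] at this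
      exact this
    rw [hv', map_sum]
    apply (W0sub F k l).sum_mem
    intro i _
    rw [map_smul]
    apply (W0sub F k l).smul_mem
    rcases i with j | z
    · show g (x j) ∈ W0 F k l
      rw [hgx j]
      exact yfam_mem k l j
    · exact z.elim0
  · intro hgv
    have hdec := W0_decomp k l (g v) hgv
    have : g v = g (∑ j : Fin k ⊕ Fin k, (g v) (eKL k l (Sum.inl j.swap)) • x j) := by
      rw [map_sum]
      conv_lhs => rw [hdec]
      exact Finset.sum_congr rfl (fun j _ => by rw [map_smul, hgx j])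
    have hv := g.injective this
    rw [hv]
    apply W.sum_mem
    intro j _
    exact W.smul_mem _ (b (Sum.inl j)).2

end

/-- If W ≤ F^(2m) is a 2k-dimensional subspace on which the symplectic form is non-degenerate, then the stabiliser of W in Sp_2m(F) is isomorphic to Sp_2k(F) × Sp_(2m−2k)(F). -/
theorem result {F : Type*} [Field F] (m k : ℕ) (hk : k ≤ m) (W : Submodule F (Fin m ⊕ Fin m → F)) (hWk : Module.finrank F W = 2 * k) (hW : ∀ u ∈ W, (∀ v ∈ W, Cfsg.sympForm m F u v = 0) → u = 0) : Nonempty (↥(Cfsg.stabilizing (Cfsg.spToMat m F) (W : Set (Fin m ⊕ Fin m → F))) ≃* Matrix.symplecticGroup (Fin k) F × Matrix.symplecticGroup (Fin (m - k)) F) := by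
  obtain ⟨l, rfl⟩ := Nat.exists_eq_add_of_le hk
  rw [Nat.add_sub_cancel_left]
  obtain ⟨h, hh⟩ := exists_to_standard k l W hWk hW
  obtain ⟨e1⟩ := Cfsg.Agent.Lib.Helper5.StabConj.stabilizing_conj_equiv (Cfsg.spToMat (k + l) F)
    (W : Set (Fin (k + l) ⊕ Fin (k + l) → F)) (W0 F k l) h hh
  obtain ⟨e2⟩ := stabW0_equiv (F := F) k l
  exact ⟨e1.trans e2⟩

end Cfsg.Agent.S0776
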