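import Mathlib
import Cfsg.Statements.S0778

set_option autoImplicit false
open Cfsg

namespace Cfsg.Agent.S0778

open Matrix

variable {F : Type*} [Field F] (m : ℕ)

theorem block_mem (A : Matrix.GeneralLinearGroup (Fin m) F) :
    fromBlocks (A : Matrix (Fin m) (Fin m) F) 0 0
      ((A⁻¹ : Matrix.GeneralLinearGroup (Fin m) F) : Matrix (Fin m) (Fin m) F)ᵀ
      ∈ symplecticGroup (Fin m) F := by
  rw [SymplecticGroup.fromBlocks_mem_iff]
  refine ⟨by simp, by simp, ?_⟩
  rw [← transpose_mul, ← Units.val_mul, inv_mul_cancel]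
  simp

/-- The embedding of `GL_m` as the Levi complement. -/
def psi : Matrix.GeneralLinearGroup (Fin m) F →* symplecticGroup (Fin m) F where
  toFun A := ⟨_, block_mem m A⟩
  map_one' := by
    apply Subtype.ext
    show fromBlocks ((1 : Matrix.GeneralLinearGroup (Fin m) F) : Matrix (Fin m) (Fin m) F) 0 0
      (((1 : Matrix.GeneralLinearGroup (Fin m) F)⁻¹ : Matrix.GeneralLinearGroup (Fin m) F) :
        Matrix (Fin m) (Fin m) F)ᵀ = 1
    simp [fromBlocks_one]
  map_mul' A B := by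
    apply Subtype.ext
    show fromBlocks ((A * B : Matrix.GeneralLinearGroup (Fin m) F) : Matrix (Fin m) (Fin m) F) 0 0
      (((A * B)⁻¹ : Matrix.GeneralLinearGroup (Fin m) F) : Matrix (Fin m) (Fin m) F)ᵀ =
      fromBlocks (A : Matrix (Fin m) (Fin m) F) 0 0
        ((A⁻¹ : Matrix.GeneralLinearGroup (Fin m) F) : Matrix (Fin m) (Fin m) F)ᵀ *
      fromBlocks (B : Matrix (Fin m) (Fin m) F) 0 0
        ((B⁻¹ : Matrix.GeneralLinearGroup (Fin m) F) : Matrix (Fin m) (Fin m) F)ᵀ
    rw [fromBlocks_multiply, _root_.mul_inv_rev, Units.val_mul, Units.val_mul, transpose_mul]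
    simp

theorem psi_injective : Function.Injective (psi (F := F) m) := by
  intro A B h
  have h1 : (psi m A).1 = (psi m B).1 := congrArg Subtype.val h
  have h2 := (fromBlocks_inj.mp h1).1
  exact Units.ext h2

theorem psi_range : (psi (F := F) m).range =
    Cfsg.stabilizing (Cfsg.spToMat m F) {v : Fin m ⊕ Fin m → F | ∀ i : Fin m, v (Sum.inr i) = 0} ⊓
    Cfsg.stabilizing (Cfsg.spToMat m F) {v : Fin m ⊕ Fin m → F | ∀ i : Fin m, v (Sum.inl i) = 0} := by
  ext M
  constructor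
  · rintro ⟨A, rfl⟩
    have hA1 : ∀ x : Fin m → F, (A : Matrix (Fin m) (Fin m) F) *ᵥ x = 0 ↔ x = 0 := by
      intro x
      constructor
      · intro h
        have := congrArg (fun y => ((A⁻¹ : Matrix.GeneralLinearGroup (Fin m) F) : Matrix (Fin m) (Fin m) F) *ᵥ y) h
        simp only [mulVec_mulVec, ← Units.val_mul, inv_mul_cancel, Units.val_one, one_mulVec,
          mulVec_zero] at this
        exact this
      · rintro rfl; simp
    have hA2 : ∀ x : Fin m → F,
        ((A⁻¹ : Matrix.GeneralLinearGroup (Fin m) F) : Matrix (Fin m) (Fin m) F)ᵀ *ᵥ x = 0 ↔ x = 0 := by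
      intro x
      constructor
      · intro h
        have := congrArg (fun y => (A : Matrix (Fin m) (Fin m) F)ᵀ *ᵥ y) h
        simp only [mulVec_mulVec, ← transpose_mul, ← Units.val_mul, inv_mul_cancel, Units.val_one,
          transpose_one, one_mulVec, mulVec_zero] at this
        exact this
      · rintro rfl; simp
    constructor
    · intro v
      show (∀ i, v (Sum.inr i) = 0) ↔ ∀ i, ((psi m A).1 *ᵥ v) (Sum.inr i) = 0
      show (∀ i, v (Sum.inr i) = 0) ↔ ∀ i, ((fromBlocks (A : Matrix (Fin m) (Fin m) F) 0 0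
        ((A⁻¹ : Matrix.GeneralLinearGroup (Fin m) F) : Matrix (Fin m) (Fin m) F)ᵀ) *ᵥ v) (Sum.inr i) = 0
      rw [fromBlocks_mulVec]
      simp only [Sum.elim_inr, zero_mulVec, zero_add]
      have : (∀ i, (((A⁻¹ : Matrix.GeneralLinearGroup (Fin m) F) : Matrix (Fin m) (Fin m) F)ᵀ *ᵥ
          (v ∘ Sum.inr)) i = 0) ↔ ((A⁻¹ : Matrix.GeneralLinearGroup (Fin m) F) : Matrix (Fin m) (Fin m) F)ᵀ *ᵥ
          (v ∘ Sum.inr) = 0 := ⟨fun h => funext h, fun h i => congrFun h i⟩
      rw [this, hA2]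
      exact ⟨fun h => funext h, fun h i => congrFun h i⟩
    · intro v
      show (∀ i, v (Sum.inl i) = 0) ↔ ∀ i, ((fromBlocks (A : Matrix (Fin m) (Fin m) F) 0 0
        ((A⁻¹ : Matrix.GeneralLinearGroup (Fin m) F) : Matrix (Fin m) (Fin m) F)ᵀ) *ᵥ v) (Sum.inl i) = 0
      rw [fromBlocks_mulVec]
      simp only [Sum.elim_inl, zero_mulVec, add_zero]
      have : (∀ i, ((A : Matrix (Fin m) (Fin m) F) *ᵥ (v ∘ Sum.inl)) i = 0) ↔
          (A : Matrix (Fin m) (Fin m) F) *ᵥ (v ∘ Sum.inl) = 0 :=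
        ⟨fun h => funext h, fun h i => congrFun h i⟩
      rw [this, hA1]
      exact ⟨fun h => funext h, fun h i => congrFun h i⟩
  · rintro ⟨h1, h2⟩
    have hC : M.1.toBlocks₂₁ = 0 := by
      ext i j
      have h := (h1 (Pi.single (Sum.inl j) 1)).mp (by intro i; simp)
      have h' := h i
      change (M.1 *ᵥ Pi.single (Sum.inl j) 1) (Sum.inr i) = 0 at h'
      rw [mulVec_single_one] at h'
      exact h'
    have hB : M.1.toBlocks₁₂ = 0 := by
      ext i j
      have h := (h2 (Pi.single (Sum.inr j) 1)).mp (by intro i; simp)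
      have h' := h i
      change (M.1 *ᵥ Pi.single (Sum.inr j) 1) (Sum.inl i) = 0 at h'
      rw [mulVec_single_one] at h'
      exact h'
    have hM : M.1 = fromBlocks M.1.toBlocks₁₁ 0 0 M.1.toBlocks₂₂ := by
      conv_lhs => rw [← fromBlocks_toBlocks M.1, hB, hC]
    have hmem := M.2
    rw [hM, SymplecticGroup.fromBlocks_mem_iff] at hmem
    have hAD : M.1.toBlocks₁₁ᵀ * M.1.toBlocks₂₂ = 1 := by
      have := hmem.2.2
      simpa using this
    have hDA : M.1.toBlocks₂₂ᵀ * M.1.toBlocks₁₁ = 1 := by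
      have := congrArg transpose hAD
      rwa [transpose_mul, transpose_transpose, transpose_one] at this
    have hAD' : M.1.toBlocks₁₁ * M.1.toBlocks₂₂ᵀ = 1 := mul_eq_one_comm.mp hDA
    refine ⟨⟨M.1.toBlocks₁₁, M.1.toBlocks₂₂ᵀ, hAD', hDA⟩, ?_⟩
    apply Subtype.ext
    show fromBlocks M.1.toBlocks₁₁ 0 0 (M.1.toBlocks₂₂ᵀ)ᵀ = M.1
    rw [transpose_transpose, ← hM]

/-- The elements of Sp_2m(F) stabilising both W = ⟨e_1..e_m⟩ and U = ⟨f_1..f_m⟩ form a subgroup isomorphic to GL_m(F) (block-diagonal matrices diag(X, X^(−ᵀ)) up to the sign convention of J), for m ≥ 1 or m = 0 alike. -/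
theorem result {F : Type*} [Field F] (m : ℕ) : Nonempty (↥(Cfsg.stabilizing (Cfsg.spToMat m F) {v : Fin m ⊕ Fin m → F | ∀ i : Fin m, v (Sum.inr i) = 0} ⊓ Cfsg.stabilizing (Cfsg.spToMat m F) {v : Fin m ⊕ Fin m → F | ∀ i : Fin m, v (Sum.inl i) = 0}) ≃* Matrix.GeneralLinearGroup (Fin m) F) := by
  exact ⟨((MonoidHom.ofInjective (psi_injective m)).trans (MulEquiv.subgroupCongr (psi_range m))).symm⟩

end Cfsg.Agent.S0778
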