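import Mathlib
import Cfsg.Statements.S0779
import Cfsg.Agent.Lib.Helper5.Herm

set_option autoImplicit false
open Cfsg

namespace Cfsg.Agent.S0779

/-- Unitary transvections: let |F| = q², h the standard Hermitian form Σ x_i y_i^q and v ≠ 0 with h(v, v) = 0. The linear map x ↦ x + c h(x, v) v is an isometry of h if and only if c = 0 or c^(q−1) = −1. -/
theorem result {F : Type*} [Field F] [Fintype F] {q : ℕ} (hF : Fintype.card F = q ^ 2) (n : ℕ) (v : Fin n → F) (hv : v ≠ 0) (hv0 : Cfsg.hermForm n F q v v = 0) (c : F) : (∀ x y : Fin n → F, Cfsg.hermForm n F q ((Cfsg.unitaryTransvection n q v c).mulVec x) ((Cfsg.unitaryTransvection n q v c).mulVec y) = Cfsg.hermForm n F q x y) ↔ (c = 0 ∨ c ^ (q - 1) = -1) := by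
  have hq0 : q ≠ 0 := Cfsg.Agent.Lib.Helper5.Herm.q_ne_zero hF
  have hform := Cfsg.Agent.Lib.Helper5.Herm.hermForm_unitaryTransvection hF n v c
  have hcq : c + c ^ q = c * (1 + c ^ (q - 1)) := by
    obtain ⟨k, rfl⟩ : ∃ k, q = k + 1 := ⟨q - 1, by omega⟩
    rw [Nat.add_sub_cancel, pow_succ]; ring
  have hiff : (c = 0 ∨ c ^ (q - 1) = -1) ↔ c + c ^ q = 0 := by
    rw [hcq, mul_eq_zero]
    constructor
    · rintro (h | h)
      · exact Or.inl h
      · right; rw [h]; ring
    · rintro (h | h)
      · exact Or.inl h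
      · right; exact (eq_neg_of_add_eq_zero_right h)
  rw [hiff]
  constructor
  · intro hpres
    obtain ⟨i, hi⟩ : ∃ i, v i ≠ 0 := by
      by_contra hcon
      push Not at hcon
      exact hv (funext hcon)
    have h1 := hpres (Pi.single i 1) (Pi.single i 1)
    have h2 := hform (Pi.single i 1) (Pi.single i 1)
    rw [hv0, mul_zero, add_zero] at h2
    have h3 : (c + c ^ q) * (Cfsg.hermForm n F q (Pi.single i 1) v * Cfsg.hermForm n F q v (Pi.single i 1)) = 0 := by
      have := h2.symm.trans h1
      exact add_eq_left.mp this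
    rw [Cfsg.Agent.Lib.Helper5.Herm.hermForm_single_left, Cfsg.Agent.Lib.Helper5.Herm.hermForm_single_right _ _ hq0] at h3
    rcases mul_eq_zero.mp h3 with h | h
    · exact h
    · exact absurd h (mul_ne_zero (pow_ne_zero _ hi) hi)
  · intro hc x y
    have := hform x y
    rw [hc, hv0, zero_mul, mul_zero, add_zero, add_zero] at this
    exact this

end Cfsg.Agent.S0779
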