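import Mathlib
import Cfsg.Statements.S0782
import Cfsg.Agent.Lib.Helper5.HermParabolicDet

set_option autoImplicit false
open Cfsg

namespace Cfsg.Agent.S0782

open Cfsg.Agent.Lib.Helper5.HermIsoFrames Cfsg.Agent.Lib.Helper5.HermParabolicDet
  Cfsg.Agent.Lib.Helper5.HermCount Cfsg.Agent.Lib.Helper5.HermCard Cfsg.Agent.Lib.Helper5.Herm

/-- the factors of the order of `GU` -/
def gg (q i : ℕ) : ℕ := if Even i then q ^ (i + 1) + 1 else q ^ (i + 1) - 1

theorem gg_pos (q : ℕ) (hq : 2 ≤ q) (i : ℕ) : 0 < gg q i := by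
  unfold gg
  split_ifs
  · omega
  · have : 2 ≤ q ^ (i + 1) := by
      calc 2 ≤ q := hq
        _ = q ^ 1 := (pow_one q).symm
        _ ≤ q ^ (i + 1) := Nat.pow_le_pow_right (by omega) (by omega)
    omega

theorem tri_succ2 (n : ℕ) : (n + 2) * (n + 2 - 1) / 2 = n * (n - 1) / 2 + n + (n + 1) := by
  have h1 := tri_succ' (n + 1)
  have h2 := tri_succ' n
  rw [show n + 1 + 1 = n + 2 from rfl] at h1
  rw [h1, h2]

theorem arith (q : ℕ) (g : ℕ → ℕ) (m : ℕ) : ∀ k : ℕ,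
    q ^ (k * (2 * m + k)) * (q ^ (m * (m - 1) / 2) * ∏ i ∈ Finset.range m, g i) *
      ∏ i ∈ Finset.range k,
        ((q ^ 2) ^ i * (g (m + 2 * k - 2 * i - 1) * g (m + 2 * k - 2 * i - 2))) =
    q ^ ((m + 2 * k) * (m + 2 * k - 1) / 2) * ∏ i ∈ Finset.range (m + 2 * k), g i := by
  intro k
  induction k with
  | zero => simp
  | succ k ih =>
    rw [Finset.prod_range_succ']
    have hterm : ∀ i ∈ Finset.range k,
        (q ^ 2) ^ (i + 1) * (g (m + 2 * (k + 1) - 2 * (i + 1) - 1) *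
          g (m + 2 * (k + 1) - 2 * (i + 1) - 2)) =
        q ^ 2 * ((q ^ 2) ^ i * (g (m + 2 * k - 2 * i - 1) * g (m + 2 * k - 2 * i - 2))) := by
      intro i hi
      rw [Finset.mem_range] at hi
      have e1 : m + 2 * (k + 1) - 2 * (i + 1) - 1 = m + 2 * k - 2 * i - 1 := by omega
      have e2 : m + 2 * (k + 1) - 2 * (i + 1) - 2 = m + 2 * k - 2 * i - 2 := by omega
      rw [e1, e2, pow_succ]
      ring
    rw [Finset.prod_congr rfl hterm, Finset.prod_mul_distrib, Finset.prod_const, Finset.card_range]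
    have e3 : m + 2 * (k + 1) - 2 * 0 - 1 = m + 2 * k + 1 := by omega
    have e4 : m + 2 * (k + 1) - 2 * 0 - 2 = m + 2 * k := by omega
    have e5 : m + 2 * (k + 1) = m + 2 * k + 2 := by ring
    rw [e3, e4, e5, Finset.prod_range_succ, Finset.prod_range_succ, tri_succ2]
    have e6 : (k + 1) * (2 * m + (k + 1)) + 2 * k =
        k * (2 * m + k) + ((m + 2 * k) + (m + 2 * k + 1)) := by ring
    generalize ∏ i ∈ Finset.range k,
      ((q ^ 2) ^ i * (g (m + 2 * k - 2 * i - 1) * g (m + 2 * k - 2 * i - 2))) = N at ih ⊢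
    generalize ∏ i ∈ Finset.range m, g i = S at ih ⊢
    generalize ∏ i ∈ Finset.range (m + 2 * k), g i = P at ih ⊢
    generalize (m + 2 * k) * (m + 2 * k - 1) / 2 = T at ih ⊢
    generalize g (m + 2 * k) = a
    generalize g (m + 2 * k + 1) = b
    calc q ^ ((k + 1) * (2 * m + (k + 1))) * (q ^ (m * (m - 1) / 2) * S) *
          ((q ^ 2) ^ k * N * ((q ^ 2) ^ 0 * (b * a)))
        = q ^ ((k + 1) * (2 * m + (k + 1)) + 2 * k) * (q ^ (m * (m - 1) / 2) * S) * N * (a * b) := by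
          rw [pow_add _ _ (2 * k), pow_mul q 2 k]; ring
      _ = q ^ ((m + 2 * k) + (m + 2 * k + 1)) * (a * b) *
            (q ^ (k * (2 * m + k)) * (q ^ (m * (m - 1) / 2) * S) * N) := by
          rw [e6, pow_add]; ring
      _ = q ^ (T + (m + 2 * k) + (m + 2 * k + 1)) * (P * a * b) := by
          rw [ih, add_assoc T, pow_add q T]; ring

theorem fib_eq {F : Type*} [Field F] [Fintype F] {q : ℕ} (hF : Fintype.card F = q ^ 2)
    (n i : ℕ) (h : 2 * i + 2 ≤ n) :
    fib F q n i = (q ^ 2) ^ i * (gg q (n - 2 * i - 1) * gg q (n - 2 * i - 2)) := by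
  obtain ⟨e, he⟩ : ∃ e, n - 2 * i = e + 2 := ⟨n - 2 * i - 2, by omega⟩
  unfold fib
  rw [he, A_zero hF, Nat.mul_succ, Nat.add_sub_cancel]
  congr 1
  have e1 : e + 2 - 1 = e + 1 := by omega
  have e2 : e + 2 - 2 = e := by omega
  rw [e1, e2]
  unfold gg
  by_cases hev : Even e
  · have h1 : Even (e + 2) := by
      rw [Nat.even_add]; simp [hev]
    have h2 : ¬ Even (e + 1) := by
      rw [Nat.even_add_one]; exact not_not.mpr hev
    rw [if_pos h1, if_neg h2, if_pos hev]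
  · have h1 : ¬ Even (e + 2) := by
      rw [Nat.even_add]; simp [hev]
    have h2 : Even (e + 1) := by
      rw [Nat.even_add_one]; exact hev
    rw [if_neg h1, if_pos h2, if_neg hev]

/-- Maximal parabolics of SU_n(q): if W is a k-dimensional subspace of F^n (n ≥ 1, |F| = q²) on which the Hermitian form vanishes, then (q + 1) times the order of its stabiliser in SU_n(q) equals q^(k(2n−3k)) · |GL_k(q²)| · |GU_(n−2k)(q)|, where |GU_m(q)| = q^(m(m−1)/2) Π_(i=1..m) (q^i − (−1)^i). -/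
theorem result {F : Type*} [Field F] [Fintype F] {q : ℕ} (hF : Fintype.card F = q ^ 2) (n k : ℕ) (hn : 1 ≤ n) (hk : 2 * k ≤ n) (W : Submodule F (Fin n → F)) (hWk : Module.finrank F W = k) (hW : ∀ u ∈ W, ∀ v ∈ W, Cfsg.hermForm n F q u v = 0) : (q + 1) * Nat.card ↥((Cfsg.stabilizing (Cfsg.slToMat n F) (W : Set (Fin n → F))).subgroupOf (Cfsg.SU n F q)) = q ^ (k * (2 * n - 3 * k)) * (∏ i : Fin k, ((q ^ 2) ^ k - (q ^ 2) ^ (i : ℕ))) * (q ^ ((n - 2 * k) * ((n - 2 * k) - 1) / 2) * ∏ i ∈ Finset.range (n - 2 * k), (if Even i then q ^ (i + 1) + 1 else q ^ (i + 1) - 1)) := by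
  have hq := two_le_q hF
  obtain ⟨m, rfl⟩ : ∃ m, n = m + 2 * k := ⟨n - 2 * k, by omega⟩
  have h1 := card_stab_mul hF (m + 2 * k) k W hWk hW
  have h2 := card_stab_SU hF (m + 2 * k) hn W hW
  have hN : ∏ i ∈ Finset.range k, fib F q (m + 2 * k) i =
      ∏ i ∈ Finset.range k,
        ((q ^ 2) ^ i * (gg q (m + 2 * k - 2 * i - 1) * gg q (m + 2 * k - 2 * i - 2))) := by
    apply Finset.prod_congr rfl
    intro i hi
    rw [Finset.mem_range] at hi
    exact fib_eq hF (m + 2 * k) i (by omega)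
  have hNpos : 0 < ∏ i ∈ Finset.range k,
        ((q ^ 2) ^ i * (gg q (m + 2 * k - 2 * i - 1) * gg q (m + 2 * k - 2 * i - 2))) := by
    apply Finset.prod_pos
    intro i _
    exact Nat.mul_pos (by positivity)
      (Nat.mul_pos (gg_pos q hq _) (gg_pos q hq _))
  have h3 := arith q (gg q) m k
  have e1 : m + 2 * k - 2 * k = m := by omega
  have e2 : 2 * (m + 2 * k) - 3 * k = 2 * m + k := by omega
  rw [e1, e2, h2]
  apply Nat.eq_of_mul_eq_mul_right hNpos
  rw [← hN, h1, card_GU hF, hN]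
  show _ = q ^ (k * (2 * m + k)) * _ * (q ^ (m * (m - 1) / 2) * ∏ i ∈ Finset.range m, gg q i) * _
  have h4 : ∏ i ∈ Finset.range (m + 2 * k), (if Even i then q ^ (i + 1) + 1 else q ^ (i + 1) - 1) =
      ∏ i ∈ Finset.range (m + 2 * k), gg q i := rfl
  rw [h4, ← h3]
  ring

end Cfsg.Agent.S0782
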