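import Mathlib
import Cfsg.Statements.S0785
import Cfsg.Agent.Lib.Helper5.Refl

set_option autoImplicit false
open Cfsg

namespace Cfsg.Agent.S0785

/-- det(I) = {±1}: for a quadratic form on F^n whose polar form is non-degenerate, every element of the isometry group has determinant 1 or −1, and as soon as Q takes a non-zero value some isometry has determinant −1. -/
theorem result {F : Type*} [Field F] {n : ℕ} (Q : QuadraticForm F (Fin n → F)) (hQ : (QuadraticMap.polarBilin Q).Nondegenerate) : (∀ g : ↥(Cfsg.isometryGroup F ⇑Q), ((g : Matrix.GeneralLinearGroup (Fin n) F) : Matrix (Fin n) (Fin n) F).det = 1 ∨ ((g : Matrix.GeneralLinearGroup (Fin n) F) : Matrix (Fin n) (Fin n) F).det = -1) ∧ ((∃ v, Q v ≠ 0) → ∃ g : ↥(Cfsg.isometryGroup F ⇑Q), ((g : Matrix.GeneralLinearGroup (Fin n) F) : Matrix (Fin n) (Fin n) F).det = -1) := by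
  constructor
  · intro g
    set A : Matrix (Fin n) (Fin n) F := ((g : Matrix.GeneralLinearGroup (Fin n) F) : Matrix (Fin n) (Fin n) F) with hA
    have hg : ∀ x, Q (A.mulVec x) = Q x := fun x => g.2 x x
    have hpol : ∀ x y, QuadraticMap.polar (⇑Q) (A.mulVec x) (A.mulVec y) = QuadraticMap.polar (⇑Q) x y := by
      intro x y
      simp only [QuadraticMap.polar, ← Matrix.mulVec_add, hg]
    have hcomp : LinearMap.BilinForm.comp (QuadraticMap.polarBilin Q) (Matrix.toLin' A) (Matrix.toLin' A) = QuadraticMap.polarBilin Q := by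
      apply LinearMap.ext
      intro x
      apply LinearMap.ext
      intro y
      rw [LinearMap.BilinForm.comp_apply, Matrix.toLin'_apply, Matrix.toLin'_apply,
        QuadraticMap.polarBilin_apply_apply, QuadraticMap.polarBilin_apply_apply]
      exact hpol _ _
    have hmat := congrArg LinearMap.BilinForm.toMatrix' hcomp
    rw [LinearMap.BilinForm.toMatrix'_comp, LinearMap.toMatrix'_toLin'] at hmat
    have hdet := congrArg Matrix.det hmat
    rw [Matrix.det_mul, Matrix.det_mul, Matrix.det_transpose] at hdet
    have hM : (LinearMap.BilinForm.toMatrix' (QuadraticMap.polarBilin Q)).det ≠ 0 := by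
      rw [← Matrix.nondegenerate_iff_det_ne_zero]
      exact LinearMap.BilinForm.nondegenerate_toMatrix'_iff.mpr hQ
    have h1 : A.det * A.det = 1 := by
      have : (A.det * A.det - 1) * (LinearMap.BilinForm.toMatrix' (QuadraticMap.polarBilin Q)).det = 0 := by
        linear_combination hdet
      rcases mul_eq_zero.mp this with h | h
      · exact sub_eq_zero.mp h
      · exact absurd h hM
    exact mul_self_eq_one_iff.mp h1
  · rintro ⟨v, hv⟩
    exact ⟨Cfsg.Agent.Lib.Helper5.Refl.reflection Q v hv, Cfsg.Agent.Lib.Helper5.Refl.reflection_det Q v hv⟩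

end Cfsg.Agent.S0785
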