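import Mathlib
import Cfsg.Statements.S0786
import Cfsg.Agent.Lib.Helper5.ReflGenMat

set_option autoImplicit false
open Cfsg

namespace Cfsg.Agent.S0786

/-- Generation by reflections: if F is finite, Q is a quadratic form on F^n with non-degenerate polar form, and (|F|, n) ≠ (2, 4), then the isometry group of Q is generated by the reflections r_v, Q(v) ≠ 0. -/
theorem result {F : Type*} [Field F] [Fintype F] {n : ℕ} (Q : QuadraticForm F (Fin n → F)) (hQ : (QuadraticMap.polarBilin Q).Nondegenerate) (h : Fintype.card F ≠ 2 ∨ n ≠ 4) : Subgroup.closure {g : ↥(Cfsg.isometryGroup F ⇑Q) | ∃ v : Fin n → F, Q v ≠ 0 ∧ ((g : Matrix.GeneralLinearGroup (Fin n) F) : Matrix (Fin n) (Fin n) F) = Cfsg.reflectionMatrix ⇑Q v} = ⊤ := by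
  classical
  refine Cfsg.Agent.Lib.Helper5.ReflGenMat.reflSubgroup_eq_top Q hQ ?_
  intro hn
  have hn4 : n = 4 := by simpa using hn
  have hcard : Fintype.card F ≠ 2 := by
    rcases h with h | h
    · exact h
    · exact absurd hn4 h
  by_contra hcon
  push Not at hcon
  have hsub : (Finset.univ : Finset F) ⊆ {0, 1} := by
    intro a _
    by_cases ha : a = 0
    · simp [ha]
    · simp [hcon a ha]
  have h1 := Finset.card_le_card hsub
  have h2 : ({0, 1} : Finset F).card ≤ 2 := Finset.card_le_two
  rw [Finset.card_univ] at h1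
  have h3 : 2 ≤ Fintype.card F := by
    have := Fintype.one_lt_card (α := F)
    omega
  omega

end Cfsg.Agent.S0786
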