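import Mathlib
import Cfsg.Statements.S0791
import Cfsg.Agent.Lib.Helper5.SpinorHyp2

set_option autoImplicit false
open Cfsg

namespace Cfsg.Agent.S0791

open Matrix QuadraticMap Cfsg.Agent.Lib.Helper5 Cfsg.Agent.Lib.Helper5.SpinorNorm
  Cfsg.Agent.Lib.Helper5.SpinorHyp Cfsg.Agent.Lib.Helper5.SpinorHyp2
  Cfsg.Agent.Lib.Helper5.OrthCard Cfsg.Agent.Lib.Helper5.OrthPlane
  Cfsg.Agent.Lib.Helper5.SpinorDiag

theorem minus_eq {F : Type*} [Field F] (k : ℕ) (a b : F) :
    ⇑(genForm (binForm a b) k) = Cfsg.quadFormMinus k F a b := by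
  funext v
  rw [genForm_apply, binForm_apply]
  simp only [Cfsg.quadFormMinus]
  ring

section
variable {F : Type*} [Field F] (k : ℕ) (a b : F)

/-- first vector of an orthogonal basis of the anisotropic plane -/
def z1 : (Fin k ⊕ Fin k) ⊕ Fin 2 → F := Pi.single (Sum.inr 0) 1

/-- second vector of an orthogonal basis of the anisotropic plane -/
def z2 : (Fin k ⊕ Fin k) ⊕ Fin 2 → F :=
  a • Pi.single (Sum.inr 0) 1 - (2 : F) • Pi.single (Sum.inr 1) 1

theorem z1_inr : (fun x : Fin 2 => z1 (F := F) k (Sum.inr x)) = ![1, 0] := by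
  funext x
  fin_cases x <;> simp [z1]

theorem z2_inr : (fun x : Fin 2 => z2 k a (Sum.inr x)) = ![a, -2] := by
  funext x
  fin_cases x <;> simp [z2]

theorem quad_z1 : genForm (binForm a b) k (z1 k) = 1 := by
  rw [genForm_apply, z1_inr, binForm_apply]
  simp [z1]

theorem quad_z2 : genForm (binForm a b) k (z2 k a) = 4 * b - a * a := by
  rw [genForm_apply, z2_inr, binForm_apply]
  simp [z2]
  ring

theorem polar_z1_z2 : polar (genForm (binForm a b) k) (z1 k) (z2 k a) = 0 := by
  rw [polar_genForm, z1_inr, z2_inr, polar_binForm]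
  simp [z1, z2]
  ring

/-- `a² - 4b` is not a square for an anisotropic form -/
theorem disc_not_isSquare (h2 : (2 : F) ≠ 0)
    (hab : ∀ z₁ z₂ : F, z₁ ^ 2 + a * z₁ * z₂ + b * z₂ ^ 2 = 0 → z₁ = 0 ∧ z₂ = 0) :
    ¬ IsSquare (a * a - 4 * b) := by
  rintro ⟨s, hs⟩
  have h4 : (4 : F) ≠ 0 := by
    have : (4 : F) = 2 * 2 := by norm_num
    rw [this]
    exact mul_ne_zero h2 h2
  have := hab ((s - a) / 2) 1 (by
    field_simp
    linear_combination -hs)
  exact one_ne_zero this.2

end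

/-- core statement, for the bundled form -/
theorem core {F : Type*} [Field F] [Fintype F] {q : ℕ} (hF : Fintype.card F = q) (hq : Odd q)
    (k : ℕ) (a b : F)
    (hab : ∀ z₁ z₂ : F, z₁ ^ 2 + a * z₁ * z₂ + b * z₂ ^ 2 = 0 → z₁ = 0 ∧ z₂ = 0) :
    (∃ g : ↥(Cfsg.isometryGroup F ⇑(genForm (binForm a b) k)),
      g ∈ commutator ↥(Cfsg.isometryGroup F ⇑(genForm (binForm a b) k)) ∧
      ((g : Matrix.GeneralLinearGroup ((Fin k ⊕ Fin k) ⊕ Fin 2) F) :
        Matrix ((Fin k ⊕ Fin k) ⊕ Fin 2) ((Fin k ⊕ Fin k) ⊕ Fin 2) F) = -1) ↔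
      q ^ (k + 1) % 4 = 3 := by
  have h2 : (2 : F) ≠ 0 := two_ne_zero_of_odd_card (by rw [hF]; exact hq)
  have han := anisotropic_of a b hab
  set Q := genForm (binForm a b) k with hQdef
  have hQ : (polarBilin Q).Nondegenerate :=
    genForm_nondegenerate (binForm a b) (binForm_nondegenerate a b han) k
  have hfam := genForm_hypFamily (binForm a b) (le_refl k)
  set α := (fun t : Fin k => (Sum.inl (Sum.inl (Fin.castLE (le_refl k) t)) :
    (Fin k ⊕ Fin k) ⊕ Fin 2)) with hα
  set β := (fun t : Fin k => (Sum.inl (Sum.inr (Fin.castLE (le_refl k) t)) :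
    (Fin k ⊕ Fin k) ⊕ Fin 2)) with hβ
  set vs : List ((Fin k ⊕ Fin k) ⊕ Fin 2 → F) := hypList α β ++ [z1 k, z2 k a] with hvsdef
  have hdisc : 4 * b - a * a ≠ 0 := disc_ne_zero a b han h2
  have hvs : ∀ v ∈ vs, Q v ≠ 0 := by
    intro v hv
    rcases List.mem_append.mp hv with h | h
    · exact hypList_ne hfam v h
    · simp only [List.mem_cons, List.mem_singleton, List.not_mem_nil, or_false] at h
      rcases h with rfl | rfl
      · rw [quad_z1]; exact one_ne_zero
      · rw [quad_z2]; exact hdisc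
  have hz1α : ∀ t, z1 (F := F) k (α t) = 0 := fun t => by simp [z1, hα]
  have hz1β : ∀ t, z1 (F := F) k (β t) = 0 := fun t => by simp [z1, hβ]
  have hz2α : ∀ t, z2 k a (α t) = 0 := fun t => by simp [z2, hα]
  have hz2β : ∀ t, z2 k a (β t) = 0 := fun t => by simp [z2, hβ]
  have horth : vs.Pairwise (fun u v => polar ⇑Q u v = 0) := by
    rw [List.pairwise_append]
    refine ⟨hypList_pairwise hfam, ?_, ?_⟩
    · rw [List.pairwise_cons]
      refine ⟨?_, List.pairwise_singleton _ _⟩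
      intro v hv
      rw [List.mem_singleton] at hv
      rw [hv]
      exact polar_z1_z2 k a b
    · intro u hu v hv
      simp only [List.mem_cons, List.mem_singleton, List.not_mem_nil, or_false] at hv
      rcases hv with rfl | rfl
      · exact polar_hypList_eq_zero hfam _ hz1α hz1β u hu
      · exact polar_hypList_eq_zero hfam _ hz2α hz2β u hu
  have hsub : Submodule.span F {v | v ∈ hypList (F := F) α β} ≤ Submodule.span F {v | v ∈ vs} := by
    apply Submodule.span_mono
    intro v hv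
    exact List.mem_append_left _ hv
  have hz1mem : z1 (F := F) k ∈ Submodule.span F {v | v ∈ vs} :=
    Submodule.subset_span (List.mem_append_right _ (by simp))
  have hz2mem : z2 k a ∈ Submodule.span F {v | v ∈ vs} :=
    Submodule.subset_span (List.mem_append_right _ (by simp))
  have hD : rprod Q vs = -1 := by
    have h1 : rprod Q vs = Matrix.diagonal (fun _ => (-1 : F)) := by
      apply rprod_eq_diagonal Q vs hvs horth
      intro x
      left
      refine ⟨rfl, ?_⟩
      rcases x with (j | j) | j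
      · have : (Sum.inl (Sum.inl j) : (Fin k ⊕ Fin k) ⊕ Fin 2) = α j := by simp [hα]
        rw [this]
        exact hsub (single_α_mem_span h2 j)
      · have : (Sum.inl (Sum.inr j) : (Fin k ⊕ Fin k) ⊕ Fin 2) = β j := by simp [hβ]
        rw [this]
        exact hsub (single_β_mem_span h2 j)
      · fin_cases j
        · exact hz1mem
        · have : (Pi.single (Sum.inr 1) 1 : (Fin k ⊕ Fin k) ⊕ Fin 2 → F) =
              (2 : F)⁻¹ • (a • z1 k - z2 k a) := by
            unfold z1 z2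
            rw [sub_sub_cancel, smul_smul, inv_mul_cancel₀ h2, one_smul]
          show (Pi.single (Sum.inr 1) 1 : (Fin k ⊕ Fin k) ⊕ Fin 2 → F) ∈ _
          rw [this]
          exact Submodule.smul_mem _ _ (Submodule.sub_mem _ (Submodule.smul_mem _ _ hz1mem) hz2mem)
    rw [h1]
    ext x y
    simp only [Matrix.diagonal_apply, Matrix.neg_apply, Matrix.one_apply]
    split_ifs <;> simp
  have hcard : 2 ≤ Fintype.card ((Fin k ⊕ Fin k) ⊕ Fin 2) := by
    simp only [Fintype.card_sum, Fintype.card_fin]; omega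
  rw [exists_mem_commutator_iff Q h2 hQ hcard vs hvs _ hD]
  have hlen : vs.length = k + k + 2 := by
    rw [hvsdef, List.length_append, hypList_length]
    rfl
  have hprod : (vs.map Q).prod = (-1) ^ (k + 1) * (a * a - 4 * b) := by
    rw [hvsdef, List.map_append, List.prod_append, hypList_prod hfam]
    simp only [List.map_cons, List.map_nil, List.prod_cons, List.prod_nil]
    rw [quad_z1, quad_z2, pow_succ]
    ring
  rw [hlen, hprod]
  have hne : ((-1 : F)) ^ (k + 1) ≠ 0 := pow_ne_zero _ (neg_ne_zero.mpr one_ne_zero)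
  rw [isSquare_mul_nonsquare_iff (by rw [hF]; exact hq) _ _ hne (disc_not_isSquare a b h2 hab),
    isSquare_neg_one_pow_iff' hF hq]
  have hodd : Odd (q ^ (k + 1)) := hq.pow
  have h4 := Nat.odd_iff.mp hodd
  constructor
  · rintro ⟨-, h⟩
    omega
  · intro h
    refine ⟨⟨k + 1, by ring⟩, by omega⟩

/-- −1 ∈ Ω⁻_2m(q) iff q^m ≡ −1 (mod 4), for q odd and m ≥ 1; for the minus-type form quadFormMinus (m−1) with anisotropic binary part. -/
theorem result {F : Type*} [Field F] [Fintype F] {q : ℕ} (hF : Fintype.card F = q) (hodd : Odd q) (m : ℕ) (hm : 1 ≤ m) (a b : F) (hab : ∀ z₁ z₂ : F, z₁ ^ 2 + a * z₁ * z₂ + b * z₂ ^ 2 = 0 → z₁ = 0 ∧ z₂ = 0) : (∃ g : ↥(Cfsg.isometryGroup F (Cfsg.quadFormMinus (m - 1) F a b)), g ∈ Cfsg.Omega F (Cfsg.quadFormMinus (m - 1) F a b) ∧ ((g : Matrix.GeneralLinearGroup ((Fin (m - 1) ⊕ Fin (m - 1)) ⊕ Fin 2) F) : Matrix ((Fin (m - 1) ⊕ Fin (m - 1)) ⊕ Fin 2) ((Fin (m - 1) ⊕ Fin (m - 1)) ⊕ Fin 2) F) = -1) ↔ q ^ m % 4 = 3 := by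
  have := core hF hodd (m - 1) a b hab
  rw [minus_eq, Nat.sub_add_cancel hm] at this
  exact this

end Cfsg.Agent.S0791
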