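import Mathlib
import Cfsg.Statements.S0792
import Cfsg.Agent.Lib.Helper5.CartanDieudonne

set_option autoImplicit false
open Cfsg

namespace Cfsg.Agent.S0792

open Matrix QuadraticMap Cfsg.Agent.Lib.Helper5.Refl Cfsg.Agent.Lib.Helper5.CartanDieudonne

section
variable {F : Type*} [Field F] {n : ℕ} (Q : QuadraticForm F (Fin n → F))

/-- the subgroup generated by products of two reflections -/
def T : Subgroup ↥(Cfsg.isometryGroup F ⇑Q) :=
  Subgroup.closure {g : ↥(Cfsg.isometryGroup F ⇑Q) | ∃ u v : Fin n → F, Q u ≠ 0 ∧ Q v ≠ 0 ∧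
    ((g : Matrix.GeneralLinearGroup (Fin n) F) : Matrix (Fin n) (Fin n) F) =
      Cfsg.reflectionMatrix ⇑Q u * Cfsg.reflectionMatrix ⇑Q v}

theorem two_mem (u v : Fin n → F) (hu : Q u ≠ 0) (hv : Q v ≠ 0) :
    reflection Q u hu * reflection Q v hv ∈ T Q :=
  Subgroup.subset_closure ⟨u, v, hu, hv, rfl⟩

theorem reflection_inv (u : Fin n → F) (hu : Q u ≠ 0) : (reflection Q u hu)⁻¹ = reflection Q u hu := by
  rw [inv_eq_iff_mul_eq_one]
  apply Subtype.ext
  apply Units.ext
  exact reflection_mul_self Q u hu

theorem reflection_mul_self' (u : Fin n → F) (hu : Q u ≠ 0) :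
    reflection Q u hu * reflection Q u hu = 1 := by
  have := reflection_inv Q u hu
  rw [inv_eq_iff_mul_eq_one] at this
  exact this

/-- sandwich lemma -/
theorem sandwich (t : ↥(Cfsg.isometryGroup F ⇑Q)) (ht : t ∈ T Q) :
    ∀ (u v : Fin n → F) (hu : Q u ≠ 0) (hv : Q v ≠ 0),
      reflection Q u hu * t * reflection Q v hv ∈ T Q := by
  induction ht using Subgroup.closure_induction with
  | mem g hg =>
    intro u v hu hv
    obtain ⟨a, b, ha, hb, hab⟩ := hg
    have hg' : g = reflection Q a ha * reflection Q b hb := by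
      apply Subtype.ext; apply Units.ext; exact hab
    rw [hg']
    have : reflection Q u hu * (reflection Q a ha * reflection Q b hb) * reflection Q v hv =
        (reflection Q u hu * reflection Q a ha) * (reflection Q b hb * reflection Q v hv) := by
      group
    rw [this]
    exact Subgroup.mul_mem _ (two_mem Q u a hu ha) (two_mem Q b v hb hv)
  | one =>
    intro u v hu hv
    rw [mul_one]
    exact two_mem Q u v hu hv
  | mul a b _ _ iha ihb =>
    intro u v hu hv
    have : reflection Q u hu * (a * b) * reflection Q v hv =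
        (reflection Q u hu * a * reflection Q v hv) * (reflection Q v hv * b * reflection Q v hv) := by
      have h := reflection_mul_self' Q v hv
      calc reflection Q u hu * (a * b) * reflection Q v hv
          = reflection Q u hu * a * 1 * b * reflection Q v hv := by group
        _ = reflection Q u hu * a * (reflection Q v hv * reflection Q v hv) * b * reflection Q v hv := by
            rw [h]
        _ = _ := by group
    rw [this]
    exact Subgroup.mul_mem _ (iha u v hu hv) (ihb v v hv hv)
  | inv a _ iha =>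
    intro u v hu hv
    have : reflection Q u hu * a⁻¹ * reflection Q v hv =
        (reflection Q v hv * a * reflection Q u hu)⁻¹ := by
      rw [_root_.mul_inv_rev, _root_.mul_inv_rev, reflection_inv, reflection_inv, mul_assoc]
    rw [this]
    exact Subgroup.inv_mem _ (iha v u hv hu)

theorem det_reflection (u : Fin n → F) (hu : Q u ≠ 0) :
    (Matrix.GeneralLinearGroup.det.comp (Cfsg.isometryGroup F ⇑Q).subtype) (reflection Q u hu) = -1 := by
  apply Units.ext
  rw [MonoidHom.comp_apply, Matrix.GeneralLinearGroup.val_det_apply]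
  change (reflectionMatrix (⇑Q) u).det = _
  rw [reflection_det Q u hu]
  simp

theorem T_le : T Q ≤ Cfsg.specialIsometryGroup F ⇑Q := by
  unfold T
  rw [Subgroup.closure_le]
  rintro g ⟨u, v, hu, hv, huv⟩
  have hg' : g = reflection Q u hu * reflection Q v hv := by
    apply Subtype.ext; apply Units.ext; exact huv
  change g ∈ (Matrix.GeneralLinearGroup.det.comp (Cfsg.isometryGroup F ⇑Q).subtype).ker
  rw [MonoidHom.mem_ker, hg', map_mul, det_reflection, det_reflection]
  simp

theorem mem_T_or (v₀ : Fin n → F) (hv₀ : Q v₀ ≠ 0) (g : ↥(Cfsg.isometryGroup F ⇑Q))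
    (hg : g ∈ reflSubgroup Q) : g ∈ T Q ∨ g * reflection Q v₀ hv₀ ∈ T Q := by
  unfold reflSubgroup at hg
  induction hg using Subgroup.closure_induction with
  | mem g hg =>
    obtain ⟨u, hu, hgu⟩ := hg
    have hg' : g = reflection Q u hu := by
      apply Subtype.ext; apply Units.ext; exact hgu
    right
    rw [hg']
    exact two_mem Q u v₀ hu hv₀
  | one => left; exact Subgroup.one_mem _
  | mul a b _ _ iha ihb =>
    have hr := reflection_mul_self' Q v₀ hv₀
    rcases iha with ha | ha <;> rcases ihb with hb | hb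
    · left; exact Subgroup.mul_mem _ ha hb
    · right
      rw [mul_assoc]
      exact Subgroup.mul_mem _ ha hb
    · right
      have : a * b * reflection Q v₀ hv₀ =
          (a * reflection Q v₀ hv₀) * (reflection Q v₀ hv₀ * b * reflection Q v₀ hv₀) := by
        calc a * b * reflection Q v₀ hv₀ = a * 1 * b * reflection Q v₀ hv₀ := by group
          _ = a * (reflection Q v₀ hv₀ * reflection Q v₀ hv₀) * b * reflection Q v₀ hv₀ := by rw [hr]
          _ = _ := by group
      rw [this]
      exact Subgroup.mul_mem _ ha (sandwich Q b hb v₀ v₀ hv₀ hv₀)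
    · left
      have : a * b = (a * reflection Q v₀ hv₀) *
          (reflection Q v₀ hv₀ * (b * reflection Q v₀ hv₀) * reflection Q v₀ hv₀) := by
        calc a * b = a * 1 * b * 1 := by group
          _ = a * (reflection Q v₀ hv₀ * reflection Q v₀ hv₀) * b *
              (reflection Q v₀ hv₀ * reflection Q v₀ hv₀) := by rw [hr]
          _ = _ := by group
      rw [this]
      exact Subgroup.mul_mem _ ha (sandwich Q _ hb v₀ v₀ hv₀ hv₀)
  | inv a _ iha =>
    have hr := reflection_mul_self' Q v₀ hv₀
    rcases iha with ha | ha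
    · left; exact Subgroup.inv_mem _ ha
    · right
      have : a⁻¹ * reflection Q v₀ hv₀ =
          (reflection Q v₀ hv₀ * (a * reflection Q v₀ hv₀) * reflection Q v₀ hv₀)⁻¹ := by
        rw [_root_.mul_inv_rev, _root_.mul_inv_rev, _root_.mul_inv_rev, reflection_inv]
        calc a⁻¹ * reflection Q v₀ hv₀
            = (reflection Q v₀ hv₀ * reflection Q v₀ hv₀) * a⁻¹ * reflection Q v₀ hv₀ := by
              rw [hr, one_mul]
          _ = _ := by group
      rw [this]
      exact Subgroup.inv_mem _ (sandwich Q _ ha v₀ v₀ hv₀ hv₀)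

end

/-- For q odd and Q with non-degenerate polar form on F^n, the determinant-one isometries form the subgroup generated by all products r_u r_v of two reflections (Q(u), Q(v) ≠ 0). -/
theorem result {F : Type*} [Field F] [Fintype F] (h2 : (2 : F) ≠ 0) {n : ℕ} (Q : QuadraticForm F (Fin n → F)) (hQ : (QuadraticMap.polarBilin Q).Nondegenerate) : Cfsg.specialIsometryGroup F ⇑Q = Subgroup.closure {g : ↥(Cfsg.isometryGroup F ⇑Q) | ∃ u v : Fin n → F, Q u ≠ 0 ∧ Q v ≠ 0 ∧ ((g : Matrix.GeneralLinearGroup (Fin n) F) : Matrix (Fin n) (Fin n) F) = Cfsg.reflectionMatrix ⇑Q u * Cfsg.reflectionMatrix ⇑Q v} := by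
  apply le_antisymm
  · intro g hg
    change g ∈ T Q
    have hgr : g ∈ reflSubgroup Q := by
      rw [reflSubgroup_eq_top h2 Q hQ]; trivial
    by_cases hex : ∃ v : Fin n → F, Q v ≠ 0
    · obtain ⟨v₀, hv₀⟩ := hex
      rcases mem_T_or Q v₀ hv₀ g hgr with h | h
      · exact h
      · exfalso
        have h1 := T_le Q h
        change _ ∈ (Matrix.GeneralLinearGroup.det.comp (Cfsg.isometryGroup F ⇑Q).subtype).ker at h1 hg
        rw [MonoidHom.mem_ker] at h1 hg
        rw [map_mul, hg, one_mul, det_reflection] at h1
        have h3 : ((-1 : Fˣ) : F) = ((1 : Fˣ) : F) := by rw [h1]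
        rw [Units.val_neg, Units.val_one] at h3
        apply h2
        linear_combination -h3
    · push Not at hex
      have hbot : reflSubgroup Q = ⊥ := by
        unfold reflSubgroup
        rw [Subgroup.closure_eq_bot_iff]
        rintro g ⟨v, hv, _⟩
        exact absurd (hex v) hv
      rw [hbot, Subgroup.mem_bot] at hgr
      rw [hgr]
      exact Subgroup.one_mem _
  · exact T_le Q

end Cfsg.Agent.S0792
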