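import Mathlib
import Cfsg.Statements.S0795
import Cfsg.Agent.Lib.Helper5.OmegaGen

set_option autoImplicit false
open Cfsg

namespace Cfsg.Agent.S0795

/-- Generation of Ω by root elements: for q odd, n ≥ 5 and Q with non-degenerate polar form on F^n, the commutator subgroup of the isometry group equals the subgroup generated by the isometries whose matrices are Siegel transformations T_(u,v)(c) with u, v singular and orthogonal. -/
theorem result {F : Type*} [Field F] [Fintype F] (h2 : (2 : F) ≠ 0) {n : ℕ} (hn : 5 ≤ n) (Q : QuadraticForm F (Fin n → F)) (hQ : (QuadraticMap.polarBilin Q).Nondegenerate) : Cfsg.Omega F ⇑Q = Subgroup.closure {g : ↥(Cfsg.isometryGroup F ⇑Q) | ∃ (u v : Fin n → F) (c : F), Q u = 0 ∧ Q v = 0 ∧ QuadraticMap.polar ⇑Q u v = 0 ∧ ((g : Matrix.GeneralLinearGroup (Fin n) F) : Matrix (Fin n) (Fin n) F) = Cfsg.siegelMatrix ⇑Q u v c} := by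
  classical
  have h5 : 5 ≤ Fintype.card (Fin n) := by simpa using hn
  have hS : ∀ (u v : Fin n → F) (hu : Q u = 0) (hv : Q v = 0)
      (huv : QuadraticMap.polar ⇑Q u v = 0) (c : F),
      Cfsg.Agent.Lib.Helper5.Siegel.siegel Q u v hu hv huv c ∈
        commutator ↥(Cfsg.isometryGroup F ⇑Q) := by
    intro u v hu hv huv c
    rw [commutator_eq_closure]
    exact Subgroup.subset_closure
      (Cfsg.Agent.Lib.Helper5.Siegel.siegel_mem_commutatorSet h2 Q hQ u v hu hv huv c _ rfl)
  exact Cfsg.Agent.Lib.Helper5.OmegaGen.commutator_eq_T Q hQ h5 hS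

end Cfsg.Agent.S0795
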