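import Mathlib
import Cfsg.Statements.S0796

set_option autoImplicit false
open Cfsg

namespace Cfsg.Agent.S0796

/-- If G is finite and acts faithfully and primitively on X, H is the stabiliser of a point, A is a normal subgroup of H whose normal closure in G is G, then for every non-trivial normal subgroup K of G the quotient G ⧸ K is isomorphic to A ⧸ B for some normal subgroup B of A. -/
theorem result {G X : Type*} [Group G] [Finite G] [MulAction G X] [FaithfulSMul G X] (hprim : MulAction.IsPreprimitive G X) (x : X) (A : Subgroup G) (hA : A ≤ MulAction.stabilizer G x) (hAn : (A.subgroupOf (MulAction.stabilizer G x)).Normal) (hgen : Subgroup.normalClosure (A : Set G) = ⊤) (K : Subgroup G) [K.Normal] (hK : K ≠ ⊥) : ∃ (B : Subgroup A) (_ : B.Normal), Nonempty (G ⧸ K ≃* A ⧸ B) := by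
  classical
  -- K does not act trivially
  have hKX : MulAction.fixedPoints K X ≠ Set.univ := by
    intro h
    apply hK
    rw [Subgroup.eq_bot_iff_forall]
    intro k hk
    apply FaithfulSMul.eq_of_smul_eq_smul (α := X)
    intro y
    rw [one_smul]
    have hy : y ∈ MulAction.fixedPoints K X := by rw [h]; exact Set.mem_univ y
    exact hy ⟨k, hk⟩
  have htrans : MulAction.IsPretransitive K X :=
    MulAction.IsQuasiPreprimitive.isPretransitive_of_normal hKX
  -- K ⊔ A = ⊤
  have hsup : K ⊔ A = ⊤ := by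
    rw [eq_top_iff, ← hgen]
    apply (Subgroup.closure_le _).mpr
    intro c hc
    rw [Group.mem_conjugatesOfSet_iff] at hc
    obtain ⟨a, ha, hconj⟩ := hc
    rw [isConj_iff] at hconj
    obtain ⟨g, rfl⟩ := hconj
    obtain ⟨k, hk⟩ := MulAction.exists_smul_eq K x (g • x)
    have hk' : (k : G) • x = g • x := hk
    set h : G := (k : G)⁻¹ * g with hh
    have hstab : h ∈ MulAction.stabilizer G x := by
      rw [MulAction.mem_stabilizer_iff, hh, mul_smul, ← hk', inv_smul_smul]
    have hconjA : h * a * h⁻¹ ∈ A := by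
      have := hAn.conj_mem ⟨a, hA ha⟩ (by exact ha) ⟨h, hstab⟩
      exact this
    have hg : g = (k : G) * h := by rw [hh, mul_inv_cancel_left]
    have : g * a * g⁻¹ = (k : G) * (h * a * h⁻¹) * (k : G)⁻¹ := by
      rw [hg]; group
    show g * a * g⁻¹ ∈ K ⊔ A
    rw [this]
    exact mul_mem (mul_mem (Subgroup.mem_sup_left k.2) (Subgroup.mem_sup_right hconjA))
      (inv_mem (Subgroup.mem_sup_left k.2))
  set φ : A →* G ⧸ K := (QuotientGroup.mk' K).comp A.subtype with hφ
  have hsurj : Function.Surjective φ := by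
    intro y
    obtain ⟨g, rfl⟩ := QuotientGroup.mk_surjective y
    have hg : g ∈ K ⊔ A := by rw [hsup]; exact Subgroup.mem_top g
    rw [← SetLike.mem_coe, Subgroup.normal_mul] at hg
    obtain ⟨k, hk, a, ha, rfl⟩ := Set.mem_mul.mp hg
    refine ⟨⟨a, ha⟩, ?_⟩
    show (QuotientGroup.mk a : G ⧸ K) = QuotientGroup.mk (k * a)
    rw [QuotientGroup.eq]
    have : a⁻¹ * (k * a) = a⁻¹ * k * a := by group
    rw [this]
    have h1 := ‹K.Normal›.conj_mem k hk a⁻¹
    rwa [inv_inv] at h1
  exact ⟨φ.ker, inferInstance, ⟨(QuotientGroup.quotientKerEquivOfSurjective φ hsurj).symm⟩⟩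

end Cfsg.Agent.S0796
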