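import Mathlib
import Cfsg.Statements.S0797
import Cfsg.Agent.Lib.Helper5.SpinorNorm

set_option autoImplicit false
open Cfsg

namespace Cfsg.Agent.S0797

open Cfsg.Agent.Lib.Helper5.SpinorNorm

/-- index-2 subgroups contain the commutator subgroup -/
theorem commutator_le_of_index_two {G : Type*} [Group G] (H : Subgroup G) (hH : H.index = 2) :
    commutator G ≤ H := by
  have : H.Normal := Subgroup.normal_of_index_eq_two hH
  rw [← Subgroup.Normal.quotient_commutative_iff_commutator_le]
  have : Fact (Nat.Prime 2) := ⟨Nat.prime_two⟩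
  have hc : Nat.card (G ⧸ H) = 2 := hH
  have := isCyclic_of_prime_card hc
  exact IsCyclic.isMulCommutative

/-- correspondence of index-2 subgroups -/
noncomputable def indexTwoEquiv {G K : Type*} [Group G] [Group K] (f : G →* K)
    (hf : Function.Surjective f) (hker : f.ker = commutator G) :
    {H : Subgroup G // H.index = 2} ≃ {H : Subgroup K // H.index = 2} where
  toFun H := ⟨H.1.map f, by
    rw [Subgroup.index_map_eq _ hf (hker ▸ commutator_le_of_index_two H.1 H.2)]; exact H.2⟩
  invFun H := ⟨H.1.comap f, by rw [Subgroup.index_comap_of_surjective _ hf]; exact H.2⟩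
  left_inv H := by
    apply Subtype.ext
    exact Subgroup.comap_map_eq_self (hker ▸ commutator_le_of_index_two H.1 H.2)
  right_inv H := by
    apply Subtype.ext
    exact Subgroup.map_comap_eq_self_of_surjective hf H.1

/-- the Klein four group has three subgroups of index two -/
theorem card_index_two_klein : Nat.card {H : Subgroup (ℤˣ × ℤˣ) // H.index = 2} = 3 := by
  classical
  have hsq : ∀ x : ℤˣ × ℤˣ, x * x = 1 := by decide
  have hcard : Nat.card (ℤˣ × ℤˣ) = 4 := by
    rw [Nat.card_prod, Nat.card_eq_fintype_card, Fintype.card_units_int]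
  have hord : ∀ x : ℤˣ × ℤˣ, x ≠ 1 → Nat.card (Subgroup.zpowers x) = 2 := by
    intro x hx
    rw [Nat.card_zpowers]
    exact orderOf_eq_prime (by rw [pow_two]; exact hsq x) hx
  have hidx : ∀ x : ℤˣ × ℤˣ, x ≠ 1 → (Subgroup.zpowers x).index = 2 := by
    intro x hx
    have := (Subgroup.zpowers x).card_mul_index
    rw [hord x hx, hcard] at this
    omega
  let e : {x : ℤˣ × ℤˣ // x ≠ 1} → {H : Subgroup (ℤˣ × ℤˣ) // H.index = 2} :=
    fun x => ⟨Subgroup.zpowers x.1, hidx x.1 x.2⟩
  have hmem : ∀ x y : ℤˣ × ℤˣ, y ∈ Subgroup.zpowers x → y = 1 ∨ y = x := by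
    intro x y hy
    rw [Subgroup.mem_zpowers_iff] at hy
    obtain ⟨k, rfl⟩ := hy
    rcases Int.even_or_odd k with ⟨j, rfl⟩ | ⟨j, rfl⟩
    · left
      rw [zpow_add, ← mul_zpow, hsq, one_zpow]
    · right
      rw [zpow_add, zpow_mul, zpow_two, hsq, one_zpow, one_mul, zpow_one]
  have hbij : Function.Bijective e := by
    constructor
    · intro x y hxy
      have h1 : Subgroup.zpowers x.1 = Subgroup.zpowers y.1 := congrArg Subtype.val hxy
      have h2 : x.1 ∈ Subgroup.zpowers y.1 := h1 ▸ Subgroup.mem_zpowers x.1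
      rcases hmem _ _ h2 with h | h
      · exact absurd h x.2
      · exact Subtype.ext h
    · intro H
      have hHc : Nat.card H.1 = 2 := by
        have := H.1.card_mul_index
        rw [H.2, hcard] at this
        omega
      have hne : ∃ x ∈ H.1, x ≠ 1 := by
        by_contra hcon
        push Not at hcon
        have : H.1 = ⊥ := by
          rw [Subgroup.eq_bot_iff_forall]; exact hcon
        rw [this, Subgroup.card_bot] at hHc
        omega
      obtain ⟨x, hxH, hx1⟩ := hne
      refine ⟨⟨x, hx1⟩, Subtype.ext ?_⟩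
      show Subgroup.zpowers x = H.1
      have hle : Subgroup.zpowers x ≤ H.1 := by
        rw [Subgroup.zpowers_le]; exact hxH
      exact Subgroup.eq_of_le_of_card_ge hle (by rw [hHc, hord x hx1])
  rw [← Nat.card_congr (Equiv.ofBijective e hbij)]
  rw [Nat.card_eq_fintype_card]
  decide

/-- O^ε_2m(q) ≅ Ω.2² for q odd: if F is finite of odd characteristic, n ≥ 2 is even and Q has non-degenerate polar form on F^n, the isometry group of Q has exactly three subgroups of index 2. -/
theorem result {F : Type*} [Field F] [Fintype F] (h2 : (2 : F) ≠ 0) {n : ℕ} (hn : 2 ≤ n) (heven : Even n) (Q : QuadraticForm F (Fin n → F)) (hQ : (QuadraticMap.polarBilin Q).Nondegenerate) : Nat.card {H : Subgroup ↥(Cfsg.isometryGroup F ⇑Q) // H.index = 2} = 3 := by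
  have hcard : 2 ≤ Fintype.card (Fin n) := by simpa using hn
  rw [Nat.card_congr (indexTwoEquiv (theta Q h2 hQ) (theta_surjective Q h2 hQ hcard)
    (ker_theta Q h2 hQ hcard))]
  exact card_index_two_klein

end Cfsg.Agent.S0797
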