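import Mathlib
import Cfsg.Statements.S0800

set_option autoImplicit false
open Cfsg

namespace Cfsg.Agent.S0800

open Polynomial

/-- Cayley–Hamilton for a 2×2 matrix of determinant one. -/
theorem cayley {F : Type*} [Field F] (A : Matrix (Fin 2) (Fin 2) F) (hdet : A.det = 1) :
    A * A - A.trace • A + 1 = 0 := by
  rw [Matrix.det_fin_two] at hdet
  rw [Matrix.trace_fin_two]
  ext i j
  fin_cases i <;> fin_cases j <;>
    simp [Matrix.mul_apply, Fin.sum_univ_two] <;> first | ring1 | linear_combination -hdet

/-- If a monic quadratic `X² - tX + 1` divides `X^e - 1`, then `A^e = 1`. -/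
theorem pow_eq_one_of_dvd {F : Type*} [Field F] (A : Matrix (Fin 2) (Fin 2) F) (hdet : A.det = 1)
    (e : ℕ) (h : (X ^ 2 - C A.trace * X + 1 : F[X]) ∣ X ^ e - 1) : A ^ e = 1 := by
  obtain ⟨r, hr⟩ := h
  have h1 := congrArg (aeval A) hr
  have h2 : aeval A (X ^ 2 - C A.trace * X + 1 : F[X]) = 0 := by
    simp only [map_add, map_sub, map_mul, map_pow, aeval_X, aeval_C, map_one]
    rw [sq, Algebra.algebraMap_eq_smul_one, smul_mul_assoc, one_mul]
    exact cayley A hdet
  rw [map_mul, h2, zero_mul] at h1
  simp only [map_sub, map_pow, aeval_X, map_one] at h1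
  exact sub_eq_zero.mp h1

theorem key {F : Type*} [Field F] [Fintype F] (p : ℕ) [Fact p.Prime] [CharP F p]
    (A : Matrix (Fin 2) (Fin 2) F) (hdet : A.det = 1) :
    A ^ (Fintype.card F - 1) = 1 ∨ A ^ (Fintype.card F + 1) = 1 ∨
      ∃ s : F, s * s = 1 ∧ (A - s • 1) * (A - s • 1) = 0 := by
  set q := Fintype.card F with hq
  set t := A.trace with ht
  set K := AlgebraicClosure F
  obtain ⟨k, _, hk⟩ := FiniteField.card F p
  have hq1 : 1 ≤ q := Fintype.card_pos
  have : CharP K p := charP_of_injective_algebraMap (algebraMap F K).injective p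
  set tK : K := algebraMap F K t with htK
  have htq : tK ^ q = tK := by
    rw [htK, ← map_pow, FiniteField.pow_card]
  -- a root
  obtain ⟨l, hl⟩ : ∃ l : K, l ^ 2 - tK * l + 1 = 0 := by
    have hdeg : (X ^ 2 - C tK * X + 1 : K[X]).degree ≠ 0 := by
      have : (X ^ 2 - C tK * X + 1 : K[X]) = X ^ 2 + (- C tK * X + 1) := by ring
      rw [this, degree_add_eq_left_of_degree_lt]
      · rw [degree_X_pow]; norm_num
      · rw [degree_X_pow]
        refine lt_of_le_of_lt (degree_add_le _ _) ?_
        rw [max_lt_iff]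
        constructor
        · refine lt_of_le_of_lt (degree_mul_le _ _) ?_
          rw [degree_X, ← C_neg]
          refine lt_of_le_of_lt (add_le_add_left degree_C_le _) ?_
          norm_num
        · rw [degree_one]; norm_num
    obtain ⟨l, hl⟩ := IsAlgClosed.exists_root _ hdeg
    refine ⟨l, ?_⟩
    simpa [IsRoot] using hl
  set m : K := tK - l with hm
  have hlm : l * m = 1 := by rw [hm]; linear_combination -hl
  have hl0 : l ≠ 0 := left_ne_zero_of_mul_eq_one hlm
  have hm0 : m ≠ 0 := right_ne_zero_of_mul_eq_one hlm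
  -- Frobenius
  have hfrob : (l ^ q) ^ 2 - tK * l ^ q + 1 = 0 := by
    have h1 := congrArg (iterateFrobenius K p k) hl
    simp only [map_add, map_sub, map_mul, map_pow, map_one, map_zero, iterateFrobenius_def] at h1
    rw [← hk, htq] at h1
    exact h1
  have hcases : l ^ q = l ∨ l ^ q = m := by
    have : (l ^ q - l) * (l ^ q - m) = 0 := by
      rw [hm]; linear_combination hfrob - hl
    rcases mul_eq_zero.mp this with h | h
    · exact Or.inl (sub_eq_zero.mp h)
    · exact Or.inr (sub_eq_zero.mp h)
  -- exponent e with l^e = 1 = m^e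
  obtain ⟨e, he, hle⟩ : ∃ e, (e = q - 1 ∨ e = q + 1) ∧ l ^ e = 1 := by
    rcases hcases with h | h
    · refine ⟨q - 1, Or.inl rfl, ?_⟩
      have : l ^ (q - 1) * l = l := by rw [← pow_succ, Nat.sub_add_cancel hq1, h]
      exact mul_right_cancel₀ hl0 (by rw [this, one_mul])
    · refine ⟨q + 1, Or.inr rfl, ?_⟩
      rw [pow_succ, h, mul_comm, hlm]
  have hme : m ^ e = 1 := by
    have : (l * m) ^ e = 1 := by rw [hlm, one_pow]
    rwa [mul_pow, hle, one_mul] at this
  by_cases hne : l = m
  · -- double root
    right; right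
    have hl2 : l * l = 1 := by
      have := hlm
      rw [← hne] at this
      exact this
    have htl : tK = l + l := by
      have : m = tK - l := hm
      rw [← hne] at this
      linear_combination -this
    have hl1 : l = 1 ∨ l = -1 := by
      have : (l - 1) * (l + 1) = 0 := by linear_combination hl2
      rcases mul_eq_zero.mp this with h | h
      · exact Or.inl (sub_eq_zero.mp h)
      · exact Or.inr (eq_neg_of_add_eq_zero_left h)
    have hcay := cayley A hdet
    rw [← ht] at hcay
    rcases hl1 with h | h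
    · have : t = 2 := by
        apply (algebraMap F K).injective
        rw [← htK, htl, h, map_ofNat]; norm_num
      refine ⟨1, by ring, ?_⟩
      rw [this] at hcay
      rw [← hcay, one_smul, two_smul]
      noncomm_ring
    · have : t = -2 := by
        apply (algebraMap F K).injective
        rw [← htK, htl, h, map_neg, map_ofNat]; norm_num
      refine ⟨-1, by ring, ?_⟩
      rw [this] at hcay
      rw [← hcay, neg_smul, one_smul, neg_smul, two_smul]
      noncomm_ring
  · have hdvd : (X ^ 2 - C t * X + 1 : F[X]) ∣ X ^ e - 1 := by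
      rw [← Polynomial.map_dvd_map' (algebraMap F K)]
      have h1 : (X ^ 2 - C t * X + 1 : F[X]).map (algebraMap F K) = (X - C l) * (X - C m) := by
        simp only [Polynomial.map_add, Polynomial.map_sub, Polynomial.map_mul, Polynomial.map_pow,
          Polynomial.map_X, Polynomial.map_C, Polynomial.map_one]
        have : (C l * C m : K[X]) = 1 := by rw [← C_mul, hlm, C_1]
        have h2 : (C (algebraMap F K t) : K[X]) = C l + C m := by
          rw [← C_add, hm]; congr 1; ring
        rw [h2]
        linear_combination -this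
      have h2 : (X ^ e - 1 : F[X]).map (algebraMap F K) = X ^ e - 1 := by
        simp
      rw [h1, h2]
      apply IsCoprime.mul_dvd
      · exact Polynomial.isCoprime_X_sub_C_of_isUnit_sub (IsUnit.mk0 _ (sub_ne_zero.mpr hne))
      · rw [dvd_iff_isRoot]; simp [hle]
      · rw [dvd_iff_isRoot]; simp [hme]
    have := pow_eq_one_of_dvd A hdet e hdvd
    rcases he with rfl | rfl
    · exact Or.inl this
    · exact Or.inr (Or.inl this)

/-- Tori of SL_2(q): if g ∈ SL_2(q) has order coprime to the characteristic p, then the order of g divides q − 1 or q + 1. -/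
theorem result {F : Type*} [Field F] [Fintype F] {q : ℕ} (hF : Fintype.card F = q) (p : ℕ) [Fact p.Prime] [CharP F p] (g : Matrix.SpecialLinearGroup (Fin 2) F) (hg : Nat.Coprime (orderOf g) p) : orderOf g ∣ q - 1 ∨ orderOf g ∣ q + 1 := by
  subst hF
  have hdet : (g : Matrix (Fin 2) (Fin 2) F).det = 1 := g.2
  have hpow : ∀ e : ℕ, (g : Matrix (Fin 2) (Fin 2) F) ^ e = 1 → orderOf g ∣ e := by
    intro e he
    apply orderOf_dvd_of_pow_eq_one
    apply Subtype.ext
    rw [Matrix.SpecialLinearGroup.coe_pow, he]
    rfl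
  rcases key p (g : Matrix (Fin 2) (Fin 2) F) hdet with h | h | ⟨s, hs, hN⟩
  · exact Or.inl (hpow _ h)
  · exact Or.inr (hpow _ h)
  · left
    have hp2 : 2 ≤ p := (Fact.out : p.Prime).two_le
    set N : Matrix (Fin 2) (Fin 2) F := (g : Matrix (Fin 2) (Fin 2) F) - s • 1 with hNdef
    have hA : (g : Matrix (Fin 2) (Fin 2) F) = s • 1 + N := by rw [hNdef]; abel
    have hNp : N ^ p = 0 := by
      obtain ⟨r, rfl⟩ : ∃ r, p = 2 + r := ⟨p - 2, by omega⟩
      rw [pow_add, sq, hN, zero_mul]
    have hcomm : Commute (s • (1 : Matrix (Fin 2) (Fin 2) F)) N := by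
      rw [Commute, SemiconjBy, smul_mul_assoc, one_mul, mul_smul_comm, mul_one]
    have hAp : (g : Matrix (Fin 2) (Fin 2) F) ^ p = s ^ p • 1 := by
      rw [hA, add_pow_char_of_commute _ hcomm, hNp, add_zero, _root_.smul_pow, one_pow]
    have hA2p : (g : Matrix (Fin 2) (Fin 2) F) ^ (p * 2) = 1 := by
      rw [pow_mul, hAp, _root_.smul_pow, one_pow, ← pow_mul, mul_comm, pow_mul, sq, hs, one_pow, one_smul]
    have h2 : orderOf g ∣ 2 := (Nat.Coprime.dvd_of_dvd_mul_left hg (hpow _ hA2p))
    obtain ⟨k, hk1, hk⟩ := FiniteField.card F p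
    by_cases hp : p = 2
    · have : orderOf g = 1 := by
        apply Nat.Coprime.eq_one_of_dvd hg
        rw [hp]; exact h2
      rw [this]; exact one_dvd _
    · refine dvd_trans h2 ?_
      have hodd : Odd p := (Fact.out : p.Prime).odd_of_ne_two hp
      have : Odd (Fintype.card F) := by rw [hk]; exact hodd.pow
      obtain ⟨r, hr⟩ := this
      rw [hr, Nat.add_sub_cancel]
      exact dvd_mul_right _ _

end Cfsg.Agent.S0800
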