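import Mathlib
import Cfsg.Statements.S0802
import Cfsg.Agent.Lib.Helper5.PSL2A4

set_option autoImplicit false
open Cfsg

namespace Cfsg.Agent.S0802

/-- PSL_2(p^n) has a subgroup isomorphic to A_4 if and only if it is not the case that p = 2 and n is odd. -/
theorem result {F : Type*} [Field F] [Fintype F] (p n : ℕ) [Fact p.Prime] [CharP F p] (hF : Fintype.card F = p ^ n) : (∃ H : Subgroup (Matrix.ProjectiveSpecialLinearGroup (Fin 2) F), Nonempty (H ≃* alternatingGroup (Fin 4))) ↔ ¬ (p = 2 ∧ Odd n) := by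
  classical
  constructor
  · rintro ⟨H, ⟨e⟩⟩ ⟨rfl, hn⟩
    exact Cfsg.Agent.Lib.Helper5.PSL2A4.no_A4_char2 n hF hn H e
  · intro hpn
    by_cases hp : p = 2
    · subst hp
      have hn : Even n := by
        rw [← Nat.not_odd_iff_even]
        exact fun h => hpn ⟨rfl, h⟩
      exact Cfsg.Agent.Lib.Helper5.PSL2A4.exists_A4_char2 n hF hn
    · have hp' : p % 2 = 1 := by
        rcases (Fact.out : p.Prime).eq_two_or_odd with h | h
        · exact absurd h hp
        · exact h
      have hodd : Fintype.card F % 2 = 1 := by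
        rw [hF, Nat.pow_mod, hp']
        simp
      exact Cfsg.Agent.Lib.Helper5.PSL2A4.exists_A4_odd hodd

end Cfsg.Agent.S0802
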