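import Mathlib
import Cfsg.Statements.S0803
import Cfsg.Agent.Lib.Helper5.PSL2S4

set_option autoImplicit false
open Cfsg

namespace Cfsg.Agent.S0803

/-- PSL_2(q) has a subgroup isomorphic to S_4 iff q² ≡ 1 (mod 16). -/
theorem result {F : Type*} [Field F] [Fintype F] {q : ℕ} (hF : Fintype.card F = q) : (∃ H : Subgroup (Matrix.ProjectiveSpecialLinearGroup (Fin 2) F), Nonempty (H ≃* Equiv.Perm (Fin 4))) ↔ q ^ 2 % 16 = 1 := by
  classical
  subst hF
  rcases Nat.mod_two_eq_zero_or_one (Fintype.card F) with hev | hodd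
  · -- characteristic two
    have hchar : ringChar F = 2 := FiniteField.even_card_iff_char_two.mpr hev
    have : CharP F 2 := ringChar.of_eq hchar
    constructor
    · rintro ⟨H, ⟨e⟩⟩
      exact (Cfsg.Agent.Lib.Helper5.PSL2S4.no_S4_char2 H e).elim
    · intro h
      exfalso
      have : Fintype.card F ^ 2 % 2 = 0 := by
        rw [Nat.pow_mod, hev]
      omega
  · constructor
    · rintro ⟨H, ⟨e⟩⟩
      exact Cfsg.Agent.Lib.Helper5.PSL2S4.sq_mod_of_S4 hodd H e
    · intro h
      have h8 : Fintype.card F % 8 = 1 ∨ Fintype.card F % 8 = 7 := by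
        have e1 : Fintype.card F ^ 2 % 16 = (Fintype.card F % 16) ^ 2 % 16 := by
          rw [Nat.pow_mod]
        rw [e1] at h
        have hlt : Fintype.card F % 16 < 16 := Nat.mod_lt _ (by norm_num)
        have h16 : Fintype.card F % 16 % 8 = Fintype.card F % 8 :=
          Nat.mod_mod_of_dvd _ (by norm_num)
        rw [← h16]
        revert h
        generalize Fintype.card F % 16 = m at hlt ⊢
        interval_cases m <;> simp
      have hsq : IsSquare (2 : F) := by
        rw [FiniteField.isSquare_two_iff]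
        omega
      obtain ⟨s, hs⟩ := hsq
      exact Cfsg.Agent.Lib.Helper5.PSL2S4.exists_S4 hodd s hs.symm

end Cfsg.Agent.S0803
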