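import Mathlib
import Cfsg.Statements.S0805
import Cfsg.Agent.Lib.Helper5.SubfieldPSL

set_option autoImplicit false
open Cfsg

namespace Cfsg.Agent.S0805

/-- Subfield subgroups: let F be a finite field of odd order q and K a finite field with |K|^m = q, m ≥ 1. Then PSL_2(F) has a subgroup isomorphic to PSL_2(K), and has a subgroup isomorphic to PGL_2(K) if and only if m is even. -/
theorem result {F K : Type*} [Field F] [Fintype F] [Field K] [Fintype K] {q : ℕ} (hF : Fintype.card F = q) (hodd : Odd q) (m : ℕ) (hm : 1 ≤ m) (hK : Fintype.card K ^ m = q) : (∃ H : Subgroup (Matrix.ProjectiveSpecialLinearGroup (Fin 2) F), Nonempty (H ≃* Matrix.ProjectiveSpecialLinearGroup (Fin 2) K)) ∧ ((∃ H : Subgroup (Matrix.ProjectiveSpecialLinearGroup (Fin 2) F), Nonempty (H ≃* Matrix.ProjGenLinGroup (Fin 2) K)) ↔ Even m) := by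
  classical
  have hcard : Fintype.card K ^ m = Fintype.card F := by rw [hK, hF]
  obtain ⟨j⟩ := Cfsg.Agent.Lib.Helper5.SubfieldPSL.exists_ringHom m hm hcard
  refine ⟨Cfsg.Agent.Lib.Helper5.SubfieldPSL.exists_PSL j, ?_, ?_⟩
  · rintro ⟨H, ⟨e⟩⟩
    by_contra hne
    rw [Nat.not_even_iff_odd] at hne
    set k := Fintype.card K with hk
    have hkodd : Odd k := by
      by_contra hke
      rw [Nat.not_odd_iff_even] at hke
      have : Even (k ^ m) := Nat.even_pow.mpr ⟨hke, by omega⟩
      rw [hK] at this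
      exact (Nat.not_even_iff_odd.mpr hodd) this
    have hk3 : 3 ≤ k := by
      have h1 : 1 < k := Fintype.one_lt_card
      obtain ⟨t, ht⟩ := hkodd
      omega
    have hH : Nat.card H = k * (k ^ 2 - 1) := by
      rw [Nat.card_congr e.toEquiv, Cfsg.Agent.Lib.Helper5.SO3PGL.card_PGL2]
    have hdvd := Subgroup.card_subgroup_dvd_card H
    rw [hH] at hdvd
    have h1 := Cfsg.Agent.Lib.Helper4.card_PSL_mul (F := F) 2 (by norm_num)
    rw [Cfsg.Agent.Lib.Helper4.card_SL2, hF] at h1
    have hg : Nat.gcd 2 (q - 1) = 2 := by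
      obtain ⟨t, ht⟩ := hodd
      have : q - 1 = 2 * t := by omega
      rw [this]
      exact Nat.gcd_mul_right_right _ _
    rw [hg, ← hK] at h1
    exact Cfsg.Agent.Lib.Helper5.SubfieldPSL.not_dvd_of_odd k m _ hkodd hk3 hne h1 hdvd
  · intro hme
    apply Cfsg.Agent.Lib.Helper5.SubfieldPSL.exists_PGL j
    intro a ha
    exact Cfsg.Agent.Lib.Helper5.SubfieldPSL.isSquare_of_even j m hme (by rw [hF]; exact hodd)
      hcard a ha

end Cfsg.Agent.S0805
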