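import Mathlib
import Cfsg.Agent.Lib.Helper5.DicksonOrders
import Cfsg.Statements.S0806

set_option autoImplicit false
open Cfsg

namespace Cfsg.Agent.S0806

/-- Minimal index (Galois): if q ∉ {2, 3, 5, 7, 9, 11} then every proper subgroup of PSL_2(q) has index ≥ q + 1, and some subgroup has index exactly q + 1. -/
theorem result {F : Type*} [Field F] [Fintype F] {q : ℕ} (hF : Fintype.card F = q) (hq : q ∉ ({2, 3, 5, 7, 9, 11} : Finset ℕ)) : (∀ H : Subgroup (Matrix.ProjectiveSpecialLinearGroup (Fin 2) F), H ≠ ⊤ → q + 1 ≤ H.index) ∧ ∃ H : Subgroup (Matrix.ProjectiveSpecialLinearGroup (Fin 2) F), H.index = q + 1 := by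
  subst hF
  obtain ⟨p, hp⟩ := CharP.exists F
  have hpp : Fact p.Prime := ⟨CharP.char_is_prime F p⟩
  have hcl : CharP (AlgebraicClosure F) p :=
    charP_of_injective_algebraMap (algebraMap F (AlgebraicClosure F)).injective p
  refine ⟨?_, ⟨Cfsg.Agent.Lib.Helper5.DicksonBorel.borelB (algebraMap F (AlgebraicClosure F)),
    Cfsg.Agent.Lib.Helper5.DicksonBorel.index_borelB _⟩⟩
  intro H hH
  set q := Fintype.card F with hqdef
  have hq2 : 2 ≤ q := Fintype.one_lt_card
  have hq4 : 4 ≤ q := by
    simp only [Finset.mem_insert, Finset.mem_singleton, not_or] at hq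
    omega
  have hq' : q ≠ 5 ∧ q ≠ 7 ∧ q ≠ 9 ∧ q ≠ 11 := by
    simp only [Finset.mem_insert, Finset.mem_singleton, not_or] at hq
    tauto
  set d := Nat.gcd 2 (q - 1) with hd
  have hd1 : 1 ≤ d := Nat.gcd_pos_of_pos_left _ (by norm_num)
  have hd2 : d ≤ 2 := Nat.le_of_dvd (by norm_num) (Nat.gcd_dvd_left _ _)
  have hdeven : q % 2 = 0 → d = 1 := by
    intro he
    have : Nat.Coprime 2 (q - 1) := by
      rw [Nat.coprime_two_left]
      exact ⟨q / 2 - 1, by omega⟩
    exact this
  set N := Nat.card (Matrix.ProjectiveSpecialLinearGroup (Fin 2) F) with hN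
  have hNeq : d * N = q * ((q - 1) * (q + 1)) :=
    Cfsg.Agent.Lib.Helper5.DicksonOrders.card_PSL2_mul
  set h := Nat.card H with hh
  have hidx : h * H.index = N := Subgroup.card_mul_index H
  have hhpos : 0 < h := Nat.card_pos
  have hhN : h ∣ N := ⟨_, hidx.symm⟩
  have hne : h ≠ N := by
    intro heq
    exact hH (Subgroup.eq_top_of_card_eq H heq)
  -- the key bound
  have key : d * h ≤ q * (q - 1) := by
    obtain ⟨Q, hQ⟩ : ∃ Q, q = Q + 1 := ⟨q - 1, by omega⟩
    have hQ1 : q - 1 = Q := by omega
    rw [hQ1] at hNeq ⊢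
    rcases Cfsg.Agent.Lib.Helper5.DicksonOrders.dickson_card p H with
      ⟨k, hk, hk2⟩ | h1 | h1 | h1 | h1 | ⟨q₀, m, hq₀, hm, h1⟩
    · -- cyclic or dihedral
      rw [← hqdef, ← hd, hQ1] at hk
      have hkle : k ≤ (q + 1) / d := by
        rcases hk with hk | hk
        · exact Nat.le_of_dvd (Nat.div_pos (by omega) (by omega)) hk
        · have h1 : k ≤ Q / d := Nat.le_of_dvd (Nat.div_pos (by omega) (by omega)) hk
          have h2 : Q / d ≤ (q + 1) / d := Nat.div_le_div_right (by omega)
          omega
      have h3 : d * ((q + 1) / d) ≤ q + 1 := Nat.mul_div_le _ _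
      have h4 : d * h ≤ 2 * (d * ((q + 1) / d)) := by
        have : h ≤ 2 * k := by rcases hk2 with h5 | h5 <;> rw [← hh] at h5 <;> omega
        calc d * h ≤ d * (2 * k) := Nat.mul_le_mul_left _ this
          _ ≤ d * (2 * ((q + 1) / d)) := Nat.mul_le_mul_left _ (Nat.mul_le_mul_left _ hkle)
          _ = 2 * (d * ((q + 1) / d)) := by ring
      have h5 : 2 * (q + 1) ≤ q * Q := by
        rw [hQ]; nlinarith
      omega
    · rw [← hqdef, ← hd, hQ1, ← hh] at h1
      exact Nat.le_of_dvd (Nat.mul_pos (by omega) (by omega)) h1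
    · -- order 12
      rw [← hh] at h1
      rw [h1]
      rcases Nat.even_or_odd q with he | ho
      · rw [hdeven (Nat.even_iff.mp he)]
        rw [hQ]; nlinarith
      · have : 13 ≤ q := by
          rcases ho with ⟨r, hr⟩
          omega
        rw [hQ]; nlinarith
    · -- order 24
      rw [← hh] at h1
      rcases Nat.even_or_odd q with he | ho
      · have hd' := hdeven (Nat.even_iff.mp he)
        rw [hd', one_mul] at hNeq ⊢
        by_cases hq6 : 6 ≤ q
        · rw [h1, hQ]; nlinarith
        · exfalso
          have : q = 4 := by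
            rcases he with ⟨r, hr⟩
            omega
          have hQ3 : Q = 3 := by omega
          rw [this, hQ3] at hNeq
          rw [h1, hNeq] at hhN
          omega
      · have : 13 ≤ q := by
          rcases ho with ⟨r, hr⟩
          omega
        rw [h1, hQ]; nlinarith
    · -- order 60
      rw [← hh] at h1
      rcases Nat.even_or_odd q with he | ho
      · have hd' := hdeven (Nat.even_iff.mp he)
        rw [hd', one_mul] at hNeq ⊢
        by_cases hq10 : 10 ≤ q
        · rw [h1, hQ]; nlinarith
        · exfalso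
          have : q = 4 ∨ q = 6 ∨ q = 8 := by
            rcases he with ⟨r, hr⟩
            omega
          rcases this with h4 | h4 | h4
          · have hQ3 : Q = 3 := by omega
            rw [h4, hQ3] at hNeq
            exact hne (by rw [h1, hNeq])
          · have hQ3 : Q = 5 := by omega
            rw [h4, hQ3] at hNeq
            rw [h1, hNeq] at hhN
            omega
          · have hQ3 : Q = 7 := by omega
            rw [h4, hQ3] at hNeq
            rw [h1, hNeq] at hhN
            omega
      · have : 13 ≤ q := by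
          rcases ho with ⟨r, hr⟩
          omega
        rw [h1, hQ]; nlinarith
    · -- subfield groups
      rw [← hqdef] at hm
      rw [← hh] at h1
      rcases Nat.lt_or_ge m 2 with hm2 | hm2
      · exfalso
        interval_cases m
        · rw [pow_zero] at hm; omega
        · rw [pow_one] at hm
          subst hm
          rw [← hd, hQ1] at h1
          rcases h1 with h1 | h1
          · have : d * h = d * N := by rw [h1, hNeq]
            exact hne (Nat.eq_of_mul_eq_mul_left hd1 this)
          · have h6 : h = d * N := by rw [h1, hNeq]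
            have h7 : h ≤ N := Nat.le_of_dvd Nat.card_pos hhN
            have hNpos : 0 < N := Nat.card_pos
            have h8 : d = 1 := by nlinarith
            rw [h8, one_mul] at h6
            exact hne h6
      · obtain ⟨r, hr⟩ : ∃ r, q₀ = r + 2 := ⟨q₀ - 2, by omega⟩
        have h2 : q₀ ^ 2 ≤ q := by
          rw [← hm]; exact Nat.pow_le_pow_right (by omega) hm2
        have h3 : h ≤ q₀ * ((q₀ - 1) * (q₀ + 1)) := by
          rcases h1 with h1 | h1
          · have : 1 ≤ Nat.gcd 2 (q₀ - 1) := Nat.gcd_pos_of_pos_left _ (by norm_num)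
            calc h ≤ Nat.gcd 2 (q₀ - 1) * h := Nat.le_mul_of_pos_left _ this
              _ = _ := h1
          · exact le_of_eq h1
        have h4 : q₀ - 1 = r + 1 := by omega
        rw [h4, hr] at h3
        rw [hr] at h2
        have h5 : (r + 1) * (r + 2 + 1) ≤ Q := by
          have : (r + 2) ^ 2 = (r + 1) * (r + 2 + 1) + 1 := by ring
          omega
        have h6 : 2 * (r + 2) ≤ Q + 1 := by nlinarith
        calc d * h ≤ 2 * ((r + 2) * ((r + 1) * (r + 2 + 1))) :=
              Nat.mul_le_mul hd2 h3
          _ = (2 * (r + 2)) * ((r + 1) * (r + 2 + 1)) := by ring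
          _ ≤ (Q + 1) * Q := Nat.mul_le_mul h6 h5
          _ = q * Q := by rw [hQ]
  -- conclusion
  have h1 : d * h * (q + 1) ≤ d * h * H.index := by
    have : d * h * H.index = q * (q - 1) * (q + 1) := by
      rw [mul_assoc, hidx, hNeq]; ring
    rw [this]
    exact Nat.mul_le_mul_right _ key
  exact Nat.le_of_mul_le_mul_left h1 (by positivity)

end Cfsg.Agent.S0806
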