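import Mathlib
import Cfsg.Statements.S0809
import Cfsg.Agent.Lib.Helper5.SL2Four

set_option autoImplicit false
open Cfsg

namespace Cfsg.Agent.S0809

open Matrix Cfsg.Agent.Lib.Helper5.SL2Cyclic Cfsg.Agent.Lib.Helper5.SL2Quat
  Cfsg.Agent.Lib.Helper5.SumTwoSq Cfsg.Agent.Lib.Helper5.SL2Four

/-- an element of `SL_2` whose image in `PSL_2` has order two has trace zero -/
theorem trace_zero_of_order_two {F : Type*} [Field F] (h2 : (2 : F) ≠ 0)
    (x : Matrix.SpecialLinearGroup (Fin 2) F)
    (hx : orderOf (QuotientGroup.mk x : Matrix.ProjectiveSpecialLinearGroup (Fin 2) F) = 2) :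
    x.1.trace = 0 := by
  have h1 : (QuotientGroup.mk x : Matrix.ProjectiveSpecialLinearGroup (Fin 2) F) ^ 2 = 1 := by
    have := pow_orderOf_eq_one (QuotientGroup.mk x : Matrix.ProjectiveSpecialLinearGroup (Fin 2) F)
    rw [hx] at this
    exact this
  have hne : (QuotientGroup.mk x : Matrix.ProjectiveSpecialLinearGroup (Fin 2) F) ≠ 1 := by
    intro h
    rw [h, orderOf_one] at hx
    omega
  have h3 : x ^ 2 ∈ Subgroup.center (Matrix.SpecialLinearGroup (Fin 2) F) := by
    rw [← QuotientGroup.eq_one_iff]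
    exact h1
  rw [Matrix.SpecialLinearGroup.mem_center_iff] at h3
  obtain ⟨r, hr, hr2⟩ := h3
  rw [Fintype.card_fin] at hr
  have hr' : (r - 1) * (r + 1) = 0 := by linear_combination hr
  rw [← sq_eq_negOne_iff]
  rcases mul_eq_zero.mp hr' with h | h
  · exfalso
    have hr1 : r = 1 := by linear_combination h
    rw [hr1, map_one] at hr2
    have h6 : x ^ 2 = 1 := Subtype.ext hr2.symm
    apply hne
    rw [QuotientGroup.eq_one_iff, Matrix.SpecialLinearGroup.mem_center_iff]
    rcases eq_one_or_neg_one h2 x h6 with h' | h'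
    · exact ⟨1, by simp, by rw [map_one, h']⟩
    · refine ⟨-1, by simp, ?_⟩
      rw [h', map_neg, map_one]
  · have hr1 : r = -1 := by linear_combination h
    rw [hr1, map_neg, map_one] at hr2
    apply Subtype.ext
    rw [← pow_two]
    exact hr2.symm

/-- In SL_2(q), q odd: any two subgroups of order 4 are conjugate, and the normaliser of a subgroup of order 4 has order 2(q − 1) if q ≡ 1 (mod 4) and 2(q + 1) if q ≡ 3 (mod 4); consequently all involutions of PSL_2(q) are conjugate. -/
theorem result {F : Type*} [Field F] [Fintype F] {q : ℕ} (hF : Fintype.card F = q) (hodd : Odd q) (A : Subgroup (Matrix.SpecialLinearGroup (Fin 2) F)) (hA : Nat.card A = 4) : (∀ B : Subgroup (Matrix.SpecialLinearGroup (Fin 2) F), Nat.card B = 4 → ∃ g : Matrix.SpecialLinearGroup (Fin 2) F, B = A.map (MulAut.conj g).toMonoidHom) ∧ (q % 4 = 1 → Nat.card ↥(Subgroup.normalizer (A : Set (Matrix.SpecialLinearGroup (Fin 2) F))) = 2 * (q - 1)) ∧ (q % 4 = 3 → Nat.card ↥(Subgroup.normalizer (A : Set (Matrix.SpecialLinearGroup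 (Fin 2) F))) = 2 * (q + 1)) ∧ (∀ x y : Matrix.ProjectiveSpecialLinearGroup (Fin 2) F, orderOf x = 2 → orderOf y = 2 → IsConj x y) := by
  classical
  have hodd' : Fintype.card F % 2 = 1 := by rw [hF]; exact Nat.odd_iff.mp hodd
  have h2 : (2 : F) ≠ 0 := two_ne_zero_of_odd hodd'
  obtain ⟨x, hAx, hx⟩ := exists_gen h2 A hA
  have hN := card_normalizer hodd' x hx
  rw [← hAx] at hN
  have hS1 := card_S hodd' (1 : F) one_ne_zero
  have hS2 := card_S hodd' (-1 : F) (neg_ne_zero.mpr one_ne_zero)
  refine ⟨?_, ?_, ?_, ?_⟩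
  · intro B hB
    obtain ⟨y, hBy, hy⟩ := exists_gen h2 B hB
    obtain ⟨g, hg⟩ := exists_conj' hodd' x y hx hy
    refine ⟨g, ?_⟩
    rw [hAx, hBy, MonoidHom.map_zpowers]
    congr 1
    exact hg.symm
  · intro h4
    rw [hF] at hS1 hS2
    rw [hN, hS1.1 h4, hS2.1 h4]
    ring
  · intro h4
    rw [hF] at hS1 hS2
    rw [hN, hS1.2 h4, hS2.2 h4]
    ring
  · intro a b ha hb
    induction a using QuotientGroup.induction_on with | H a =>
    induction b using QuotientGroup.induction_on with | H b =>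
    have hta := trace_zero_of_order_two h2 a ha
    have htb := trace_zero_of_order_two h2 b hb
    obtain ⟨g, hg⟩ := exists_conj' hodd' a b hta htb
    rw [isConj_iff]
    refine ⟨QuotientGroup.mk g, ?_⟩
    rw [← hg]
    rfl

end Cfsg.Agent.S0809
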