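import Mathlib
import Cfsg.Agent.Lib.Helper5.DicksonMinSimple2
import Cfsg.Statements.S0810

set_option autoImplicit false
open Cfsg

namespace Cfsg.Agent.S0810

/-- PSL_2(q) is minimal simple iff q is 2^r (r prime), 3^r (r an odd prime), a prime greater than 5 congruent to 2 or 3 mod 5, or 5. -/
theorem result {F : Type*} [Field F] [Fintype F] {q : ℕ} (hF : Fintype.card F = q) : Cfsg.IsMinimalSimple (Matrix.ProjectiveSpecialLinearGroup (Fin 2) F) ↔ ((∃ r : ℕ, r.Prime ∧ q = 2 ^ r) ∨ (∃ r : ℕ, r.Prime ∧ r ≠ 2 ∧ q = 3 ^ r) ∨ (q.Prime ∧ 5 < q ∧ (q % 5 = 2 ∨ q % 5 = 3)) ∨ q = 5) := by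
  subst hF
  obtain ⟨p, hp⟩ := CharP.exists F
  have hpp : Fact p.Prime := ⟨CharP.char_is_prime F p⟩
  obtain ⟨n, -, hn⟩ := FiniteField.card F p
  have hlist : Cfsg.Agent.Lib.Helper5.DicksonMinSimple.InList (Fintype.card F) ↔
      ((∃ r : ℕ, r.Prime ∧ Fintype.card F = 2 ^ r) ∨
        (∃ r : ℕ, r.Prime ∧ r ≠ 2 ∧ Fintype.card F = 3 ^ r) ∨
        ((Fintype.card F).Prime ∧ 5 < Fintype.card F ∧
          (Fintype.card F % 5 = 2 ∨ Fintype.card F % 5 = 3)) ∨ Fintype.card F = 5) := Iff.rfl
  rw [← hlist]
  constructor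
  · -- a minimal simple `PSL₂(q)` has `q` in the list
    intro hms
    obtain ⟨hsimple, hnc, hsol⟩ := id hms
    set q := Fintype.card F with hq
    have hq2 : 2 ≤ q := Fintype.one_lt_card
    have hGcard := Cfsg.Agent.Lib.Helper5.DicksonOrders.card_PSL2_mul (F := F)
    rw [← hq] at hGcard
    have hq4 : 4 ≤ q := by
      by_contra hlt
      have hncyc : ¬ IsCyclic (Matrix.ProjectiveSpecialLinearGroup (Fin 2) F) := by
        intro hc
        exact hnc ⟨⟨fun a b => (IsCyclic.commGroup
          (α := Matrix.ProjectiveSpecialLinearGroup (Fin 2) F)).mul_comm a b⟩⟩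
      have hq23 : q = 2 ∨ q = 3 := by omega
      have hle : Nat.card (Matrix.ProjectiveSpecialLinearGroup (Fin 2) F) ≤ 100 := by
        rcases hq23 with h | h <;> rw [h] at hGcard
        · have : Nat.gcd 2 (2 - 1) = 1 := rfl
          rw [this] at hGcard; omega
        · have : Nat.gcd 2 (3 - 1) = 2 := rfl
          rw [this] at hGcard; omega
      have h60 := Cfsg.Agent.S0493.result hncyc hle
      rcases hq23 with h | h <;> rw [h, h60] at hGcard
      · have : Nat.gcd 2 (2 - 1) = 1 := rfl
        rw [this] at hGcard; omega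
      · have : Nat.gcd 2 (3 - 1) = 2 := rfl
        rw [this] at hGcard; omega
    by_contra hnot
    have hp2 : 2 ≤ p := hpp.out.two_le
    -- the subfield argument
    have sub : ∀ a : ℕ, a ∣ (n : ℕ) → a < n → 4 ≤ p ^ a → False := by
      intro a ha han h4
      have ha0 : a ≠ 0 := by
        rintro rfl
        simp at h4
      obtain ⟨m, hm⟩ := ha
      have hm2 : 2 ≤ m := by
        rcases Nat.lt_or_ge m 2 with h | h
        · interval_cases m
          · simp at hm
          · omega
        · exact h
      have : Fintype (GaloisField p a) := Fintype.ofFinite _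
      have hcard : Fintype.card (GaloisField p a) = p ^ a := by
        rw [← Nat.card_eq_fintype_card, GaloisField.card p a ha0]
      apply Cfsg.Agent.Lib.Helper5.DicksonMinSimple.not_minimalSimple_of_subfield
        (K := GaloisField p a) (F := F) m hm2 (by rw [hcard]; exact h4)
        (by rw [hcard, ← pow_mul, ← hm, ← hn]) hms
    rcases Nat.lt_or_ge (n : ℕ) 2 with hn1 | hn2
    · -- `q = p`
      have hn1' : (n : ℕ) = 1 := by have := n.pos; omega
      rw [hn1', pow_one] at hn
      have hqp : q.Prime := by rw [hn]; exact hpp.out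
      by_cases h5 : q = 5
      · exact hnot (Or.inr (Or.inr (Or.inr h5)))
      have hq7 : 7 ≤ q := by
        rcases Nat.lt_or_ge q 7 with h | h
        · exfalso
          interval_cases q
          · exact absurd hqp (by norm_num)
          · exact h5 rfl
          · exact absurd hqp (by norm_num)
        · exact h
      have hmod : q % 5 ≠ 0 := by
        intro h0
        have : 5 ∣ q := Nat.dvd_of_mod_eq_zero h0
        rcases (Nat.dvd_prime hqp).mp this with h | h <;> omega
      by_cases h23 : q % 5 = 2 ∨ q % 5 = 3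
      · exact hnot (Or.inr (Or.inr (Or.inl ⟨hqp, by omega, h23⟩)))
      · have h14 : q % 5 = 1 ∨ q % 5 = 4 := by omega
        apply Cfsg.Agent.Lib.Helper5.DicksonMinSimple.not_minimalSimple_of_five_dvd (F := F) _ hq7 hms
        rw [← hq, Cfsg.Agent.Lib.Helper5.MobWild.sq_sub_one q (by omega)]
        rcases h14 with h | h
        · exact Dvd.dvd.mul_left (Dvd.dvd.mul_right (by omega) _) _
        · exact Dvd.dvd.mul_left (Dvd.dvd.mul_left (by omega) _) _
    · -- `q = p ^ n` with `n ≥ 2`
      by_cases hp5 : 4 ≤ p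
      · exact sub 1 (one_dvd _) (by omega) (by rw [pow_one]; exact hp5)
      · have hp23 : p = 2 ∨ p = 3 := by
          have : p ≠ 1 := hpp.out.ne_one
          omega
        by_cases hnp : (n : ℕ).Prime
        · rcases hp23 with rfl | rfl
          · exact hnot (Or.inl ⟨n, hnp, hn⟩)
          · by_cases hn2' : (n : ℕ) = 2
            · rw [hn2'] at hn
              apply Cfsg.Agent.Lib.Helper5.DicksonMinSimple.not_minimalSimple_of_five_dvd (F := F) _
                (by rw [← hq, hn]; norm_num) hms
              rw [← hq, hn]; norm_num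
            · exact hnot (Or.inr (Or.inl ⟨n, hnp, hn2', hn⟩))
        · have hlt : (n : ℕ).minFac < n := (Nat.not_prime_iff_minFac_lt hn2).mp hnp
          have h2 : 2 ≤ (n : ℕ).minFac := (Nat.minFac_prime (by omega)).two_le
          apply sub _ (Nat.minFac_dvd _) hlt
          calc 4 = 2 ^ 2 := rfl
            _ ≤ p ^ 2 := Nat.pow_le_pow_left hp2 2
            _ ≤ p ^ (n : ℕ).minFac := Nat.pow_le_pow_right (by omega) h2
  · -- the groups in the list are minimal simple
    intro h
    have hq4 := Cfsg.Agent.Lib.Helper5.DicksonMinSimple.four_le_of_inList h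
    refine ⟨Matrix.ProjectiveSpecialLinearGroup.rank_two_simple (by
      rw [Nat.card_eq_fintype_card]; exact hq4),
      Cfsg.Agent.Lib.Helper5.DicksonMinSimple.not_isMulCommutative_PSL2 hq4, ?_⟩
    intro H hH
    exact Cfsg.Agent.Lib.Helper5.DicksonMinSimple.isSolvable_of_inList p h H hH

end Cfsg.Agent.S0810
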