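import Mathlib
import Cfsg.Statements.S0819
import Cfsg.Agent.Lib.Helper5.PSL34

set_option autoImplicit false
open Cfsg

namespace Cfsg.Agent.S0819

/-- No element of PSL_3(4) has order 15. -/
theorem result {F : Type*} [Field F] [Fintype F] (hF : Fintype.card F = 4) (g : Matrix.ProjectiveSpecialLinearGroup (Fin 3) F) : orderOf g ≠ 15 := by
  intro h15
  obtain ⟨g₀, rfl⟩ := QuotientGroup.mk'_surjective
    (Subgroup.center (Matrix.SpecialLinearGroup (Fin 3) F)) g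
  set π := QuotientGroup.mk' (Subgroup.center (Matrix.SpecialLinearGroup (Fin 3) F)) with hπ
  obtain ⟨ω, h0, h1, h3⟩ := Cfsg.Agent.Lib.Helper5.PSL34.exists_omega hF
  have hpow : π g₀ ^ 15 = 1 := by rw [← h15]; exact pow_orderOf_eq_one _
  have ht3 : (g₀ ^ 5) ^ 3 = 1 := by
    apply Cfsg.Agent.Lib.Helper5.PSL34.center_cube hF
    rw [← QuotientGroup.eq_one_iff]
    show π ((g₀ ^ 5) ^ 3) = 1
    rw [← pow_mul, map_pow]
    exact hpow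
  have htc : g₀ ^ 5 ∉ Subgroup.center (Matrix.SpecialLinearGroup (Fin 3) F) := by
    intro hc
    have h5 : π g₀ ^ 5 = 1 := by
      rw [← map_pow]
      exact (QuotientGroup.eq_one_iff _).mpr hc
    have := orderOf_dvd_of_pow_eq_one h5
    rw [h15] at this
    omega
  obtain ⟨c, hc⟩ := isConj_iff.mp
    (Cfsg.Agent.Lib.Helper5.PSL34.isConj_dSL hF (g₀ ^ 5) ht3 htc ω h0 h1 h3)
  have hcomm : g₀ ^ 3 * g₀ ^ 5 = g₀ ^ 5 * g₀ ^ 3 := by rw [← pow_add, ← pow_add]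
  have hM : (c⁻¹ * g₀ ^ 3 * c) * Cfsg.Agent.Lib.Helper5.PSL34.dSL ω h3 =
      Cfsg.Agent.Lib.Helper5.PSL34.dSL ω h3 * (c⁻¹ * g₀ ^ 3 * c) := by
    have hd : Cfsg.Agent.Lib.Helper5.PSL34.dSL ω h3 = c⁻¹ * g₀ ^ 5 * c := by
      rw [← hc]; group
    rw [hd]
    calc c⁻¹ * g₀ ^ 3 * c * (c⁻¹ * g₀ ^ 5 * c) = c⁻¹ * (g₀ ^ 3 * g₀ ^ 5) * c := by group
      _ = c⁻¹ * (g₀ ^ 5 * g₀ ^ 3) * c := by rw [hcomm]
      _ = c⁻¹ * g₀ ^ 5 * c * (c⁻¹ * g₀ ^ 3 * c) := by group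
  have hM3 := Cfsg.Agent.Lib.Helper5.PSL34.cube_of_commute hF ω h0 h1 h3 _ hM
  have h9 : g₀ ^ 9 = 1 := by
    have hb : g₀ ^ 3 = c * (c⁻¹ * g₀ ^ 3 * c) * c⁻¹ := by group
    have : g₀ ^ 9 = (g₀ ^ 3) ^ 3 := by rw [← pow_mul]
    rw [this, hb, conj_pow, hM3]
    group
  have h9' : π g₀ ^ 9 = 1 := by rw [← map_pow, h9, map_one]
  have := orderOf_dvd_of_pow_eq_one h9'
  rw [h15] at this
  omega

end Cfsg.Agent.S0819
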