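import Mathlib
import Cfsg.Statements.S0820
import Cfsg.Agent.Lib.Helper5.SL3Tv

set_option autoImplicit false
open Cfsg

namespace Cfsg.Agent.S0820

open Matrix in
theorem center_pow_three {F : Type*} [Field F] (z : SpecialLinearGroup (Fin 3) F)
    (hz : z ∈ Subgroup.center (SpecialLinearGroup (Fin 3) F)) : z ^ 3 = 1 := by
  obtain ⟨r, hr, hrz⟩ := Matrix.SpecialLinearGroup.mem_center_iff.mp hz
  rw [Fintype.card_fin] at hr
  apply Subtype.ext
  rw [Matrix.SpecialLinearGroup.coe_pow, ← hrz, ← map_pow, hr, map_one]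
  rfl

open Matrix in
theorem exists_lift {F : Type*} [Field F] (x : ProjectiveSpecialLinearGroup (Fin 3) F)
    (hx : orderOf x = 2) :
    ∃ g : SpecialLinearGroup (Fin 3) F,
      QuotientGroup.mk' (Subgroup.center (SpecialLinearGroup (Fin 3) F)) g = x ∧ g ≠ 1 ∧
        g * g = 1 := by
  obtain ⟨g₀, rfl⟩ := QuotientGroup.mk'_surjective (Subgroup.center (SpecialLinearGroup (Fin 3) F)) x
  set π := QuotientGroup.mk' (Subgroup.center (SpecialLinearGroup (Fin 3) F)) with hπ
  have hx2 : π g₀ ^ 2 = 1 := by rw [← hx]; exact pow_orderOf_eq_one _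
  have hx1 : π g₀ ≠ 1 := by
    intro h
    rw [h, orderOf_one] at hx
    omega
  have hz : g₀ ^ 2 ∈ Subgroup.center (SpecialLinearGroup (Fin 3) F) := by
    rw [← QuotientGroup.eq_one_iff]
    have : π (g₀ ^ 2) = 1 := by rw [map_pow, hx2]
    exact this
  have h6 : (g₀ ^ 2) ^ 3 = 1 := center_pow_three _ hz
  refine ⟨g₀ ^ 3, ?_, ?_, ?_⟩
  · rw [map_pow, pow_succ, hx2, one_mul]
  · intro h
    apply hx1
    have : π (g₀ ^ 3) = π g₀ := by rw [map_pow, pow_succ, hx2, one_mul]
    rw [← this, h, map_one]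
  · rw [← pow_add, ← h6, ← pow_mul]

/-- Any two elements of order 2 of PSL_3(4) are conjugate. -/
theorem result {F : Type*} [Field F] [Fintype F] (hF : Fintype.card F = 4) (x y : Matrix.ProjectiveSpecialLinearGroup (Fin 3) F) (hx : orderOf x = 2) (hy : orderOf y = 2) : IsConj x y := by
  have h4 : (4 : F) = 0 := by
    have := Nat.cast_card_eq_zero F
    rw [hF] at this
    exact_mod_cast this
  have h2 : (2 : F) = 0 := by
    have : (2 : F) * 2 = 0 := by rw [← h4]; norm_num
    exact mul_self_eq_zero.mp this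
  have : CharP F 2 := CharTwo.of_one_ne_zero_of_two_eq_zero one_ne_zero h2
  obtain ⟨g, rfl, hg1, hg2⟩ := exists_lift x hx
  obtain ⟨g', rfl, hg1', hg2'⟩ := exists_lift y hy
  exact MonoidHom.map_isConj _
    (Cfsg.Agent.Lib.Helper5.SL3Tv.isConj_of_involution g g' hg1 hg2 hg1' hg2')

end Cfsg.Agent.S0820
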