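import Mathlib
import Cfsg.Statements.S0824
import Cfsg.Agent.Lib.Helper5.PermO4m

set_option autoImplicit false
open Cfsg

namespace Cfsg.Agent.S0824

/-- O⁻_4(2) ≅ S_5: the isometry group of the form x y + z_1² + z_1 z_2 + z_2² over the field with 2 elements is isomorphic to the symmetric group on 5 letters. -/
theorem result {F : Type*} [Field F] [Fintype F] (hF : Fintype.card F = 2) : Nonempty (↥(Cfsg.isometryGroup F (Cfsg.quadFormMinus 1 F 1 1)) ≃* Equiv.Perm (Fin 5)) := by
  have h2 := Cfsg.Agent.Lib.Helper5.PermO4m.two_eq_zero hF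
  have hcard : Nat.card ↥(Cfsg.isometryGroup F (Cfsg.quadFormMinus 1 F 1 1)) = 120 := by
    have := Cfsg.Agent.S0288.result (F := F) hF 2 (by norm_num) 1 1
      (Cfsg.Agent.Lib.Helper5.PermO4m.anisotropic hF)
    rw [this]
    simp
  have hperm : Nat.card (Equiv.Perm (Fin 5)) = 120 := by
    rw [Nat.card_eq_fintype_card, Fintype.card_perm, Fintype.card_fin]
    rfl
  have hinj := Cfsg.Agent.Lib.Helper5.PermO4m.tau_injective (F := F) h2
  have hbij : Function.Bijective (Cfsg.Agent.Lib.Helper5.PermO4m.tau (F := F) h2) :=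
    hinj.bijective_of_nat_card_le (by rw [hcard, hperm])
  exact ⟨(MulEquiv.ofBijective _ hbij).symm⟩

end Cfsg.Agent.S0824
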