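import Mathlib
import Cfsg.Statements.S0826
import Cfsg.Agent.Lib.Helper5.AltRep

set_option autoImplicit false
set_option linter.unusedSectionVars false
open Cfsg

namespace Cfsg.Agent.S0826

open Matrix Module Cfsg.Agent.Lib.Helper5.AltRep

section
variable (N : ℕ)

/-- the sum functional -/
def sumL : (Fin N → ZMod 2) →ₗ[ZMod 2] ZMod 2 := ∑ i, LinearMap.proj i

theorem sumL_apply (v : Fin N → ZMod 2) : sumL N v = ∑ i, v i := by
  simp [sumL]

/-- the even-weight subspace -/
def evenSub : Submodule (ZMod 2) (Fin N → ZMod 2) := LinearMap.ker (sumL N)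

theorem mem_evenSub (v : Fin N → ZMod 2) : v ∈ evenSub N ↔ ∑ i, v i = 0 := by
  rw [evenSub, LinearMap.mem_ker, sumL_apply]

/-- the dot product -/
def dotB : LinearMap.BilinForm (ZMod 2) (Fin N → ZMod 2) :=
  LinearMap.mk₂ (ZMod 2) (fun u v => u ⬝ᵥ v) add_dotProduct (fun c u v => smul_dotProduct c u v)
    dotProduct_add (fun c u v => dotProduct_smul c u v)

theorem dotB_apply (u v : Fin N → ZMod 2) : dotB N u v = ∑ i, u i * v i := rfl

/-- the dot product on the even-weight subspace -/
def BE : LinearMap.BilinForm (ZMod 2) ↥(evenSub N) := (dotB N).restrict (evenSub N)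

theorem BE_apply (u v : ↥(evenSub N)) : BE N u v = ∑ i, (u : Fin N → ZMod 2) i * (v : Fin N → ZMod 2) i :=
  rfl

theorem BE_isAlt : (BE N).IsAlt := by
  intro u
  rw [BE_apply]
  have h := (mem_evenSub N u.1).mp u.2
  have h2 := CharTwo.sum_sq Finset.univ (fun i => (u : Fin N → ZMod 2) i)
  rw [h] at h2
  simp only [_root_.sq] at h2
  rw [← h2]
  ring

/-- the permutation action -/
def permL (σ : Equiv.Perm (Fin N)) : (Fin N → ZMod 2) →ₗ[ZMod 2] (Fin N → ZMod 2) :=
  LinearMap.funLeft (ZMod 2) (ZMod 2) σ.symm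

theorem permL_apply (σ : Equiv.Perm (Fin N)) (v : Fin N → ZMod 2) (x : Fin N) :
    permL N σ v x = v (σ.symm x) := rfl

theorem permL_mem (σ : Equiv.Perm (Fin N)) (v : Fin N → ZMod 2) (hv : v ∈ evenSub N) :
    permL N σ v ∈ evenSub N := by
  rw [mem_evenSub] at hv ⊢
  rw [← hv]
  exact Equiv.sum_comp σ.symm v

/-- the permutation action on the even-weight subspace -/
def rho : Equiv.Perm (Fin N) →* Module.End (ZMod 2) ↥(evenSub N) where
  toFun σ := (permL N σ).restrict (permL_mem N σ)
  map_one' := by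
    apply LinearMap.ext
    intro v
    apply Subtype.ext
    rfl
  map_mul' σ τ := by
    apply LinearMap.ext
    intro v
    apply Subtype.ext
    rfl

theorem rho_apply (σ : Equiv.Perm (Fin N)) (v : ↥(evenSub N)) (x : Fin N) :
    ((rho N σ v : ↥(evenSub N)) : Fin N → ZMod 2) x = (v : Fin N → ZMod 2) (σ.symm x) := rfl

theorem rho_isom (σ : Equiv.Perm (Fin N)) (u v : ↥(evenSub N)) :
    BE N (rho N σ u) (rho N σ v) = BE N u v := by
  rw [BE_apply, BE_apply]
  exact Equiv.sum_comp σ.symm (fun i => (u : Fin N → ZMod 2) i * (v : Fin N → ZMod 2) i)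

end

section
variable (N : ℕ)

/-- the vector `e_i + e_j` -/
def pairV (i j : Fin N) : ↥(evenSub N) :=
  ⟨Pi.single i 1 + Pi.single j 1, by
    rw [mem_evenSub]
    simp only [Pi.add_apply, Finset.sum_add_distrib, Finset.sum_pi_single', Finset.mem_univ,
      if_true]
    decide⟩

theorem pairV_apply (i j x : Fin N) :
    (pairV N i j : Fin N → ZMod 2) x = (if x = i then 1 else 0) + (if x = j then 1 else 0) := by
  simp [pairV, Pi.single_apply]

theorem BE_pairV (u : ↥(evenSub N)) (i j : Fin N) :
    BE N u (pairV N i j) = (u : Fin N → ZMod 2) i + (u : Fin N → ZMod 2) j := by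
  rw [BE_apply]
  simp only [pairV, Pi.add_apply, mul_add, Finset.sum_add_distrib, Pi.single_apply, mul_ite,
    mul_one, mul_zero, Finset.sum_ite_eq', Finset.mem_univ, if_true]

/-- the all-ones vector -/
def onesV (hN : Even N) : ↥(evenSub N) :=
  ⟨fun _ => 1, by
    rw [mem_evenSub]
    simp only [Finset.sum_const, Finset.card_univ, Fintype.card_fin, nsmul_eq_mul, mul_one]
    exact (ZMod.natCast_eq_zero_iff_even).mpr hN⟩

theorem ker_BE (hN : Even N) : LinearMap.ker (BE N) = Submodule.span (ZMod 2) {onesV N hN} := by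
  apply le_antisymm
  · intro u hu
    rw [LinearMap.mem_ker] at hu
    rw [Submodule.mem_span_singleton]
    by_cases hN0 : N = 0
    · subst hN0
      refine ⟨0, ?_⟩
      apply Subtype.ext
      ext i
      exact i.elim0
    · have : NeZero N := ⟨hN0⟩
      refine ⟨(u : Fin N → ZMod 2) 0, ?_⟩
      apply Subtype.ext
      ext i
      have h1 := congrArg (fun f => f (pairV N i 0)) hu
      simp only [LinearMap.zero_apply, BE_pairV] at h1
      have h2 : (u : Fin N → ZMod 2) i = (u : Fin N → ZMod 2) 0 := CharTwo.add_eq_zero.mp h1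
      simp [onesV, h2]
  · rw [Submodule.span_singleton_le_iff_mem, LinearMap.mem_ker]
    apply LinearMap.ext
    intro v
    rw [BE_apply]
    simp only [onesV, one_mul, LinearMap.zero_apply]
    exact (mem_evenSub N v.1).mp v.2

theorem finrank_ker_BE (hN : Even N) (hN0 : N ≠ 0) : finrank (ZMod 2) (LinearMap.ker (BE N)) = 1 := by
  rw [ker_BE N hN]
  apply finrank_span_singleton
  intro h
  have : NeZero N := ⟨hN0⟩
  have := congrFun (congrArg Subtype.val h) (0 : Fin N)
  simp [onesV] at this

theorem finrank_evenSub (hN0 : N ≠ 0) : finrank (ZMod 2) ↥(evenSub N) = N - 1 := by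
  have h1 := LinearMap.finrank_range_add_finrank_ker (sumL N)
  have h2 : LinearMap.range (sumL N) = ⊤ := by
    rw [LinearMap.range_eq_top]
    intro c
    have : NeZero N := ⟨hN0⟩
    refine ⟨Pi.single 0 c, ?_⟩
    rw [sumL_apply, Finset.sum_pi_single']
    simp
  rw [h2, finrank_top, Module.finrank_self, Module.finrank_fin_fun] at h1
  unfold evenSub
  omega

end

theorem exists_avoid (N : ℕ) (S : Finset (Fin N)) (h : S.card < N) : ∃ x : Fin N, x ∉ S := by
  by_contra hcon
  push Not at hcon
  have : S = Finset.univ := Finset.eq_univ_iff_forall.mpr hcon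
  rw [this, Finset.card_univ, Fintype.card_fin] at h
  exact lt_irrefl _ h

theorem faithful (N : ℕ) (hN : 6 ≤ N) (σ : Equiv.Perm (Fin N))
    (h : ∀ v w : ↥(evenSub N), BE N (rho N σ v - v) w = 0) : σ = 1 := by
  by_contra hσ
  obtain ⟨i, hi⟩ : ∃ i, σ i ≠ i := by
    by_contra hcon
    push Not at hcon
    exact hσ (Equiv.ext hcon)
  set j := σ i with hj
  obtain ⟨k, hk⟩ := exists_avoid N {i, j} (lt_of_le_of_lt (Finset.card_le_two) (by omega))
  obtain ⟨l, hl⟩ := exists_avoid N {i, j, k, σ k} (lt_of_le_of_lt (Finset.card_le_four) (by omega))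
  simp only [Finset.mem_insert, Finset.mem_singleton, not_or] at hk hl
  have h1 := h (pairV N i k) (pairV N j l)
  rw [BE_pairV] at h1
  simp only [Submodule.coe_sub, Pi.sub_apply, rho_apply, pairV_apply] at h1
  have e1 : σ.symm j = i := by rw [hj]; exact σ.symm_apply_apply i
  have e2 : σ.symm l ≠ i := by
    intro e
    apply hl.2.1
    rw [hj, ← e]; exact (σ.apply_symm_apply l).symm
  have e3 : σ.symm l ≠ k := by
    intro e
    apply hl.2.2.2
    rw [← e]; exact (σ.apply_symm_apply l).symm
  rw [e1, if_pos rfl, if_neg (Ne.symm hk.1), if_neg hi, if_neg (Ne.symm hk.2), if_neg e2, if_neg e3,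
    if_neg hl.1, if_neg hl.2.2.1] at h1
  simp at h1

/-- S_2n ≤ Sp_(2n−2)(2) for n ≥ 3: there is an injective homomorphism from the symmetric group on 2n letters into the symplectic group of degree 2n − 2 over the field with two elements. -/
theorem result (n : ℕ) (hn : 3 ≤ n) : ∃ f : Equiv.Perm (Fin (2 * n)) →* Matrix.symplecticGroup (Fin (n - 1)) (ZMod 2), Function.Injective f := by
  have hN : Even (2 * n) := even_two_mul n
  have hN0 : 2 * n ≠ 0 := by omega
  obtain ⟨f, hf⟩ := exists_symplectic_hom (BE (2 * n)) (BE_isAlt (2 * n)) (n - 1) (by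
    rw [finrank_evenSub (2 * n) hN0, finrank_ker_BE (2 * n) hN hN0]
    omega) (rho (2 * n)) (rho_isom (2 * n))
  refine ⟨f, ?_⟩
  rw [injective_iff_map_eq_one]
  intro σ hσ
  exact faithful (2 * n) (by omega) σ (hf σ hσ)

end Cfsg.Agent.S0826
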