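import Mathlib
import Cfsg.Statements.S0828
import Cfsg.Agent.Lib.Helper5.SympFrames
import Cfsg.Agent.Lib.Helper5.SubspaceFrames

set_option autoImplicit false
open Cfsg

namespace Cfsg.Agent.S0828

open Matrix Cfsg.Agent.Lib.Helper5.SympTv Cfsg.Agent.Lib.Helper5.SympGen
  Cfsg.Agent.Lib.Helper5.SympBridge Cfsg.Agent.Lib.Helper5.SympFrames
  Cfsg.Agent.Lib.Helper5.SubspaceFrames

section
variable {F : Type*} [Field F] (m : ℕ)

/-- the span of pairwise orthogonal vectors is totally isotropic -/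
theorem span_isotropic {k : ℕ} (s : Fin k → (Fin m ⊕ Fin m → F))
    (h : ∀ i j, sympForm m F (s i) (s j) = 0) :
    ∀ u ∈ Submodule.span F (Set.range s), ∀ v ∈ Submodule.span F (Set.range s),
      sympForm m F u v = 0 := by
  intro u hu v hv
  have hv' : v ∈ (sympBilin F m).orthogonal (Submodule.span F (Set.range s)) := by
    rw [mem_orthogonal_span]
    intro i
    have : s i ∈ (sympBilin F m).orthogonal (Submodule.span F (Set.range s)) := by
      rw [mem_orthogonal_span]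
      intro j
      exact h j i
    rw [LinearMap.BilinForm.mem_orthogonal_iff] at this
    have h2 := this v hv
    change sympForm m F v (s i) = 0 at h2
    rw [sympForm_swap, h2, neg_zero]
  rw [LinearMap.BilinForm.mem_orthogonal_iff] at hv'
  exact hv' u hu

theorem isIso_iff_span {k : ℕ} (s : Fin k → (Fin m ⊕ Fin m → F)) :
    IsIso m s ↔ LinearIndependent F s ∧
      ∀ u ∈ Submodule.span F (Set.range s), ∀ v ∈ Submodule.span F (Set.range s),
        sympForm m F u v = 0 := by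
  constructor
  · rintro ⟨h1, h2⟩
    exact ⟨h1, span_isotropic m s h2⟩
  · rintro ⟨h1, h2⟩
    exact ⟨h1, fun i j => h2 _ (Submodule.subset_span ⟨i, rfl⟩) _ (Submodule.subset_span ⟨j, rfl⟩)⟩

end

section count
variable {F : Type*} [Field F] [Fintype F]

theorem part1 :
    Nat.card {W : Submodule F (Fin 2 ⊕ Fin 2 → F) // Module.finrank F W = 2 ∧
      ∀ u ∈ W, ∀ v ∈ W, Cfsg.sympForm 2 F u v = 0} *
      ((Fintype.card F ^ 2 - 1) * (Fintype.card F ^ 2 - Fintype.card F)) =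
      (Fintype.card F ^ 4 - 1) * (Fintype.card F ^ 3 - Fintype.card F) := by
  have h1 := card_frames_eq (F := F) (V := Fin 2 ⊕ Fin 2 → F) 2
    (fun W => ∀ u ∈ W, ∀ v ∈ W, Cfsg.sympForm 2 F u v = 0)
  have h2 := card_isoFrame (F := F) 2 2
  have h3 : Nat.card {s : Fin 2 → (Fin 2 ⊕ Fin 2 → F) // IsIso 2 s} =
      Nat.card {s : Fin 2 → (Fin 2 ⊕ Fin 2 → F) // LinearIndependent F s ∧
        ∀ u ∈ Submodule.span F (Set.range s), ∀ v ∈ Submodule.span F (Set.range s),
          Cfsg.sympForm 2 F u v = 0} :=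
    Nat.card_congr (Equiv.subtypeEquivRight fun s => isIso_iff_span 2 s)
  rw [← h3, h2] at h1
  simp only [Finset.prod_range_succ, Finset.prod_range_zero, Fin.prod_univ_two] at h1
  simp only [Fin.val_zero, Fin.val_one, pow_zero, pow_one, one_mul, Nat.sub_zero] at h1
  rw [← h1]

end count

section through
variable {F : Type*} [Field F] [Fintype F] (v : Fin 2 ⊕ Fin 2 → F)

omit [Fintype F] in
theorem li_pair (w : Fin 2 ⊕ Fin 2 → F) (hv : v ≠ 0) (hw : w ∉ Submodule.span F {v}) :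
    LinearIndependent F ![v, w] := by
  rw [LinearIndependent.pair_iff' hv]
  intro a ha
  exact hw (Submodule.mem_span_singleton.mpr ⟨a, ha⟩)

omit [Fintype F] [Field F] in
theorem range_single : Set.range (fun _ : Fin 1 => v) = {v} := by
  ext x
  simp [eq_comm]

/-- the set of vectors `w` completing `v` to an isotropic frame -/
abbrev A : Type _ := {w : Fin 2 ⊕ Fin 2 → F // w ∉ Submodule.span F {v} ∧ Cfsg.sympForm 2 F v w = 0}

abbrev Z : Type _ := {W : Submodule F (Fin 2 ⊕ Fin 2 → F) // Module.finrank F W = 2 ∧ v ∈ W ∧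
  ∀ u ∈ W, ∀ w ∈ W, Cfsg.sympForm 2 F u w = 0}

theorem card_A (hv : v ≠ 0) : Nat.card (A v) = Fintype.card F ^ 3 - Fintype.card F := by
  have hs : IsIso 2 (fun _ : Fin 1 => v) :=
    ⟨linearIndependent_unique_iff.mpr hv, fun i j => sympForm_self 2 v⟩
  have h := card_fiber' 2 (fun _ : Fin 1 => v) hs
  rw [range_single] at h
  simp only [pow_one] at h
  rw [← h]
  apply Nat.card_congr
  apply Equiv.subtypeEquivRight
  intro w
  constructor
  · rintro ⟨h1, h2⟩
    exact ⟨h1, fun _ => h2⟩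
  · rintro ⟨h1, h2⟩
    exact ⟨h1, h2 0⟩

noncomputable def toZ (hv : v ≠ 0) : A v → Z v := fun w =>
  ⟨Submodule.span F (Set.range ![v, w.1]), by
    rw [finrank_span_eq_card (li_pair v w.1 hv w.2.1), Fintype.card_fin],
    Submodule.subset_span ⟨0, rfl⟩, by
    apply span_isotropic
    intro i j
    fin_cases i <;> fin_cases j
    · exact sympForm_self 2 v
    · exact w.2.2
    · show Cfsg.sympForm 2 F w.1 v = 0
      rw [sympForm_swap, w.2.2, neg_zero]
    · exact sympForm_self 2 w.1⟩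

noncomputable def fiberEquivZ (hv : v ≠ 0) (W : Z v) :
    {x : A v // toZ v hv x = W} ≃
      {w : Fin 2 ⊕ Fin 2 → F // w ∈ W.1 ∧ w ∉ Submodule.span F {v}} where
  toFun x := ⟨x.1.1, by
    have h : Submodule.span F (Set.range ![v, x.1.1]) = W.1 := congrArg Subtype.val x.2
    rw [← h]
    exact Submodule.subset_span ⟨1, rfl⟩, x.1.2.1⟩
  invFun w := ⟨⟨w.1, w.2.2, W.2.2.2 v W.2.2.1 w.1 w.2.1⟩, by
    apply Subtype.ext
    show Submodule.span F (Set.range ![v, w.1]) = W.1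
    apply Submodule.eq_of_le_of_finrank_eq
    · rw [Submodule.span_le]
      rintro _ ⟨i, rfl⟩
      fin_cases i
      · exact W.2.2.1
      · exact w.2.1
    · rw [finrank_span_eq_card (li_pair v w.1 hv w.2.2), Fintype.card_fin, W.2.1]⟩
  left_inv x := rfl
  right_inv w := rfl

theorem card_fiberZ (hv : v ≠ 0) (W : Z v) :
    Nat.card {w : Fin 2 ⊕ Fin 2 → F // w ∈ W.1 ∧ w ∉ Submodule.span F {v}} =
      Fintype.card F ^ 2 - Fintype.card F := by
  have hle : Submodule.span F {v} ≤ W.1 := by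
    rw [Submodule.span_le, Set.singleton_subset_iff]
    exact W.2.2.1
  have hset : {w : Fin 2 ⊕ Fin 2 → F | w ∈ W.1 ∧ w ∉ Submodule.span F {v}} =
      ((W.1 : Submodule F (Fin 2 ⊕ Fin 2 → F)) : Set (Fin 2 ⊕ Fin 2 → F)) \
        ((Submodule.span F {v} : Submodule F (Fin 2 ⊕ Fin 2 → F)) : Set (Fin 2 ⊕ Fin 2 → F)) := by
    ext w
    simp only [Set.mem_ofPred_eq, Set.mem_sdiff, SetLike.mem_coe]
  have h1 : Nat.card {w : Fin 2 ⊕ Fin 2 → F // w ∈ W.1 ∧ w ∉ Submodule.span F {v}} =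
      ({w : Fin 2 ⊕ Fin 2 → F | w ∈ W.1 ∧ w ∉ Submodule.span F {v}}).ncard := rfl
  rw [h1, hset, Set.ncard_sdiff (by exact_mod_cast hle)]
  have h2 : ((W.1 : Submodule F (Fin 2 ⊕ Fin 2 → F)) : Set (Fin 2 ⊕ Fin 2 → F)).ncard =
      Nat.card W.1 := rfl
  have h3 : ((Submodule.span F {v} : Submodule F (Fin 2 ⊕ Fin 2 → F)) :
      Set (Fin 2 ⊕ Fin 2 → F)).ncard = Nat.card (Submodule.span F {v}) := rfl
  rw [h2, h3, Module.natCard_eq_pow_finrank (K := F) (V := W.1),
    Module.natCard_eq_pow_finrank (K := F) (V := Submodule.span F {v}), W.2.1,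
    finrank_span_singleton hv, pow_one, Nat.card_eq_fintype_card]

theorem part2 (hv : v ≠ 0) :
    Nat.card (Z v) * (Fintype.card F ^ 2 - Fintype.card F) =
      Fintype.card F ^ 3 - Fintype.card F := by
  classical
  have : Fintype (Z v) := Fintype.ofFinite _
  rw [← card_A v hv, Nat.card_congr (Equiv.sigmaFiberEquiv (toZ v hv)).symm, Nat.card_sigma]
  have h : ∀ W : Z v, Nat.card {x : A v // toZ v hv x = W} =
      Fintype.card F ^ 2 - Fintype.card F := fun W => by
    rw [Nat.card_congr (fiberEquivZ v hv W), card_fiberZ v hv W]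
  simp only [h]
  rw [Finset.sum_const, Finset.card_univ, smul_eq_mul, Nat.card_eq_fintype_card]

end through

theorem arith_pos2 (q : ℕ) (hq : 2 ≤ q) : 0 < q ^ 2 - q := by
  apply Nat.sub_pos_of_lt; nlinarith

theorem arith_pos (q : ℕ) (hq : 2 ≤ q) : 0 < (q ^ 2 - 1) * (q ^ 2 - q) := by
  apply Nat.mul_pos
  · apply Nat.sub_pos_of_lt; exact Nat.one_lt_pow (by norm_num) (by omega)
  · exact arith_pos2 q hq

theorem arith2 (q : ℕ) (hq : 2 ≤ q) : q ^ 3 - q = (q + 1) * (q ^ 2 - q) := by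
  have h1 : q ≤ q ^ 2 := by nlinarith
  have h2 : q ≤ q ^ 3 := by nlinarith [Nat.one_le_pow 2 q (by omega)]
  zify [h1, h2]
  ring

theorem arith1 (q : ℕ) (hq : 2 ≤ q) :
    (q ^ 4 - 1) * (q ^ 3 - q) = (q + 1) * (q ^ 2 + 1) * ((q ^ 2 - 1) * (q ^ 2 - q)) := by
  have h1 : q ≤ q ^ 2 := by nlinarith
  have h2 : q ≤ q ^ 3 := by nlinarith [Nat.one_le_pow 2 q (by omega)]
  have h3 : 1 ≤ q ^ 2 := Nat.one_le_pow _ _ (by omega)
  have h4 : 1 ≤ q ^ 4 := Nat.one_le_pow _ _ (by omega)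
  zify [h1, h2, h3, h4]
  ring

/-- The symplectic generalised quadrangle over a field with q elements: the number of 2-dimensional subspaces of F^4 on which the symplectic form vanishes is (q + 1)(q² + 1), and every non-zero vector lies in exactly q + 1 of them. -/
theorem result {F : Type*} [Field F] [Fintype F] {q : ℕ} (hF : Fintype.card F = q) : Nat.card {W : Submodule F (Fin 2 ⊕ Fin 2 → F) // Module.finrank F W = 2 ∧ ∀ u ∈ W, ∀ v ∈ W, Cfsg.sympForm 2 F u v = 0} = (q + 1) * (q ^ 2 + 1) ∧ ∀ v : Fin 2 ⊕ Fin 2 → F, v ≠ 0 → Nat.card {W : Submodule F (Fin 2 ⊕ Fin 2 → F) // Module.finrank F W = 2 ∧ v ∈ W ∧ ∀ u ∈ W, ∀ w ∈ W, Cfsg.sympForm 2 F u w = 0} = q + 1 := by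
  subst hF
  have hq : 2 ≤ Fintype.card F := Fintype.one_lt_card
  constructor
  · have h1 := part1 (F := F)
    apply Nat.eq_of_mul_eq_mul_right (arith_pos _ hq)
    rw [h1, arith1 _ hq]
  · intro v hv
    have h2 := part2 v hv
    apply Nat.eq_of_mul_eq_mul_right (arith_pos2 _ hq)
    rw [h2, arith2 _ hq]

end Cfsg.Agent.S0828
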