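import Mathlib
import Cfsg.Statements.S0829
import Cfsg.Agent.Lib.Helper5.HermFrames

set_option autoImplicit false
open Cfsg

namespace Cfsg.Agent.S0829

/-- The unitary quadrangle of PSU_4(q): with |F| = q², the number of 2-dimensional subspaces of F^4 on which the Hermitian form Σ x_i y_i^q vanishes is (q + 1)(q³ + 1). -/
theorem result {F : Type*} [Field F] [Fintype F] {q : ℕ} (hF : Fintype.card F = q ^ 2) : Nat.card {W : Submodule F (Fin 4 → F) // Module.finrank F W = 2 ∧ ∀ u ∈ W, ∀ v ∈ W, Cfsg.hermForm 4 F q u v = 0} = (q + 1) * (q ^ 3 + 1) := by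
  have hq := Cfsg.Agent.Lib.Helper5.Herm.two_le_q hF
  have h1 := Cfsg.Agent.Lib.Helper5.HermFrames.card_ti2_mul hF 2
  rw [Cfsg.Agent.Lib.Helper5.HermCount.A_zero hF 4, Cfsg.Agent.Lib.Helper5.HermCount.A_zero hF 2,
    if_pos (by decide), if_pos (by decide)] at h1
  simp only [Nat.add_sub_cancel] at h1
  have hpos : 0 < ((q ^ 2) ^ 2 - 1) * ((q ^ 2) ^ 2 - q ^ 2) := by
    apply Nat.mul_pos
    · apply Nat.sub_pos_of_lt; exact Nat.one_lt_pow (by norm_num) (Nat.one_lt_pow (by norm_num) (by omega))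
    · apply Nat.sub_pos_of_lt
      have : 1 < q ^ 2 := Nat.one_lt_pow (by norm_num) (by omega)
      nlinarith
  apply Nat.eq_of_mul_eq_mul_right hpos
  rw [h1]
  have e1 : (q ^ 2) ^ 2 - 1 = q ^ 4 - 1 := by ring_nf
  have e2 : (q ^ 2) ^ 2 - q ^ 2 = q ^ 2 * (q ^ 2 - 1) := by
    rw [Nat.mul_sub, mul_one]; ring_nf
  have e3 : q ^ 2 * ((q ^ 2 - 1) * (q ^ (2 - 1) + 1) + 1) - q ^ 2 = q ^ 2 * ((q ^ 2 - 1) * (q + 1)) := by
    rw [Nat.mul_add, mul_one, Nat.add_sub_cancel]; norm_num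
  have e4 : q ^ (4 - 1) = q ^ 3 := by norm_num
  rw [e1, e2, e3, e4]
  ring

end Cfsg.Agent.S0829
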