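import Mathlib
import Cfsg.Statements.S0831
import Cfsg.Agent.Lib.Helper5.MaxTS

set_option autoImplicit false
open Cfsg

namespace Cfsg.Agent.S0831

open Cfsg.Agent.Lib.Helper5 Cfsg.Agent.Lib.Helper5.MaxTS

/-- The two families of maximal totally singular subspaces of the hyperbolic quadric: for the form Σ x_i y_i on F^(2m), m ≥ 1, and m-dimensional subspaces U, W, X on which it vanishes, the parities of m − dim(U ∩ W), m − dim(W ∩ X) and m − dim(U ∩ X) sum to an even number (so 'even codimension of the intersection' is an equivalence relation), and there exist two such subspaces meeting in codimension 1 (so there are exactly two classes). -/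
theorem result {F : Type*} [Field F] (m : ℕ) (hm : 1 ≤ m) : (∀ U W X : Submodule F (Fin m ⊕ Fin m → F), (Module.finrank F U = m ∧ ∀ w ∈ U, Cfsg.quadFormPlus m F w = 0) → (Module.finrank F W = m ∧ ∀ w ∈ W, Cfsg.quadFormPlus m F w = 0) → (Module.finrank F X = m ∧ ∀ w ∈ X, Cfsg.quadFormPlus m F w = 0) → Even ((m - Module.finrank F ↥(U ⊓ W)) + (m - Module.finrank F ↥(W ⊓ X)) + (m - Module.finrank F ↥(U ⊓ X)))) ∧ ∃ U W : Submodule F (Fin m ⊕ Fin m → F), (Module.finrank F U = m ∧ ∀ w ∈ U, Cfsg.quadFormPlus m F w = 0) ∧ (Module.finrank F W = m ∧ ∀ w ∈ W, Cfsg.quadFormPlus m F w = 0) ∧ Module.finrank F ↥(U ⊓ W) + 1 = m := by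
  have hQ := PlusGeom.plus_nondegenerate (F := F) m
  have hV := finrank_plus (F := F) m
  have conv : ∀ U : Submodule F (Fin m ⊕ Fin m → F),
      (Module.finrank F U = m ∧ ∀ w ∈ U, Cfsg.quadFormPlus m F w = 0) ↔
        IsMaxTS (plusForm m F) m U := by
    intro U
    unfold IsMaxTS
    simp only [plusForm_apply]
  constructor
  · intro U W X hU hW hX
    rw [conv] at hU hW hX
    exact even_sum (plusForm m F) hQ m hV U W X hU hW hX
  · obtain ⟨U', hU', hadj, -⟩ := exists_adjacent (plusForm m F) hQ m hV (stdL m) (stdR m)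
      (stdL_max m) (stdR_max m) (stdL_ne_stdR m hm)
    exact ⟨stdL m, U', (conv _).mpr (stdL_max m), (conv _).mpr hU', hadj⟩

end Cfsg.Agent.S0831
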