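import Mathlib
import Cfsg.Statements.S0835
import Cfsg.Agent.Lib.Helper5.DiscType

set_option autoImplicit false
open Cfsg

namespace Cfsg.Agent.S0835

/-- Over a finite field with 2 ≠ 0: if B₁ on U (dim 2k, k ≥ 1) is non-degenerate symmetric of minus type (no totally isotropic k-subspace) and B₂ on W (dim 2l + 1) is non-degenerate symmetric, then B₁ ⊗ B₂ (dimension 2k(2l+1)) admits no totally isotropic subspace of dimension k(2l+1) (minus type). -/
theorem result {F U W : Type*} [Field F] [Fintype F] [AddCommGroup U] [Module F U] [FiniteDimensional F U] [AddCommGroup W] [Module F W] [FiniteDimensional F W] (h2 : (2 : F) ≠ 0) (B₁ : LinearMap.BilinForm F U) (B₂ : LinearMap.BilinForm F W) (h₁ : B₁.Nondegenerate) (h₂ : B₂.Nondegenerate) (hS₁ : B₁.IsSymm) (hS₂ : B₂.IsSymm) (k l : ℕ) (hk : 1 ≤ k) (hU : Module.finrank F U = 2 * k) (hW : Module.finrank F W = 2 * l + 1) (hm₁ : ¬ (∃ X : Submodule F (U), Module.finrank F X = k ∧ ∀ x ∈ X, ∀ y ∈ X,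 (B₁) x y = 0)) : ¬ (∃ X : Submodule F (TensorProduct F U W), Module.finrank F X = k * (2 * l + 1) ∧ ∀ x ∈ X, ∀ y ∈ X, (B₁.tmul B₂) x y = 0) := by
  classical
  have hq : Odd (Fintype.card F) := by
    by_contra hne
    rw [Nat.not_odd_iff_even] at hne
    have hch : ringChar F = 2 := FiniteField.even_card_iff_char_two.mpr (Nat.even_iff.mp hne)
    apply h2
    have := ringChar.Nat.cast_ringChar (R := F)
    rw [hch] at this
    exact_mod_cast this
  rintro ⟨X, hX, hiso⟩
  apply hm₁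
  let b₁ := Module.finBasis F U
  let b₂ := Module.finBasis F W
  have hV : Module.finrank F (TensorProduct F U W) = 2 * (k * (2 * l + 1)) := by
    rw [Module.finrank_tensorProduct, hU, hW]; ring
  have key := Cfsg.Agent.Lib.Helper5.DiscType.isSquare_det_iff_of_isotropic hq (B₁.tmul B₂)
    (Cfsg.Agent.Lib.Helper5.TensorForm.nondegenerate_tmul B₁ B₂ h₁ h₂)
    (LinearMap.BilinForm.isSymm_iff.mpr (LinearMap.IsSymm.tmul (LinearMap.BilinForm.isSymm_iff.mp hS₁) (LinearMap.BilinForm.isSymm_iff.mp hS₂)))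
    (k * (2 * l + 1)) hV (b₁.tensorProduct b₂) X hX hiso
  rw [Cfsg.Agent.Lib.Helper5.TensorForm.toMatrix_tmul] at key
  have hdet := Matrix.det_kronecker (LinearMap.BilinForm.toMatrix b₁ B₁) (LinearMap.BilinForm.toMatrix b₂ B₂)
  have d₁ := (LinearMap.BilinForm.nondegenerate_iff_det_ne_zero b₁).mp h₁
  have d₂ := (LinearMap.BilinForm.nondegenerate_iff_det_ne_zero b₂).mp h₂
  apply Cfsg.Agent.Lib.Helper5.DiscType.exists_isotropic_of_isSquare_det_iff hq B₁ h₁ hS₁ k hk hU b₁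
  have hdet' : (Matrix.kroneckerMap (fun x1 x2 => x1 * x2) (LinearMap.BilinForm.toMatrix b₁ B₁)
      (LinearMap.BilinForm.toMatrix b₂ B₂)).det =
      ((LinearMap.BilinForm.toMatrix b₁ B₁).det ^ l * (LinearMap.BilinForm.toMatrix b₂ B₂).det ^ k) *
      ((LinearMap.BilinForm.toMatrix b₁ B₁).det ^ l * (LinearMap.BilinForm.toMatrix b₂ B₂).det ^ k) *
      (LinearMap.BilinForm.toMatrix b₁ B₁).det := by
    refine hdet.trans ?_
    rw [Fintype.card_fin, Fintype.card_fin]
    obtain ⟨x, hx⟩ : ∃ x, x = (LinearMap.BilinForm.toMatrix b₁ B₁).det := ⟨_, rfl⟩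
    obtain ⟨y, hy⟩ : ∃ y, y = (LinearMap.BilinForm.toMatrix b₂ B₂).det := ⟨_, rfl⟩
    rw [← hx, ← hy, hU, hW]
    ring
  rw [hdet', Cfsg.Agent.Lib.Helper5.isSquare_mul_sq_iff _ _ (mul_ne_zero (pow_ne_zero _ d₁) (pow_ne_zero _ d₂))] at key
  rw [key]
  obtain ⟨t, ht⟩ := hq
  have e1 : k * (2 * l + 1) * (Fintype.card F - 1) / 2 = k * (2 * l + 1) * t := by
    rw [ht, Nat.add_sub_cancel]
    have : k * (2 * l + 1) * (2 * t) = 2 * (k * (2 * l + 1) * t) := by ring
    rw [this, Nat.mul_div_cancel_left _ (by norm_num : 0 < 2)]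
  have e2 : k * (Fintype.card F - 1) / 2 = k * t := by
    rw [ht, Nat.add_sub_cancel]
    have : k * (2 * t) = 2 * (k * t) := by ring
    rw [this, Nat.mul_div_cancel_left _ (by norm_num : 0 < 2)]
  rw [e1, e2]
  simp only [Nat.even_mul, Nat.even_add_one]
  simp

end Cfsg.Agent.S0835
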