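import Mathlib
import Cfsg.Statements.S0836

set_option autoImplicit false
open Cfsg

namespace Cfsg.Agent.S0836

open Matrix
open scoped commutatorElement

theorem comm_eq_of_mul_eq {G : Type*} [Group G] (x y g : G) (h : x * y = g * y * x) : ⁅x, y⁆ = g := by
  rw [commutatorElement_def, h]; group

theorem exists_third (n : ℕ) (hn : 3 ≤ n) (i j : Fin n) : ∃ k : Fin n, k ≠ i ∧ k ≠ j := by
  by_contra hcon
  push Not at hcon
  have h0 := hcon ⟨0, by omega⟩
  have h1 := hcon ⟨1, by omega⟩
  have h2 := hcon ⟨2, by omega⟩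
  have e0 : (⟨0, by omega⟩ : Fin n) = i ∨ (⟨0, by omega⟩ : Fin n) = j := by
    by_cases h : (⟨0, by omega⟩ : Fin n) = i
    · exact Or.inl h
    · exact Or.inr (h0 h)
  have e1 : (⟨1, by omega⟩ : Fin n) = i ∨ (⟨1, by omega⟩ : Fin n) = j := by
    by_cases h : (⟨1, by omega⟩ : Fin n) = i
    · exact Or.inl h
    · exact Or.inr (h1 h)
  have e2 : (⟨2, by omega⟩ : Fin n) = i ∨ (⟨2, by omega⟩ : Fin n) = j := by
    by_cases h : (⟨2, by omega⟩ : Fin n) = i
    · exact Or.inl h
    · exact Or.inr (h2 h)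
  rcases e0 with e0 | e0 <;> rcases e1 with e1 | e1 <;> rcases e2 with e2 | e2 <;>
    simp only [← e0, ← e1, ← e2, Fin.ext_iff] at * <;> omega

theorem big_case {F : Type*} [Field F] (n : ℕ) (hn : 3 ≤ n) (i j : Fin n) (hij : i ≠ j) (c : F)
    (t : Matrix.SpecialLinearGroup (Fin n) F)
    (ht : (t : Matrix (Fin n) (Fin n) F) = Matrix.transvection i j c) :
    t ∈ commutatorSet (Matrix.SpecialLinearGroup (Fin n) F) := by
  obtain ⟨k, hki, hkj⟩ := exists_third n hn i j
  let x : Matrix.SpecialLinearGroup (Fin n) F :=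
    ⟨Matrix.transvection i k c, Matrix.det_transvection_of_ne i k hki.symm c⟩
  let y : Matrix.SpecialLinearGroup (Fin n) F :=
    ⟨Matrix.transvection k j 1, Matrix.det_transvection_of_ne k j hkj 1⟩
  refine ⟨x, y, comm_eq_of_mul_eq x y t ?_⟩
  apply Subtype.ext
  rw [Matrix.SpecialLinearGroup.coe_mul, Matrix.SpecialLinearGroup.coe_mul,
    Matrix.SpecialLinearGroup.coe_mul, ht]
  show Matrix.transvection i k c * Matrix.transvection k j 1 =
    Matrix.transvection i j c * Matrix.transvection k j 1 * Matrix.transvection i k c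
  unfold Matrix.transvection
  have hab : Matrix.single i k c * Matrix.single k j (1 : F) = Matrix.single i j c := by
    rw [Matrix.single_mul_single_same, mul_one]
  have hba : Matrix.single k j (1 : F) * Matrix.single i k c = 0 :=
    Matrix.single_mul_single_of_ne _ _ _ _ hij.symm _
  have hcb : Matrix.single i j c * Matrix.single k j (1 : F) = 0 :=
    Matrix.single_mul_single_of_ne _ _ _ _ hkj.symm _
  have hca : Matrix.single i j c * Matrix.single i k c = 0 :=
    Matrix.single_mul_single_of_ne _ _ _ _ hij.symm _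
  simp only [Matrix.mul_add, Matrix.add_mul, Matrix.mul_one, Matrix.one_mul, hab, hba, hcb, hca,
    add_zero]
  abel

theorem small_case {F : Type*} [Field F] (x : F) (hx0 : x ≠ 0) (hx1 : x ^ 2 ≠ 1) (i j : Fin 2)
    (hij : i ≠ j) (c : F) (t : Matrix.SpecialLinearGroup (Fin 2) F)
    (ht : (t : Matrix (Fin 2) (Fin 2) F) = Matrix.transvection i j c) :
    t ∈ commutatorSet (Matrix.SpecialLinearGroup (Fin 2) F) := by
  set d : Fin 2 → F := fun k => if k = i then x else x⁻¹ with hd
  have hdet : (Matrix.diagonal d).det = 1 := by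
    rw [Matrix.det_diagonal, Fin.prod_univ_two, hd]
    fin_cases i <;> fin_cases j <;> simp_all
  have hx2 : x ^ 2 - 1 ≠ 0 := sub_ne_zero.mpr hx1
  set β : F := c / (x ^ 2 - 1) with hβ
  let D : Matrix.SpecialLinearGroup (Fin 2) F := ⟨Matrix.diagonal d, hdet⟩
  let y : Matrix.SpecialLinearGroup (Fin 2) F :=
    ⟨Matrix.transvection i j β, Matrix.det_transvection_of_ne i j hij β⟩
  refine ⟨D, y, comm_eq_of_mul_eq D y t ?_⟩
  apply Subtype.ext
  rw [Matrix.SpecialLinearGroup.coe_mul, Matrix.SpecialLinearGroup.coe_mul,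
    Matrix.SpecialLinearGroup.coe_mul, ht]
  show Matrix.diagonal d * Matrix.transvection i j β =
    Matrix.transvection i j c * Matrix.transvection i j β * Matrix.diagonal d
  rw [Matrix.transvection_mul_transvection_same _ _ hij]
  have hcβ : c + β = x ^ 2 * β := by
    rw [hβ]; field_simp; ring
  rw [hcβ]
  unfold Matrix.transvection
  rw [Matrix.mul_add, Matrix.add_mul, Matrix.mul_one, Matrix.one_mul]
  congr 1
  ext a b
  rw [Matrix.diagonal_mul, Matrix.mul_diagonal, Matrix.single_apply, Matrix.single_apply]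
  by_cases hab : i = a ∧ j = b
  · obtain ⟨rfl, rfl⟩ := hab
    have hji : ¬ j = i := fun h => hij h.symm
    simp only [hd, and_self, if_true, hji, if_false]
    field_simp
  · rw [if_neg hab, if_neg hab, mul_zero, zero_mul]

/-- For i ≠ j and any scalar c, the elementary transvection 1 + c E_ij is a commutator ⁅g, h⁆ of two elements of SL_n(F) provided n ≥ 3, or n = 2 and F contains x ≠ 0 with x² ≠ 1. -/
theorem result {F : Type*} [Field F] (n : ℕ) (hn : 3 ≤ n ∨ (n = 2 ∧ ∃ x : F, x ≠ 0 ∧ x ^ 2 ≠ 1)) (i j : Fin n) (hij : i ≠ j) (c : F) (t : Matrix.SpecialLinearGroup (Fin n) F) (ht : (t : Matrix (Fin n) (Fin n) F) = Matrix.transvection i j c) : t ∈ commutatorSet (Matrix.SpecialLinearGroup (Fin n) F) := by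
  rcases hn with hn | ⟨rfl, x, hx0, hx1⟩
  · exact big_case n hn i j hij c t ht
  · exact small_case x hx0 hx1 i j hij c t ht

end Cfsg.Agent.S0836
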