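import Mathlib
import Cfsg.Statements.S0837
import Cfsg.Agent.Lib.Helper5.HermBridge
import Cfsg.Agent.Lib.Helper5.HermBlock
import Cfsg.Agent.Lib.Helper5.StabConj
import Cfsg.Agent.Lib.Helper5.HermWitt
import Cfsg.Agent.Lib.Helper5.HermBasis

set_option autoImplicit false
open Cfsg

namespace Cfsg.Agent.S0837

open Matrix Cfsg.Agent.Lib.Helper5.HermBridge Cfsg.Agent.Lib.Helper5.Herm
  Cfsg.Agent.Lib.Helper5.HermBlock Cfsg.Agent.Lib.Helper5.GLParabolic

section
variable {F : Type*} [Field F] [Fintype F] {q : ℕ} (hF : Fintype.card F = q ^ 2) (k l : ℕ)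

local notation "V" => (Fin (k + l) → F)

omit [Fintype F] in
theorem US_decomp (w : V) (hw : w ∈ US F (k + l) k) :
    w = ∑ i : Fin k, w (Fin.castAdd l i) • (Pi.single (Fin.castAdd l i) (1 : F) : V) := by
  classical
  have h1 : w = ∑ a : Fin (k + l), w a • (Pi.single a (1 : F) : V) := by
    ext i
    simp [Finset.sum_apply, Pi.single_apply]
  rw [Fin.sum_univ_add] at h1
  have h3 : ∑ j : Fin l, w (Fin.natAdd k j) • (Pi.single (Fin.natAdd k j) (1 : F) : V) = 0 :=
    Finset.sum_eq_zero (fun j _ => by rw [hw (Fin.natAdd k j) (by simp), zero_smul])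
  rw [h3, add_zero] at h1
  exact h1

include hF in
/-- a nondegenerate subspace of dimension `k` can be moved to the standard one -/
theorem exists_to_standard (W : Submodule F V) (hWk : Module.finrank F W = k)
    (hW : ∀ u ∈ W, (∀ v ∈ W, Cfsg.hermForm (k + l) F q u v = 0) → u = 0) :
    ∃ h : ↥(Cfsg.GU (k + l) F q), ∀ v : V,
      v ∈ (W : Set V) ↔ ((h : Matrix.GeneralLinearGroup (Fin (k + l)) F) : Matrix _ _ F) *ᵥ v ∈ US F (k + l) k := by
  classical
  let B := hermSesq hF (k + l)
  let BW : W →ₛₗ[sigma hF] W →ₗ[F] F := B.domRestrict₁₂ W W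
  have hBW : ∀ x y : W, BW x y = Cfsg.hermForm (k + l) F q (y : V) (x : V) := fun x y => rfl
  have hBWS : BW.IsSymm := ⟨fun x y => (hermSesq_isSymm hF (k + l)).eq (x : V) (y : V)⟩
  have hBWnd : BW.Nondegenerate := by
    constructor
    · intro x hx
      apply Subtype.ext
      apply hW x.1 x.2
      intro v hv
      have := hx ⟨v, hv⟩
      rw [hBW] at this
      rw [← hermForm_conj hF, this, zero_pow (q_ne_zero hF)]
    · intro y hy
      apply Subtype.ext
      apply hW y.1 y.2
      intro v hv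
      exact hy ⟨v, hv⟩
  obtain ⟨b, hb⟩ := Cfsg.Agent.Lib.Helper5.HermBasis.exists_orthonormal_basis (sigma_ne_id hF)
    (sigma_sigma hF) BW hBWS hBWnd
  let b' : Module.Basis (Fin k) F W := b.reindex (finCongr hWk)
  have hb' : ∀ i j, BW (b' i) (b' j) = if i = j then 1 else 0 := by
    intro i j
    rw [Module.Basis.reindex_apply, Module.Basis.reindex_apply, hb]
    simp [Fin.ext_iff]
  let x : Fin k → V := fun i => ((b' i : W) : V)
  let y : Fin k → V := fun i => Pi.single (Fin.castAdd l i) 1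
  have hxli : LinearIndependent F x :=
    b'.linearIndependent.map' W.subtype (Submodule.ker_subtype _)
  have hyli : LinearIndependent F y := by
    have := (Pi.basisFun F (Fin (k + l))).linearIndependent.comp (fun i : Fin k => Fin.castAdd l i)
      (Fin.castAdd_injective k l)
    convert this using 1
    ext i a
    simp [y, Pi.basisFun_apply]
  have hgram : ∀ i j, B (x i) (x j) = B (y i) (y j) := by
    intro i j
    have h1 : B (x i) (x j) = if i = j then 1 else 0 := hb' i j
    rw [h1]
    show _ = Cfsg.hermForm (k + l) F q (y j) (y i)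
    simp only [y]
    rw [hermForm_single_left, Pi.single_apply]
    by_cases hij : i = j
    · subst hij; simp
    · have : Fin.castAdd l j ≠ Fin.castAdd l i := fun h => hij (Fin.castAdd_injective k l h).symm
      simp [hij, this, q_ne_zero hF]
  obtain ⟨g, hg, hgx⟩ := Cfsg.Agent.Lib.Helper5.HermWitt.witt_family (B := B) (sigma_ne_id hF)
    (sigma_sigma hF) (hermSesq_nondegenerate hF (k + l)) (hermSesq_isSymm hF (k + l)) k x y hxli hyli hgram
  obtain ⟨A, hA⟩ := exists_GU_of_isometry (k + l) g (fun u v => hg v u)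
  refine ⟨A, fun v => ?_⟩
  show v ∈ W ↔ _
  rw [hA]
  constructor
  · intro hv
    have hrepr : (⟨v, hv⟩ : W) = ∑ i, b'.repr ⟨v, hv⟩ i • b' i := (b'.sum_repr ⟨v, hv⟩).symm
    have hv' : v = ∑ i, b'.repr ⟨v, hv⟩ i • x i := by
      have := congrArg (fun w : W => (w : V)) hrepr
      simp only [Submodule.coe_sum, Submodule.coe_smul] at this
      exact this
    rw [hv', map_sum]
    apply (Usub F (k + l) k).sum_mem
    intro i _
    rw [map_smul, hgx i]
    apply (Usub F (k + l) k).smul_mem
    exact single_mem_US _ (by simp) 1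
  · intro hgv
    have hdec := US_decomp k l (g v) hgv
    have : g v = g (∑ i : Fin k, (g v) (Fin.castAdd l i) • x i) := by
      rw [map_sum]
      conv_lhs => rw [hdec]
      exact Finset.sum_congr rfl (fun j _ => by rw [map_smul, hgx j])
    have hv := g.injective this
    rw [hv]
    apply W.sum_mem
    intro j _
    exact W.smul_mem _ (b' j).2

end

/-- If W ≤ F^n (|F| = q²) is a k-dimensional subspace on which the Hermitian form Σ x_i y_i^q is non-degenerate, then the stabiliser of W in GU_n(q) is isomorphic to GU_k(q) × GU_(n−k)(q). -/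
theorem result {F : Type*} [Field F] [Fintype F] {q : ℕ} (hF : Fintype.card F = q ^ 2) (n k : ℕ) (hk : k ≤ n) (W : Submodule F (Fin n → F)) (hWk : Module.finrank F W = k) (hW : ∀ u ∈ W, (∀ v ∈ W, Cfsg.hermForm n F q u v = 0) → u = 0) : Nonempty (↥((Cfsg.stabilizing (Cfsg.glToMat (Fin n) F) (W : Set (Fin n → F))).subgroupOf (Cfsg.GU n F q)) ≃* ↥(Cfsg.GU k F q) × ↥(Cfsg.GU (n - k) F q)) := by
  obtain ⟨l, rfl⟩ := Nat.exists_eq_add_of_le hk
  rw [Nat.add_sub_cancel_left]
  obtain ⟨h, hh⟩ := exists_to_standard hF k l W hWk hW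
  -- view both stabilisers as `stabilizing` subgroups of `GU`
  let toMat : ↥(Cfsg.GU (k + l) F q) →* Matrix (Fin (k + l)) (Fin (k + l)) F :=
    (Cfsg.glToMat (Fin (k + l)) F).comp (Cfsg.GU (k + l) F q).subtype
  have e0 : ∀ S : Set (Fin (k + l) → F),
      (Cfsg.stabilizing (Cfsg.glToMat (Fin (k + l)) F) S).subgroupOf (Cfsg.GU (k + l) F q) =
        Cfsg.stabilizing toMat S := fun S => Subgroup.ext (fun x => Iff.rfl)
  obtain ⟨e1⟩ := Cfsg.Agent.Lib.Helper5.StabConj.stabilizing_conj_equiv toMat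
    (W : Set (Fin (k + l) → F)) (US F (k + l) k) h hh
  obtain ⟨e2⟩ := stab_equiv hF k l
  exact ⟨(MulEquiv.subgroupCongr (e0 _)).trans (e1.trans ((MulEquiv.subgroupCongr (e0 _)).symm.trans e2))⟩

end Cfsg.Agent.S0837
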