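import Mathlib
import Cfsg.Statements.S2623
import Cfsg.Agent.Lib.Helper5.QuadDiag
import Cfsg.Agent.Lib.Helper5.Discriminant
import Cfsg.Agent.S2619

set_option autoImplicit false
open Cfsg

namespace Cfsg.Agent.S2623

open Module QuadraticMap Cfsg.Agent.Lib.Helper5

/-- a linear map matching two quadratic forms and their polar forms on a basis is an isometry -/
theorem comp_eq_of_basis {F V ι : Type*} [Field F] [AddCommGroup V] [Module F V] [Fintype ι]
    (b : Module.Basis ι F V) (Q₁ Q₂ : QuadraticForm F V) (g : V →ₗ[F] V)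
    (h1 : ∀ i, Q₂ (g (b i)) = Q₁ (b i))
    (h2 : ∀ i j, polar Q₂ (g (b i)) (g (b j)) = polar Q₁ (b i) (b j)) :
    ∀ v, Q₂ (g v) = Q₁ v := by
  have : Q₂.comp g = Q₁ := by
    apply Cfsg.Agent.S2619.unique_aux b
    · apply LinearMap.ext_basis b b
      intro i j
      simp only [polarBilin_apply_apply]
      have : polar (Q₂.comp g) (b i) (b j) = polar Q₂ (g (b i)) (g (b j)) := by
        simp [polar, QuadraticMap.comp_apply]
      rw [this, h2]
    · intro i
      simp [h1]
  intro v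
  have := congrArg (fun q : QuadraticForm F V => q v) this
  simpa using this

theorem polar_of_isometry {F V : Type*} [Field F] [AddCommGroup V] [Module F V]
    (Q₁ Q₂ : QuadraticForm F V) (g : V →ₗ[F] V) (hg : ∀ v, Q₂ (g v) = Q₁ v) (u v : V) :
    polar Q₂ (g u) (g v) = polar Q₁ u v := by
  simp only [polar, ← map_add, hg]

theorem gram_eq {F : Type*} [Field F] {n : ℕ} (Q : QuadraticForm F (Fin n → F)) :
    LinearMap.BilinForm.toMatrix' (polarBilin Q) =
      Matrix.of (fun i j : Fin n => polar Q (Pi.single i 1) (Pi.single j 1)) := by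
  ext i j
  rw [LinearMap.BilinForm.toMatrix'_apply]
  rfl

/-- the value at the last vector of a diagonalising basis is nonzero -/
theorem last_ne_zero {F V : Type*} [Field F] [AddCommGroup V] [Module F V] {k : ℕ}
    (Q : QuadraticForm F V) (hQ : ∀ z : V, (∀ z', polar Q z z' = 0) → z = 0)
    (b : Basis (Fin (k + 1)) F V) (hb : ∀ i j, i ≠ j → polar Q (b i) (b j) = 0) :
    Q (b (Fin.last k)) ≠ 0 := by
  intro h0
  apply b.ne_zero (Fin.last k)
  apply hQ
  intro z
  have : polarBilin Q (b (Fin.last k)) = 0 := by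
    apply b.ext
    intro j
    rw [polarBilin_apply_apply, LinearMap.zero_apply]
    by_cases hj : Fin.last k = j
    · rw [← hj, polar_self, h0, smul_zero]
    · exact hb _ _ hj
  have h1 := congrArg (fun φ => φ z) this
  simpa using h1

theorem gram_det_diag {F : Type*} [Field F] {k : ℕ} (Q : QuadraticForm F (Fin (k + 1) → F))
    (b : Basis (Fin (k + 1)) F (Fin (k + 1) → F))
    (hb : ∀ i j, i ≠ j → polar Q (b i) (b j) = 0)
    (hb1 : ∀ i : Fin (k + 1), (i : ℕ) < k → Q (b i) = 1) :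
    ∃ d : F, d ≠ 0 ∧ 2 ^ (k + 1) * Q (b (Fin.last k)) =
      d * d * (Matrix.of (fun i j : Fin (k + 1) =>
        polar Q (Pi.single i 1) (Pi.single j 1))).det := by
  classical
  obtain ⟨d, hd0, hd⟩ := gram_det_basis (polarBilin Q) b
  refine ⟨d, hd0, ?_⟩
  rw [gram_eq] at hd
  rw [← hd]
  have hdiag : (Matrix.of fun i j : Fin (k + 1) => polarBilin Q (b i) (b j)) =
      Matrix.diagonal (fun i => 2 * Q (b i)) := by
    ext i j
    by_cases hij : i = j
    · subst hij
      simp [polar_self]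
    · rw [Matrix.diagonal_apply_ne _ hij]
      exact hb i j hij
  rw [hdiag, Matrix.det_diagonal, Fin.prod_univ_castSucc]
  have : ∀ i : Fin k, 2 * Q (b (Fin.castSucc i)) = 2 := by
    intro i
    rw [hb1 _ (by simp), mul_one]
  simp only [this, Finset.prod_const, Finset.card_univ, Fintype.card_fin]
  ring

/-- Over a finite field of odd order two non-degenerate quadratic forms on F^n are isometric iff their discriminants have the same square class. -/
theorem result {F : Type*} [Field F] [Fintype F] (h2 : (2 : F) ≠ 0) {n : ℕ} (Q₁ Q₂ : QuadraticForm F (Fin n → F)) (h₁ : (QuadraticMap.polarBilin Q₁).Nondegenerate) (h₂ : (QuadraticMap.polarBilin Q₂).Nondegenerate) : (∃ g : (Fin n → F) ≃ₗ[F] (Fin n → F), ∀ v, Q₂ (g v) = Q₁ v) ↔ IsSquare ((Matrix.of (fun i j : Fin n => QuadraticMap.polar ⇑Q₁ (Pi.single i 1) (Pi.single j 1))).det * (Matrix.of (fun i j : Fin n => QuadraticMap.polar ⇑Q₂ (Pi.single i 1) (Pi.single j 1))).det) := by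
  classical
  have hQ₁ : ∀ z, (∀ z', polar Q₁ z z' = 0) → z = 0 := fun z hz => h₁.1 z hz
  have hQ₂ : ∀ z, (∀ z', polar Q₂ z z' = 0) → z = 0 := fun z hz => h₂.1 z hz
  constructor
  · rintro ⟨g, hg⟩
    let b : Basis (Fin n) F (Fin n → F) := (Pi.basisFun F (Fin n)).map g
    obtain ⟨d, hd0, hd⟩ := gram_det_basis (polarBilin Q₂) b
    rw [gram_eq] at hd
    have hG : (Matrix.of fun i j : Fin n => polarBilin Q₂ (b i) (b j)) =
        Matrix.of (fun i j : Fin n => polar Q₁ (Pi.single i 1) (Pi.single j 1)) := by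
      ext i j
      simp only [Matrix.of_apply, polarBilin_apply_apply, b, Basis.map_apply, Pi.basisFun_apply]
      exact polar_of_isometry Q₁ Q₂ g.toLinearMap hg _ _
    rw [hG] at hd
    rw [hd]
    exact ⟨d * (Matrix.of (fun i j : Fin n =>
      polar Q₂ (Pi.single i 1) (Pi.single j 1))).det, by ring⟩
  · intro hsq
    rcases Nat.eq_zero_or_pos n with hn | hn
    · subst hn
      refine ⟨LinearEquiv.refl _ _, ?_⟩
      intro v
      have : v = 0 := Subsingleton.elim _ _
      rw [this]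
      simp only [map_zero]
    obtain ⟨k, rfl⟩ : ∃ k, n = k + 1 := ⟨n - 1, by omega⟩
    have hV : finrank F (Fin (k + 1) → F) = k + 1 := Module.finrank_fin_fun F
    obtain ⟨b₁, hb₁, hb₁'⟩ := exists_diag_basis h2 k Q₁ hQ₁ hV
    obtain ⟨b₂, hb₂, hb₂'⟩ := exists_diag_basis h2 k Q₂ hQ₂ hV
    obtain ⟨d₁, hd₁0, hd₁⟩ := gram_det_diag Q₁ b₁ hb₁ hb₁'
    obtain ⟨d₂, hd₂0, hd₂⟩ := gram_det_diag Q₂ b₂ hb₂ hb₂'
    set D₁ := Q₁ (b₁ (Fin.last k)) with hD₁
    set D₂ := Q₂ (b₂ (Fin.last k)) with hD₂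
    have hD₁0 : D₁ ≠ 0 := last_ne_zero Q₁ hQ₁ b₁ hb₁
    have hD₂0 : D₂ ≠ 0 := last_ne_zero Q₂ hQ₂ b₂ hb₂
    obtain ⟨s, hs⟩ := hsq
    have h2k : (2 : F) ^ (k + 1) ≠ 0 := pow_ne_zero _ h2
    -- `D₁ * D₂` is a square
    have hkey : (2 ^ (k + 1) * D₁) * (2 ^ (k + 1) * D₂) = d₁ * d₁ * d₂ * d₂ * (s * s) := by
      rw [hd₁, hd₂, ← hs]; ring
    set t := d₁ * d₂ * s / 2 ^ (k + 1) / D₂ with ht
    have htD : t * t * D₂ = D₁ := by
      rw [ht]
      field_simp
      linear_combination (-1 : F) * hkey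
    let w : Fin (k + 1) → F := fun j => if j = Fin.last k then t else 1
    let g₀ : (Fin (k + 1) → F) →ₗ[F] (Fin (k + 1) → F) := b₁.constr F (fun j => w j • b₂ j)
    have hg₀b : ∀ j, g₀ (b₁ j) = w j • b₂ j := fun j => Basis.constr_basis _ _ _ _
    have hval : ∀ j, Q₂ (g₀ (b₁ j)) = Q₁ (b₁ j) := by
      intro j
      rw [hg₀b, QuadraticMap.map_smul, smul_eq_mul]
      by_cases hj : j = Fin.last k
      · subst hj
        simp only [w, if_true]
        exact htD
      · have hjk : (j : ℕ) < k := by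
          have := j.isLt
          have : (j : ℕ) ≠ k := fun h => hj (Fin.ext h)
          omega
        simp only [w, if_neg hj]
        rw [hb₁' j hjk, hb₂' j hjk]; ring
    have hg₀ : ∀ v, Q₂ (g₀ v) = Q₁ v := by
      apply comp_eq_of_basis b₁ Q₁ Q₂ g₀ hval
      intro i j
      by_cases hij : i = j
      · subst hij
        rw [polar_self, polar_self, hval]
      · rw [hg₀b, hg₀b, polar_smul_left, polar_smul_right, hb₂ i j hij, hb₁ i j hij]
        simp
    have hinj : Function.Injective g₀ := by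
      rw [← LinearMap.ker_eq_bot, LinearMap.ker_eq_bot']
      intro v hv
      apply hQ₁
      intro u
      rw [← polar_of_isometry Q₁ Q₂ g₀ hg₀, hv, polar_zero_left]
    exact ⟨LinearEquiv.ofInjectiveEndo g₀ hinj, fun v => by simpa using hg₀ v⟩

end Cfsg.Agent.S2623
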