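import Mathlib
import Cfsg.Statements.S0838
import Cfsg.Agent.S2623
import Cfsg.Agent.Lib.Helper5.Discriminant

set_option autoImplicit false
open Cfsg

namespace Cfsg.Agent.S0838

/-- Over a finite field with 2 ≠ 0 and n odd: two quadratic forms Q₁, Q₂ on F^n with non-degenerate polar forms are similar — there are an invertible linear map g and a scalar c ≠ 0 with Q₂ (g v) = c · Q₁ v for all v. -/
theorem result {F : Type*} [Field F] [Fintype F] (h2 : (2 : F) ≠ 0) {n : ℕ} (hn : Odd n) (Q₁ Q₂ : QuadraticForm F (Fin n → F)) (h₁ : (QuadraticMap.polarBilin Q₁).Nondegenerate) (h₂ : (QuadraticMap.polarBilin Q₂).Nondegenerate) : ∃ (g : (Fin n → F) ≃ₗ[F] (Fin n → F)) (c : F), c ≠ 0 ∧ ∀ v, Q₂ (g v) = c * Q₁ v := by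
  classical
  have hodd : Odd (Fintype.card F) := by
    rw [Nat.odd_iff]
    apply FiniteField.odd_card_of_char_ne_two
    intro h
    have : CharP F 2 := ringChar.of_eq h
    exact h2 (CharTwo.two_eq_zero)
  have hchar : ringChar F ≠ 2 := by
    intro h
    have : CharP F 2 := ringChar.of_eq h
    exact h2 (CharTwo.two_eq_zero)
  set G₁ : Matrix (Fin n) (Fin n) F :=
    Matrix.of (fun i j : Fin n => QuadraticMap.polar ⇑Q₁ (Pi.single i 1) (Pi.single j 1)) with hG₁
  set G₂ : Matrix (Fin n) (Fin n) F :=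
    Matrix.of (fun i j : Fin n => QuadraticMap.polar ⇑Q₂ (Pi.single i 1) (Pi.single j 1)) with hG₂
  have hdet : ∀ (Q : QuadraticForm F (Fin n → F)), (QuadraticMap.polarBilin Q).Nondegenerate →
      (Matrix.of (fun i j : Fin n => QuadraticMap.polar ⇑Q (Pi.single i 1) (Pi.single j 1))).det ≠ 0 := by
    intro Q hQ
    rw [← Cfsg.Agent.S2623.gram_eq, ← Matrix.nondegenerate_iff_det_ne_zero]
    exact LinearMap.BilinForm.nondegenerate_toMatrix'_iff.mpr hQ
  have hd₁ : G₁.det ≠ 0 := hdet Q₁ h₁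
  have hd₂ : G₂.det ≠ 0 := hdet Q₂ h₂
  by_cases hsq : IsSquare (G₁.det * G₂.det)
  · obtain ⟨g, hg⟩ := (Cfsg.Agent.S2623.result h2 Q₁ Q₂ h₁ h₂).mpr hsq
    exact ⟨g, 1, one_ne_zero, fun v => by rw [hg, one_mul]⟩
  · obtain ⟨ν, hν⟩ := FiniteField.exists_nonsquare hchar
    have hν0 : ν ≠ 0 := by
      rintro rfl
      exact hν ⟨0, by simp⟩
    set Q₁' : QuadraticForm F (Fin n → F) := ν • Q₁ with hQ₁'
    have hpol : ∀ x y, QuadraticMap.polar ⇑Q₁' x y = ν * QuadraticMap.polar ⇑Q₁ x y := by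
      intro x y
      simp only [QuadraticMap.polar, hQ₁', _root_.smul_apply, smul_eq_mul]
      ring
    have h₁' : (QuadraticMap.polarBilin Q₁').Nondegenerate := by
      constructor
      · intro x hx
        apply h₁.1 x
        intro y
        have := hx y
        rw [QuadraticMap.polarBilin_apply_apply, hpol] at this
        rw [QuadraticMap.polarBilin_apply_apply]
        exact (mul_eq_zero.mp this).resolve_left hν0
      · intro y hy
        apply h₁.2 y
        intro x
        have := hy x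
        rw [QuadraticMap.polarBilin_apply_apply, hpol] at this
        rw [QuadraticMap.polarBilin_apply_apply]
        exact (mul_eq_zero.mp this).resolve_left hν0
    have hG₁' : Matrix.of (fun i j : Fin n => QuadraticMap.polar ⇑Q₁' (Pi.single i 1) (Pi.single j 1))
        = ν • G₁ := by
      ext i j
      simp only [Matrix.of_apply, Matrix.smul_apply, hG₁, smul_eq_mul]
      exact hpol _ _
    have hsq' : IsSquare ((Matrix.of (fun i j : Fin n =>
        QuadraticMap.polar ⇑Q₁' (Pi.single i 1) (Pi.single j 1))).det * G₂.det) := by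
      rw [hG₁', Matrix.det_smul, Fintype.card_fin]
      obtain ⟨k, hk⟩ := hn
      have h3 : IsSquare (G₁.det * G₂.det * ν) :=
        (Cfsg.Agent.Lib.Helper5.isSquare_mul_nonsquare_iff hodd _ ν (mul_ne_zero hd₁ hd₂) hν).mpr hsq
      obtain ⟨r, hr⟩ := h3
      refine ⟨ν ^ k * r, ?_⟩
      have hpow : ν ^ n = (ν ^ k) ^ 2 * ν := by
        rw [hk, pow_succ, pow_mul, ← pow_mul, ← pow_mul, mul_comm 2 k]
      have : ν ^ k * r * (ν ^ k * r) = (ν ^ k) ^ 2 * (r * r) := by ring
      rw [this, ← hr, hpow]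
      ring
    obtain ⟨g, hg⟩ := (Cfsg.Agent.S2623.result h2 Q₁' Q₂ h₁' h₂).mpr hsq'
    refine ⟨g, ν, hν0, fun v => ?_⟩
    rw [hg, hQ₁', _root_.smul_apply, smul_eq_mul]

end Cfsg.Agent.S0838
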