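import Mathlib
import Cfsg.Statements.S0839
import Cfsg.Agent.S2579

set_option autoImplicit false
open Cfsg
open Matrix

namespace Cfsg.Agent.S0839

/-- Every transvection t ∈ SL_(n+2)(F) (rank(t − 1) = 1, (t − 1)² = 0) is conjugate in SL_(n+2)(F) to 1 + v·e_0ᵀ for some column vector v with v_0 = 0 (the group A of matrices that are the identity except in the first column below the diagonal); the dimension is written n + 2 ≥ 2. -/
theorem result {F : Type*} [Field F] (n : ℕ) (t : Matrix.SpecialLinearGroup (Fin (n + 2)) F) (ht : Cfsg.IsTransvection (t : Matrix (Fin (n + 2)) (Fin (n + 2)) F)) : ∃ (g : Matrix.SpecialLinearGroup (Fin (n + 2)) F) (v : Fin (n + 2) → F), v 0 = 0 ∧ ((g⁻¹ * t * g : Matrix.SpecialLinearGroup (Fin (n + 2)) F) : Matrix (Fin (n + 2)) (Fin (n + 2)) F) = 1 + Matrix.vecMulVec v (Pi.single 0 1) := by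
  classical
  obtain ⟨ht1, ht2⟩ := ht
  set A : Matrix (Fin (n + 2)) (Fin (n + 2)) F := (t : Matrix (Fin (n + 2)) (Fin (n + 2)) F) - 1 with hA
  have hNA : A.mulVecLin ∘ₗ A.mulVecLin = 0 := by
    rw [← Matrix.mulVecLin_mul, ht2, Matrix.mulVecLin_zero]
  have hrA : Module.finrank F (LinearMap.range A.mulVecLin) = 1 := ht1
  set e0 : Fin (n + 2) → F := Pi.single 0 1 with he0
  set e1 : Fin (n + 2) → F := Pi.single 1 1 with he1
  have h01 : e0 ⬝ᵥ e1 = 0 := by
    rw [he0, he1, single_dotProduct, one_mul]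
    simp
  have he1ne : e1 ≠ 0 := by
    intro h
    have := congrFun h 1
    simp [he1] at this
  set B : Matrix (Fin (n + 2)) (Fin (n + 2)) F := Matrix.vecMulVec e1 e0 with hB
  have hB2 : B * B = 0 := by
    rw [hB, Matrix.vecMulVec_mul_vecMulVec, h01, zero_smul, Matrix.vecMulVec_zero]
  have hNB : B.mulVecLin ∘ₗ B.mulVecLin = 0 := by
    rw [← Matrix.mulVecLin_mul, hB2, Matrix.mulVecLin_zero]
  have hBlin : B.mulVecLin = (LinearMap.proj 0 : (Fin (n + 2) → F) →ₗ[F] F).smulRight e1 := by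
    apply LinearMap.ext
    intro x
    rw [Matrix.mulVecLin_apply, hB, Matrix.vecMulVec_mulVec, LinearMap.smulRight_apply,
      LinearMap.proj_apply, he0, single_dotProduct, one_mul]
    funext i
    simp [mul_comm]
  have hproj : (LinearMap.proj 0 : (Fin (n + 2) → F) →ₗ[F] F) ≠ 0 := by
    intro h
    have := congrArg (fun f => f e0) h
    simp [he0] at this
  have hrB : Module.finrank F (LinearMap.range B.mulVecLin) = 1 := by
    rw [hBlin, LinearMap.range_smulRight_apply hproj, finrank_span_singleton he1ne]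
  obtain ⟨g, hg⟩ := Cfsg.Agent.S2579.exists_conj A.mulVecLin B.mulVecLin hNA hNB hrA hrB
  set P : Matrix (Fin (n + 2)) (Fin (n + 2)) F := LinearMap.toMatrix' g.toLinearMap with hP
  have hPdet : P.det ≠ 0 := by
    rw [hP, LinearMap.det_toMatrix']
    exact (LinearEquiv.isUnit_det' g).ne_zero
  have hPA : P * A = B * P := by
    have h1 := hg
    rw [← Matrix.toLin'_apply', ← Matrix.toLin'_apply'] at h1
    have h2 := congrArg LinearMap.toMatrix' h1
    simp only [LinearMap.toMatrix'_comp, LinearMap.toMatrix'_toLin'] at h2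
    exact h2
  set c : F := P.det⁻¹ with hc
  have hc0 : c ≠ 0 := inv_ne_zero hPdet
  set D : Matrix (Fin (n + 2)) (Fin (n + 2)) F :=
    Matrix.diagonal (fun i => if i = 0 then c else 1) with hD
  have hDdet : D.det = c := by
    rw [hD, Matrix.det_diagonal, Fin.prod_univ_succ]
    simp [Fin.succ_ne_zero]
  have hDe1 : D *ᵥ e1 = e1 := by
    funext i
    rw [hD, Matrix.mulVec_diagonal, he1]
    by_cases hi : i = 1
    · subst hi; simp
    · simp [hi]
  have he0D : e0 ᵥ* D = c • e0 := by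
    funext i
    rw [hD, Matrix.vecMul_diagonal, he0, Pi.smul_apply, smul_eq_mul]
    by_cases hi : i = 0
    · subst hi; simp
    · simp [hi]
  have hDB : D * B = c⁻¹ • (B * D) := by
    rw [hB, Matrix.mul_vecMulVec, hDe1, Matrix.vecMulVec_mul, he0D, Matrix.vecMulVec_smul, smul_smul,
      inv_mul_cancel₀ hc0, one_smul]
  set P' : Matrix (Fin (n + 2)) (Fin (n + 2)) F := D * P with hP'
  have hP'det : P'.det = 1 := by
    rw [hP', Matrix.det_mul, hDdet, hc, inv_mul_cancel₀ hPdet]
  have hP'A : P' * A = (c⁻¹ • B) * P' := by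
    rw [hP', Matrix.mul_assoc, hPA, ← Matrix.mul_assoc, hDB, Matrix.smul_mul, Matrix.smul_mul,
      Matrix.mul_assoc]
  have hP't : P' * (t : Matrix (Fin (n + 2)) (Fin (n + 2)) F) = (1 + c⁻¹ • B) * P' := by
    have : (t : Matrix (Fin (n + 2)) (Fin (n + 2)) F) = 1 + A := by rw [hA]; abel
    rw [this, Matrix.mul_add, Matrix.mul_one, hP'A, Matrix.add_mul, Matrix.one_mul]
  let Ps : Matrix.SpecialLinearGroup (Fin (n + 2)) F := ⟨P', hP'det⟩
  refine ⟨Ps⁻¹, c⁻¹ • e1, ?_, ?_⟩
  · rw [Pi.smul_apply, he1]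
    simp
  · rw [inv_inv, Matrix.SpecialLinearGroup.coe_mul, Matrix.SpecialLinearGroup.coe_mul]
    show P' * (t : Matrix (Fin (n + 2)) (Fin (n + 2)) F) * _ = _
    rw [hP't, Matrix.mul_assoc]
    have hinv : P' * ((Ps⁻¹ : Matrix.SpecialLinearGroup (Fin (n + 2)) F) : Matrix (Fin (n + 2)) (Fin (n + 2)) F) = 1 := by
      have : Ps * Ps⁻¹ = 1 := mul_inv_cancel Ps
      have h2 := congrArg Subtype.val this
      rw [Matrix.SpecialLinearGroup.coe_mul] at h2
      exact h2
    rw [hinv, Matrix.mul_one, hB, Matrix.smul_vecMulVec]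

end Cfsg.Agent.S0839
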