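import Cfsg.Statements.S0840
import Cfsg.Agent.Lib.Helper6.ClassMult

set_option autoImplicit false
open scoped ComplexConjugate
open Cfsg

namespace Cfsg.Agent.S0840

/-- Class multiplication coefficients from the character table: for elements a, b, c of a finite group G, the number of ordered pairs (x, y) with x conjugate to a, y conjugate to b and x * y = c equals the product of the sizes of the conjugacy classes of a and b, divided by the order of G, times the sum over the irreducible characters χ of χ a * χ b * conj (χ c) / χ 1. -/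
theorem result {G : Type*} [Group G] [Finite G] (a b c : G) : (Nat.card {p : G × G // IsConj a p.1 ∧ IsConj b p.2 ∧ p.1 * p.2 = c} : ℂ) = (Nat.card {x : G // IsConj a x} : ℂ) * (Nat.card {x : G // IsConj b x} : ℂ) / (Nat.card G : ℂ) * ∑ᶠ χ : Cfsg.IrrCharacter G, (χ : G → ℂ) a * (χ : G → ℂ) b * conj ((χ : G → ℂ) c) / (χ : G → ℂ) 1 := by
  classical
  have : Fintype G := Fintype.ofFinite G
  have : Fintype (Cfsg.IrrCharacter G) := Fintype.ofFinite _
  rw [finsum_eq_sum_of_fintype]
  have h1 := Cfsg.Agent.Lib.Helper6.card_conj_mul_conj_eq a b c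
  have h2 := Cfsg.Agent.Lib.Helper6.card_conj_pairs a b c
  rw [h2] at h1
  push_cast at h1
  have ha := Cfsg.Agent.Lib.Helper6.card_conj_mul_card_centralizer a
  have hb := Cfsg.Agent.Lib.Helper6.card_conj_mul_card_centralizer b
  have ha' : (Nat.card {x : G // IsConj a x} : ℂ)
      * (Nat.card (Subgroup.centralizer ({a} : Set G)) : ℂ) = (Nat.card G : ℂ) := by
    rw [Nat.card_eq_fintype_card (α := {x : G // IsConj a x}), Fintype.card_subtype]
    exact_mod_cast ha
  have hb' : (Nat.card {x : G // IsConj b x} : ℂ)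
      * (Nat.card (Subgroup.centralizer ({b} : Set G)) : ℂ) = (Nat.card G : ℂ) := by
    rw [Nat.card_eq_fintype_card (α := {x : G // IsConj b x}), Fintype.card_subtype]
    exact_mod_cast hb
  have hG := Cfsg.Agent.Lib.Helper6.card_ne_zero_complex G
  have hCa : (Nat.card (Subgroup.centralizer ({a} : Set G)) : ℂ) ≠ 0 :=
    Cfsg.Agent.Lib.Helper6.card_ne_zero_complex _
  have hCb : (Nat.card (Subgroup.centralizer ({b} : Set G)) : ℂ) ≠ 0 :=
    Cfsg.Agent.Lib.Helper6.card_ne_zero_complex _
  set S := ∑ χ : Cfsg.IrrCharacter G,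
    (χ : G → ℂ) a * (χ : G → ℂ) b * conj ((χ : G → ℂ) c) / (χ : G → ℂ) 1 with hS
  set Nn := (Nat.card {p : G × G // IsConj a p.1 ∧ IsConj b p.2 ∧ p.1 * p.2 = c} : ℂ) with hN
  set A := (Nat.card {x : G // IsConj a x} : ℂ) with hA
  set B := (Nat.card {x : G // IsConj b x} : ℂ) with hB
  set Ca := (Nat.card (Subgroup.centralizer ({a} : Set G)) : ℂ) with hCa'
  set Cb := (Nat.card (Subgroup.centralizer ({b} : Set G)) : ℂ) with hCb'
  have h3 : A * B / (Nat.card G : ℂ) * S * (Ca * Cb) = Ca * Cb * Nn := by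
    rw [h1]
    have : A * B * (Ca * Cb) = (Nat.card G : ℂ) * (Nat.card G : ℂ) := by
      calc A * B * (Ca * Cb) = (A * Ca) * (B * Cb) := by ring
        _ = (Nat.card G : ℂ) * (Nat.card G : ℂ) := by rw [ha', hb']
    field_simp
    linear_combination (S) * this
  have h4 : Ca * Cb ≠ 0 := mul_ne_zero hCa hCb
  apply mul_right_cancel₀ h4
  rw [h3]
  ring

end Cfsg.Agent.S0840
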