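import Cfsg.Statements.S0843
import Mathlib
import Cfsg.Agent.Lib.Helper8.BS4

set_option autoImplicit false
open Cfsg

namespace Cfsg.Agent.S0843

/-- Suppose a Sylow 2-subgroup S of the finite group G is generalized quaternion of order at least 16; let D be the commutator subgroup of S and X the set of elements of the centralizer of D whose order is divisible by the order of D. Then D is contained in the cyclic subgroup generated by any element of X; an element of G conjugating some element of X into the centralizer of D normalizes D; and the normalizer of D maps X to itself under conjugation. -/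
theorem result {G : Type*} [Group G] [Finite G] (S : Sylow 2 G) (n : ℕ) (e : (S : Subgroup G) ≃* QuaternionGroup (2 ^ (n + 2))) (D : Subgroup G) (hD : D = ⁅(S : Subgroup G), (S : Subgroup G)⁆) : (∀ y : G, y ∈ Subgroup.centralizer (D : Set G) → Nat.card D ∣ orderOf y → D ≤ Subgroup.zpowers y) ∧ (∀ g y : G, y ∈ Subgroup.centralizer (D : Set G) → Nat.card D ∣ orderOf y → g * y * g⁻¹ ∈ Subgroup.centralizer (D : Set G) → g ∈ Subgroup.normalizer (D : Set G)) ∧ (∀ g y : G, g ∈ Subgroup.normalizer (D : Set G) → y ∈ Subgroup.centralizer (D : Set G) → Nat.card D ∣ orderOf y → g * y * g⁻¹ ∈ Subgroup.centralizer (D : Set G) ∧ Nat.card D ∣ orderOf (g * y * g⁻¹)) := by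
  haveI : NeZero (2 ^ (n + 2)) := ⟨by positivity⟩
  have hm : 2 < 2 ^ (n + 2) := by
    have : 2 ^ 2 ≤ 2 ^ (n + 2) := Nat.pow_le_pow_right (by norm_num) (by omega)
    omega
  have hDG := Cfsg.Agent.Lib.Helper8.BS.DG_eq_commutator (S : Subgroup G) e
  subst hD
  rw [← hDG]
  have hcard : Nat.card (Cfsg.Agent.Lib.Helper8.BS.DG (S : Subgroup G) e) = 2 ^ (n + 2) :=
    Cfsg.Agent.Lib.Helper8.BS.card_DG _ e
  refine ⟨?_, ?_, ?_⟩
  · intro y hy hdvd
    rw [hcard] at hdvd
    exact Cfsg.Agent.Lib.Helper8.BS.DG_le_zpowers S e hm ⟨_, rfl⟩ hy hdvd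
  · intro g y hy hdvd hgy
    rw [hcard] at hdvd
    exact Cfsg.Agent.Lib.Helper8.BS.mem_normalizer_of_conj_mem S e hm ⟨_, rfl⟩ hy hdvd hgy
  · intro g y hg hy hdvd
    refine ⟨Cfsg.Agent.Lib.Helper8.BS.conj_mem_centralizer_of_mem_normalizer _ hg hy, ?_⟩
    have : g * y * g⁻¹ = MulAut.conj g y := by simp
    rw [this, MulEquiv.orderOf_eq]
    exact hdvd

end Cfsg.Agent.S0843
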