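import Cfsg.Statements.S0845
import Mathlib
import Cfsg.Agent.Lib.Helper8.BS7

set_option autoImplicit false
open Cfsg

namespace Cfsg.Agent.S0845

/-- Suppose a Sylow 2-subgroup S of the finite group G is generalized quaternion of order at least 16. Then G has a normal subgroup M of even order such that G / M is non-abelian, that is, M does not contain the commutator subgroup of G. -/
theorem result {G : Type*} [Group G] [Finite G] (S : Sylow 2 G) (n : ℕ) (e : (S : Subgroup G) ≃* QuaternionGroup (2 ^ (n + 2))) : ∃ M : Subgroup G, M.Normal ∧ Even (Nat.card M) ∧ ¬ commutator G ≤ M := by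
  classical
  haveI : Fintype G := Fintype.ofFinite G
  haveI : NeZero (2 ^ (n + 2)) := ⟨by positivity⟩
  have hm : 2 < 2 ^ (n + 2) := by
    have : 2 ^ 2 ≤ 2 ^ (n + 2) := Nat.pow_le_pow_right two_pos (by omega)
    omega
  obtain ⟨χ₁, χ₂, h1, h2, h3, h4, h5, h6, _⟩ :=
    Cfsg.Agent.Lib.Helper8.BS.exists_chars S e hm ⟨n + 2, rfl⟩
  have hS : ∀ s ∈ (S : Subgroup G), ∀ t ∈ (S : Subgroup G), orderOf s = 2 → orderOf t = 2 →
      s = t := by
    intro s hs t ht hs2 ht2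
    rw [Cfsg.Agent.Lib.Helper8.BS.eq_of_orderOf_eq_two (S : Subgroup G) e hs hs2,
      Cfsg.Agent.Lib.Helper8.BS.eq_of_orderOf_eq_two (S : Subgroup G) e ht ht2]
  set z : G := Cfsg.Agent.Lib.Helper8.BS.emb (S : Subgroup G) e
    (QuaternionGroup.a ((2 ^ (n + 2) : ℕ) : ZMod (2 * 2 ^ (n + 2)))) with hzdef
  have hz2 : orderOf z = 2 := Cfsg.Agent.Lib.Helper8.BS.orderOf_emb_a_m (S : Subgroup G) e
  have hconj2 : ∀ x : G, IsConj z x → orderOf x = 2 := by
    intro x hx
    obtain ⟨c, hc⟩ := isConj_iff.mp hx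
    have : c * z * c⁻¹ = MulAut.conj c z := by simp
    rw [← hc, this, MulEquiv.orderOf_eq, hz2]
  have hz4 : ¬ 4 ∣ orderOf z := by rw [hz2]; norm_num
  have hχ2 : χ₂ z = χ₂ 1 :=
    Cfsg.Agent.Lib.Helper8.BS.char_involution_eq_degree h1 h2 h5 h6 z hz4
      (fun x y hx hy => Cfsg.Agent.Lib.Helper8.BS.not_four_dvd_orderOf_mul S hS
        (hconj2 x hx) (hconj2 y hy))
  have hχ1 : χ₁ z = χ₁ 1 := by
    have := h6 z hz4
    rw [h5, ← hχ2]
    linear_combination this
  have hne1 : χ₁ 1 ≠ 1 := by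
    rw [h5]
    intro h
    have h0 : χ₂ 1 = 0 := by linear_combination h
    exact Cfsg.Agent.Lib.Helper6.IsIrrCharacter.apply_one_ne_zero h2 h0
  obtain ⟨M, hMn, hMmem, hMc⟩ :=
    Cfsg.Agent.Lib.Helper8.BS.exists_kernel_not_commutator_le h1 hne1
  refine ⟨M, hMn, ?_, hMc⟩
  have hzM : z ∈ M := (hMmem z).mpr hχ1
  rw [even_iff_two_dvd, ← hz2]
  have h7 : orderOf (⟨z, hzM⟩ : M) = orderOf z := Subgroup.orderOf_mk z hzM
  rw [← h7]
  exact orderOf_dvd_natCard _

end Cfsg.Agent.S0845
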