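import Cfsg.Statements.S0849
import Mathlib
import Cfsg.Agent.Lib.Helper6.IndFun
import Cfsg.Agent.Lib.Helper6.Orthogonality

set_option autoImplicit false
open Cfsg

namespace Cfsg.Agent.S0849

theorem finsum_mem_setOf_eq {α : Type*} [Fintype α] (P : α → Prop) [DecidablePred P] (f : α → ℂ) :
    ∑ᶠ p ∈ {p : α | P p}, f p = ∑ p ∈ Finset.univ.filter P, f p := by
  rw [← finsum_mem_coe_finset]
  congr 1
  ext p
  simp


/-- Let H be a subgroup of a finite group G and S a subset of H that is mapped to itself under conjugation by H, is disjoint from its conjugate by any element outside H, and is closed under inverses. Let φ be a class function of H vanishing on H away from S, and let u, v be involutions of G. Then the sum of the induced function of φ over all products a * b with a conjugate to u and b conjugate to v equals the index of H times the sum of φ (a * b) over such pairs with a and b in H. -/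
theorem result {G : Type*} [Group G] [Fintype G] (H : Subgroup G) (S : Set G) (hSH : S ⊆ H) (hHS : ∀ h ∈ H, ∀ s ∈ S, h * s * h⁻¹ ∈ S) (hTI : ∀ g : G, g ∉ H → ∀ s ∈ S, g * s * g⁻¹ ∉ S) (hinv : ∀ s ∈ S, s⁻¹ ∈ S) (φ : H → ℂ) (hφ : Cfsg.IsClassFunction H φ) (hφS : ∀ x : H, (x : G) ∉ S → φ x = 0) (u v : G) (hu : orderOf u = 2) (hv : orderOf v = 2) : ∑ᶠ p ∈ {p : G × G | IsConj u p.1 ∧ IsConj v p.2}, Cfsg.indFun H φ (p.1 * p.2) = (H.index : ℂ) * ∑ᶠ p ∈ {p : H × H | IsConj u (p.1 : G) ∧ IsConj v (p.2 : G)}, φ (p.1 * p.2) := by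
  classical
  have _ := hHS
  have _ := hφ
  have : Fintype H := Fintype.ofFinite H
  have hHc := Cfsg.Agent.Lib.Helper6.card_ne_zero_complex H
  rw [finsum_mem_setOf_eq, finsum_mem_setOf_eq]
  -- involutions
  have hinvol : ∀ a : G, IsConj u a → a * a = 1 := by
    intro a ha
    obtain ⟨c, hc⟩ := isConj_iff.mp ha
    rw [← hc]
    have hu2 : u * u = 1 := by
      have := pow_orderOf_eq_one u
      rw [hu, sq] at this
      exact this
    calc c * u * c⁻¹ * (c * u * c⁻¹) = c * (u * u) * c⁻¹ := by group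
      _ = 1 := by rw [hu2]; group
  -- key: nonvanishing forces membership in `H`
  have hkey : ∀ a b : G, IsConj u a → IsConj v b → a * b ∈ S → a ∈ H ∧ b ∈ H := by
    intro a b ha hb hab
    have ha2 := hinvol a ha
    have hainv : a⁻¹ = a := inv_eq_of_mul_eq_one_right ha2
    have hbinv : b⁻¹ = b := by
      obtain ⟨c, hc⟩ := isConj_iff.mp hb
      have hv2 : v * v = 1 := by
        have := pow_orderOf_eq_one v
        rw [hv, sq] at this
        exact this
      apply inv_eq_of_mul_eq_one_right
      rw [← hc]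
      calc c * v * c⁻¹ * (c * v * c⁻¹) = c * (v * v) * c⁻¹ := by group
        _ = 1 := by rw [hv2]; group
    have hconj : a * (a * b) * a⁻¹ = (a * b)⁻¹ := by
      rw [mul_inv_rev, hainv, hbinv, ← mul_assoc, ha2, one_mul]
    have haH : a ∈ H := by
      by_contra hna
      apply hTI a hna (a * b) hab
      rw [hconj]
      exact hinv _ hab
    refine ⟨haH, ?_⟩
    have : b = a⁻¹ * (a * b) := by group
    rw [this]
    exact H.mul_mem (H.inv_mem haH) (hSH hab)
  -- step 1: unfold the induced function and swap sums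
  have hreindex : ∀ g : G,
      ∑ p ∈ Finset.univ.filter (fun p : G × G => IsConj u p.1 ∧ IsConj v p.2),
        Cfsg.extendByZero H φ (g⁻¹ * (p.1 * p.2) * g)
      = ∑ p ∈ Finset.univ.filter (fun p : G × G => IsConj u p.1 ∧ IsConj v p.2),
        Cfsg.extendByZero H φ (p.1 * p.2) := by
    intro g
    apply Finset.sum_nbij' (fun p => (g⁻¹ * p.1 * g, g⁻¹ * p.2 * g))
      (fun p => (g * p.1 * g⁻¹, g * p.2 * g⁻¹))
    · intro p hp
      simp only [Finset.mem_filter, Finset.mem_univ, true_and] at hp ⊢
      refine ⟨hp.1.trans ?_, hp.2.trans ?_⟩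
      · exact isConj_iff.mpr ⟨g⁻¹, by simp⟩
      · exact isConj_iff.mpr ⟨g⁻¹, by simp⟩
    · intro p hp
      simp only [Finset.mem_filter, Finset.mem_univ, true_and] at hp ⊢
      refine ⟨hp.1.trans ?_, hp.2.trans ?_⟩
      · exact isConj_iff.mpr ⟨g, rfl⟩
      · exact isConj_iff.mpr ⟨g, rfl⟩
    · intro p _
      apply Prod.ext <;> simp [mul_assoc]
    · intro p _
      apply Prod.ext <;> simp [mul_assoc]
    · intro p _
      congr 1
      simp only
      group
  have hLHS : ∑ p ∈ Finset.univ.filter (fun p : G × G => IsConj u p.1 ∧ IsConj v p.2),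
      Cfsg.indFun H φ (p.1 * p.2)
      = (Nat.card H : ℂ)⁻¹ * ((Nat.card G : ℂ) *
        ∑ p ∈ Finset.univ.filter (fun p : G × G => IsConj u p.1 ∧ IsConj v p.2),
          Cfsg.extendByZero H φ (p.1 * p.2)) := by
    unfold Cfsg.indFun
    rw [← Finset.mul_sum, Finset.sum_comm]
    congr 1
    rw [Finset.sum_congr rfl (fun g _ => hreindex g), Finset.sum_const, Finset.card_univ,
      nsmul_eq_mul, Nat.card_eq_fintype_card]
  -- step 2: restrict to pairs in `H`
  have hRHS : ∑ p ∈ Finset.univ.filter (fun p : G × G => IsConj u p.1 ∧ IsConj v p.2),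
        Cfsg.extendByZero H φ (p.1 * p.2)
      = ∑ q ∈ Finset.univ.filter (fun q : H × H => IsConj u (q.1 : G) ∧ IsConj v (q.2 : G)),
        φ (q.1 * q.2) := by
    symm
    apply Finset.sum_bij_ne_zero (fun q _ _ => ((q.1 : G), (q.2 : G)))
    · intro q hq _
      simp only [Finset.mem_filter, Finset.mem_univ, true_and] at hq ⊢
      exact hq
    · intro q1 _ _ q2 _ _ h
      have h1 := congrArg Prod.fst h
      have h2 := congrArg Prod.snd h
      exact Prod.ext (Subtype.ext h1) (Subtype.ext h2)
    · intro p hp hne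
      simp only [Finset.mem_filter, Finset.mem_univ, true_and] at hp
      have hmem : p.1 * p.2 ∈ H := by
        by_contra hn
        exact hne (Cfsg.Agent.Lib.Helper6.extendByZero_of_not_mem H φ hn)
      have hS : p.1 * p.2 ∈ S := by
        by_contra hn
        apply hne
        rw [Cfsg.Agent.Lib.Helper6.extendByZero_of_mem H φ hmem]
        exact hφS ⟨_, hmem⟩ hn
      obtain ⟨h1, h2⟩ := hkey p.1 p.2 hp.1 hp.2 hS
      refine ⟨(⟨p.1, h1⟩, ⟨p.2, h2⟩), ?_, ?_, rfl⟩
      · simp only [Finset.mem_filter, Finset.mem_univ, true_and]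
        exact hp
      · rw [Cfsg.Agent.Lib.Helper6.extendByZero_of_mem H φ hmem] at hne
        exact hne
    · intro q _ _
      have : ((q.1 : G) * (q.2 : G)) = ((q.1 * q.2 : H) : G) := rfl
      rw [this, Cfsg.Agent.Lib.Helper6.extendByZero_coe]
  rw [hLHS, hRHS, ← mul_assoc]
  congr 1
  have : (Nat.card G : ℂ) = (H.index : ℂ) * (Nat.card H : ℂ) := by
    rw [← Nat.cast_mul, Subgroup.index_mul_card]
  rw [this]
  field_simp


end Cfsg.Agent.S0849
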