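import Cfsg.Statements.S0850
import Mathlib
import Cfsg.Agent.S0149
import Cfsg.Agent.Lib.Helper6.Constituent

set_option autoImplicit false
open Cfsg

namespace Cfsg.Agent.S0850

theorem not_conj_mem {G : Type*} [Group G] [Fintype G] (K : Subgroup G)
    (hTI : ∀ g : G, g ∉ Subgroup.normalizer (K : Set G) → ∀ k ∈ K, g * k * g⁻¹ ∈ K → k = 1)
    (hC : ∀ k ∈ K, k ≠ 1 → Subgroup.centralizer ({k} : Set G) ≤ K) :
    ∀ x ∈ Subgroup.normalizer (K : Set G), x ∉ K → ∀ g : G, g * x * g⁻¹ ∉ K := by
  classical
  intro x hxN hxK g hk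
  have hx1 : x ≠ 1 := fun h => hxK (h ▸ K.one_mem)
  have hgN : g ∉ Subgroup.normalizer (K : Set G) := by
    intro hg
    apply hxK
    have hg' : g⁻¹ ∈ Subgroup.normalizer (K : Set G) := Subgroup.inv_mem _ hg
    have := (Subgroup.mem_normalizer_iff.mp hg' (g * x * g⁻¹)).mp hk
    simpa [mul_assoc] using this
  have hord : orderOf x ≠ 1 := by rwa [Ne, orderOf_eq_one_iff]
  obtain ⟨q, hq, hqd⟩ := Nat.exists_prime_and_dvd hord
  have : Fact q.Prime := ⟨hq⟩
  set d := x ^ (orderOf x / q) with hd
  have hdord : orderOf d = q := orderOf_pow_orderOf_div (orderOf_pos x).ne' hqd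
  have hdN : d ∈ Subgroup.normalizer (K : Set G) := Subgroup.pow_mem _ hxN _
  have hd1 : d ≠ 1 := by
    intro h
    rw [h, orderOf_one] at hdord
    exact hq.ne_one hdord.symm
  have hgd : g * d * g⁻¹ ∈ K := by
    have : g * d * g⁻¹ = (g * x * g⁻¹) ^ (orderOf x / q) := by rw [hd, conj_pow]
    rw [this]
    exact K.pow_mem hk _
  have hdK : d ∉ K := fun h => hd1 (hTI g hgN d h hgd)
  have hqK : q ∣ Nat.card K := by
    have h1 : orderOf (g * d * g⁻¹) = q := by
      rw [← hdord]
      have hs : SemiconjBy g d (g * d * g⁻¹) := by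
        unfold SemiconjBy
        group
      exact (SemiconjBy.orderOf_eq g hs).symm
    have := Subgroup.orderOf_dvd_natCard K hgd
    rwa [h1] at this
  -- the action of `zpowers d` on `K`
  have hzN : Subgroup.zpowers d ≤ Subgroup.normalizer (K : Set G) := Subgroup.zpowers_le.mpr hdN
  let act : Subgroup.zpowers d → K → K := fun z k =>
    ⟨(z : G) * (k : G) * (z : G)⁻¹, (Subgroup.mem_normalizer_iff.mp (hzN z.2) k).mp k.2⟩
  let _ : MulAction (Subgroup.zpowers d) K :=
    { smul := act
      one_smul := by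
        intro k
        apply Subtype.ext
        change ((1 : Subgroup.zpowers d) : G) * (k : G) * ((1 : Subgroup.zpowers d) : G)⁻¹ = (k : G)
        simp
      mul_smul := by
        intro a b k
        apply Subtype.ext
        change ((a * b : Subgroup.zpowers d) : G) * (k : G) * ((a * b : Subgroup.zpowers d) : G)⁻¹
          = (a : G) * ((b : G) * (k : G) * (b : G)⁻¹) * (a : G)⁻¹
        simp [mul_assoc] }
  have hP : IsPGroup q (Subgroup.zpowers d) := by
    apply IsPGroup.of_card (n := 1)
    rw [Nat.card_zpowers, hdord, pow_one]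
  have hmod := hP.card_modEq_card_fixedPoints K
  have hfix : MulAction.fixedPoints (Subgroup.zpowers d) K = {1} := by
    ext k
    simp only [MulAction.mem_fixedPoints, Set.mem_singleton_iff]
    constructor
    · intro h
      by_contra hk1
      apply hdK
      have hk1' : (k : G) ≠ 1 := fun h0 => hk1 (Subtype.ext h0)
      apply hC k k.2 hk1'
      rw [Subgroup.mem_centralizer_iff]
      intro y hy
      rw [Set.mem_singleton_iff] at hy
      subst hy
      have h2 := h ⟨d, Subgroup.mem_zpowers d⟩
      have h3 : d * (k : G) * d⁻¹ = (k : G) := congrArg (fun y : K => (y : G)) h2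
      calc (k : G) * d = (d * (k : G) * d⁻¹) * d := by rw [h3]
        _ = d * (k : G) := by group
    · intro h z
      rw [h]
      apply Subtype.ext
      change (z : G) * ((1 : K) : G) * (z : G)⁻¹ = ((1 : K) : G)
      simp
  rw [hfix] at hmod
  have h1 : Nat.card ({1} : Set K) = 1 := by simp
  rw [h1] at hmod
  have h0 : Nat.card K ≡ 0 [MOD q] := (Nat.modEq_zero_iff_dvd).mpr hqK
  have h2 : 1 ≡ 0 [MOD q] := hmod.symm.trans h0
  have h3 : q ∣ 1 := (Nat.modEq_zero_iff_dvd).mp h2
  exact hq.one_lt.ne' (Nat.dvd_one.mp h3)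

/-- Let K be a subgroup of the finite group G that meets each conjugate by an element outside its normalizer N trivially, is properly contained in N, and contains the centralizer of each of its non-identity elements (a T.I. subgroup with Frobenius normalizer). Then no element of N outside K is conjugate in G to an element of K, and for every class function ϑ of N that vanishes on N away from K and at the identity, the function induced from ϑ to G agrees with ϑ on all of N. -/
theorem result {G : Type*} [Group G] [Fintype G] (K : Subgroup G) (hTI : ∀ g : G, g ∉ Subgroup.normalizer (K : Set G) → ∀ k ∈ K, g * k * g⁻¹ ∈ K → k = 1) (hlt : K < Subgroup.normalizer (K : Set G)) (hC : ∀ k ∈ K, k ≠ 1 → Subgroup.centralizer ({k} : Set G) ≤ K) : (∀ x ∈ Subgroup.normalizer (K : Set G), x ∉ K → ∀ g : G, g * x * g⁻¹ ∉ K) ∧ ∀ (ϑ : Subgroup.normalizer (K : Set G) → ℂ), Cfsg.IsClassFunction (Subgroup.normalizer (K : Set G)) ϑ → (∀ x : Subgroup.normalizer (K : Set G), (x : G) ∉ K → ϑ x = 0) → ϑ 1 = 0 → ∀ x : Subgroup.normalizer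 (K : Set G), Cfsg.indFun (Subgroup.normalizer (K : Set G)) ϑ x = ϑ x := by
  classical
  have _ := hlt
  have h1 := not_conj_mem K hTI hC
  refine ⟨h1, ?_⟩
  intro ϑ hϑ hϑK hϑ1 x
  by_cases hxK : (x : G) ∈ K
  · by_cases hx1 : x = 1
    · rw [hx1, hϑ1]
      have : ((1 : Subgroup.normalizer (K : Set G)) : G) = 1 := rfl
      rw [this, Cfsg.Agent.Lib.Helper6.indFun_one, hϑ1, mul_zero]
    · exact Cfsg.Agent.S0149.result (K : Set G) hTI (fun k hk => Subgroup.le_normalizer hk) ϑ hϑ hϑK x hxK hx1
  · rw [hϑK x hxK]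
    unfold Cfsg.indFun
    have hz : ∀ g : G, Cfsg.extendByZero (Subgroup.normalizer (K : Set G)) ϑ (g⁻¹ * (x : G) * g) = 0 := by
      intro g
      by_cases hm : g⁻¹ * (x : G) * g ∈ Subgroup.normalizer (K : Set G)
      · rw [Cfsg.Agent.Lib.Helper6.extendByZero_of_mem _ _ hm]
        apply hϑK
        have := h1 x x.2 hxK g⁻¹
        rwa [inv_inv] at this
      · exact Cfsg.Agent.Lib.Helper6.extendByZero_of_not_mem _ _ hm
    simp [hz]


end Cfsg.Agent.S0850
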