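import Cfsg.Statements.S0855
import Mathlib
import Cfsg.Agent.S4456
import Cfsg.Agent.S0187
import Cfsg.Agent.Lib.Helper6.Ito
import Cfsg.Agent.Lib.Helper6.CliffordDeg
import Cfsg.Agent.Lib.Helper6.BlkCover3
-- import your own Cfsg.Agent.* helpers here

set_option autoImplicit false
open Cfsg

namespace Cfsg.Agent.S0855

open Cfsg.Agent.Lib.Helper6


theorem result' {G : Type*} [Group G] [Finite G] (p : ℕ) (hp : p.Prime) : (∀ χ : Cfsg.IrrCharacter G, ∃ k : ℕ, (χ : G → ℂ) 1 = (p : ℂ) ^ k) ↔ ∃ A : Subgroup G, A.Normal ∧ (∀ a ∈ A, ∀ b ∈ A, a * b = b * a) ∧ Nat.Coprime (Nat.card A) p ∧ ∃ k : ℕ, A.index = p ^ k := by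
  classical
  have : Fintype G := Fintype.ofFinite G
  have hdegpow : ∀ χ : Cfsg.IrrCharacter G, (∃ k : ℕ, (χ : G → ℂ) 1 = (p : ℂ) ^ k) →
      ∃ k : ℕ, Cfsg.charDegree (χ : G → ℂ) = p ^ k := by
    rintro χ ⟨k, hk⟩
    refine ⟨k, ?_⟩
    rw [IsCharacter.apply_one_eq_charDegree (IsIrrCharacter.isCharacter χ.2)] at hk
    exact_mod_cast hk
  constructor
  · intro h
    have hdeg : ∀ χ : Cfsg.IrrCharacter G, Cfsg.charDegree (χ : G → ℂ) ≠ 1 →
        p ∣ Cfsg.charDegree (χ : G → ℂ) := by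
      intro χ hne
      obtain ⟨k, hk⟩ := hdegpow χ (h χ)
      rw [hk] at hne ⊢
      rcases Nat.eq_zero_or_pos k with h0 | h0
      · subst h0; simp at hne
      · exact dvd_pow_self p h0.ne'
    obtain ⟨N, hNn, hNcop, k, hk⟩ := Cfsg.Agent.S4456.result p hp hdeg
    refine ⟨N, hNn, ?_, hNcop, k, hk⟩
    have : Fintype N := Fintype.ofFinite N
    have hab : ∀ a b : N, a * b = b * a := by
      rw [Cfsg.Agent.S0187.result]
      intro θ
      obtain ⟨χ, hχ⟩ := exists_irr_over N θ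
      have h1 := charDegree_dvd_of_constituent N hNn χ θ hχ
      have h2 := IsIrrCharacter.charDegree_dvd_card θ.2
      obtain ⟨j, hj⟩ := hdegpow χ (h χ)
      rw [hj] at h1
      have h3 : Cfsg.charDegree (θ : N → ℂ) ∣ Nat.gcd (p ^ j) (Nat.card N) := Nat.dvd_gcd h1 h2
      have h4 : Nat.gcd (p ^ j) (Nat.card N) = 1 :=
        Nat.Coprime.pow_left j hNcop.symm
      rw [h4] at h3
      rw [IsCharacter.apply_one_eq_charDegree (IsIrrCharacter.isCharacter θ.2),
        Nat.dvd_one.mp h3, Nat.cast_one]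
    intro a ha b hb
    have := hab ⟨a, ha⟩ ⟨b, hb⟩
    exact congrArg Subtype.val this
  · rintro ⟨A, hAn, hAab, hAcop, k, hk⟩ χ
    obtain ⟨d, hd, hdvd⟩ := ito_aux (Nat.card G) G rfl A hAn hAab (χ : G → ℂ) χ.2
    rw [hk] at hdvd
    obtain ⟨j, _, hj⟩ := (Nat.dvd_prime_pow hp).mp hdvd
    refine ⟨j, ?_⟩
    rw [hd, hj]
    push_cast
    rfl





/-- For a finite group G and a prime p: every irreducible character of G has degree a power of p if and only if G has an abelian normal subgroup whose order is prime to p and whose index is a power of p. -/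
theorem result {G : Type*} [Group G] [Finite G] (p : ℕ) (hp : p.Prime) : (∀ χ : Cfsg.IrrCharacter G, ∃ k : ℕ, (χ : G → ℂ) 1 = (p : ℂ) ^ k) ↔ ∃ A : Subgroup G, A.Normal ∧ (∀ a ∈ A, ∀ b ∈ A, a * b = b * a) ∧ Nat.Coprime (Nat.card A) p ∧ ∃ k : ℕ, A.index = p ^ k := by
  exact result' p hp

end Cfsg.Agent.S0855
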