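import Cfsg.Statements.S0860
import Cfsg.Agent.Lib.Helper6.PermCount

set_option autoImplicit false
open Cfsg

namespace Cfsg.Agent.S0860

/-- Let a group A act on the set of irreducible characters and on the set of conjugacy classes of a finite group G in such a way that (a • χ) evaluated on the class a • C equals χ evaluated on C, for all a, χ and C. Then every element of A fixes exactly as many irreducible characters as it fixes conjugacy classes. -/
theorem result {G : Type*} [Group G] [Finite G] {A : Type*} [Group A] [MulAction A (Cfsg.IrrCharacter G)] [MulAction A (ConjClasses G)] (hcompat : ∀ (a : A) (χ : Cfsg.IrrCharacter G) (g g' : G), ConjClasses.mk g' = a • ConjClasses.mk g → ((a • χ : Cfsg.IrrCharacter G) : G → ℂ) g' = (χ : G → ℂ) g) (a : A) : Nat.card {χ : Cfsg.IrrCharacter G // a • χ = χ} = Nat.card {C : ConjClasses G // a • C = C} := by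
  classical
  have : Fintype G := Fintype.ofFinite G
  have : Fintype (Cfsg.IrrCharacter G) := Fintype.ofFinite _
  have : Fintype (ConjClasses G) := Fintype.ofFinite _
  have hG := Cfsg.Agent.Lib.Helper6.card_ne_zero_complex G
  let F : G → ℂ := fun g => ∑ χ : Cfsg.IrrCharacter G,
    ((a • χ : Cfsg.IrrCharacter G) : G → ℂ) g * (starRingEnd ℂ) ((χ : G → ℂ) g)
  have hF : Cfsg.IsClassFunction G F := by
    intro g h
    simp only [F]
    apply Finset.sum_congr rfl
    intro χ _
    rw [Cfsg.Agent.Lib.Helper6.IsIrrCharacter.isClassFunction χ.2 g h,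
      Cfsg.Agent.Lib.Helper6.IsIrrCharacter.isClassFunction (a • χ).2 g h]
  have hT1 : ∑ g : G, F g = (Nat.card G : ℂ) *
      (Nat.card {χ : Cfsg.IrrCharacter G // a • χ = χ} : ℂ) := by
    simp only [F]
    rw [Finset.sum_comm]
    have h1 : ∀ χ : Cfsg.IrrCharacter G,
        ∑ g : G, ((a • χ : Cfsg.IrrCharacter G) : G → ℂ) g * (starRingEnd ℂ) ((χ : G → ℂ) g)
          = (Nat.card G : ℂ) * (if a • χ = χ then 1 else 0) := by
      intro χ
      have h2 := Cfsg.Agent.Lib.Helper6.classInner_irrCharacter (a • χ) χ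
      unfold Cfsg.classInner at h2
      rw [← h2]
      field_simp
    rw [Finset.sum_congr rfl (fun χ _ => h1 χ), ← Finset.mul_sum]
    congr 1
    rw [Finset.sum_boole, Nat.card_eq_fintype_card, Fintype.card_subtype]
  have hT2 : ∑ g : G, F g = (Nat.card G : ℂ) *
      (Nat.card {C : ConjClasses G // a⁻¹ • C = C} : ℂ) := by
    rw [Cfsg.Agent.Lib.Helper6.sum_eq_sum_conjClasses F hF]
    have h1 : ∀ c : ConjClasses G,
        ((Subgroup.centralizer ({Quotient.out c} : Set G)).index : ℂ) * F (Quotient.out c)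
          = (Nat.card G : ℂ) * (if a⁻¹ • c = c then 1 else 0) := by
      intro c
      have hcompat' : ∀ χ : Cfsg.IrrCharacter G,
          ((a • χ : Cfsg.IrrCharacter G) : G → ℂ) (Quotient.out c)
            = (χ : G → ℂ) (Quotient.out (a⁻¹ • c)) := by
        intro χ
        apply hcompat
        have h3 : ConjClasses.mk (Quotient.out c) = c := Quotient.out_eq c
        have h4 : ConjClasses.mk (Quotient.out (a⁻¹ • c)) = a⁻¹ • c := Quotient.out_eq _
        rw [h3, h4, smul_inv_smul]
      simp only [F, hcompat']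
      have h2 := Cfsg.Agent.Lib.Helper6.sum_irr_mul_conj (Quotient.out (a⁻¹ • c)) (Quotient.out c)
      have hiff : IsConj (Quotient.out (a⁻¹ • c)) (Quotient.out c) ↔ a⁻¹ • c = c := by
        rw [← ConjClasses.mk_eq_mk_iff_isConj]
        have h3 : ConjClasses.mk (Quotient.out c) = c := Quotient.out_eq c
        have h4 : ConjClasses.mk (Quotient.out (a⁻¹ • c)) = a⁻¹ • c := Quotient.out_eq _
        rw [h3, h4]
      by_cases h5 : a⁻¹ • c = c
      · rw [if_pos h5, h2.1 (hiff.mpr h5), mul_one, h5, ← Nat.cast_mul, Subgroup.index_mul_card]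
      · rw [if_neg h5, h2.2 (fun h => h5 (hiff.mp h)), mul_zero, mul_zero]
    rw [Finset.sum_congr rfl (fun c _ => h1 c), ← Finset.mul_sum]
    congr 1
    rw [Finset.sum_boole, Nat.card_eq_fintype_card, Fintype.card_subtype]
  have hkey : (Nat.card {χ : Cfsg.IrrCharacter G // a • χ = χ} : ℂ)
      = (Nat.card {C : ConjClasses G // a⁻¹ • C = C} : ℂ) :=
    mul_left_cancel₀ hG (hT1.symm.trans hT2)
  have hkey' : Nat.card {χ : Cfsg.IrrCharacter G // a • χ = χ}
      = Nat.card {C : ConjClasses G // a⁻¹ • C = C} := by exact_mod_cast hkey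
  rw [hkey']
  apply Nat.card_congr
  apply Equiv.subtypeEquivRight
  intro C
  constructor
  · intro h
    rw [← h, smul_inv_smul, h]
  · intro h
    rw [← h, inv_smul_smul, h]

end Cfsg.Agent.S0860
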