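import Cfsg.Statements.S0861
import Mathlib
import Cfsg.Agent.Lib.Helper3.ClassBound
import Cfsg.Agent.Lib.Helper6.BlkHeightZero
import Cfsg.Agent.Lib.Helper6.BlkVanish
import Cfsg.Agent.Lib.Helper6.Ito
import Cfsg.Agent.S0187
-- import your own Cfsg.Agent.* helpers here

set_option autoImplicit false
open Cfsg

namespace Cfsg.Agent.S0861

open Cfsg.Agent.Lib.Helper6


/-- a character of degree prime to `p` does not vanish on `p`-elements -/
theorem apply_ne_zero_of_pElement {G : Type*} [Group G] [Fintype G] (p : ℕ) [hp : Fact p.Prime]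
    {χ : G → ℂ} (hχ : Cfsg.IsCharacter G χ) (hdeg : ¬ p ∣ Cfsg.charDegree χ) {u : G} {k : ℕ}
    (hu : u ^ (p ^ k) = 1) : χ u ≠ 0 := by
  classical
  obtain ⟨M, hM⟩ := exists_isPModular p
  intro h0
  have h1 := IsCharacter.apply_mul_sub_memLocalIdeal hM hχ (Commute.one_right u) hu
  rw [mul_one, h0, zero_sub, IsCharacter.apply_one_eq_charDegree hχ] at h1
  have h2 := MemLocalIdeal.neg h1
  rw [neg_neg] at h2
  exact hdeg ((memLocalIdeal_natCast_iff hM _).mp h2)


theorem result' {G : Type*} [Group G] [Finite G] (p : ℕ) [Fact p.Prime] (P : Sylow p G) [(P : Subgroup G).Normal] (hab : ∀ a ∈ P, ∀ b ∈ P, a * b = b * a) (g : G) (hg : g ∈ P) (hC : Subgroup.centralizer ({g} : Set G) = P) : Nat.card (Cfsg.IrrCharacter G) ≤ Nat.card P ∧ (Nat.card (Cfsg.IrrCharacter G) = Nat.card P → commutator G ≤ P) := by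
  classical
  have : Fintype G := Fintype.ofFinite G
  have hPn : (P : Subgroup G).Normal := inferInstance
  have hpidx : ¬ p ∣ (P : Subgroup G).index := Sylow.not_dvd_index P
  obtain ⟨k, hk⟩ := P.2 ⟨g, hg⟩
  have hgk : g ^ (p ^ k) = 1 := by
    have := congrArg Subtype.val hk
    simpa using this
  have h0 : ∀ χ : Cfsg.IrrCharacter G, (χ : G → ℂ) g ≠ 0 := by
    intro χ
    obtain ⟨d, hd, hdvd⟩ := ito_aux (Nat.card G) G rfl (P : Subgroup G) hPn hab (χ : G → ℂ) χ.2
    have hchar := IsIrrCharacter.isCharacter χ.2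
    have hdeg : Cfsg.charDegree (χ : G → ℂ) = d := by
      rw [IsCharacter.apply_one_eq_charDegree hchar] at hd
      exact_mod_cast hd
    apply apply_ne_zero_of_pElement p hchar _ hgk
    rw [hdeg]
    intro hpd
    exact hpidx (dvd_trans hpd hdvd)
  obtain ⟨hle, heq⟩ := Cfsg.Agent.Lib.Helper3.ClassBound.card_irr_le_card_centralizer g h0
  rw [hC] at hle heq
  refine ⟨hle, ?_⟩
  intro hcard
  have hall := heq hcard
  have hlin : ∀ β : Cfsg.IrrCharacter (G ⧸ (P : Subgroup G)), (β : G ⧸ (P : Subgroup G) → ℂ) 1 = 1 := by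
    intro β
    have hχ : Cfsg.IsIrrCharacter G (fun x => (β : G ⧸ (P : Subgroup G) → ℂ) (QuotientGroup.mk x)) :=
      IsIrrCharacter.comp_mk (P : Subgroup G) β.2
    have h1 := hall ⟨_, hχ⟩
    have h2 : ∀ k : (ZMod (Nat.card G))ˣ,
        ‖(β : G ⧸ (P : Subgroup G) → ℂ) (QuotientGroup.mk (g ^ (k : ZMod (Nat.card G)).val))‖ ^ 2
          = ‖(β : G ⧸ (P : Subgroup G) → ℂ) 1‖ ^ 2 := by
      intro k
      have : (QuotientGroup.mk (g ^ (k : ZMod (Nat.card G)).val) : G ⧸ (P : Subgroup G)) = 1 := by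
        rw [QuotientGroup.eq_one_iff]
        exact Subgroup.pow_mem _ hg _
      rw [this]
    change ∑ k : (ZMod (Nat.card G))ˣ,
      ‖(β : G ⧸ (P : Subgroup G) → ℂ) (QuotientGroup.mk (g ^ (k : ZMod (Nat.card G)).val))‖ ^ 2
        = _ at h1
    rw [Finset.sum_congr rfl (fun k _ => h2 k), Finset.sum_const, Finset.card_univ,
      nsmul_eq_mul] at h1
    have : NeZero (Nat.card G) := ⟨Nat.card_pos.ne'⟩
    have hUpos : (0 : ℝ) < Fintype.card (ZMod (Nat.card G))ˣ := by
      have : 0 < Fintype.card (ZMod (Nat.card G))ˣ := Fintype.card_pos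
      exact_mod_cast this
    have h3 : ‖(β : G ⧸ (P : Subgroup G) → ℂ) 1‖ ^ 2 = 1 := by
      have h4 : (Fintype.card (ZMod (Nat.card G))ˣ : ℝ) * ‖(β : G ⧸ (P : Subgroup G) → ℂ) 1‖ ^ 2
          = (Fintype.card (ZMod (Nat.card G))ˣ : ℝ) * 1 := by rw [mul_one]; exact h1
      exact mul_left_cancel₀ hUpos.ne' h4
    rw [IsCharacter.apply_one_eq_charDegree (IsIrrCharacter.isCharacter β.2)] at h3 ⊢
    rw [Complex.norm_natCast] at h3
    have h5 : (Cfsg.charDegree (β : G ⧸ (P : Subgroup G) → ℂ)) ^ 2 = 1 := by exact_mod_cast h3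
    have h6 : Cfsg.charDegree (β : G ⧸ (P : Subgroup G) → ℂ) = 1 := by
      rcases Nat.eq_zero_or_pos (Cfsg.charDegree (β : G ⧸ (P : Subgroup G) → ℂ)) with h | h
      · rw [h] at h5; simp at h5
      · nlinarith
    rw [h6, Nat.cast_one]
  have hcomm := (Cfsg.Agent.S0187.result (G := G ⧸ (P : Subgroup G))).2 hlin
  rw [commutator_def, Subgroup.commutator_le]
  intro a _ b _
  rw [← QuotientGroup.eq_one_iff]
  rw [commutatorElement_def]
  simp only [QuotientGroup.mk_mul, QuotientGroup.mk_inv]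
  rw [hcomm (QuotientGroup.mk a) (QuotientGroup.mk b)]
  group





/-- Let P be a normal abelian Sylow p-subgroup of the finite group G and suppose some element g of P has centralizer exactly P. Then the number of irreducible characters of G is at most the order of P, and if equality holds then G / P is abelian (the commutator subgroup lies in P). -/
theorem result {G : Type*} [Group G] [Finite G] (p : ℕ) [Fact p.Prime] (P : Sylow p G) [(P : Subgroup G).Normal] (hab : ∀ a ∈ P, ∀ b ∈ P, a * b = b * a) (g : G) (hg : g ∈ P) (hC : Subgroup.centralizer ({g} : Set G) = P) : Nat.card (Cfsg.IrrCharacter G) ≤ Nat.card P ∧ (Nat.card (Cfsg.IrrCharacter G) = Nat.card P → commutator G ≤ P) := by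
  exact result' p P hab g hg hC

end Cfsg.Agent.S0861
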