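import Cfsg.Statements.S0875
import Mathlib
import Cfsg.Agent.Lib.Helper6.AlgIntComb
import Cfsg.Agent.Lib.Helper6.ClassFun

set_option autoImplicit false
open Cfsg

namespace Cfsg.Agent.S0875

open Cfsg.Agent.Lib.Helper6

/-- Let G be a finite group of order m * n with m and n coprime, and g an element whose order is coprime to m. Every x in G factors uniquely as x = u * v with u, v commuting, the order of u coprime to n and the order of v coprime to m; let ϑ be the function on G equal to n at those x whose factor v is conjugate to g and equal to 0 elsewhere. Then ϑ is a linear combination of the irreducible characters of G with algebraic-integer coefficients. -/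
theorem result {G : Type*} [Group G] [Fintype G] (m n : ℕ) (hmn : Nat.card G = m * n) (hcop : Nat.Coprime m n) (g : G) (hg : Nat.Coprime (orderOf g) m) (ϑ : G → ℂ) (hϑ1 : ∀ x : G, (∃ v : G, IsConj v g ∧ (∃ u : G, x = u * v ∧ Commute u v ∧ Nat.Coprime (orderOf u) n ∧ Nat.Coprime (orderOf v) m)) → ϑ x = n) (hϑ0 : ∀ x : G, (¬ ∃ v : G, IsConj v g ∧ (∃ u : G, x = u * v ∧ Commute u v ∧ Nat.Coprime (orderOf u) n ∧ Nat.Coprime (orderOf v) m)) → ϑ x = 0) : ∃ c : Cfsg.IrrCharacter G → ℂ, (∀ χ, c χ ∈ Cfsg.AlgInt) ∧ ϑ = ∑ᶠ χ : Cfsg.IrrCharacter G, c χ • (χ : G → ℂ) := by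
  classical
  haveI : Fintype (Cfsg.IrrCharacter G) := Fintype.ofFinite _
  have hG0 : Nat.card G ≠ 0 := Nat.card_pos.ne'
  have hm0 : m ≠ 0 := by
    intro h; rw [h, zero_mul] at hmn; exact hG0 hmn
  have hn0 : n ≠ 0 := by
    intro h; rw [h, mul_zero] at hmn; exact hG0 hmn
  -- the exponents
  obtain ⟨k, hkm, hkn⟩ : ∃ k : ℕ, k ≡ 0 [MOD m] ∧ k ≡ 1 [MOD n] :=
    ⟨(Nat.chineseRemainder hcop 0 1 : ℕ), (Nat.chineseRemainder hcop 0 1).2.1,
      (Nat.chineseRemainder hcop 0 1).2.2⟩
  obtain ⟨k', hkm', hkn'⟩ : ∃ k' : ℕ, k' ≡ 1 [MOD m] ∧ k' ≡ 0 [MOD n] :=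
    ⟨(Nat.chineseRemainder hcop 1 0 : ℕ), (Nat.chineseRemainder hcop 1 0).2.1,
      (Nat.chineseRemainder hcop 1 0).2.2⟩
  have hord : ∀ x : G, orderOf x ∣ m * n := by
    intro x; rw [← hmn]; exact orderOf_dvd_natCard x
  -- the description of `ϑ`
  have hiff : ∀ x : G, (∃ v : G, IsConj v g ∧ (∃ u : G, x = u * v ∧ Commute u v ∧
      Nat.Coprime (orderOf u) n ∧ Nat.Coprime (orderOf v) m)) ↔ IsConj (x ^ k) g := by
    intro x
    constructor
    · rintro ⟨v, hv, u, rfl, huv, hu, hv'⟩
      have h1 : orderOf u ∣ m := hu.dvd_of_dvd_mul_right (hord u)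
      have h2 : orderOf v ∣ n := hv'.dvd_of_dvd_mul_left (hord v)
      have h3 : u ^ k = 1 :=
        orderOf_dvd_iff_pow_eq_one.mp (h1.trans ((Nat.modEq_zero_iff_dvd).mp hkm))
      have h4 : v ^ k = v := by
        have := (pow_eq_pow_iff_modEq (x := v)).mpr (hkn.of_dvd h2)
        rwa [pow_one] at this
      rw [huv.mul_pow, h3, h4, one_mul]
      exact hv
    · intro hx
      refine ⟨x ^ k, hx, x ^ k', ?_, ?_, ?_, ?_⟩
      · rw [← pow_add]
        have h5 : k' + k ≡ 1 [MOD m * n] := by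
          rw [← Nat.modEq_and_modEq_iff_modEq_mul hcop]
          constructor
          · have := hkm'.add hkm
            simpa using this
          · have := hkn'.add hkn
            simpa using this
        have := (pow_eq_pow_iff_modEq (x := x)).mpr (h5.of_dvd (hord x))
        rw [pow_one] at this
        exact this.symm
      · exact (Commute.refl x).pow_pow k' k
      · have h6 : (x ^ k') ^ m = 1 := by
          rw [← pow_mul]
          apply orderOf_dvd_iff_pow_eq_one.mp
          apply (hord x).trans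
          have h7 : n ∣ k' := (Nat.modEq_zero_iff_dvd).mp hkn'
          rw [mul_comm m n]
          exact Nat.mul_dvd_mul h7 dvd_rfl
        exact Nat.Coprime.coprime_dvd_left (orderOf_dvd_of_pow_eq_one h6) hcop
      · have h6 : (x ^ k) ^ n = 1 := by
          rw [← pow_mul]
          apply orderOf_dvd_iff_pow_eq_one.mp
          apply (hord x).trans
          have h7 : m ∣ k := (Nat.modEq_zero_iff_dvd).mp hkm
          exact Nat.mul_dvd_mul h7 dvd_rfl
        exact Nat.Coprime.coprime_dvd_left (orderOf_dvd_of_pow_eq_one h6) hcop.symm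
  have hϑ : ϑ = fun x : G => if IsConj (x ^ k) g then (n : ℂ) else 0 := by
    funext x
    by_cases hx : IsConj (x ^ k) g
    · rw [if_pos hx]
      exact hϑ1 x ((hiff x).mpr hx)
    · rw [if_neg hx]
      exact hϑ0 x (fun h => hx ((hiff x).mp h))
  have hcf : Cfsg.IsClassFunction G ϑ := by
    rw [hϑ]
    intro x h
    have h1 : (h * x * h⁻¹) ^ k = h * x ^ k * h⁻¹ := by rw [conj_pow]
    simp only [h1]
    have h2 : IsConj (h * x ^ k * h⁻¹) g ↔ IsConj (x ^ k) g := by
      have h3 : IsConj (x ^ k) (h * x ^ k * h⁻¹) := isConj_iff.mpr ⟨h, rfl⟩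
      exact ⟨fun h4 => h3.trans h4, fun h4 => h3.symm.trans h4⟩
    simp only [h2]
  refine ⟨fun χ => Cfsg.classInner ϑ (χ : G → ℂ), ?_, ?_⟩
  · intro χ
    show IsIntegral ℤ (Cfsg.classInner ϑ (χ : G → ℂ))
    rw [hϑ]
    have := isIntegral_classInner_section m n hmn hcop g k hkm hkn
      (IsIrrCharacter.isCharacter χ.2)
    convert this using 3
  · rw [finsum_eq_sum_of_fintype]
    exact classFunction_eq_sum ϑ hcf


end Cfsg.Agent.S0875
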