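import Cfsg.Statements.S0876
import Mathlib
import Cfsg.Agent.S0875
import Cfsg.Agent.Lib.Helper6.BlkHeightZero
import Cfsg.Agent.Lib.Helper6.BlkSecond2
import Cfsg.Agent.Lib.Helper6.BlkLocal

set_option autoImplicit false
open Cfsg

namespace Cfsg.Agent.S0876

open Cfsg.Agent.Lib.Helper6

/-- Let G be a finite group, p a prime and M a maximal ideal of the ring of algebraic integers containing p. Let x, y be elements with p-parts a and b (so a⁻¹ * x and b⁻¹ * y are their p-regular parts). Then a⁻¹ * x and b⁻¹ * y are conjugate in G if and only if, for every irreducible character χ, the difference χ x - χ y lies in the local ideal at M. -/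
theorem result {G : Type*} [Group G] [Finite G] (p : ℕ) (M : Ideal Cfsg.AlgInt) (hM : Cfsg.IsPModular p M) (x y a b : G) (ha : Cfsg.IsPPart p x a) (hb : Cfsg.IsPPart p y b) : IsConj (a⁻¹ * x) (b⁻¹ * y) ↔ ∀ χ : Cfsg.IrrCharacter G, Cfsg.MemLocalIdeal M ((χ : G → ℂ) x - (χ : G → ℂ) y) := by
  classical
  haveI : Fintype G := Fintype.ofFinite G
  haveI : Fintype (Cfsg.IrrCharacter G) := Fintype.ofFinite _
  have hp : p.Prime := hM.1
  haveI : Fact p.Prime := ⟨hp⟩
  have hG0 : Nat.card G ≠ 0 := Nat.card_pos.ne'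
  obtain ⟨y₁, hx1, hc1, ⟨k1, hk1⟩, hr1⟩ := ha
  obtain ⟨y₂, hx2, hc2, ⟨k2, hk2⟩, hr2⟩ := hb
  have e1 : a⁻¹ * x = y₁ := by rw [← hx1]; group
  have e2 : b⁻¹ * y = y₂ := by rw [← hx2]; group
  rw [e1, e2]
  have hapow : a ^ (p ^ k1) = 1 := by rw [← hk1]; exact pow_orderOf_eq_one a
  have hbpow : b ^ (p ^ k2) = 1 := by rw [← hk2]; exact pow_orderOf_eq_one b
  constructor
  · intro hconj χ
    have hχ := IsIrrCharacter.isCharacter χ.2
    have h1 := IsCharacter.apply_mul_sub_memLocalIdeal hM hχ hc1 hapow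
    have h2 := IsCharacter.apply_mul_sub_memLocalIdeal hM hχ hc2 hbpow
    rw [hx1] at h1
    rw [hx2] at h2
    have h3 : (χ : G → ℂ) y₁ = (χ : G → ℂ) y₂ := by
      obtain ⟨c, hc⟩ := isConj_iff.mp hconj
      rw [← hc]
      exact (IsCharacter.isClassFunction hχ y₁ c).symm
    have h4 : (χ : G → ℂ) x - (χ : G → ℂ) y
        = ((χ : G → ℂ) x - (χ : G → ℂ) y₁) - ((χ : G → ℂ) y - (χ : G → ℂ) y₂) := by
      rw [h3]; ring
    rw [h4]
    exact MemLocalIdeal.sub hM h1 h2
  · intro hall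
    obtain ⟨m, hm⟩ : ∃ m : ℕ, m = p ^ (Nat.card G).factorization p := ⟨_, rfl⟩
    obtain ⟨n, hn⟩ : ∃ n : ℕ, n = Nat.card G / p ^ (Nat.card G).factorization p := ⟨_, rfl⟩
    have hmn : Nat.card G = m * n := by
      rw [hm, hn]; exact (Nat.ordProj_mul_ordCompl_eq_self (Nat.card G) p).symm
    have hpn : ¬ p ∣ n := by
      rw [hn]; exact Nat.not_dvd_ordCompl hp hG0
    have hcop : Nat.Coprime m n := by
      rw [hm]
      exact Nat.Coprime.pow_left _ ((Nat.Prime.coprime_iff_not_dvd hp).mpr hpn)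
    have hcopm : ∀ z : G, ¬ p ∣ orderOf z → Nat.Coprime (orderOf z) m := by
      intro z hz
      rw [hm]
      exact Nat.Coprime.pow_right _ ((Nat.Prime.coprime_iff_not_dvd hp).mpr hz).symm
    have hcopn : ∀ (z : G) (j : ℕ), orderOf z = p ^ j → Nat.Coprime (orderOf z) n := by
      intro z j hz
      rw [hz]
      exact Nat.Coprime.pow_left _ ((Nat.Prime.coprime_iff_not_dvd hp).mpr hpn)
    obtain ⟨ϑ, hϑdef⟩ : ∃ ϑ : G → ℂ, ϑ = fun z : G =>
        if (∃ v : G, IsConj v y₁ ∧ (∃ u : G, z = u * v ∧ Commute u v ∧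
          Nat.Coprime (orderOf u) n ∧ Nat.Coprime (orderOf v) m)) then (n : ℂ) else 0 := ⟨_, rfl⟩
    obtain ⟨c, hc, hsum⟩ := Cfsg.Agent.S0875.result m n hmn hcop y₁ (hcopm y₁ hr1) ϑ
      (by intro z hz; rw [hϑdef]; simp only; rw [if_pos hz])
      (by intro z hz; rw [hϑdef]; simp only; rw [if_neg hz])
    rw [finsum_eq_sum_of_fintype] at hsum
    have hdiff : Cfsg.MemLocalIdeal M (ϑ x - ϑ y) := by
      rw [hsum]
      simp only [Finset.sum_apply, Pi.smul_apply, smul_eq_mul]
      rw [← Finset.sum_sub_distrib]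
      apply MemLocalIdeal.sum hM
      intro χ _
      rw [← mul_sub]
      exact MemLocalIdeal.mul_left hM (memLocalRing_of_isIntegral hM (hc χ)) (hall χ)
    have hϑx : ϑ x = n := by
      rw [hϑdef]
      simp only
      rw [if_pos]
      exact ⟨y₁, IsConj.refl _, a, hx1.symm, hc1, hcopn a k1 hk1, hcopm y₁ hr1⟩
    by_cases hy : (∃ v : G, IsConj v y₁ ∧ (∃ u : G, y = u * v ∧ Commute u v ∧
          Nat.Coprime (orderOf u) n ∧ Nat.Coprime (orderOf v) m))
    · obtain ⟨v, hv, u, hyuv, huv, hu, hv'⟩ := hy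
      -- `u` is the `p`-part of `y`
      have hord : orderOf u ∣ m * n := by rw [← hmn]; exact orderOf_dvd_natCard u
      have hum : orderOf u ∣ m := hu.dvd_of_dvd_mul_right hord
      rw [hm] at hum
      obtain ⟨j, -, hj⟩ := (Nat.dvd_prime_pow hp).mp hum
      have hvreg : ¬ p ∣ orderOf v := by
        intro hdvd
        have h1 : p ∣ m := by rw [hm]; exact dvd_pow_self p (by
          intro h0
          rw [h0, pow_zero] at hm
          rw [hm] at hv'
          have hpG : p ∣ Nat.card G := hdvd.trans (orderOf_dvd_natCard v)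
          have := (Nat.Prime.factorization_pos_of_dvd hp hG0 hpG)
          omega)
        have h2 : p ∣ Nat.gcd (orderOf v) m := Nat.dvd_gcd hdvd h1
        rw [hv'] at h2
        exact hp.one_lt.ne' (Nat.dvd_one.mp h2)
      have hpart : Cfsg.IsPPart p y u := ⟨v, hyuv.symm, huv, ⟨j, hj⟩, hvreg⟩
      have hpart' : Cfsg.IsPPart p y b := ⟨y₂, hx2, hc2, ⟨k2, hk2⟩, hr2⟩
      have hub := IsPPart.unique hp hpart hpart'
      have hvy : v = y₂ := by
        have h3 : u * v = b * y₂ := by rw [← hyuv, hx2]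
        rw [hub] at h3
        exact mul_left_cancel h3
      rw [hvy] at hv
      exact hv.symm
    · exfalso
      have hϑy : ϑ y = 0 := by
        rw [hϑdef]
        simp only
        rw [if_neg hy]
      rw [hϑx, hϑy, sub_zero] at hdiff
      exact hpn ((memLocalIdeal_natCast_iff hM n).mp hdiff)


end Cfsg.Agent.S0876
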