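import Cfsg.Statements.S0878
import Cfsg.Agent.Lib.Helper3.Zass1

set_option autoImplicit false
open Cfsg

namespace Cfsg.Agent.S0878

/-- Let G be a Zassenhaus group on the finite set Ω, a a point, and let H be the subgroup of the stabilizer of a consisting of the identity and the elements fixing no point other than a (given here as a subgroup of the stabilizer of order one less than the number of points whose non-identity elements fix only a; it is the Frobenius kernel of the stabilizer). Then an element outside the stabilizer of a conjugates no non-identity element of H into H, and the normalizer of H is exactly the stabilizer of a. -/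
theorem result {G Ω : Type*} [Group G] [Finite G] [MulAction G Ω] [Fintype Ω] (hZ : Cfsg.IsZassenhausGroup G Ω) (a : Ω) (H : Subgroup G) (hHa : H ≤ MulAction.stabilizer G a) (hHcard : Nat.card H + 1 = Fintype.card Ω) (hHfix : ∀ u ∈ H, u ≠ 1 → ∀ c : Ω, u • c = c → c = a) : (∀ g : G, g ∉ MulAction.stabilizer G a → ∀ u ∈ H, g * u * g⁻¹ ∈ H → u = 1) ∧ Subgroup.normalizer (H : Set G) = MulAction.stabilizer G a := by
  classical
  obtain ⟨hfaith, _, h3, ⟨g₀, hg₀, a', b', hab', ha', hb'⟩, _⟩ := hZ
  have hcard3 : 2 < Fintype.card Ω := by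
    rw [Fintype.two_lt_card_iff]
    have hmove : ∃ c : Ω, g₀ • c ≠ c := by
      by_contra h
      push Not at h
      apply hg₀
      exact hfaith.eq_of_smul_eq_smul (fun c => by rw [h c, one_smul])
    obtain ⟨c, hc⟩ := hmove
    refine ⟨a', b', c, hab', ?_, ?_⟩
    · rintro rfl; exact hc ha'
    · rintro rfl; exact hc hb'
  have hHa' : ∀ h ∈ H, h • a = a := fun h hh => MulAction.mem_stabilizer_iff.1 (hHa hh)
  have part1 : ∀ g : G, g ∉ MulAction.stabilizer G a → ∀ u ∈ H, g * u * g⁻¹ ∈ H → u = 1 := by
    intro g hg u hu hgu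
    by_contra hu1
    apply hg
    rw [MulAction.mem_stabilizer_iff]
    have h1 : g * u * g⁻¹ ≠ 1 := by
      intro h
      apply hu1
      have : u = g⁻¹ * (g * u * g⁻¹) * g := by group
      rw [this, h]; group
    have h2 : (g * u * g⁻¹) • (g • a) = g • a := by
      rw [mul_smul, mul_smul, inv_smul_smul, hHa' u hu]
    exact hHfix _ hgu h1 _ h2
  refine ⟨part1, ?_⟩
  have hHcard2 : 1 < Nat.card H := by omega
  have hHbot : H ≠ ⊥ := (Subgroup.one_lt_card_iff_ne_bot H).1 hHcard2
  obtain ⟨u, hu, hu1⟩ : ∃ u ∈ H, u ≠ 1 := by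
    obtain ⟨u, hu1⟩ := (Subgroup.ne_bot_iff_exists_ne_one).1 hHbot
    exact ⟨(u : G), u.2, fun h => hu1 (Subtype.ext h)⟩
  have : Nontrivial Ω := Fintype.one_lt_card_iff_nontrivial.1 (by omega)
  obtain ⟨b₀, hb₀⟩ := exists_ne a
  have hconj : ∀ g : G, g • a = a → ∀ h ∈ H, g * h * g⁻¹ ∈ H := by
    intro g hg h hh
    by_cases h1 : h = 1
    · subst h1
      simp
    · apply Cfsg.Agent.Lib.Helper3.Zass.mem_of_fixes_only h3 a H hHa hHcard hHfix b₀ hb₀
      · rw [mul_smul, mul_smul, inv_smul_eq_iff.2 hg.symm, hHa' h hh, hg]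
      · intro c hc
        have h2 : h • (g⁻¹ • c) = g⁻¹ • c := by
          have := congrArg (fun t => g⁻¹ • t) hc
          simp only [mul_smul, inv_smul_smul] at this
          exact this
        have h3' := hHfix h hh h1 _ h2
        rw [inv_smul_eq_iff] at h3'
        rw [h3', hg]
  apply le_antisymm
  · intro g hg
    by_contra hgS
    have := (Subgroup.mem_normalizer_iff.1 hg u).1 hu
    exact hu1 (part1 g hgS u hu this)
  · intro g hg
    rw [MulAction.mem_stabilizer_iff] at hg
    rw [Subgroup.mem_normalizer_iff]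
    intro h
    constructor
    · intro hh
      exact hconj g hg h hh
    · intro hh
      have hg' : g⁻¹ • a = a := by rw [inv_smul_eq_iff, hg]
      have := hconj g⁻¹ hg' _ hh
      have h2 : g⁻¹ * (g * h * g⁻¹) * g⁻¹⁻¹ = h := by group
      rw [h2] at this
      exact this

end Cfsg.Agent.S0878
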