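import Cfsg.Statements.S0879
-- import your own Cfsg.Agent.* helpers here

set_option autoImplicit false
open Cfsg

namespace Cfsg.Agent.S0879

/-- Let G be a Zassenhaus group on the finite set Ω and E the stabilizer of two distinct points a, b. Then an element outside the normalizer of E conjugates no non-identity element of E into E, and E has index 2 in its normalizer. -/
theorem result {G Ω : Type*} [Group G] [Finite G] [MulAction G Ω] [Fintype Ω] (hZ : Cfsg.IsZassenhausGroup G Ω) {a b : Ω} (hab : a ≠ b) : (∀ g : G, g ∉ Subgroup.normalizer ((MulAction.stabilizer G a ⊓ MulAction.stabilizer G b : Subgroup G) : Set G) → ∀ x ∈ (MulAction.stabilizer G a ⊓ MulAction.stabilizer G b : Subgroup G), g * x * g⁻¹ ∈ (MulAction.stabilizer G a ⊓ MulAction.stabilizer G b : Subgroup G) → x = 1) ∧ ((MulAction.stabilizer G a ⊓ MulAction.stabilizer G b : Subgroup G).subgroupOf (Subgroup.normalizer ((MulAction.stabilizer G a ⊓ MulAction.stabilizer G b : Subgroup G) : Set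 G))).index = 2 := by
  classical
  obtain ⟨_, h2t, h3, ⟨g₀, hg₀, a', b', hab', ha', hb'⟩, _⟩ := hZ
  rw [MulAction.is_two_pretransitive_iff] at h2t
  set E : Subgroup G := MulAction.stabilizer G a ⊓ MulAction.stabilizer G b with hE
  have hmE : ∀ x : G, x ∈ E ↔ (x • a = a ∧ x • b = b) := by
    intro x
    rw [hE, Subgroup.mem_inf, MulAction.mem_stabilizer_iff, MulAction.mem_stabilizer_iff]
  -- E is nontrivial
  obtain ⟨x₀, hx₀E, hx₀1⟩ : ∃ x₀ ∈ E, x₀ ≠ 1 := by
    obtain ⟨t, hta, htb⟩ := h2t hab' hab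
    refine ⟨t * g₀ * t⁻¹, ?_, ?_⟩
    · rw [hmE]
      constructor
      · rw [mul_smul, mul_smul, inv_smul_eq_iff.2 hta.symm, ha', hta]
      · rw [mul_smul, mul_smul, inv_smul_eq_iff.2 htb.symm, hb', htb]
    · intro h
      apply hg₀
      have : g₀ = t⁻¹ * (t * g₀ * t⁻¹) * t := by group
      rw [this, h]; group
  -- elements preserving {a,b} normalize E
  have hL1 : ∀ g : G, ((g • a = a ∧ g • b = b) ∨ (g • a = b ∧ g • b = a)) →
      ∀ h ∈ E, g * h * g⁻¹ ∈ E := by
    intro g hg h hh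
    rw [hmE] at hh ⊢
    rcases hg with ⟨hga, hgb⟩ | ⟨hga, hgb⟩
    · constructor
      · rw [mul_smul, mul_smul, inv_smul_eq_iff.2 hga.symm, hh.1, hga]
      · rw [mul_smul, mul_smul, inv_smul_eq_iff.2 hgb.symm, hh.2, hgb]
    · constructor
      · rw [mul_smul, mul_smul, inv_smul_eq_iff.2 hgb.symm, hh.2, hgb]
      · rw [mul_smul, mul_smul, inv_smul_eq_iff.2 hga.symm, hh.1, hga]
  have hL1' : ∀ g : G, ((g • a = a ∧ g • b = b) ∨ (g • a = b ∧ g • b = a)) →
      g ∈ Subgroup.normalizer (E : Set G) := by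
    intro g hg
    rw [Subgroup.mem_normalizer_iff]
    intro h
    constructor
    · exact hL1 g hg h
    · intro hh
      have hg' : (g⁻¹ • a = a ∧ g⁻¹ • b = b) ∨ (g⁻¹ • a = b ∧ g⁻¹ • b = a) := by
        rcases hg with ⟨hga, hgb⟩ | ⟨hga, hgb⟩
        · exact Or.inl ⟨inv_smul_eq_iff.2 hga.symm, inv_smul_eq_iff.2 hgb.symm⟩
        · exact Or.inr ⟨inv_smul_eq_iff.2 hgb.symm, inv_smul_eq_iff.2 hga.symm⟩
      have := hL1 g⁻¹ hg' _ hh
      have h2 : g⁻¹ * (g * h * g⁻¹) * g⁻¹⁻¹ = h := by group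
      rw [h2] at this
      exact this
  -- conversely
  have hL2 : ∀ g : G, ∀ x ∈ E, x ≠ 1 → g * x * g⁻¹ ∈ E →
      ((g • a = a ∧ g • b = b) ∨ (g • a = b ∧ g • b = a)) := by
    intro g x hx hx1 hgx
    rw [hmE] at hx hgx
    have hy1 : g * x * g⁻¹ ≠ 1 := by
      intro h
      apply hx1
      have : x = g⁻¹ * (g * x * g⁻¹) * g := by group
      rw [this, h]; group
    have hfa : (g * x * g⁻¹) • (g • a) = g • a := by
      rw [mul_smul, mul_smul, inv_smul_smul, hx.1]
    have hfb : (g * x * g⁻¹) • (g • b) = g • b := by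
      rw [mul_smul, mul_smul, inv_smul_smul, hx.2]
    have hgab : g • a ≠ g • b := fun h => hab (smul_left_cancel g h)
    -- g • a ∈ {a, b}
    have hga : g • a = a ∨ g • a = b := by
      by_contra hcon
      push Not at hcon
      exact hy1 (h3 _ a b (g • a) hab hcon.2.symm hcon.1.symm hgx.1 hgx.2 hfa)
    have hgb : g • b = a ∨ g • b = b := by
      by_contra hcon
      push Not at hcon
      exact hy1 (h3 _ a b (g • b) hab hcon.2.symm hcon.1.symm hgx.1 hgx.2 hfb)
    rcases hga with hga | hga <;> rcases hgb with hgb | hgb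
    · exact absurd (hga.trans hgb.symm) hgab
    · exact Or.inl ⟨hga, hgb⟩
    · exact Or.inr ⟨hga, hgb⟩
    · exact absurd (hga.trans hgb.symm) hgab
  constructor
  · intro g hg x hx hgx
    by_contra hx1
    exact hg (hL1' g (hL2 g x hx hx1 hgx))
  · -- index two
    obtain ⟨s, hsa, hsb⟩ := h2t hab hab.symm
    have hsN : s ∈ Subgroup.normalizer (E : Set G) := hL1' s (Or.inr ⟨hsa, hsb⟩)
    rw [Subgroup.index_eq_two_iff]
    refine ⟨⟨s, hsN⟩, ?_⟩
    intro g
    have hgP : (((g : G) • a = a ∧ (g : G) • b = b) ∨ ((g : G) • a = b ∧ (g : G) • b = a)) := by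
      have := (Subgroup.mem_normalizer_iff.1 g.2 x₀).1 hx₀E
      exact hL2 g x₀ hx₀E hx₀1 this
    rw [Subgroup.mem_subgroupOf, Subgroup.mem_subgroupOf, hmE, hmE]
    change Xor ((((g : G) * s) • a = a ∧ ((g : G) * s) • b = b)) (((g : G) • a = a ∧ (g : G) • b = b))
    rcases hgP with ⟨hga, hgb⟩ | ⟨hga, hgb⟩
    · right
      refine ⟨⟨hga, hgb⟩, ?_⟩
      rintro ⟨h1, _⟩
      rw [mul_smul, hsa, hgb] at h1
      exact hab h1.symm
    · left
      refine ⟨⟨?_, ?_⟩, ?_⟩
      · rw [mul_smul, hsa, hgb]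
      · rw [mul_smul, hsb, hga]
      · rintro ⟨h1, _⟩
        rw [hga] at h1
        exact hab h1.symm

end Cfsg.Agent.S0879
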