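import Cfsg.Statements.S0880
import Mathlib
import Cfsg.Agent.Lib.Helper6.ZassCount

set_option autoImplicit false
open Cfsg

namespace Cfsg.Agent.S0880

/-- Let G be a finite simple Zassenhaus group on Ω with n points whose two-point stabilizer E has odd order less than n - 2. Then there are two elements of G, each fixing no point of Ω, that are not conjugate. -/
theorem result {G Ω : Type*} [Group G] [Finite G] [MulAction G Ω] [Fintype Ω] (hZ : Cfsg.IsZassenhausGroup G Ω) {a b : Ω} (hab : a ≠ b) [IsSimpleGroup G] (hodd : Odd (Nat.card ↥(MulAction.stabilizer G a ⊓ MulAction.stabilizer G b : Subgroup G))) (hlt : Nat.card ↥(MulAction.stabilizer G a ⊓ MulAction.stabilizer G b : Subgroup G) < Fintype.card Ω - 2) : ∃ x y : G, (∀ c : Ω, x • c ≠ c) ∧ (∀ c : Ω, y • c ≠ c) ∧ ¬ IsConj x y := by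

  classical
  have : Fintype G := Fintype.ofFinite G
  have h := Cfsg.Agent.Lib.Helper6.Zs.ZD.of hZ
  have hn := h.card_gt
  obtain ⟨n, hn_def⟩ : ∃ n, n = Fintype.card Ω := ⟨_, rfl⟩
  rw [← hn_def] at hn hlt
  obtain ⟨E, hE⟩ : ∃ E : Subgroup G, E = MulAction.stabilizer G a ⊓ MulAction.stabilizer G b :=
    ⟨_, rfl⟩
  rw [← hE] at hodd hlt
  obtain ⟨m, hm⟩ : ∃ m, m + n = n * n := ⟨n * n - n, Nat.sub_add_cancel (Nat.le_mul_self n)⟩
  have hm' : n * n - n = m := by omega
  have hm2 : 2 * n ≤ m := by nlinarith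
  have hG := h.card_two_mul hab
  rw [← hE, ← hn_def, hm'] at hG
  -- e > 1
  have he1 : 1 < Nat.card E := by
    obtain ⟨g₀, hg₀, a', b', hab', ha', hb'⟩ := h.fix2
    have h2 := h.card_two_mul hab'
    rw [← hn_def, hm'] at h2
    have hmpos : 0 < m := by omega
    have heq : Nat.card E
        = Nat.card (MulAction.stabilizer G a' ⊓ MulAction.stabilizer G b' : Subgroup G) :=
      Nat.eq_of_mul_eq_mul_right hmpos (hG.trans h2.symm)
    rw [heq, Subgroup.one_lt_card_iff_ne_bot]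
    intro hbot
    have hmem : g₀ ∈ (MulAction.stabilizer G a' ⊓ MulAction.stabilizer G b' : Subgroup G) :=
      ⟨ha', hb'⟩
    rw [hbot, Subgroup.mem_bot] at hmem
    exact hg₀ hmem
  have he3 : 3 ≤ Nat.card E := by
    obtain ⟨k, hk⟩ := hodd
    omega
  have hG3 : 3 * m ≤ Nat.card G := by
    rw [← hG]
    exact Nat.mul_le_mul_right m he3
  have hf := h.two_card_fpf
  rw [← hn_def, ← hm] at hf
  obtain ⟨f₀, hf₀⟩ : ∃ f₀, f₀
      = (Finset.univ.filter (fun g : G => Cfsg.Agent.Lib.Helper6.Zs.fx Ω g = 0)).card := ⟨_, rfl⟩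
  rw [← hf₀] at hf
  have hf0 : 0 < f₀ := by omega
  obtain ⟨x, hx⟩ : ∃ x : G, Cfsg.Agent.Lib.Helper6.Zs.fx Ω x = 0 := by
    rw [hf₀] at hf0
    obtain ⟨x, hx⟩ := Finset.card_pos.1 hf0
    exact ⟨x, (Finset.mem_filter.1 hx).2⟩
  have hxf := (Cfsg.Agent.Lib.Helper6.Zs.fx_eq_zero_iff x).1 hx
  by_contra hcon
  push Not at hcon
  have hdvd : f₀ ∣ Nat.card G := by
    have hset : ((Finset.univ.filter (fun g : G => Cfsg.Agent.Lib.Helper6.Zs.fx Ω g = 0) :
        Finset G) : Set G) = MulAction.orbit (ConjAct G) x := by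
      ext y
      simp only [Finset.coe_filter, Finset.mem_univ, true_and, Set.mem_setOf_eq]
      rw [ConjAct.mem_orbit_conjAct]
      constructor
      · intro hy
        exact (hcon x y hxf ((Cfsg.Agent.Lib.Helper6.Zs.fx_eq_zero_iff y).1 hy)).symm
      · intro hy
        rw [Cfsg.Agent.Lib.Helper6.Zs.fx_eq_zero_iff]
        rw [isConj_iff] at hy
        obtain ⟨c, hc⟩ := hy
        intro d hd
        apply hxf (c • d)
        rw [← hc, mul_smul, mul_smul, inv_smul_smul, hd]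
    have h1 := MulAction.index_stabilizer (ConjAct G) x
    rw [← hset, Set.ncard_coe_finset, ← hf₀] at h1
    rw [← h1]
    show (MulAction.stabilizer (ConjAct G) x).index ∣ Nat.card (ConjAct G)
    exact Subgroup.index_dvd_card _
  obtain ⟨c, hc⟩ := hdvd
  have h1 : f₀ * 2 < f₀ * c := by
    rw [← hc]
    omega
  have h2 : f₀ * c < f₀ * 3 := by
    rw [← hc]
    omega
  have h3 := Nat.lt_of_mul_lt_mul_left h1
  have h4 := Nat.lt_of_mul_lt_mul_left h2
  omega


end Cfsg.Agent.S0880
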