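import Cfsg.Statements.S0881
import Mathlib
import Cfsg.Agent.Lib.Helper6.ZassInd
import Cfsg.Agent.Lib.Helper6.IndFunTI
import Cfsg.Agent.Lib.Helper6.CharOps
import Cfsg.Agent.Lib.Helper6.GenCharOps
import Cfsg.Agent.Lib.Helper6.GaloisConj
import Cfsg.Agent.Lib.Helper6.Constituent
import Cfsg.Agent.S0146

set_option autoImplicit false
open Cfsg

namespace Cfsg.Agent.S0881

open Cfsg.Agent.Lib.Helper6
open scoped ComplexConjugate commutatorElement

/-- Let G be a finite simple Zassenhaus group on Ω with n points, a ≠ b points with two-point stabilizer E of odd order less than n - 2, and let H be the subgroup of the stabilizer of a consisting of the identity and the elements fixing no point other than a (given here as a subgroup of the stabilizer of order one less than the number of points whose non-identity elements fix only a; it is the Frobenius kernel of the stabilizer). Let μ be a character of degree 1 of the stabilizer of a that is identically 1 on H but not identically 1. Then the function induced from μ to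 G is an irreducible character of G, and it takes the value 1 at every non-identity element of H. -/
theorem result {G Ω : Type*} [Group G] [Fintype G] [MulAction G Ω] [Fintype Ω] (hZ : Cfsg.IsZassenhausGroup G Ω) {a b : Ω} (hab : a ≠ b) [IsSimpleGroup G] (hodd : Odd (Nat.card ↥(MulAction.stabilizer G a ⊓ MulAction.stabilizer G b : Subgroup G))) (hlt : Nat.card ↥(MulAction.stabilizer G a ⊓ MulAction.stabilizer G b : Subgroup G) < Fintype.card Ω - 2) (H : Subgroup G) (hHa : H ≤ MulAction.stabilizer G a) (hHcard : Nat.card H + 1 = Fintype.card Ω) (hHfix : ∀ u ∈ H, u ≠ 1 → ∀ c : Ω, u • c = c → c = a) (μ : MulAction.stabilizer G a → ℂ) (hμ : Cfsg.IsCharacter (MulAction.stabilizer G a) μ ∧ μ 1 = 1) (hμH : ∀ u : MulAction.stabilizer G a, (u : G) ∈ H → μ u = 1) (hμne : μ ≠ fun _ => 1) : Cfsg.IsIrrCharacter G (Cfsg.indFun (MulAction.stabilizer G a) μ) ∧ ∀ u ∈ H, u ≠ 1 → Cfsg.indFun (MulAction.stabilizer G a) μ u = 1 := by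

  classical
  have h := Zs.ZD.of hZ
  have hn := h.card_gt
  have hK : Zs.KD a H := ⟨hHa, hHcard, hHfix⟩
  have hba : b ≠ a := hab.symm
  have hM0 := Zs.LinExt.of_char (MulAction.stabilizer G a) hμ.1 hμ.2
  obtain ⟨M, hMdef⟩ : ∃ M, M = Cfsg.extendByZero (MulAction.stabilizer G a) μ := ⟨_, rfl⟩
  have hM : Zs.LinExt (MulAction.stabilizer G a) M := by rw [hMdef]; exact hM0
  have hMH : ∀ u ∈ H, M u = 1 := by
    intro u hu
    rw [hMdef, extendByZero_of_mem _ μ (hHa hu)]
    exact hμH ⟨u, hHa hu⟩ hu
  obtain ⟨τ, hτa, hτb⟩ := h.two a b b a hab hab.symm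
  have hr₀ : ∀ c : Ω, ∃ x : G, x • a = c := fun c => h.trans a c
  choose r₀ hr₀ using hr₀
  obtain ⟨r, hrdef⟩ : ∃ r : Ω → G, r = fun c => if c = a then 1 else if c = b then τ else r₀ c :=
    ⟨_, rfl⟩
  have hr : ∀ c, r c • a = c := by
    intro c
    rw [hrdef]
    simp only
    split_ifs with h1 h2
    · rw [one_smul, h1]
    · rw [hτa, h2]
    · exact hr₀ c
  have hra : r a = 1 := by rw [hrdef]; simp
  have hrb : r b = τ := by rw [hrdef]; simp [hba]
  obtain ⟨I, hI⟩ : ∃ I, I = Cfsg.indFun (MulAction.stabilizer G a) μ := ⟨_, rfl⟩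
  rw [← hI]
  have hIapply : ∀ g : G, I g = ∑ c ∈ Finset.univ.filter (fun c : Ω => g • c = c),
      M ((r c)⁻¹ * g * r c) := by
    intro g
    rw [hI, hMdef]
    exact Zs.indFun_stab_apply hM0 r hr g
  have hIH : ∀ u ∈ H, u ≠ 1 → I u = 1 := by
    intro u hu hu1
    rw [hIapply u]
    have hfix : Finset.univ.filter (fun c : Ω => u • c = c) = {a} := by
      ext c
      simp only [Finset.mem_filter, Finset.mem_univ, true_and, Finset.mem_singleton]
      exact ⟨fun hc => hHfix u hu hu1 c hc, fun hc => by rw [hc]; exact hK.fixa hu⟩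
    rw [hfix, Finset.sum_singleton, hra]
    simp only [inv_one, one_mul, mul_one]
    exact hMH u hu
  refine ⟨?_, hIH⟩
  obtain ⟨E, hE⟩ : ∃ E : Subgroup G, E = MulAction.stabilizer G a ⊓ MulAction.stabilizer G b :=
    ⟨_, rfl⟩
  have hmE : ∀ x : G, x ∈ E ↔ (x • a = a ∧ x • b = b) := by
    intro x
    rw [hE, Subgroup.mem_inf, MulAction.mem_stabilizer_iff, MulAction.mem_stabilizer_iff]
  have hES : E ≤ MulAction.stabilizer G a := by rw [hE]; exact inf_le_left
  have hτa' : τ⁻¹ • b = a := by rw [inv_smul_eq_iff, hτa]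
  have hτb' : τ⁻¹ • a = b := by rw [inv_smul_eq_iff, hτb]
  have hτE : ∀ y ∈ E, τ⁻¹ * y * τ ∈ E := by
    intro y hy
    rw [hmE] at hy ⊢
    constructor
    · rw [mul_smul, mul_smul, hτa, hy.2, hτa']
    · rw [mul_smul, mul_smul, hτb, hy.1, hτb']
  have hIE : ∀ y ∈ E, y ≠ 1 → I y = M y + M (τ⁻¹ * y * τ) := by
    intro y hy hy1
    rw [hIapply y]
    have hfix : Finset.univ.filter (fun c : Ω => y • c = c) = {a, b} := by
      ext c
      simp only [Finset.mem_filter, Finset.mem_univ, true_and, Finset.mem_insert,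
        Finset.mem_singleton]
      constructor
      · intro hc
        by_contra hcon
        push Not at hcon
        exact hy1 (h.three y a b c hab (Ne.symm hcon.2) (Ne.symm hcon.1) ((hmE y).1 hy).1
          ((hmE y).1 hy).2 hc)
      · rintro (rfl | rfl)
        · exact ((hmE y).1 hy).1
        · exact ((hmE y).1 hy).2
    rw [hfix, Finset.sum_pair hab, hra, hrb]
    simp only [inv_one, one_mul, mul_one]
  have he1 : 1 < Nat.card E := by rw [hE]; exact h.one_lt_card_two hab
  by_cases hinv : ∀ y ∈ E, M (τ⁻¹ * y * τ) = M y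
  · exfalso
    -- G is perfect
    have hperf : commutator G = ⊤ := by
      rcases (Subgroup.Normal.eq_bot_or_eq_top (inferInstance : (commutator G).Normal))
        with hbot | htop
      · exfalso
        have hcomm : ∀ x y : G, x * y = y * x := by
          intro x y
          have hxy : ⁅x, y⁆ ∈ commutator G :=
            Subgroup.commutator_mem_commutator (Subgroup.mem_top x) (Subgroup.mem_top y)
          rw [hbot, Subgroup.mem_bot, commutatorElement_eq_one_iff_mul_comm] at hxy
          exact hxy
        have hEbot : E ≠ ⊥ := (Subgroup.one_lt_card_iff_ne_bot E).1 he1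
        obtain ⟨y, hy1⟩ := (Subgroup.ne_bot_iff_exists_ne_one).1 hEbot
        apply hy1
        apply Subtype.ext
        apply h.faith
        intro c
        obtain ⟨x, hx⟩ := h.trans a c
        rw [← hx, ← mul_smul, hcomm, mul_smul, ((hmE y).1 y.2).1]
      · exact htop
    obtain ⟨ϕ, hϕdef⟩ : ∃ ϕ : E →* ℂˣ,
        ϕ = (linearCharHom hμ.1 hμ.2).comp (Subgroup.inclusion hES) := ⟨_, rfl⟩
    have hϕ : ∀ y : E, ((ϕ y : ℂˣ) : ℂ) = M (y : G) := by
      intro y
      rw [hMdef, extendByZero_of_mem _ μ (hES y.2), hϕdef]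
      rfl
    have hV : ∀ g : G, MonoidHom.transfer ϕ g = 1 := by
      intro g
      have hg : g ∈ (MonoidHom.transfer ϕ).ker :=
        Abelianization.commutator_subset_ker _ (by rw [hperf]; exact Subgroup.mem_top g)
      exact hg
    have hkey : ∀ (y : E) (k : ℕ) (g₀ : G) (hk : g₀⁻¹ * (y : G) ^ k * g₀ ∈ E),
        ϕ ⟨g₀⁻¹ * (y : G) ^ k * g₀, hk⟩ = ϕ (y ^ k) := by
      intro y k g₀ hk
      apply Units.ext
      rw [hϕ, hϕ]
      show M (g₀⁻¹ * (y : G) ^ k * g₀) = M ((y : G) ^ k)
      obtain ⟨x, hx⟩ : ∃ x : G, x = (y : G) ^ k := ⟨_, rfl⟩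
      rw [← hx] at hk ⊢
      have hxE : x ∈ E := by rw [hx]; exact E.pow_mem y.2 k
      by_cases hx1 : x = 1
      · rw [hx1]
        simp
      · have hfa : x • (g₀ • a) = g₀ • a := by
          have := ((hmE _).1 hk).1
          rw [mul_smul, mul_smul, inv_smul_eq_iff] at this
          exact this
        have hfb : x • (g₀ • b) = g₀ • b := by
          have := ((hmE _).1 hk).2
          rw [mul_smul, mul_smul, inv_smul_eq_iff] at this
          exact this
        have hgab : g₀ • a ≠ g₀ • b := fun h' => hab (smul_left_cancel g₀ h')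
        have hga : g₀ • a = a ∨ g₀ • a = b := by
          by_contra hcon
          push Not at hcon
          exact hx1 (h.three x a b (g₀ • a) hab hcon.2.symm hcon.1.symm ((hmE x).1 hxE).1
            ((hmE x).1 hxE).2 hfa)
        have hgb : g₀ • b = a ∨ g₀ • b = b := by
          by_contra hcon
          push Not at hcon
          exact hx1 (h.three x a b (g₀ • b) hab hcon.2.symm hcon.1.symm ((hmE x).1 hxE).1
            ((hmE x).1 hxE).2 hfb)
        rcases hga with hga | hga <;> rcases hgb with hgb | hgb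
        · exact absurd (hga.trans hgb.symm) hgab
        · exact hM.conj_inv (MulAction.mem_stabilizer_iff.2 hga) (hES hxE)
        · have hk' : τ⁻¹ * g₀ ∈ MulAction.stabilizer G a := by
            rw [MulAction.mem_stabilizer_iff, mul_smul, hga, hτa']
          have h1 : g₀⁻¹ * x * g₀ = (τ⁻¹ * g₀)⁻¹ * (τ⁻¹ * x * τ) * (τ⁻¹ * g₀) := by group
          rw [h1, hM.conj_inv hk' (hES (hτE x hxE)), hinv x hxE]
        · exact absurd (hga.trans hgb.symm) hgab
    have hcop : Nat.gcd E.index (Nat.card E) = 1 := by
      have := h.coprime_index hab hodd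
      rw [← hE] at this
      exact this
    have hone : ∀ y : E, ϕ y = 1 := by
      intro y
      have h1 := Zs.transfer_eq_pow_of_invariant ϕ y (hkey y)
      rw [hV] at h1
      have h2 : ϕ y ^ Nat.card E = 1 := by rw [← map_pow, pow_card_eq_one', map_one]
      have h3 := pow_gcd_eq_one.2 ⟨h1.symm, h2⟩
      rw [hcop, pow_one] at h3
      exact h3
    have hME : ∀ y ∈ E, M y = 1 := by
      intro y hy
      have := hϕ ⟨y, hy⟩
      rw [hone] at this
      exact this.symm
    apply hμne
    funext s
    have hs : M (s : G) = μ s := by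
      rw [hMdef]
      exact extendByZero_coe _ μ s
    rw [← hs]
    have hsa : (s : G) • a = a := MulAction.mem_stabilizer_iff.1 s.2
    by_cases hsH : (s : G) ∈ H
    · exact hMH _ hsH
    · obtain ⟨u, hu, hua, hub⟩ := hK.exists_conj h hba hsa hsH
      have h1 := hM.conj_inv (hHa hu) s.2
      rw [← h1]
      exact hME _ ((hmE _).2 ⟨hua, hub⟩)
  · push Not at hinv
    obtain ⟨y₀, hy₀E, hy₀⟩ := hinv
    obtain ⟨φ, hφ⟩ : ∃ φ : G → ℂ, φ = fun y => M y * conj (M (τ⁻¹ * y * τ)) := ⟨_, rfl⟩
    obtain ⟨Ef, hEf⟩ : ∃ Ef : Finset G,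
        Ef = Finset.univ.filter (fun g : G => g • a = a ∧ g • b = b) := ⟨_, rfl⟩
    have hmEf : ∀ g, g ∈ Ef ↔ g ∈ E := by
      intro g
      rw [hEf, hmE]
      simp
    have hφmul : ∀ y y', y ∈ E → y' ∈ E → φ (y * y') = φ y * φ y' := by
      intro y y' hy hy'
      rw [hφ]
      simp only
      have h1 : τ⁻¹ * (y * y') * τ = (τ⁻¹ * y * τ) * (τ⁻¹ * y' * τ) := by group
      rw [h1, hM.mul _ _ (hES hy) (hES hy'),
        hM.mul _ _ (hES (hτE y hy)) (hES (hτE y' hy')), map_mul]
      ring
    have hφ1 : φ 1 = 1 := by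
      rw [hφ]
      simp only
      have h1 : τ⁻¹ * 1 * τ = 1 := by group
      rw [h1, hM.one]
      simp
    have hφy₀ : φ y₀ ≠ 1 := by
      rw [hφ]
      simp only
      rw [hM.conj_eq_inv (hES (hτE y₀ hy₀E))]
      intro h1
      apply hy₀
      have hz := hM.ne_zero (hES (hτE y₀ hy₀E))
      field_simp at h1
      exact h1.symm
    have hsumφ : ∑ y ∈ Ef, φ y = 0 := by
      have h1 : ∑ y ∈ Ef, φ (y₀ * y) = ∑ y ∈ Ef, φ y := by
        apply Finset.sum_bij' (fun y _ => y₀ * y) (fun y _ => y₀⁻¹ * y)
        · intro y hy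
          rw [hmEf] at hy ⊢
          exact E.mul_mem hy₀E hy
        · intro y hy
          rw [hmEf] at hy ⊢
          exact E.mul_mem (E.inv_mem hy₀E) hy
        · intro y _
          group
        · intro y _
          group
        · intro y _
          rfl
      have h2 : ∑ y ∈ Ef, φ (y₀ * y) = φ y₀ * ∑ y ∈ Ef, φ y := by
        rw [Finset.mul_sum]
        apply Finset.sum_congr rfl
        intro y hy
        rw [hmEf] at hy
        exact hφmul y₀ y hy₀E hy
      have h3 : (1 - φ y₀) * ∑ y ∈ Ef, φ y = 0 := by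
        rw [sub_mul, one_mul, ← h2, h1, sub_self]
      rcases mul_eq_zero.1 h3 with h4 | h4
      · exact absurd (sub_eq_zero.1 h4).symm hφy₀
      · exact h4
    -- cardinalities
    obtain ⟨n, hn_def⟩ : ∃ n, n = Fintype.card Ω := ⟨_, rfl⟩
    obtain ⟨e, he_def⟩ : ∃ e, e = Nat.card E := ⟨_, rfl⟩
    rw [← hn_def] at hn
    have hEfcard : Ef.card = e := by
      rw [he_def, hEf, hE, ← Zs.stab_prod, Zs.card_stab_eq_filter]
      congr 1
      ext g
      simp [Prod.ext_iff]
    obtain ⟨Hf, hHf⟩ : ∃ Hf : Finset G, Hf = Finset.univ.filter (fun g : G => g ∈ H) := ⟨_, rfl⟩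
    have hHfcard : Hf.card + 1 = n := by
      rw [hn_def, ← hHcard, hHf, Nat.card_eq_fintype_card, Fintype.card_subtype]
    have hScard : Nat.card (MulAction.stabilizer G a) = (n - 1) * e := by
      have h1 := h.card_stab_mul a
      have h2 := h.card_two_mul hab
      rw [← hE, ← he_def, ← hn_def] at h2
      rw [← hn_def] at h1
      have h3 : n * n - n = (n - 1) * n := by
        rw [Nat.sub_mul, one_mul]
      rw [h3, ← mul_assoc] at h2
      have hn0 : 0 < n := by omega
      have := Nat.eq_of_mul_eq_mul_right hn0 (h1.trans h2.symm)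
      rw [this, mul_comm]
    have hI1 : I 1 = (n : ℂ) := by
      rw [hI, indFun_one, h.index_stab a, hμ.2, mul_one, hn_def]
    have hIcf : Cfsg.IsClassFunction G I := by
      rw [hI]
      exact indFun_isClassFunction _ μ
    -- the sum
    have hT : ∑ g : G, M g * conj (I g) = ((n - 1) * e : ℕ) := by
      have e1 : ∑ g : G, M g * conj (I g)
          = ∑ g ∈ Finset.univ.filter (fun g : G => g • a = a), M g * conj (I g) := by
        symm
        apply Finset.sum_subset (Finset.filter_subset _ _)
        intro g _ hg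
        simp only [Finset.mem_filter, Finset.mem_univ, true_and] at hg
        rw [hM.zero g (by rwa [MulAction.mem_stabilizer_iff]), zero_mul]
      rw [e1, hK.sum_stab h hba (fun g => M g * conj (I g)), ← hHf, ← hEf]
      -- first sum
      have h1H : (1 : G) ∈ Hf := by rw [hHf]; simp
      have s1 : ∑ u ∈ Hf, M u * conj (I u) = (n : ℂ) + ((Hf.card : ℂ) - 1) := by
        rw [← Finset.add_sum_erase Hf _ h1H, hM.one, hI1, one_mul, Complex.conj_natCast]
        congr 1
        have : ∀ u ∈ Hf.erase 1, M u * conj (I u) = 1 := by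
          intro u hu
          have hu1 : u ≠ 1 := Finset.ne_of_mem_erase hu
          have huH : u ∈ H := by
            have := Finset.mem_of_mem_erase hu
            rw [hHf] at this
            simpa using this
          rw [hMH u huH, hIH u huH hu1]
          simp
        rw [Finset.sum_congr rfl this, Finset.sum_const, Finset.card_erase_of_mem h1H]
        have hpos : 1 ≤ Hf.card := Finset.card_pos.2 ⟨1, h1H⟩
        rw [nsmul_eq_mul, mul_one, Nat.cast_sub hpos, Nat.cast_one]
      have h1E : (1 : G) ∈ Ef := by rw [hmEf]; exact E.one_mem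
      have s2 : ∀ u ∈ Hf, ∑ y ∈ Ef.erase 1, M (u * y * u⁻¹) * conj (I (u * y * u⁻¹))
          = (e : ℂ) - 2 := by
        intro u hu
        have huH : u ∈ H := by
          rw [hHf] at hu
          simpa using hu
        have h2 : ∀ y ∈ Ef.erase 1, M (u * y * u⁻¹) * conj (I (u * y * u⁻¹)) = 1 + φ y := by
          intro y hy
          have hy1 : y ≠ 1 := Finset.ne_of_mem_erase hy
          have hyE : y ∈ E := (hmEf y).1 (Finset.mem_of_mem_erase hy)
          rw [hM.conj' (hHa huH) (hES hyE), hIcf y u, hIE y hyE hy1, map_add, mul_add,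
            hM.norm y (hES hyE), hφ]
        rw [Finset.sum_congr rfl h2, Finset.sum_add_distrib, Finset.sum_const,
          Finset.card_erase_of_mem h1E, hEfcard]
        have h3 := Finset.add_sum_erase Ef φ h1E
        rw [hsumφ, hφ1] at h3
        have h4 : ∑ y ∈ Ef.erase 1, φ y = -1 := by
          have : ∑ y ∈ Ef.erase 1, φ y = 0 - 1 := by rw [← h3]; ring
          rw [this]; ring
        rw [h4, nsmul_eq_mul, mul_one, Nat.cast_sub (by omega : 1 ≤ e), Nat.cast_one]
        ring
      rw [s1, Finset.sum_congr rfl s2, Finset.sum_const, nsmul_eq_mul]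
      have hc : (Hf.card : ℂ) = (n : ℂ) - 1 := by
        have : ((Hf.card + 1 : ℕ) : ℂ) = (n : ℂ) := by rw [hHfcard]
        push_cast at this
        rw [← this]; ring
      rw [hc]
      have hn1 : 1 ≤ n := by omega
      push_cast [Nat.cast_sub hn1]
      ring
    have hnorm : Cfsg.classInner I I = 1 := by
      have hfin : Fintype (MulAction.stabilizer G a) := Fintype.ofFinite _
      have e0 := Cfsg.Agent.S0146.result (MulAction.stabilizer G a) μ I hIcf
      rw [← hI] at e0
      rw [e0]
      unfold Cfsg.classInner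
      have e1 : ∑ s : MulAction.stabilizer G a, μ s * conj (I s) = ∑ g : G, M g * conj (I g) := by
        rw [hMdef]
        exact (sum_extendByZero_mul (MulAction.stabilizer G a) μ (fun g => conj (I g))).symm
      rw [e1, hT, hScard]
      have hne : (((n - 1) * e : ℕ) : ℂ) ≠ 0 := by
        rw [← hScard]
        exact card_ne_zero_complex _
      exact inv_mul_cancel₀ hne
    have hgen : Cfsg.IsGeneralizedCharacter G I := by
      rw [hI]
      exact IsCharacter.isGeneralizedCharacter (IsCharacter.indFun _ hμ.1)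
    apply IsGeneralizedCharacter.isIrrCharacter_of_norm_one hgen hnorm
    rw [hI1]
    simp only [Complex.natCast_re]
    exact_mod_cast (by omega : 0 < n)


end Cfsg.Agent.S0881
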