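import Cfsg.Statements.S0883
import Mathlib
import Cfsg.Agent.Lib.Helper6.ZassSimple

set_option autoImplicit false
open Cfsg

namespace Cfsg.Agent.S0883

open Cfsg.Agent.Lib.Helper6

/-- Let G be a finite simple Zassenhaus group on Ω with h + 1 points whose two-point stabilizer E has odd order e with 2e < h - 1, and let H be the subgroup of the stabilizer of a consisting of the identity and the elements fixing no point other than a (given here as a subgroup of the stabilizer of order one less than the number of points whose non-identity elements fix only a; it is the Frobenius kernel of the stabilizer). If a non-identity element u of H is a product of two involutions of G, then u is an involution. -/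
theorem result {G Ω : Type*} [Group G] [Finite G] [MulAction G Ω] [Fintype Ω] (hZ : Cfsg.IsZassenhausGroup G Ω) {a b : Ω} (hab : a ≠ b) [IsSimpleGroup G] (h e : ℕ) (hh : Fintype.card Ω = h + 1) (he : Nat.card ↥(MulAction.stabilizer G a ⊓ MulAction.stabilizer G b : Subgroup G) = e) (hodd : Odd e) (hlt : 2 * e < h - 1) (H : Subgroup G) (hHa : H ≤ MulAction.stabilizer G a) (hHcard : Nat.card H + 1 = Fintype.card Ω) (hHfix : ∀ u ∈ H, u ≠ 1 → ∀ c : Ω, u • c = c → c = a) (u : G) (hu : u ∈ H) (hu1 : u ≠ 1) (x y : G) (hx : orderOf x = 2) (hy : orderOf y = 2) (hxy : x * y = u) : orderOf u = 2 := by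
  classical
  haveI : Fintype G := Fintype.ofFinite G
  have h0 := Zs.ZD.of hZ
  have hK : Zs.KD a H := ⟨hHa, hHcard, hHfix⟩
  have hba : b ≠ a := hab.symm
  have hperf := h0.perfect_of_simple
  have hcardH : Nat.card H = h := by omega
  have hoddE : Odd (Nat.card ↥(MulAction.stabilizer G a ⊓ MulAction.stabilizer G b : Subgroup G)) := by
    rw [he]; exact hodd
  obtain ⟨hp2, hnodd, hex⟩ := Zs.perfect_package h0 hab hK hperf hoddE (by rw [he, hcardH]; omega)
  have hx2 := Zs.mul_self_of_orderOf_two hx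
  have hy2 := Zs.mul_self_of_orderOf_two hy
  have hxinv := Zs.inv_of_orderOf_two hx
  have hyinv := Zs.inv_of_orderOf_two hy
  have huinv : u⁻¹ = y * x := by rw [← hxy, mul_inv_rev, hxinv, hyinv]
  have huinvH : u⁻¹ ∈ H := H.inv_mem hu
  have huinv1 : u⁻¹ ≠ 1 := fun h' => hu1 (inv_eq_one.1 h')
  -- both involutions fix `a`
  have hxa : x • a = a := by
    apply hK.fix u⁻¹ huinvH huinv1
    have h1 : u⁻¹ * x = x * u := by
      rw [huinv, ← hxy]
      calc y * x * x = y * (x * x) := by group
        _ = x * x * y := by rw [hx2]; group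
        _ = x * (x * y) := by group
    rw [← mul_smul, h1, mul_smul, hK.fixa hu]
  have hya : y • a = a := by
    apply hK.fix u⁻¹ huinvH huinv1
    have h1 : u⁻¹ * y = y * u := by
      rw [huinv, ← hxy]
      exact mul_assoc y x y
    rw [← mul_smul, h1, mul_smul, hK.fixa hu]
  -- involutions of the stabiliser lie in `H`
  have hinvH : ∀ z : G, orderOf z = 2 → z • a = a → z ∈ H := by
    intro z hz hza
    by_contra hzH
    obtain ⟨v, hv, hva, hvb⟩ := hK.exists_conj h0 hba hza hzH
    have h1 : orderOf (v⁻¹ * z * v) = 2 := by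
      have := Zs.orderOf_two_conj hz v⁻¹
      rwa [inv_inv] at this
    have hmem : v⁻¹ * z * v ∈ (MulAction.stabilizer G a ⊓ MulAction.stabilizer G b : Subgroup G) :=
      Subgroup.mem_inf.2 ⟨MulAction.mem_stabilizer_iff.2 hva, MulAction.mem_stabilizer_iff.2 hvb⟩
    have h2 := orderOf_dvd_natCard
      (⟨v⁻¹ * z * v, hmem⟩ : ↥(MulAction.stabilizer G a ⊓ MulAction.stabilizer G b : Subgroup G))
    rw [Subgroup.orderOf_mk, h1] at h2
    obtain ⟨j, hj⟩ := hoddE
    omega
  have hxH := hinvH x hx hxa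
  have hyH := hinvH y hy hya
  -- a central involution of `H`
  haveI : Fact (Nat.Prime 2) := ⟨Nat.prime_two⟩
  haveI : Nontrivial H := ⟨⟨⟨u, hu⟩, 1, fun h' => hu1 (congrArg Subtype.val h')⟩⟩
  haveI hZnt : Nontrivial (Subgroup.center H) := hp2.center_nontrivial
  have hZ2 : IsPGroup 2 (Subgroup.center H) := hp2.to_subgroup _
  obtain ⟨m, hm⟩ := hZ2.exists_card_eq
  have hm0 : m ≠ 0 := by
    rintro rfl
    rw [pow_zero] at hm
    have := Finite.one_lt_card (α := Subgroup.center H)
    omega
  haveI : Fintype (Subgroup.center H) := Fintype.ofFinite _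
  obtain ⟨z₀', hz₀'⟩ := exists_prime_orderOf_dvd_card (G := Subgroup.center H) 2
    (by rw [← Nat.card_eq_fintype_card, hm]; exact dvd_pow_self 2 hm0)
  obtain ⟨z₀, hz₀⟩ : ∃ z₀ : G, z₀ = ((z₀' : H) : G) := ⟨_, rfl⟩
  have hz₀o : orderOf z₀ = 2 := by
    rw [hz₀, Subgroup.orderOf_coe, Subgroup.orderOf_coe, hz₀']
  have hz₀H : z₀ ∈ H := by rw [hz₀]; exact (z₀' : H).2
  have hz₀c : ∀ v ∈ H, z₀ * v = v * z₀ := by
    intro v hv
    have h1 := Subgroup.mem_center_iff.1 z₀'.2 ⟨v, hv⟩
    have h2 := congrArg (fun w : H => (w : G)) h1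
    simp only [Subgroup.coe_mul] at h2
    rw [hz₀]
    exact h2.symm
  -- `x` is central in `H`
  have hxc : ∀ v ∈ H, x * v = v * x := by
    intro v hv
    have hconj := h0.isConj_of_orderOf_two hab hoddE hz₀o hx
    rw [isConj_iff] at hconj
    obtain ⟨g, hg⟩ := hconj
    have hx1 := Zs.ne_one_of_orderOf_two hx
    have hga : g • a = a := by
      apply hK.fix x hxH hx1
      rw [← hg, mul_smul, mul_smul, inv_smul_smul, hK.fixa hz₀H]
    have hga' : g⁻¹ • a = a := by rw [inv_smul_eq_iff, hga]
    have hvg : g⁻¹ * v * g ∈ H := by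
      have := hK.conj_mem h0 hba hga' hv
      rwa [inv_inv] at this
    have h1 := hz₀c _ hvg
    calc x * v = g * (z₀ * (g⁻¹ * v * g)) * g⁻¹ := by rw [← hg]; group
      _ = g * ((g⁻¹ * v * g) * z₀) * g⁻¹ := by rw [h1]
      _ = v * (g * z₀ * g⁻¹) := by group
      _ = v * x := by rw [hg]
  have hcomm := hxc y hyH
  have hu2 : u * u = 1 := by
    rw [← hxy]
    calc x * y * (x * y) = x * (y * x) * y := by group
      _ = x * (x * y) * y := by rw [hcomm]
      _ = (x * x) * (y * y) := by group
      _ = 1 := by rw [hx2, hy2, one_mul]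
  exact Zs.orderOf_two_of hu2 hu1

end Cfsg.Agent.S0883
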