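import Cfsg.Statements.S0890
import Cfsg.Agent.Lib.Helper3.IndMax3
import Cfsg.Agent.Lib.Helper3.IndMax4

set_option autoImplicit false
open Cfsg

namespace Cfsg.Agent.S0890

/-- Let L ≤ H < G with L normal in G, H a maximal subgroup and G / L solvable. Let ϑ be an irreducible character of H whose restriction to L is irreducible and whose induction χ to G is irreducible. Then there is a normal subgroup M of G containing L such that the restriction of χ to M is not a natural-number multiple of a single irreducible character of M. -/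
theorem result {G : Type*} [Group G] [Fintype G] (L H : Subgroup G) [L.Normal] (hLH : L ≤ H) (hmax : IsCoatom H) (hsolv : Group.IsSolvable (G ⧸ L)) (ϑ : H → ℂ) (hϑ : Cfsg.IsIrrCharacter H ϑ) (hϑL : Cfsg.IsIrrCharacter L (fun x : L => ϑ ⟨(x : G), hLH x.2⟩)) (hind : Cfsg.IsIrrCharacter G (Cfsg.indFun H ϑ)) : ∃ M : Subgroup G, M.Normal ∧ L ≤ M ∧ ¬ ∃ (φ : M → ℂ) (e : ℕ), Cfsg.IsIrrCharacter M φ ∧ (fun m : M => Cfsg.indFun H ϑ m) = (e : ℂ) • φ := by
  classical
  by_contra hcon
  push Not at hcon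
  obtain ⟨M, hMn, hKM, hinf, hprod, hcase⟩ :=
    Cfsg.Agent.Lib.Helper3.IndMax.gt_main L H hLH hmax hsolv
  have hKn : H.normalCore.Normal := Subgroup.normalCore_normal H
  have hKH : H.normalCore ≤ H := Subgroup.normalCore_le H
  have hLK : L ≤ H.normalCore := Subgroup.normal_le_normalCore.2 hLH
  obtain ⟨φ', f, hφ', hKhom⟩ := hcon H.normalCore hKn hLK
  obtain ⟨ψ, e, hψ, hMhom⟩ := hcon M hMn (hLK.trans hKM)
  obtain ⟨hee, hψ1⟩ := Cfsg.Agent.Lib.Helper3.IndMax.sq_eq_index H L hLH ϑ hϑ hϑL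
    H.normalCore M hKH hKM hinf hLK hprod φ' f hφ' hKhom ψ e hψ hMhom
  rcases hcase with hpr | ⟨N, hNn, hMN, hne, hcop⟩
  · rw [← hee] at hpr
    by_cases he1 : e = 1
    · rw [he1] at hpr
      exact Nat.not_prime_one hpr
    · exact Nat.not_prime_mul he1 he1 hpr
  · obtain ⟨ψ', e', hψ', hNhom⟩ := hcon N hNn (hLK.trans (hKM.trans hMN))
    have hχ1 : Cfsg.indFun H ϑ 1 ≠ 0 := by
      rw [Cfsg.Agent.Lib.Helper6.indFun_one]
      apply mul_ne_zero
      · have : H.index ≠ 0 := Subgroup.index_ne_zero_of_finite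
        exact_mod_cast this
      · exact Cfsg.Agent.Lib.Helper6.IsIrrCharacter.apply_one_ne_zero hϑ
    have hee' : e' = e := Cfsg.Agent.Lib.Helper3.IndMax.mult_eq (Cfsg.indFun H ϑ) hχ1 M N hMN
      ψ e hψ hMhom ψ' e' hψ' hNhom (by rw [hee]; exact hcop)
    subst hee'
    have hprodN : ∀ g : G, ∃ x ∈ N, ∃ h ∈ H, g = x * h := by
      intro g
      obtain ⟨m, hm, h, hh, hg⟩ := hprod g
      exact ⟨m, hMN hm, h, hh, hg⟩
    have hle := Cfsg.Agent.Lib.Helper3.IndMax.inf_le_normalCore H L hLH ϑ hϑ hϑL inferInstance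
      N hNn (hLK.trans (hKM.trans hMN)) hprodN ψ' e' hψ' hNhom hee
    apply hne
    apply le_antisymm hMN
    intro n hn
    obtain ⟨m, hm, h, hh, rfl⟩ := hprod n
    have hhN : h ∈ N := by
      have : h = m⁻¹ * (m * h) := by group
      rw [this]
      exact N.mul_mem (N.inv_mem (hMN hm)) hn
    have hhK : h ∈ H.normalCore := hle ⟨hhN, hh⟩
    exact M.mul_mem hm (hKM hhK)

end Cfsg.Agent.S0890
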