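import Cfsg.Statements.S0893
import Mathlib
import Cfsg.Agent.Lib.Helper6.Extraspecial
import Cfsg.Agent.Lib.Helper6.CharMisc
import Cfsg.Agent.Lib.Helper6.Constituent
import Cfsg.Agent.S0146

set_option autoImplicit false
open Cfsg

namespace Cfsg.Agent.S0893

/-- Let P be an extraspecial p-group of order p ^ (2 * n + 1), A an abelian subgroup of order p ^ (n + 1), and λ a character of A of degree 1 that is not identically 1 on the elements of A lying in the centre of P. Then the function induced from λ to P is an irreducible character of P and vanishes at every element outside the centre. -/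
theorem result {P : Type*} [Group P] [Fintype P] (p n : ℕ) [Fact p.Prime] (hP : Cfsg.IsExtraspecial p P) (hcard : Nat.card P = p ^ (2 * n + 1)) (A : Subgroup P) (hab : ∀ a ∈ A, ∀ b ∈ A, a * b = b * a) (hA : Nat.card A = p ^ (n + 1)) (lam : A → ℂ) (hlam : Cfsg.IsCharacter A lam ∧ lam 1 = 1) (hZ : ∃ a : A, (a : P) ∈ Subgroup.center P ∧ lam a ≠ 1) : Cfsg.IsIrrCharacter P (Cfsg.indFun A lam) ∧ ∀ x : P, x ∉ Subgroup.center P → Cfsg.indFun A lam x = 0 := by
  classical
  have _ := hab
  have : Fintype A := Fintype.ofFinite A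
  have hp : p.Prime := Fact.out
  obtain ⟨hlamch, hlam1⟩ := hlam
  have hlamirr := Cfsg.Agent.Lib.Helper6.IsCharacter.isIrr_of_apply_one_eq_one hlamch hlam1
  have hind : Cfsg.IsCharacter P (Cfsg.indFun A lam) :=
    Cfsg.Agent.Lib.Helper6.IsCharacter.indFun A hlamch
  -- degree of the induced character
  have hidx : A.index = p ^ n := by
    have h1 := Subgroup.index_mul_card A
    rw [hA, hcard] at h1
    have : p ^ (2 * n + 1) = p ^ n * p ^ (n + 1) := by ring
    rw [this] at h1
    exact Nat.eq_of_mul_eq_mul_right (pow_pos hp.pos _) h1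
  have hind1 : Cfsg.indFun A lam 1 = (p : ℂ) ^ n := by
    rw [Cfsg.Agent.Lib.Helper6.indFun_one, hlam1, mul_one, hidx]
    push_cast
    rfl
  have hind1ne : Cfsg.indFun A lam 1 ≠ 0 := by
    rw [hind1]
    exact pow_ne_zero _ (by exact_mod_cast hp.ne_zero)
  obtain ⟨⟨χ, hχ⟩, hcon⟩ := Cfsg.Agent.Lib.Helper6.IsCharacter.exists_constituent hind hind1ne
  have hcon' : Cfsg.classInner (Cfsg.indFun A lam) χ ≠ 0 := hcon
  have hχch := Cfsg.Agent.Lib.Helper6.IsIrrCharacter.isCharacter hχ
  have hχcf := Cfsg.Agent.Lib.Helper6.IsIrrCharacter.isClassFunction hχ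
  -- χ is not linear
  have hχ1 : χ 1 ≠ 1 := by
    intro h1
    rw [Cfsg.Agent.S0146.result A lam χ hχcf] at hcon'
    have hresch : Cfsg.IsCharacter A (fun a : A => χ a) :=
      Cfsg.Agent.Lib.Helper6.IsCharacter.restrict A hχch
    have hresirr := Cfsg.Agent.Lib.Helper6.IsCharacter.isIrr_of_apply_one_eq_one hresch h1
    rw [Cfsg.Agent.Lib.Helper6.classInner_isIrrCharacter hlamirr hresirr] at hcon'
    have heq : lam = fun a : A => χ a := by
      by_contra hne
      rw [if_neg hne] at hcon'
      exact hcon' rfl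
    obtain ⟨a, haZ, hane⟩ := hZ
    apply hane
    rw [heq]
    -- χ is trivial on the commutator subgroup
    have hker := Abelianization.commutator_subset_ker
      (Cfsg.Agent.Lib.Helper6.linearCharHom hχch h1)
    have hcomm : commutator P = Subgroup.center P := hP.1.2.2
    rw [← hcomm] at haZ
    have h2 := MonoidHom.mem_ker.mp (hker haZ)
    have h3 := congrArg (fun u : ℂˣ => (u : ℂ)) h2
    simpa [Cfsg.Agent.Lib.Helper6.linearCharHom_apply] using h3
  have hdeg := Cfsg.Agent.Lib.Helper6.extraspecial_nonlinear_degree p n hP hcard hχ hχ1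
  have heq : Cfsg.indFun A lam = χ :=
    Cfsg.Agent.Lib.Helper6.IsCharacter.eq_of_constituent_of_apply_one_eq hind hχ hcon'
      (by rw [hind1, hdeg])
  rw [heq]
  exact ⟨hχ, (Cfsg.Agent.Lib.Helper6.extraspecial_nonlinear p hP hχ hχ1).1⟩


end Cfsg.Agent.S0893
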