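import Cfsg.Statements.S0894
import Mathlib
import Cfsg.Agent.Lib.Helper6.Extraspecial
import Cfsg.Agent.Lib.Helper6.Constituent

set_option autoImplicit false
open Cfsg

namespace Cfsg.Agent.S0894

/-- Let P be an extraspecial p-group of order p ^ (2 * n + 1). Then every irreducible character of P has degree 1 or p ^ n, and exactly p - 1 of them have degree p ^ n. -/
theorem result {P : Type*} [Group P] [Finite P] (p n : ℕ) [Fact p.Prime] (hP : Cfsg.IsExtraspecial p P) (hcard : Nat.card P = p ^ (2 * n + 1)) : (∀ χ : Cfsg.IrrCharacter P, (χ : P → ℂ) 1 = 1 ∨ (χ : P → ℂ) 1 = (p : ℂ) ^ n) ∧ Nat.card {χ : Cfsg.IrrCharacter P // (χ : P → ℂ) 1 = (p : ℂ) ^ n} = p - 1 := by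
  classical
  have : Fintype P := Fintype.ofFinite P
  have : Fintype (Cfsg.IrrCharacter P) := Fintype.ofFinite _
  have hp : p.Prime := Fact.out
  have hp0 : (p : ℂ) ≠ 0 := by exact_mod_cast hp.ne_zero
  -- degrees as natural numbers
  have hdegnat : ∀ χ : Cfsg.IrrCharacter P, (χ : P → ℂ) 1 = (Cfsg.charDegree (χ : P → ℂ) : ℂ) :=
    fun χ => Cfsg.Agent.Lib.Helper6.IsCharacter.apply_one_eq_charDegree
      (Cfsg.Agent.Lib.Helper6.IsIrrCharacter.isCharacter χ.2)
  have hnl : ∀ χ : Cfsg.IrrCharacter P, (χ : P → ℂ) 1 ≠ 1 →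
      Cfsg.charDegree (χ : P → ℂ) = p ^ n := by
    intro χ h1
    obtain ⟨_, h2⟩ := Cfsg.Agent.Lib.Helper6.extraspecial_nonlinear p hP χ.2 h1
    rw [hcard, hdegnat χ] at h2
    have h3 : p * Cfsg.charDegree (χ : P → ℂ) ^ 2 = p ^ (2 * n + 1) := by exact_mod_cast h2
    have h4 : Cfsg.charDegree (χ : P → ℂ) ^ 2 = (p ^ n) ^ 2 := by
      have : p ^ (2 * n + 1) = p * (p ^ n) ^ 2 := by ring
      rw [this] at h3
      exact Nat.eq_of_mul_eq_mul_left hp.pos h3
    exact Nat.pow_left_injective (n := 2) (by norm_num) h4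
  have hdeg : ∀ χ : Cfsg.IrrCharacter P, (χ : P → ℂ) 1 = 1 ∨ (χ : P → ℂ) 1 = (p : ℂ) ^ n := by
    intro χ
    by_cases h1 : (χ : P → ℂ) 1 = 1
    · exact Or.inl h1
    · right
      rw [hdegnat χ, hnl χ h1]
      push_cast
      rfl
  refine ⟨hdeg, ?_⟩
  -- the number of linear characters
  have hlin := Cfsg.Agent.Lib.Helper6.card_linear_characters (G := P)
  have hidx : (commutator P).index = p ^ (2 * n) := by
    obtain ⟨⟨_, _, hcomm⟩, hZcard⟩ := hP
    have h1 := Subgroup.index_mul_card (commutator P)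
    rw [hcomm, hZcard, hcard] at h1
    rw [hcomm]
    have : p ^ (2 * n + 1) = p ^ (2 * n) * p := by ring
    rw [this] at h1
    exact Nat.eq_of_mul_eq_mul_right hp.pos h1
  rw [hidx, Nat.card_eq_fintype_card, Fintype.card_subtype] at hlin
  -- sum of squares
  have hsq := Cfsg.Agent.Lib.Helper6.sum_sq_degree (G := P)
  have hsq' : ∑ χ : Cfsg.IrrCharacter P, Cfsg.charDegree (χ : P → ℂ) ^ 2 = p ^ (2 * n + 1) := by
    rw [hcard] at hsq
    have : ∑ χ : Cfsg.IrrCharacter P, ((Cfsg.charDegree (χ : P → ℂ) : ℕ) : ℂ) ^ 2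
        = ((p ^ (2 * n + 1) : ℕ) : ℂ) := by
      rw [← hsq]
      exact Finset.sum_congr rfl (fun χ _ => by rw [hdegnat χ])
    exact_mod_cast this
  rw [← Finset.sum_filter_add_sum_filter_not Finset.univ
    (fun χ : Cfsg.IrrCharacter P => (χ : P → ℂ) 1 = 1)] at hsq'
  have hs1 : ∑ χ ∈ Finset.univ.filter (fun χ : Cfsg.IrrCharacter P => (χ : P → ℂ) 1 = 1),
      Cfsg.charDegree (χ : P → ℂ) ^ 2 = p ^ (2 * n) := by
    rw [← hlin, Finset.card_eq_sum_ones]
    apply Finset.sum_congr rfl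
    intro χ hχ
    have h1 : (χ : P → ℂ) 1 = 1 := (Finset.mem_filter.mp hχ).2
    rw [hdegnat χ] at h1
    have : Cfsg.charDegree (χ : P → ℂ) = 1 := by exact_mod_cast h1
    rw [this, one_pow]
  have hs2 : ∑ χ ∈ Finset.univ.filter (fun χ : Cfsg.IrrCharacter P => ¬ (χ : P → ℂ) 1 = 1),
      Cfsg.charDegree (χ : P → ℂ) ^ 2
      = (Finset.univ.filter (fun χ : Cfsg.IrrCharacter P => ¬ (χ : P → ℂ) 1 = 1)).card
        * p ^ (2 * n) := by
    rw [Finset.card_eq_sum_ones, Finset.sum_mul]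
    apply Finset.sum_congr rfl
    intro χ hχ
    have h1 : ¬ (χ : P → ℂ) 1 = 1 := (Finset.mem_filter.mp hχ).2
    rw [hnl χ h1, one_mul]
    ring
  rw [hs1, hs2] at hsq'
  have hNL : (Finset.univ.filter (fun χ : Cfsg.IrrCharacter P => ¬ (χ : P → ℂ) 1 = 1)).card
      = p - 1 := by
    have h1 : p ^ (2 * n + 1) = p ^ (2 * n) + (p - 1) * p ^ (2 * n) := by
      have : p = (p - 1) + 1 := by have := hp.pos; omega
      calc p ^ (2 * n + 1) = p * p ^ (2 * n) := by ring
        _ = ((p - 1) + 1) * p ^ (2 * n) := by rw [← this]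
        _ = p ^ (2 * n) + (p - 1) * p ^ (2 * n) := by ring
    rw [h1] at hsq'
    have h2 := Nat.add_left_cancel hsq'
    exact Nat.eq_of_mul_eq_mul_right (pow_pos hp.pos _) h2
  -- the case n = 0 is impossible
  have hn : n ≠ 0 := by
    intro h0
    have hempty : (Finset.univ.filter (fun χ : Cfsg.IrrCharacter P => ¬ (χ : P → ℂ) 1 = 1)) = ∅ := by
      apply Finset.filter_eq_empty_iff.mpr
      intro χ _
      push Not
      rcases hdeg χ with h | h
      · exact h
      · rw [h, h0, pow_zero]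
    rw [hempty, Finset.card_empty] at hNL
    have := hp.one_lt
    omega
  rw [Nat.card_eq_fintype_card, Fintype.card_subtype, ← hNL]
  congr 1
  apply Finset.filter_congr
  intro χ _
  have hpn : (p : ℂ) ^ n ≠ 1 := by
    have h1 : 1 < p ^ n := Nat.one_lt_pow hn hp.one_lt
    have : ((p ^ n : ℕ) : ℂ) ≠ 1 := by
      intro h
      have : p ^ n = 1 := by exact_mod_cast h
      omega
    exact_mod_cast this
  constructor
  · intro h
    rw [h]
    exact hpn
  · intro h
    rcases hdeg χ with h1 | h1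
    · exact absurd h1 h
    · exact h1


end Cfsg.Agent.S0894
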