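import Cfsg.Statements.S0895
import Mathlib
import Cfsg.Agent.Lib.Helper8.FS2
-- import your own Cfsg.Agent.* helpers here

set_option autoImplicit false
open Cfsg

namespace Cfsg.Agent.S0895

open Cfsg.Agent.Lib.Helper6 Cfsg.Agent.Lib.Helper8.FS
open scoped ComplexConjugate


theorem result' {G : Type*} [Group G] [Fintype G] (χ : G → ℂ) (hχ : Cfsg.IsIrrCharacter G χ) (hreal : ∀ g : G, (χ g).im = 0) (d : ℕ) (hd : χ 1 = d) (hodd : Odd d) : (Nat.card G : ℂ)⁻¹ * ∑ s : G, χ (s * s) = 1 := by
  classical
  obtain ⟨n, ρ, hirr, rfl⟩ := hχ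
  have hfs : (Nat.card G : ℂ)⁻¹ * ∑ s : G, ρ.character (s * s) = fsInd ρ.character := rfl
  rw [hfs]
  have hreal' : ∀ g : G, conj (ρ.character g) = ρ.character g :=
    fun g => Complex.conj_eq_iff_im.mpr (hreal g)
  have hn : n = d := by
    rw [Representation.char_one] at hd
    simp only [Module.finrank_fintype_fun_eq_card, Fintype.card_fin] at hd
    exact_mod_cast hd
  obtain ⟨M, hM0, hMinv⟩ := exists_isInv_of_real hreal'
  have hu := hMinv.isUnit hM0
  have htr := transpose_eq_of_isInv hMinv
  have hdet : M.det = (fsInd ρ.character) ^ n * M.det := by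
    have h1 := congrArg Matrix.det htr
    rw [Matrix.det_transpose, Matrix.det_smul, Fintype.card_fin] at h1
    exact h1
  have hdet0 : M.det ≠ 0 := by
    have := (Matrix.isUnit_iff_isUnit_det M).mp hu
    exact this.ne_zero
  have hpow : (fsInd ρ.character) ^ n = 1 := by
    have h2 : (1 : ℂ) * M.det = (fsInd ρ.character) ^ n * M.det := by rw [one_mul]; exact hdet
    exact (mul_right_cancel₀ hdet0 h2).symm
  rcases fsInd_irr_of_real ⟨ρ.character, isIrrCharacter_character ρ⟩ hreal' with h | h
  · exact h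
  · exfalso
    have h3 : fsInd ρ.character = -1 := h
    rw [h3, hn, Odd.neg_one_pow hodd] at hpow
    norm_num at hpow





/-- Let χ be a real-valued irreducible character of a finite group G whose degree is an odd natural number. Then the average over s in G of χ (s * s) equals 1. -/
theorem result {G : Type*} [Group G] [Fintype G] (χ : G → ℂ) (hχ : Cfsg.IsIrrCharacter G χ) (hreal : ∀ g : G, (χ g).im = 0) (d : ℕ) (hd : χ 1 = d) (hodd : Odd d) : (Nat.card G : ℂ)⁻¹ * ∑ s : G, χ (s * s) = 1 := by
  exact result' χ hχ hreal d hd hodd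

end Cfsg.Agent.S0895
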