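import Cfsg.Statements.S0900
import Cfsg.Agent.Lib.Helper6.Ramified

set_option autoImplicit false
open Cfsg

namespace Cfsg.Agent.S0900

open scoped ComplexConjugate

/-- Let N be a normal subgroup of the finite group G, χ an irreducible character of G and ϑ an irreducible character of N having nonzero inner product with the restriction of χ. Consider: (a) the restriction of χ to N is e • ϑ for a natural number e with e ^ 2 equal to the index of N; (b) χ vanishes outside N and ϑ is invariant under conjugation by G; (c) ϑ is invariant and every irreducible character of G having nonzero inner product with the function induced from ϑ equals χ. Then (a) ↔ (b) and (a) ↔ (c). -/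
theorem result {G : Type*} [Group G] [Fintype G] (N : Subgroup G) [hN : N.Normal] [Fintype N] (χ : G → ℂ) (hχ : Cfsg.IsIrrCharacter G χ) (ϑ : N → ℂ) (hϑ : Cfsg.IsIrrCharacter N ϑ) (hcon : Cfsg.classInner (fun n : N => χ n) ϑ ≠ 0) : ((∃ e : ℕ, (fun n : N => χ n) = (e : ℂ) • ϑ ∧ e ^ 2 = N.index) ↔ ((∀ g : G, g ∉ N → χ g = 0) ∧ ∀ (g : G) (n : N), ϑ ⟨g * n * g⁻¹, hN.conj_mem (n : G) n.2 g⟩ = ϑ n)) ∧ ((∃ e : ℕ, (fun n : N => χ n) = (e : ℂ) • ϑ ∧ e ^ 2 = N.index) ↔ (∀ (g : G) (n : N), ϑ ⟨g * n * g⁻¹, hN.conj_mem (n : G) n.2 g⟩ = ϑ n ∧ ∀ ψ : G → ℂ, Cfsg.IsIrrCharacter G ψ → Cfsg.classInner (Cfsg.indFun N ϑ) ψ ≠ 0 → ψ = χ)) := by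
  classical
  have : Fintype (Cfsg.IrrCharacter G) := Fintype.ofFinite _
  have hGc := Cfsg.Agent.Lib.Helper6.card_ne_zero_complex G
  have hNc := Cfsg.Agent.Lib.Helper6.card_ne_zero_complex N
  have hχcf := Cfsg.Agent.Lib.Helper6.IsIrrCharacter.isClassFunction hχ
  have hχch := Cfsg.Agent.Lib.Helper6.IsIrrCharacter.isCharacter hχ
  set χN : N → ℂ := fun n : N => χ n with hχN
  obtain ⟨m, hm⟩ := Cfsg.Agent.Lib.Helper6.IsCharacter.classInner_irr_nat
    (Cfsg.Agent.Lib.Helper6.IsCharacter.restrict N hχch) hϑ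
  have hm' : Cfsg.classInner χN ϑ = (m : ℂ) := hm
  have hm0 : (m : ℂ) ≠ 0 := by rw [← hm']; exact hcon
  have hinv_iff : (∀ (g : G) (n : N), ϑ ⟨g * n * g⁻¹, hN.conj_mem (n : G) n.2 g⟩ = ϑ n)
      ↔ ∀ g : G, Cfsg.Agent.Lib.Helper6.conjFun N hN ϑ g = ϑ :=
    ⟨fun h g => funext (h g), fun h g n => congrFun (h g) n⟩
  have hϑϑ : Cfsg.classInner ϑ ϑ = 1 := by
    rw [Cfsg.Agent.Lib.Helper6.classInner_isIrrCharacter hϑ hϑ, if_pos rfl]
  have keyA : ∀ e : ℕ, χN = (e : ℂ) • ϑ → e = m := by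
    intro e he
    have h1 : Cfsg.classInner χN ϑ = (e : ℂ) := by
      rw [he, Cfsg.Agent.Lib.Helper6.classInner_smul_left, hϑϑ, mul_one]
    rw [hm'] at h1
    exact_mod_cast h1.symm
  have keyB : (∀ g : G, Cfsg.Agent.Lib.Helper6.conjFun N hN ϑ g = ϑ) → χN = (m : ℂ) • ϑ := by
    intro hinv
    have h1 := Cfsg.Agent.Lib.Helper6.restrict_eq_smul_of_invariant N hN hχ hϑ hinv hcon
    rw [hm] at h1
    exact h1
  have keyC : χN = (m : ℂ) • ϑ →
      ∑ n : N, χ n * conj (χ n) = (m : ℂ) ^ 2 * (Nat.card N : ℂ) := by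
    intro h
    have h1 : Cfsg.classInner χN χN = (m : ℂ) ^ 2 := by
      rw [h, Cfsg.Agent.Lib.Helper6.classInner_smul_left,
        Cfsg.Agent.Lib.Helper6.classInner_smul_right, hϑϑ, Complex.conj_natCast]
      ring
    unfold Cfsg.classInner at h1
    have h2 : ∑ n : N, χN n * conj (χN n) = (m : ℂ) ^ 2 * (Nat.card N : ℂ) := by
      field_simp at h1
      linear_combination h1
    exact h2
  have hsplit := Cfsg.Agent.Lib.Helper6.sum_norm_sq_split N hχ
  have hidx : (Nat.card G : ℂ) = (N.index : ℂ) * (Nat.card N : ℂ) := by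
    rw [← Nat.cast_mul, Subgroup.index_mul_card]
  have hind : Cfsg.IsCharacter G (Cfsg.indFun N ϑ) :=
    Cfsg.Agent.Lib.Helper6.IsCharacter.indFun N (Cfsg.Agent.Lib.Helper6.IsIrrCharacter.isCharacter hϑ)
  obtain ⟨μ, hμ, hμi⟩ := Cfsg.Agent.Lib.Helper6.IsCharacter.exists_mult hind
  have hμχ : μ ⟨χ, hχ⟩ = m := by
    have h1 := hμi ⟨χ, hχ⟩
    rw [Cfsg.Agent.S0146.result N ϑ χ hχcf] at h1
    have h2 : Cfsg.classInner ϑ χN = (m : ℂ) := by
      rw [← Cfsg.Agent.Lib.Helper6.classInner_conj_symm, hm', Complex.conj_natCast]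
    have h3 : Cfsg.classInner ϑ (fun h : N => χ h) = (m : ℂ) := h2
    rw [h3] at h1
    exact_mod_cast h1.symm
  have hnormind : (∀ g : G, Cfsg.Agent.Lib.Helper6.conjFun N hN ϑ g = ϑ) →
      ∑ φ, μ φ * μ φ = N.index := by
    intro hinv
    have h1 := Cfsg.Agent.Lib.Helper6.classInner_indFun_self_of_invariant N hN hϑ hinv
    rw [hμ, Cfsg.Agent.Lib.Helper6.classInner_sum_irr] at h1
    exact_mod_cast h1
  -- vanishing outside `N` in terms of the second sum
  have hvan_iff : (∀ g : G, g ∉ N → χ g = 0) ↔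
      ∑ g ∈ Finset.univ.filter (fun g : G => g ∉ N), χ g * conj (χ g) = 0 := by
    constructor
    · intro h
      apply Finset.sum_eq_zero
      intro g hg
      have hg' : g ∉ N := by simpa using hg
      rw [h g hg', zero_mul]
    · intro h g hg
      have h1 : ∀ x : G, χ x * conj (χ x) = ((Complex.normSq (χ x) : ℝ) : ℂ) :=
        fun x => Complex.mul_conj (χ x)
      rw [Finset.sum_congr rfl (fun x _ => h1 x), ← Complex.ofReal_sum] at h
      have h2 : ∑ x ∈ Finset.univ.filter (fun g : G => g ∉ N), Complex.normSq (χ x) = 0 := by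
        exact_mod_cast h
      have h3 := (Finset.sum_eq_zero_iff_of_nonneg (fun x _ => Complex.normSq_nonneg (χ x))).mp h2
        g (by simpa using hg)
      exact Complex.normSq_eq_zero.mp h3
  refine ⟨⟨?_, ?_⟩, ⟨?_, ?_⟩⟩
  · -- (a) → (b)
    rintro ⟨e, he, he2⟩
    have hem := keyA e he
    rw [hem] at he he2
    have hinv := Cfsg.Agent.Lib.Helper6.invariant_of_restrict_eq_smul N hN hχcf hm0 he
    refine ⟨?_, hinv_iff.mpr hinv⟩
    rw [hvan_iff]
    have h1 := keyC he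
    have h2 : (m : ℂ) ^ 2 = (N.index : ℂ) := by exact_mod_cast he2
    rw [h1, h2, ← hidx] at hsplit
    linear_combination hsplit
  · -- (b) → (a)
    rintro ⟨hvan, hinv'⟩
    have hinv := hinv_iff.mp hinv'
    have he := keyB hinv
    refine ⟨m, he, ?_⟩
    rw [(hvan_iff.mp hvan), add_zero, keyC he, hidx] at hsplit
    have h1 : (m : ℂ) ^ 2 = (N.index : ℂ) := mul_right_cancel₀ hNc hsplit
    exact_mod_cast h1
  · -- (a) → (c)
    rintro ⟨e, he, he2⟩ g n
    have hem := keyA e he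
    rw [hem] at he he2
    have hinv := Cfsg.Agent.Lib.Helper6.invariant_of_restrict_eq_smul N hN hχcf hm0 he
    refine ⟨hinv_iff.mpr hinv g n, ?_⟩
    intro ψ hψ hne
    by_contra hψχ
    have hμψ : μ ⟨ψ, hψ⟩ ≠ 0 := by
      intro h0
      apply hne
      rw [hμi ⟨ψ, hψ⟩, h0]
      simp
    have hsum := hnormind hinv
    have hne' : (⟨χ, hχ⟩ : Cfsg.IrrCharacter G) ≠ ⟨ψ, hψ⟩ := by
      intro h
      apply hψχ
      exact (congrArg Subtype.val h).symm
    have hle : ∑ φ ∈ ({⟨χ, hχ⟩, ⟨ψ, hψ⟩} : Finset (Cfsg.IrrCharacter G)), μ φ * μ φ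
        ≤ ∑ φ, μ φ * μ φ :=
      Finset.sum_le_sum_of_subset (Finset.subset_univ _)
    rw [Finset.sum_pair hne', hsum, hμχ, ← he2] at hle
    have hpos : 0 < μ ⟨ψ, hψ⟩ * μ ⟨ψ, hψ⟩ := Nat.mul_pos (Nat.pos_of_ne_zero hμψ)
      (Nat.pos_of_ne_zero hμψ)
    nlinarith
  · -- (c) → (a)
    intro h
    have hinv' : ∀ (g : G) (n : N), ϑ ⟨g * n * g⁻¹, hN.conj_mem (n : G) n.2 g⟩ = ϑ n :=
      fun g n => (h g n).1
    have hall := (h 1 1).2
    have hinv := hinv_iff.mp hinv'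
    have he := keyB hinv
    refine ⟨m, he, ?_⟩
    have hsum := hnormind hinv
    have hs : ∑ φ, μ φ * μ φ = μ ⟨χ, hχ⟩ * μ ⟨χ, hχ⟩ := by
      refine Finset.sum_eq_single (⟨χ, hχ⟩ : Cfsg.IrrCharacter G) ?_ ?_
      · intro φ _ hφ
        have h0' : μ φ = 0 := by
          by_contra h0
          apply hφ
          apply Subtype.ext
          apply hall φ.1 φ.2
          rw [hμi φ]
          exact_mod_cast h0
        rw [h0', zero_mul]
      · intro h0
        exact absurd (Finset.mem_univ _) h0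
    rw [hs, hμχ] at hsum
    rw [sq]; exact hsum

end Cfsg.Agent.S0900
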