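import Cfsg.Statements.S0901
import Mathlib

set_option autoImplicit false
open Cfsg

namespace Cfsg.Agent.S0901


theorem part1 (p : ℕ) [hp : Fact p.Prime] (M : Ideal Cfsg.AlgInt) (hM : Cfsg.IsPModular p M)
    (ε₁ ε₂ : Cfsg.AlgInt) (h1 : ∃ m : ℕ, ¬ p ∣ m ∧ (ε₁ : ℂ) ^ m = 1)
    (h2 : ∃ m : ℕ, ¬ p ∣ m ∧ (ε₂ : ℂ) ^ m = 1) (hd : ε₁ - ε₂ ∈ M) : ε₁ = ε₂ := by
  obtain ⟨m₁, hm₁, he₁⟩ := h1
  obtain ⟨m₂, hm₂, he₂⟩ := h2
  have he₁' : ε₁ ^ m₁ = 1 := Subtype.ext (by simpa using he₁)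
  have he₂' : ε₂ ^ m₂ = 1 := Subtype.ext (by simpa using he₂)
  by_contra hne
  obtain ⟨m, hmdef⟩ : ∃ m, m = m₁ * m₂ := ⟨_, rfl⟩
  have hpm : ¬ p ∣ m := by
    rw [hmdef]
    intro h
    rcases (Nat.Prime.dvd_mul hp.out).1 h with h | h
    · exact hm₁ h
    · exact hm₂ h
  have hm0 : m ≠ 0 := by
    rintro rfl
    exact hpm (dvd_zero p)
  have e1 : ε₁ ^ m = 1 := by rw [hmdef, pow_mul, he₁', one_pow]
  have e2 : ε₂ ^ m = 1 := by rw [hmdef, mul_comm, pow_mul, he₂', one_pow]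
  -- ζ = ε₁ * ε₂^(m-1)
  obtain ⟨ζ, hζ⟩ : ∃ ζ : Cfsg.AlgInt, ζ = ε₁ * ε₂ ^ (m - 1) := ⟨_, rfl⟩
  have hε₂inv : ε₂ * ε₂ ^ (m - 1) = 1 := by
    rw [← pow_succ', Nat.sub_add_cancel (Nat.pos_of_ne_zero hm0), e2]
  have hζm : ζ ^ m = 1 := by
    rw [hζ, mul_pow, e1, one_mul, ← pow_mul, mul_comm, pow_mul, e2, one_pow]
  have hζ1 : ζ - 1 = (ε₁ - ε₂) * ε₂ ^ (m - 1) := by
    rw [hζ, sub_mul, hε₂inv]
  have hζM : ζ - 1 ∈ M := by
    rw [hζ1]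
    exact M.mul_mem_right _ hd
  have hζne : ζ - 1 ≠ 0 := by
    intro h0
    rw [hζ1] at h0
    rcases mul_eq_zero.1 h0 with h | h
    · exact hne (sub_eq_zero.1 h)
    · have : ε₂ * ε₂ ^ (m - 1) = 0 := by rw [h, mul_zero]
      rw [hε₂inv] at this
      exact one_ne_zero this
  have hgeom : (∑ i ∈ Finset.range m, ζ ^ i) * (ζ - 1) = 0 := by
    rw [geom_sum_mul, hζm, sub_self]
  have hsum0 : ∑ i ∈ Finset.range m, ζ ^ i = 0 := by
    rcases mul_eq_zero.1 hgeom with h | h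
    · exact h
    · exact absurd h hζne
  -- reduce mod M
  have hπζ : Ideal.Quotient.mk M ζ = 1 := by
    have := Ideal.Quotient.eq.2 hζM
    simpa using this
  have hmM : ((m : ℕ) : Cfsg.AlgInt ⧸ M) = 0 := by
    have := congrArg (Ideal.Quotient.mk M) hsum0
    rw [map_sum, map_zero] at this
    simp only [map_pow, hπζ, one_pow, Finset.sum_const, Finset.card_range, nsmul_eq_mul,
      mul_one] at this
    exact this
  have hpM : ((p : ℕ) : Cfsg.AlgInt ⧸ M) = 0 := by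
    have := Ideal.Quotient.eq_zero_iff_mem.2 hM.2.2
    simpa using this
  have hcop : Nat.Coprime m p := (Nat.Coprime.symm ((Nat.Prime.coprime_iff_not_dvd hp.out).2 hpm))
  have hone : (1 : Cfsg.AlgInt ⧸ M) = 0 := by
    have hb := Nat.gcd_eq_gcd_ab m p
    rw [hcop] at hb
    have h3 := congrArg (fun z : ℤ => (z : Cfsg.AlgInt ⧸ M)) hb
    simp only [Int.cast_natCast, Int.cast_add, Int.cast_mul, Nat.cast_one] at h3
    rw [hmM, hpM] at h3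
    simpa using h3
  haveI := hM.2.1
  haveI : Nontrivial (Cfsg.AlgInt ⧸ M) := Ideal.Quotient.nontrivial_iff.2 hM.2.1.ne_top
  exact one_ne_zero hone



theorem exists_pow_eq_one_of_pow_eq {k : Type*} [Field k] (x : k) (hx0 : x ≠ 0) (i j : ℕ)
    (hij : i ≠ j) (hpow' : x ^ i = x ^ j) : ∃ n : ℕ, n ≠ 0 ∧ x ^ n = 1 := by
  rcases Nat.lt_or_gt_of_ne hij with h | h
  · refine ⟨j - i, by omega, ?_⟩
    have : x ^ i * x ^ (j - i) = x ^ i * 1 := by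
      rw [← pow_add, mul_one, Nat.add_sub_cancel' h.le, hpow']
    exact mul_left_cancel₀ (pow_ne_zero i hx0) this
  · refine ⟨i - j, by omega, ?_⟩
    have : x ^ j * x ^ (i - j) = x ^ j * 1 := by
      rw [← pow_add, mul_one, Nat.add_sub_cancel' h.le, hpow']
    exact mul_left_cancel₀ (pow_ne_zero j hx0) this

theorem pprime_order {k : Type*} [Field k] (p : ℕ) [hp : Fact p.Prime] [CharP k p]
    (x : k) (n : ℕ) (hn0 : n ≠ 0) (hn : x ^ n = 1) : ∃ m : ℕ, ¬ p ∣ m ∧ m ≠ 0 ∧ x ^ m = 1 := by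
  obtain ⟨s, m, hpm, hnm⟩ := Nat.exists_eq_pow_mul_and_not_dvd hn0 p hp.out.ne_one
  have hm0 : m ≠ 0 := by
    rintro rfl
    exact hpm (dvd_zero p)
  refine ⟨m, hpm, hm0, ?_⟩
  have h1 : (x ^ m) ^ (p ^ s) = 1 := by
    rw [← pow_mul, mul_comm, ← hnm, hn]
  have h2 : (x ^ m - 1) ^ (p ^ s) = 0 := by
    rw [sub_pow_char_pow, h1, one_pow, sub_self]
  exact sub_eq_zero.1 (pow_eq_zero_iff (pow_ne_zero s hp.out.ne_zero) |>.1 h2)

theorem finite_order_of_integral {k : Type*} [Field k] (p : ℕ) [hp : Fact p.Prime] [CharP k p]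
    (x : k) (hx0 : x ≠ 0) (hx : IsIntegral ℤ x) : ∃ m : ℕ, ¬ p ∣ m ∧ m ≠ 0 ∧ x ^ m = 1 := by
  letI : Algebra (ZMod p) k := ZMod.algebra _ p
  have hx' : IsIntegral (ZMod p) x := hx.tower_top
  have hfg := hx'.fg_adjoin_singleton
  haveI : Module.Finite (ZMod p) (Algebra.adjoin (ZMod p) {x}) :=
    Module.Finite.iff_fg.2 hfg
  haveI : Finite (Algebra.adjoin (ZMod p) {x}) := Module.finite_of_finite (ZMod p)
  have hmem : ∀ n : ℕ, x ^ n ∈ Algebra.adjoin (ZMod p) {x} := fun n =>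
    Subalgebra.pow_mem _ (Algebra.subset_adjoin (Set.mem_singleton x)) n
  obtain ⟨i, j, hij, hpow⟩ := Finite.exists_ne_map_eq_of_infinite
    (fun n : ℕ => (⟨x ^ n, hmem n⟩ : Algebra.adjoin (ZMod p) {x}))
  have hpow' : x ^ i = x ^ j := congrArg Subtype.val hpow
  obtain ⟨n, hn0, hn⟩ := exists_pow_eq_one_of_pow_eq x hx0 i j hij hpow'
  exact pprime_order p x n hn0 hn



theorem algInt_isIntegral (a : Cfsg.AlgInt) : IsIntegral ℤ a := by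
  obtain ⟨f, hf, hfa⟩ := a.2
  refine ⟨f, hf, ?_⟩
  apply Subtype.ext
  have h2 : ((Polynomial.eval₂ (algebraMap ℤ Cfsg.AlgInt) a f : Cfsg.AlgInt) : ℂ)
      = Polynomial.eval₂ (algebraMap ℤ ℂ) (a : ℂ) f := by
    rw [← Polynomial.aeval_def, ← Polynomial.aeval_def]
    exact (Polynomial.aeval_algHom_apply (Cfsg.AlgInt.val) a f).symm
  rw [h2, hfa]
  rfl

theorem pow_sub_one_eq_prod (a : Cfsg.AlgInt) (m : ℕ) (hm0 : m ≠ 0) :
    a ^ m - 1 = ∏ ζ' ∈ Polynomial.nthRootsFinset m (1 : Cfsg.AlgInt), (a - ζ') := by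
  have hζC := Complex.isPrimitiveRoot_exp m hm0
  obtain ⟨ζ, hζ⟩ : ∃ ζ : Cfsg.AlgInt, (ζ : ℂ) = Complex.exp (2 * Real.pi * Complex.I / m) := by
    refine ⟨⟨_, ?_⟩, rfl⟩
    refine ⟨Polynomial.X ^ m - 1, Polynomial.monic_X_pow_sub_C (1 : ℤ) hm0, ?_⟩
    simp [hζC.pow_eq_one]
  have hζprim : IsPrimitiveRoot ζ m := by
    have : IsPrimitiveRoot ((Cfsg.AlgInt.val : Cfsg.AlgInt →ₐ[ℤ] ℂ) ζ) m := by
      change IsPrimitiveRoot (ζ : ℂ) m
      rw [hζ]; exact hζC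
    exact IsPrimitiveRoot.of_map_of_injective (f := (Cfsg.AlgInt.val : Cfsg.AlgInt →ₐ[ℤ] ℂ))
      this Subtype.val_injective
  have hfac := Polynomial.X_pow_sub_one_eq_prod (Nat.pos_of_ne_zero hm0) hζprim
  have := congrArg (Polynomial.eval a) hfac
  simpa [Polynomial.eval_prod] using this


theorem part2 (p : ℕ) [hp : Fact p.Prime] (M : Ideal Cfsg.AlgInt) (hM : Cfsg.IsPModular p M)
    (a : Cfsg.AlgInt) (ha : a ∉ M) :
    ∃ ε : Cfsg.AlgInt, (∃ m : ℕ, ¬ p ∣ m ∧ (ε : ℂ) ^ m = 1) ∧ a - ε ∈ M := by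
  haveI := hM.2.1
  letI : Field (Cfsg.AlgInt ⧸ M) := Ideal.Quotient.field M
  have hpM : ((p : ℕ) : Cfsg.AlgInt ⧸ M) = 0 := by
    have := Ideal.Quotient.eq_zero_iff_mem.2 hM.2.2
    simpa using this
  haveI : CharP (Cfsg.AlgInt ⧸ M) p := (CharP.charP_iff_prime_eq_zero hp.out).2 hpM
  have hā0 : Ideal.Quotient.mk M a ≠ 0 := by
    intro h
    exact ha (Ideal.Quotient.eq_zero_iff_mem.1 h)
  have hāint : IsIntegral ℤ (Ideal.Quotient.mk M a) :=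
    (algInt_isIntegral a).map (Ideal.Quotient.mkₐ ℤ M)
  obtain ⟨m, hpm, hm0, hām⟩ := finite_order_of_integral p _ hā0 hāint
  have hmem : a ^ m - 1 ∈ M := by
    apply Ideal.Quotient.eq_zero_iff_mem.1
    rw [map_sub, map_pow, map_one, hām, sub_self]
  rw [pow_sub_one_eq_prod a m hm0] at hmem
  haveI hMp : M.IsPrime := hM.2.1.isPrime
  obtain ⟨ε, hε, hεM⟩ := Ideal.IsPrime.prod_mem_iff.1 hmem
  refine ⟨ε, ⟨m, hpm, ?_⟩, hεM⟩
  have := (Polynomial.mem_nthRootsFinset (Nat.pos_of_ne_zero hm0) (1 : Cfsg.AlgInt)).1 hε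
  have h3 := congrArg (fun x : Cfsg.AlgInt => (x : ℂ)) this
  simpa using h3

/-- Let M be a maximal ideal of the ring of algebraic integers containing the prime p, and let U be the set of complex roots of unity of order prime to p. Then reduction modulo M is injective on U, and every algebraic integer not in M is congruent modulo M to an element of U (so U maps bijectively onto the nonzero residues). -/
theorem result (p : ℕ) [Fact p.Prime] (M : Ideal Cfsg.AlgInt) (hM : Cfsg.IsPModular p M) : (∀ ε₁ ε₂ : Cfsg.AlgInt, (∃ m : ℕ, ¬ p ∣ m ∧ (ε₁ : ℂ) ^ m = 1) → (∃ m : ℕ, ¬ p ∣ m ∧ (ε₂ : ℂ) ^ m = 1) → ε₁ - ε₂ ∈ M → ε₁ = ε₂) ∧ (∀ a : Cfsg.AlgInt, a ∉ M → ∃ ε : Cfsg.AlgInt, (∃ m : ℕ, ¬ p ∣ m ∧ (ε : ℂ) ^ m = 1) ∧ a - ε ∈ M) := by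

  exact ⟨fun ε₁ ε₂ h1 h2 hd => part1 p M hM ε₁ ε₂ h1 h2 hd, fun a ha => part2 p M hM a ha⟩


end Cfsg.Agent.S0901
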