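import Cfsg.Statements.S0905
import Mathlib
import Cfsg.Agent.Lib.Helper6.ClassSumNilp
import Cfsg.Agent.Lib.Helper6.BlkSupport
import Cfsg.Agent.Lib.Helper6.BlkVanish
import Cfsg.Agent.Lib.Helper1.PCore

set_option autoImplicit false
open Cfsg

namespace Cfsg.Agent.S0905

open Cfsg.Agent.Lib.Helper6

/-- Let F be a field of characteristic p and let g be an element of the finite group G no conjugate of which centralizes O_p(G). Then the class sum of g is a nilpotent element of the group algebra F[G]. -/
theorem result {G : Type*} [Group G] [Finite G] (p : ℕ) [Fact p.Prime] (F : Type*) [Field F] [CharP F p] (g : G) (hg : ∀ x : G, IsConj g x → x ∉ Subgroup.centralizer (Cfsg.pCore p G : Set G)) : IsNilpotent (∑ᶠ x ∈ ConjClasses.carrier (ConjClasses.mk g), MonoidAlgebra.single x (1 : F) : MonoidAlgebra F G) := by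

  classical
  have : Fintype G := Fintype.ofFinite G
  obtain ⟨M, hM⟩ := exists_isPModular p
  haveI : (Cfsg.pCore p G).Normal := Cfsg.Agent.Lib.Helper1.pCore_normal p
  have hω : ∀ χ : Cfsg.IrrCharacter G, Cfsg.MemLocalIdeal M (Cfsg.centralChar (χ : G → ℂ) g) := by
    intro χ
    exact centralChar_memLocalIdeal_of_not_mem_centralizer hM (Cfsg.pCore p G)
      (Cfsg.Agent.Lib.Helper1.pCore_isPGroup p) χ g (hg g (IsConj.refl g))
  have h := isNilpotent_classSumAlg hM g hω F
  have hset : ConjClasses.carrier (ConjClasses.mk g)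
      = ↑(Finset.univ.filter (fun x : G => IsConj g x)) := by
    ext x
    simp only [ConjClasses.mem_carrier_iff_mk_eq, ConjClasses.mk_eq_mk_iff_isConj, Finset.coe_filter,
      Finset.mem_univ, true_and, Set.mem_ofPred_eq]
    exact isConj_comm
  rw [hset, finsum_mem_coe_finset]
  exact h


end Cfsg.Agent.S0905
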