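import Cfsg.Statements.S0915
import Mathlib
import Cfsg.Agent.Lib.Helper6.BlkPGroup
import Cfsg.Agent.S4218
import Cfsg.Agent.S0973
import Cfsg.Agent.Lib.Helper6.BlkCover3

set_option autoImplicit false
open Cfsg

namespace Cfsg.Agent.S0915

open Cfsg.Agent.Lib.Helper6

theorem mem_principal_aux {G : Type*} [Group G] [Fintype G] [DecidableEq G] (p : ℕ) [Fact p.Prime]
    (M : Ideal Cfsg.AlgInt) (hM : Cfsg.IsPModular p M) (hsolv : Cfsg.IsPSolvable p G)
    (hcore : Cfsg.pPrimeCore p G = ⊥) (χ : Cfsg.IrrCharacter G) :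
    χ ∈ Cfsg.principalBlock M G := by
  classical
  have hB : Cfsg.IsPBlock M (Cfsg.blockOf M (χ : G → ℂ)) := ⟨χ, rfl⟩
  have hχ : χ ∈ Cfsg.blockOf M (χ : G → ℂ) := sameBlock_refl hM _
  obtain ⟨D, hD⟩ := exists_isDefectGroup hM _ hB
  have hPD := Cfsg.Agent.S0912.result p M hM _ hB D hD
  have hCP : Subgroup.centralizer (Cfsg.pCore p G : Set G) ≤ Cfsg.pCore p G := by
    intro γ hγ
    apply Cfsg.Agent.S4218.HH p hsolv hcore γ
    intro y hy
    have h3 : y * γ = γ * y := Subgroup.mem_centralizer_iff.mp hγ y hy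
    have h4 : γ * y * γ⁻¹ * y⁻¹ = 1 := by
      rw [← h3]; group
    rw [h4]
    exact Subgroup.one_mem _
  have hCD : Subgroup.centralizer (D : Set G) ≤ D :=
    le_trans (Subgroup.centralizer_le hPD) (le_trans hCP hPD)
  have hsup : D ⊔ Subgroup.centralizer (D : Set G) = D := sup_eq_left.2 hCD
  obtain ⟨⟨b, hbD, hbind⟩, -⟩ := Cfsg.Agent.S0973.result p M hM _ hB D hD
  have hLp : IsPGroup p ↥(D ⊔ Subgroup.centralizer (D : Set G)) := by
    rw [hsup]
    exact IsDefectGroup.isPGroup' hD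
  have hbp : b = Cfsg.principalBlock M ↥(D ⊔ Subgroup.centralizer (D : Set G)) := by
    obtain ⟨ξ₀, hξ₀⟩ := hbind.1
    rw [hξ₀]
    have h1 := mem_principalBlock_of_isPGroup hM hLp ξ₀
    rw [principalBlock_eq] at h1 ⊢
    exact (blockOf_eq_of_mem hM h1).symm
  have hind2 := (Cfsg.Agent.S0936.result p M hM _ b ⟨_, hbind⟩).2 hbp
  have := IsInducedBlock.unique _ hM hbind hind2
  rw [← this]
  exact hχ

/-- Let G be a finite p-solvable group with trivial largest normal subgroup of order prime to p. Then any two irreducible characters of G lie in the same block relative to every maximal ideal M of the algebraic integers containing p: G has a single p-block. -/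
theorem result {G : Type*} [Group G] [Finite G] (p : ℕ) [Fact p.Prime] (M : Ideal Cfsg.AlgInt) (hM : Cfsg.IsPModular p M) (hsolv : Cfsg.IsPSolvable p G) (hcore : Cfsg.pPrimeCore p G = ⊥) (χ ψ : Cfsg.IrrCharacter G) : Cfsg.SameBlock M (χ : G → ℂ) (ψ : G → ℂ) := by

  classical
  haveI : Fintype G := Fintype.ofFinite G
  have h1 : Cfsg.SameBlock M (fun _ : G => (1 : ℂ)) (χ : G → ℂ) := mem_principal_aux p M hM hsolv hcore χ
  have h2 : Cfsg.SameBlock M (fun _ : G => (1 : ℂ)) (ψ : G → ℂ) := mem_principal_aux p M hM hsolv hcore ψ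
  exact SameBlock.trans' hM (SameBlock.symm' h1) h2


end Cfsg.Agent.S0915
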