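import Cfsg.Statements.S0927
import Mathlib
import Cfsg.Agent.Lib.Helper6.BlkHeightZero
import Cfsg.Agent.Lib.Helper6.BlkDefect

set_option autoImplicit false
open Cfsg

namespace Cfsg.Agent.S0927

open Cfsg.Agent.Lib.Helper6

/-- Let B be a block of the finite group G relative to a maximal ideal M of the algebraic integers containing p, let y represent a defect class of B and let P be a Sylow p-subgroup of the centralizer of y. (a) If x ∈ P and χ ∈ B has height zero, then χ (x * y) is not in the local ideal at M. (b) If x lies in the centre of P, then for every χ ∈ B the central character of χ at x * y is not in the local ideal at M. -/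
theorem result {G : Type*} [Group G] [Finite G] (p : ℕ) [Fact p.Prime] (M : Ideal Cfsg.AlgInt) (hM : Cfsg.IsPModular p M) (B : Set (Cfsg.IrrCharacter G)) (hB : Cfsg.IsPBlock M B) (y : G) (hy : Cfsg.IsDefectClass M B y) (P : Sylow p (Subgroup.centralizer ({y} : Set G))) (x : Subgroup.centralizer ({y} : Set G)) (hx : x ∈ (P : Subgroup (Subgroup.centralizer ({y} : Set G)))) : (∀ χ ∈ B, Cfsg.blockHeight p B (χ : G → ℂ) = 0 → ¬ Cfsg.MemLocalIdeal M ((χ : G → ℂ) ((x : G) * y))) ∧ ((∀ w ∈ (P : Subgroup (Subgroup.centralizer ({y} : Set G))), x * w = w * x) → ∀ χ ∈ B, ¬ Cfsg.MemLocalIdeal M (Cfsg.centralChar (χ : G → ℂ) ((x : G) * y))) := by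
  classical
  have : Fintype G := Fintype.ofFinite G
  have hp : p.Prime := hM.1
  obtain ⟨χ₀, rfl⟩ := hB
  -- basic data
  have hcomm : Commute (x : G) y := (mem_centralizer_singleton_iff.mp x.2).symm
  obtain ⟨k, hk⟩ := (IsPGroup.iff_orderOf.mp P.2) ⟨x, hx⟩
  have hxpow : (x : G) ^ (p ^ k) = 1 := by
    have h1 : (⟨x, hx⟩ : (P : Subgroup (Subgroup.centralizer ({y} : Set G)))) ^ (p ^ k) = 1 := by
      rw [← hk]; exact pow_orderOf_eq_one _
    have h2 := congrArg (fun w : (P : Subgroup (Subgroup.centralizer ({y} : Set G))) => ((w : Subgroup.centralizer ({y} : Set G)) : G)) h1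
    simpa using h2
  have hyreg : ¬ p ∣ orderOf y := pRegular_of_blockCoeff hM χ₀ y hy.2.1
  -- numerics
  obtain ⟨a, ha⟩ : ∃ a : ℕ, a = (Nat.card G).factorization p := ⟨_, rfl⟩
  obtain ⟨s, hs⟩ : ∃ s : ℕ, s = sInf ((fun χ : Cfsg.IrrCharacter G =>
      (Cfsg.charDegree (χ : G → ℂ)).factorization p) '' (Cfsg.blockOf M (χ₀ : G → ℂ))) := ⟨_, rfl⟩
  have hcardP := Cfsg.Agent.S0908.result p M hM _ ⟨χ₀, rfl⟩ _ ⟨y, hy, P, rfl⟩
  rw [card_sylow_map] at hcardP
  have hcy : (Nat.card (Subgroup.centralizer ({y} : Set G))).factorization p = a - s := by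
    have := Nat.pow_right_injective hp.two_le hcardP
    rw [this, ha, hs]; rfl
  have hsle : ∀ χ ∈ Cfsg.blockOf M (χ₀ : G → ℂ), s ≤ (Cfsg.charDegree (χ : G → ℂ)).factorization p := by
    intro χ hχ
    rw [hs]
    exact Nat.sInf_le ⟨χ, hχ, rfl⟩
  have hdega : ∀ χ : Cfsg.IrrCharacter G, (Cfsg.charDegree (χ : G → ℂ)).factorization p ≤ a := by
    intro χ
    rw [ha]
    exact (Nat.factorization_le_iff_dvd (IsIrrCharacter.charDegree_pos χ.2).ne' Nat.card_pos.ne').mpr
      (IsIrrCharacter.charDegree_dvd_card χ.2) p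
  have hsa : s ≤ a := (hsle χ₀ (sameBlock_refl hM _)).trans (hdega χ₀)
  have hidx : ∀ g : G, (Subgroup.centralizer ({g} : Set G)).index.factorization p
      + (Nat.card (Subgroup.centralizer ({g} : Set G))).factorization p = a := by
    intro g
    rw [ha, ← Subgroup.index_mul_card (Subgroup.centralizer ({g} : Set G)),
      Nat.factorization_mul Subgroup.index_ne_zero_of_finite Nat.card_pos.ne']
    rfl
  have hidxy : (Subgroup.centralizer ({y} : Set G)).index.factorization p = s := by
    have := hidx y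
    omega
  constructor
  · intro χ hχ hht
    have hdeg : (Cfsg.charDegree (χ : G → ℂ)).factorization p = s := by
      have h1 := hsle χ hχ
      unfold Cfsg.blockHeight at hht
      rw [← hs] at hht
      omega
    have hχy : ¬ Cfsg.MemLocalIdeal M ((χ : G → ℂ) y) := by
      rw [← centralChar_memLocalIdeal_iff hM χ.2 y (by rw [hidxy, hdeg])]
      exact hy.2.2 χ hχ
    intro hxy
    apply hχy
    have h1 := IsCharacter.apply_mul_sub_memLocalIdeal hM (IsIrrCharacter.isCharacter χ.2) hcomm hxpow
    have := MemLocalIdeal.sub hM hxy h1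
    simpa using this
  · intro hxc χ hχ
    -- a height zero character
    have hne : ((fun χ : Cfsg.IrrCharacter G =>
      (Cfsg.charDegree (χ : G → ℂ)).factorization p) '' (Cfsg.blockOf M (χ₀ : G → ℂ))).Nonempty :=
      ⟨_, χ₀, sameBlock_refl hM _, rfl⟩
    obtain ⟨χ₁, hχ₁, hdeg₁⟩ := Nat.sInf_mem hne
    rw [← hs] at hdeg₁
    simp only at hdeg₁
    -- the centralizer of x * y
    have hy_mem : y ∈ Subgroup.zpowers ((x : G) * y) := by
      have h1 : ((x : G) * y) ^ (p ^ k) = y ^ (p ^ k) := by
        rw [hcomm.mul_pow, hxpow, one_mul]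
      have h2 : y ∈ Subgroup.zpowers (y ^ (p ^ k)) := by
        rw [mem_zpowers_pow_iff]
        exact Nat.Coprime.pow_left k ((hp.coprime_iff_not_dvd).mpr hyreg)
      rw [← h1] at h2
      exact (Subgroup.zpowers_le.mpr (Subgroup.pow_mem _ (Subgroup.mem_zpowers _) _)) h2
    have hle1 : Subgroup.centralizer ({(x : G) * y} : Set G) ≤ Subgroup.centralizer ({y} : Set G) := by
      intro w hw
      rw [mem_centralizer_singleton_iff] at hw ⊢
      obtain ⟨i, hi⟩ := Subgroup.mem_zpowers_iff.mp hy_mem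
      rw [← hi]
      have : Commute ((x : G) * y) w := hw
      exact (this.zpow_left i).eq
    have hle2 : (P : Subgroup (Subgroup.centralizer ({y} : Set G))).map
        (Subgroup.centralizer ({y} : Set G)).subtype ≤ Subgroup.centralizer ({(x : G) * y} : Set G) := by
      rintro _ ⟨w, hw, rfl⟩
      rw [mem_centralizer_singleton_iff]
      have h1 : (x : G) * (w : G) = (w : G) * (x : G) := congrArg Subtype.val (hxc w hw)
      have h2 : y * (w : G) = (w : G) * y := mem_centralizer_singleton_iff.mp w.2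
      simp only [Subgroup.coe_subtype]
      rw [mul_assoc, h2, ← mul_assoc, h1, mul_assoc]
    have hc1 : (Nat.card (Subgroup.centralizer ({(x : G) * y} : Set G))).factorization p ≤ a - s := by
      rw [← hcy]
      exact (Nat.factorization_le_iff_dvd Nat.card_pos.ne' Nat.card_pos.ne').mpr
        (Subgroup.card_dvd_of_le hle1) p
    have hc2 : a - s ≤ (Nat.card (Subgroup.centralizer ({(x : G) * y} : Set G))).factorization p := by
      have h1 := Subgroup.card_dvd_of_le hle2
      rw [card_sylow_map, hcy] at h1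
      exact (hp.pow_dvd_iff_le_factorization Nat.card_pos.ne').mp h1
    have hidxg : (Subgroup.centralizer ({(x : G) * y} : Set G)).index.factorization p = s := by
      have := hidx ((x : G) * y)
      omega
    have hχ₁y : ¬ Cfsg.MemLocalIdeal M ((χ₁ : G → ℂ) y) := by
      rw [← centralChar_memLocalIdeal_iff hM χ₁.2 y (by rw [hidxy, hdeg₁])]
      exact hy.2.2 χ₁ hχ₁
    have hχ₁xy : ¬ Cfsg.MemLocalIdeal M ((χ₁ : G → ℂ) ((x : G) * y)) := by
      intro hxy
      apply hχ₁y
      have h1 := IsCharacter.apply_mul_sub_memLocalIdeal hM (IsIrrCharacter.isCharacter χ₁.2) hcomm hxpow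
      have := MemLocalIdeal.sub hM hxy h1
      simpa using this
    have hω₁ : ¬ Cfsg.MemLocalIdeal M (Cfsg.centralChar (χ₁ : G → ℂ) ((x : G) * y)) := by
      rw [centralChar_memLocalIdeal_iff hM χ₁.2 _ (by rw [hidxg, hdeg₁])]
      exact hχ₁xy
    intro hω
    apply hω₁
    have hsb : Cfsg.SameBlock M (χ : G → ℂ) (χ₁ : G → ℂ) :=
      SameBlock.trans' hM (SameBlock.symm' hχ) hχ₁
    have := MemLocalIdeal.sub hM hω (hsb ((x : G) * y))
    simpa using this

end Cfsg.Agent.S0927
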