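import Cfsg.Statements.S0926
import Mathlib
import Cfsg.Agent.Lib.Helper6.BlkSecond3
import Cfsg.Agent.S0927
import Cfsg.Agent.Lib.Helper6.BlkDefect

set_option autoImplicit false
open Cfsg

namespace Cfsg.Agent.S0926

open Cfsg.Agent.Lib.Helper6

/-- Let B be a block of the finite group G with defect group D (relative to a maximal ideal M of the algebraic integers containing p), let χ ∈ B have height zero, and let x be a p-element. Then some conjugate of x lies in D if and only if χ does not vanish on the whole p-section of x (the elements whose p-part is conjugate to x). -/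
theorem result {G : Type*} [Group G] [Finite G] (p : ℕ) [Fact p.Prime] (M : Ideal Cfsg.AlgInt) (hM : Cfsg.IsPModular p M) (B : Set (Cfsg.IrrCharacter G)) (hB : Cfsg.IsPBlock M B) (D : Subgroup G) (hD : Cfsg.IsDefectGroup p M B D) (χ : Cfsg.IrrCharacter G) (hχ : χ ∈ B) (h0 : Cfsg.blockHeight p B (χ : G → ℂ) = 0) (x : G) (hx : ∃ k : ℕ, orderOf x = p ^ k) : (∃ g : G, g * x * g⁻¹ ∈ D) ↔ ∃ u : G, (∃ z : G, Cfsg.IsPPart p u z ∧ IsConj x z) ∧ (χ : G → ℂ) u ≠ 0 := by
  classical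
  have : Fintype G := Fintype.ofFinite G
  have hp : p.Prime := hM.1
  obtain ⟨χ₀, rfl⟩ := hB
  have hBχ : Cfsg.blockOf M (χ₀ : G → ℂ) = Cfsg.blockOf M (χ : G → ℂ) := blockOf_eq_of_mem hM hχ
  constructor
  · rintro ⟨g, hg⟩
    obtain ⟨y₀, hy₀, P, hDP⟩ := hD
    have hmem : g * x * g⁻¹ ∈ Subgroup.centralizer ({y₀} : Set G) := by
      rw [hDP] at hg
      exact sylow_map_le P hg
    have hmemP : (⟨g * x * g⁻¹, hmem⟩ : Subgroup.centralizer ({y₀} : Set G))
        ∈ (P : Subgroup (Subgroup.centralizer ({y₀} : Set G))) := by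
      rw [hDP] at hg
      obtain ⟨w, hw, hw'⟩ := hg
      have : w = ⟨g * x * g⁻¹, hmem⟩ := Subtype.ext hw'
      rw [← this]
      exact hw
    have h1 := (Cfsg.Agent.S0927.result p M hM _ ⟨χ₀, rfl⟩ y₀ hy₀ P ⟨g * x * g⁻¹, hmem⟩ hmemP).1
      χ hχ h0
    refine ⟨g * x * g⁻¹ * y₀, ⟨g * x * g⁻¹, ?_, ?_⟩, ?_⟩
    · refine ⟨y₀, rfl, ?_, ?_, ?_⟩
      · rw [mem_centralizer_singleton_iff] at hmem
        exact hmem.symm
      · obtain ⟨k, hk⟩ := hx
        refine ⟨k, ?_⟩
        rw [← hk]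
        have : g * x * g⁻¹ = MulAut.conj g x := by simp [MulAut.conj_apply]
        rw [this, MulEquiv.orderOf_eq]
      · exact pRegular_of_blockCoeff hM χ₀ y₀ hy₀.2.1
    · exact isConj_iff.mpr ⟨g, rfl⟩
    · intro h0'
      apply h1
      simp only
      rw [h0']
      exact memLocalIdeal_zero hM
  · rintro ⟨u, ⟨z, hz, hxz⟩, hne⟩
    by_contra hcon
    apply hne
    apply apply_eq_zero_of_pPart_not_mem_defectGroup hM χ u z hz
    intro D' hD' hzD'
    apply hcon
    rw [← hBχ] at hD'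
    obtain ⟨a, ha⟩ := isDefectGroup_conj hM χ₀ D D' hD hD'
    obtain ⟨c, hc⟩ := isConj_iff.mp hxz
    rw [ha] at hzD'
    obtain ⟨d, hd, hd'⟩ := hzD'
    simp only [MulEquiv.coe_toMonoidHom, MulAut.conj_apply] at hd'
    refine ⟨a⁻¹ * c, ?_⟩
    have : a⁻¹ * c * x * (a⁻¹ * c)⁻¹ = d := by
      have : d = a⁻¹ * z * a := by rw [← hd']; group
      rw [this, ← hc]; group
    rw [this]
    exact hd


end Cfsg.Agent.S0926
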