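import Cfsg.Statements.S0928
import Mathlib
import Cfsg.Agent.Lib.Helper6.BlkVanish2
import Cfsg.Agent.Lib.Helper6.BlkContrib
import Cfsg.Agent.S0908
import Cfsg.Agent.S0973

set_option autoImplicit false
open Cfsg

namespace Cfsg.Agent.S0928

open Cfsg.Agent.Lib.Helper6

/-- Let χ be an irreducible character of the finite group G and p a prime. If χ g = 0 for every element g of order p, then the exponent of p in the degree χ(1) equals the exponent of p in the order of G (χ has p-defect zero). -/
theorem result {G : Type*} [Group G] [Finite G] (p : ℕ) [Fact p.Prime] (χ : Cfsg.IrrCharacter G) (hvan : ∀ g : G, orderOf g = p → (χ : G → ℂ) g = 0) : (Cfsg.charDegree (χ : G → ℂ)).factorization p = (Nat.card G).factorization p := by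

  classical
  haveI : Fintype G := Fintype.ofFinite G
  obtain ⟨M, hM⟩ := exists_isPModular p
  have hB : Cfsg.IsPBlock M (Cfsg.blockOf M (χ : G → ℂ)) := ⟨χ, rfl⟩
  have hχ : χ ∈ Cfsg.blockOf M (χ : G → ℂ) := sameBlock_refl hM _
  obtain ⟨D, hD⟩ := exists_isDefectGroup hM _ hB
  have hcard := Cfsg.Agent.S0908.result p M hM _ hB D hD
  have hle : (Cfsg.charDegree (χ : G → ℂ)).factorization p ≤ (Nat.card G).factorization p := by
    have := IsIrrCharacter.charDegree_dvd_card χ.2
    exact (Nat.factorization_le_iff_dvd (IsIrrCharacter.charDegree_pos χ.2).ne'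
      Nat.card_pos.ne').mpr this p
  by_cases hDne : D = ⊥
  · have h1 : Nat.card D = 1 := by
      rw [hDne]; exact Subgroup.card_bot
    rw [h1] at hcard
    have hd0 : Cfsg.blockDefect p (Cfsg.blockOf M (χ : G → ℂ)) = 0 := by
      by_contra h
      have := Nat.one_lt_pow h (Fact.out : p.Prime).one_lt
      omega
    have h2 := factorization_card_eq_sInf_add_defect (p := p) _ χ hχ
    rw [hd0, add_zero] at h2
    have h3 : sInf ((fun ψ : Cfsg.IrrCharacter G => (Cfsg.charDegree (ψ : G → ℂ)).factorization p) ''
        Cfsg.blockOf M (χ : G → ℂ)) ≤ (Cfsg.charDegree (χ : G → ℂ)).factorization p :=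
      Nat.sInf_le ⟨χ, hχ, rfl⟩
    omega
  · exfalso
    obtain ⟨⟨b, hbD, hbind⟩, -⟩ := Cfsg.Agent.S0973.result p M hM _ hB D hD
    refine false_of_vanish_order_p hM χ hvan _ hχ (D ⊔ Subgroup.centralizer (D : Set G)) D le_sup_left
      b hbD hbind ?_ (IsDefectGroup.isPGroup' hD) hDne
    intro z hzD hzw h hh
    have hle' : D ⊔ Subgroup.centralizer (D : Set G) ≤ Subgroup.centralizer ({z} : Set G) := by
      apply sup_le
      · intro w hw
        rw [Subgroup.mem_centralizer_singleton_iff]
        exact (hzw w hw).symm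
      · intro w hw
        rw [Subgroup.mem_centralizer_singleton_iff]
        exact (Subgroup.mem_centralizer_iff.1 hw z hzD).symm
    have := hle' hh
    rw [Subgroup.mem_centralizer_singleton_iff] at this
    exact this.symm


end Cfsg.Agent.S0928
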