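import Cfsg.Statements.S0930
import Mathlib
import Cfsg.Agent.Lib.Helper6.BlkHeightZero
import Cfsg.Agent.Lib.Helper6.BlkDefect
import Cfsg.Agent.Lib.Helper6.BlkNormalDef
import Cfsg.Agent.Lib.Helper6.BlkInd
import Cfsg.Agent.S0927
import Cfsg.Agent.S0929

set_option autoImplicit false
open Cfsg

namespace Cfsg.Agent.S0930

open Cfsg.Agent.Lib.Helper6

/-- Let H be a subgroup of the finite group G and fix a maximal ideal M of the algebraic integers containing the prime p. If the block b of H with defect group D induces the block B of G with defect group P, then every element of the centre of P is conjugate in G to an element of the centre of D. -/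
theorem result {G : Type*} [Group G] [Finite G] (p : ℕ) [Fact p.Prime] (M : Ideal Cfsg.AlgInt) (hM : Cfsg.IsPModular p M) (H : Subgroup G) (b : Set (Cfsg.IrrCharacter H)) (B : Set (Cfsg.IrrCharacter G)) (hind : Cfsg.IsInducedBlock M H b B) (D : Subgroup H) (hD : Cfsg.IsDefectGroup p M b D) (P : Subgroup G) (hP : Cfsg.IsDefectGroup p M B P) (x : G) (hx : x ∈ P) (hxc : ∀ w ∈ P, x * w = w * x) : ∃ g : G, g * x * g⁻¹ ∈ D.map H.subtype ∧ ∀ w ∈ D.map H.subtype, (g * x * g⁻¹) * w = w * (g * x * g⁻¹) := by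
  classical
  have : Fintype G := Fintype.ofFinite G
  have : Fintype H := Fintype.ofFinite H
  have : Fintype (ConjClasses H) := Fintype.ofFinite _
  have hp : p.Prime := hM.1
  obtain ⟨y, hy, Q, rfl⟩ := hP
  obtain ⟨x', hx'Q, rfl⟩ := hx
  have hxc' : ∀ w ∈ (Q : Subgroup (Subgroup.centralizer ({y} : Set G))), x' * w = w * x' := by
    intro w hw
    exact Subtype.ext (hxc (w : G) ⟨w, hw, rfl⟩)
  obtain ⟨ξ₀, hbξ⟩ := hind.1
  obtain ⟨χ₀, hBχ⟩ := hind.2.1
  have hξ₀ : ξ₀ ∈ b := by rw [hbξ]; exact sameBlock_refl hM _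
  have hχ₀ : χ₀ ∈ B := by rw [hBχ]; exact sameBlock_refl hM _
  have h1 := (Cfsg.Agent.S0927.result p M hM B hind.2.1 y hy Q x' hx'Q).2 hxc' χ₀ hχ₀
  simp only [Subgroup.coe_subtype] at *
  obtain ⟨g₀, hg₀⟩ : ∃ g₀ : G, g₀ = (x' : G) * y := ⟨_, rfl⟩
  rw [← hg₀] at h1
  have h2 := hind.2.2 ξ₀ hξ₀ χ₀ hχ₀ g₀
  have h3 : ¬ Cfsg.MemLocalIdeal M (Cfsg.inducedCentralChar H (ξ₀ : H → ℂ) g₀) := by
    intro h
    apply h1
    have := MemLocalIdeal.sub hM h h2
    simpa using this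
  have hXc : regMat (classInd g₀) ∈ centerAlg G := regMat_mem_centerAlg (classInd_isClassFunction g₀)
  rw [inducedCentralChar_eq_cOmega, cOmega_eq_sum_classes (IsIrrCharacter.isClassFunction ξ₀.2)
    (resMat_mem_centerAlg H hXc)] at h3
  have hex : ∃ c : ConjClasses H, ¬ Cfsg.MemLocalIdeal M
      (resMat H (regMat (classInd g₀)) (Quotient.out c) 1
        * Cfsg.centralChar (ξ₀ : H → ℂ) (Quotient.out c)) := by
    by_contra hall
    push Not at hall
    exact h3 (MemLocalIdeal.sum hM _ _ (fun c _ => hall c))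
  obtain ⟨c, hc⟩ := hex
  obtain ⟨k, hk⟩ : ∃ k : H, k = Quotient.out c := ⟨_, rfl⟩
  rw [← hk] at hc
  have hval : resMat H (regMat (classInd g₀)) k 1 = classInd g₀ (k : G) := by
    unfold resMat
    simp [regMat_apply, resFun]
  rw [hval] at hc
  have hgk : IsConj g₀ (k : G) := by
    by_contra hnot
    apply hc
    unfold classInd
    rw [if_neg hnot, zero_mul]
    exact memLocalIdeal_zero hM
  have hωk : ¬ Cfsg.MemLocalIdeal M (Cfsg.centralChar (ξ₀ : H → ℂ) k) := by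
    intro h
    apply hc
    apply MemLocalIdeal.mul_left hM _ h
    unfold classInd
    rw [if_pos hgk]
    exact memLocalRing_one hM
  obtain ⟨w, hkw, hwC, hwz⟩ := Cfsg.Agent.S0929.result p M hM b hind.1 D hD k ⟨ξ₀, hξ₀, hωk⟩
  -- `w` is conjugate in `G` to `x * y`
  have hgw : IsConj g₀ (w : G) := by
    obtain ⟨n, hn⟩ := isConj_iff.mp hkw
    have : IsConj (k : G) (w : G) := isConj_iff.mpr ⟨(n : G), by rw [← hn]; simp⟩
    exact hgk.trans this
  obtain ⟨t, ht⟩ := isConj_iff.mp hgw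
  -- data on x'
  have hcomm : Commute (x' : G) y := (mem_centralizer_singleton_iff.mp x'.2).symm
  obtain ⟨j, hj⟩ := (IsPGroup.iff_orderOf.mp Q.2) ⟨x', hx'Q⟩
  have hxord : orderOf (x' : G) = p ^ j := by
    rw [← hj]
    simp
  have hyreg : ¬ p ∣ orderOf y := by
    rw [hBχ] at hy
    exact pRegular_of_blockCoeff hM χ₀ y hy.2.1
  have hpp : Cfsg.IsPPart p (w : G) (t * (x' : G) * t⁻¹) := by
    refine ⟨t * y * t⁻¹, ?_, ?_, ⟨j, ?_⟩, ?_⟩
    · rw [← ht, hg₀]; group
    · show t * (x' : G) * t⁻¹ * (t * y * t⁻¹) = t * y * t⁻¹ * (t * (x' : G) * t⁻¹)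
      calc t * (x' : G) * t⁻¹ * (t * y * t⁻¹) = t * ((x' : G) * y) * t⁻¹ := by group
        _ = t * (y * (x' : G)) * t⁻¹ := by rw [hcomm.eq]
        _ = t * y * t⁻¹ * (t * (x' : G) * t⁻¹) := by group
    · rw [← hxord]
      have := (MulAut.conj t).orderOf_eq (x' : G)
      rwa [MulAut.conj_apply] at this
    · have := (MulAut.conj t).orderOf_eq y
      rw [MulAut.conj_apply] at this
      rw [this]; exact hyreg
  obtain ⟨hzH, hz'⟩ := IsPPart.subgroup hp H hpp
  obtain ⟨hzD, hzc⟩ := hwz _ hz'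
  refine ⟨t, ⟨⟨_, hzH⟩, hzD, rfl⟩, ?_⟩
  rintro _ ⟨d, hd, rfl⟩
  exact congrArg Subtype.val (hzc d hd)

end Cfsg.Agent.S0930
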