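import Cfsg.Statements.S0931
import Mathlib
import Cfsg.Agent.Lib.Helper6.BlkDefConj
import Cfsg.Agent.S0930
import Cfsg.Agent.S0917
import Cfsg.Agent.S0908

set_option autoImplicit false
open Cfsg

namespace Cfsg.Agent.S0931

open Cfsg.Agent.Lib.Helper6

/-- Let H be a subgroup of the finite group G and fix a maximal ideal M of the algebraic integers containing the prime p. If the block b of H induces the block B of G, then b has defect 0 if and only if B has defect 0. -/
theorem result {G : Type*} [Group G] [Finite G] (p : ℕ) [Fact p.Prime] (M : Ideal Cfsg.AlgInt) (hM : Cfsg.IsPModular p M) (H : Subgroup G) (b : Set (Cfsg.IrrCharacter H)) (B : Set (Cfsg.IrrCharacter G)) (hind : Cfsg.IsInducedBlock M H b B) : Cfsg.blockDefect p b = 0 ↔ Cfsg.blockDefect p B = 0 := by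
  classical
  have : Fintype G := Fintype.ofFinite G
  have : Fintype H := Fintype.ofFinite H
  have hp : p.Prime := hM.1
  obtain ⟨ξ₀, hbξ⟩ := hind.1
  obtain ⟨χ₀, hBχ⟩ := hind.2.1
  -- defect groups
  obtain ⟨g, hg⟩ := exists_isDefectClass hM ξ₀
  have Q : Sylow p (Subgroup.centralizer ({g} : Set H)) := default
  obtain ⟨D, hDdef⟩ : ∃ D : Subgroup H, D = (Q : Subgroup (Subgroup.centralizer ({g} : Set H))).map
        (Subgroup.centralizer ({g} : Set H)).subtype := ⟨_, rfl⟩
  have hD : Cfsg.IsDefectGroup p M b D := by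
    rw [hbξ, hDdef]; exact ⟨g, hg, Q, rfl⟩
  obtain ⟨y, hy⟩ := exists_isDefectClass hM χ₀
  have R : Sylow p (Subgroup.centralizer ({y} : Set G)) := default
  obtain ⟨P, hPdef⟩ : ∃ P : Subgroup G, P = (R : Subgroup (Subgroup.centralizer ({y} : Set G))).map
        (Subgroup.centralizer ({y} : Set G)).subtype := ⟨_, rfl⟩
  have hP : Cfsg.IsDefectGroup p M B P := by
    rw [hBχ, hPdef]; exact ⟨y, hy, R, rfl⟩
  have hcardD := Cfsg.Agent.S0908.result p M hM b hind.1 D hD
  have hcardP := Cfsg.Agent.S0908.result p M hM B hind.2.1 P hP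
  have hPp : IsPGroup p P := by rw [hPdef]; exact sylow_map_isPGroup R
  constructor
  · intro hb0
    rw [hb0, pow_zero] at hcardD
    have hDbot : D = ⊥ := Subgroup.card_eq_one.mp hcardD
    by_contra hB0
    have hPnt : Nontrivial P := by
      rw [← Finite.one_lt_card_iff_nontrivial, hcardP]
      exact Nat.one_lt_pow hB0 hp.one_lt
    have hcnt := hPp.center_nontrivial
    obtain ⟨z, hz⟩ := exists_ne (1 : Subgroup.center P)
    obtain ⟨t, ht, _⟩ := Cfsg.Agent.S0930.result p M hM H b B hind D hD P hP ((z : P) : G)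
      (z : P).2 (by
        intro w hw
        have := Subgroup.mem_center_iff.mp z.2 ⟨w, hw⟩
        exact (congrArg Subtype.val this).symm)
    rw [hDbot, Subgroup.map_bot, Subgroup.mem_bot] at ht
    apply hz
    have h1 : ((z : P) : G) = 1 := by
      have : ((z : P) : G) = t⁻¹ * (t * ((z : P) : G) * t⁻¹) * t := by group
      rw [this, ht]; group
    exact Subtype.ext (Subtype.ext h1)
  · intro hB0
    rw [hB0, pow_zero] at hcardP
    have hPbot : P = ⊥ := Subgroup.card_eq_one.mp hcardP
    obtain ⟨E, hE, hDE⟩ := Cfsg.Agent.S0917.result p M hM H b hind.1 B hind.2.1 hind D hD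
    have hcardE := Cfsg.Agent.S0908.result p M hM B hind.2.1 E hE
    rw [hB0, pow_zero] at hcardE
    have hEbot : E = ⊥ := Subgroup.card_eq_one.mp hcardE
    rw [hEbot, le_bot_iff] at hDE
    have hDbot : D = ⊥ := by
      rw [eq_bot_iff]
      intro d hd
      have : (d : G) ∈ D.map H.subtype := ⟨d, hd, rfl⟩
      rw [hDE, Subgroup.mem_bot] at this
      rw [Subgroup.mem_bot]
      exact Subtype.ext this
    rw [hDbot, Subgroup.card_bot] at hcardD
    by_contra hb0
    have := Nat.one_lt_pow hb0 hp.one_lt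
    omega

end Cfsg.Agent.S0931
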