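import Cfsg.Statements.S0937
import Mathlib
import Cfsg.Agent.Lib.Helper6.BlkTildeInd
import Cfsg.Agent.Lib.Helper6.IrrBasis
import Cfsg.Agent.Lib.Helper6.Mult

set_option autoImplicit false
open Cfsg

namespace Cfsg.Agent.S0937

open Cfsg.Agent.Lib.Helper6

/-- Let H be a subgroup of the finite group G and fix a maximal ideal M of the algebraic integers containing the prime p. If the block b of H induces the block B of G and χ ∈ B has height zero, then there is ξ ∈ b of height zero whose multiplicity in the restriction of χ to H is a natural number not divisible by p. -/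
theorem result {G : Type*} [Group G] [Fintype G] (p : ℕ) [Fact p.Prime] (M : Ideal Cfsg.AlgInt) (hM : Cfsg.IsPModular p M) (H : Subgroup G) [Fintype H] (b : Set (Cfsg.IrrCharacter H)) (B : Set (Cfsg.IrrCharacter G)) (hind : Cfsg.IsInducedBlock M H b B) (χ : Cfsg.IrrCharacter G) (hχ : χ ∈ B) (h0 : Cfsg.blockHeight p B (χ : G → ℂ) = 0) : ∃ ξ ∈ b, Cfsg.blockHeight p b (ξ : H → ℂ) = 0 ∧ ∃ n : ℕ, Cfsg.classInner (fun h : H => (χ : G → ℂ) h) (ξ : H → ℂ) = (n : ℂ) ∧ ¬ p ∣ n := by
  classical
  have hp : p.Prime := hM.1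
  have : Fintype (Cfsg.IrrCharacter H) := Fintype.ofFinite _
  obtain ⟨ψ, hb⟩ := hind.1
  have hψb : ψ ∈ b := by rw [hb]; exact sameBlock_refl hM _
  have hunit := (tilde_induced_criterion H hM hind χ ψ hψb).2 hχ h0
  have hχH : Cfsg.IsCharacter H (resFun H (χ : G → ℂ)) :=
    IsCharacter.restrict H (IsIrrCharacter.isCharacter χ.2)
  obtain ⟨m, hm, hmi⟩ := IsCharacter.exists_mult hχH
  -- linearity of the tilde construction
  have htil : tildeFun p (resFun H (χ : G → ℂ))
      = ∑ ξ : Cfsg.IrrCharacter H, (m ξ : ℂ) • tildeFun p (ξ : H → ℂ) := by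
    funext x
    rw [Finset.sum_apply]
    unfold tildeFun
    simp only [Pi.smul_apply, smul_eq_mul]
    split_ifs with hx
    · simp
    · conv_lhs => rw [hm]
      rw [Finset.sum_apply, Finset.mul_sum]
      apply Finset.sum_congr rfl
      intro ξ _
      simp only [Pi.smul_apply, nsmul_eq_mul]
      ring
  by_contra hcon
  push Not at hcon
  apply hunit
  rw [htil, classInner_sum_left, Finset.sum_div]
  apply MemLocalIdeal.sum hM
  intro ξ _
  rw [classInner_smul_left, mul_div_assoc]
  have hξcf := IsIrrCharacter.isClassFunction ξ.2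
  have hξS : ∀ g, Cfsg.MemLocalRing M ((ξ : H → ℂ) g) := fun g =>
    memLocalRing_of_isIntegral hM (IsCharacter.isIntegral_apply (IsIrrCharacter.isCharacter ξ.2) g)
  have hKS := classInner_tildeFun_div_memLocalRing hM hξcf hξS ψ
  by_cases hξb : ξ ∈ b
  · have hsb : Cfsg.SameBlock M (ψ : H → ℂ) (ξ : H → ℂ) := by rw [hb] at hξb; exact hξb
    have h1 := classInner_tildeFun_div_sub hM hξcf hξS ψ ξ hsb
    by_cases hht : Cfsg.blockHeight p b (ξ : H → ℂ) = 0
    · -- `p` divides the multiplicity
      have hdvd : p ∣ m ξ := by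
        by_contra hnd
        exact hnd (hcon ξ hξb hht (m ξ) (hmi ξ))
      exact MemLocalIdeal.mul_right hM ((memLocalIdeal_natCast_iff hM _).mpr hdvd) hKS
    · -- positive height
      have h2 : Cfsg.MemLocalIdeal M (Cfsg.classInner (tildeFun p (ξ : H → ℂ)) (ξ : H → ℂ)
          / (ξ : H → ℂ) 1) := by
        by_contra hnot
        apply hht
        rw [hb] at hξb ⊢
        exact (blockHeight_eq_zero_iff_tilde hM ψ ξ hξb).mpr hnot
      have h3 := MemLocalIdeal.add hM h1 h2
      rw [sub_add_cancel] at h3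
      exact MemLocalIdeal.mul_left hM (memLocalRing_natCast hM _) h3
  · obtain ⟨c, -, hci, hc0⟩ := tildeFun_int_coeff hM ξ
    have : ψ ∉ Cfsg.blockOf M (ξ : H → ℂ) := by
      intro hmem
      apply hξb
      rw [hb]
      exact SameBlock.symm' hmem
    rw [hci ψ, hc0 ψ this]
    simp only [Int.cast_zero, zero_div, mul_zero]
    exact memLocalIdeal_zero hM


end Cfsg.Agent.S0937
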