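import Cfsg.Statements.S0938
import Mathlib
import Cfsg.Agent.Lib.Helper6.BlkKer

set_option autoImplicit false
open Cfsg

namespace Cfsg.Agent.S0938

open Cfsg.Agent.Lib.Helper6

/-- Let B be a block of the finite group G relative to a maximal ideal M of the algebraic integers containing the prime p, and let χ ∈ B. Then the kernel of B (the set of g with ψ g = ψ 1 for all ψ ∈ B) is a normal subgroup of order prime to p contained in the kernel of χ, and it contains every normal subgroup of order prime to p on which χ takes the value χ(1); that is, it is O_p' of the kernel of χ. -/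
theorem result {G : Type*} [Group G] [Finite G] (p : ℕ) [Fact p.Prime] (M : Ideal Cfsg.AlgInt) (hM : Cfsg.IsPModular p M) (B : Set (Cfsg.IrrCharacter G)) (hB : Cfsg.IsPBlock M B) (χ : Cfsg.IrrCharacter G) (hχ : χ ∈ B) : ∃ K : Subgroup G, K.Normal ∧ (K : Set G) = Cfsg.blockKer B ∧ ¬ p ∣ Nat.card K ∧ (∀ g ∈ K, (χ : G → ℂ) g = (χ : G → ℂ) 1) ∧ ∀ N : Subgroup G, N.Normal → ¬ p ∣ Nat.card N → (∀ g ∈ N, (χ : G → ℂ) g = (χ : G → ℂ) 1) → N ≤ K := by
  classical
  have : Fintype G := Fintype.ofFinite G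
  have hp : p.Prime := hM.1
  obtain ⟨χ₀, rfl⟩ := hB
  set B := Cfsg.blockOf M (χ₀ : G → ℂ) with hBdef
  let K : Subgroup G := ⨅ ψ : {ψ : Cfsg.IrrCharacter G // ψ ∈ B},
    charKer (IsIrrCharacter.isCharacter ψ.1.2)
  have hKmem : ∀ g : G, g ∈ K ↔ g ∈ Cfsg.blockKer B := by
    intro g
    simp only [K, Subgroup.mem_iInf, mem_charKer, Cfsg.blockKer, Set.mem_ofPred_eq, Subtype.forall]
  have hKn : K.Normal := by
    apply Subgroup.normal_iInf_normal
    intro ψ
    exact charKer_normal _
  refine ⟨K, hKn, ?_, ?_, ?_, ?_⟩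
  · ext g
    exact hKmem g
  · intro hdvd
    obtain ⟨u, hu⟩ := exists_prime_orderOf_dvd_card' p hdvd
    have hu' : (u : G) ∈ Cfsg.blockKer B := (hKmem _).mp u.2
    have := not_dvd_orderOf_of_mem_blockKer hM χ₀ hu'
    rw [Subgroup.orderOf_coe, hu] at this
    exact this dvd_rfl
  · intro g hg
    exact (hKmem g).mp hg χ hχ
  · intro N hNn hNp hN g hg
    rw [hKmem]
    intro ψ hψ
    have : Fintype N := Fintype.ofFinite N
    have hsb : Cfsg.SameBlock M (χ : G → ℂ) (ψ : G → ℂ) :=
      SameBlock.trans' hM (SameBlock.symm' hχ) hψ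
    exact const_on_normal_of_sameBlock_of_coprime N hM hNp χ ψ hsb hN g hg

end Cfsg.Agent.S0938
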