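import Cfsg.Statements.S0943
import Mathlib
import Cfsg.Agent.Lib.Helper6.GenOrth

set_option autoImplicit false
open Cfsg

namespace Cfsg.Agent.S0943

/-- Let χ be an irreducible character of the finite group G and u, v ∈ G. If χ (x * y) = χ (u * v) whenever x is conjugate to u and y is conjugate to v, then χ u * χ v = χ 1 * χ (u * v). (Multiply the class sums of u and v and apply the central character of χ.) -/
theorem result {G : Type*} [Group G] [Finite G] (χ : Cfsg.IrrCharacter G) (u v : G) (hc : ∀ x y : G, IsConj u x → IsConj v y → (χ : G → ℂ) (x * y) = (χ : G → ℂ) (u * v)) : (χ : G → ℂ) u * (χ : G → ℂ) v = (χ : G → ℂ) 1 * (χ : G → ℂ) (u * v) := by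
  classical
  have : Fintype G := Fintype.ofFinite G
  obtain ⟨χf, hχ⟩ := χ
  simp only at hc ⊢
  obtain ⟨k, ρ, hρirr, hρ⟩ := hχ
  have h1 := Cfsg.Agent.Lib.Helper6.sum_character_conj_mul ρ u v
  rw [hρ] at h1
  have h2 : ∀ a : G, χf (a * u * a⁻¹ * v) = χf (u * v) := by
    intro a
    exact hc (a * u * a⁻¹) v (isConj_iff.mpr ⟨a, rfl⟩) (IsConj.refl v)
  rw [Finset.sum_congr rfl (fun a _ => h2 a), Finset.sum_const, Finset.card_univ,
    ← Nat.card_eq_fintype_card, nsmul_eq_mul] at h1
  have hG := Cfsg.Agent.Lib.Helper6.card_ne_zero_complex G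
  have hd : (Module.finrank ℂ (Fin k → ℂ) : ℂ) ≠ 0 := by
    have := Cfsg.Agent.Lib.Helper6.finrank_pos_of_isIrreducible ρ
    exact_mod_cast this.ne'
  have h3 : χf 1 = (Module.finrank ℂ (Fin k → ℂ) : ℂ) := by
    rw [← hρ]
    exact Representation.char_one ρ
  rw [h3]
  field_simp at h1
  linear_combination -h1


end Cfsg.Agent.S0943
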