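import Mathlib
import Cfsg.Statements.S0945
import Cfsg.Agent.Lib.Lead.Homocyc

set_option autoImplicit false

open Cfsg

namespace Cfsg.Agent.S0945

theorem result {G : Type*} [Group G] [Finite G] (P : Sylow 2 G) (m : ℕ) (hm : 1 ≤ m) (e : (P : Subgroup G) ≃* Multiplicative (ZMod (2 ^ m) × ZMod (2 ^ m))) : ((Subgroup.centralizer (P : Set G)).relIndex (Subgroup.normalizer (P : Set G)) = 1 ∨ (Subgroup.centralizer (P : Set G)).relIndex (Subgroup.normalizer (P : Set G)) = 3) ∧ ((Subgroup.centralizer (P : Set G)).relIndex (Subgroup.normalizer (P : Set G)) ≠ 1 → ∀ z ∈ (P : Subgroup G), z ≠ 1 → Subgroup.centralizer ({z} : Set G) ⊓ Subgroup.normalizer (P : Set G) = Subgroup.centralizer (P : Set G)) := by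
  have h := Cfsg.Agent.Lib.Lead.Homocyc.hyp_of_equiv (P : Subgroup G) P.isPGroup' m hm e
  exact ⟨Cfsg.Agent.Lib.Lead.Homocyc.relIndex_cases P h,
    fun _ z hz hz1 => Cfsg.Agent.Lib.Lead.Homocyc.cent_inf_norm P h hz hz1⟩

end Cfsg.Agent.S0945
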