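import Mathlib
import Cfsg.Statements.S0946
import Cfsg.Agent.Lib.Lead.Homocyc

set_option autoImplicit false

open Cfsg

namespace Cfsg.Agent.S0946

theorem result {G : Type*} [Group G] [Finite G] (P : Sylow 2 G) (m : ℕ) (hm : 1 ≤ m) (e : (P : Subgroup G) ≃* Multiplicative (ZMod (2 ^ m) × ZMod (2 ^ m))) : (∃ N : Subgroup G, N.Normal ∧ Subgroup.IsComplement' N (P : Subgroup G)) ∨ ∀ s t : G, orderOf s = 2 → orderOf t = 2 → IsConj s t := by
  exact Cfsg.Agent.Lib.Lead.Homocyc.main946 P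
    (Cfsg.Agent.Lib.Lead.Homocyc.hyp_of_equiv (P : Subgroup G) P.isPGroup' m hm e)

end Cfsg.Agent.S0946
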