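import Cfsg.Statements.S0948
import Mathlib
import Cfsg.Agent.Lib.Helper6.KleinFourBlock

set_option autoImplicit false
open Cfsg

namespace Cfsg.Agent.S0948

open Cfsg.Agent.Lib.Helper6

/-- Let the finite group G have a Sylow 2-subgroup P that is a Klein four-group, suppose all involutions of G are conjugate, and fix a maximal ideal M of the algebraic integers containing 2. Then the principal block consists of exactly four irreducible characters, the principal character and ζ₂, ζ₃, ζ₄, and there is a sign ε such that for every involution z: ζ₂ z = 1, ζ₃ z = ε, ζ₄ z = -1; moreover ζ₂ 1 ≡ 1, ζ₃ 1 ≡ ε, ζ₄ 1 ≡ -1 (mod 4), and 1 + ζ₂ y + ε ζ₃ y - ζ₄ y = 0 for every y of odd order. -/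
theorem result {G : Type*} [Group G] [Finite G] (M : Ideal Cfsg.AlgInt) (hM : Cfsg.IsPModular 2 M) (P : Sylow 2 G) (hP : IsKleinFour (P : Subgroup G)) (hone : ∀ s t : G, orderOf s = 2 → orderOf t = 2 → IsConj s t) : ∃ ζ₂ ζ₃ ζ₄ : Cfsg.IrrCharacter G, ∃ ε : ℤ, (ε = 1 ∨ ε = -1) ∧ (ζ₂ : G → ℂ) ≠ (fun _ => 1) ∧ (ζ₃ : G → ℂ) ≠ (fun _ => 1) ∧ ζ₂ ≠ ζ₃ ∧ ζ₂ ≠ ζ₄ ∧ ζ₃ ≠ ζ₄ ∧ Cfsg.principalBlock M G = {χ : Cfsg.IrrCharacter G | (χ : G → ℂ) = (fun _ => 1) ∨ χ = ζ₂ ∨ χ = ζ₃ ∨ χ = ζ₄} ∧ (∀ z : G, orderOf z = 2 → (ζ₂ : G → ℂ) z = 1 ∧ (ζ₃ : G → ℂ) z = (ε : ℂ) ∧ (ζ₄ : G → ℂ) z = -1) ∧ (4 : ℤ) ∣ (Cfsg.charDegree (ζ₂ : G → ℂ) : ℤ) - 1 ∧ (4 : ℤ) ∣ (Cfsg.charDegree (ζ₃ : G → ℂ) : ℤ) - ε ∧ (4 : ℤ) ∣ (Cfsg.charDegree (ζ₄ : G → ℂ) : ℤ) + 1 ∧ ∀ y : G, Odd (orderOf y) → 1 + (ζ₂ : G → ℂ) y + (ε : ℂ) * (ζ₃ : G → ℂ) y - (ζ₄ : G → ℂ) y = 0 := by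
  classical
  have : Fintype G := Fintype.ofFinite G
  have : Fintype (Cfsg.IrrCharacter G) := Fintype.ofFinite _
  have : Fact (Nat.Prime 2) := ⟨Nat.prime_two⟩
  obtain ⟨z, hzP, hz2⟩ := exists_involution_of_kleinFour _ hP
  obtain ⟨n, hn, hcard, hpm⟩ := kleinFour_principalBlock_values hM P hP z hzP hz2
  have hz1 : z ≠ 1 := by
    intro h
    rw [h, orderOf_one] at hz2
    norm_num at hz2
  -- values at all involutions
  have hinv : ∀ (ζ : Cfsg.IrrCharacter G) (t : G), orderOf t = 2 →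
      (ζ : G → ℂ) t = (n ζ : ℂ) := by
    intro ζ t ht
    obtain ⟨c, hc⟩ := isConj_iff.mp (hone z t hz2 ht)
    rw [← hc, IsIrrCharacter.isClassFunction ζ.2 z c, hn]
  -- degrees modulo 4
  have hmod4 : ∀ ζ : Cfsg.IrrCharacter G, (4 : ℤ) ∣ (Cfsg.charDegree (ζ : G → ℂ) : ℤ) - n ζ := by
    intro ζ
    apply four_dvd_degree_sub_of_kleinFour _ hP (IsIrrCharacter.isCharacter ζ.2) (n ζ)
    intro w hw hw1
    exact hinv ζ w (orderOf_eq_two_of_kleinFour _ hP w hw hw1)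
  obtain ⟨S, hS⟩ : ∃ S : Finset (Cfsg.IrrCharacter G),
      S = Finset.univ.filter (· ∈ Cfsg.principalBlock M G) := ⟨_, rfl⟩
  rw [← hS] at hcard
  have hSmem : ∀ ζ, ζ ∈ S ↔ ζ ∈ Cfsg.principalBlock M G := by
    intro ζ
    rw [hS, Finset.mem_filter]
    simp
  -- orthogonality
  have horth : ∀ y : G, Odd (orderOf y) → ∑ ζ ∈ S, (n ζ : ℂ) * (ζ : G → ℂ) y = 0 := by
    intro y hy
    have h1 := block_orthogonality hM z y⁻¹ z 1
      ⟨1, mul_one z, Commute.one_right z, ⟨1, by rw [hz2, pow_one]⟩,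
        by rw [orderOf_one]; norm_num⟩
      ⟨y⁻¹, one_mul _, Commute.one_left _, ⟨0, by rw [orderOf_one, pow_zero]⟩,
        by rw [orderOf_inv, ← even_iff_two_dvd, Nat.not_even_iff_odd]; exact hy⟩
      (by
        intro hc
        exact hz1 (isConj_one_left.mp hc))
      (oneIrr G)
    rw [← principalBlock_eq, finsum_mem_eq_sum_filter_lib, ← hS] at h1
    rw [← h1]
    apply Finset.sum_congr rfl
    intro ζ _
    rw [inv_inv, hn]
  have h1S : oneIrr G ∈ S := by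
    rw [hSmem, principalBlock_eq]; exact sameBlock_refl hM _
  have hn1 : n (oneIrr G) = 1 := by
    have h1 := hn (oneIrr G)
    have h2 : ((oneIrr G : Cfsg.IrrCharacter G) : G → ℂ) z = 1 := rfl
    rw [h2] at h1
    exact_mod_cast h1.symm
  obtain ⟨T, hT⟩ : ∃ T : Finset (Cfsg.IrrCharacter G), T = S.erase (oneIrr G) := ⟨_, rfl⟩
  have hTcard : T.card = 3 := by
    rw [hT, Finset.card_erase_of_mem h1S, hcard]
  have hTmem : ∀ ζ, ζ ∈ T ↔ ζ ≠ oneIrr G ∧ ζ ∈ S := by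
    intro ζ
    rw [hT, Finset.mem_erase]
  have hTpm : ∀ ζ ∈ T, n ζ = 1 ∨ n ζ = -1 := by
    intro ζ hζ
    exact hpm ζ ((hSmem ζ).mp ((hTmem ζ).mp hζ).2)
  -- the relation at the identity
  have hrel : 1 + ∑ ζ ∈ T, n ζ * (Cfsg.charDegree (ζ : G → ℂ) : ℤ) = 0 := by
    have h1 := horth 1 (by rw [orderOf_one]; exact odd_one)
    rw [← Finset.add_sum_erase S _ h1S, ← hT, hn1] at h1
    have h2 : ((oneIrr G : Cfsg.IrrCharacter G) : G → ℂ) 1 = 1 := rfl
    rw [h2] at h1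
    have h3 : ∑ ζ ∈ T, (n ζ : ℂ) * (ζ : G → ℂ) 1
        = ((∑ ζ ∈ T, n ζ * (Cfsg.charDegree (ζ : G → ℂ) : ℤ) : ℤ) : ℂ) := by
      push_cast
      apply Finset.sum_congr rfl
      intro ζ _
      rw [IsCharacter.apply_one_eq_charDegree (IsIrrCharacter.isCharacter ζ.2)]
    rw [h3] at h1
    have h4 : ((1 + ∑ ζ ∈ T, n ζ * (Cfsg.charDegree (ζ : G → ℂ) : ℤ) : ℤ) : ℂ) = ((0 : ℤ) : ℂ) := by
      push_cast
      push_cast at h1
      rw [mul_one] at h1
      exact h1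
    exact_mod_cast h4
  have hdegpos : ∀ ζ : Cfsg.IrrCharacter G, (1 : ℤ) ≤ (Cfsg.charDegree (ζ : G → ℂ) : ℤ) := by
    intro ζ
    have := Nat.pos_of_ne_zero (charDegree_ne_zero ζ)
    exact_mod_cast this
  have hexpos : ∃ a ∈ T, n a = 1 := by
    by_contra hcon
    push Not at hcon
    have h1 : ∀ ζ ∈ T, n ζ * (Cfsg.charDegree (ζ : G → ℂ) : ℤ) ≤ -1 := by
      intro ζ hζ
      rcases hTpm ζ hζ with h | h
      · exact absurd h (hcon ζ hζ)
      · rw [h]
        have := hdegpos ζ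
        linarith
    have h2 := Finset.sum_le_sum h1
    rw [Finset.sum_const, hTcard] at h2
    simp only [nsmul_eq_mul] at h2
    norm_num at h2
    linarith
  have hexneg : ∃ c ∈ T, n c = -1 := by
    by_contra hcon
    push Not at hcon
    have h1 : ∀ ζ ∈ T, 0 ≤ n ζ * (Cfsg.charDegree (ζ : G → ℂ) : ℤ) := by
      intro ζ hζ
      rcases hTpm ζ hζ with h | h
      · rw [h]
        have := hdegpos ζ
        linarith
      · exact absurd h (hcon ζ hζ)
    have h2 := Finset.sum_nonneg h1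
    linarith
  obtain ⟨a, haT, hna⟩ := hexpos
  obtain ⟨c, hcT, hnc⟩ := hexneg
  have hac : a ≠ c := by
    intro h
    rw [h, hnc] at hna
    norm_num at hna
  have hcT' : c ∈ T.erase a := Finset.mem_erase.mpr ⟨hac.symm, hcT⟩
  have hU : ((T.erase a).erase c).card = 1 := by
    rw [Finset.card_erase_of_mem hcT', Finset.card_erase_of_mem haT, hTcard]
  obtain ⟨b, hb⟩ := Finset.card_eq_one.mp hU
  have hbmem : b ∈ (T.erase a).erase c := by rw [hb]; exact Finset.mem_singleton_self b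
  rw [Finset.mem_erase, Finset.mem_erase] at hbmem
  obtain ⟨hbc, hba, hbT⟩ := hbmem
  have hTeq : ∀ ζ, ζ ∈ T ↔ ζ = a ∨ ζ = b ∨ ζ = c := by
    intro ζ
    constructor
    · intro hζ
      by_cases h1 : ζ = a
      · left; exact h1
      · by_cases h2 : ζ = c
        · right; right; exact h2
        · right; left
          have : ζ ∈ (T.erase a).erase c :=
            Finset.mem_erase.mpr ⟨h2, Finset.mem_erase.mpr ⟨h1, hζ⟩⟩
          rw [hb, Finset.mem_singleton] at this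
          exact this
    · rintro (h | h | h)
      · rw [h]; exact haT
      · rw [h]; exact hbT
      · rw [h]; exact hcT
  have ha1 : a ≠ oneIrr G := ((hTmem a).mp haT).1
  have hb1 : b ≠ oneIrr G := ((hTmem b).mp hbT).1
  have hc1 : c ≠ oneIrr G := ((hTmem c).mp hcT).1
  have hfun : ∀ ζ : Cfsg.IrrCharacter G, (ζ : G → ℂ) = (fun _ => 1) ↔ ζ = oneIrr G := by
    intro ζ
    constructor
    · intro h
      exact Subtype.ext h
    · intro h
      rw [h]; rfl
  refine ⟨a, b, c, n b, hTpm b hbT, ?_, ?_, hba.symm, hac, hbc, ?_, ?_, ?_, ?_, ?_, ?_⟩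
  · intro h
    exact ha1 ((hfun a).mp h)
  · intro h
    exact hb1 ((hfun b).mp h)
  · ext ζ
    rw [Set.mem_ofPred_eq, ← hSmem, hfun]
    constructor
    · intro hζ
      by_cases h1 : ζ = oneIrr G
      · left; exact h1
      · right
        exact (hTeq ζ).mp ((hTmem ζ).mpr ⟨h1, hζ⟩)
    · rintro (h | h)
      · rw [h]; exact h1S
      · exact ((hTmem ζ).mp ((hTeq ζ).mpr h)).2
  · intro t ht
    refine ⟨?_, ?_, ?_⟩
    · rw [hinv a t ht, hna]; norm_num
    · rw [hinv b t ht]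
    · rw [hinv c t ht, hnc]; norm_num
  · have := hmod4 a
    rw [hna] at this
    exact this
  · exact hmod4 b
  · have := hmod4 c
    rw [hnc] at this
    rw [← sub_neg_eq_add]
    exact this
  · intro y hy
    have h1 := horth y hy
    rw [← Finset.add_sum_erase S _ h1S, ← hT, hn1] at h1
    have hTset : T = {a, b, c} := by
      ext ζ
      rw [hTeq]
      simp
    rw [hTset, Finset.sum_insert (by
        rw [Finset.mem_insert, Finset.mem_singleton]
        rintro (h | h)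
        · exact hba h.symm
        · exact hac h),
      Finset.sum_insert (by
        rw [Finset.mem_singleton]
        exact hbc), Finset.sum_singleton, hna, hnc] at h1
    have h2 : ((oneIrr G : Cfsg.IrrCharacter G) : G → ℂ) y = 1 := rfl
    rw [h2] at h1
    push_cast at h1
    linear_combination h1

end Cfsg.Agent.S0948
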