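import Cfsg.Statements.S4512
import Mathlib
import Cfsg.Agent.Lib.Helper6.KleinFourBlock
import Cfsg.Agent.Lib.Helper6.BlkRankLemmas
import Cfsg.Agent.Lib.Helper6.BlkSections

set_option autoImplicit false
open Cfsg

namespace Cfsg.Agent.S4512

open Cfsg.Agent.Lib.Helper6

/-- If G is a finite group with a Sylow 2-subgroup that is a Klein four-group and a single conjugacy class of involutions, then its principal 2-block (relative to a maximal ideal M of the algebraic integers containing 2) has 2-regular rank 3: the restrictions of its irreducible characters to the elements of odd order span a space of dimension 3 (it has three irreducible Brauer characters). -/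
theorem result {G : Type*} [Group G] [Finite G] (M : Ideal Cfsg.AlgInt) (hM : Cfsg.IsPModular 2 M) (P : Sylow 2 G)
    (hP : Nat.card P = 4) (hexp : ∀ x : P, x * x = 1)
    (hone : ∀ s t : G, orderOf s = 2 → orderOf t = 2 → IsConj s t) :
    Cfsg.blockRank 2 (Cfsg.principalBlock M G) = 3 := by
  classical
  have : Fintype G := Fintype.ofFinite G
  have : Fintype (Cfsg.IrrCharacter G) := Fintype.ofFinite _
  have : Fact (Nat.Prime 2) := ⟨Nat.prime_two⟩
  have hK : IsKleinFour (P : Subgroup G) := by
    refine ⟨hP, ?_⟩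
    have hdvd : Monoid.exponent (P : Subgroup G) ∣ 2 :=
      Monoid.exponent_dvd_of_forall_pow_eq_one (fun x => by rw [sq]; exact hexp x)
    rcases (Nat.dvd_prime Nat.prime_two).mp hdvd with h | h
    · exfalso
      have hsub : Subsingleton (P : Subgroup G) := Monoid.exp_eq_one_iff.mp h
      have : Nat.card (P : Subgroup G) = 1 := Nat.card_unique
      rw [hP] at this
      norm_num at this
    · exact h
  obtain ⟨z, hzP, hz2⟩ := exists_involution_of_kleinFour _ hK
  obtain ⟨n, hn, hcard, hpm⟩ := kleinFour_principalBlock_values hM P hK z hzP hz2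
  have hz1 : z ≠ 1 := by
    intro h
    rw [h, orderOf_one] at hz2
    norm_num at hz2
  have hcardB : Nat.card (Cfsg.principalBlock M G) = 4 := by
    rw [← hcard, Nat.card_eq_fintype_card, Fintype.card_subtype]
  -- every 2-element is conjugate to 1 or z
  have h2el : ∀ g : G, (∃ k : ℕ, orderOf g = 2 ^ k) → g = 1 ∨ orderOf g = 2 := by
    intro g ⟨k, hk⟩
    have hPg : IsPGroup 2 (Subgroup.zpowers g) := by
      apply IsPGroup.of_card (n := k)
      rw [Nat.card_zpowers, hk]
    obtain ⟨Q, hQ⟩ := hPg.exists_le_sylow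
    obtain ⟨c, hc⟩ := MulAction.exists_smul_eq G Q P
    have hgQ : g ∈ (Q : Subgroup G) := hQ (Subgroup.mem_zpowers g)
    have h1 : c * g * c⁻¹ ∈ (P : Subgroup G) := by
      rw [← hc, Sylow.coe_subgroup_smul]
      have := Subgroup.smul_mem_pointwise_smul g (MulAut.conj c) (Q : Subgroup G) hgQ
      rwa [MulAut.smul_def, MulAut.conj_apply] at this
    have h2 := hexp ⟨c * g * c⁻¹, h1⟩
    have h3 : (c * g * c⁻¹) * (c * g * c⁻¹) = 1 := congrArg (fun t : (P : Subgroup G) => (t : G)) h2
    have h4 : g * g = 1 := by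
      have : (c * g * c⁻¹) * (c * g * c⁻¹) = c * (g * g) * c⁻¹ := by group
      rw [this] at h3
      have h5 : g * g = c⁻¹ * (c * (g * g) * c⁻¹) * c := by group
      rw [h5, h3]
      group
    by_cases hg1 : g = 1
    · left; exact hg1
    · right
      have h5 : orderOf g ∣ 2 := orderOf_dvd_of_pow_eq_one (by rw [sq]; exact h4)
      rcases (Nat.dvd_prime Nat.prime_two).mp h5 with h | h
      · exact absurd (orderOf_eq_one_iff.mp h) hg1
      · exact h
  have hX : ∀ x ∈ ({1, z} : Finset G), ∃ k : ℕ, orderOf x = 2 ^ k := by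
    intro x hx
    rw [Finset.mem_insert, Finset.mem_singleton] at hx
    rcases hx with rfl | rfl
    · exact ⟨0, by rw [orderOf_one, pow_zero]⟩
    · exact ⟨1, by rw [hz2, pow_one]⟩
  have hXrep : ∀ g : G, (∃ k : ℕ, orderOf g = 2 ^ k) →
      ∃! x, x ∈ ({1, z} : Finset G) ∧ IsConj g x := by
    intro g hg
    rcases h2el g hg with rfl | h
    · refine ⟨1, ⟨by simp, IsConj.refl 1⟩, ?_⟩
      rintro x ⟨_, hx⟩
      exact (isConj_one_right.mp hx)
    · refine ⟨z, ⟨by simp, hone g z h hz2⟩, ?_⟩
      rintro x ⟨hx, hxc⟩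
      rw [Finset.mem_insert, Finset.mem_singleton] at hx
      rcases hx with rfl | rfl
      · exfalso
        have := isConj_one_left.mp hxc
        rw [this, orderOf_one] at h
        norm_num at h
      · rfl
  have h1 := card_block_eq_sum_sections hM (Cfsg.principalBlock M G) ⟨oneIrr G, rfl⟩ {1, z} hX hXrep
  rw [Finset.sum_pair (Ne.symm hz1),
    finsum_blockRank_induced_principal hM 1 ⟨0, by rw [orderOf_one, pow_zero]⟩,
    finsum_blockRank_induced_principal hM z ⟨1, by rw [hz2, pow_one]⟩,
    blockRank_principalBlock_of_normal_pComplement hM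
      (centralizer_involution_index_pPrimeCore P hK z hzP hz2)] at h1
  have htop : Subgroup.centralizer ({1} : Set G) = ⊤ := by
    ext g
    rw [Subgroup.mem_centralizer_singleton_iff]
    simp
  have e : ↥(Subgroup.centralizer ({1} : Set G)) ≃* G :=
    (MulEquiv.subgroupCongr htop).trans Subgroup.topEquiv
  rw [blockRank_principalBlock_mulEquiv e, hcardB] at h1
  omega

end Cfsg.Agent.S4512
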