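import Cfsg.Statements.S0951
import Mathlib
import Cfsg.Agent.S0201
import Cfsg.Agent.S4512
import Cfsg.Agent.Lib.Helper6.Q8Sylow3
import Cfsg.Agent.Lib.Helper6.RankCentralQuot
import Cfsg.Agent.Lib.Helper6.BlkRankLemmas
import Cfsg.Agent.Lib.Helper6.BlkSections

set_option autoImplicit false
open Cfsg

namespace Cfsg.Agent.S0951

open Cfsg.Agent.Lib.Helper6

/-- Let S be a Sylow 2-subgroup of the finite group G isomorphic to the quaternion group of order 8. Suppose G has no nontrivial normal subgroup of odd order and G ≠ S. Then, relative to any maximal ideal M of the algebraic integers containing 2, the principal block of G consists of exactly 7 irreducible characters. -/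
theorem result {G : Type*} [Group G] [Finite G] (M : Ideal Cfsg.AlgInt) (hM : Cfsg.IsPModular 2 M) (S : Sylow 2 G) (e : (S : Subgroup G) ≃* QuaternionGroup 2) (hO : ∀ N : Subgroup G, N.Normal → Odd (Nat.card N) → N = ⊥) (hG : (S : Subgroup G) ≠ ⊤) : Nat.card (Cfsg.principalBlock M G) = 7 := by
  classical
  have : Fintype G := Fintype.ofFinite G
  have : Fact (Nat.Prime 2) := ⟨Nat.prime_two⟩
  have hc2 : Nat.card (Subgroup.center G) = 2 := Cfsg.Agent.S0201.result S 0 e hO
  obtain ⟨z, hzdef⟩ : ∃ z : G, z = ((e.symm (QuaternionGroup.a 2) : (S : Subgroup G)) : G) :=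
    ⟨_, rfl⟩
  have hQ : Q8.Q8Data (S : Subgroup G) z := by
    rw [hzdef]
    exact Q8.Q8Data.of_equiv e
  obtain ⟨hz, hcen⟩ := Q8.center_eq hQ hc2
  have hzc : ∀ x : G, x * z = z * x := fun x => Subgroup.mem_center_iff.mp hz x
  have hone := Q8.involutions_conj_quotient hQ hc2 hz hcen hO hG
  -- the rank of the principal block
  have hrankQ : Cfsg.blockRank 2 (Cfsg.principalBlock M (G ⧸ Subgroup.center G)) = 3 :=
    Cfsg.Agent.S4512.result M hM (Q8.sylowBar S) (Q8.card_sylowBar hQ hc2)
      (fun x => Subtype.ext (Q8.sq_sylowBar hQ hz x x.2)) hone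
  have hZp : IsPGroup 2 (Subgroup.center G) := by
    apply IsPGroup.of_card (n := 1)
    rw [hc2, pow_one]
  have hrank : Cfsg.blockRank 2 (Cfsg.principalBlock M G) = 3 := by
    rw [blockRank_principalBlock_quotient_central hM (Subgroup.center G)
      (fun c hc h => (Subgroup.mem_center_iff.mp hc h).symm) hZp]
    exact hrankQ
  obtain ⟨u, huS, huu⟩ := hQ.exists4
  have hz1 : z ≠ 1 := hQ.z_ne
  have hz2 : orderOf z = 2 := by
    apply orderOf_eq_prime
    · rw [sq]; exact hQ.z_sq
    · exact hz1
  have hu4 : orderOf u = 4 := by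
    have h4 : u ^ 4 = 1 := by
      rw [← hQ.pow4 u huS, pow_succ, pow_succ, pow_succ, pow_one]
    have hdvd : orderOf u ∣ 2 ^ 2 := orderOf_dvd_of_pow_eq_one h4
    obtain ⟨j, hj, hj'⟩ := (Nat.dvd_prime_pow Nat.prime_two).mp hdvd
    have hj2 : j = 2 := by
      by_contra hne
      have hj1 : j ≤ 1 := by omega
      apply huu
      have h2 : u ^ 2 = 1 := by
        have : orderOf u ∣ 2 := by
          rw [hj']
          calc 2 ^ j ∣ 2 ^ 1 := Nat.pow_dvd_pow 2 hj1
            _ = 2 := pow_one 2
        exact orderOf_dvd_iff_pow_eq_one.mp this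
      rw [← sq]
      exact h2
    rw [hj', hj2]
    norm_num
  have hu1 : u ≠ 1 := by
    intro h
    rw [h, orderOf_one] at hu4
    norm_num at hu4
  have huz : u ≠ z := by
    intro h
    rw [h, hz2] at hu4
    norm_num at hu4
  have hX : ∀ x ∈ ({1, z, u} : Finset G), ∃ k : ℕ, orderOf x = 2 ^ k := by
    intro x hx
    rw [Finset.mem_insert, Finset.mem_insert, Finset.mem_singleton] at hx
    rcases hx with rfl | rfl | rfl
    · exact ⟨0, by rw [orderOf_one, pow_zero]⟩
    · exact ⟨1, by rw [hz2, pow_one]⟩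
    · exact ⟨2, by rw [hu4]; norm_num⟩
  have hordconj : ∀ a b : G, IsConj a b → orderOf a = orderOf b := by
    intro a b hab
    obtain ⟨c, hc⟩ := isConj_iff.mp hab
    rw [← hc]
    exact (orderOf_injective (MulAut.conj c).toMonoidHom (MulAut.conj c).injective a).symm
  have hXrep : ∀ g : G, (∃ k : ℕ, orderOf g = 2 ^ k) →
      ∃! x, x ∈ ({1, z, u} : Finset G) ∧ IsConj g x := by
    intro g hg
    rcases Q8.two_element_cases hQ hz hcen hone huS huu g hg with rfl | rfl | h
    · refine ⟨1, ⟨by simp, IsConj.refl 1⟩, ?_⟩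
      rintro x ⟨_, hx⟩
      exact (isConj_one_right.mp hx)
    · refine ⟨g, ⟨by simp, IsConj.refl g⟩, ?_⟩
      rintro x ⟨hx, hxc⟩
      have ho := hordconj _ _ hxc
      rw [Finset.mem_insert, Finset.mem_insert, Finset.mem_singleton] at hx
      rcases hx with rfl | rfl | rfl
      · rw [hz2, orderOf_one] at ho
        norm_num at ho
      · rfl
      · rw [hz2, hu4] at ho
        norm_num at ho
    · refine ⟨u, ⟨by simp, h⟩, ?_⟩
      rintro x ⟨hx, hxc⟩
      have ho := hordconj _ _ hxc
      have ho' := hordconj _ _ h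
      rw [ho', hu4] at ho
      rw [Finset.mem_insert, Finset.mem_insert, Finset.mem_singleton] at hx
      rcases hx with rfl | rfl | rfl
      · rw [orderOf_one] at ho
        norm_num at ho
      · rw [hz2] at ho
        norm_num at ho
      · rfl
  have h1 := card_block_eq_sum_sections hM (Cfsg.principalBlock M G) ⟨oneIrr G, rfl⟩ {1, z, u}
    hX hXrep
  have hnot1 : (1 : G) ∉ ({z, u} : Finset G) := by
    rw [Finset.mem_insert, Finset.mem_singleton]
    rintro (h | h)
    · exact hz1 h.symm
    · exact hu1 h.symm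
  rw [Finset.sum_insert hnot1, Finset.sum_pair (Ne.symm huz),
    finsum_blockRank_induced_principal hM 1 ⟨0, by rw [orderOf_one, pow_zero]⟩,
    finsum_blockRank_induced_principal hM z ⟨1, by rw [hz2, pow_one]⟩,
    finsum_blockRank_induced_principal hM u ⟨2, by rw [hu4]; norm_num⟩,
    blockRank_principalBlock_of_normal_pComplement hM
      (Q8.centralizer_index_pPrimeCore hQ huS huu)] at h1
  have htop1 : Subgroup.centralizer ({1} : Set G) = ⊤ := by
    ext g
    rw [Subgroup.mem_centralizer_singleton_iff]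
    simp
  have htopz : Subgroup.centralizer ({z} : Set G) = ⊤ := by
    ext g
    rw [Subgroup.mem_centralizer_singleton_iff]
    simp only [Subgroup.mem_top, iff_true]
    exact hzc g
  have e1 : ↥(Subgroup.centralizer ({1} : Set G)) ≃* G :=
    (MulEquiv.subgroupCongr htop1).trans Subgroup.topEquiv
  have ez : ↥(Subgroup.centralizer ({z} : Set G)) ≃* G :=
    (MulEquiv.subgroupCongr htopz).trans Subgroup.topEquiv
  rw [blockRank_principalBlock_mulEquiv e1, blockRank_principalBlock_mulEquiv ez, hrank] at h1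
  exact h1

end Cfsg.Agent.S0951
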