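import Cfsg.Statements.S0960
import Mathlib
import Cfsg.Agent.Lib.Helper6.PB13

set_option autoImplicit false
open Cfsg

namespace Cfsg.Agent.S0960

open Cfsg.Agent.Lib.Helper6

/-- Let p be an odd prime and G a finite group whose Sylow p-subgroup P has order p; let e be the index of C_G(P) in N_G(P) (a divisor of p − 1) and fix a maximal ideal M of the algebraic integers containing p. Then the principal block of G consists of exactly e + (p - 1) / e irreducible characters, and the degree d of each of them satisfies d ≡ 1, d ≡ -1, d ≡ e or d ≡ -e modulo p. -/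
theorem result {G : Type*} [Group G] [Finite G] (p : ℕ) [Fact p.Prime] (M : Ideal Cfsg.AlgInt) (hM : Cfsg.IsPModular p M) (hodd : p ≠ 2) (P : Sylow p G) (hP : Nat.card P = p) (e : ℕ) (he : (Subgroup.centralizer ((P : Subgroup G) : Set G)).relIndex (Subgroup.normalizer ((P : Subgroup G) : Set G)) = e) : Nat.card (Cfsg.principalBlock M G) = e + (p - 1) / e ∧ ∀ χ ∈ Cfsg.principalBlock M G, ((Cfsg.charDegree (χ : G → ℂ) : ℤ) ≡ 1 [ZMOD p] ∨ (Cfsg.charDegree (χ : G → ℂ) : ℤ) ≡ -1 [ZMOD p] ∨ (Cfsg.charDegree (χ : G → ℂ) : ℤ) ≡ (e : ℤ) [ZMOD p] ∨ (Cfsg.charDegree (χ : G → ℂ) : ℤ) ≡ -(e : ℤ) [ZMOD p]) := by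
  classical
  have : Fintype G := Fintype.ofFinite G
  have : Fintype ↥(Subgroup.centralizer ((P : Subgroup G) : Set G)) := Fintype.ofFinite _
  have : Fintype ↥(Subgroup.normalizer ((P : Subgroup G) : Set G)) := Fintype.ofFinite _
  obtain ⟨L, hL⟩ : ∃ L : PB.Loc M P, L = PB.prin P hM := ⟨_, rfl⟩
  have hB : Cfsg.IsPBlock M (Cfsg.principalBlock M G) := isPBlock_principalBlock
  have hBP : Cfsg.IsDefectGroup p M (Cfsg.principalBlock M G) (P : Subgroup G) :=
    PB.prin_defect P hM
  have hind : Cfsg.IsInducedBlock M (Subgroup.centralizer ((P : Subgroup G) : Set G)) L.b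
      (Cfsg.principalBlock M G) := by
    rw [hL]; exact PB.prin_induced P hM
  have hLe : L.e = e := by
    rw [hL, PB.prin_e, he]
  have hdθ : Cfsg.charDegree
      (L.θ : Subgroup.centralizer ((P : Subgroup G) : Set G) → ℂ) = 1 := by
    rw [hL]; exact PB.prin_charDegree P hM
  obtain ⟨K⟩ := L.exists_str hP hM hB hBP hind
  have hJe := L.card_J_mul_e hP hM
  have hepos : 0 < e := hLe ▸ L.e_pos
  rw [hLe] at hJe
  have hJ : Nat.card L.J = (p - 1) / e := by
    rw [← hJe]
    exact (Nat.mul_div_cancel _ hepos).symm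
  refine ⟨?_, ?_⟩
  · rw [PB.card_eq P hP hM L hB hBP hind, hLe, hJ]
  · intro χ hχ
    rw [K.union_eq] at hχ
    rcases hχ with hχ | ⟨j, rfl⟩
    · have h := K.degree_S hP hM hB hBP hind hχ
      rw [he, hLe, hdθ, Nat.div_self hepos] at h
      rcases K.sgn χ with h1 | h1 <;> rw [h1] at h
      · left; simpa using h
      · right; left; simpa using h
    · have h := K.degree_Y hP hM hB hBP hind j
      rw [he, hdθ, mul_one] at h
      rcases K.sgn (K.Λ j) with h1 | h1 <;> rw [h1] at h
      · right; right; right; simpa using h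
      · right; right; left; simpa using h

end Cfsg.Agent.S0960
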