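import Cfsg.Statements.S0962
import Mathlib
import Cfsg.Agent.Lib.Helper6.BlkDefect
import Cfsg.Agent.Lib.Helper6.BlkRigid
import Cfsg.Agent.Lib.Helper6.BlkCover3

set_option autoImplicit false
open Cfsg

namespace Cfsg.Agent.S0962

open Cfsg.Agent.Lib.Helper6

theorem exists_height_zero {G : Type*} [Group G] {p : ℕ}
    (B : Set (Cfsg.IrrCharacter G)) (hB : B.Nonempty) :
    ∃ χ ∈ B, (Cfsg.charDegree (χ : G → ℂ)).factorization p
      = sInf ((fun χ : Cfsg.IrrCharacter G => (Cfsg.charDegree (χ : G → ℂ)).factorization p) '' B) := by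
  obtain ⟨χ₀, hχ₀⟩ := hB
  have hne : ((fun χ : Cfsg.IrrCharacter G =>
      (Cfsg.charDegree (χ : G → ℂ)).factorization p) '' B).Nonempty := ⟨_, χ₀, hχ₀, rfl⟩
  obtain ⟨χ₁, hχ₁, hdeg₁⟩ := Nat.sInf_mem hne
  exact ⟨χ₁, hχ₁, hdeg₁⟩


/-- Fix a maximal ideal M of the algebraic integers containing the prime p and a natural number d. The number of blocks of the finite group G of defect at least d is at most the number of conjugacy classes of p-regular elements of G of defect at least d, where the defect of a class is the exponent of p in the order of the centralizer of any of its elements. -/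
theorem result {G : Type*} [Group G] [Finite G] (p : ℕ) [Fact p.Prime] (M : Ideal Cfsg.AlgInt) (hM : Cfsg.IsPModular p M) (d : ℕ) : Nat.card {B : Set (Cfsg.IrrCharacter G) // Cfsg.IsPBlock M B ∧ d ≤ Cfsg.blockDefect p B} ≤ Nat.card {C : ConjClasses G // ∃ g : G, ConjClasses.mk g = C ∧ Cfsg.IsPRegular p g ∧ d ≤ (Nat.card (Subgroup.centralizer ({g} : Set G))).factorization p} := by
  classical
  have : Fintype G := Fintype.ofFinite G
  have : Fintype (ConjClasses G) := Fintype.ofFinite _
  have hp : p.Prime := hM.1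
  have hfinB : Finite {B : Set (Cfsg.IrrCharacter G) // Cfsg.IsPBlock M B ∧ d ≤ Cfsg.blockDefect p B} := by
    have : Finite (Cfsg.IrrCharacter G) := inferInstance
    exact Subtype.finite
  have : Fintype {B : Set (Cfsg.IrrCharacter G) // Cfsg.IsPBlock M B ∧ d ≤ Cfsg.blockDefect p B} :=
    Fintype.ofFinite _
  rw [Nat.card_eq_fintype_card, Nat.card_eq_fintype_card]
  -- height zero representatives
  have hrep : ∀ B : {B : Set (Cfsg.IrrCharacter G) // Cfsg.IsPBlock M B ∧ d ≤ Cfsg.blockDefect p B},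
      ∃ χ ∈ B.1, (Cfsg.charDegree (χ : G → ℂ)).factorization p
        = sInf ((fun χ : Cfsg.IrrCharacter G => (Cfsg.charDegree (χ : G → ℂ)).factorization p) '' B.1) := by
    intro B
    obtain ⟨χ₀, hχ₀⟩ := B.2.1
    exact exists_height_zero B.1 ⟨χ₀, by rw [hχ₀]; exact sameBlock_refl hM _⟩
  choose rep hrepB hrepdeg using hrep
  obtain ⟨A, hA⟩ : ∃ A : Matrix {B : Set (Cfsg.IrrCharacter G) // Cfsg.IsPBlock M B ∧ d ≤ Cfsg.blockDefect p B}
      {C : ConjClasses G // ∃ g : G, ConjClasses.mk g = C ∧ Cfsg.IsPRegular p g ∧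
        d ≤ (Nat.card (Subgroup.centralizer ({g} : Set G))).factorization p} ℂ,
      A = fun B C => Cfsg.centralChar (rep B : G → ℂ) (Quotient.out C.1) := ⟨_, rfl⟩
  obtain ⟨Bm, hBm⟩ : ∃ Bm : Matrix {C : ConjClasses G // ∃ g : G, ConjClasses.mk g = C ∧ Cfsg.IsPRegular p g ∧
        d ≤ (Nat.card (Subgroup.centralizer ({g} : Set G))).factorization p}
      {B : Set (Cfsg.IrrCharacter G) // Cfsg.IsPBlock M B ∧ d ≤ Cfsg.blockDefect p B} ℂ,
      Bm = fun C B => Cfsg.blockCoeff B.1 (Quotient.out C.1) := ⟨_, rfl⟩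
  have hcoefS : ∀ (B : {B : Set (Cfsg.IrrCharacter G) // Cfsg.IsPBlock M B ∧ d ≤ Cfsg.blockDefect p B})
      (g : G), Cfsg.MemLocalRing M (Cfsg.blockCoeff B.1 g) := by
    intro B g
    obtain ⟨χ₀, hχ₀⟩ := B.2.1
    rw [hχ₀]
    exact blockCoeff_memLocalRing hM χ₀ g
  have hωS : ∀ (χ : Cfsg.IrrCharacter G) (g : G), Cfsg.MemLocalRing M (Cfsg.centralChar (χ : G → ℂ) g) :=
    fun χ g => memLocalRing_of_isIntegral hM (IsIrrCharacter.isIntegral_centralChar' χ.2 _)
  have hU : ∀ i j, Cfsg.MemLocalRing M ((A * Bm) i j) := by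
    intro i j
    rw [Matrix.mul_apply]
    apply MemLocalRing.sum hM
    intro C _
    rw [hA, hBm]
    exact MemLocalRing.mul hM (hωS _ _) (hcoefS _ _)
  have hU1 : ∀ i j, Cfsg.MemLocalIdeal M ((A * Bm) i j - (1 : Matrix _ _ ℂ) i j) := by
    intro i j
    have hEc : blockMat j.1 ∈ centerAlg G := blockMat_mem_centerAlg j.1
    have h1 := cOmega_eq_sum_classes (IsIrrCharacter.isClassFunction (rep i).2) hEc
    rw [cOmega_blockMat] at h1
    have hone : (1 : Matrix {B : Set (Cfsg.IrrCharacter G) // Cfsg.IsPBlock M B ∧ d ≤ Cfsg.blockDefect p B} _ ℂ) i j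
        = if rep i ∈ j.1 then 1 else 0 := by
      rw [Matrix.one_apply]
      by_cases hij : i = j
      · rw [if_pos hij, if_pos (by rw [← hij]; exact hrepB i)]
      · rw [if_neg hij, if_neg]
        intro hmem
        apply hij
        apply Subtype.ext
        obtain ⟨χi, hχi⟩ := i.2.1
        obtain ⟨χj, hχj⟩ := j.2.1
        have hi := hrepB i
        rw [hχi] at hi
        rw [hχj] at hmem
        rw [hχi, hχj, blockOf_eq_of_mem hM hi, blockOf_eq_of_mem hM hmem]
    rw [hone, h1, Matrix.mul_apply,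
      ← Fintype.sum_subtype_add_sum_subtype (fun C : ConjClasses G => ∃ g : G, ConjClasses.mk g = C ∧
        Cfsg.IsPRegular p g ∧ d ≤ (Nat.card (Subgroup.centralizer ({g} : Set G))).factorization p)
        (fun C => blockMat j.1 (Quotient.out C) 1 * Cfsg.centralChar (rep i : G → ℂ) (Quotient.out C))]
    have hfirst : ∑ C, A i C * Bm C j = ∑ C : {C : ConjClasses G // ∃ g : G, ConjClasses.mk g = C ∧
        Cfsg.IsPRegular p g ∧ d ≤ (Nat.card (Subgroup.centralizer ({g} : Set G))).factorization p},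
        blockMat j.1 (Quotient.out C.1) 1 * Cfsg.centralChar (rep i : G → ℂ) (Quotient.out C.1) := by
      apply Finset.sum_congr rfl
      intro C _
      rw [hA, hBm]
      unfold blockMat
      rw [regMat_apply, inv_one, mul_one, mul_comm]
    rw [hfirst, sub_add_cancel_left]
    apply MemLocalIdeal.neg
    apply MemLocalIdeal.sum hM
    intro C _
    obtain ⟨g, hg⟩ : ∃ g : G, g = Quotient.out C.1 := ⟨_, rfl⟩
    rw [← hg]
    have hgC : ConjClasses.mk g = C.1 := by rw [hg]; exact Quotient.out_eq _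
    have hval : blockMat j.1 g 1 = Cfsg.blockCoeff j.1 g := by
      unfold blockMat
      rw [regMat_apply, inv_one, mul_one]
    rw [hval]
    have hCnot := C.2
    by_cases hreg : p ∣ orderOf g
    · obtain ⟨χj, hχj⟩ := j.2.1
      rw [hχj, blockCoeff_eq_zero_of_pSingular hM χj g hreg, zero_mul]
      exact memLocalIdeal_zero hM
    · have hlt : ¬ d ≤ (Nat.card (Subgroup.centralizer ({g} : Set G))).factorization p :=
        fun hd => hCnot ⟨g, hgC, hreg, hd⟩
      apply MemLocalIdeal.mul_left hM (hcoefS j g)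
      by_contra hω
      apply hlt
      have h2 := factorization_index_le_of_centralChar hM (rep i).2 g hω
      rw [hrepdeg i] at h2
      have h3 := i.2.2
      unfold Cfsg.blockDefect at h3
      have h4 : (Subgroup.centralizer ({g} : Set G)).index.factorization p
          + (Nat.card (Subgroup.centralizer ({g} : Set G))).factorization p
          = (Nat.card G).factorization p := by
        rw [← Subgroup.index_mul_card (Subgroup.centralizer ({g} : Set G)),
          Nat.factorization_mul Subgroup.index_ne_zero_of_finite Nat.card_pos.ne']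
        rfl
      omega
  have hdet := det_ne_zero_of_congr_one hM (A * Bm) hU hU1
  have hunit : IsUnit (A * Bm) := by
    rw [Matrix.isUnit_iff_isUnit_det]
    exact isUnit_iff_ne_zero.mpr hdet
  have hr1 := Matrix.rank_of_isUnit (A * Bm) hunit
  have hr2 := Matrix.rank_mul_le_left A Bm
  have hr3 := Matrix.rank_le_card_width A
  omega

end Cfsg.Agent.S0962
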