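import Cfsg.Statements.S0969
import Mathlib
import Cfsg.Agent.Lib.Helper6.TwistDefect

set_option autoImplicit false
open Cfsg

namespace Cfsg.Agent.S0969

open Cfsg.Agent.Lib.Helper6

/-- Let D be a central p-subgroup of the finite group G and χ an irreducible character with the exponent of p in χ(1) equal to the exponent of p in the index of D; fix a maximal ideal M of the algebraic integers containing p. Then D is a defect group of the block of χ, and χ g = 0 whenever the p-part of g does not lie in D. -/
theorem result {G : Type*} [Group G] [Finite G] (p : ℕ) [Fact p.Prime] (M : Ideal Cfsg.AlgInt) (hM : Cfsg.IsPModular p M) (D : Subgroup G) (hD : IsPGroup p D) (hDZ : D ≤ Subgroup.center G) (χ : Cfsg.IrrCharacter G) (hdeg : (Cfsg.charDegree (χ : G → ℂ)).factorization p = D.index.factorization p) : Cfsg.IsDefectGroup p M (Cfsg.blockOf M (χ : G → ℂ)) D ∧ ∀ g x : G, Cfsg.IsPPart p g x → x ∉ D → (χ : G → ℂ) g = 0 := by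
  classical
  haveI : Fintype G := Fintype.ofFinite G
  have hG := sup_centralizer_eq_top_of_le_center D hDZ
  obtain ⟨lam, hlam1, hlam⟩ := exists_central_linear D hDZ χ
  have hH : ∀ (u : D) (k : G), ¬ p ∣ orderOf k →
      (χ : G → ℂ) ((u : G) * k) = (lam : D → ℂ) u * (χ : G → ℂ) k := fun u k _ => hlam u k
  refine ⟨isDefectGroup_blockOf_twist D hD hG χ hdeg lam hH hM, ?_⟩
  intro g x hx hxD
  apply eq_zero_of_ppEl_not_mem D hD hG χ hdeg lam hH
  rw [ppEl_eq_of_isPPart hx]
  exact hxD

end Cfsg.Agent.S0969
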