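import Cfsg.Statements.S0983
import Cfsg.Agent.Lib.Helper2.OrdR00
import Cfsg.Agent.Lib.Helper2.OrdR01
import Cfsg.Agent.Lib.Helper2.OrdR02
import Cfsg.Agent.Lib.Helper2.OrdR03
import Cfsg.Agent.Lib.Helper2.OrdR04
import Cfsg.Agent.Lib.Helper2.OrdR05
import Cfsg.Agent.Lib.Helper2.OrdR06
import Cfsg.Agent.Lib.Helper2.OrdR07
import Cfsg.Agent.Lib.Helper2.OrdR08
import Cfsg.Agent.Lib.Helper2.OrdR09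
import Cfsg.Agent.Lib.Helper2.OrdR10
import Cfsg.Agent.Lib.Helper2.OrdR11
import Cfsg.Agent.Lib.Helper2.OrdR12
import Cfsg.Agent.Lib.Helper2.OrdR13
import Cfsg.Agent.Lib.Helper2.OrdR14
import Cfsg.Agent.Lib.Helper2.OrdR15
import Cfsg.Agent.Lib.Helper2.OrdR16
import Cfsg.Agent.Lib.Helper2.OrdR17
import Cfsg.Agent.Lib.Helper2.OrdR18
import Cfsg.Agent.Lib.Helper2.OrdR19
import Cfsg.Agent.Lib.Helper2.OrdR20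
import Cfsg.Agent.Lib.Helper2.OrdR21
import Cfsg.Agent.Lib.Helper2.OrdR22
import Cfsg.Agent.Lib.Helper2.OrdR23
import Cfsg.Agent.Lib.Helper2.OrdR24
import Cfsg.Agent.Lib.Helper2.OrdR25

set_option autoImplicit false
open Cfsg

namespace Cfsg.Agent.S0983

/-- A non-abelian finite simple group of order greater than 3640 and at most 6232 has order 4080, 5616, 6048 or 6072. -/
theorem result {G : Type*} [Group G] [Finite G] [IsSimpleGroup G] (hG : ¬ IsMulCommutative G) (h1 : 3640 < Nat.card G) (h2 : Nat.card G ≤ 6232) : Nat.card G = 4080 ∨ Nat.card G = 5616 ∨ Nat.card G = 6048 ∨ Nat.card G = 6072 := by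
  obtain ⟨n, hn⟩ : ∃ n, Nat.card G = n := ⟨_, rfl⟩
  rw [hn] at h1 h2 ⊢
  have hcases :
      (3641 ≤ n ∧ n ≤ 3740) ∨ (3741 ≤ n ∧ n ≤ 3840) ∨ (3841 ≤ n ∧ n ≤ 3940) ∨
      (3941 ≤ n ∧ n ≤ 4040) ∨ (4041 ≤ n ∧ n ≤ 4140) ∨ (4141 ≤ n ∧ n ≤ 4240) ∨
      (4241 ≤ n ∧ n ≤ 4340) ∨ (4341 ≤ n ∧ n ≤ 4440) ∨ (4441 ≤ n ∧ n ≤ 4540) ∨
      (4541 ≤ n ∧ n ≤ 4640) ∨ (4641 ≤ n ∧ n ≤ 4740) ∨ (4741 ≤ n ∧ n ≤ 4840) ∨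
      (4841 ≤ n ∧ n ≤ 4940) ∨ (4941 ≤ n ∧ n ≤ 5040) ∨ (5041 ≤ n ∧ n ≤ 5140) ∨
      (5141 ≤ n ∧ n ≤ 5240) ∨ (5241 ≤ n ∧ n ≤ 5340) ∨ (5341 ≤ n ∧ n ≤ 5440) ∨
      (5441 ≤ n ∧ n ≤ 5540) ∨ (5541 ≤ n ∧ n ≤ 5640) ∨ (5641 ≤ n ∧ n ≤ 5740) ∨
      (5741 ≤ n ∧ n ≤ 5840) ∨ (5841 ≤ n ∧ n ≤ 5940) ∨ (5941 ≤ n ∧ n ≤ 6040) ∨
      (6041 ≤ n ∧ n ≤ 6140) ∨ 6141 ≤ n := by omega
  rcases hcases with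
    ⟨h3, h4⟩ | ⟨h3, h4⟩ | ⟨h3, h4⟩ | ⟨h3, h4⟩ | ⟨h3, h4⟩ | ⟨h3, h4⟩ | ⟨h3, h4⟩ | ⟨h3, h4⟩ |
    ⟨h3, h4⟩ | ⟨h3, h4⟩ | ⟨h3, h4⟩ | ⟨h3, h4⟩ | ⟨h3, h4⟩ | ⟨h3, h4⟩ | ⟨h3, h4⟩ | ⟨h3, h4⟩ |
    ⟨h3, h4⟩ | ⟨h3, h4⟩ | ⟨h3, h4⟩ | ⟨h3, h4⟩ | ⟨h3, h4⟩ | ⟨h3, h4⟩ | ⟨h3, h4⟩ | ⟨h3, h4⟩ |
    ⟨h3, h4⟩ | h3
  · exact Cfsg.Agent.Lib.Helper2.Ord.blockR0 hG hn h3 h4
  · exact Cfsg.Agent.Lib.Helper2.Ord.blockR1 hG hn h3 h4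
  · exact Cfsg.Agent.Lib.Helper2.Ord.blockR2 hG hn h3 h4
  · exact Cfsg.Agent.Lib.Helper2.Ord.blockR3 hG hn h3 h4
  · exact Cfsg.Agent.Lib.Helper2.Ord.blockR4 hG hn h3 h4
  · exact Cfsg.Agent.Lib.Helper2.Ord.blockR5 hG hn h3 h4
  · exact Cfsg.Agent.Lib.Helper2.Ord.blockR6 hG hn h3 h4
  · exact Cfsg.Agent.Lib.Helper2.Ord.blockR7 hG hn h3 h4
  · exact Cfsg.Agent.Lib.Helper2.Ord.blockR8 hG hn h3 h4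
  · exact Cfsg.Agent.Lib.Helper2.Ord.blockR9 hG hn h3 h4
  · exact Cfsg.Agent.Lib.Helper2.Ord.blockR10 hG hn h3 h4
  · exact Cfsg.Agent.Lib.Helper2.Ord.blockR11 hG hn h3 h4
  · exact Cfsg.Agent.Lib.Helper2.Ord.blockR12 hG hn h3 h4
  · exact Cfsg.Agent.Lib.Helper2.Ord.blockR13 hG hn h3 h4
  · exact Cfsg.Agent.Lib.Helper2.Ord.blockR14 hG hn h3 h4
  · exact Cfsg.Agent.Lib.Helper2.Ord.blockR15 hG hn h3 h4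
  · exact Cfsg.Agent.Lib.Helper2.Ord.blockR16 hG hn h3 h4
  · exact Cfsg.Agent.Lib.Helper2.Ord.blockR17 hG hn h3 h4
  · exact Cfsg.Agent.Lib.Helper2.Ord.blockR18 hG hn h3 h4
  · exact Cfsg.Agent.Lib.Helper2.Ord.blockR19 hG hn h3 h4
  · exact Cfsg.Agent.Lib.Helper2.Ord.blockR20 hG hn h3 h4
  · exact Cfsg.Agent.Lib.Helper2.Ord.blockR21 hG hn h3 h4
  · exact Cfsg.Agent.Lib.Helper2.Ord.blockR22 hG hn h3 h4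
  · exact Cfsg.Agent.Lib.Helper2.Ord.blockR23 hG hn h3 h4
  · exact Cfsg.Agent.Lib.Helper2.Ord.blockR24 hG hn h3 h4
  · exact Cfsg.Agent.Lib.Helper2.Ord.blockR25 hG hn h3 h2

end Cfsg.Agent.S0983
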