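import Cfsg.Statements.S0984
import Cfsg.Agent.Lib.Helper4.Ord2520m
import Cfsg.Agent.Lib.Helper4.SimpleSmall

set_option autoImplicit false
open Cfsg

namespace Cfsg.Agent.S0984

/-- A simple group of order 2520 is isomorphic to the alternating group of degree 7. -/
theorem result {G : Type*} [Group G] [Finite G] [IsSimpleGroup G] (h : Nat.card G = 2520) : Nonempty (G ≃* alternatingGroup (Fin 7)) := by
  classical
  haveI : Fintype G := Fintype.ofFinite G
  haveI : Fintype (Cfsg.IrrCharacter G) := Fintype.ofFinite _
  obtain ⟨M, hM⟩ := Cfsg.Agent.Lib.Helper4.Ord2520.exists_subgroup_360 h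
  have hidx : M.index = 7 := by
    have h1 := M.card_mul_index
    rw [hM, h] at h1
    omega
  exact Cfsg.Agent.Lib.Helper4.iso_alternating_of_index M 7 hidx (by rw [h]; decide) (by norm_num)

end Cfsg.Agent.S0984
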