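import Mathlib
import Cfsg.Statements.S0986

namespace Cfsg.Agent.S0986

/-- normalizers grow in `p`-groups, relative form. -/
theorem lt_inf_normalizer {G : Type*} [Group G] [Finite G] {p : ℕ} [Fact p.Prime]
    {X D : Subgroup G} (hX : IsPGroup p X) (h : D < X) :
    D < X ⊓ Subgroup.normalizer (D : Set G) := by
  haveI : Group.IsNilpotent X := hX.isNilpotent
  have nc := Group.normalizerCondition_of_isNilpotent (G := X)
  have h1 : D.subgroupOf X < ⊤ := lt_top_iff_ne_top.mpr (fun e => by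
    rw [Subgroup.subgroupOf_eq_top] at e; exact not_le_of_gt h e)
  have h2 := nc _ h1
  rw [← Subgroup.subgroupOf_normalizer_eq h.le] at h2
  obtain ⟨⟨x, hxX⟩, hxN, hxD⟩ := SetLike.exists_of_lt h2
  refine lt_of_le_of_ne (le_inf h.le Subgroup.le_normalizer) ?_
  intro e
  apply hxD
  rw [Subgroup.mem_subgroupOf, e]
  exact Subgroup.mem_inf.mpr ⟨hxX, hxN⟩

theorem result {G : Type*} [Group G] [Finite G] (p : ℕ) [Fact p.Prime] (P Q : Sylow p G) (hPQ : P ≠ Q) (hmax : ∀ P' Q' : Sylow p G, P' ≠ Q' → Nat.card ↥((P' : Subgroup G) ⊓ (Q' : Subgroup G)) ≤ Nat.card ↥((P : Subgroup G) ⊓ (Q : Subgroup G))) : 1 < Nat.card (Sylow p ↥(Subgroup.normalizer (((P : Subgroup G) ⊓ (Q : Subgroup G) : Subgroup G) : Set G))) ∧ (∀ S T : Sylow p ↥(Subgroup.normalizer (((P : Subgroup G) ⊓ (Q : Subgroup G) : Subgroup G) : Set G)), S ≠ T → (S : Subgroup _) ⊓ (T : Subgroup _) = ((P : Subgroup G) ⊓ (Q : Subgroup G)).subgroupOf (Subgroup.normalizer (((P : Subgroup G) ⊓ (Q : Subgroup G) : Subgroup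 G) : Set G))) ∧ ∀ S : Sylow p ↥(Subgroup.normalizer (((P : Subgroup G) ⊓ (Q : Subgroup G) : Subgroup G) : Set G)), ∃! T : Sylow p G, (S : Subgroup _).map (Subgroup.normalizer (((P : Subgroup G) ⊓ (Q : Subgroup G) : Subgroup G) : Set G)).subtype ≤ (T : Subgroup G) := by
  classical
  set D : Subgroup G := (P : Subgroup G) ⊓ (Q : Subgroup G) with hD
  set N : Subgroup G := Subgroup.normalizer (D : Set G) with hN
  have hDN : D ≤ N := Subgroup.le_normalizer
  have hDp : IsPGroup p D := P.2.to_le inf_le_left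
  have K2 : ∀ T₁ T₂ : Sylow p G, T₁ ≠ T₂ → D ≤ (T₁ : Subgroup G) ⊓ T₂ →
      (T₁ : Subgroup G) ⊓ T₂ = D := by
    intro T₁ T₂ hne hle
    exact (Subgroup.eq_of_le_of_card_ge hle (hmax T₁ T₂ hne)).symm
  have hDP : D < (P : Subgroup G) := by
    refine lt_of_le_of_ne inf_le_left ?_
    intro e
    have : (P : Subgroup G) ≤ Q := by rw [← e]; exact inf_le_right
    exact hPQ (Sylow.ext (P.3 Q.2 this)).symm
  have hDQ : D < (Q : Subgroup G) := by
    refine lt_of_le_of_ne inf_le_right ?_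
    intro e
    have : (Q : Subgroup G) ≤ P := by rw [← e]; exact inf_le_left
    exact hPQ (Sylow.ext (Q.3 P.2 this))
  have K1P : D < (P : Subgroup G) ⊓ N := lt_inf_normalizer P.2 hDP
  have K1Q : D < (Q : Subgroup G) ⊓ N := lt_inf_normalizer Q.2 hDQ
  -- images of Sylow subgroups of N
  let m : Sylow p N → Subgroup G := fun S => (S : Subgroup N).map N.subtype
  have hmN : ∀ S, m S ≤ N := fun S => Subgroup.map_subtype_le _
  have hmp : ∀ S, IsPGroup p (m S) := fun S => S.2.map _
  have hmem : ∀ (S : Sylow p N) (x : N), (x : G) ∈ m S ↔ x ∈ (S : Subgroup N) := fun S x =>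
    Subgroup.mem_map_iff_mem N.subtype_injective
  have hle_iff : ∀ (S : Sylow p N) (X : Subgroup G), X ≤ N → (X ≤ m S ↔ X.subgroupOf N ≤ S) := by
    intro S X hXN
    constructor
    · intro h x hx
      rw [Subgroup.mem_subgroupOf] at hx
      exact (hmem S x).mp (h hx)
    · intro h x hx
      have : (⟨x, hXN hx⟩ : N) ∈ (S : Subgroup N) := h (by rw [Subgroup.mem_subgroupOf]; exact hx)
      exact (hmem S ⟨x, hXN hx⟩).mpr this
  have hDm : ∀ S, D ≤ m S := by
    intro S
    rw [hle_iff S D hDN]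
    haveI : (D.subgroupOf N).Normal := Subgroup.normal_in_normalizer
    have hDp' : IsPGroup p (D.subgroupOf N) := hDp.comap_subtype
    exact IsPGroup.le_sylow_of_normal hDp' S
  -- maximality of S in N
  have hSmax : ∀ (S : Sylow p N) (X : Subgroup G), X ≤ N → IsPGroup p X → m S ≤ X → X = m S := by
    intro S X hXN hXp hle
    have h1 : (S : Subgroup N) ≤ X.subgroupOf N := by
      intro x hx
      rw [Subgroup.mem_subgroupOf]
      exact hle ((hmem S x).mpr hx)
    have hXp' : IsPGroup p (X.subgroupOf N) := hXp.comap_subtype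
    have h2 : X.subgroupOf N = S := S.3 hXp' h1
    apply le_antisymm _ hle
    rw [hle_iff S X hXN, h2]
  have hmne : ∀ S, m S ≠ D := by
    intro S e
    have := hSmax S ((P : Subgroup G) ⊓ N) inf_le_right (P.2.to_le inf_le_left)
      (by rw [e]; exact K1P.le)
    rw [e] at this
    exact K1P.ne this.symm
  refine ⟨?_, ?_, ?_⟩
  · by_contra hcon
    have hle1 : Nat.card (Sylow p N) ≤ 1 := not_lt.mp hcon
    haveI : Subsingleton (Sylow p N) := by
      rw [← Finite.card_le_one_iff_subsingleton]; exact hle1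
    obtain ⟨S⟩ : Nonempty (Sylow p N) := inferInstance
    have hall : ∀ X : Subgroup G, X ≤ N → IsPGroup p X → X ≤ m S := by
      intro X hXN hXp
      have hXp' : IsPGroup p (X.subgroupOf N) := hXp.comap_subtype
      obtain ⟨S₁, hS₁⟩ := hXp'.exists_le_sylow
      rw [Subsingleton.elim S₁ S] at hS₁
      rw [hle_iff S X hXN]
      exact hS₁
    obtain ⟨T, hT⟩ := (hmp S).exists_le_sylow
    have hTP : T = P := by
      by_contra hne
      have h1 : (P : Subgroup G) ⊓ N ≤ (T : Subgroup G) ⊓ P :=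
        le_inf ((hall _ inf_le_right (P.2.to_le inf_le_left)).trans hT) inf_le_left
      have h2 := K2 T P hne (K1P.le.trans h1)
      rw [h2] at h1
      exact not_le_of_gt K1P h1
    have hTQ : T = Q := by
      by_contra hne
      have h1 : (Q : Subgroup G) ⊓ N ≤ (T : Subgroup G) ⊓ Q :=
        le_inf ((hall _ inf_le_right (Q.2.to_le inf_le_left)).trans hT) inf_le_left
      have h2 := K2 T Q hne (K1Q.le.trans h1)
      rw [h2] at h1
      exact not_le_of_gt K1Q h1
    exact hPQ (hTP.symm.trans hTQ)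
  · intro S T hST
    obtain ⟨S₁, hS₁⟩ := (hmp S).exists_le_sylow
    obtain ⟨T₁, hT₁⟩ := (hmp T).exists_le_sylow
    have hne : S₁ ≠ T₁ := by
      rintro rfl
      have h1 := hSmax S ((S₁ : Subgroup G) ⊓ N) inf_le_right (S₁.2.to_le inf_le_left)
        (le_inf hS₁ (hmN S))
      have h2 := hSmax T ((S₁ : Subgroup G) ⊓ N) inf_le_right (S₁.2.to_le inf_le_left)
        (le_inf hT₁ (hmN T))
      apply hST
      apply Sylow.ext
      ext x
      rw [← hmem S x, ← hmem T x, ← h1, ← h2]
    have h3 : m S ⊓ m T = D := by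
      apply le_antisymm
      · rw [← K2 S₁ T₁ hne (le_inf ((hDm S).trans hS₁) ((hDm T).trans hT₁))]
        exact inf_le_inf hS₁ hT₁
      · exact le_inf (hDm S) (hDm T)
    ext x
    rw [Subgroup.mem_inf, Subgroup.mem_subgroupOf, ← h3, Subgroup.mem_inf, hmem S x, hmem T x]
  · intro S
    obtain ⟨T, hT⟩ := (hmp S).exists_le_sylow
    refine ⟨T, hT, ?_⟩
    intro T' hT'
    by_contra hne
    have h1 := K2 T' T hne (le_inf ((hDm S).trans hT') ((hDm S).trans hT))
    have h2 : m S ≤ D := by rw [← h1]; exact le_inf hT' hT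
    exact hmne S (le_antisymm h2 (hDm S))

end Cfsg.Agent.S0986
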