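import Mathlib
import Cfsg.Statements.S0988
import Cfsg.Agent.Lib.Lead.SmallSimple2

set_option autoImplicit false
open Cfsg

namespace Cfsg.Agent.S0988

open Cfsg.Agent.Lib.Lead.SmallSimple2

theorem result {G : Type*} [Group G] [Finite G] [IsSimpleGroup G] (p q r : ℕ) (hp : p.Prime) (hq : q.Prime) (hr : r.Prime) (hG : Nat.card G = p ^ 2 * q * r) : Nat.card G = 60 := by
  wlog hqr : q ≤ r generalizing q r
  · exact this r q hr hq (by rw [hG]; ring) (by omega)
  rcases Nat.lt_trichotomy p q with hpq | hpq | hpq
  · rcases Nat.lt_or_eq_of_le hqr with h | h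
    · exact case_pqr hp hq hr hpq h hG
    · subst h
      exfalso
      exact case_a2b2 hp hq hpq (by rw [hG]; ring)
  · subst hpq
    rcases Nat.lt_or_eq_of_le hqr with h | h
    · exfalso
      exact case_a3b hp hr h (by rw [hG]; ring)
    · subst h
      exfalso
      haveI : Fact p.Prime := ⟨hp⟩
      have hG4 : Nat.card G = p ^ 4 := by rw [hG]; ring
      have hpg : IsPGroup p G := IsPGroup.of_card hG4
      have hprime := prime_card_of_pGroup p hpg
      rw [hG4] at hprime
      have : p ^ 4 = p ^ 2 * p ^ 2 := by ring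
      rw [this] at hprime
      exact Nat.not_prime_mul (Nat.one_lt_pow (n := 2) (by norm_num) hp.one_lt).ne'
        (Nat.one_lt_pow (n := 2) (by norm_num) hp.one_lt).ne' hprime
  · rcases Nat.lt_or_eq_of_le hqr with h | h
    · exfalso
      have hqd : q ∣ Nat.card G := by rw [hG]; exact Dvd.dvd.mul_right (Dvd.intro_left _ rfl) r
      have hmin : ∀ t : ℕ, t.Prime → t ∣ Nat.card G → q ≤ t := by
        intro t ht htd
        rw [hG] at htd
        rcases (Nat.Prime.dvd_mul ht).mp htd with h1 | h1
        · rcases (Nat.Prime.dvd_mul ht).mp h1 with h2 | h2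
          · have := (Nat.prime_dvd_prime_iff_eq ht hp).mp (ht.dvd_of_dvd_pow h2); omega
          · have := (Nat.prime_dvd_prime_iff_eq ht hq).mp h2; omega
        · have := (Nat.prime_dvd_prime_iff_eq ht hr).mp h1; omega
      have hne : Nat.card G ≠ q := by
        intro h1
        rw [hG] at h1
        have h2 : p ^ 2 * q * r = q * (p ^ 2 * r) := by ring
        rw [h2] at h1
        have h3 : q * (p ^ 2 * r) = q * 1 := by rw [h1, mul_one]
        have h4 := Nat.eq_of_mul_eq_mul_left hq.pos h3
        nlinarith [hp.two_le, hr.two_le]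
      have hsq := sq_dvd_of_min hq hqd hmin hne
      rw [hG] at hsq
      have h2 : p ^ 2 * q * r = q * (p ^ 2 * r) := by ring
      rw [h2, pow_two] at hsq
      have h3 : q ∣ p ^ 2 * r := Nat.dvd_of_mul_dvd_mul_left hq.pos hsq
      rcases (Nat.Prime.dvd_mul hq).mp h3 with h4 | h4
      · have := (Nat.prime_dvd_prime_iff_eq hq hp).mp (hq.dvd_of_dvd_pow h4); omega
      · have := (Nat.prime_dvd_prime_iff_eq hq hr).mp h4; omega
    · subst h
      exfalso
      exact case_a2b2 hq hp hpq (by rw [hG]; ring)

end Cfsg.Agent.S0988
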