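import Mathlib
import Cfsg.Statements.S0994
import Cfsg.Agent.Lib.Lead.SylowCount

namespace Cfsg.Agent.S0994

open Cfsg.Agent.Lib.Lead.SylowCount

theorem result {G : Type*} [Group G] [Finite G] [IsSimpleGroup G] : Nat.card G ≠ 1188 := by
  intro hG
  haveI : Fact (Nat.Prime 11) := ⟨by norm_num⟩
  obtain ⟨P⟩ : Nonempty (Sylow 11 G) := inferInstance
  have hPcard : Nat.card P = 11 := card_sylow_of_card_eq 11 108 (by rw [hG]) (by norm_num) P
  have hdvd : Nat.card (Sylow 11 G) ∣ 108 :=
    card_sylow_dvd_of_card P hPcard (by rw [hG]) (by norm_num)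
  have hmod : Nat.card (Sylow 11 G) % 11 = 1 := card_sylow_modEq_one 11 G
  have hne1 : Nat.card (Sylow 11 G) ≠ 1 :=
    card_sylow_ne_one_of_card P hPcard (by norm_num) (by rw [hG]; norm_num)
  have hle : Nat.card (Sylow 11 G) ≤ 108 := Nat.le_of_dvd (by norm_num) hdvd
  have hN := card_sylow_mul_card_normalizer 11 P
  rw [hG] at hN
  have h12 : Nat.card (Sylow 11 G) = 12 := by
    generalize Nat.card (Sylow 11 G) = n at *
    interval_cases n <;> omega
  rw [h12] at hN
  have hN' : Nat.card (Subgroup.normalizer ((P : Subgroup G) : Set G)) = 11 * 9 := by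
    have : Nat.card (Subgroup.normalizer ((P : Subgroup G) : Set G)) =
      Nat.card (Subgroup.normalizer (P : Set G)) := rfl
    omega
  exact false_of_simple_of_coprime P hPcard hN' (by norm_num) (by rw [hG]; norm_num)

end Cfsg.Agent.S0994
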