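import Mathlib
import Cfsg.Statements.S0995
import Cfsg.Agent.Lib.Lead.SylowCount
import Cfsg.Agent.Lib.Lead.ConjOrbit
import Cfsg.Agent.Lib.Lead.Closed

namespace Cfsg.Agent.S0995

open Cfsg.Agent.Lib.Lead.SylowCount Cfsg.Agent.Lib.Lead.ConjOrbit

/-- centralizers of two elements generating the same cyclic subgroup agree -/
theorem centralizer_le_of_mem_zpowers {G : Type*} [Group G] (x z : G) (h : x ∈ Subgroup.zpowers z) :
    Subgroup.centralizer ({z} : Set G) ≤ Subgroup.centralizer ({x} : Set G) := by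
  intro c hc
  rw [Subgroup.mem_centralizer_iff] at hc ⊢
  intro y hy
  rw [Set.mem_singleton_iff] at hy
  subst hy
  obtain ⟨k, rfl⟩ := Subgroup.mem_zpowers_iff.mp h
  have hcz : Commute z c := hc z (Set.mem_singleton z)
  exact (hcz.zpow_left k).eq

theorem result {G : Type*} [Group G] [Finite G] (hperf : commutator G = ⊤) (p : ℕ) [Fact p.Prime] (z : G) (hz : orderOf z = p) (hC : Subgroup.centralizer ({z} : Set G) = Subgroup.zpowers z) : ∃ n t : ℕ, t = Nat.card {c : ConjClasses G // ∃ g : G, ConjClasses.mk g = c ∧ orderOf g = p} ∧ t ∣ p - 1 ∧ Nat.card (Sylow p G) = 1 + n * p ∧ Nat.card G * t = (p - 1) * p * (1 + n * p) := by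
  classical
  have hp : p.Prime := Fact.out
  set P : Subgroup G := Subgroup.zpowers z with hPdef
  have hPcard : Nat.card P = p := by rw [hPdef, Nat.card_zpowers, hz]
  have hzP : z ∈ P := Subgroup.mem_zpowers z
  -- nonidentity elements of P
  have hord : ∀ x ∈ P, x ≠ 1 → orderOf x = p := by
    intro x hx hne
    have h1 : orderOf (⟨x, hx⟩ : P) ∣ p := by
      have h0 := orderOf_dvd_natCard (⟨x, hx⟩ : P)
      exact h0.trans (dvd_of_eq hPcard)
    rw [Subgroup.orderOf_mk] at h1
    rcases (Nat.dvd_prime hp).mp h1 with h2 | h2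
    · exact absurd (orderOf_eq_one_iff.mp h2) hne
    · exact h2
  have hgen : ∀ x ∈ P, x ≠ 1 → Subgroup.zpowers x = P := by
    intro x hx hne
    apply Subgroup.eq_of_le_of_card_ge
    · rw [Subgroup.zpowers_le]; exact hx
    · rw [hPcard, Nat.card_zpowers, hord x hx hne]
  have hcent : ∀ x ∈ P, x ≠ 1 → Subgroup.centralizer ({x} : Set G) = P := by
    intro x hx hne
    apply le_antisymm
    · rw [← hC]
      apply centralizer_le_of_mem_zpowers
      rw [hgen x hx hne]; exact hzP
    · rw [← hC]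
      exact centralizer_le_of_mem_zpowers x z hx
  -- P is a Sylow subgroup
  have hPp : IsPGroup p P := IsPGroup.of_card (n := 1) (by rw [hPcard, pow_one])
  obtain ⟨S, hPS⟩ := hPp.exists_le_sylow
  have hSP : (S : Subgroup G) = P := by
    apply le_antisymm _ hPS
    haveI : Nontrivial (S : Subgroup G) := by
      refine ⟨⟨⟨z, hPS hzP⟩, 1, ?_⟩⟩
      intro h
      have : z = 1 := congrArg Subtype.val h
      rw [this, orderOf_one] at hz
      exact hp.one_lt.ne hz
    have hcn : Nontrivial (Subgroup.center (S : Subgroup G)) := S.2.center_nontrivial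
    obtain ⟨⟨c, hc⟩, hc1⟩ := exists_ne (1 : Subgroup.center (S : Subgroup G))
    have hc1' : (c : G) ≠ 1 := by
      intro h
      apply hc1
      apply Subtype.ext
      apply Subtype.ext
      exact h
    rw [Subgroup.mem_center_iff] at hc
    have hcP : (c : G) ∈ P := by
      rw [← hC, Subgroup.mem_centralizer_iff]
      intro y hy
      rw [Set.mem_singleton_iff] at hy
      subst hy
      have := hc ⟨y, hPS hzP⟩
      exact congrArg Subtype.val this
    rw [← hcent (c : G) hcP hc1']
    intro s hs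
    rw [Subgroup.mem_centralizer_iff]
    intro y hy
    rw [Set.mem_singleton_iff] at hy
    subst hy
    have := hc ⟨s, hs⟩
    exact (congrArg Subtype.val this).symm
  have hScard : Nat.card S = p := by
    have : Nat.card (S : Subgroup G) = p := by rw [hSP]; exact hPcard
    exact this
  set N := Subgroup.normalizer ((S : Subgroup G) : Set G) with hN
  have hPN : P ≤ N := by rw [← hSP]; exact Subgroup.le_normalizer
  set m := P.relIndex N with hm
  have hNcard : p * m = Nat.card N := by
    rw [← hPcard]; exact card_mul_relIndex hPN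
  -- orbit sizes
  have horb : ∀ x ∈ P, x ≠ 1 → Set.ncard {h : G | ∃ n ∈ N, n * x * n⁻¹ = h} = m := by
    intro x hx hne
    have h1 := card_eq_card_centralizer_inf_mul_ncard_conj N x
    rw [hcent x hx hne, inf_of_le_left hPN, hPcard, ← hNcard] at h1
    exact (Nat.eq_of_mul_eq_mul_left hp.pos h1).symm
  -- the map from P \ {1} to classes
  let D := ↥((P : Set G) \ {1})
  let T := {c : ConjClasses G // ∃ g : G, ConjClasses.mk g = c ∧ orderOf g = p}
  haveI : Fintype T := Fintype.ofFinite T
  have hDmem : ∀ x : D, (x : G) ∈ P ∧ (x : G) ≠ 1 := fun x => ⟨x.2.1, x.2.2⟩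
  let f : D → T := fun x => ⟨ConjClasses.mk (x : G), (x : G), rfl,
    hord _ (hDmem x).1 (hDmem x).2⟩
  have hDcard : Nat.card D = p - 1 := by
    change Nat.card ↥((P : Set G) \ {1}) = p - 1
    rw [Nat.card_coe_set_eq, Set.ncard_sdiff_singleton_of_mem (Subgroup.one_mem P)]
    have : (P : Set G).ncard = p := hPcard
    rw [this]
  -- every class is hit
  have hsurj : ∀ c : T, ∃ x : D, f x = c := by
    rintro ⟨c, g, rfl, hg⟩
    have hgp : IsPGroup p (Subgroup.zpowers g) :=
      IsPGroup.of_card (n := 1) (by rw [Nat.card_zpowers, hg, pow_one])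
    obtain ⟨Q, hQ⟩ := hgp.exists_le_sylow
    obtain ⟨h, hh⟩ := MulAction.exists_smul_eq G Q S
    have hmem : h * g * h⁻¹ ∈ P := by
      rw [← hSP, ← hh]
      show h * g * h⁻¹ ∈ (h • Q : Sylow p G)
      rw [Cfsg.Agent.Lib.Lead.Closed.mem_sylow_smul]
      have hgQ : g ∈ (Q : Subgroup G) := hQ (Subgroup.mem_zpowers g)
      have e : h⁻¹ * (h * g * h⁻¹) * h = g := by group
      rw [e]; exact hgQ
    have hne : h * g * h⁻¹ ≠ 1 := by
      intro h1
      have : g = 1 := by
        have e : h⁻¹ * (h * g * h⁻¹) * h = g := by group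
        rw [← e, h1]; group
      rw [this, orderOf_one] at hg
      exact hp.one_lt.ne hg
    refine ⟨⟨h * g * h⁻¹, hmem, hne⟩, ?_⟩
    apply Subtype.ext
    change ConjClasses.mk (h * g * h⁻¹) = ConjClasses.mk g
    rw [ConjClasses.mk_eq_mk_iff_isConj]
    exact (isConj_iff.mpr ⟨h, rfl⟩).symm
  -- fibers
  haveI : IsMulCommutative (S : Subgroup G) := by
    constructor
    constructor
    intro a b
    apply Subtype.ext
    have ha : (a : G) ∈ P := hSP ▸ a.2
    have hb : (b : G) ∈ P := hSP ▸ b.2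
    exact commute_of_card_prime P hPcard ha hb
  have hfib : ∀ c : T, Nat.card {x : D // f x = c} = m := by
    intro c
    obtain ⟨x₀, hx₀⟩ := hsurj c
    let g : {x : D // f x = c} → G := fun x => ((x : D) : G)
    have hginj : Function.Injective g := by
      intro a b hab
      apply Subtype.ext
      apply Subtype.ext
      exact hab
    rw [← Set.ncard_range_of_injective hginj, ← horb (x₀ : G) (hDmem x₀).1 (hDmem x₀).2]
    congr 1
    ext y
    constructor
    · rintro ⟨⟨x, hx⟩, rfl⟩
      have h1 : f x = f x₀ := hx.trans hx₀.symm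
      have h2 : ConjClasses.mk (x : G) = ConjClasses.mk (x₀ : G) := congrArg Subtype.val h1
      rw [ConjClasses.mk_eq_mk_iff_isConj] at h2
      obtain ⟨k, hk⟩ := isConj_iff.mp h2.symm
      -- k x₀ k⁻¹ = x ; use fusion with g := k⁻¹
      have hx₀S : (x₀ : G) ∈ S := by
        show (x₀ : G) ∈ (S : Subgroup G)
        rw [hSP]; exact (hDmem x₀).1
      have hxS : (k⁻¹)⁻¹ * (x₀ : G) * k⁻¹ ∈ S := by
        show (k⁻¹)⁻¹ * (x₀ : G) * k⁻¹ ∈ (S : Subgroup G)
        rw [hSP, inv_inv, hk]; exact (hDmem x).1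
      obtain ⟨n, hn, hneq⟩ := Sylow.conj_eq_normalizer_conj_of_mem S (x₀ : G) k⁻¹ hx₀S hxS
      refine ⟨n⁻¹, N.inv_mem hn, ?_⟩
      rw [inv_inv, ← hneq, inv_inv, hk]
    · rintro ⟨n, hn, rfl⟩
      have hnx : n * (x₀ : G) * n⁻¹ ∈ P := by
        have := (Subgroup.mem_normalizer_iff.mp hn (x₀ : G)).mp (by rw [hSP]; exact (hDmem x₀).1)
        rwa [hSP] at this
      have hne : n * (x₀ : G) * n⁻¹ ≠ 1 := by
        intro h1
        apply (hDmem x₀).2
        have e : n⁻¹ * (n * (x₀ : G) * n⁻¹) * n = (x₀ : G) := by group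
        rw [← e, h1]; group
      refine ⟨⟨⟨n * (x₀ : G) * n⁻¹, hnx, hne⟩, ?_⟩, rfl⟩
      rw [← hx₀]
      apply Subtype.ext
      change ConjClasses.mk (n * (x₀ : G) * n⁻¹) = ConjClasses.mk (x₀ : G)
      rw [ConjClasses.mk_eq_mk_iff_isConj]
      exact (isConj_iff.mpr ⟨n, rfl⟩).symm
  have htm : Nat.card T * m = p - 1 := by
    rw [← hDcard, Nat.card_congr (Equiv.sigmaFiberEquiv f).symm, Nat.card_sigma]
    simp only [hfib, Finset.sum_const, Finset.card_univ, smul_eq_mul, Nat.card_eq_fintype_card]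
  -- Sylow count
  have hmod : Nat.card (Sylow p G) % p = 1 := by
    have := card_sylow_modEq_one p G
    have h1 : 1 % p = 1 := Nat.mod_eq_of_lt hp.one_lt
    rw [← h1]; exact this
  have hnN := card_sylow_mul_card_normalizer p S
  refine ⟨Nat.card (Sylow p G) / p, Nat.card T, rfl, ⟨m, htm.symm⟩, ?_, ?_⟩
  · have := Nat.div_add_mod (Nat.card (Sylow p G)) p
    rw [hmod] at this
    linarith [this]
  · have h1 : 1 + Nat.card (Sylow p G) / p * p = Nat.card (Sylow p G) := by
      have := Nat.div_add_mod (Nat.card (Sylow p G)) p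
      rw [hmod] at this
      linarith [this]
    rw [h1, ← htm]
    have : Nat.card (Subgroup.normalizer (S : Set G)) = Nat.card N := rfl
    rw [this, ← hNcard] at hnN
    rw [← hnN]; ring

end Cfsg.Agent.S0995
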