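import Mathlib
import Cfsg.Statements.S1001
import Cfsg.Agent.S0904
import Cfsg.Agent.S0144

set_option autoImplicit false
open Cfsg

namespace Cfsg.Agent.S1001

/-- In a finite simple group whose order has the form p * 3^a * 2^b with p prime, the centralizer of any element of order p is the cyclic group it generates. -/
theorem result {G : Type*} [Group G] [Finite G] [IsSimpleGroup G] (p a b : ℕ) (hp : p.Prime) (hG : Nat.card G = p * 3 ^ a * 2 ^ b) (x : G) (hx : orderOf x = p) : Subgroup.centralizer ({x} : Set G) = Subgroup.zpowers x := by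
  classical
  have hle : Subgroup.zpowers x ≤ Subgroup.centralizer ({x} : Set G) := by
    rw [Subgroup.zpowers_le]
    exact Subgroup.mem_centralizer_singleton_iff.2 rfl
  have hzcard : Nat.card (Subgroup.zpowers x) = p := by rw [Nat.card_zpowers, hx]
  by_cases hab : ∀ x y : G, x * y = y * x
  · -- abelian case: G has prime order p
    letI : CommGroup G := { ‹Group G› with mul_comm := hab }
    have hprime : (Nat.card G).Prime := IsSimpleGroup.prime_card
    have hpG : p ∣ Nat.card G := by rw [hG, mul_assoc]; exact dvd_mul_right _ _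
    have hGp : Nat.card G = p := ((Nat.prime_dvd_prime_iff_eq hp hprime).1 hpG).symm
    have htop : Subgroup.zpowers x = ⊤ := Subgroup.eq_top_of_card_eq _ (by rw [hzcard, hGp])
    apply le_antisymm _ hle
    rw [htop]
    exact le_top
  · have hns : ¬ Group.IsSolvable G := fun h => hab (IsSimpleGroup.comm_iff_isSolvable.2 h)
    have hp2 : p ≠ 2 := by
      rintro rfl
      apply hns
      exact Cfsg.Agent.S0144.result 2 3 (b + 1) a Nat.prime_two Nat.prime_three
        (by rw [hG]; ring)
    have hp3 : p ≠ 3 := by
      rintro rfl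
      apply hns
      exact Cfsg.Agent.S0144.result 3 2 (a + 1) b Nat.prime_three Nat.prime_two
        (by rw [hG]; ring)
    haveI : Fact p.Prime := ⟨hp⟩
    have hcard : Nat.card G = 3 ^ a * 2 ^ b * p := by rw [hG]; ring
    have hzp : IsPGroup p (Subgroup.zpowers x) := IsPGroup.of_card (n := 1) (by rw [hzcard, pow_one])
    obtain ⟨Q, hQ⟩ := hzp.exists_le_sylow
    have h904 := Cfsg.Agent.S0904.result 3 2 p a b Nat.prime_three Nat.prime_two (by norm_num)
      (Ne.symm hp3) (Ne.symm hp2) hcard Q
    have hcop_r : Nat.Coprime (3 ^ a * 2 ^ b) p := by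
      apply Nat.Coprime.mul_left
      · exact Nat.Coprime.pow_left _ ((Nat.coprime_primes Nat.prime_three hp).2 (Ne.symm hp3))
      · exact Nat.Coprime.pow_left _ ((Nat.coprime_primes Nat.prime_two hp).2 (Ne.symm hp2))
    have hQcard : Nat.card (Q : Subgroup G) = p := by
      obtain ⟨k, hk⟩ := IsPGroup.exists_card_eq Q.isPGroup'
      have hidx : Nat.card (Q : Subgroup G) * (Q : Subgroup G).index = Nat.card G :=
        Subgroup.card_mul_index _
      have hnd : ¬ p ∣ (Q : Subgroup G).index := Q.not_dvd_index
      rcases Nat.lt_trichotomy k 1 with hk1 | hk1 | hk1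
      · exfalso
        have hk0 : k = 0 := by omega
        rw [hk, hk0, pow_zero, one_mul] at hidx
        apply hnd
        rw [hidx, hcard]
        exact dvd_mul_left _ _
      · rw [hk, hk1, pow_one]
      · exfalso
        have h2 : p ^ 2 ∣ Nat.card G := by
          rw [← hidx, hk]
          exact dvd_mul_of_dvd_left (pow_dvd_pow p hk1) _
        rw [hcard, pow_two] at h2
        have h3 : p ∣ 3 ^ a * 2 ^ b := Nat.dvd_of_mul_dvd_mul_right hp.pos h2
        have := Nat.Coprime.eq_one_of_dvd hcop_r.symm h3
        exact hp.one_lt.ne' this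
    have hQeq : Subgroup.zpowers x = (Q : Subgroup G) :=
      Subgroup.eq_of_le_of_card_ge hQ (by rw [hQcard, hzcard])
    have hcz : Subgroup.centralizer ({x} : Set G) ≤
        Subgroup.centralizer ((Subgroup.zpowers x : Subgroup G) : Set G) := by
      intro y hy
      rw [Subgroup.mem_centralizer_iff]
      intro h hh
      obtain ⟨k, rfl⟩ := Subgroup.mem_zpowers_iff.1 hh
      have hc : Commute x y := (Subgroup.mem_centralizer_singleton_iff.1 hy).symm
      exact (hc.zpow_left k).eq
    apply le_antisymm _ hle
    calc Subgroup.centralizer ({x} : Set G)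
        ≤ Subgroup.centralizer ((Subgroup.zpowers x : Subgroup G) : Set G) := hcz
      _ = Subgroup.centralizer ((Q : Subgroup G) : Set G) := by rw [hQeq]
      _ = (Q : Subgroup G) := h904
      _ = Subgroup.zpowers x := hQeq.symm

end Cfsg.Agent.S1001
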