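import Cfsg.Statements.S1002
import Mathlib
import Cfsg.Agent.Lib.Helper6.BLSimple2
import Cfsg.Agent.Lib.Lead.SylowCount

set_option autoImplicit false
open Cfsg

namespace Cfsg.Agent.S1002

open Cfsg.Agent.Lib.Helper6 Cfsg.Agent.Lib.Lead.SylowCount

/-- No finite simple group has order 1004913 = 3^3 * 7 * 13 * 409. -/
theorem result {G : Type*} [Group G] [Finite G] [IsSimpleGroup G] : Nat.card G ≠ 1004913 := by

  intro hG
  haveI : Fact (Nat.Prime 409) := ⟨by norm_num⟩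
  obtain ⟨P⟩ : Nonempty (Sylow 409 G) := inferInstance
  have hPcard : Nat.card P = 409 := card_sylow_of_card_eq 409 2457 (by rw [hG]) (by norm_num) P
  have hdvd : Nat.card (Sylow 409 G) ∣ 2457 :=
    card_sylow_dvd_of_card P hPcard (by rw [hG]) (by norm_num)
  have hmod : Nat.card (Sylow 409 G) % 409 = 1 := card_sylow_modEq_one 409 G
  have hne1 : Nat.card (Sylow 409 G) ≠ 1 :=
    card_sylow_ne_one_of_card P hPcard (by norm_num) (by rw [hG]; norm_num)
  have hle : Nat.card (Sylow 409 G) ≤ 2457 := Nat.le_of_dvd (by norm_num) hdvd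
  have hN := card_sylow_mul_card_normalizer 409 P
  rw [hG] at hN
  have h819 : Nat.card (Sylow 409 G) = 819 := by
    generalize Nat.card (Sylow 409 G) = n at *
    have hcases : n = 1 ∨ n = 410 ∨ n = 819 ∨ n = 1228 ∨ n = 1637 ∨ n = 2046 ∨ n = 2455 := by
      omega
    rcases hcases with rfl | rfl | rfl | rfl | rfl | rfl | rfl <;> omega
  rw [h819] at hN
  have hN' : Nat.card (Subgroup.normalizer ((P : Subgroup G) : Set G)) = 409 * 3 := by
    have : Nat.card (Subgroup.normalizer ((P : Subgroup G) : Set G)) =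
      Nat.card (Subgroup.normalizer (P : Set G)) := rfl
    omega
  obtain ⟨d₁, d₂, e, a₁, a₂, δ, ha₁, ha₂, hδ, hd₁, hd₂, he, hd₁1, hd₂1, hmod₁, hmod₂, hrel, hsq⟩ :=
    simple_e3 409 P hPcard hN' (by norm_num) (by rw [hG]; norm_num)
  rw [hG] at hd₁ hd₂ he hsq
  rw [Int.modEq_iff_dvd] at hmod₁ hmod₂
  have hb₁ : d₁ ≤ 1002 := by nlinarith
  have hb₂ : d₂ ≤ 1002 := by nlinarith
  have key : ∀ (d : ℕ) (a : ℤ), (a = 1 ∨ a = -1) → d ∣ 1004913 → d ≠ 1 →
      (409 : ℤ) ∣ a - (d : ℤ) → d ≤ 1002 → d = 819 := by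
    intro d a ha hd hd1 hmodd hb
    obtain ⟨k, hk⟩ := hmodd
    have hcases : d = 1 ∨ d = 408 ∨ d = 410 ∨ d = 817 ∨ d = 819 := by
      rcases ha with rfl | rfl <;> omega
    rcases hcases with rfl | rfl | rfl | rfl | rfl <;> omega
  have h₁ := key d₁ a₁ ha₁ hd₁ hd₁1 hmod₁ hb₁
  have h₂ := key d₂ a₂ ha₂ hd₂ hd₂1 hmod₂ hb₂
  subst h₁ h₂
  omega


end Cfsg.Agent.S1002
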