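import Mathlib
import Cfsg.Statements.S1009
import Cfsg.Agent.Lib.Lead.Closed

set_option autoImplicit false
open Cfsg

namespace Cfsg.Agent.S1009

open Cfsg.Agent.Lib.Lead Cfsg.Agent.Lib.Lead.BaerSuzuki Cfsg.Agent.Lib.Lead.Closed

/-- Brodkey's Theorem: if a finite group has abelian Sylow p-subgroups, then there are two Sylow p-subgroups whose intersection equals the intersection of all Sylow p-subgroups. -/
theorem result {G : Type*} [Group G] [Finite G] (p : ℕ) [Fact p.Prime] (hab : ∀ P : Sylow p G, IsMulCommutative ↥(P : Subgroup G)) : ∃ P Q : Sylow p G, (P : Subgroup G) ⊓ (Q : Subgroup G) = ⨅ R : Sylow p G, (R : Subgroup G) := by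
  obtain ⟨⟨P, Q⟩, hmin⟩ := Finite.exists_min
    (fun PQ : Sylow p G × Sylow p G => Nat.card ((PQ.1 : Subgroup G) ⊓ (PQ.2 : Subgroup G) : Subgroup G))
  refine ⟨P, Q, ?_⟩
  set D : Subgroup G := (P : Subgroup G) ⊓ (Q : Subgroup G) with hD
  set N : Subgroup G := Subgroup.normalizer (D : Set G) with hN
  have hcommle : ∀ T : Sylow p G, D ≤ (T : Subgroup G) → (T : Subgroup G) ≤ N := by
    intro T hDT x hx
    rw [hN, Subgroup.mem_normalizer_iff]
    intro d
    have key : ∀ e ∈ D, x * e * x⁻¹ = e := by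
      intro e he
      have := (hab T).is_comm.comm ⟨x, hx⟩ ⟨e, hDT he⟩
      have h2 : x * e = e * x := congrArg Subtype.val this
      rw [h2]; group
    constructor
    · intro hd; rw [key d hd]; exact hd
    · intro hd
      have h1 := key _ hd
      have h2 : x⁻¹ * (x * (x * d * x⁻¹) * x⁻¹) * x = x * d * x⁻¹ := by group
      have h3 : x⁻¹ * (x * d * x⁻¹) * x = d := by group
      rw [h1, h3] at h2
      rw [h2]; exact hd
  have hPN : (P : Subgroup G) ≤ N := hcommle P inf_le_left
  have hQN : (Q : Subgroup G) ≤ N := hcommle Q inf_le_right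
  have hDall : ∀ R : Sylow p G, D ≤ (R : Subgroup G) := by
    intro R
    have hRN2 : IsPGroup p ((R : Subgroup G) ⊓ N : Subgroup G) := R.2.to_le inf_le_left
    obtain ⟨n, hnN, hnle⟩ := exists_cj_le_sylow N (P.subtype hPN) ((R : Subgroup G) ⊓ N)
      inf_le_right hRN2
    rw [Sylow.coe_subtype, Subgroup.map_subgroupOf_eq_of_le hPN] at hnle
    -- R' = n • R
    have hR' : ((n • R : Sylow p G) : Subgroup G) = cj (R : Subgroup G) n := coe_sylow_smul R n
    have hle : ((n • R : Sylow p G) : Subgroup G) ⊓ (Q : Subgroup G) ≤ D := by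
      intro x hx
      have hxR : x ∈ cj (R : Subgroup G) n := by rw [← hR']; exact hx.1
      have hxQ : x ∈ (Q : Subgroup G) := hx.2
      have hxN : x ∈ N := hQN hxQ
      have hxP : x ∈ (P : Subgroup G) := by
        apply hnle
        rw [mem_cj] at hxR ⊢
        refine ⟨hxR, ?_⟩
        exact N.mul_mem (N.mul_mem (N.inv_mem hnN) hxN) hnN
      exact ⟨hxP, hxQ⟩
    have hcard := hmin (n • R, Q)
    have heq : ((n • R : Sylow p G) : Subgroup G) ⊓ (Q : Subgroup G) = D :=
      Subgroup.eq_of_le_of_card_ge hle hcard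
    have hDR' : D ≤ cj (R : Subgroup G) n := by
      rw [← hR', ← heq]; exact inf_le_left
    -- conjugate back
    intro d hd
    have h1 : n * d * n⁻¹ ∈ D := (Subgroup.mem_normalizer_iff.mp hnN d).mp hd
    have h2 := hDR' h1
    rw [mem_cj] at h2
    have e : n⁻¹ * (n * d * n⁻¹) * n = d := by group
    rwa [e] at h2
  apply le_antisymm
  · exact le_iInf hDall
  · exact le_inf (iInf_le _ P) (iInf_le _ Q)

end Cfsg.Agent.S1009
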