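import Mathlib
import Cfsg.Statements.S1014
import Cfsg.Agent.Lib.Lead.SylowCount
import Cfsg.Agent.Lib.Lead.SmallSimple
import Cfsg.Agent.Lib.Lead.PrimeDegree

namespace Cfsg.Agent.S1014

open Cfsg.Agent.Lib.Lead.SylowCount Cfsg.Agent.Lib.Lead.PrimeDegree

theorem result {G : Type*} [Group G] [Finite G] [IsSimpleGroup G] : Nat.card G ≠ 1104 := by
  intro hG
  haveI : Fact (Nat.Prime 23) := ⟨by norm_num⟩
  have hnc : ¬ IsMulCommutative G :=
    Cfsg.Agent.Lib.Lead.SmallSimple.not_comm_of_even (by rw [hG]; decide) (by rw [hG]; norm_num)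
  obtain ⟨P⟩ : Nonempty (Sylow 23 G) := inferInstance
  have hPcard : Nat.card P = 23 := card_sylow_of_card_eq 23 48 (by rw [hG]) (by norm_num) P
  have hdvd : Nat.card (Sylow 23 G) ∣ 48 :=
    card_sylow_dvd_of_card P hPcard (by rw [hG]) (by norm_num)
  have hmod : Nat.card (Sylow 23 G) % 23 = 1 := card_sylow_modEq_one 23 G
  have hne1 : Nat.card (Sylow 23 G) ≠ 1 :=
    card_sylow_ne_one_of_card P hPcard (by norm_num) (by rw [hG]; norm_num)
  have hle : Nat.card (Sylow 23 G) ≤ 48 := Nat.le_of_dvd (by norm_num) hdvd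
  have hN := card_sylow_mul_card_normalizer 23 P
  rw [hG] at hN
  have h24 : Nat.card (Sylow 23 G) = 24 := by
    generalize Nat.card (Sylow 23 G) = n at *
    interval_cases n <;> omega
  have h2 := two_mul_card_normalizer_dvd hnc (by norm_num) P hPcard h24
  rw [h24] at hN
  have hN' : Nat.card (Subgroup.normalizer ((P : Subgroup G) : Set G)) = 46 := by
    have : Nat.card (Subgroup.normalizer ((P : Subgroup G) : Set G)) =
      Nat.card (Subgroup.normalizer (P : Set G)) := rfl
    omega
  rw [hN'] at h2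
  omega

end Cfsg.Agent.S1014
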