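import Mathlib
import Cfsg.Statements.S1015
import Cfsg.Agent.Lib.Lead.SylowCount
import Cfsg.Agent.Lib.Lead.PrimeDegree
import Cfsg.Agent.S0985

namespace Cfsg.Agent.S1015

open Cfsg.Agent.Lib.Lead.SylowCount Cfsg.Agent.Lib.Lead.PrimeDegree

theorem result {G : Type*} [Group G] [Finite G] [IsSimpleGroup G] : Nat.card G ≠ 1200 := by
  intro hG
  haveI : Fact (Nat.Prime 5) := ⟨by norm_num⟩
  obtain ⟨P₀⟩ : Nonempty (Sylow 5 G) := inferInstance
  have hcardSyl : ∀ P : Sylow 5 G, Nat.card P = 5 ^ 2 := fun P =>
    card_sylow_of_card_eq_pow 5 2 48 (by rw [hG]; norm_num) (by norm_num) P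
  have hdvd : Nat.card (Sylow 5 G) ∣ 48 :=
    card_sylow_dvd_of_card P₀ (hcardSyl P₀) (by rw [hG]; norm_num) (by norm_num)
  have hmod : Nat.card (Sylow 5 G) % 5 = 1 := card_sylow_modEq_one 5 G
  have hne1 : Nat.card (Sylow 5 G) ≠ 1 :=
    card_sylow_ne_one_of_card P₀ (hcardSyl P₀) (by norm_num) (by rw [hG]; norm_num)
  have hle : Nat.card (Sylow 5 G) ≤ 48 := Nat.le_of_dvd (by norm_num) hdvd
  have hcases : Nat.card (Sylow 5 G) = 6 ∨ Nat.card (Sylow 5 G) = 16 := by
    generalize Nat.card (Sylow 5 G) = n at *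
    interval_cases n <;> omega
  rcases hcases with h6 | h16
  · -- index 6
    have hidx : (Subgroup.normalizer ((P₀ : Subgroup G) : Set G)).index = 6 := by
      rw [← h6]; exact (Sylow.card_eq_index_normalizer P₀).symm
    have hne : Subgroup.normalizer ((P₀ : Subgroup G) : Set G) ≠ ⊤ := by
      intro h; rw [h, Subgroup.index_top] at hidx; omega
    have := card_dvd_factorial_index _ hne
    rw [hidx, hG] at this
    norm_num [Nat.factorial] at this
  · have hnot : ¬ Nat.card (Sylow 5 G) ≡ 1 [MOD 5 ^ 2] := by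
      rw [h16]; decide
    obtain ⟨P, R, hPR, hidx⟩ := Cfsg.Agent.S0985.result 5 2 hnot
    set D : Subgroup G := (P : Subgroup G) ⊓ (R : Subgroup G) with hD
    have hDcard : Nat.card D * ((R : Subgroup G).subgroupOf (P : Subgroup G)).index = 25 := by
      have h := Subgroup.card_mul_index ((R : Subgroup G).subgroupOf (P : Subgroup G))
      rw [Cfsg.Agent.S0990.card_subgroupOf, inf_comm] at h
      have hP := hcardSyl P
      have hP' : Nat.card (P : Subgroup G) = 25 := hP
      rw [hP'] at h
      exact h
    have hD5 : 5 ≤ Nat.card D := by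
      have h5 : ((R : Subgroup G).subgroupOf (P : Subgroup G)).index ≤ 5 := by simpa using hidx
      nlinarith
    have hD25 : Nat.card D ≤ 25 := by
      have := Subgroup.card_le_of_le (inf_le_left : D ≤ (P : Subgroup G))
      have hP' : Nat.card (P : Subgroup G) = 25 := hcardSyl P
      rw [hP'] at this
      exact this
    have hcomm : ∀ T : Sylow 5 G, ∀ a ∈ (T : Subgroup G), ∀ b ∈ (T : Subgroup G), a * b = b * a := by
      intro T a ha b hb
      have hc := IsPGroup.isMulCommutative_of_card_eq_prime_sq (hcardSyl T)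
      have := hc.is_comm.comm (⟨a, ha⟩ : (T : Subgroup G)) ⟨b, hb⟩
      exact congrArg Subtype.val this
    set M := Subgroup.normalizer (D : Set G) with hM
    have hPM : (P : Subgroup G) ≤ M := le_normalizer_of_comm (hcomm P) inf_le_left
    have hRM : (R : Subgroup G) ≤ M := le_normalizer_of_comm (hcomm R) inf_le_right
    have hMtop : M ≠ ⊤ := by
      intro h
      have hn : D.Normal := Subgroup.normalizer_eq_top_iff.mp h
      rcases hn.eq_bot_or_eq_top with e | e
      · rw [e] at hD5; simp at hD5
      · rw [e, Subgroup.card_top, hG] at hD25; omega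
    have hfact := card_dvd_factorial_index M hMtop
    rw [hG] at hfact
    have hk10 : 10 ≤ M.index := by
      by_contra hlt
      have : M.index ≤ 9 := by omega
      have h1 := Nat.factorial_dvd_factorial this
      have h2 := hfact.trans h1
      norm_num [Nat.factorial] at h2
    have hMk : Nat.card M * M.index = 1200 := by rw [← hG]; exact Subgroup.card_mul_index M
    -- Sylow in M
    have hPMcard : Nat.card ((P.subtype hPM : Sylow 5 M) : Subgroup M) = 25 := by
      rw [Sylow.coe_subtype]
      exact (Nat.card_congr (Subgroup.subgroupOfEquivOfLe hPM).toEquiv).trans (hcardSyl P)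
    have h25 : 25 ∣ Nat.card M := by
      have := Subgroup.card_dvd_of_le hPM
      have hP' : Nat.card (P : Subgroup G) = 25 := hcardSyl P
      rwa [hP'] at this
    obtain ⟨m, hm⟩ := h25
    have hnM : Nat.card (Sylow 5 M) ∣ m :=
      card_sylow_dvd_of_card (P.subtype hPM) hPMcard hm (by norm_num)
    have hmodM : Nat.card (Sylow 5 M) % 5 = 1 := card_sylow_modEq_one 5 M
    have hneM : Nat.card (Sylow 5 M) ≠ 1 := by
      intro h1
      haveI : Subsingleton (Sylow 5 M) := (Nat.card_eq_one_iff_unique.mp h1).1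
      have e : (P.subtype hPM : Sylow 5 M) = R.subtype hRM := Subsingleton.elim _ _
      have e2 : ((P.subtype hPM : Sylow 5 M) : Subgroup M) = (R.subtype hRM : Sylow 5 M) := by
        rw [e]
      rw [Sylow.coe_subtype, Sylow.coe_subtype] at e2
      apply hPR
      apply Sylow.ext
      rw [← Subgroup.map_subgroupOf_eq_of_le hPM, ← Subgroup.map_subgroupOf_eq_of_le hRM, e2]
    rw [hm] at hMk
    have hm4 : m ≤ 4 := by nlinarith
    have hmpos : 0 < m := by
      rcases Nat.eq_zero_or_pos m with h | h
      · rw [h] at hMk; omega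
      · exact h
    have hnle : Nat.card (Sylow 5 M) ≤ 4 := (Nat.le_of_dvd hmpos hnM).trans hm4
    omega

end Cfsg.Agent.S1015
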