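import Mathlib
import Cfsg.Statements.S1041

set_option autoImplicit false
open Cfsg

namespace Cfsg.Agent.S1041

open Cfsg.Lie

/-- The table fact: every root is positive or negative. -/
def SignOK (D : ChevalleyDatum) : Prop :=
  ∀ r < D.nroots, D.IsPosRoot r ∨ D.IsNegRoot r

instance (D : ChevalleyDatum) : Decidable (SignOK D) := by unfold SignOK; infer_instance

set_option maxRecDepth 100000 in
theorem signOK_G2 : SignOK chevG2 := by decide
set_option maxRecDepth 100000 in
theorem signOK_B2 : SignOK chevB2 := by decide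
set_option maxRecDepth 100000 in
theorem signOK_D4 : SignOK chevD4 := by decide
set_option maxRecDepth 100000 in
theorem signOK_F4 : SignOK chevF4 := by decide
set_option maxRecDepth 100000 in
theorem signOK_E6 : SignOK chevE6 := by decide
set_option maxRecDepth 100000 in
theorem signOK_E7 : SignOK chevE7 := by decide
set_option maxRecDepth 100000 in
theorem signOK_E8 : SignOK chevE8 := by decide

theorem signOK_of_mem (D : ChevalleyDatum) (hD : D ∈ [Cfsg.Lie.chevG2, Cfsg.Lie.chevB2, Cfsg.Lie.chevD4, Cfsg.Lie.chevF4, Cfsg.Lie.chevE6, Cfsg.Lie.chevE7, Cfsg.Lie.chevE8]) : SignOK D := by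
  simp only [List.mem_cons, List.mem_nil_iff, or_false] at hD
  rcases hD with rfl | rfl | rfl | rfl | rfl | rfl | rfl
  · exact signOK_G2
  · exact signOK_B2
  · exact signOK_D4
  · exact signOK_F4
  · exact signOK_E6
  · exact signOK_E7
  · exact signOK_E8

theorem posUnipotent_le {F : Type*} [Field F] (D : ChevalleyDatum) : D.posUnipotent F ≤ D.group F := by
  unfold ChevalleyDatum.posUnipotent ChevalleyDatum.group
  apply Subgroup.closure_mono
  rintro g ⟨r, t, hr, hg⟩
  refine ⟨⟨r, hr.1⟩, t, ?_⟩
  rw [hg]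
  unfold ChevalleyDatum.x
  rw [dif_pos hr.1]

theorem negUnipotent_le {F : Type*} [Field F] (D : ChevalleyDatum) : D.negUnipotent F ≤ D.group F := by
  unfold ChevalleyDatum.negUnipotent ChevalleyDatum.group
  apply Subgroup.closure_mono
  rintro g ⟨r, t, hr, hg⟩
  refine ⟨⟨r, hr.1⟩, t, ?_⟩
  rw [hg]
  unfold ChevalleyDatum.x
  rw [dif_pos hr.1]

/-- `U` and `V` generate the whole Chevalley group. -/
theorem result {F : Type*} [Field F] (D : Cfsg.Lie.ChevalleyDatum) (hD : D ∈ [Cfsg.Lie.chevG2, Cfsg.Lie.chevB2, Cfsg.Lie.chevD4, Cfsg.Lie.chevF4, Cfsg.Lie.chevE6, Cfsg.Lie.chevE7, Cfsg.Lie.chevE8]) : D.posUnipotent F ⊔ D.negUnipotent F = D.group F := by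
  apply le_antisymm
  · exact sup_le (posUnipotent_le D) (negUnipotent_le D)
  · have hs := signOK_of_mem D hD
    unfold ChevalleyDatum.group
    rw [Subgroup.closure_le]
    rintro g ⟨r, t, hg⟩
    have hx : (g : Matrix D.Idx D.Idx F) = D.x F r.val t := by
      rw [hg]
      unfold ChevalleyDatum.x
      rw [dif_pos r.isLt]
    rcases hs r.val r.isLt with h | h
    · apply Subgroup.mem_sup_left
      exact Subgroup.subset_closure ⟨r.val, t, h, hx⟩
    · apply Subgroup.mem_sup_right
      exact Subgroup.subset_closure ⟨r.val, t, h, hx⟩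

end Cfsg.Agent.S1041
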