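import Mathlib
import Cfsg.Statements.S1060
import Cfsg.Agent.Lib.Helper5.ChevOrder

set_option autoImplicit false
open Cfsg

namespace Cfsg.Agent.S1060

/-- `gcd(2, q-1) · |B₂(q)| = q⁴ (q² - 1)(q⁴ - 1)`. -/
theorem result {F : Type*} [Field F] [Fintype F] {q : ℕ} (hq : Fintype.card F = q) : Nat.gcd 2 (q - 1) * Nat.card ↥(Cfsg.Lie.chevB2.group F) = q ^ 4 * (q ^ 2 - 1) * (q ^ 4 - 1) := by
  subst hq
  have hk : Nat.card (Cfsg.Agent.Lib.Helper5.MatPow.mpow (Cfsg.Agent.Lib.Helper5.MatPow.fmat (Cfsg.Agent.Lib.Helper5.ChevStruct.cartanFn Cfsg.Lie.chevB2) Cfsg.Lie.chevB2.rank) :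
      (Fin Cfsg.Lie.chevB2.rank → Fˣ) →* (Fin Cfsg.Lie.chevB2.rank → Fˣ)).ker = Nat.gcd 2 (Fintype.card F - 1) := by
    rw [Cfsg.Agent.Lib.Helper5.ChevStruct.card_ker_B2 Fˣ, Cfsg.Agent.Lib.Helper5.ChevStruct.card_units_eq]
  have h := Cfsg.Agent.Lib.Helper5.ChevStruct.card_group_formula (F := F) Cfsg.Lie.chevB2 Cfsg.Agent.Lib.Helper5.ChevStruct.mem_seven_B2 [2, 4] _ rfl
    (fun q => Cfsg.Agent.Lib.Helper5.ChevStruct.poinc_B2 q) hk
  have hn : Cfsg.Lie.chevB2.nroots / 2 = 4 := by decide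
  rw [hn] at h
  simp only [List.map_cons, List.map_nil, List.prod_cons, List.prod_nil, mul_one, one_mul] at h
  rw [h]
  ring

end Cfsg.Agent.S1060
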