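import Mathlib
import Cfsg.Statements.S1058
import Cfsg.Agent.Lib.Helper5.B2F2
import Cfsg.Agent.Lib.Helper5.ChevFieldMap
import Cfsg.Agent.S1060

set_option autoImplicit false
open Cfsg

namespace Cfsg.Agent.S1058

/-- B₂(2) ≅ S₆. -/
theorem result {F : Type*} [Field F] [Fintype F] (hF : Fintype.card F = 2) :
    Nonempty (↥(Cfsg.Lie.chevB2.group F) ≃* Equiv.Perm (Fin 6)) := by
  have h720 : Nat.card ↥(Cfsg.Lie.chevB2.group (ZMod 2)) = 720 := by
    have h := Cfsg.Agent.S1060.result (F := ZMod 2) (q := 2) (by simp [ZMod.card])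
    norm_num at h
    exact h
  have hbij : Function.Bijective Cfsg.Agent.Lib.Helper5.B2F2.actHom := by
    have : Finite ↥(Cfsg.Lie.chevB2.group (ZMod 2)) := Nat.finite_of_card_ne_zero (by rw [h720]; norm_num)
    apply Cfsg.Agent.Lib.Helper5.B2F2.actHom_surjective.bijective_of_nat_card_le
    rw [h720, Nat.card_perm, Nat.card_eq_fintype_card, Fintype.card_fin]
    decide
  have e : ZMod 2 ≃+* F := ZMod.ringEquivOfPrime F Nat.prime_two hF
  exact ⟨(Cfsg.Agent.Lib.Helper5.ChevStruct.groupEquivOfRingEquiv Cfsg.Lie.chevB2 e.symm).trans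
    (MulEquiv.ofBijective _ hbij)⟩

end Cfsg.Agent.S1058
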