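import Mathlib
import Cfsg.Statements.S1072
import Cfsg.Agent.Lib.Helper5.F4T.Perf2
import Cfsg.Agent.Lib.Helper5.F4T.Finite

set_option autoImplicit false
open Cfsg

namespace Cfsg.Agent.S1072

/-- ²F₄(2^(2m+1)) is simple for `m ≥ 1`. -/
theorem result {K : Type*} [Field K] [Fintype K] {m : ℕ} (hm : 1 ≤ m) (hK : Fintype.card K = 2 ^ (2 * m + 1)) :
    IsSimpleGroup ↥(Cfsg.Lie.twistedF4 K (2 ^ m)) ∧ ¬ IsMulCommutative ↥(Cfsg.Lie.twistedF4 K (2 ^ m)) := by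
  open Cfsg.Agent.Lib.Helper5.F4T in
  haveI := charP_of_card hK
  have hq := pow_card_eq hK
  have key : ∀ G1 : Subgroup (GL Cfsg.Lie.chevF4.Idx K), G1 = fixG m →
      IsSimpleGroup ↥G1 ∧ ¬ IsMulCommutative ↥G1 := by
    rintro G1 rfl
    exact fixG_simple m hq hK hm
  exact key _ (twisted_eq_fixG m hK hq)

end Cfsg.Agent.S1072
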