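import Mathlib
import Cfsg.Statements.S1079
import Cfsg.Agent.Lib.Helper5.SubSys.Center
import Cfsg.Agent.Lib.Helper5.SubSys.ChkAll

set_option autoImplicit false
open Cfsg

namespace Cfsg.Agent.S1079

/-- `|Z(Ḡ)| = gcd(3, q-1)` for E₆ and `gcd(2, q-1)` for E₇ over a field with `q` elements (the centre is dual to the weight lattice modulo the root lattice). -/
theorem result {K : Type*} [Field K] [Fintype K] {q : ℕ} (hq : Fintype.card K = q)
    (p : Cfsg.Lie.ChevalleyDatum × ℕ) (hp : p ∈ [(Cfsg.Lie.chevE6, 3), (Cfsg.Lie.chevE7, 2)]) :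
    Nat.card (Subgroup.center (p.1.SteinbergGroup K)) = Nat.gcd p.2 (q - 1) := by
  have hE6 : Cfsg.Lie.chevE6 ∈ Cfsg.Agent.Lib.Helper5.ChevStruct.Seven := by
    simp [Cfsg.Agent.Lib.Helper5.ChevStruct.Seven]
  have hE7 : Cfsg.Lie.chevE7 ∈ Cfsg.Agent.Lib.Helper5.ChevStruct.Seven := by
    simp [Cfsg.Agent.Lib.Helper5.ChevStruct.Seven]
  have hE8 : Cfsg.Lie.chevE8 ∈ Cfsg.Agent.Lib.Helper5.ChevStruct.Seven := by
    simp [Cfsg.Agent.Lib.Helper5.ChevStruct.Seven]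
  have hinj := Cfsg.Agent.Lib.Helper5.StPres.torHom_injective_of_unimodular (K := K)
    Cfsg.Lie.chevE8 (by simp)
  have hcard : Nat.card Kˣ = q - 1 := by
    classical
    rw [Nat.card_eq_fintype_card, Fintype.card_units, hq]
  simp only [List.mem_cons, List.not_mem_nil, or_false] at hp
  rcases hp with rfl | rfl
  · rw [Cfsg.Agent.Lib.Helper5.SubSys.card_center_eq (D' := Cfsg.Lie.chevE6)
      (D := Cfsg.Lie.chevE8) hE6 hE8 (by decide) Cfsg.Agent.Lib.Helper5.SubSys.chkEmb_E6E8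
      Cfsg.Agent.Lib.Helper5.SubSys.iotaE6E8_simple (by decide) hinj,
      Cfsg.Agent.Lib.Helper5.ChevStruct.card_ker_E6, hcard]
  · rw [Cfsg.Agent.Lib.Helper5.SubSys.card_center_eq (D' := Cfsg.Lie.chevE7)
      (D := Cfsg.Lie.chevE8) hE7 hE8 (by decide) Cfsg.Agent.Lib.Helper5.SubSys.chkEmb_E7E8
      Cfsg.Agent.Lib.Helper5.SubSys.iotaE7E8_simple (by decide) hinj,
      Cfsg.Agent.Lib.Helper5.ChevStruct.card_ker_E7, hcard]

end Cfsg.Agent.S1079
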