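import Mathlib
import Cfsg.Statements.S1080

set_option autoImplicit false
open Cfsg

namespace Cfsg.Agent.S1080

open Cfsg.Lie in
theorem xMat_map {F : Type*} [Field F] (D : Cfsg.Lie.ChevalleyDatum) (f : F →+* F)
    (r : Fin D.nroots) (t : F) : (D.xMat F r t).map f = D.xMat F r (f t) := by
  ext row col
  rw [Matrix.map_apply]
  unfold ChevalleyDatum.xMat
  simp only [Matrix.of_apply]
  rcases col with i | s
  · rcases row with i' | u
    · simp only [apply_ite f, map_one, map_zero]
    · simp only [apply_ite f, map_neg, map_mul, map_intCast, map_zero]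
  · simp only
    split_ifs with h1 h2
    · rcases row with i | u
      · simp
      · simp only [apply_ite f, map_one, map_zero]
    · rcases row with i | u
      · simp only [map_mul, map_intCast]
      · simp only [apply_ite f, map_one, map_zero, map_neg, map_pow]
    · rcases row with i | u
      · simp
      · simp only [map_add, apply_ite f, map_one, map_zero, map_list_sum, List.map_map]
        congr 2
        apply List.map_congr_left
        intro km _
        simp only [Function.comp, map_mul, map_intCast, map_pow]

open Cfsg.Lie in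
theorem x_map {F : Type*} [Field F] (D : Cfsg.Lie.ChevalleyDatum) (f : F →+* F)
    (r : ℕ) (t : F) : (D.x F r t).map f = D.x F r (f t) := by
  unfold ChevalleyDatum.x
  split_ifs with h
  · exact xMat_map D f ⟨r, h⟩ t
  · ext i j
    simp [Matrix.map_apply, Matrix.one_apply, apply_ite f]

open Cfsg.Lie in
theorem map_group_le {F : Type*} [Field F] (D : Cfsg.Lie.ChevalleyDatum) (f : F →+* F) :
    (D.group F).map (Matrix.GeneralLinearGroup.map f) ≤ D.group F := by
  unfold ChevalleyDatum.group
  rw [MonoidHom.map_closure, Subgroup.closure_le]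
  rintro _ ⟨g, ⟨r, t, hg⟩, rfl⟩
  apply Subgroup.subset_closure
  refine ⟨r, f t, ?_⟩
  rw [← xMat_map, ← hg]
  rfl

/-- Field automorphisms: for every field automorphism `f` there is a group automorphism sending each `x_r(t)` to `x_r(f t)`. -/
theorem result {F : Type*} [Field F] (D : Cfsg.Lie.ChevalleyDatum) (hD : D ∈ [Cfsg.Lie.chevG2, Cfsg.Lie.chevB2, Cfsg.Lie.chevD4, Cfsg.Lie.chevF4, Cfsg.Lie.chevE6, Cfsg.Lie.chevE7, Cfsg.Lie.chevE8]) (f : F ≃+* F) :
    ∃ α : ↥(D.group F) ≃* ↥(D.group F), ∀ (g : ↥(D.group F)) (r : ℕ) (t : F), r < D.nroots →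
      ((g : GL D.Idx F) : Matrix D.Idx D.Idx F) = D.x F r t → ((α g : GL D.Idx F) : Matrix D.Idx D.Idx F) = D.x F r (f t) := by
  classical
  -- the automorphism of the general linear group
  let e : GL D.Idx F ≃* GL D.Idx F :=
    { toFun := Matrix.GeneralLinearGroup.map (f : F →+* F)
      invFun := Matrix.GeneralLinearGroup.map (f.symm : F →+* F)
      left_inv := by
        intro g
        apply Units.ext
        ext i j
        simp [Matrix.GeneralLinearGroup.map]
      right_inv := by
        intro g
        apply Units.ext
        ext i j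
        simp [Matrix.GeneralLinearGroup.map]
      map_mul' := map_mul _ }
  have hmap : (D.group F).map e.toMonoidHom = D.group F := by
    apply le_antisymm
    · exact map_group_le D (f : F →+* F)
    · intro g hg
      refine ⟨Matrix.GeneralLinearGroup.map (f.symm : F →+* F) g,
        map_group_le D (f.symm : F →+* F) ⟨g, hg, rfl⟩, ?_⟩
      exact e.right_inv g
  refine ⟨(e.subgroupMap (D.group F)).trans (MulEquiv.subgroupCongr hmap), ?_⟩
  intro g r t _ hg
  show ((Matrix.GeneralLinearGroup.map (f : F →+* F) (g : GL D.Idx F) : GL D.Idx F) :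
    Matrix D.Idx D.Idx F) = _
  have h1 : (D.x F r t).map (f : F →+* F) = D.x F r (f t) := x_map D (f : F →+* F) r t
  rw [← h1, ← hg]
  rfl

end Cfsg.Agent.S1080
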