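import Mathlib
import Cfsg.Statements.S1081
import Cfsg.Agent.Lib.Helper5.ChevGraph

set_option autoImplicit false
open Cfsg

namespace Cfsg.Agent.S1081

/-- Graph automorphisms: for E₆ with ρ = (p₁ p₆)(p₃ p₅) and for D₄ with ρ the 3-cycle on the outer nodes there is a group automorphism sending `x_p(t) ↦ x_{ρ(p)}(t)` and `x_{-p}(t) ↦ x_{-ρ(p)}(t)` for every fundamental root `p`. -/
theorem result {F : Type*} [Field F] (p : Cfsg.Lie.ChevalleyDatum × List ℕ)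
    (hp : p ∈ [(Cfsg.Lie.chevE6, [5, 1, 4, 3, 2, 0]), (Cfsg.Lie.chevD4, [2, 1, 3, 0]), (Cfsg.Lie.chevD4, [3, 1, 0, 2])]) :
    ∃ α : ↥(p.1.group F) ≃* ↥(p.1.group F), ∀ (g : ↥(p.1.group F)) (i : ℕ) (t : F), i < p.1.rank →
      (((g : GL p.1.Idx F) : Matrix p.1.Idx p.1.Idx F) = p.1.x F (p.1.simple i) t →
        ((α g : GL p.1.Idx F) : Matrix p.1.Idx p.1.Idx F) = p.1.x F (p.1.simple (p.2.getD i 0)) t) ∧
      (((g : GL p.1.Idx F) : Matrix p.1.Idx p.1.Idx F) = p.1.x F (p.1.neg (p.1.simple i)) t →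
        ((α g : GL p.1.Idx F) : Matrix p.1.Idx p.1.Idx F) = p.1.x F (p.1.neg (p.1.simple (p.2.getD i 0))) t) := by
  classical
  open Cfsg.Agent.Lib.Helper5.ChevSym Cfsg.Lie in
  have key : ∀ (D : ChevalleyDatum) (G : GraphData) (ρ : List ℕ) (h : checkGraphPerm D G = true)
      (hG : ∀ r < D.nroots, checkGraphAt D G r = true)
      (hs : ∀ i < D.rank, D.simple i < D.nroots ∧ D.neg (D.simple i) < D.nroots ∧
        G.pr.getD (D.simple i) 0 = D.simple (ρ.getD i 0) ∧ G.eps.getD (D.simple i) 1 = 1 ∧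
        G.pr.getD (D.neg (D.simple i)) 0 = D.neg (D.simple (ρ.getD i 0)) ∧
        G.eps.getD (D.neg (D.simple i)) 1 = 1),
      ∃ α : ↥(D.group F) ≃* ↥(D.group F), ∀ (g : ↥(D.group F)) (i : ℕ) (t : F), i < D.rank →
        (((g : GL D.Idx F) : Matrix D.Idx D.Idx F) = D.x F (D.simple i) t →
          ((α g : GL D.Idx F) : Matrix D.Idx D.Idx F) = D.x F (D.simple (ρ.getD i 0)) t) ∧
        (((g : GL D.Idx F) : Matrix D.Idx D.Idx F) = D.x F (D.neg (D.simple i)) t →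
          ((α g : GL D.Idx F) : Matrix D.Idx D.Idx F)
            = D.x F (D.neg (D.simple (ρ.getD i 0))) t) := by
    intro D G ρ h hG hs
    obtain ⟨α, hα⟩ := exists_graphAut_x (F := F) D G h hG
    refine ⟨α, fun g i t hi => ?_⟩
    obtain ⟨h1, h2, h3, h4, h5, h6⟩ := hs i hi
    constructor
    · intro hg
      rw [hα g _ t h1 hg, h3, h4, Int.cast_one, one_mul]
    · intro hg
      rw [hα g _ t h2 hg, h5, h6, Int.cast_one, one_mul]
  simp only [List.mem_cons, List.not_mem_nil, or_false] at hp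
  rcases hp with rfl | rfl | rfl
  · exact key Cfsg.Lie.chevE6 Cfsg.Agent.Lib.Helper5.ChevSym.gE6 _
      Cfsg.Agent.Lib.Helper5.ChevSym.chkGraphPerm_gE6
      Cfsg.Agent.Lib.Helper5.ChevSym.chkGraph_gE6 (by decide)
  · exact key Cfsg.Lie.chevD4 Cfsg.Agent.Lib.Helper5.ChevSym.gD4a _
      Cfsg.Agent.Lib.Helper5.ChevSym.chkGraphPerm_gD4a
      Cfsg.Agent.Lib.Helper5.ChevSym.chkGraph_gD4a (by decide)
  · exact key Cfsg.Lie.chevD4 Cfsg.Agent.Lib.Helper5.ChevSym.gD4b _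
      Cfsg.Agent.Lib.Helper5.ChevSym.chkGraphPerm_gD4b
      Cfsg.Agent.Lib.Helper5.ChevSym.chkGraph_gD4b (by decide)

end Cfsg.Agent.S1081
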