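import Mathlib
import Cfsg.Statements.S1089
import Cfsg.Agent.Lib.Helper5.F4T.BN
import Cfsg.Agent.Lib.Helper5.F4T.Finite

set_option autoImplicit false
open Cfsg

namespace Cfsg.Agent.S1089

/-- ²F₄(2^(2m+1)) has a (B,N)-pair: B¹ = G¹ ∩ B and N¹ = G¹ ∩ N, intersections with the ambient Chevalley group's B = UH and N. -/
theorem result {K : Type*} [Field K] [Fintype K] {m : ℕ} (hK : Fintype.card K = 2 ^ (2 * m + 1)) :
    ∃ P : Cfsg.BNPair ↥(Cfsg.Lie.twistedF4 K (2 ^ m)),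
      P.B = (Cfsg.Lie.chevF4.borelSubgroup K ⊓ Cfsg.Lie.twistedF4 K (2 ^ m)).subgroupOf (Cfsg.Lie.twistedF4 K (2 ^ m)) ∧
      P.N = (Cfsg.Lie.chevF4.monomialSubgroup K ⊓ Cfsg.Lie.twistedF4 K (2 ^ m)).subgroupOf (Cfsg.Lie.twistedF4 K (2 ^ m)) := by
  open Cfsg.Agent.Lib.Helper5.F4T Cfsg.Agent.Lib.Helper5.ChevSym Cfsg.Agent.Lib.Helper5.TwX in
  haveI := charP_of_card hK
  have hq := pow_card_eq hK
  have key : ∀ G1 : Subgroup (GL Cfsg.Lie.chevF4.Idx K), G1 = fixG m →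
      ∃ P : Cfsg.BNPair ↥G1,
        P.B = (Cfsg.Lie.chevF4.borelSubgroup K ⊓ G1).subgroupOf G1 ∧
        P.N = (Cfsg.Lie.chevF4.monomialSubgroup K ⊓ G1).subgroupOf G1 := by
    rintro G1 rfl
    exact ⟨bnPairX Cfsg.Lie.chevF4 hF4 gF4 orbsF4 (fixG m) (hypX_F4 m hq), rfl, rfl⟩
  exact key _ (twisted_eq_fixG m hK hq)

end Cfsg.Agent.S1089
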