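import Mathlib
import Cfsg.Statements.S1098
import Cfsg.Agent.Lib.Helper5.B2T.TauSq
import Cfsg.Agent.Lib.Helper5.F4T.TauSq

set_option autoImplicit false
open Cfsg

namespace Cfsg.Agent.S1098

/-- Graph automorphisms in characteristic 2 (K perfect): for B₂ (a short, b long) `x_a(t) ↦ x_b(t²)`, `x_b(t) ↦ x_a(t)`, and for F₄ (p₁, p₂ short, p₃, p₄ long) `x_{p₁}(t) ↦ x_{p₄}(t²)`, `x_{p₂}(t) ↦ x_{p₃}(t²)`, `x_{p₃}(t) ↦ x_{p₂}(t)`, `x_{p₄}(t) ↦ x_{p₁}(t)`, likewise on the negatives, extend to an automorphism of the group. -/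
theorem result {K : Type*} [Field K] [CharP K 2] (hperf : ∀ x : K, ∃ y : K, y ^ 2 = x)
    (p : Cfsg.Lie.ChevalleyDatum × List (ℕ × ℕ))
    (hp : p ∈ [(Cfsg.Lie.chevB2, [(1, 2), (0, 1)]), (Cfsg.Lie.chevF4, [(3, 2), (2, 2), (1, 1), (0, 1)])]) :
    ∃ α : ↥(p.1.group K) ≃* ↥(p.1.group K), ∀ (g : ↥(p.1.group K)) (i : ℕ) (t : K), i < p.1.rank →
      (((g : GL p.1.Idx K) : Matrix p.1.Idx p.1.Idx K) = p.1.x K (p.1.simple i) t →
        ((α g : GL p.1.Idx K) : Matrix p.1.Idx p.1.Idx K) = p.1.x K (p.1.simple (p.2.getD i (0, 1)).1) (t ^ (p.2.getD i (0, 1)).2)) ∧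
      (((g : GL p.1.Idx K) : Matrix p.1.Idx p.1.Idx K) = p.1.x K (p.1.neg (p.1.simple i)) t →
        ((α g : GL p.1.Idx K) : Matrix p.1.Idx p.1.Idx K) = p.1.x K (p.1.neg (p.1.simple (p.2.getD i (0, 1)).1)) (t ^ (p.2.getD i (0, 1)).2)) := by
  simp only [List.mem_cons, List.not_mem_nil, or_false] at hp
  rcases hp with rfl | rfl
  · -- B₂
    refine ⟨MulEquiv.ofBijective (Cfsg.Agent.Lib.Helper5.B2T.tau (K := K))
      (Cfsg.Agent.Lib.Helper5.B2T.tau_bijective hperf), ?_⟩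
    intro g i t hi
    have key : ∀ (r : ℕ) (r' e : ℕ), Cfsg.Agent.Lib.Helper5.B2T.piR r = r' →
        Cfsg.Agent.Lib.Helper5.B2T.lam r = e →
        ((g : GL Cfsg.Lie.chevB2.Idx K) : Matrix Cfsg.Lie.chevB2.Idx Cfsg.Lie.chevB2.Idx K)
          = Cfsg.Lie.chevB2.x K r t →
        ((Cfsg.Agent.Lib.Helper5.B2T.tau g : GL Cfsg.Lie.chevB2.Idx K) :
          Matrix Cfsg.Lie.chevB2.Idx Cfsg.Lie.chevB2.Idx K) = Cfsg.Lie.chevB2.x K r' (t ^ e) := by
      intro r r' e h1 h2 hg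
      have hg' : g = Cfsg.Agent.Lib.Helper5.B2T.xG r t := by
        apply Subtype.ext
        apply Units.ext
        rw [hg]
        rfl
      rw [hg', Cfsg.Agent.Lib.Helper5.B2T.tau_xG, h1, h2]
      rfl
    have hi' : i < 2 := hi
    interval_cases i
    · exact ⟨key _ _ _ (by decide) (by decide), key _ _ _ (by decide) (by decide)⟩
    · exact ⟨key _ _ _ (by decide) (by decide), key _ _ _ (by decide) (by decide)⟩
  · -- F₄
    refine ⟨MulEquiv.ofBijective (Cfsg.Agent.Lib.Helper5.F4T.tau (K := K))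
      (Cfsg.Agent.Lib.Helper5.F4T.tau_bijective hperf), ?_⟩
    intro g i t hi
    have key : ∀ (r : ℕ) (r' e : ℕ), Cfsg.Agent.Lib.Helper5.F4T.piR r = r' →
        Cfsg.Agent.Lib.Helper5.F4T.lam r = e →
        ((g : GL Cfsg.Lie.chevF4.Idx K) : Matrix Cfsg.Lie.chevF4.Idx Cfsg.Lie.chevF4.Idx K)
          = Cfsg.Lie.chevF4.x K r t →
        ((Cfsg.Agent.Lib.Helper5.F4T.tau g : GL Cfsg.Lie.chevF4.Idx K) :
          Matrix Cfsg.Lie.chevF4.Idx Cfsg.Lie.chevF4.Idx K) = Cfsg.Lie.chevF4.x K r' (t ^ e) := by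
      intro r r' e h1 h2 hg
      have hg' : g = Cfsg.Agent.Lib.Helper5.F4T.xG r t := by
        apply Subtype.ext
        apply Units.ext
        rw [hg]
        rfl
      rw [hg', Cfsg.Agent.Lib.Helper5.F4T.tau_xG, h1, h2]
      rfl
    have hi' : i < 4 := hi
    interval_cases i
    · exact ⟨key _ _ _ (by decide) (by decide), key _ _ _ (by decide) (by decide)⟩
    · exact ⟨key _ _ _ (by decide) (by decide), key _ _ _ (by decide) (by decide)⟩
    · exact ⟨key _ _ _ (by decide) (by decide), key _ _ _ (by decide) (by decide)⟩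
    · exact ⟨key _ _ _ (by decide) (by decide), key _ _ _ (by decide) (by decide)⟩

end Cfsg.Agent.S1098
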