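import Mathlib
import Cfsg.Statements.S1099
import Cfsg.Agent.Lib.Helper5.Ree.TauSq

set_option autoImplicit false
open Cfsg

namespace Cfsg.Agent.S1099

/-- Graph automorphism of G₂ in characteristic 3 (K perfect): `x_a(t) ↦ x_b(t³)`, `x_b(t) ↦ x_a(t)`, `x_{-a}(t) ↦ x_{-b}(t³)`, `x_{-b}(t) ↦ x_{-a}(t)` extend to an automorphism of the group. -/
theorem result {K : Type*} [Field K] [CharP K 3] (hperf : ∀ x : K, ∃ y : K, y ^ 3 = x) :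
    ∃ α : ↥(Cfsg.Lie.chevG2.group K) ≃* ↥(Cfsg.Lie.chevG2.group K), ∀ (g : ↥(Cfsg.Lie.chevG2.group K)) (t : K),
      (((g : GL Cfsg.Lie.chevG2.Idx K) : Matrix _ _ K) = Cfsg.Lie.chevG2.x K Cfsg.Lie.g2a t →
        ((α g : GL Cfsg.Lie.chevG2.Idx K) : Matrix _ _ K) = Cfsg.Lie.chevG2.x K Cfsg.Lie.g2b (t ^ 3)) ∧
      (((g : GL Cfsg.Lie.chevG2.Idx K) : Matrix _ _ K) = Cfsg.Lie.chevG2.x K Cfsg.Lie.g2b t →
        ((α g : GL Cfsg.Lie.chevG2.Idx K) : Matrix _ _ K) = Cfsg.Lie.chevG2.x K Cfsg.Lie.g2a t) ∧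
      (((g : GL Cfsg.Lie.chevG2.Idx K) : Matrix _ _ K) = Cfsg.Lie.chevG2.x K Cfsg.Lie.g2ma t →
        ((α g : GL Cfsg.Lie.chevG2.Idx K) : Matrix _ _ K) = Cfsg.Lie.chevG2.x K Cfsg.Lie.g2mb (t ^ 3)) ∧
      (((g : GL Cfsg.Lie.chevG2.Idx K) : Matrix _ _ K) = Cfsg.Lie.chevG2.x K Cfsg.Lie.g2mb t →
        ((α g : GL Cfsg.Lie.chevG2.Idx K) : Matrix _ _ K) = Cfsg.Lie.chevG2.x K Cfsg.Lie.g2ma t) := by
  classical
  have hb := Cfsg.Agent.Lib.Helper5.Ree.tau_bijective (K := K) hperf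
  refine ⟨MulEquiv.ofBijective Cfsg.Agent.Lib.Helper5.Ree.tau hb, ?_⟩
  have key : ∀ (r : ℕ) (g : ↥(Cfsg.Lie.chevG2.group K)) (t : K),
      ((g : GL Cfsg.Lie.chevG2.Idx K) : Matrix _ _ K) = Cfsg.Lie.chevG2.x K r t →
      ((Cfsg.Agent.Lib.Helper5.Ree.tau g : GL Cfsg.Lie.chevG2.Idx K) : Matrix _ _ K)
        = Cfsg.Lie.chevG2.x K (Cfsg.Agent.Lib.Helper5.Ree.piR r)
            (t ^ Cfsg.Agent.Lib.Helper5.Ree.lam r) := by
    intro r g t h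
    have hg : g = Cfsg.Agent.Lib.Helper5.Ree.xG r t := Subtype.ext (Units.ext h)
    rw [hg, Cfsg.Agent.Lib.Helper5.Ree.tau_xG]
    rfl
  intro g t
  refine ⟨fun h => ?_, fun h => ?_, fun h => ?_, fun h => ?_⟩
  · exact key 7 g t h
  · have := key 6 g t h
    rw [show Cfsg.Agent.Lib.Helper5.Ree.lam 6 = 1 from rfl, pow_one] at this
    exact this
  · exact key 4 g t h
  · have := key 5 g t h
    rw [show Cfsg.Agent.Lib.Helper5.Ree.lam 5 = 1 from rfl, pow_one] at this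
    exact this

end Cfsg.Agent.S1099
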