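import Mathlib
import Cfsg.Statements.S1118
import Cfsg.Agent.Lib.Helper4.RankOne

set_option autoImplicit false
open Cfsg

namespace Cfsg.Agent.S1118

open Cfsg.Agent.Lib.Helper4.RankOne MulAction

/-- In the rank-one set-up (`G` finite and doubly transitive on `Ω`, `t` an involution moving `a`, `Q` normal in `G_a` with `G_a = Q D`, `Q ⊓ D = 1` for the two-point stabiliser `D = G_a ⊓ G_{t • a}`, `|Q|` even, `|D|` odd), the normaliser of a subset of `Q` containing a non-identity element lies in `G_a`; consequently `N_G(Q) = N_G(G_a) = G_a`. -/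
theorem result {G Ω : Type*} [Group G] [Finite G] [MulAction G Ω] {a : Ω} {t : G} {Q : Subgroup G}
    (hS : Cfsg.IsRankOneSetup G Ω a t Q) :
    (∀ X : Set G, X ⊆ (Q : Set G) → (∃ x ∈ X, x ≠ 1) → Subgroup.normalizer X ≤ MulAction.stabilizer G a) ∧
      Subgroup.normalizer (Q : Set G) = MulAction.stabilizer G a ∧
      Subgroup.normalizer (MulAction.stabilizer G a : Set G) = MulAction.stabilizer G a := by
  have part1 : ∀ X : Set G, X ⊆ (Q : Set G) → (∃ x ∈ X, x ≠ 1) →
      Subgroup.normalizer X ≤ MulAction.stabilizer G a := by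
    rintro X hXQ ⟨x, hxX, hx1⟩ g hg
    rw [Subgroup.mem_set_normalizer_iff] at hg
    have h1 : g * x * g⁻¹ ∈ Q := hXQ ((hg x).mp hxX)
    have h2 := Q_fix hS h1
    rw [mul_smul, mul_smul] at h2
    have h3 : x • g⁻¹ • a = g⁻¹ • a := by
      rw [eq_inv_smul_iff]; exact h2
    by_contra hga
    have hne : g⁻¹ • a ≠ a := by
      intro h
      apply hga
      rw [mem_stabilizer_iff]
      rw [inv_smul_eq_iff] at h
      exact h.symm
    exact hx1 (Q_free hS (hXQ hxX) hne h3)
  -- a nonidentity element of Q
  have hQne : ∃ x ∈ (Q : Set G), x ≠ 1 := by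
    have h1 : Nat.card Q ≠ 1 := by
      intro h
      have := hS.even_card
      rw [h] at this
      exact absurd this (by decide)
    by_contra hcon
    push Not at hcon
    apply h1
    rw [Nat.card_eq_one_iff_unique]
    refine ⟨⟨fun x y => ?_⟩, ⟨1⟩⟩
    apply Subtype.ext
    rw [hcon x.1 x.2, hcon y.1 y.2]
  refine ⟨part1, ?_, ?_⟩
  · apply le_antisymm
    · exact part1 _ (le_refl _) hQne
    · intro g hg
      rw [Subgroup.mem_set_normalizer_iff]
      intro n
      constructor
      · intro hn
        exact hS.conj_mem g hg n hn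
      · intro hn
        have := hS.conj_mem g⁻¹ (Subgroup.inv_mem _ hg) _ hn
        have h2 : g⁻¹ * (g * n * g⁻¹) * g⁻¹⁻¹ = n := by group
        rw [h2] at this
        exact this
  · apply le_antisymm
    · intro g hg
      rw [Subgroup.mem_set_normalizer_iff] at hg
      obtain ⟨x, hxQ, hx1⟩ := hQne
      have h1 : g * x * g⁻¹ ∈ stabilizer G a := (hg x).mp (hS.le hxQ)
      rw [mem_stabilizer_iff, mul_smul, mul_smul] at h1
      have h3 : x • g⁻¹ • a = g⁻¹ • a := by
        rw [eq_inv_smul_iff]; exact h1
      by_contra hga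
      have hne : g⁻¹ • a ≠ a := by
        intro h
        apply hga
        rw [mem_stabilizer_iff]
        rw [inv_smul_eq_iff] at h
        exact h.symm
      exact hx1 (Q_free hS hxQ hne h3)
    · exact Subgroup.le_normalizer

end Cfsg.Agent.S1118
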