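import Mathlib
import Cfsg.Statements.S1120
import Cfsg.Agent.Lib.Helper4.RankOne
import Cfsg.Agent.S1121
import Cfsg.Agent.Lib.Helper7.Generation2
import Cfsg.Agent.Lib.Helper2.Cores

set_option autoImplicit false
open Cfsg

namespace Cfsg.Agent.S1120

open Cfsg.Agent.Lib.Helper4.RankOne MulAction

/-- In the rank-one set-up (`G` finite and doubly transitive on `Ω`, `t` an involution moving `a`, `Q` normal in `G_a` with `G_a = Q D`, `Q ⊓ D = 1` for the two-point stabiliser `D = G_a ⊓ G_{t • a}`, `|Q|` even, `|D|` odd), if `G` has 2-rank at least 2 then `O_{2'}(G)` equals the normal core of `G_a`. -/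
theorem result {G Ω : Type*} [Group G] [Finite G] [MulAction G Ω] {a : Ω} {t : G} {Q : Subgroup G}
    (hS : Cfsg.IsRankOneSetup G Ω a t Q)
    (h2 : ∃ x y : G, x ≠ 1 ∧ y ≠ 1 ∧ x ≠ y ∧ x * x = 1 ∧ y * y = 1 ∧ x * y = y * x) :
    Cfsg.pPrimeCore 2 G = (MulAction.stabilizer G a).normalCore := by
  have : Fact (Nat.Prime 2) := ⟨Nat.prime_two⟩
  apply le_antisymm
  · obtain ⟨hKn, hKc⟩ := Cfsg.Agent.Lib.Helper2.pPrimeCore_mem (G := G) 2
    set K := Cfsg.pPrimeCore 2 G with hK
    rw [Subgroup.normal_le_normalCore]
    obtain ⟨x, y, hx1, hy1, hxy, hx2, hy2, hcomm⟩ := h2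
    have hKodd : ¬ 2 ∣ Nat.card K := by
      intro h
      have := Nat.Coprime.eq_one_of_dvd hKc.symm h
      omega
    have hnorm : ∀ g : G, g ∈ Subgroup.normalizer (K : Set G) := by
      intro g
      rw [Subgroup.normalizer_eq_top]; trivial
    have hgen := Cfsg.Agent.Lib.Helper7.le_genC (p := 2) x y (by rw [pow_two]; exact hx2)
      (by rw [pow_two]; exact hy2) hcomm K (hnorm x) (hnorm y) hKodd
    -- the common fixed point
    obtain ⟨c, hc⟩ := S1121.exists_fixed hS hx1 hx2
    have hyc : y • c = c := by
      apply S1121.unique_fixed hS hx1 hx2 _ hc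
      rw [← mul_smul, hcomm, mul_smul, hc]
    have hxy1 : x * y ≠ 1 := by
      intro h
      apply hxy
      have : x = y⁻¹ := eq_inv_of_mul_eq_one_left h
      rw [this]
      exact inv_eq_of_mul_eq_one_left hy2
    have hxy2 : (x * y) * (x * y) = 1 := by
      have : (x * y) * (x * y) = x * (y * x) * y := by group
      rw [this, ← hcomm]
      have : x * (x * y) * y = (x * x) * (y * y) := by group
      rw [this, hx2, hy2, one_mul]
    have hxyc : (x * y) • c = c := by rw [mul_smul, hyc, hc]
    -- centralisers fix c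
    have hcent : ∀ u : G, u ≠ 1 → u * u = 1 → u • c = c →
        K ⊓ Subgroup.centralizer ({u} : Set G) ≤ stabilizer G c := by
      rintro u hu1 hu2 huc g ⟨-, hg⟩
      replace hg : g ∈ Subgroup.centralizer ({u} : Set G) := hg
      rw [Subgroup.mem_centralizer_iff] at hg
      have := hg u rfl
      rw [mem_stabilizer_iff]
      apply S1121.unique_fixed hS hu1 hu2 _ huc
      rw [← mul_smul, this, mul_smul, huc]
    have hKc : K ≤ stabilizer G c := by
      refine hgen.trans ?_
      unfold Cfsg.Agent.Lib.Helper7.genC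
      apply sup_le
      · exact hcent y hy1 hy2 hyc
      · apply iSup_le
        intro i
        have hi : i = 0 ∨ i = 1 := by
          fin_cases i
          · left; rfl
          · right; rfl
        rcases hi with rfl | rfl
        · have h0 : x * y ^ (0 : ZMod 2).val = x := by
            rw [ZMod.val_zero, pow_zero, mul_one]
          rw [h0]
          exact hcent x hx1 hx2 hc
        · have h0 : x * y ^ (1 : ZMod 2).val = x * y := by
            rw [ZMod.val_one, pow_one]
          rw [h0]
          exact hcent (x * y) hxy1 hxy2 hxyc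
    -- move to a
    have h2t := hS.two_transitive
    have : IsPretransitive G Ω := MulAction.isPretransitive_of_is_two_pretransitive
    obtain ⟨g, rfl⟩ := MulAction.exists_smul_eq G a c
    intro k hk
    have h1 : g * k * g⁻¹ ∈ K := hKn.conj_mem k hk g
    have h3 := hKc h1
    rw [mem_stabilizer_iff, mul_smul, mul_smul, inv_smul_smul] at h3
    rw [mem_stabilizer_iff]
    exact MulAction.injective g h3
  · set N := (stabilizer G a).normalCore with hN
    have hNn : N.Normal := Subgroup.normalCore_normal _
    have hNa : N ≤ stabilizer G a := Subgroup.normalCore_le _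
    have hNb : N ≤ stabilizer G (t • a) := by
      intro n hn
      have h1 : t⁻¹ * n * t⁻¹⁻¹ ∈ N := hNn.conj_mem n hn t⁻¹
      have h3 := hNa h1
      rw [mem_stabilizer_iff, mul_smul, mul_smul, inv_inv] at h3
      rw [mem_stabilizer_iff]
      rw [inv_smul_eq_iff] at h3
      exact h3
    have hND : N ≤ DD G a t := le_inf hNa hNb
    have hodd : (Nat.card N).Coprime 2 := by
      rw [Nat.coprime_two_right]
      exact Odd.of_dvd_nat hS.odd_card (Subgroup.card_dvd_of_le hND)
    exact Cfsg.Agent.Lib.Helper2.le_pPrimeCore hodd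

end Cfsg.Agent.S1120
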