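import Mathlib
import Cfsg.Statements.S1122
import Cfsg.Agent.Lib.Helper4.RankOne2

set_option autoImplicit false
open Cfsg

namespace Cfsg.Agent.S1122

open Cfsg.Agent.Lib.Helper4.RankOne Cfsg.Agent.Lib.Helper4.RankOne2 MulAction

/-- In the rank-one set-up (`G` finite and doubly transitive on `Ω`, `t` an involution moving `a`, `Q` normal in `G_a` with `G_a = Q D`, `Q ⊓ D = 1` for the two-point stabiliser `D = G_a ⊓ G_{t • a}`, `|Q|` even, `|D|` odd), with `K` the set of elements of `D` inverted by `t`: `|K|` is the number of involutions of `G_a`, and for each involution `s` of `G_a` the `K`-conjugates of `s` are all the involutions of `G_a`. -/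
theorem result {G Ω : Type*} [Group G] [Finite G] [MulAction G Ω] {a : Ω} {t : G} {Q : Subgroup G}
    (hS : Cfsg.IsRankOneSetup G Ω a t Q) :
    Nat.card (Cfsg.invertedBy (MulAction.stabilizer G a ⊓ MulAction.stabilizer G (t • a)) t) = Nat.card (Cfsg.involutionsIn (MulAction.stabilizer G a : Set G)) ∧
      ∀ s ∈ Cfsg.involutionsIn (MulAction.stabilizer G a : Set G), ∀ s' ∈ Cfsg.involutionsIn (MulAction.stabilizer G a : Set G),
        ∃ k ∈ Cfsg.invertedBy (MulAction.stabilizer G a ⊓ MulAction.stabilizer G (t • a)) t, k⁻¹ * s * k = s' := by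
  constructor
  · have hfinK : Finite (KK G a t) := Finite.of_injective (fun x => (x : G)) Subtype.val_injective
    have hfinI : Finite (Inv G a) := Finite.of_injective (fun x => (x : G)) Subtype.val_injective
    apply le_antisymm
    · -- K → Inv
      have hex : ∀ k : KK G a t, ∃ τ : Inv G a, ∃ f, Rep a t Q τ.1 f k.1 := by
        rintro ⟨k, hk⟩
        obtain ⟨τ, hτ, f, hf⟩ := rep_surj hS hk
        exact ⟨⟨τ, hτ⟩, f, hf⟩
      choose φ hφ using hex
      apply Nat.card_le_card_of_injective φ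
      intro k k' hkk
      obtain ⟨f, hf⟩ := hφ k
      obtain ⟨f', hf'⟩ := hφ k'
      rw [hkk] at hf
      exact Subtype.ext (rep_unique hS hf hf').2
    · -- Inv → K
      have hex : ∀ τ : Inv G a, ∃ k : KK G a t, ∃ f, Rep a t Q τ.1 f k.1 := by
        rintro ⟨τ, hτ⟩
        obtain ⟨f, h, hr, hk⟩ := rep_exists hS hτ
        exact ⟨⟨h, hk⟩, f, hr⟩
      choose φ hφ using hex
      apply Nat.card_le_card_of_injective φ
      intro τ τ' hττ
      obtain ⟨f, hf⟩ := hφ τ
      obtain ⟨f', hf'⟩ := hφ τ'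
      rw [hττ] at hf
      exact Subtype.ext (rep_inj hS τ.2 τ'.2 hf hf')
  · intro s hs s' hs'
    obtain ⟨f, h, hr, hk⟩ := rep_exists hS hs
    obtain ⟨f', h', hr', hk'⟩ := rep_exists hS hs'
    obtain ⟨c, hc, hcc⟩ := exists_twist hS hk hk'
    refine ⟨c, hc, ?_⟩
    have hcD := ((mem_KK_iff hS c).mp hc)
    have h1 := rep_conj hS hr hcD.1
    rw [hcD.2, inv_inv, hcc] at h1
    exact rep_inj hS (conj_mem_Inv hs hcD.1.1) hs' h1 hr'

end Cfsg.Agent.S1122
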