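import Mathlib
import Cfsg.Statements.S1123
import Cfsg.Agent.Lib.Helper4.RankOne
import Cfsg.Agent.S1121

set_option autoImplicit false
open Cfsg

namespace Cfsg.Agent.S1123

open Cfsg.Agent.Lib.Helper4.RankOne MulAction

/-- In the rank-one set-up (`G` finite and doubly transitive on `Ω`, `t` an involution moving `a`, `Q` normal in `G_a` with `G_a = Q D`, `Q ⊓ D = 1` for the two-point stabiliser `D = G_a ⊓ G_{t • a}`, `|Q|` even, `|D|` odd), there is a unique pair `(s, r)` with `s` an involution of `G_a`, `r ∈ Q` and `t s t = r⁻¹ t r`. -/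
theorem result {G Ω : Type*} [Group G] [Finite G] [MulAction G Ω] {a : Ω} {t : G} {Q : Subgroup G}
    (hS : Cfsg.IsRankOneSetup G Ω a t Q) :
    ∃! p : G × G, p.1 ∈ Cfsg.involutionsIn (MulAction.stabilizer G a : Set G) ∧ p.2 ∈ Q ∧
      t * p.1 * t = p.2⁻¹ * t * p.2 := by
  obtain ⟨c, hc⟩ := S1121.exists_fixed hS hS.ne_one hS.mul_self
  have hca : c ≠ a := by
    rintro rfl
    exact hS.not_mem (mem_stabilizer_iff.mpr hc)
  obtain ⟨r, hr, hrc⟩ := exists_Q_smul hS hca
  have hti := t_inv hS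
  have hrc' : r⁻¹ • c = t • a := by rw [← hrc, inv_smul_smul]
  -- the involution r⁻¹ t r
  have hw1 : r⁻¹ * t * r ≠ 1 := by
    intro h
    apply hS.ne_one
    have : t = r * (r⁻¹ * t * r) * r⁻¹ := by group
    rw [this, h]; group
  have hw2 : (r⁻¹ * t * r) * (r⁻¹ * t * r) = 1 := by
    have : (r⁻¹ * t * r) * (r⁻¹ * t * r) = r⁻¹ * (t * t) * r := by group
    rw [this, hS.mul_self]; group
  have key : ∀ s : G, t * s * t = r⁻¹ * t * r ↔ s = t * (r⁻¹ * t * r) * t := by
    intro s
    constructor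
    · intro h
      rw [← h]
      have : t * (t * s * t) * t = (t * t) * s * (t * t) := by group
      rw [this, hS.mul_self, one_mul, mul_one]
    · rintro rfl
      have : t * (t * (r⁻¹ * t * r) * t) * t = (t * t) * (r⁻¹ * t * r) * (t * t) := by group
      rw [this, hS.mul_self, one_mul, mul_one]
  refine ⟨(t * (r⁻¹ * t * r) * t, r), ⟨⟨?_, ?_, ?_⟩, hr, (key _).mpr rfl⟩, ?_⟩
  · -- fixes a
    change t * (r⁻¹ * t * r) * t ∈ stabilizer G a
    rw [mem_stabilizer_iff, mul_smul, mul_smul, mul_smul, mul_smul, hrc, hc, hrc', tta hS]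
  · intro h
    change t * (r⁻¹ * t * r) * t = 1 at h
    apply hw1
    have : r⁻¹ * t * r = t⁻¹ * (t * (r⁻¹ * t * r) * t) * t⁻¹ := by group
    rw [this, h, mul_one, hti, hS.mul_self]
  · change t * (r⁻¹ * t * r) * t * (t * (r⁻¹ * t * r) * t) = 1
    have : t * (r⁻¹ * t * r) * t * (t * (r⁻¹ * t * r) * t)
        = t * ((r⁻¹ * t * r) * (t * t) * (r⁻¹ * t * r)) * t := by group
    rw [this, hS.mul_self, mul_one, hw2, mul_one, hS.mul_self]
  · rintro ⟨s', r'⟩ ⟨⟨hs'a, hs'1, hs'2⟩, hr', heq⟩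
    simp only at hs'a hs'1 hs'2 hr' heq
    have hs'a' : s' • a = a := hs'a
    -- the involution t s' t fixes t a
    have hv1 : t * s' * t ≠ 1 := by
      intro h
      apply hs'1
      have : s' = t⁻¹ * (t * s' * t) * t⁻¹ := by group
      rw [this, h, mul_one, hti, hS.mul_self]
    have hv2 : (t * s' * t) * (t * s' * t) = 1 := by
      have : (t * s' * t) * (t * s' * t) = t * (s' * (t * t) * s') * t := by group
      rw [this, hS.mul_self, mul_one, hs'2, mul_one, hS.mul_self]
    have hfix1 : (t * s' * t) • t • a = t • a := by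
      rw [mul_smul, mul_smul, tta hS, hs'a']
    have hfix2 : (t * s' * t) • r'⁻¹ • c = r'⁻¹ • c := by
      rw [heq, mul_smul, mul_smul, smul_inv_smul, hc]
    have h1 := S1121.unique_fixed hS hv1 hv2 hfix1 hfix2
    have h2 : (r⁻¹ * r') • t • a = t • a := by
      rw [mul_smul, h1, smul_inv_smul, hrc']
      exact h1
    have h3 := Q_free hS (Q.mul_mem (Q.inv_mem hr) hr') (ta_ne hS) h2
    have h4 : r' = r := by
      rw [inv_mul_eq_one] at h3; exact h3.symm
    subst h4
    have h5 := (key s').mp heq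
    rw [h5]

end Cfsg.Agent.S1123
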