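import Mathlib
import Cfsg.Statements.S1124

set_option autoImplicit false
open Cfsg

namespace Cfsg.Agent.S1124

open scoped Pointwise

variable {M : Type*} [Group M]

/-- in a finite group of odd order, squaring is injective -/
theorem sq_inj_of_odd [Finite M] (X : Subgroup M) (k : ℕ) (hk : Nat.card X = 2 * k + 1)
    {a b : M} (ha : a ∈ X) (hb : b ∈ X) (h : a * a = b * b) : a = b := by
  have hpow : ∀ c ∈ X, c ^ (2 * k + 1) = 1 := by
    intro c hc
    have : (⟨c, hc⟩ : X) ^ Nat.card X = 1 := pow_card_eq_one'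
    rw [hk] at this
    exact congrArg Subtype.val this
  have key : ∀ c ∈ X, c = (c * c) ^ (k + 1) := by
    intro c hc
    rw [← pow_two, ← pow_mul]
    have : 2 * (k + 1) = (2 * k + 1) + 1 := by ring
    rw [this, pow_succ, hpow c hc, one_mul]
  rw [key a ha, key b hb, h]

/-- smul by conj: membership -/
theorem mem_conj_smul (x : M) (H : Subgroup M) (a : M) :
    a ∈ MulAut.conj x • H ↔ x⁻¹ * a * x ∈ H := by
  rw [Subgroup.mem_pointwise_smul_iff_inv_smul_mem]
  simp [MulAut.smul_def]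

theorem conj_smul_eq_of_forall (x : M) (H : Subgroup M)
    (h1 : ∀ a ∈ H, x * a * x⁻¹ ∈ H) (h2 : ∀ a ∈ H, x⁻¹ * a * x ∈ H) :
    MulAut.conj x • H = H := by
  ext a
  rw [mem_conj_smul]
  constructor
  · intro h
    have := h1 _ h
    have e : x * (x⁻¹ * a * x) * x⁻¹ = a := by group
    rwa [e] at this
  · exact h2 a

/-- Let `t` be an element of order 2 of a finite group normalising a subgroup `X` of odd order, `Y = C_X(t)` and `Z` the set of elements of `X` inverted by `t`. Then `(y, z) ↦ y z` is a bijection `Y × Z → X`, so `|X| = |Y| |Z|`, and the subgroup generated by `Z` is normal in `X`. -/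
theorem result {M : Type*} [Group M] [Finite M]
    (t : M) (ht : orderOf t = 2) (X : Subgroup M) (hodd : Odd (Nat.card X))
    (hnorm : ∀ x ∈ X, t * x * t⁻¹ ∈ X) :
    (∀ x ∈ X, ∃! p : M × M, p.1 ∈ X ⊓ Subgroup.centralizer {t} ∧ p.2 ∈ Cfsg.invertedBy X t ∧ x = p.1 * p.2) ∧
      Nat.card X = Nat.card ↥(X ⊓ Subgroup.centralizer {t}) * Nat.card (Cfsg.invertedBy X t) ∧
      ∀ x ∈ X, MulAut.conj x • Subgroup.closure (Cfsg.invertedBy X t) = Subgroup.closure (Cfsg.invertedBy X t) := by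
  obtain ⟨k, hk⟩ := hodd
  have htt : t * t = 1 := by
    have := pow_orderOf_eq_one t
    rwa [ht, pow_two] at this
  have hti : t⁻¹ = t := inv_eq_of_mul_eq_one_right htt
  have hpow : ∀ c ∈ X, c ^ (2 * k + 1) = 1 := by
    intro c hc
    have : (⟨c, hc⟩ : X) ^ Nat.card X = 1 := pow_card_eq_one'
    rw [hk] at this
    exact congrArg Subtype.val this
  -- σ
  have hσσ : ∀ x : M, t * (t * x * t⁻¹) * t⁻¹ = x := by
    intro x
    rw [hti]
    calc t * (t * x * t) * t = (t * t) * x * (t * t) := by group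
      _ = x := by rw [htt, one_mul, mul_one]
  have hσmul : ∀ x y : M, t * (x * y) * t⁻¹ = (t * x * t⁻¹) * (t * y * t⁻¹) := by
    intro x y; group
  have hσinv : ∀ x : M, t * x⁻¹ * t⁻¹ = (t * x * t⁻¹)⁻¹ := by
    intro x; group
  have hσpow : ∀ (x : M) (n : ℕ), t * x ^ n * t⁻¹ = (t * x * t⁻¹) ^ n := by
    intro x n; rw [conj_pow]
  have hmemC : ∀ y : M, y ∈ Subgroup.centralizer {t} ↔ t * y * t⁻¹ = y := by
    intro y
    rw [Subgroup.mem_centralizer_iff]
    constructor
    · intro h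
      have := h t (Set.mem_singleton t)
      rw [this, mul_inv_cancel_right]
    · intro h s hs
      rw [Set.mem_singleton_iff] at hs
      subst hs
      rw [mul_inv_eq_iff_eq_mul] at h
      exact h
  -- existence
  have hex : ∀ x ∈ X, ∃ y z : M, y ∈ X ⊓ Subgroup.centralizer {t} ∧ z ∈ Cfsg.invertedBy X t ∧
      x = y * z := by
    intro x hx
    set w := x⁻¹ * (t * x * t⁻¹) with hw
    have hwX : w ∈ X := mul_mem (inv_mem hx) (hnorm x hx)
    have hσw : t * w * t⁻¹ = w⁻¹ := by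
      rw [hw, hσmul, hσinv, hσσ]
      group
    set z := w ^ (k + 1) with hz
    have hzX : z ∈ X := pow_mem hwX _
    have hσz : t * z * t⁻¹ = z⁻¹ := by
      rw [hz, hσpow, hσw, inv_pow]
    have hz2 : z * z = w := by
      rw [hz, ← pow_add]
      have : k + 1 + (k + 1) = (2 * k + 1) + 1 := by ring
      rw [this, pow_succ, hpow w hwX, one_mul]
    refine ⟨x * z, z⁻¹, ⟨mul_mem hx hzX, ?_⟩, ⟨inv_mem hzX, ?_⟩, ?_⟩
    · show x * z ∈ Subgroup.centralizer {t}
      rw [hmemC, hσmul, hσz]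
      have : t * x * t⁻¹ = x * w := by rw [hw]; group
      rw [this, ← hz2]
      group
    · rw [hσinv, hσz]
    · group
  -- uniqueness
  have huniq : ∀ y z y' z' : M, y ∈ X ⊓ Subgroup.centralizer {t} → z ∈ Cfsg.invertedBy X t →
      y' ∈ X ⊓ Subgroup.centralizer {t} → z' ∈ Cfsg.invertedBy X t → y * z = y' * z' →
      y = y' ∧ z = z' := by
    intro y z y' z' hy hz hy' hz' h
    have hyC : t * y * t⁻¹ = y := (hmemC y).mp hy.2
    have hyC' : t * y' * t⁻¹ = y' := (hmemC y').mp hy'.2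
    have h2 : y * z⁻¹ = y' * z'⁻¹ := by
      have := congrArg (fun a => t * a * t⁻¹) h
      simp only [hσmul, hyC, hyC', hz.2, hz'.2] at this
      exact this
    have h3 : z * z = z' * z' := by
      have e1 : y'⁻¹ * y = z' * z⁻¹ := by
        have : y'⁻¹ * (y * z) * z⁻¹ = y'⁻¹ * (y' * z') * z⁻¹ := by rw [h]
        calc y'⁻¹ * y = y'⁻¹ * (y * z) * z⁻¹ := by group
          _ = y'⁻¹ * (y' * z') * z⁻¹ := this
          _ = z' * z⁻¹ := by group
      have e2 : y'⁻¹ * y = z'⁻¹ * z := by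
        have : y'⁻¹ * (y * z⁻¹) * z = y'⁻¹ * (y' * z'⁻¹) * z := by rw [h2]
        calc y'⁻¹ * y = y'⁻¹ * (y * z⁻¹) * z := by group
          _ = y'⁻¹ * (y' * z'⁻¹) * z := this
          _ = z'⁻¹ * z := by group
      have e3 : z' * z⁻¹ = z'⁻¹ * z := e1.symm.trans e2
      calc z * z = z' * (z'⁻¹ * z) * z := by group
        _ = z' * (z' * z⁻¹) * z := by rw [e3]
        _ = z' * z' := by group
    have hzz : z = z' := sq_inj_of_odd X k hk hz.1 hz'.1 h3
    subst hzz
    exact ⟨mul_right_cancel h, rfl⟩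
  refine ⟨?_, ?_, ?_⟩
  · intro x hx
    obtain ⟨y, z, hy, hz, hxyz⟩ := hex x hx
    refine ⟨(y, z), ⟨hy, hz, hxyz⟩, ?_⟩
    rintro ⟨y', z'⟩ ⟨hy', hz', hx'⟩
    have := huniq y z y' z' hy hz hy' hz' (hxyz.symm.trans hx')
    rw [Prod.mk.injEq]
    exact ⟨this.1.symm, this.2.symm⟩
  · -- cardinality
    let f : ↥(X ⊓ Subgroup.centralizer {t}) × (Cfsg.invertedBy X t) → X :=
      fun p => ⟨(p.1 : M) * (p.2 : M), mul_mem p.1.2.1 p.2.2.1⟩
    have hf : Function.Bijective f := by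
      constructor
      · rintro ⟨⟨y, hy⟩, ⟨z, hz⟩⟩ ⟨⟨y', hy'⟩, ⟨z', hz'⟩⟩ h
        have h' : y * z = y' * z' := congrArg Subtype.val h
        have := huniq y z y' z' hy hz hy' hz' h'
        obtain ⟨rfl, rfl⟩ := this
        rfl
      · rintro ⟨x, hx⟩
        obtain ⟨y, z, hy, hz, hxyz⟩ := hex x hx
        exact ⟨(⟨y, hy⟩, ⟨z, hz⟩), Subtype.ext hxyz.symm⟩
    rw [← Nat.card_prod]
    exact (Nat.card_congr (Equiv.ofBijective f hf)).symm
  · -- normality
    set H := Subgroup.closure (Cfsg.invertedBy X t) with hH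
    have hZH : ∀ z ∈ Cfsg.invertedBy X t, z ∈ H := fun z hz => Subgroup.subset_closure hz
    -- conjugation by y ∈ Y preserves Z
    have hYZ : ∀ y ∈ X ⊓ Subgroup.centralizer {t}, ∀ z ∈ Cfsg.invertedBy X t,
        y * z * y⁻¹ ∈ Cfsg.invertedBy X t := by
      intro y hy z hz
      have hyC : t * y * t⁻¹ = y := (hmemC y).mp hy.2
      refine ⟨mul_mem (mul_mem hy.1 hz.1) (inv_mem hy.1), ?_⟩
      rw [hσmul, hσmul, hσinv, hyC, hz.2]
      group
    have hYH : ∀ y ∈ X ⊓ Subgroup.centralizer {t}, ∀ a ∈ H, y * a * y⁻¹ ∈ H := by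
      intro y hy a ha
      induction ha using Subgroup.closure_induction with
      | mem z hz => exact hZH _ (hYZ y hy z hz)
      | one => simp
      | mul a b _ _ iha ihb =>
        have : y * (a * b) * y⁻¹ = (y * a * y⁻¹) * (y * b * y⁻¹) := by group
        rw [this]; exact mul_mem iha ihb
      | inv a _ iha =>
        have : y * a⁻¹ * y⁻¹ = (y * a * y⁻¹)⁻¹ := by group
        rw [this]; exact inv_mem iha
    have hXH : ∀ x ∈ X, ∀ a ∈ H, x * a * x⁻¹ ∈ H := by
      intro x hx a ha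
      obtain ⟨y, z, hy, hz, rfl⟩ := hex x hx
      have h1 : z * a * z⁻¹ ∈ H := mul_mem (mul_mem (hZH z hz) ha) (inv_mem (hZH z hz))
      have h2 := hYH y hy _ h1
      have : y * z * a * (y * z)⁻¹ = y * (z * a * z⁻¹) * y⁻¹ := by group
      rw [this]; exact h2
    intro x hx
    apply conj_smul_eq_of_forall
    · exact hXH x hx
    · intro a ha
      have := hXH x⁻¹ (inv_mem hx) a ha
      rwa [inv_inv] at this

end Cfsg.Agent.S1124
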