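import Mathlib
import Cfsg.Statements.S1125
import Cfsg.Agent.Lib.Helper4.RankOne3

set_option autoImplicit false
open Cfsg

namespace Cfsg.Agent.S1125

open Cfsg.Agent.Lib.Helper4.RankOne Cfsg.Agent.Lib.Helper4.RankOne2 Cfsg.Agent.Lib.Helper4.RankOne3 MulAction

variable {G Ω : Type*} [Group G] [MulAction G Ω] {a : Ω} {t : G} {Q : Subgroup G}

/-- The centraliser preserves the fixed points. -/
theorem fixed_smul (X : Set G) {g : G} (hg : g ∈ Subgroup.centralizer X) {p : Ω}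
    (hp : ∀ x ∈ X, x • p = p) : ∀ x ∈ X, x • g • p = g • p := by
  intro x hx
  rw [Subgroup.mem_centralizer_iff] at hg
  rw [← mul_smul, hg x hx, mul_smul, hp x hx]

/-- Elements of `C_G(X)` fixing `t a` and moving `a` to a given fixed point. -/
theorem exists_at_b (hS : Cfsg.IsRankOneSetup G Ω a t Q) (X : Set G)
    (hX : X ⊆ (DD G a t : Set G)) {p : Ω} (hp : ∀ x ∈ X, x • p = p) (hpb : p ≠ t • a) :
    ∃ q ∈ Subgroup.centralizer X, q • t • a = t • a ∧ q • a = p := by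
  have hS' := setup_swap hS
  have hX' : X ⊆ (DD G (t • a) t : Set G) := by
    intro x hx
    have := hX hx
    refine ⟨this.2, ?_⟩
    rw [tta hS]
    exact this.1
  obtain ⟨q, ⟨hq1, hq2⟩, hq3⟩ := centralizer_of_fixed X hS' hX' hp hpb
  rw [tta hS] at hq3
  exact ⟨q, hq1, hS'.le hq2, hq3⟩

/-- Every fixed point can be moved to `a` inside the centraliser. -/
theorem exists_to_a (hS : Cfsg.IsRankOneSetup G Ω a t Q) (X : Set G)
    (hX : X ⊆ (DD G a t : Set G))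
    (h3 : ∃ b c d : Ω, b ≠ c ∧ b ≠ d ∧ c ≠ d ∧ ∀ x ∈ X, x • b = b ∧ x • c = c ∧ x • d = d)
    {p : Ω} (hp : ∀ x ∈ X, x • p = p) : ∃ g ∈ Subgroup.centralizer X, g • p = a := by
  by_cases hpa : p = a
  · exact ⟨1, Subgroup.one_mem _, by rw [one_smul, hpa]⟩
  by_cases hpb : p = t • a
  · -- a third point
    obtain ⟨e, he, hea, heb⟩ : ∃ e : Ω, (∀ x ∈ X, x • e = e) ∧ e ≠ a ∧ e ≠ t • a := by
      obtain ⟨b, c, d, hbc, hbd, hcd, hfix⟩ := h3
      by_cases h1 : b ≠ a ∧ b ≠ t • a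
      · exact ⟨b, fun x hx => (hfix x hx).1, h1.1, h1.2⟩
      by_cases h2 : c ≠ a ∧ c ≠ t • a
      · exact ⟨c, fun x hx => (hfix x hx).2.1, h2.1, h2.2⟩
      refine ⟨d, fun x hx => (hfix x hx).2.2, ?_, ?_⟩
      · rintro rfl
        push Not at h1 h2
        by_cases hb : b = d
        · exact hbd hb
        · by_cases hc : c = d
          · exact hcd hc
          · exact hbc ((h1 hb).trans (h2 hc).symm)
      · rintro rfl
        push Not at h1 h2
        by_cases hb : b = a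
        · by_cases hc : c = a
          · exact hbc (hb.trans hc.symm)
          · have := h2 hc
            exact hcd this
        · exact hbd (h1 hb)
    obtain ⟨g₁, ⟨hg₁, -⟩, hg₁e⟩ := centralizer_of_fixed X hS hX he hea
    obtain ⟨g₂, hg₂, -, hg₂e⟩ := exists_at_b hS X hX he heb
    refine ⟨g₂⁻¹ * g₁, Subgroup.mul_mem _ (Subgroup.inv_mem _ hg₂) hg₁, ?_⟩
    rw [hpb, mul_smul, hg₁e, ← hg₂e, inv_smul_smul]
  · obtain ⟨g, hg, -, hga⟩ := exists_at_b hS X hX hp hpb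
    exact ⟨g⁻¹, Subgroup.inv_mem _ hg, by rw [← hga, inv_smul_smul]⟩

/-- Every pair of distinct fixed points can be moved to `(a, t a)`. -/
theorem exists_to_ab (hS : Cfsg.IsRankOneSetup G Ω a t Q) (X : Set G)
    (hX : X ⊆ (DD G a t : Set G))
    (h3 : ∃ b c d : Ω, b ≠ c ∧ b ≠ d ∧ c ≠ d ∧ ∀ x ∈ X, x • b = b ∧ x • c = c ∧ x • d = d)
    {p₁ p₂ : Ω} (hp₁ : ∀ x ∈ X, x • p₁ = p₁) (hp₂ : ∀ x ∈ X, x • p₂ = p₂) (hne : p₁ ≠ p₂) :
    ∃ g ∈ Subgroup.centralizer X, g • p₁ = a ∧ g • p₂ = t • a := by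
  obtain ⟨g, hg, hga⟩ := exists_to_a hS X hX h3 hp₁
  have h2 : g • p₂ ≠ a := by
    rw [← hga]
    intro h
    exact hne (MulAction.injective g h).symm
  obtain ⟨q, ⟨hq, hqQ⟩, hqb⟩ := centralizer_of_fixed X hS hX (fixed_smul X hg hp₂) h2
  refine ⟨q⁻¹ * g, Subgroup.mul_mem _ (Subgroup.inv_mem _ hq) hg, ?_, ?_⟩
  · rw [mul_smul, hga]
    exact Q_fix hS (Q.inv_mem hqQ)
  · rw [mul_smul, ← hqb, inv_smul_smul]

/-- In the rank-one set-up (`G` finite and doubly transitive on `Ω`, `t` an involution moving `a`, `Q` normal in `G_a` with `G_a = Q D`, `Q ⊓ D = 1` for the two-point stabiliser `D = G_a ⊓ G_{t • a}`, `|Q|` even, `|D|` odd), let `X ⊆ D` fix at least three points of `Ω`. Then `C_G(X)` is doubly transitive on the fixed-point set of `X`, `|C_Q(X)|` is even, and `C_{G_a}(X) = C_Q(X) C_D(X)`. -/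
theorem result {G Ω : Type*} [Group G] [Finite G] [MulAction G Ω] {a : Ω} {t : G} {Q : Subgroup G}
    (hS : Cfsg.IsRankOneSetup G Ω a t Q)
    (X : Set G) (hX : X ⊆ ((MulAction.stabilizer G a ⊓ MulAction.stabilizer G (t • a)) : Set G))
    (h3 : ∃ b c d : Ω, b ≠ c ∧ b ≠ d ∧ c ≠ d ∧ ∀ x ∈ X, x • b = b ∧ x • c = c ∧ x • d = d) :
    (∀ b₁ b₂ c₁ c₂ : Ω, (∀ x ∈ X, x • b₁ = b₁ ∧ x • b₂ = b₂ ∧ x • c₁ = c₁ ∧ x • c₂ = c₂) →
        b₁ ≠ b₂ → c₁ ≠ c₂ → ∃ g ∈ Subgroup.centralizer X, g • b₁ = c₁ ∧ g • b₂ = c₂) ∧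
      Even (Nat.card ↥(Subgroup.centralizer X ⊓ Q)) ∧
      (Subgroup.centralizer X ⊓ Q) ⊔ (Subgroup.centralizer X ⊓ (MulAction.stabilizer G a ⊓ MulAction.stabilizer G (t • a))) = Subgroup.centralizer X ⊓ MulAction.stabilizer G a := by
  have hXa : ∀ x ∈ X, x • a = a := fun x hx => (hX hx).1
  have hXb : ∀ x ∈ X, x • t • a = t • a := fun x hx => (hX hx).2
  have part1 : ∀ b₁ b₂ c₁ c₂ : Ω, (∀ x ∈ X, x • b₁ = b₁ ∧ x • b₂ = b₂ ∧ x • c₁ = c₁ ∧ x • c₂ = c₂) →
        b₁ ≠ b₂ → c₁ ≠ c₂ → ∃ g ∈ Subgroup.centralizer X, g • b₁ = c₁ ∧ g • b₂ = c₂ := by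
    intro b₁ b₂ c₁ c₂ hfix hb hc
    obtain ⟨g, hg, hg1, hg2⟩ := exists_to_ab hS X hX h3 (fun x hx => (hfix x hx).1)
      (fun x hx => (hfix x hx).2.1) hb
    obtain ⟨g', hg', hg'1, hg'2⟩ := exists_to_ab hS X hX h3 (fun x hx => (hfix x hx).2.2.1)
      (fun x hx => (hfix x hx).2.2.2) hc
    refine ⟨g'⁻¹ * g, Subgroup.mul_mem _ (Subgroup.inv_mem _ hg') hg, ?_, ?_⟩
    · rw [mul_smul, hg1, ← hg'1, inv_smul_smul]
    · rw [mul_smul, hg2, ← hg'2, inv_smul_smul]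
  refine ⟨part1, ?_, ?_⟩
  · -- an element swapping a and t a
    obtain ⟨g, hg, hga, hgb⟩ := part1 a (t • a) (t • a) a
      (fun x hx => ⟨hXa x hx, hXb x hx, hXb x hx, hXa x hx⟩) (ta_ne hS).symm (ta_ne hS)
    -- g has even order
    have heven : Even (orderOf g) := by
      by_contra hodd
      rw [Nat.not_even_iff_odd] at hodd
      obtain ⟨m, hm⟩ := hodd
      have h1 : g = (g * g) ^ (m + 1) := by
        rw [← pow_two, ← pow_mul]
        have : 2 * (m + 1) = orderOf g + 1 := by omega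
        rw [this, pow_succ, pow_orderOf_eq_one, one_mul]
      have h2 : (g * g) • a = a := by rw [mul_smul, hga, hgb]
      have h3 : ((g * g) ^ (m + 1)) • a = a := by
        have : (g * g) ∈ stabilizer G a := h2
        exact Subgroup.pow_mem _ this _
      rw [← h1, hga] at h3
      exact ta_ne hS h3
    obtain ⟨m, hm⟩ := heven
    have hpos : 0 < orderOf g := orderOf_pos g
    have hu1 : g ^ m ≠ 1 := pow_ne_one_of_lt_orderOf (by omega) (by omega)
    have hu2 : g ^ m * g ^ m = 1 := by rw [← pow_add, ← hm, pow_orderOf_eq_one]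
    have huC : g ^ m ∈ Subgroup.centralizer X := Subgroup.pow_mem _ hg _
    obtain ⟨c, hc⟩ := S1121.exists_fixed hS hu1 hu2
    have hcF : ∀ x ∈ X, x • c = c := by
      intro x hx
      apply S1121.unique_fixed hS hu1 hu2 _ hc
      rw [Subgroup.mem_centralizer_iff] at huC
      rw [← mul_smul, ← huC x hx, mul_smul, hc]
    obtain ⟨g', hg', hg'c⟩ := exists_to_a hS X hX h3 hcF
    have hu'C : g' * g ^ m * g'⁻¹ ∈ Subgroup.centralizer X :=
      Subgroup.mul_mem _ (Subgroup.mul_mem _ hg' huC) (Subgroup.inv_mem _ hg')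
    have hu'a : g' * g ^ m * g'⁻¹ ∈ stabilizer G a := by
      rw [mem_stabilizer_iff, mul_smul, mul_smul, ← hg'c, inv_smul_smul, hc]
    have hu'2 : (g' * g ^ m * g'⁻¹) * (g' * g ^ m * g'⁻¹) = 1 := by
      have : (g' * g ^ m * g'⁻¹) * (g' * g ^ m * g'⁻¹) = g' * (g ^ m * g ^ m) * g'⁻¹ := by group
      rw [this, hu2]; group
    have hu'1 : g' * g ^ m * g'⁻¹ ≠ 1 := by
      intro h
      apply hu1
      have : g ^ m = g'⁻¹ * (g' * g ^ m * g'⁻¹) * g' := by group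
      rw [this, h]; group
    have hu'Q := S1121.invol_mem_Q hS hu'a hu'2
    have : Fact (Nat.Prime 2) := ⟨Nat.prime_two⟩
    have hord : orderOf (g' * g ^ m * g'⁻¹) = 2 :=
      orderOf_eq_prime (by rw [pow_two]; exact hu'2) hu'1
    rw [even_iff_two_dvd, ← hord]
    exact Subgroup.orderOf_dvd_natCard _ ⟨hu'C, hu'Q⟩
  · apply le_antisymm
    · rw [sup_le_iff]
      exact ⟨inf_le_inf_left _ hS.le, inf_le_inf_left _ inf_le_left⟩
    · rintro g ⟨hgC, hga⟩
      replace hgC : g ∈ Subgroup.centralizer X := hgC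
      replace hga : g • a = a := hga
      have h2 : g • t • a ≠ a := by
        intro h
        have h' : g • t • a = g • a := by rw [h, hga]
        exact ta_ne hS (MulAction.injective g h')
      obtain ⟨q, ⟨hq, hqQ⟩, hqb⟩ := centralizer_of_fixed X hS hX (fixed_smul X hgC hXb) h2
      have : g = q * (q⁻¹ * g) := by group
      rw [this]
      apply Subgroup.mul_mem
      · exact Subgroup.mem_sup_left ⟨hq, hqQ⟩
      · apply Subgroup.mem_sup_right
        refine ⟨Subgroup.mul_mem _ (Subgroup.inv_mem _ hq) hgC, ?_, ?_⟩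
        · change q⁻¹ * g ∈ stabilizer G a
          rw [mem_stabilizer_iff, mul_smul, hga]
          exact Q_fix hS (Q.inv_mem hqQ)
        · change q⁻¹ * g ∈ stabilizer G (t • a)
          rw [mem_stabilizer_iff, mul_smul, ← hqb, inv_smul_smul]

end Cfsg.Agent.S1125
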