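import Mathlib
import Cfsg.Statements.S1126
import Cfsg.Agent.S1125

set_option autoImplicit false
open Cfsg

namespace Cfsg.Agent.S1126

open Cfsg.Agent.Lib.Helper4.RankOne Cfsg.Agent.Lib.Helper4.RankOne2 Cfsg.Agent.Lib.Helper4.RankOne3 MulAction

/-- In the rank-one set-up (`G` finite and doubly transitive on `Ω`, `t` an involution moving `a`, `Q` normal in `G_a` with `G_a = Q D`, `Q ⊓ D = 1` for the two-point stabiliser `D = G_a ⊓ G_{t • a}`, `|Q|` even, `|D|` odd), a subset `X ⊆ D` fixing at least three points of `Ω` is conjugate by an element of `D` into `V = C_D(t)`. -/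
theorem result {G Ω : Type*} [Group G] [Finite G] [MulAction G Ω] {a : Ω} {t : G} {Q : Subgroup G}
    (hS : Cfsg.IsRankOneSetup G Ω a t Q)
    (X : Set G) (hX : X ⊆ ((MulAction.stabilizer G a ⊓ MulAction.stabilizer G (t • a)) : Set G))
    (h3 : ∃ b c d : Ω, b ≠ c ∧ b ≠ d ∧ c ≠ d ∧ ∀ x ∈ X, x • b = b ∧ x • c = c ∧ x • d = d) :
    ∃ k ∈ (MulAction.stabilizer G a ⊓ MulAction.stabilizer G (t • a)), ∀ x ∈ X, (k * x * k⁻¹) * t = t * (k * x * k⁻¹) := by
  have hXa : ∀ x ∈ X, x • a = a := fun x hx => (hX hx).1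
  have hXb : ∀ x ∈ X, x • t • a = t • a := fun x hx => (hX hx).2
  obtain ⟨g, hg, hga, hgb⟩ := (S1125.result hS X hX h3).1 a (t • a) (t • a) a
    (fun x hx => ⟨hXa x hx, hXb x hx, hXb x hx, hXa x hx⟩) (ta_ne hS).symm (ta_ne hS)
  -- g * g ∈ D has odd order r
  have hggD : g * g ∈ DD G a t := by
    rw [mem_D_iff]
    constructor
    · rw [mul_smul, hga, hgb]
    · rw [mul_smul, hgb, hga]
  have hrodd : Odd (orderOf (g * g)) := by
    have h1 : orderOf (g * g) ∣ Nat.card (DD G a t) := Subgroup.orderOf_dvd_natCard _ hggD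
    exact Odd.of_dvd_nat hS.odd_card h1
  obtain ⟨n, hn⟩ := hrodd
  set v := g ^ (2 * n + 1) with hv
  have hv2 : v * v = 1 := by
    rw [hv, ← pow_add]
    have : 2 * n + 1 + (2 * n + 1) = 2 * (2 * n + 1) := by ring
    rw [this, pow_mul, pow_two, ← hn, pow_orderOf_eq_one]
  have hvC : v ∈ Subgroup.centralizer X := Subgroup.pow_mem _ hg _
  have hva : v • a = t • a := by
    rw [hv, pow_succ, pow_mul, pow_two, mul_smul, hga]
    have : (g * g) ^ n ∈ stabilizer G (t • a) := Subgroup.pow_mem _ hggD.2 _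
    exact this
  have hk := swap_invol hS hva hv2
  obtain ⟨m, hm, hmm⟩ := exists_sqrt hS (inv_mem_KK hS hk)
  have hmD := ((mem_KK_iff hS m).mp hm).1
  have hct := conj_t hS hm
  rw [hmm, inv_inv] at hct
  have hvt : v = m⁻¹ * t * m := by
    rw [hct]
    have : v * t * t = v * (t * t) := by group
    rw [this, hS.mul_self, mul_one]
  refine ⟨m, hmD, ?_⟩
  intro x hx
  rw [Subgroup.mem_centralizer_iff] at hvC
  have h1 := hvC x hx
  rw [hvt] at h1
  -- x * (m⁻¹ t m) = (m⁻¹ t m) * x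
  calc m * x * m⁻¹ * t = m * (x * (m⁻¹ * t * m)) * m⁻¹ := by group
    _ = m * ((m⁻¹ * t * m) * x) * m⁻¹ := by rw [h1]
    _ = t * (m * x * m⁻¹) := by group

end Cfsg.Agent.S1126
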