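import Mathlib
import Cfsg.Statements.S1127
import Cfsg.Agent.Lib.Helper4.RankOne3
import Cfsg.Agent.S1122
import Cfsg.Agent.S1123

set_option autoImplicit false
open Cfsg

namespace Cfsg.Agent.S1127

open Cfsg.Agent.Lib.Helper4.RankOne Cfsg.Agent.Lib.Helper4.RankOne2 Cfsg.Agent.Lib.Helper4.RankOne3 MulAction

variable {G Ω : Type*} [Group G] [MulAction G Ω] {a : Ω} {t : G} {Q : Subgroup G}

/-- Changing `t` to another involution with the same image of `a`. -/
theorem setup_of_smul_eq (hS : Cfsg.IsRankOneSetup G Ω a t Q) {t' : G} (h2 : t' * t' = 1)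
    (h : t' • a = t • a) : Cfsg.IsRankOneSetup G Ω a t' Q := by
  refine ⟨hS.two_transitive, h2, ?_, ?_, hS.le, hS.conj_mem, ?_, ?_, hS.even_card, ?_⟩
  · rintro rfl
    rw [one_smul] at h
    exact ta_ne hS h.symm
  · rw [mem_stabilizer_iff, h]
    exact ta_ne hS
  · rw [h]; exact hS.inf_eq_bot
  · rw [h]; exact hS.sup_eq
  · rw [h]; exact hS.odd_card

/-- The only element of `K` centralising an involution of `G_a` is `1`. -/
theorem KK_centralizer_trivial [Finite G] (hS : Cfsg.IsRankOneSetup G Ω a t Q) {s m : G}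
    (hs : s ∈ Inv G a) (hm : m ∈ KK G a t) (h : m⁻¹ * s * m = s) : m = 1 := by
  have hfinK : Finite (KK G a t) := Finite.of_injective (fun x => (x : G)) Subtype.val_injective
  have hfinI : Finite (Inv G a) := Finite.of_injective (fun x => (x : G)) Subtype.val_injective
  obtain ⟨hcard, htrans⟩ := S1122.result hS
  let φ : KK G a t → Inv G a := fun k =>
    ⟨k.1⁻¹ * s * k.1, conj_mem_Inv hs ((mem_KK_iff hS k.1).mp k.2).1.1⟩
  have hsurj : Function.Surjective φ := by
    rintro ⟨s', hs'⟩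
    obtain ⟨k, hk, hks⟩ := htrans s hs s' hs'
    exact ⟨⟨k, hk⟩, Subtype.ext hks⟩
  have hbij : Function.Bijective φ :=
    (Nat.bijective_iff_surjective_and_card φ).mpr ⟨hsurj, hcard⟩
  have h1 : φ ⟨m, hm⟩ = φ ⟨1, one_mem_KK hS⟩ := by
    apply Subtype.ext
    change m⁻¹ * s * m = 1⁻¹ * s * 1
    rw [h]; group
  exact congrArg Subtype.val (hbij.1 h1)

/-- First part. -/
theorem part1 [Finite G] (hS : Cfsg.IsRankOneSetup G Ω a t Q) {s r : G} (hs : s ∈ Inv G a)
    (hr : r ∈ Q) (heq : t * s * t = r⁻¹ * t * r) (d : G) (hd : d ∈ DD G a t) :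
    t * d = d * t ↔ s * d = d * s := by
  constructor
  · intro hdt
    -- the pair (d s d⁻¹, d r d⁻¹)
    have h1 : t * (d * s * d⁻¹) * t = (d * r * d⁻¹)⁻¹ * t * (d * r * d⁻¹) := by
      have hdt' : t * d⁻¹ = d⁻¹ * t := by
        calc t * d⁻¹ = d⁻¹ * (d * t) * d⁻¹ := by group
          _ = d⁻¹ * (t * d) * d⁻¹ := by rw [hdt]
          _ = _ := by group
      calc t * (d * s * d⁻¹) * t = (t * d) * s * (d⁻¹ * t) := by group
        _ = (d * t) * s * (t * d⁻¹) := by rw [hdt, hdt']
        _ = d * (t * s * t) * d⁻¹ := by group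
        _ = d * (r⁻¹ * t * r) * d⁻¹ := by rw [heq]
        _ = d * r⁻¹ * (d⁻¹ * d) * t * r * d⁻¹ := by group
        _ = d * r⁻¹ * d⁻¹ * (d * t) * r * d⁻¹ := by group
        _ = d * r⁻¹ * d⁻¹ * (t * d) * r * d⁻¹ := by rw [hdt]
        _ = _ := by group
    have hs' : d * s * d⁻¹ ∈ Inv G a := by
      have := conj_mem_Inv hs (Subgroup.inv_mem _ hd.1)
      rwa [inv_inv] at this
    have hr' : d * r * d⁻¹ ∈ Q := hS.conj_mem d hd.1 r hr
    obtain ⟨p, -, hp⟩ := S1123.result hS
    have e1 := hp (s, r) ⟨hs, hr, heq⟩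
    have e2 := hp (d * s * d⁻¹, d * r * d⁻¹) ⟨hs', hr', h1⟩
    have e3 : d * s * d⁻¹ = s := by
      have := e2.trans e1.symm
      exact congrArg Prod.fst this
    calc s * d = (d * s * d⁻¹) * d := by rw [e3]
      _ = d * s := by group
  · intro hds
    have hti := t_inv hS
    set t' := d * t * d⁻¹ with ht'
    have ht'2 : t' * t' = 1 := by
      have : t' * t' = d * (t * t) * d⁻¹ := by rw [ht']; group
      rw [this, hS.mul_self]; group
    have hdi : d⁻¹ • a = a := (Subgroup.inv_mem _ hd).1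
    have ht'a : t' • a = t • a := by
      rw [ht', mul_smul, mul_smul, hdi, hd.2]
    have hS' := setup_of_smul_eq hS ht'2 ht'a
    have hk := swap_invol hS ht'a ht'2
    obtain ⟨m, hm, hmm⟩ := exists_sqrt hS (inv_mem_KK hS hk)
    have hmD := ((mem_KK_iff hS m).mp hm).1
    have hct := conj_t hS hm
    rw [hmm, inv_inv] at hct
    have hvt : t' = m⁻¹ * t * m := by
      rw [hct]
      have : t' * t * t = t' * (t * t) := by group
      rw [this, hS.mul_self, mul_one]
    -- pair 1 : (s, d r d⁻¹)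
    have hds' : d⁻¹ * s * d = s := by
      calc d⁻¹ * s * d = d⁻¹ * (s * d) := by group
        _ = d⁻¹ * (d * s) := by rw [hds]
        _ = s := by group
    have h1 : t' * s * t' = (d * r * d⁻¹)⁻¹ * t' * (d * r * d⁻¹) := by
      calc t' * s * t' = d * t * (d⁻¹ * s * d) * t * d⁻¹ := by rw [ht']; group
        _ = d * (t * s * t) * d⁻¹ := by rw [hds']; group
        _ = d * (r⁻¹ * t * r) * d⁻¹ := by rw [heq]
        _ = _ := by rw [ht']; group
    -- pair 2 : (m⁻¹ s m, m⁻¹ r m)
    have h2 : t' * (m⁻¹ * s * m) * t' = (m⁻¹ * r * m)⁻¹ * t' * (m⁻¹ * r * m) := by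
      calc t' * (m⁻¹ * s * m) * t' = m⁻¹ * (t * s * t) * m := by rw [hvt]; group
        _ = m⁻¹ * (r⁻¹ * t * r) * m := by rw [heq]
        _ = _ := by rw [hvt]; group
    have hr1 : d * r * d⁻¹ ∈ Q := hS.conj_mem d hd.1 r hr
    have hr2 : m⁻¹ * r * m ∈ Q := by
      have := hS.conj_mem m⁻¹ (Subgroup.inv_mem _ hmD.1) r hr
      rwa [inv_inv] at this
    have hs2 : m⁻¹ * s * m ∈ Inv G a := conj_mem_Inv hs hmD.1
    obtain ⟨p, -, hp⟩ := S1123.result hS'
    have e1 := hp (s, d * r * d⁻¹) ⟨hs, hr1, h1⟩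
    have e2 := hp (m⁻¹ * s * m, m⁻¹ * r * m) ⟨hs2, hr2, h2⟩
    have e3 : m⁻¹ * s * m = s := congrArg Prod.fst (e2.trans e1.symm)
    have hm1 := KK_centralizer_trivial hS hs hm e3
    rw [hm1] at hvt
    have : t' = t := by rw [hvt]; group
    calc t * d = t' * d := by rw [this]
      _ = d * t := by rw [ht']; group

/-- In the rank-one set-up (`G` finite and doubly transitive on `Ω`, `t` an involution moving `a`, `Q` normal in `G_a` with `G_a = Q D`, `Q ⊓ D = 1` for the two-point stabiliser `D = G_a ⊓ G_{t • a}`, `|Q|` even, `|D|` odd): if `s` is an involution of `G_a` and `r ∈ Q` satisfy `t s t = r⁻¹ t r`, then `C_D(t) = C_D(s)`; moreover `C_D(t) ⊓ C_D(K) = C_D(I ∩ G_a)`, where `K` is the set of elements of `D` inverted by `t` and `I ∩ G_a` the set of involutions of `G_a`. -/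
theorem result {G Ω : Type*} [Group G] [Finite G] [MulAction G Ω] {a : Ω} {t : G} {Q : Subgroup G}
    (hS : Cfsg.IsRankOneSetup G Ω a t Q) :
    (∀ s r : G, s ∈ Cfsg.involutionsIn (MulAction.stabilizer G a : Set G) → r ∈ Q → t * s * t = r⁻¹ * t * r →
        (MulAction.stabilizer G a ⊓ MulAction.stabilizer G (t • a)) ⊓ Subgroup.centralizer {t} = (MulAction.stabilizer G a ⊓ MulAction.stabilizer G (t • a)) ⊓ Subgroup.centralizer {s}) ∧
      (MulAction.stabilizer G a ⊓ MulAction.stabilizer G (t • a)) ⊓ Subgroup.centralizer {t} ⊓ Subgroup.centralizer (Cfsg.invertedBy (MulAction.stabilizer G a ⊓ MulAction.stabilizer G (t • a)) t) =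
        (MulAction.stabilizer G a ⊓ MulAction.stabilizer G (t • a)) ⊓ Subgroup.centralizer (Cfsg.involutionsIn (MulAction.stabilizer G a : Set G)) := by
  have memC : ∀ (x d : G), d ∈ Subgroup.centralizer ({x} : Set G) ↔ x * d = d * x := by
    intro x d
    rw [Subgroup.mem_centralizer_iff]
    constructor
    · intro h; exact h x rfl
    · rintro h y rfl; exact h
  constructor
  · intro s r hs hr heq
    ext d
    simp only [Subgroup.mem_inf, memC]
    constructor
    · rintro ⟨hd, hdt⟩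
      exact ⟨hd, (part1 hS hs hr heq d hd).mp hdt⟩
    · rintro ⟨hd, hds⟩
      exact ⟨hd, (part1 hS hs hr heq d hd).mpr hds⟩
  · obtain ⟨⟨s, r⟩, ⟨hs, hr, heq⟩, -⟩ := S1123.result hS
    simp only at hs hr heq
    obtain ⟨-, htrans⟩ := S1122.result hS
    ext d
    simp only [Subgroup.mem_inf, memC]
    constructor
    · rintro ⟨⟨hd, hdt⟩, hdK⟩
      refine ⟨hd, ?_⟩
      rw [Subgroup.mem_centralizer_iff] at hdK ⊢
      intro s' hs'
      obtain ⟨k, hk, hks⟩ := htrans s hs s' hs'
      have hds := (part1 hS hs hr heq d hd).mp hdt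
      have hdk := hdK k hk
      have hdk' : k⁻¹ * d = d * k⁻¹ := by
        calc k⁻¹ * d = k⁻¹ * (d * k) * k⁻¹ := by group
          _ = k⁻¹ * (k * d) * k⁻¹ := by rw [hdk]
          _ = _ := by group
      rw [← hks]
      calc k⁻¹ * s * k * d = k⁻¹ * s * (k * d) := by group
        _ = k⁻¹ * s * (d * k) := by rw [hdk]
        _ = k⁻¹ * (s * d) * k := by group
        _ = k⁻¹ * (d * s) * k := by rw [hds]
        _ = (k⁻¹ * d) * s * k := by group
        _ = (d * k⁻¹) * s * k := by rw [hdk']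
        _ = _ := by group
    · rintro ⟨hd, hdI⟩
      rw [Subgroup.mem_centralizer_iff] at hdI
      have hds := hdI s hs
      have hdt := (part1 hS hs hr heq d hd).mpr hds
      refine ⟨⟨hd, hdt⟩, ?_⟩
      rw [Subgroup.mem_centralizer_iff]
      intro k hk
      obtain ⟨m, hm, hmm⟩ := exists_sqrt hS hk
      have hmK := (mem_KK_iff hS m).mp hm
      have hmD := hmK.1
      -- m d m⁻¹ commutes with s
      have h1 : (m⁻¹ * s * m) * d = d * (m⁻¹ * s * m) := hdI _ (conj_mem_Inv hs hmD.1)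
      have h2 : s * (m * d * m⁻¹) = (m * d * m⁻¹) * s := by
        calc s * (m * d * m⁻¹) = m * ((m⁻¹ * s * m) * d) * m⁻¹ := by group
          _ = m * (d * (m⁻¹ * s * m)) * m⁻¹ := by rw [h1]
          _ = _ := by group
      have h3 : m * d * m⁻¹ ∈ DD G a t :=
        Subgroup.mul_mem _ (Subgroup.mul_mem _ hmD hd) (Subgroup.inv_mem _ hmD)
      have h4 := (part1 hS hs hr heq _ h3).mpr h2
      -- t m = m⁻¹ t
      have htm : t * m = m⁻¹ * t := by
        have hti := t_inv hS
        calc t * m = (t * m * t) * t⁻¹ := by group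
          _ = m⁻¹ * t := by rw [hmK.2, hti]
      have htm' : t * m⁻¹ = m * t := by
        calc t * m⁻¹ = m * (m⁻¹ * t) * m⁻¹ := by group
          _ = m * (t * m) * m⁻¹ := by rw [htm]
          _ = _ := by group
      have h5 : m⁻¹ * d * m * t = m * d * m⁻¹ * t := by
        calc m⁻¹ * d * m * t = m⁻¹ * d * (m * t) := by group
          _ = m⁻¹ * d * (t * m⁻¹) := by rw [htm']
          _ = m⁻¹ * (d * t) * m⁻¹ := by group
          _ = m⁻¹ * (t * d) * m⁻¹ := by rw [hdt]
          _ = (m⁻¹ * t) * d * m⁻¹ := by group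
          _ = (t * m) * d * m⁻¹ := by rw [htm]
          _ = t * (m * d * m⁻¹) := by group
          _ = _ := h4
      have h6 : m⁻¹ * d * m = m * d * m⁻¹ := mul_right_cancel h5
      rw [← hmm]
      calc m * m * d = m * (m * d * m⁻¹) * m := by group
        _ = m * (m⁻¹ * d * m) * m := by rw [h6]
        _ = d * (m * m) := by group

end Cfsg.Agent.S1127
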