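import Mathlib
import Cfsg.Statements.S1128
import Cfsg.Agent.S1126

set_option autoImplicit false
open Cfsg

namespace Cfsg.Agent.S1128

open Cfsg.Agent.Lib.Helper4.RankOne Cfsg.Agent.Lib.Helper4.RankOne2 MulAction

/-- In the rank-one set-up (`G` finite and doubly transitive on `Ω`, `t` an involution moving `a`, `Q` normal in `G_a` with `G_a = Q D`, `Q ⊓ D = 1` for the two-point stabiliser `D = G_a ⊓ G_{t • a}`, `|Q|` even, `|D|` odd) with `G` faithful on `Ω` and of 2-rank at least 2: a non-identity element of `D` inverted by `t` centralises no non-identity element of `Q`. -/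
theorem result {G Ω : Type*} [Group G] [Finite G] [MulAction G Ω] [FaithfulSMul G Ω] {a : Ω} {t : G} {Q : Subgroup G}
    (hS : Cfsg.IsRankOneSetup G Ω a t Q)
    (h2 : ∃ x y : G, x ≠ 1 ∧ y ≠ 1 ∧ x ≠ y ∧ x * x = 1 ∧ y * y = 1 ∧ x * y = y * x)
    (x : G) (hx : x ∈ Cfsg.invertedBy (MulAction.stabilizer G a ⊓ MulAction.stabilizer G (t • a)) t) (hx1 : x ≠ 1) :
    Q ⊓ Subgroup.centralizer {x} = ⊥ := by
  rw [eq_bot_iff]
  rintro y ⟨hyQ, hyC⟩
  replace hyQ : y ∈ Q := hyQ
  replace hyC : y ∈ Subgroup.centralizer ({x} : Set G) := hyC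
  rw [Subgroup.mem_bot]
  by_contra hy1
  exfalso
  rw [Subgroup.mem_centralizer_iff] at hyC
  have hxy : x * y = y * x := hyC x rfl
  have hxK := (mem_KK_iff hS x).mp hx
  have hxD := hxK.1
  -- x fixes three points
  have hyb1 : y • t • a ≠ a := Q_smul_ne hS hyQ (ta_ne hS)
  have hyb2 : y • t • a ≠ t • a := fun h => hy1 (Q_free hS hyQ (ta_ne hS) h)
  have hfix : x • y • t • a = y • t • a := by
    rw [← mul_smul, hxy, mul_smul, hxD.2]
  have hX : ({x} : Set G) ⊆ (DD G a t : Set G) := by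
    rintro _ rfl; exact hxD
  obtain ⟨k, hk, hkt⟩ := S1126.result hS {x} hX ⟨a, t • a, y • t • a, (ta_ne hS).symm, hyb1.symm, hyb2.symm,
    by
      rintro _ rfl
      exact ⟨hxD.1, hxD.2, hfix⟩⟩
  have h1 := hkt x rfl
  -- x' = k x k⁻¹ commutes with t and is inverted by t' = k t k⁻¹
  set x' := k * x * k⁻¹ with hx'
  have hx'D : x' ∈ DD G a t := Subgroup.mul_mem _ (Subgroup.mul_mem _ hk hxD) (Subgroup.inv_mem _ hk)
  -- m = k t k⁻¹ t ∈ D inverts x'
  have hti := t_inv hS
  have hinv : (k * t * k⁻¹) * x' * (k * t * k⁻¹)⁻¹ = x'⁻¹ := by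
    have : (k * t * k⁻¹) * x' * (k * t * k⁻¹)⁻¹ = k * (t * x * t⁻¹) * k⁻¹ := by rw [hx']; group
    rw [this, hti, hxK.2, hx']; group
  set m := k * t * k⁻¹ * t with hm
  have hmD : m ∈ DD G a t := by
    have : m = (k * (t * k⁻¹ * t)) := by rw [hm]; group
    rw [this]
    exact Subgroup.mul_mem _ hk (t_conj_D hS (Subgroup.inv_mem _ hk))
  have hminv : m * x' * m⁻¹ = x'⁻¹ := by
    have h3 : t * x' * t⁻¹ = x' := by
      rw [← h1]; group
    calc m * x' * m⁻¹ = (k * t * k⁻¹) * (t * x' * t⁻¹) * (k * t * k⁻¹)⁻¹ := by rw [hm]; group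
      _ = x'⁻¹ := by rw [h3, hinv]
  -- m * m commutes with x'
  have hmm : (m * m) * x' = x' * (m * m) := by
    have h4 : m * x' = x'⁻¹ * m := by
      calc m * x' = (m * x' * m⁻¹) * m := by group
        _ = x'⁻¹ * m := by rw [hminv]
    have h5 : m * x'⁻¹ = x' * m := by
      calc m * x'⁻¹ = (m * x' * m⁻¹)⁻¹ * m := by group
        _ = x' * m := by rw [hminv, inv_inv]
    calc (m * m) * x' = m * (m * x') := by group
      _ = m * (x'⁻¹ * m) := by rw [h4]
      _ = (m * x'⁻¹) * m := by group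
      _ = (x' * m) * m := by rw [h5]
      _ = _ := by group
  -- hence m commutes with x'
  obtain ⟨n, hn⟩ := hS.odd_card
  have hmpow : m = (m * m) ^ (n + 1) := by
    have h1 : m ^ Nat.card (DD G a t) = 1 := by
      have := pow_card_eq_one' (G := DD G a t) (x := ⟨m, hmD⟩)
      exact congrArg Subtype.val this
    rw [hn] at h1
    rw [← pow_two, ← pow_mul]
    have : 2 * (n + 1) = (2 * n + 1) + 1 := by ring
    rw [this, pow_succ, h1, one_mul]
  have hcomm : m * x' = x' * m := by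
    have : Commute (m * m) x' := hmm
    have := this.pow_left (n + 1)
    rw [← hmpow] at this
    exact this
  have hx'2 : x' * x' = 1 := by
    have : x' = x'⁻¹ := by
      calc x' = (x' * m) * m⁻¹ := by group
        _ = (m * x') * m⁻¹ := by rw [hcomm]
        _ = x'⁻¹ := hminv
    calc x' * x' = x' * x'⁻¹ := by rw [← this]
      _ = 1 := mul_inv_cancel _
  have hx'1 : x' = 1 := by
    have := sq_inj hS hx'D (Subgroup.one_mem _) (by rw [hx'2, one_mul])
    exact this
  apply hx1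
  have : x = k⁻¹ * x' * k := by rw [hx']; group
  rw [this, hx'1]; group

end Cfsg.Agent.S1128
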