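import Mathlib
import Cfsg.Statements.S1129
import Cfsg.Agent.S1128
import Cfsg.Agent.S1122
import Cfsg.Agent.S0033

set_option autoImplicit false
open Cfsg

namespace Cfsg.Agent.S1129

open Cfsg.Agent.Lib.Helper4.RankOne Cfsg.Agent.Lib.Helper4.RankOne2 MulAction

section aux

variable {G Ω : Type*} [Group G] [MulAction G Ω] {a : Ω} {t : G} {Q : Subgroup G}

/-- Two distinct commuting involutions give two distinct involutions in `G_a`. -/
theorem exists_two_invol [Finite G] (hS : Cfsg.IsRankOneSetup G Ω a t Q)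
    (h2 : ∃ x y : G, x ≠ 1 ∧ y ≠ 1 ∧ x ≠ y ∧ x * x = 1 ∧ y * y = 1 ∧ x * y = y * x) :
    ∃ x y : G, x ∈ Inv G a ∧ y ∈ Inv G a ∧ x ≠ y := by
  obtain ⟨x, y, hx1, hy1, hxy, hx2, hy2, hc⟩ := h2
  obtain ⟨c, hxc⟩ := S1121.exists_fixed hS hx1 hx2
  have hyc : y • c = c := by
    apply S1121.unique_fixed hS hx1 hx2 _ hxc
    rw [← mul_smul, hc, mul_smul, hxc]
  have h2t := hS.two_transitive
  have : IsPretransitive G Ω := MulAction.isPretransitive_of_is_two_pretransitive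
  obtain ⟨k, rfl⟩ := MulAction.exists_smul_eq G a c
  have key : ∀ v : G, v ≠ 1 → v * v = 1 → v • k • a = k • a → k⁻¹ * v * k ∈ Inv G a := by
    intro v hv1 hv2 hvc
    refine ⟨?_, ?_, ?_⟩
    · show k⁻¹ * v * k ∈ stabilizer G a
      rw [mem_stabilizer_iff, mul_smul, mul_smul, hvc, inv_smul_smul]
    · intro h
      apply hv1
      have : v = k * (k⁻¹ * v * k) * k⁻¹ := by group
      rw [this, h]; group
    · have : (k⁻¹ * v * k) * (k⁻¹ * v * k) = k⁻¹ * (v * v) * k := by group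
      rw [this, hv2]; group
  refine ⟨k⁻¹ * x * k, k⁻¹ * y * k, key x hx1 hx2 hxc, key y hy1 hy2 hyc, ?_⟩
  intro h
  apply hxy
  have : x = k * (k⁻¹ * x * k) * k⁻¹ := by group
  rw [this, h]; group

theorem exists_KK_ne_one [Finite G] (hS : Cfsg.IsRankOneSetup G Ω a t Q)
    (h2 : ∃ x y : G, x ≠ 1 ∧ y ≠ 1 ∧ x ≠ y ∧ x * x = 1 ∧ y * y = 1 ∧ x * y = y * x) :
    ∃ k ∈ KK G a t, k ≠ 1 := by
  obtain ⟨x, y, hx, hy, hxy⟩ := exists_two_invol hS h2
  obtain ⟨k, hk, hkxy⟩ := (S1122.result hS).2 x hx y hy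
  refine ⟨k, hk, ?_⟩
  rintro rfl
  apply hxy
  rw [← hkxy]; group

theorem exists_KK_prime [Finite G] (hS : Cfsg.IsRankOneSetup G Ω a t Q)
    (h2 : ∃ x y : G, x ≠ 1 ∧ y ≠ 1 ∧ x ≠ y ∧ x * x = 1 ∧ y * y = 1 ∧ x * y = y * x) :
    ∃ k ∈ KK G a t, ∃ p : ℕ, p.Prime ∧ orderOf k = p := by
  obtain ⟨k, hk, hk1⟩ := exists_KK_ne_one hS h2
  have hpos : 0 < orderOf k := orderOf_pos k
  have hne1 : orderOf k ≠ 1 := by rwa [Ne, orderOf_eq_one_iff]
  exact ⟨k ^ (orderOf k / (orderOf k).minFac), pow_mem_KK hS hk _, (orderOf k).minFac,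
    Nat.minFac_prime hne1, orderOf_pow_orderOf_div hpos.ne' (Nat.minFac_dvd _)⟩

end aux

/-- In the rank-one set-up (`G` finite and doubly transitive on `Ω`, `t` an involution moving `a`, `Q` normal in `G_a` with `G_a = Q D`, `Q ⊓ D = 1` for the two-point stabiliser `D = G_a ⊓ G_{t • a}`, `|Q|` even, `|D|` odd), with the action faithful and `G` containing two distinct commuting involutions: `Q` is nilpotent. -/
theorem result {G Ω : Type*} [Group G] [Finite G] [MulAction G Ω] [FaithfulSMul G Ω] {a : Ω} {t : G} {Q : Subgroup G}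
    (hS : Cfsg.IsRankOneSetup G Ω a t Q)
    (h2 : ∃ x y : G, x ≠ 1 ∧ y ≠ 1 ∧ x ≠ y ∧ x * x = 1 ∧ y * y = 1 ∧ x * y = y * x) :
    Group.IsNilpotent Q := by
  obtain ⟨k, hk, p, hp, hord⟩ := exists_KK_prime hS h2
  have hkD := ((mem_KK_iff hS k).mp hk).1
  have hk1 : k ≠ 1 := by
    rintro rfl
    rw [orderOf_one] at hord
    exact hp.ne_one hord.symm
  have hkN : k ∈ Subgroup.normalizer (Q : Set G) := by
    rw [Subgroup.mem_normalizer_iff]
    intro x
    constructor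
    · intro hx; exact hS.conj_mem k hkD.1 x hx
    · intro hx
      have h := hS.conj_mem k⁻¹ (Subgroup.inv_mem _ hkD.1) _ hx
      have e : k⁻¹ * (k * x * k⁻¹) * k⁻¹⁻¹ = x := by group
      rwa [e] at h
  obtain ⟨φ, hφdef⟩ : ∃ φ : MulAut Q, φ = Q.normalizerMonoidHom ⟨k, hkN⟩ := ⟨_, rfl⟩
  have hφ_apply : ∀ x : Q, ((φ x : Q) : G) = k * x * k⁻¹ := by
    intro x; rw [hφdef]; rfl
  have hbot := S1128.result hS h2 k hk hk1
  have hfpf : MonoidHom.FixedPointFree ((φ : Q ≃* Q) : Q →* Q) := by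
    intro x hx
    have hx' : ((φ x : Q) : G) = x := congrArg Subtype.val hx
    rw [hφ_apply] at hx'
    have hmem : (x : G) ∈ Q ⊓ Subgroup.centralizer {k} := by
      refine ⟨x.2, ?_⟩
      show (x : G) ∈ Subgroup.centralizer {k}
      rw [Subgroup.mem_centralizer_iff]
      intro h hh
      rw [Set.mem_singleton_iff] at hh
      rw [hh]
      calc k * (x : G) = (k * x * k⁻¹) * k := by group
        _ = x * k := by rw [hx']
    rw [hbot, Subgroup.mem_bot] at hmem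
    exact Subtype.ext hmem
  have hQnt : Nontrivial Q := by
    rw [← Finite.one_lt_card_iff_nontrivial]
    have hpos : 0 < Nat.card Q := Nat.card_pos
    obtain ⟨m, hm⟩ := hS.even_card
    omega
  obtain ⟨x0, hx0⟩ := exists_ne (1 : Q)
  have hφ1 : φ ≠ 1 := by
    intro h
    apply hx0
    apply hfpf x0
    rw [h]; rfl
  haveI : Fact p.Prime := ⟨hp⟩
  have hφp : φ ^ p = 1 := by
    rw [hφdef, ← map_pow]
    have : (⟨k, hkN⟩ : Subgroup.normalizer (Q : Set G)) ^ p = 1 := by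
      apply Subtype.ext
      rw [Subgroup.coe_pow]
      show k ^ p = 1
      rw [← hord]; exact pow_orderOf_eq_one k
    rw [this, map_one]
  have hordφ : orderOf φ = p := orderOf_eq_prime hφp hφ1
  exact S0033.result φ hfpf p hp hordφ

end Cfsg.Agent.S1129
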