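import Mathlib
import Cfsg.Statements.S1130
import Cfsg.Agent.S1129
import Cfsg.Agent.Lib.Lead.NilpotentCoprime

set_option autoImplicit false
open Cfsg

namespace Cfsg.Agent.S1130

open Cfsg.Agent.Lib.Helper4.RankOne Cfsg.Agent.Lib.Helper4.RankOne2 MulAction

/-- A finite nilpotent group of even order has a central involution. -/
theorem exists_central_invol (N : Type*) [Group N] [Finite N] [hN : Group.IsNilpotent N]
    (h : Even (Nat.card N)) : ∃ z : N, z ≠ 1 ∧ z * z = 1 ∧ ∀ x : N, z * x = x * z := by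
  haveI : Fact (Nat.Prime 2) := ⟨Nat.prime_two⟩
  obtain ⟨P⟩ : Nonempty (Sylow 2 N) := inferInstance
  haveI hPn : (P : Subgroup N).Normal := inferInstance
  have hPbot : (P : Subgroup N) ≠ ⊥ := P.ne_bot_of_dvd_card (even_iff_two_dvd.mp h)
  haveI : Nontrivial (P : Subgroup N) := (Subgroup.nontrivial_iff_ne_bot _).mpr hPbot
  have hP2 : IsPGroup 2 (P : Subgroup N) := P.isPGroup'
  haveI hcn : Nontrivial (Subgroup.center (P : Subgroup N)) := hP2.center_nontrivial
  have hc2 : IsPGroup 2 (Subgroup.center (P : Subgroup N)) := hP2.to_subgroup _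
  have hdvd : 2 ∣ Nat.card (Subgroup.center (P : Subgroup N)) := by
    rcases hc2.card_eq_or_dvd with h1 | h1
    · exfalso
      have := Finite.one_lt_card_iff_nontrivial.mpr hcn
      omega
    · exact h1
  obtain ⟨z, hz⟩ := exists_prime_orderOf_dvd_card' 2 hdvd
  have hzc : ∀ y : (P : Subgroup N), y * (z : (P : Subgroup N)) = (z : (P : Subgroup N)) * y :=
    fun y => Subgroup.mem_center_iff.mp z.2 y
  obtain ⟨w, hw⟩ : ∃ w : N, w = ((z : (P : Subgroup N)) : N) := ⟨_, rfl⟩
  have hw2 : orderOf w = 2 := by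
    rw [hw, Subgroup.orderOf_coe, Subgroup.orderOf_coe, hz]
  have hwP : ∀ y ∈ (P : Subgroup N), w * y = y * w := by
    intro y hy
    have h1 := hzc ⟨y, hy⟩
    have h2 := congrArg Subtype.val h1
    rw [hw]
    exact h2.symm
  refine ⟨w, ?_, ?_, ?_⟩
  · intro h1; rw [h1, orderOf_one] at hw2; omega
  · rw [← pow_two, ← hw2]; exact pow_orderOf_eq_one w
  · intro x
    obtain ⟨m, hm⟩ : ∃ m, m = (P : Subgroup N).index := ⟨_, rfl⟩
    obtain ⟨n, hn⟩ := IsPGroup.iff_card.mp hP2
    have hmodd : ¬ 2 ∣ m := by rw [hm]; exact P.not_dvd_index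
    have hxm : x ^ m ∈ (P : Subgroup N) := by
      rw [hm, ← QuotientGroup.eq_one_iff, QuotientGroup.mk_pow, Subgroup.index_eq_card]
      exact pow_card_eq_one'
    have hx2 : (x ^ 2 ^ n) ^ m = 1 := by
      rw [← pow_mul, mul_comm, pow_mul]
      have h3 := pow_card_eq_one' (G := (P : Subgroup N)) (x := ⟨x ^ m, hxm⟩)
      rw [hn] at h3
      exact congrArg Subtype.val h3
    have hc1 : w * x ^ m = x ^ m * w := hwP _ hxm
    have h2m : Nat.Coprime 2 m := (Nat.prime_two.coprime_iff_not_dvd).mpr hmodd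
    have hc2' : w * x ^ 2 ^ n = x ^ 2 ^ n * w := by
      apply Cfsg.Agent.Lib.Lead.NilpotentCoprime.commute_of_coprime N inferInstance
      rw [hw2]
      have hd : orderOf (x ^ 2 ^ n) ∣ m := orderOf_dvd_of_pow_eq_one hx2
      exact Nat.Coprime.coprime_dvd_right hd h2m
    have hcop : Nat.gcd m (2 ^ n) = 1 := Nat.Coprime.pow_right n h2m.symm
    have hb := Nat.gcd_eq_gcd_ab m (2 ^ n)
    rw [hcop] at hb
    have hxe : x = (x ^ m) ^ (Nat.gcdA m (2 ^ n)) * (x ^ 2 ^ n) ^ (Nat.gcdB m (2 ^ n)) := by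
      rw [← zpow_natCast x m, ← zpow_natCast x (2 ^ n), ← zpow_mul, ← zpow_mul, ← zpow_add, ← hb]
      simp
    have hC1 : Commute w (x ^ m) := hc1
    have hC2 : Commute w (x ^ 2 ^ n) := hc2'
    have hC : Commute w x := by
      rw [hxe]
      exact (hC1.zpow_right _).mul_right (hC2.zpow_right _)
    exact hC

/-- In the rank-one set-up (`G` finite and doubly transitive on `Ω`, `t` an involution moving `a`, `Q` normal in `G_a` with `G_a = Q D`, `Q ⊓ D = 1` for the two-point stabiliser `D = G_a ⊓ G_{t • a}`, `|Q|` even, `|D|` odd), with the action faithful and `G` containing two distinct commuting involutions: the involutions of `G_a` lie in `Z(Q)`, and together with `1` they are closed under multiplication (so form an elementary abelian 2-subgroup). -/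
theorem result {G Ω : Type*} [Group G] [Finite G] [MulAction G Ω] [FaithfulSMul G Ω] {a : Ω} {t : G} {Q : Subgroup G}
    (hS : Cfsg.IsRankOneSetup G Ω a t Q)
    (h2 : ∃ x y : G, x ≠ 1 ∧ y ≠ 1 ∧ x ≠ y ∧ x * x = 1 ∧ y * y = 1 ∧ x * y = y * x) :
    (∀ s ∈ Cfsg.involutionsIn (MulAction.stabilizer G a : Set G), s ∈ Q ∧ ∀ x ∈ Q, s * x = x * s) ∧
      ∀ s ∈ Cfsg.involutionsIn (MulAction.stabilizer G a : Set G), ∀ s' ∈ Cfsg.involutionsIn (MulAction.stabilizer G a : Set G),
        s * s' = 1 ∨ s * s' ∈ Cfsg.involutionsIn (MulAction.stabilizer G a : Set G) := by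
  haveI hnil : Group.IsNilpotent Q := S1129.result hS h2
  obtain ⟨z, hz1, hz2, hzc⟩ := exists_central_invol Q hS.even_card
  have hzI : (z : G) ∈ Inv G a := by
    refine ⟨hS.le z.2, ?_, ?_⟩
    · intro h; exact hz1 (Subtype.ext h)
    · exact congrArg Subtype.val hz2
  have hA : ∀ s ∈ Cfsg.involutionsIn (MulAction.stabilizer G a : Set G), s ∈ Q ∧ ∀ x ∈ Q, s * x = x * s := by
    intro s hs
    refine ⟨S1121.invol_mem_Q hS hs.1 hs.2.2, ?_⟩
    intro x hx
    obtain ⟨k, hk, hks⟩ := (S1122.result hS).2 (z : G) hzI s hs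
    have hkD := ((mem_KK_iff hS k).mp hk).1
    have hkx : k * x * k⁻¹ ∈ Q := hS.conj_mem k hkD.1 x hx
    have h1 := congrArg Subtype.val (hzc ⟨k * x * k⁻¹, hkx⟩)
    have h1' : (z : G) * (k * x * k⁻¹) = (k * x * k⁻¹) * z := h1
    rw [← hks]
    calc k⁻¹ * (z : G) * k * x = k⁻¹ * ((z : G) * (k * x * k⁻¹)) * k := by group
      _ = k⁻¹ * ((k * x * k⁻¹) * z) * k := by rw [h1']
      _ = x * (k⁻¹ * (z : G) * k) := by group
  refine ⟨hA, ?_⟩
  intro s hs s' hs'
  by_cases h1 : s * s' = 1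
  · left; exact h1
  · right
    refine ⟨Subgroup.mul_mem _ hs.1 hs'.1, h1, ?_⟩
    have hc := (hA s hs).2 s' (hA s' hs').1
    calc s * s' * (s * s') = s * (s' * s) * s' := by group
      _ = s * (s * s') * s' := by rw [hc]
      _ = (s * s) * (s' * s') := by group
      _ = 1 := by rw [hs.2.2, hs'.2.2, one_mul]

end Cfsg.Agent.S1130
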