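import Mathlib
import Cfsg.Statements.S1134
import Cfsg.Agent.S1125
import Cfsg.Agent.S1124
import Cfsg.Agent.Lib.Helper4.RankOne2

set_option autoImplicit false
open Cfsg

namespace Cfsg.Agent.S1134

open Cfsg.Agent.Lib.Helper4.RankOne Cfsg.Agent.Lib.Helper4.RankOne2 MulAction

/-- In the rank-one set-up (`G` finite and doubly transitive on `Ω`, `t` an involution moving `a`, `Q` normal in `G_a` with `G_a = Q D`, `Q ⊓ D = 1` for the two-point stabiliser `D = G_a ⊓ G_{t • a}`, `|Q|` even, `|D|` odd), with the action faithful and `G` containing two distinct commuting involutions, with `V = C_D(t)`: subsets of `V` conjugate in `G` are conjugate in `V`. -/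
theorem result {G Ω : Type*} [Group G] [Finite G] [MulAction G Ω] [FaithfulSMul G Ω] {a : Ω} {t : G} {Q : Subgroup G}
    (hS : Cfsg.IsRankOneSetup G Ω a t Q)
    (h2 : ∃ x y : G, x ≠ 1 ∧ y ≠ 1 ∧ x ≠ y ∧ x * x = 1 ∧ y * y = 1 ∧ x * y = y * x)
    (X : Set G) (hX : X ⊆ (((MulAction.stabilizer G a ⊓ MulAction.stabilizer G (t • a)) ⊓ Subgroup.centralizer {t} : Subgroup G) : Set G)) (g : G)
    (hY : (fun x => g * x * g⁻¹) '' X ⊆ (((MulAction.stabilizer G a ⊓ MulAction.stabilizer G (t • a)) ⊓ Subgroup.centralizer {t} : Subgroup G) : Set G)) :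
    ∃ v ∈ (MulAction.stabilizer G a ⊓ MulAction.stabilizer G (t • a)) ⊓ Subgroup.centralizer {t}, (fun x => v * x * v⁻¹) '' X = (fun x => g * x * g⁻¹) '' X := by
  have hXD : ∀ x ∈ X, x ∈ DD G a t := fun x hx => (hX hx).1
  have hXt : ∀ x ∈ X, t * x = x * t := fun x hx =>
    (Subgroup.mem_centralizer_iff.mp (hX hx).2) t rfl
  have hYD : ∀ x ∈ X, g * x * g⁻¹ ∈ DD G a t := fun x hx => (hY ⟨x, hx, rfl⟩).1
  have hYt : ∀ x ∈ X, t * (g * x * g⁻¹) = (g * x * g⁻¹) * t := fun x hx =>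
    (Subgroup.mem_centralizer_iff.mp (hY ⟨x, hx, rfl⟩).2) t rfl
  -- Step 1
  have hstep1 : ∃ d ∈ DD G a t, ∀ x ∈ X, d * x * d⁻¹ = g * x * g⁻¹ := by
    have hfa : ∀ x ∈ X, x • a = a := fun x hx => (hXD x hx).1
    have hfta : ∀ x ∈ X, x • t • a = t • a := fun x hx => (hXD x hx).2
    have hfga : ∀ x ∈ X, x • g⁻¹ • a = g⁻¹ • a := by
      intro x hx
      have h' : (g * x * g⁻¹) • a = a := (hYD x hx).1
      apply MulAction.injective g
      show g • x • g⁻¹ • a = g • g⁻¹ • a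
      rw [smul_inv_smul, ← mul_smul, ← mul_smul]; exact h'
    have hfgta : ∀ x ∈ X, x • g⁻¹ • t • a = g⁻¹ • t • a := by
      intro x hx
      have h' : (g * x * g⁻¹) • t • a = t • a := (hYD x hx).2
      apply MulAction.injective g
      show g • x • g⁻¹ • t • a = g • g⁻¹ • t • a
      rw [smul_inv_smul, ← mul_smul, ← mul_smul]; exact h'
    by_cases h3 : ∃ e : Ω, e ≠ a ∧ e ≠ t • a ∧ ∀ x ∈ X, x • e = e
    · obtain ⟨e, hea, heta, hfe⟩ := h3
      have hXD' : X ⊆ ((stabilizer G a ⊓ stabilizer G (t • a) : Subgroup G) : Set G) :=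
        fun x hx => hXD x hx
      obtain ⟨h2t, -, -⟩ := S1125.result hS X hXD' ⟨a, t • a, e, (ta_ne hS).symm, hea.symm, heta.symm,
        fun x hx => ⟨hfa x hx, hfta x hx, hfe x hx⟩⟩
      obtain ⟨c, hc, hca, hcta⟩ := h2t a (t • a) (g⁻¹ • a) (g⁻¹ • t • a)
        (fun x hx => ⟨hfa x hx, hfta x hx, hfga x hx, hfgta x hx⟩) (ta_ne hS).symm
        (fun h => (ta_ne hS).symm (MulAction.injective g⁻¹ h))
      refine ⟨g * c, ?_, ?_⟩
      · rw [mem_D_iff]; constructor
        · rw [mul_smul, hca, smul_inv_smul]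
        · rw [mul_smul, hcta, smul_inv_smul]
      · intro x hx
        have hcx : x * c = c * x := (Subgroup.mem_centralizer_iff.mp hc) x hx
        calc g * c * x * (g * c)⁻¹ = g * (c * x) * c⁻¹ * g⁻¹ := by group
          _ = g * (x * c) * c⁻¹ * g⁻¹ := by rw [hcx]
          _ = g * x * g⁻¹ := by group
    · push Not at h3
      have hcl : ∀ e : Ω, (∀ x ∈ X, x • e = e) → e = a ∨ e = t • a := by
        intro e he
        by_contra hcon
        push Not at hcon
        obtain ⟨x, hx, hxe⟩ := h3 e hcon.1 hcon.2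
        exact hxe (he x hx)
      rcases hcl _ hfga with h1 | h1
      · rcases hcl _ hfgta with h2' | h2'
        · exfalso
          apply ta_ne hS
          apply MulAction.injective g⁻¹
          show g⁻¹ • t • a = g⁻¹ • a
          rw [h2', h1]
        · refine ⟨g, ?_, fun x _ => rfl⟩
          rw [mem_D_iff]
          exact ⟨(inv_smul_eq_iff.mp h1).symm, (inv_smul_eq_iff.mp h2').symm⟩
      · rcases hcl _ hfgta with h2' | h2'
        · refine ⟨g * t, ?_, ?_⟩
          · rw [mem_D_iff]; constructor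
            · rw [mul_smul]; exact (inv_smul_eq_iff.mp h1).symm
            · rw [mul_smul, tta hS]; exact (inv_smul_eq_iff.mp h2').symm
          · intro x hx
            have h5 := hXt x hx
            calc g * t * x * (g * t)⁻¹ = g * (t * x) * t⁻¹ * g⁻¹ := by group
              _ = g * (x * t) * t⁻¹ * g⁻¹ := by rw [h5]
              _ = g * x * g⁻¹ := by group
        · exfalso
          apply ta_ne hS
          apply MulAction.injective g⁻¹
          show g⁻¹ • t • a = g⁻¹ • a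
          rw [h2', h1]
  -- Step 2
  obtain ⟨d, hd, hdx⟩ := hstep1
  haveI : Fact (Nat.Prime 2) := ⟨Nat.prime_two⟩
  have ht2 : orderOf t = 2 := orderOf_eq_prime (by rw [pow_two]; exact hS.mul_self) hS.ne_one
  have hnorm : ∀ x ∈ DD G a t, t * x * t⁻¹ ∈ DD G a t := by
    intro x hx; rw [t_inv hS]; exact t_conj_D hS hx
  obtain ⟨hdec, -, -⟩ := S1124.result t ht2 (DD G a t) hS.odd_card hnorm
  obtain ⟨⟨y, z⟩, hp, -⟩ := hdec d hd
  have hy : y ∈ DD G a t ⊓ Subgroup.centralizer {t} := hp.1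
  have hz : z ∈ Cfsg.invertedBy (DD G a t) t := hp.2.1
  have hyz : d = y * z := hp.2.2
  refine ⟨y, hy, ?_⟩
  apply Set.image_congr
  intro x hx
  show y * x * y⁻¹ = g * x * g⁻¹
  have hyt : t * y = y * t := (Subgroup.mem_centralizer_iff.mp hy.2) t rfl
  have hty' : t * y⁻¹ = y⁻¹ * t := by
    have h0 : Commute t y := hyt
    exact h0.inv_right
  have hzD : z ∈ DD G a t := hz.1
  have hzt : t * z * t⁻¹ = z⁻¹ := hz.2
  have hxt := hXt x hx
  have hcomm := hYt x hx
  rw [← hdx x hx, hyz] at hcomm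
  have htz : t * z = z⁻¹ * t := by
    calc t * z = (t * z * t⁻¹) * t := by group
      _ = z⁻¹ * t := by rw [hzt]
  have htz' : t * z⁻¹ = z * t := by
    calc t * z⁻¹ = (t * z * t⁻¹)⁻¹ * t := by group
      _ = z * t := by rw [hzt, inv_inv]
  have h1 : t * (y * z * x * (y * z)⁻¹) = (y * z⁻¹ * x * z * y⁻¹) * t := by
    calc t * (y * z * x * (y * z)⁻¹) = (t * y) * z * x * z⁻¹ * y⁻¹ := by group
      _ = y * (t * z) * x * z⁻¹ * y⁻¹ := by rw [hyt]; group
      _ = y * z⁻¹ * (t * x) * z⁻¹ * y⁻¹ := by rw [htz]; group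
      _ = y * z⁻¹ * x * (t * z⁻¹) * y⁻¹ := by rw [hxt]; group
      _ = y * z⁻¹ * x * z * (t * y⁻¹) := by rw [htz']; group
      _ = (y * z⁻¹ * x * z * y⁻¹) * t := by rw [hty']; group
  rw [h1] at hcomm
  have h2' : y * z⁻¹ * x * z * y⁻¹ = y * z * x * (y * z)⁻¹ := mul_right_cancel hcomm
  have h3 : z⁻¹ * x * z = z * x * z⁻¹ := by
    have h0 : z⁻¹ * x * z = y⁻¹ * (y * z⁻¹ * x * z * y⁻¹) * y := by group
    rw [h0, h2']; group
  have h4 : (x * z * x⁻¹) * (x * z * x⁻¹) = z * z := by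
    calc (x * z * x⁻¹) * (x * z * x⁻¹) = z * (z⁻¹ * x * z) * z * x⁻¹ := by group
      _ = z * (z * x * z⁻¹) * z * x⁻¹ := by rw [h3]
      _ = z * z := by group
  have hxD := hXD x hx
  have h5 : x * z * x⁻¹ = z :=
    sq_inj hS (Subgroup.mul_mem _ (Subgroup.mul_mem _ hxD hzD) (Subgroup.inv_mem _ hxD)) hzD h4
  have h6 : z * x * z⁻¹ = x := by
    calc z * x * z⁻¹ = (x * z * x⁻¹) * x * z⁻¹ := by rw [h5]
      _ = x := by group
  rw [← hdx x hx, hyz]
  calc y * x * y⁻¹ = y * (z * x * z⁻¹) * y⁻¹ := by rw [h6]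
    _ = y * z * x * (y * z)⁻¹ := by group

end Cfsg.Agent.S1134
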