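import Mathlib
import Cfsg.Statements.S1135
import Cfsg.Agent.S1130

set_option autoImplicit false
open Cfsg

namespace Cfsg.Agent.S1135

open Cfsg.Agent.Lib.Helper4.RankOne Cfsg.Agent.Lib.Helper4.RankOne2 MulAction

section general

variable {M : Type*} [Group M]

theorem conj_invol (g : M) {v : M} (hv1 : v ≠ 1) (hv2 : v * v = 1) :
    g * v * g⁻¹ ≠ 1 ∧ (g * v * g⁻¹) * (g * v * g⁻¹) = 1 := by
  constructor
  · intro h
    apply hv1
    have : v = g⁻¹ * (g * v * g⁻¹) * g := by group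
    rw [this, h]; group
  · have : (g * v * g⁻¹) * (g * v * g⁻¹) = g * (v * v) * g⁻¹ := by group
    rw [this, hv2]; group

theorem invol_conj_pow {u y : M} (hu2 : u * u = 1) (hy : u * y * u = y⁻¹) (n : ℕ) :
    u * y ^ n * u = (y ^ n)⁻¹ := by
  have hui : u⁻¹ = u := inv_eq_of_mul_eq_one_left hu2
  have h1 : u * y ^ n * u⁻¹ = (u * y * u⁻¹) ^ n := (conj_pow).symm
  rw [hui, hy, inv_pow] at h1
  exact h1

theorem conj_of_inverts {u f : M} (hu2 : u * u = 1) (hf : u * f * u = f⁻¹) :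
    f * u * f⁻¹ = f * f * u := by
  have hui : u⁻¹ = u := inv_eq_of_mul_eq_one_left hu2
  have h1 : u * f⁻¹ * u = f := by
    have : u * f⁻¹ * u = (u⁻¹ * f * u⁻¹)⁻¹ := by group
    rw [this, hui, hf, inv_inv]
  calc f * u * f⁻¹ = f * (u * f⁻¹ * u) * u⁻¹ := by group
    _ = f * f * u := by rw [h1, hui]

/-- If an involution `s` normalises a subgroup `C` containing an involution, then `C` contains
an involution commuting with `s`. -/
theorem exists_invol_commute [Finite M] (C : Subgroup M) {s w : M}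
    (hs2 : s * s = 1) (hC : ∀ c ∈ C, s * c * s ∈ C) (hw : w ∈ C) (hw1 : w ≠ 1) (hw2 : w * w = 1) :
    ∃ z ∈ C, z ≠ 1 ∧ z * z = 1 ∧ s * z = z * s := by
  have hsi : s⁻¹ = s := inv_eq_of_mul_eq_one_left hs2
  have hwi : w⁻¹ = w := inv_eq_of_mul_eq_one_left hw2
  obtain ⟨w', hw'⟩ : ∃ w', w' = s * w * s := ⟨_, rfl⟩
  have hw'C : w' ∈ C := by rw [hw']; exact hC w hw
  have hw'2 : w' * w' = 1 := by
    rw [hw']
    calc s * w * s * (s * w * s) = s * w * (s * s) * w * s := by group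
      _ = 1 := by rw [hs2, mul_one, mul_assoc s w w, hw2, mul_one, hs2]
  have hw'i : w'⁻¹ = w' := inv_eq_of_mul_eq_one_left hw'2
  obtain ⟨y, hy⟩ : ∃ y, y = w * w' := ⟨_, rfl⟩
  have hyC : y ∈ C := by rw [hy]; exact C.mul_mem hw hw'C
  have hyi : y⁻¹ = w' * w := by rw [hy, mul_inv_rev, hwi, hw'i]
  have hsy : s * y * s = y⁻¹ := by
    rw [hyi, hy, hw']
    calc s * (w * (s * w * s)) * s = s * w * s * w * (s * s) := by group
      _ = s * w * s * w := by rw [hs2, mul_one]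
  have hwy : w * y * w = y⁻¹ := by
    rw [hyi, hy]
    calc w * (w * w') * w = (w * w) * w' * w := by group
      _ = w' * w := by rw [hw2, one_mul]
  rcases Nat.even_or_odd (orderOf y) with hev | hod
  · obtain ⟨j, hj⟩ := hev
    have hpos : 0 < orderOf y := orderOf_pos y
    have hj0 : j ≠ 0 := by omega
    have hjj : y ^ j * y ^ j = 1 := by
      rw [← pow_add, ← hj]; exact pow_orderOf_eq_one y
    refine ⟨y ^ j, C.pow_mem hyC j, pow_ne_one_of_lt_orderOf hj0 (by omega), hjj, ?_⟩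
    have h1 := invol_conj_pow hs2 hsy j
    have h2 : (y ^ j)⁻¹ = y ^ j := inv_eq_of_mul_eq_one_left hjj
    rw [h2] at h1
    calc s * y ^ j = (s * y ^ j * s) * s⁻¹ := by group
      _ = y ^ j * s := by rw [h1, hsi]
  · obtain ⟨j, hj⟩ := hod
    have hk' : y ^ (j + 1 + (j + 1)) = y := by
      have : j + 1 + (j + 1) = orderOf y + 1 := by omega
      rw [this, pow_succ, pow_orderOf_eq_one, one_mul]
    have hk : y ^ (j + 1) * y ^ (j + 1) = y := by
      rw [← pow_add]; exact hk'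
    obtain ⟨e, he⟩ : ∃ e, e = y ^ (j + 1) := ⟨_, rfl⟩
    obtain ⟨f, hf⟩ : ∃ f, f = y ^ ((j + 1) * (j + 1)) := ⟨_, rfl⟩
    have hff : f * f = e := by
      rw [hf, he, ← pow_add,
        show (j + 1) * (j + 1) + (j + 1) * (j + 1) = (j + 1 + (j + 1)) * (j + 1) by ring,
        pow_mul, hk']
    have hee : e * e = y := by rw [he]; exact hk
    have hfC : f ∈ C := by rw [hf]; exact C.pow_mem hyC _
    have hsf : s * f * s = f⁻¹ := by rw [hf]; exact invol_conj_pow hs2 hsy _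
    have hwe : w * e * w = e⁻¹ := by rw [he]; exact invol_conj_pow hw2 hwy _
    have h1 : e⁻¹ * w * e = w' := by
      have hwe' : w * e⁻¹ * w = (e⁻¹)⁻¹ := by
        have : w * e⁻¹ * w = (w⁻¹ * e * w⁻¹)⁻¹ := by group
        rw [this, hwi, hwe]
      have h2 := conj_of_inverts hw2 hwe'
      rw [inv_inv] at h2
      rw [h2]
      have : e⁻¹ * e⁻¹ = y⁻¹ := by rw [← hee, mul_inv_rev]
      rw [this, hyi, mul_assoc, hw2, mul_one]
    have h3 : f * s * f⁻¹ = e * s := by rw [conj_of_inverts hs2 hsf, hff]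
    have h4 : (e * s) * w * (e * s)⁻¹ = w := by
      calc (e * s) * w * (e * s)⁻¹ = e * (s * w * s⁻¹) * e⁻¹ := by group
        _ = e * (e⁻¹ * w * e) * e⁻¹ := by rw [hsi, ← hw', ← h1]
        _ = w := by group
    refine ⟨f⁻¹ * w * f, C.mul_mem (C.mul_mem (C.inv_mem hfC) hw) hfC, ?_, ?_, ?_⟩
    · intro h
      apply hw1
      have : w = f * (f⁻¹ * w * f) * f⁻¹ := by group
      rw [this, h]; group
    · calc f⁻¹ * w * f * (f⁻¹ * w * f) = f⁻¹ * (w * w) * f := by group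
        _ = 1 := by rw [hw2]; group
    · rw [← h3] at h4
      have h5 : s * (f⁻¹ * w * f) * s⁻¹ = f⁻¹ * w * f := by
        calc s * (f⁻¹ * w * f) * s⁻¹ = f⁻¹ * (f * s * f⁻¹ * w * (f * s * f⁻¹)⁻¹) * f := by group
          _ = f⁻¹ * w * f := by rw [h4]
      calc s * (f⁻¹ * w * f) = (s * (f⁻¹ * w * f) * s⁻¹) * s := by group
        _ = f⁻¹ * w * f * s := by rw [h5]

end general

section rankone

variable {G Ω : Type*} [Group G] [Finite G] [MulAction G Ω] {a : Ω} {t : G} {Q : Subgroup G}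

theorem step1 [FaithfulSMul G Ω] (hS : Cfsg.IsRankOneSetup G Ω a t Q)
    (h2 : ∃ x y : G, x ≠ 1 ∧ y ≠ 1 ∧ x ≠ y ∧ x * x = 1 ∧ y * y = 1 ∧ x * y = y * x)
    (u v : G) (hu1 : u ≠ 1) (hu2 : u * u = 1) (hv1 : v ≠ 1) (hv2 : v * v = 1)
    (hx : (u * v) * (u * v) ≠ 1) :
    ∃ g : G, ∃ u' ∈ Inv G a, g * (u * v) * g⁻¹ = u' * t := by
  obtain ⟨b, hb⟩ := S1121.exists_fixed hS hu1 hu2
  have h2t := hS.two_transitive
  have : IsPretransitive G Ω := MulAction.isPretransitive_of_is_two_pretransitive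
  obtain ⟨g₁, hg₁⟩ := MulAction.exists_smul_eq G b a
  obtain ⟨U, hU⟩ : ∃ U, U = g₁ * u * g₁⁻¹ := ⟨_, rfl⟩
  obtain ⟨V, hV⟩ : ∃ V, V = g₁ * v * g₁⁻¹ := ⟨_, rfl⟩
  obtain ⟨hU1, hU2⟩ : U ≠ 1 ∧ U * U = 1 := by rw [hU]; exact conj_invol g₁ hu1 hu2
  obtain ⟨hV1, hV2⟩ : V ≠ 1 ∧ V * V = 1 := by rw [hV]; exact conj_invol g₁ hv1 hv2
  have hUa : U • a = a := by
    rw [hU, mul_smul, mul_smul, ← hg₁, inv_smul_smul, hb]
  have hUI : U ∈ Inv G a := ⟨mem_stabilizer_iff.mpr hUa, hU1, hU2⟩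
  have hVa : V • a ≠ a := by
    intro h
    have hVI : V ∈ Inv G a := ⟨mem_stabilizer_iff.mpr h, hV1, hV2⟩
    obtain ⟨hA, -⟩ := S1130.result hS h2
    have hc : U * V = V * U := (hA U hUI).2 V (hA V hVI).1
    apply hx
    have e1 : u * v * (u * v) = g₁⁻¹ * (U * V * (U * V)) * g₁ := by rw [hU, hV]; group
    rw [e1]
    have e2 : U * V * (U * V) = 1 := by
      calc U * V * (U * V) = U * (V * U) * V := by group
        _ = U * (U * V) * V := by rw [hc]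
        _ = (U * U) * (V * V) := by group
        _ = 1 := by rw [hU2, hV2, one_mul]
    rw [e2]; group
  obtain ⟨q, hq, hqa⟩ := exists_Q_smul hS hVa
  obtain ⟨V₂, hV₂⟩ : ∃ V₂, V₂ = q⁻¹ * V * q := ⟨_, rfl⟩
  have hV₂a : V₂ • a = t • a := by
    rw [hV₂, mul_smul, mul_smul, Q_fix hS hq, ← hqa, inv_smul_smul]
  have hV₂2 : V₂ * V₂ = 1 := by
    rw [hV₂]
    calc q⁻¹ * V * q * (q⁻¹ * V * q) = q⁻¹ * (V * V) * q := by group
      _ = 1 := by rw [hV2]; group
  have hk := swap_invol hS hV₂a hV₂2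
  obtain ⟨m, hm, hmm⟩ := exists_sqrt hS hk
  have hmD := ((mem_KK_iff hS m).mp hm).1
  have hmt : m * t * m⁻¹ = V₂ := by
    have h1 := conj_t hS (inv_mem_KK hS hm)
    rw [inv_inv] at h1
    rw [h1]
    have : (m⁻¹ * m⁻¹)⁻¹ = m * m := by rw [mul_inv_rev, inv_inv]
    rw [this, hmm, mul_assoc, hS.mul_self, mul_one]
  have hU₂ : q⁻¹ * U * q ∈ Inv G a := conj_mem_Inv hUI (hS.le hq)
  have hU₃ : m⁻¹ * (q⁻¹ * U * q) * m ∈ Inv G a := conj_mem_Inv hU₂ hmD.1
  refine ⟨m⁻¹ * q⁻¹ * g₁, m⁻¹ * (q⁻¹ * U * q) * m, hU₃, ?_⟩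
  have ht : m⁻¹ * V₂ * m = t := by rw [← hmt]; group
  calc m⁻¹ * q⁻¹ * g₁ * (u * v) * (m⁻¹ * q⁻¹ * g₁)⁻¹
      = (m⁻¹ * (q⁻¹ * U * q) * m) * (m⁻¹ * (q⁻¹ * V * q) * m) := by rw [hU, hV]; group
    _ = (m⁻¹ * (q⁻¹ * U * q) * m) * (m⁻¹ * V₂ * m) := by rw [hV₂]
    _ = _ := by rw [ht]

theorem no_invol_centralizer (hS : Cfsg.IsRankOneSetup G Ω a t Q) {s : G} (hs : s ∈ Inv G a)
    (w : G) (hwC : w ∈ Subgroup.centralizer {s * t}) (hw2 : w * w = 1) : w = 1 := by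
  by_contra hw1
  obtain ⟨hsa, hs1, hs2⟩ := hs
  have hsa' : s • a = a := hsa
  obtain ⟨x, hx⟩ : ∃ x, x = s * t := ⟨_, rfl⟩
  rw [← hx] at hwC
  have hti := t_inv hS
  have hsi : s⁻¹ = s := inv_eq_of_mul_eq_one_left hs2
  have hxi : x⁻¹ = t * s := by rw [hx, mul_inv_rev, hti, hsi]
  have hsx : s * x⁻¹ * s = x := by
    rw [hxi, hx]
    calc s * (t * s) * s = s * t * (s * s) := by group
      _ = s * t := by rw [hs2, mul_one]
  have hC : ∀ c ∈ Subgroup.centralizer {x}, s * c * s ∈ Subgroup.centralizer {x} := by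
    intro c hc
    rw [Subgroup.mem_centralizer_iff] at hc ⊢
    intro h hh
    rw [Set.mem_singleton_iff] at hh
    rw [hh]
    have hcx : Commute x c := hc x rfl
    have hcx' : x⁻¹ * c = c * x⁻¹ := hcx.inv_left
    calc x * (s * c * s) = (s * x⁻¹ * s) * (s * c * s) := by rw [hsx]
      _ = s * x⁻¹ * (s * s) * c * s := by group
      _ = s * (x⁻¹ * c) * s := by rw [hs2, mul_one]; group
      _ = s * (c * x⁻¹) * s := by rw [hcx']
      _ = s * c * (s * s) * x⁻¹ * s := by rw [hs2, mul_one]; group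
      _ = (s * c * s) * (s * x⁻¹ * s) := by group
      _ = (s * c * s) * x := by rw [hsx]
  obtain ⟨z, hzC, hz1, hz2, hsz⟩ :=
    exists_invol_commute (Subgroup.centralizer {x}) hs2 hC hwC hw1 hw2
  have hza : z • a = a := by
    apply S1121.unique_fixed hS hs1 hs2 _ hsa'
    rw [← mul_smul, hsz, mul_smul, hsa']
  have hzx : x * z = z * x := (Subgroup.mem_centralizer_iff.mp hzC) x rfl
  have hxa : x • a = a := by
    apply S1121.unique_fixed hS hz1 hz2 _ hza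
    rw [← mul_smul, ← hzx, mul_smul, hza]
  apply ta_ne hS
  rw [hx, mul_smul] at hxa
  have h5 : t • a = s⁻¹ • a := by rw [eq_inv_smul_iff]; exact hxa
  rw [h5, hsi]; exact hsa'

end rankone

/-- In the rank-one set-up (`G` finite and doubly transitive on `Ω`, `t` an involution moving `a`, `Q` normal in `G_a` with `G_a = Q D`, `Q ⊓ D = 1` for the two-point stabiliser `D = G_a ⊓ G_{t • a}`, `|Q|` even, `|D|` odd), with the action faithful and `G` containing two distinct commuting involutions: if `x = u v` with `u, v` involutions and `x² ≠ 1`, then `x` is conjugate to `u' t` for some involution `u'` of `G_a`, and `|C_G(x)|` is odd. -/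
theorem result {G Ω : Type*} [Group G] [Finite G] [MulAction G Ω] [FaithfulSMul G Ω] {a : Ω} {t : G} {Q : Subgroup G}
    (hS : Cfsg.IsRankOneSetup G Ω a t Q)
    (h2 : ∃ x y : G, x ≠ 1 ∧ y ≠ 1 ∧ x ≠ y ∧ x * x = 1 ∧ y * y = 1 ∧ x * y = y * x)
    (u v : G) (hu1 : u ≠ 1) (hu2 : u * u = 1) (hv1 : v ≠ 1) (hv2 : v * v = 1) (hx : (u * v) * (u * v) ≠ 1) :
    (∃ g : G, ∃ u' ∈ Cfsg.involutionsIn (MulAction.stabilizer G a : Set G), g * (u * v) * g⁻¹ = u' * t) ∧
      Odd (Nat.card ↥(Subgroup.centralizer {u * v})) := by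
  obtain ⟨g, u', hu', hg⟩ := step1 hS h2 u v hu1 hu2 hv1 hv2 hx
  refine ⟨⟨g, u', hu', hg⟩, ?_⟩
  by_contra hodd
  rw [Nat.not_odd_iff_even] at hodd
  haveI : Fact (Nat.Prime 2) := ⟨Nat.prime_two⟩
  obtain ⟨w, hw⟩ := exists_prime_orderOf_dvd_card' 2 (even_iff_two_dvd.mp hodd)
  have hwG : orderOf (w : G) = 2 := by rw [Subgroup.orderOf_coe]; exact hw
  have hw2 : (w : G) * w = 1 := by rw [← pow_two, ← hwG]; exact pow_orderOf_eq_one _
  have hw1 : (w : G) ≠ 1 := by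
    intro h; rw [h, orderOf_one] at hwG; omega
  have hwc : (u * v) * w = w * (u * v) := (Subgroup.mem_centralizer_iff.mp w.2) (u * v) rfl
  obtain ⟨h1, h2'⟩ := conj_invol g hw1 hw2
  apply h1
  apply no_invol_centralizer hS hu' _ _ h2'
  rw [Subgroup.mem_centralizer_iff]
  intro h hh
  rw [Set.mem_singleton_iff] at hh
  rw [hh, ← hg]
  calc g * (u * v) * g⁻¹ * (g * w * g⁻¹) = g * ((u * v) * w) * g⁻¹ := by group
    _ = g * (w * (u * v)) * g⁻¹ := by rw [hwc]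
    _ = _ := by group

end Cfsg.Agent.S1135
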