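import Mathlib
import Cfsg.Statements.S1137
import Cfsg.Agent.Lib.Lead.Sz2D2

set_option autoImplicit false

open Cfsg

namespace Cfsg.Agent.S1137

theorem result {P : Type*} [Group P] (hP : Cfsg.IsSuzukiTwoGroup P) :
    (∀ x : P, (x ≠ 1 ∧ x * x = 1) ↔ (x ∈ Subgroup.center P ∧ x ≠ 1)) ∧
      ∀ z ∈ Subgroup.center P, z * z = 1 := by
  exact Cfsg.Agent.Lib.Lead.Sz2D.involutions_central hP

end Cfsg.Agent.S1137
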