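import Mathlib
import Cfsg.Statements.S1141
import Cfsg.Agent.Lib.Helper5.SU3Sylow

set_option autoImplicit false
open Cfsg

namespace Cfsg.Agent.S1141

/-- Let `q = 2^n ≥ 4` and `|F| = q²`. A Sylow 2-subgroup `S` of `PSU₃(q)` has order `q³`, its centre has order `q`, and `S` is a Suzuki 2-group. -/
theorem result {F : Type*} [Field F] [Fintype F] {n : ℕ} (hn : 2 ≤ n)
    (hF : Fintype.card F = (2 ^ n) ^ 2) (S : Sylow 2 (Cfsg.PSU 3 F (2 ^ n))) :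
    Nat.card S = (2 ^ n) ^ 3 ∧ Nat.card (Subgroup.center ↥(S : Subgroup (Cfsg.PSU 3 F (2 ^ n)))) = 2 ^ n ∧
      Cfsg.IsSuzukiTwoGroup ↥(S : Subgroup (Cfsg.PSU 3 F (2 ^ n))) := by
  haveI : Fact (Fintype.card F = (2 ^ n) ^ 2) := ⟨hF⟩
  haveI : CharP F 2 := by
    obtain ⟨p, j, hp, hc, hpj⟩ := Cfsg.Agent.Lib.Helper5.Herm.exists_char_pow hF
    have hj : j ≠ 0 := by
      rintro rfl
      rw [pow_zero] at hpj
      have : 2 ≤ 2 ^ n := by
        calc 2 = 2 ^ 1 := by norm_num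
          _ ≤ 2 ^ n := Nat.pow_le_pow_right (by norm_num) (by omega)
      omega
    have h1 : p ∣ 2 ^ n := by rw [hpj]; exact dvd_pow_self p hj
    have h2 : p ∣ 2 := hp.dvd_of_dvd_pow h1
    have h3 : p = 2 := (Nat.prime_dvd_prime_iff_eq hp Nat.prime_two).mp h2
    rw [← h3]; exact hc
  obtain ⟨e⟩ := Cfsg.Agent.Lib.Helper5.SU3Sylow.exists_equiv (F := F) (q := 2 ^ n) (n := n)
    (by omega) rfl S
  refine ⟨?_, ?_, ?_⟩
  · rw [Nat.card_congr e.toEquiv, Cfsg.Agent.Lib.Helper5.SuzukiModel.card_M]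
  · rw [Nat.card_congr (Subgroup.centerCongr e).toEquiv,
      Cfsg.Agent.Lib.Helper5.SuzukiModel.card_center]
  · exact Cfsg.Agent.Lib.Helper5.SU3Sylow.isSuzukiTwoGroup_of_equiv e.symm
      (Cfsg.Agent.Lib.Helper5.SuzukiModel.isSuzukiTwoGroup hn rfl)

end Cfsg.Agent.S1141
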