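import Cfsg.Statements.S1142
import Cfsg.Agent.Lib.Helper9.FHMat
import Cfsg.Agent.Lib.Helper9.FHMain

set_option autoImplicit false
open Cfsg

namespace Cfsg.Agent.S1142

/-- Feit–Higman: if a finite group has a (B,N)-pair of rank 2, its Weyl group `N/(B ⊓ N)` has order 4, 6, 8, 12 or 16. -/
theorem result {G : Type*} [Group G] [Finite G] (P : Cfsg.BNPair G)
    (h2 : P.rank = 2) :
    ((P.B ⊓ P.N).subgroupOf P.N).index ∈ ({4, 6, 8, 12, 16} : Set ℕ) := by
  classical
  have : Fintype (G ⧸ P.B) := Fintype.ofFinite _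
  -- the two distinguished generators
  have hcard : Nat.card P.S = 2 := h2
  obtain ⟨x, y, hxy, huniv⟩ := Nat.card_eq_two_iff.mp hcard
  have hne : x.1 ≠ y.1 := fun h => hxy (Subtype.ext h)
  have hS : P.S = {x.1, y.1} := by
    ext s
    constructor
    · intro hs
      have : (⟨s, hs⟩ : P.S) ∈ ({x, y} : Set P.S) := by rw [huniv]; trivial
      rcases this with h | h
      · left; exact congrArg Subtype.val h
      · right; exact congrArg Subtype.val h
    · rintro (rfl | rfl)
      · exact x.2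
      · exact y.2
  have H := Cfsg.Agent.Lib.Helper9.FHBN.dihPair P x.1 y.1 x.2 y.2 hne hS
  have D := Cfsg.Agent.Lib.Helper9.FHMat.fhd P x.1 y.1 x.2 y.2 H
  have hm := Cfsg.Agent.Lib.Helper9.FHMain.main D
  have hidx : ((P.B ⊓ P.N).subgroupOf P.N).index = 2 * orderOf
      (Cfsg.Agent.Lib.Helper9.FHBN.toW P x.1 (P.subset x.2) *
        Cfsg.Agent.Lib.Helper9.FHBN.toW P y.1 (P.subset y.2)) := by
    rw [← H.card_eq, Subgroup.index_eq_card]
    rfl
  rw [hidx]
  simp only [Set.mem_insert_iff, Set.mem_singleton_iff]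
  omega

end Cfsg.Agent.S1142
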