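import Mathlib
import Cfsg.Statements.S1155
import Cfsg.Agent.Lib.Helper5.Ree.SylowTI
import Cfsg.Agent.Lib.Helper5.Ree.Finite

set_option autoImplicit false
open Cfsg

namespace Cfsg.Agent.S1155

/-- In the small Ree group ²G₂(q), q = 3^(2m+1) with m ≥ 1, realised as G¹ inside the Chevalley group G₂ over the field with q elements (θ the 3^m-th power map): distinct Sylow 3-subgroups of `G¹` meet trivially. -/
theorem result {K : Type*} [Field K] [Fintype K] {m : ℕ} (hm : 1 ≤ m) (hK : Fintype.card K = 3 ^ (2 * m + 1))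
    (P Q : Sylow 3 ↥(Cfsg.Lie.twistedG2 K (3 ^ m))) (hPQ : P ≠ Q) : (P : Subgroup ↥(Cfsg.Lie.twistedG2 K (3 ^ m))) ⊓ (Q : Subgroup ↥(Cfsg.Lie.twistedG2 K (3 ^ m))) = ⊥ := by
  haveI := Cfsg.Agent.Lib.Helper5.Ree.charP_of_card hK
  have hq := Cfsg.Agent.Lib.Helper5.Ree.pow_card_eq hK
  have key : ∀ G1 : Subgroup (GL Cfsg.Lie.chevG2.Idx K), G1 = Cfsg.Agent.Lib.Helper5.Ree.fixG m →
      ∀ P Q : Sylow 3 ↥G1, P ≠ Q → (P : Subgroup ↥G1) ⊓ (Q : Subgroup ↥G1) = ⊥ := by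
    rintro G1 rfl P Q hPQ
    exact Cfsg.Agent.Lib.Helper5.Ree.sylow_ti m hq hK P Q hPQ
  exact key _ (Cfsg.Agent.Lib.Helper5.Ree.twisted_eq_fixG m hq) P Q hPQ

end Cfsg.Agent.S1155
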