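import Cfsg.Statements.S1160
import Cfsg.Agent.Lib.Helper1.NormalElementarySq
import Cfsg.Agent.Lib.Helper2.PGroupNormal

set_option autoImplicit false
open Cfsg

namespace Cfsg.Agent.S1160

variable {P E : Type*} [Group P] [AddCommGroup E] [DistribMulAction P E]

/-- the norm operator `v ↦ ∑_{i<p} x^i • v`. -/
def nrm (p : ℕ) (x : P) : E →+ E :=
  ∑ i ∈ Finset.range p, DistribSMul.toAddMonoidHom E (x ^ i)

theorem nrm_apply (p : ℕ) (x : P) (v : E) : nrm p x v = ∑ i ∈ Finset.range p, x ^ i • v := by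
  simp [nrm]

theorem smul_nrm_self {p : ℕ} {x : P} (hx : x ^ p = 1) (v : E) : x • nrm p x v = nrm p x v := by
  rw [nrm_apply, Finset.smul_sum]
  have h1 : ∀ i, x • x ^ i • v = x ^ (i + 1) • v := fun i => by rw [smul_smul, ← pow_succ']
  simp_rw [h1]
  have h2 := Finset.sum_range_succ' (fun i => x ^ i • v) p
  have h3 := Finset.sum_range_succ (fun i => x ^ i • v) p
  rw [h3] at h2
  simp only [hx, pow_zero, one_smul] at h2
  exact (add_right_cancel h2).symm

theorem smul_nrm_comm (p : ℕ) {x g : P} (h : Commute g x) (v : E) :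
    g • nrm p x v = nrm p x (g • v) := by
  rw [nrm_apply, nrm_apply, Finset.smul_sum]
  refine Finset.sum_congr rfl fun i _ => ?_
  rw [smul_smul, smul_smul, (h.pow_right i).eq]

theorem pow_smul_of_fixed {x : P} {v : E} (h : x • v = v) (i : ℕ) : x ^ i • v = v := by
  induction i with
  | zero => simp
  | succ n ih => rw [pow_succ, mul_smul, h, ih]

theorem nrm_of_fixed (p : ℕ) {x : P} {v : E} (h : x • v = v) : nrm p x v = p • v := by
  rw [nrm_apply]
  simp [pow_smul_of_fixed h]

theorem eq_zero_of_nsmul {p q : ℕ} (hpq : Nat.Coprime p q) (hE : ∀ e : E, q • e = 0) {x : E}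
    (h : p • x = 0) : x = 0 := by
  have h1 : addOrderOf x ∣ p := addOrderOf_dvd_of_nsmul_eq_zero h
  have h2 : addOrderOf x ∣ q := addOrderOf_dvd_of_nsmul_eq_zero (hE x)
  have h3 : addOrderOf x ∣ 1 := by
    have := Nat.dvd_gcd h1 h2
    rwa [hpq.gcd_eq_one] at this
  exact AddMonoid.addOrderOf_eq_one_iff.1 (Nat.dvd_one.1 h3)

theorem eq_of_nsmul_eq {p q : ℕ} (hpq : Nat.Coprime p q) (hE : ∀ e : E, q • e = 0) {x y : E}
    (h : p • x = p • y) : x = y := by
  have : p • (x - y) = 0 := by rw [smul_sub, h, sub_self]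
  exact sub_eq_zero.1 (eq_zero_of_nsmul hpq hE this)

/-- F1: a central element of order `p` has no nonzero fixed vector. -/
theorem central_fpf [Finite P] [FaithfulSMul P E] {p q : ℕ} (hpq : Nat.Coprime p q)
    (hE : ∀ e : E, q • e = 0)
    (hconst : ∀ a b : E, a ≠ 0 → b ≠ 0 →
      Nat.card (MulAction.stabilizer P a) = Nat.card (MulAction.stabilizer P b))
    {z : P} (hzc : z ∈ Subgroup.center P) (hz1 : z ≠ 1) (hzp : z ^ p = 1) {w : E}
    (hw : z • w = w) : w = 0 := by
  by_contra hw0
  have hcomm : ∀ g : P, Commute g z := fun g => (Subgroup.mem_center_iff.1 hzc g)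
  obtain ⟨v, hv⟩ : ∃ v : E, z • v ≠ v := by
    by_contra hcon
    push Not at hcon
    exact hz1 (FaithfulSMul.eq_of_smul_eq_smul (α := E) fun v => by rw [hcon v, one_smul])
  set u : E := p • v - nrm p z v with hu
  have hNu : nrm p z u = 0 := by
    rw [hu, map_sub, map_nsmul, nrm_of_fixed p (smul_nrm_self hzp v), sub_self]
  have hu0 : u ≠ 0 := by
    intro h0
    have h1 : p • v = nrm p z v := sub_eq_zero.1 (hu ▸ h0)
    have h2 : z • (p • v) = p • v := by rw [h1, smul_nrm_self hzp]
    rw [smul_comm] at h2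
    exact hv (eq_of_nsmul_eq hpq hE h2)
  have hfix_u : z • u = u → False := by
    intro h
    have := nrm_of_fixed p h
    rw [hNu] at this
    exact hu0 (eq_zero_of_nsmul hpq hE this.symm)
  have huw0 : u + w ≠ 0 := by
    intro h0
    have h1 : u = -w := eq_neg_of_add_eq_zero_left h0
    apply hfix_u
    rw [h1, smul_neg, hw]
  have key : ∀ g : P, g • (u + w) = u + w → g • u = u ∧ g • w = w := by
    intro g hg
    rw [smul_add] at hg
    have h1 := congrArg (nrm p z) hg
    rw [map_add, map_add, ← smul_nrm_comm p (hcomm g), hNu, smul_zero, zero_add, zero_add,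
      nrm_of_fixed p hw] at h1
    have hgw : z • (g • w) = g • w := by
      rw [smul_smul, ← (hcomm g).eq, mul_smul, hw]
    rw [nrm_of_fixed p hgw] at h1
    have h2 : g • w = w := eq_of_nsmul_eq hpq hE h1
    refine ⟨?_, h2⟩
    rw [h2] at hg
    exact add_right_cancel hg
  have hle_u : MulAction.stabilizer P (u + w) ≤ MulAction.stabilizer P u := fun g hg =>
    MulAction.mem_stabilizer_iff.2 (key g (MulAction.mem_stabilizer_iff.1 hg)).1
  have hle_w : MulAction.stabilizer P (u + w) ≤ MulAction.stabilizer P w := fun g hg =>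
    MulAction.mem_stabilizer_iff.2 (key g (MulAction.mem_stabilizer_iff.1 hg)).2
  have e1 : MulAction.stabilizer P (u + w) = MulAction.stabilizer P u :=
    Subgroup.eq_of_le_of_card_ge hle_u (hconst _ _ huw0 hu0).symm.le
  have e2 : MulAction.stabilizer P (u + w) = MulAction.stabilizer P w :=
    Subgroup.eq_of_le_of_card_ge hle_w (hconst _ _ huw0 hw0).symm.le
  have : z ∈ MulAction.stabilizer P u := by
    rw [← e1, e2]; exact MulAction.mem_stabilizer_iff.2 hw
  exact hfix_u (MulAction.mem_stabilizer_iff.1 this)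


/-- Step A: an elementary abelian group of order `p²` cannot act fixed-point-freely. -/
theorem exists_fixed_of_sq [Finite P] [Nontrivial E] {p q : ℕ} [hp : Fact p.Prime]
    (hpq : Nat.Coprime p q) (hE : ∀ e : E, q • e = 0) {A : Subgroup P}
    (hAc : ∀ a ∈ A, ∀ b ∈ A, a * b = b * a) (hAp : ∀ a ∈ A, a ^ p = 1)
    (hcard : Nat.card A = p ^ 2) :
    ∃ x ∈ A, x ≠ 1 ∧ ∃ v : E, v ≠ 0 ∧ x • v = v := by
  by_contra H
  push Not at H
  have hp1 : 1 < p := hp.out.one_lt
  -- a nontrivial element z of A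
  have hAne : A ≠ ⊥ := by
    intro h
    rw [h, Subgroup.card_bot] at hcard
    have : 1 < p ^ 2 := Nat.one_lt_pow (by norm_num) hp1
    omega
  obtain ⟨z, hzA, hz1⟩ : ∃ z ∈ A, z ≠ 1 := by
    obtain ⟨z, hz⟩ := (Subgroup.ne_bot_iff_exists_ne_one).1 hAne
    exact ⟨z.1, z.2, fun h => hz (Subtype.ext h)⟩
  have hoz : orderOf z = p := by
    have h1 : orderOf z ∣ p := orderOf_dvd_of_pow_eq_one (hAp z hzA)
    rcases (Nat.dvd_prime hp.out).1 h1 with h | h
    · exact absurd (orderOf_eq_one_iff.1 h) hz1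
    · exact h
  -- an element s of A outside ⟨z⟩
  obtain ⟨s, hsA, hsz⟩ : ∃ s ∈ A, s ∉ Subgroup.zpowers z := by
    by_contra hcon
    push Not at hcon
    have hle : A ≤ Subgroup.zpowers z := fun a ha => hcon a ha
    have h1 := Subgroup.card_le_of_le hle
    rw [hcard, Nat.card_zpowers, hoz] at h1
    have : p < p ^ 2 := by
      calc p = p ^ 1 := (pow_one p).symm
        _ < p ^ 2 := Nat.pow_lt_pow_right hp1 (by norm_num)
    omega
  obtain ⟨v, hv⟩ := exists_ne (0 : E)
  have hN0 : ∀ x ∈ A, x ≠ 1 → nrm p x v = 0 := by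
    intro x hx hx1
    by_contra hne
    exact H x hx hx1 _ hne (smul_nrm_self (hAp x hx) v)
  have hcomm : Commute s z := hAc s hsA z hzA
  -- the double sum
  have hT : ∑ j ∈ Finset.range p, nrm p (s * z ^ j) v = p • v := by
    have h1 : ∀ j, nrm p (s * z ^ j) v = ∑ i ∈ Finset.range p, s ^ i • (z ^ i) ^ j • v := by
      intro j
      rw [nrm_apply]
      refine Finset.sum_congr rfl fun i _ => ?_
      rw [(hcomm.pow_right j).mul_pow, smul_smul, ← pow_mul, ← pow_mul, mul_comm j i]
    simp_rw [h1]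
    rw [Finset.sum_comm]
    have h2 : ∀ i, ∑ j ∈ Finset.range p, s ^ i • (z ^ i) ^ j • v = s ^ i • nrm p (z ^ i) v := by
      intro i
      rw [nrm_apply, Finset.smul_sum]
    simp_rw [h2]
    rw [Finset.sum_eq_single 0]
    · simp [nrm_apply]
    · intro i hi hi0
      have hzi : z ^ i ≠ 1 := by
        intro h
        have := orderOf_dvd_of_pow_eq_one h
        rw [hoz] at this
        have := Nat.le_of_dvd (Nat.pos_of_ne_zero hi0) this
        have := Finset.mem_range.1 hi
        omega
      rw [hN0 _ (A.pow_mem hzA i) hzi, smul_zero]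
    · intro h
      exact absurd (Finset.mem_range.2 hp.out.pos) h
  have hT0 : ∑ j ∈ Finset.range p, nrm p (s * z ^ j) v = 0 := by
    refine Finset.sum_eq_zero fun j _ => ?_
    refine hN0 _ (A.mul_mem hsA (A.pow_mem hzA j)) ?_
    intro h
    apply hsz
    have : s = (z ^ j)⁻¹ := eq_inv_of_mul_eq_one_left h
    rw [this]
    exact (Subgroup.zpowers z).inv_mem ((Subgroup.zpowers z).pow_mem (Subgroup.mem_zpowers z) j)
  rw [hT0] at hT
  exact hv (eq_zero_of_nsmul hpq hE hT.symm)


theorem mem_zpowers_symm {p : ℕ} [hp : Fact p.Prime] {a b : P} (ha : orderOf a = p)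
    (hb : orderOf b = p) (h : a ∈ Subgroup.zpowers b) : b ∈ Subgroup.zpowers a := by
  have hle : Subgroup.zpowers a ≤ Subgroup.zpowers b := Subgroup.zpowers_le.2 h
  have hfin : Finite (Subgroup.zpowers b) := by
    apply Nat.finite_of_card_ne_zero
    rw [Nat.card_zpowers, hb]; exact hp.out.ne_zero
  have : Subgroup.zpowers a = Subgroup.zpowers b := by
    apply Subgroup.eq_of_le_of_card_ge hle
    rw [Nat.card_zpowers, Nat.card_zpowers, ha, hb]
  rw [this]; exact Subgroup.mem_zpowers b

theorem smul_of_mem_zpowers {a b : P} {w : E} (hb : b ∈ Subgroup.zpowers a) (h : a • w = w) :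
    b • w = w :=
  MulAction.mem_stabilizer_iff.1
    ((Subgroup.zpowers_le.2 (MulAction.mem_stabilizer_iff.2 h)) hb)

theorem orderOf_conj' (g x : P) : orderOf (g * x * g⁻¹) = orderOf x :=
  orderOf_injective (MulAut.conj g).toMonoidHom (MulAut.conj g).injective x

/-- (L'): a vector fixed by two independent elements of `A` is zero. -/
theorem eq_zero_of_fixed_two [Finite P] {p : ℕ} [hp : Fact p.Prime] {A : Subgroup P}
    (hcard : Nat.card A = p ^ 2) {z : P} (hzA : z ∈ A)
    (hF1 : ∀ w : E, z • w = w → w = 0)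
    {y t : P} (hy : y ∈ A) (ht : t ∈ A) (hoy : orderOf y = p) (hty : t ∉ Subgroup.zpowers y)
    {w : E} (h1 : y • w = w) (h2 : t • w = w) : w = 0 := by
  apply hF1
  set S := Subgroup.zpowers y ⊔ Subgroup.zpowers t with hS
  have hSA : S ≤ A := sup_le (Subgroup.zpowers_le.2 hy) (Subgroup.zpowers_le.2 ht)
  have hlt : Subgroup.zpowers y < S := by
    refine lt_of_le_of_ne le_sup_left ?_
    intro h
    apply hty
    rw [h]
    exact (le_sup_right : Subgroup.zpowers t ≤ S) (Subgroup.mem_zpowers t)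
  have hc1 : p < Nat.card S := by
    have h1 := Subgroup.card_le_of_le hlt.le
    have : Nat.card (Subgroup.zpowers y) < Nat.card S := by
      rcases h1.lt_or_eq with h2 | h2
      · exact h2
      · exact absurd (Subgroup.eq_of_le_of_card_ge hlt.le h2.ge) hlt.ne
    rwa [Nat.card_zpowers, hoy] at this
  have hc2 : Nat.card S ∣ p ^ 2 := hcard ▸ Subgroup.card_dvd_of_le hSA
  have hc3 : Nat.card S = p ^ 2 := by
    obtain ⟨k, hk, hk2⟩ := (Nat.dvd_prime_pow hp.out).1 hc2
    have : k = 2 := by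
      by_contra hne
      have hk1 : k ≤ 1 := by omega
      have : p ^ k ≤ p ^ 1 := Nat.pow_le_pow_right hp.out.pos hk1
      rw [pow_one] at this
      omega
    rw [hk2, this]
  have hSeq : S = A := Subgroup.eq_of_le_of_card_ge hSA (by rw [hc3, hcard])
  have hz : z ∈ S := hSeq ▸ hzA
  have hle : S ≤ MulAction.stabilizer P w :=
    sup_le (Subgroup.zpowers_le.2 (MulAction.mem_stabilizer_iff.2 h1))
      (Subgroup.zpowers_le.2 (MulAction.mem_stabilizer_iff.2 h2))
  exact MulAction.mem_stabilizer_iff.1 (hle hz)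

/-- (L) -/
theorem nrm_eq_zero_of_not_mem [Finite P] {p : ℕ} [hp : Fact p.Prime] {A : Subgroup P}
    (hAc : ∀ a ∈ A, ∀ b ∈ A, a * b = b * a)
    (hcard : Nat.card A = p ^ 2) {z : P} (hzA : z ∈ A)
    (hF1 : ∀ w : E, z • w = w → w = 0)
    {y t : P} (hy : y ∈ A) (ht : t ∈ A) (hoy : orderOf y = p) (hty : t ∉ Subgroup.zpowers y)
    {w : E} (h2 : t • w = w) : nrm p y w = 0 := by
  apply eq_zero_of_fixed_two hcard hzA hF1 hy ht hoy hty
  · exact smul_nrm_self (by rw [← hoy]; exact pow_orderOf_eq_one y) w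
  · rw [smul_nrm_comm p (hAc t ht y hy), h2]


open Cfsg.Agent.Lib.Helper1 Cfsg.Agent.Lib.Helper2 in
theorem false_of_not_cyclic [Finite P] [FaithfulSMul P E] [Nontrivial E] {p q : ℕ}
    [hp : Fact p.Prime] (hp2 : p ≠ 2) (hP : IsPGroup p P) (hpq : Nat.Coprime p q)
    (hE : ∀ e : E, q • e = 0)
    (hconst : ∀ a b : E, a ≠ 0 → b ≠ 0 →
      Nat.card (MulAction.stabilizer P a) = Nat.card (MulAction.stabilizer P b))
    (hnc : ¬ IsCyclic P) : False := by
  have hnc' : ¬ IsCyclic (⊤ : Subgroup P) := fun h =>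
    hnc (isCyclic_of_surjective (Subgroup.topEquiv (G := P)) Subgroup.topEquiv.surjective)
  obtain ⟨A, -, hAn, ⟨hAcomm, hAexp⟩, hAcard⟩ :=
    exists_normal_elementary_sq_in_normal hp2 hP (⊤ : Subgroup P) hnc'
  have hAc : ∀ a ∈ A, ∀ b ∈ A, a * b = b * a := fun a ha b hb =>
    congrArg Subtype.val (hAcomm.is_comm.comm ⟨a, ha⟩ ⟨b, hb⟩)
  have hp1 : 1 < p := hp.out.one_lt
  have hAne : A ≠ ⊥ := by
    intro h
    rw [h, Subgroup.card_bot] at hAcard
    have : 1 < p ^ 2 := Nat.one_lt_pow (by norm_num) hp1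
    omega
  obtain ⟨z, hzA, hzc, hoz⟩ := exists_central_orderOf_eq_prime hP A hAne
  have hz1 : z ≠ 1 := fun h => by rw [h, orderOf_one] at hoz; omega
  have hF1 : ∀ w : E, z • w = w → w = 0 := fun w hw =>
    central_fpf hpq hE hconst hzc hz1 (by rw [← hoz]; exact pow_orderOf_eq_one z) hw
  obtain ⟨x, hxA, hx1, v, hv0, hxv⟩ := exists_fixed_of_sq hpq hE hAc hAexp hAcard
  have hox : orderOf x = p := by
    have h1 : orderOf x ∣ p := orderOf_dvd_of_pow_eq_one (hAexp x hxA)
    rcases (Nat.dvd_prime hp.out).1 h1 with h | h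
    · exact absurd (orderOf_eq_one_iff.1 h) hx1
    · exact h
  have hxnc : x ∉ Subgroup.center P := fun h =>
    hv0 (central_fpf hpq hE hconst h hx1 (hAexp x hxA) hxv)
  -- some conjugate of x lies outside ⟨x⟩
  obtain ⟨g, hg⟩ : ∃ g : P, g * x * g⁻¹ ∉ Subgroup.zpowers x := by
    by_contra hcon
    push Not at hcon
    have hn : (Subgroup.zpowers x).Normal := by
      constructor
      intro n hn g
      obtain ⟨k, rfl⟩ := Subgroup.mem_zpowers_iff.1 hn
      rw [← conj_zpow]
      exact (Subgroup.zpowers x).zpow_mem (hcon g) k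
    have hne : Subgroup.zpowers x ≠ ⊥ := by
      intro h
      exact hx1 (Subgroup.zpowers_eq_bot.1 h)
    obtain ⟨z', hz'x, hz'c, hoz'⟩ := exists_central_orderOf_eq_prime hP (Subgroup.zpowers x) hne
    have := mem_zpowers_symm hoz' hox hz'x
    exact hxnc ((Subgroup.zpowers_le.2 hz'c) this)
  set s' := g * x * g⁻¹ with hs'
  have hs'A : s' ∈ A := hAn.conj_mem x hxA g
  have hos' : orderOf s' = p := by rw [hs', orderOf_conj', hox]
  have hxs' : x ∉ Subgroup.zpowers s' := fun h => hg (mem_zpowers_symm hox hos' h)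
  set u₁ : E := g • v with hu₁
  have hu₁0 : u₁ ≠ 0 := by
    rw [hu₁]; exact (smul_ne_zero_iff_ne g).2 hv0
  have hs'u₁ : s' • u₁ = u₁ := by
    rw [hu₁, hs', smul_smul, inv_mul_cancel_right, mul_smul, hxv]
  have hL := fun {y t : P} (hy : y ∈ A) (ht : t ∈ A) (hoy : orderOf y = p)
      (hty : t ∉ Subgroup.zpowers y) {w : E} (h2 : t • w = w) =>
    nrm_eq_zero_of_not_mem (E := E) hAc hAcard hzA hF1 hy ht hoy hty h2
  have hL' := fun {y t : P} (hy : y ∈ A) (ht : t ∈ A) (hoy : orderOf y = p)
      (hty : t ∉ Subgroup.zpowers y) {w : E} (h1 : y • w = w) (h2 : t • w = w) =>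
    eq_zero_of_fixed_two (E := E) hAcard hzA hF1 hy ht hoy hty h1 h2
  have hpne : ∀ {w : E}, w ≠ 0 → p • w ≠ 0 := fun hw h => hw (eq_zero_of_nsmul hpq hE h)
  -- main claim
  have main : ∀ h : P, h • (v + u₁) = v + u₁ → h • v = v := by
    intro h hh
    rw [smul_add] at hh
    set a := h * x * h⁻¹ with ha
    set b := h * s' * h⁻¹ with hb
    have haA : a ∈ A := hAn.conj_mem x hxA h
    have hbA : b ∈ A := hAn.conj_mem s' hs'A h
    have hoa : orderOf a = p := by rw [ha, orderOf_conj', hox]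
    have hob : orderOf b = p := by rw [hb, orderOf_conj', hos']
    have hav : a • (h • v) = h • v := by
      rw [ha, smul_smul, inv_mul_cancel_right, mul_smul, hxv]
    have hbu : b • (h • u₁) = h • u₁ := by
      rw [hb, smul_smul, inv_mul_cancel_right, mul_smul, hs'u₁]
    have E1 := congrArg (nrm p x) hh
    rw [map_add, map_add, nrm_of_fixed p hxv, hL hxA hs'A hox hg hs'u₁, add_zero] at E1
    by_cases hax : a ∈ Subgroup.zpowers x
    · have hxa : x ∈ Subgroup.zpowers a := mem_zpowers_symm hoa hox hax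
      have hxhv : x • (h • v) = h • v := smul_of_mem_zpowers hxa hav
      have hbx : b ∉ Subgroup.zpowers x := by
        intro hbx
        have hba : b ∈ Subgroup.zpowers a := (Subgroup.zpowers_le.2 hxa) hbx
        obtain ⟨k, hk⟩ := Subgroup.mem_zpowers_iff.1 hba
        apply hg
        rw [Subgroup.mem_zpowers_iff]
        refine ⟨k, ?_⟩
        have : h * x ^ k * h⁻¹ = h * s' * h⁻¹ := by rw [← conj_zpow, ← ha, hk]
        exact mul_left_cancel (mul_right_cancel this)
      rw [nrm_of_fixed p hxhv, hL hxA hbA hox hbx hbu, add_zero] at E1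
      exact eq_of_nsmul_eq hpq hE E1
    · exfalso
      rw [hL hxA haA hox hax hav, zero_add] at E1
      have hbx : b ∈ Subgroup.zpowers x := by
        by_contra hbx
        rw [hL hxA hbA hox hbx hbu] at E1
        exact hpne hv0 E1.symm
      have E2 := congrArg (nrm p s') hh
      have hxb : x ∈ Subgroup.zpowers b := mem_zpowers_symm hob hox hbx
      have hxhu : x • (h • u₁) = h • u₁ := smul_of_mem_zpowers hxb hbu
      rw [map_add, map_add, nrm_of_fixed p hs'u₁, hL hs'A hxA hos' hxs' hxv, zero_add,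
        hL hs'A hxA hos' hxs' hxhu, add_zero] at E2
      have has' : a ∈ Subgroup.zpowers s' := by
        by_contra has'
        rw [hL hs'A haA hos' has' hav] at E2
        exact hpne hu₁0 E2.symm
      -- conjugation by h² maps x into ⟨x⟩
      have hsq : (h ^ 2) * x * (h ^ 2)⁻¹ ∈ Subgroup.zpowers x := by
        obtain ⟨k, hk⟩ := Subgroup.mem_zpowers_iff.1 has'
        have : (h ^ 2) * x * (h ^ 2)⁻¹ = h * a * h⁻¹ := by
          rw [ha, pow_two]; group
        rw [this, ← hk, ← conj_zpow]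
        exact (Subgroup.zpowers x).zpow_mem hbx k
      have hpow : ∀ n : ℕ, ((h ^ 2) ^ n) * x * ((h ^ 2) ^ n)⁻¹ ∈ Subgroup.zpowers x := by
        intro n
        induction n with
        | zero => simp
        | succ n ih =>
          obtain ⟨k, hk⟩ := Subgroup.mem_zpowers_iff.1 ih
          have : ((h ^ 2) ^ (n + 1)) * x * ((h ^ 2) ^ (n + 1))⁻¹ =
              (h ^ 2) * (((h ^ 2) ^ n) * x * ((h ^ 2) ^ n)⁻¹) * (h ^ 2)⁻¹ := by
            rw [pow_succ']; group
          rw [this, ← hk, ← conj_zpow]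
          exact (Subgroup.zpowers x).zpow_mem hsq k
      -- h has odd order
      obtain ⟨k, hk⟩ := (IsPGroup.iff_orderOf.1 hP) h
      have hodd : Odd (orderOf h) := by
        rw [hk]
        exact (hp.out.odd_of_ne_two hp2).pow
      obtain ⟨m, hm⟩ := hodd
      have hh1 : (h ^ 2) ^ (m + 1) = h := by
        rw [← pow_mul]
        have : 2 * (m + 1) = orderOf h + 1 := by omega
        rw [this, pow_succ, pow_orderOf_eq_one, one_mul]
      have := hpow (m + 1)
      rw [hh1] at this
      exact hax this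
  -- conclude
  have hsum0 : v + u₁ ≠ 0 := by
    intro h0
    have h1 : u₁ = -v := eq_neg_of_add_eq_zero_right h0
    apply hu₁0
    refine hL' hs'A hxA hos' hxs' hs'u₁ ?_
    rw [h1, smul_neg, hxv]
  have hle : MulAction.stabilizer P (v + u₁) ≤ MulAction.stabilizer P v := fun h hh =>
    MulAction.mem_stabilizer_iff.2 (main h (MulAction.mem_stabilizer_iff.1 hh))
  have heq : MulAction.stabilizer P (v + u₁) = MulAction.stabilizer P v :=
    Subgroup.eq_of_le_of_card_ge hle (hconst _ _ hsum0 hv0).symm.le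
  have hx : x ∈ MulAction.stabilizer P (v + u₁) := by
    rw [heq]; exact MulAction.mem_stabilizer_iff.2 hxv
  have hx' := MulAction.mem_stabilizer_iff.1 hx
  rw [smul_add, hxv] at hx'
  have hxu : x • u₁ = u₁ := add_left_cancel hx'
  exact hu₁0 (hL' hs'A hxA hos' hxs' hs'u₁ hxu)


theorem trivial_of_fixed [Finite P] [FaithfulSMul P E]
    (hconst : ∀ a b : E, a ≠ 0 → b ≠ 0 →
      Nat.card (MulAction.stabilizer P a) = Nat.card (MulAction.stabilizer P b))
    {a : E} (ha0 : a ≠ 0) (ha : ∀ g : P, g • a = a) : ∀ g : P, g = 1 := by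
  have hsa : MulAction.stabilizer P a = ⊤ := by
    rw [eq_top_iff]; intro g _; exact MulAction.mem_stabilizer_iff.2 (ha g)
  intro g
  apply FaithfulSMul.eq_of_smul_eq_smul (α := E)
  intro b
  rw [one_smul]
  by_cases hb : b = 0
  · rw [hb, smul_zero]
  · have h1 := hconst a b ha0 hb
    have h2 : MulAction.stabilizer P b = ⊤ := by
      apply Subgroup.eq_top_of_card_eq
      rw [← h1, hsa, Subgroup.card_top]
    have : g ∈ MulAction.stabilizer P b := by rw [h2]; trivial
    exact MulAction.mem_stabilizer_iff.1 this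

theorem result' {P E : Type*} [Group P] [Finite P]
    [AddCommGroup E] [Finite E] [DistribMulAction P E] [FaithfulSMul P E]
    {p q : ℕ} [hp : Fact p.Prime] (hp2 : p ≠ 2) (hP : IsPGroup p P) (hq : q.Prime) (hE : ∀ e : E, q • e = 0)
    (hconst : ∀ a b : E, a ≠ 0 → b ≠ 0 →
      Nat.card (MulAction.stabilizer P a) = Nat.card (MulAction.stabilizer P b)) :
    IsCyclic P ∧ ∀ g : P, g ≠ 1 → ∀ a : E, g • a = a → a = 0 := by
  have htriv : (∀ g : P, g = 1) → IsCyclic P ∧ ∀ g : P, g ≠ 1 → ∀ a : E, g • a = a → a = 0 := by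
    intro hall
    haveI : Subsingleton P := ⟨fun a b => by rw [hall a, hall b]⟩
    exact ⟨inferInstance, fun g hg => absurd (hall g) hg⟩
  by_cases hEtriv : Subsingleton E
  · apply htriv
    intro g
    exact FaithfulSMul.eq_of_smul_eq_smul (α := E) fun e => Subsingleton.elim _ _
  · haveI : Nontrivial E := not_subsingleton_iff_nontrivial.1 hEtriv
    by_cases hpq : p = q
    · subst hpq
      apply htriv
      -- a nonzero vector fixed by all of P
      have h1 := hP.card_modEq_card_fixedPoints E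
      obtain ⟨e, he⟩ := exists_ne (0 : E)
      have hpE : p ∣ Nat.card E := by
        have h2 : addOrderOf e ∣ p := addOrderOf_dvd_of_nsmul_eq_zero (hE e)
        rcases (Nat.dvd_prime hp.out).1 h2 with h | h
        · exact absurd (AddMonoid.addOrderOf_eq_one_iff.1 h) he
        · rw [← h]; exact addOrderOf_dvd_natCard e
      have hpF : p ∣ Nat.card (MulAction.fixedPoints P E) :=
        (Nat.modEq_zero_iff_dvd.1 ((h1.symm.trans (Nat.modEq_zero_iff_dvd.2 hpE))))
      have h0 : (0 : E) ∈ MulAction.fixedPoints P E := fun g => smul_zero g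
      have hcard : 1 < Nat.card (MulAction.fixedPoints P E) := by
        have hpos : 0 < Nat.card (MulAction.fixedPoints P E) :=
          Nat.card_pos_iff.2 ⟨⟨⟨0, h0⟩⟩, inferInstance⟩
        have := Nat.le_of_dvd hpos hpF
        have := hp.out.one_lt
        omega
      obtain ⟨⟨a, ha⟩, ha0⟩ : ∃ a : MulAction.fixedPoints P E, a ≠ ⟨0, h0⟩ := by
        haveI : Nontrivial (MulAction.fixedPoints P E) := Finite.one_lt_card_iff_nontrivial.1 hcard
        exact exists_ne _
      have ha0' : a ≠ 0 := fun h => ha0 (Subtype.ext h)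
      exact trivial_of_fixed hconst ha0' ha
    · have hcop : Nat.Coprime p q := (Nat.coprime_primes hp.out hq).2 hpq
      have hcyc : IsCyclic P := by
        by_contra h
        exact false_of_not_cyclic hp2 hP hcop hE hconst h
      refine ⟨hcyc, ?_⟩
      intro g hg a hga
      obtain ⟨k, hk⟩ := (IsPGroup.iff_orderOf.1 hP) g
      have hk0 : k ≠ 0 := by
        intro h
        rw [h, pow_zero] at hk
        exact hg (orderOf_eq_one_iff.1 hk)
      obtain ⟨m, rfl⟩ := Nat.exists_eq_succ_of_ne_zero hk0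
      set z := g ^ (p ^ m) with hz
      have hzp : z ^ p = 1 := by
        rw [hz, ← pow_mul, ← pow_succ, ← hk, pow_orderOf_eq_one]
      have hz1 : z ≠ 1 := by
        intro h
        have := orderOf_dvd_of_pow_eq_one h
        rw [hk] at this
        have h1 := Nat.le_of_dvd (pow_pos hp.out.pos m) this
        have h2 : p ^ m < p ^ (m + 1) := Nat.pow_lt_pow_right hp.out.one_lt (Nat.lt_succ_self m)
        exact absurd h1 (not_le.2 h2)
      have hzc : z ∈ Subgroup.center P := by
        rw [Subgroup.mem_center_iff]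
        intro h
        obtain ⟨c, hc⟩ := hcyc.exists_generator
        obtain ⟨i, rfl⟩ := Subgroup.mem_zpowers_iff.1 (hc h)
        obtain ⟨j, hj⟩ := Subgroup.mem_zpowers_iff.1 (hc z)
        rw [← hj]
        exact (Commute.zpow_zpow_self c i j).eq
      exact central_fpf hcop hE hconst hzc hz1 hzp (pow_smul_of_fixed hga _)


/-- Let `p ≠ 2` be prime and `P` a finite `p`-group acting faithfully by additive automorphisms on a finite elementary abelian `q`-group `E` (`q` prime), such that `|P_a|` is the same for all `a ≠ 0`. Then `P` is cyclic and every non-identity element of `P` fixes only `0`. -/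
theorem result {P E : Type*} [Group P] [Finite P]
    [AddCommGroup E] [Finite E] [DistribMulAction P E] [FaithfulSMul P E]
    {p q : ℕ} [Fact p.Prime] (hp2 : p ≠ 2) (hP : IsPGroup p P) (hq : q.Prime) (hE : ∀ e : E, q • e = 0)
    (hconst : ∀ a b : E, a ≠ 0 → b ≠ 0 →
      Nat.card (MulAction.stabilizer P a) = Nat.card (MulAction.stabilizer P b)) :
    IsCyclic P ∧ ∀ g : P, g ≠ 1 → ∀ a : E, g • a = a → a = 0 := by
  exact result' hp2 hP hq hE hconst

end Cfsg.Agent.S1160
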