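import Cfsg.Statements.S1167
import Mathlib
import Cfsg.Agent.Lib.Helper6.ZassPP2
import Cfsg.Agent.S0885

set_option autoImplicit false
open Cfsg

namespace Cfsg.Agent.S1167

/-- Let `G` be a finite simple Zassenhaus group on `Ω`, `U` a normal subgroup of `G_a` regular on `Ω` minus `a` which is an abelian 2-group, and `v` an involution with `v • a ≠ a`. Then there is a unique `u₀ ∈ U`, `u₀ ≠ 1`, with `v u₀ v = u₀ v u₀`. -/
theorem result {G Ω : Type*} [Group G] [Finite G] [MulAction G Ω] [Finite Ω]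
    (hZ : Cfsg.IsZassenhausGroup G Ω) [IsSimpleGroup G] {a : Ω}
    (U : Subgroup G) (hUle : U ≤ MulAction.stabilizer G a)
    (hUn : ∀ h ∈ MulAction.stabilizer G a, ∀ u ∈ U, h * u * h⁻¹ ∈ U)
    (hreg : ∀ c d : Ω, c ≠ a → d ≠ a → ∃! u : U, (u : G) • c = d)
    (hU2 : IsPGroup 2 U) (hUab : ∀ u ∈ U, ∀ u' ∈ U, u * u' = u' * u)
    (v : G) (hv1 : v ≠ 1) (hv2 : v * v = 1) (hva : v • a ≠ a) :
    ∃! u₀ : G, u₀ ∈ U ∧ u₀ ≠ 1 ∧ v * u₀ * v = u₀ * v * u₀ := by
  classical
  haveI : Fintype G := Fintype.ofFinite G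
  haveI : Fintype Ω := Fintype.ofFinite Ω
  have h0 := Cfsg.Agent.Lib.Helper6.Zs.ZD.of hZ
  have hn := h0.card_gt
  obtain ⟨b, hb⟩ : ∃ b : Ω, b = v • a := ⟨_, rfl⟩
  have hba : b ≠ a := by rw [hb]; exact hva
  have hab : a ≠ b := hba.symm
  have hvb : v • b = a := by rw [hb, ← mul_smul, hv2, one_smul]
  have hvo : orderOf v = 2 := Cfsg.Agent.Lib.Helper6.Zs.orderOf_two_of hv2 hv1
  have hUa : ∀ u ∈ U, u • a = a := fun u hu => MulAction.mem_stabilizer_iff.1 (hUle hu)
  have hfixU : ∀ u ∈ U, u ≠ 1 → ∀ c : Ω, u • c = c → c = a := by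
    intro u hu hu1 c hc
    by_contra hca
    obtain ⟨w, -, hw⟩ := hreg c c hca hca
    have h1 := hw ⟨u, hu⟩ hc
    have h2 := hw 1 (by show ((1 : U) : G) • c = c; rw [Subgroup.coe_one, one_smul])
    apply hu1
    have := h1.trans h2.symm
    exact congrArg Subtype.val this
  have hcardU : Nat.card U + 1 = Fintype.card Ω := by
    let φ : U → {c : Ω // c ≠ a} := fun u => ⟨(u : G) • b, by
      intro h'
      apply hba
      have : (u : G) • b = (u : G) • a := by rw [h', hUa u u.2]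
      exact smul_left_cancel _ this⟩
    have hφbij : Function.Bijective φ := by
      constructor
      · intro u u' huu
        have h1 : (u : G) • b = (u' : G) • b := congrArg Subtype.val huu
        obtain ⟨w, -, hw⟩ := hreg b ((u' : G) • b) hba (φ u').2
        exact (hw u h1).trans (hw u' rfl).symm
      · rintro ⟨c, hc⟩
        obtain ⟨w, hw, -⟩ := hreg b c hba hc
        exact ⟨w, Subtype.ext hw⟩
    have h1 : Nat.card U = Nat.card {c : Ω // c ≠ a} :=
      Nat.card_congr (Equiv.ofBijective φ hφbij)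
    rw [h1, Nat.card_eq_fintype_card, Fintype.card_subtype_compl, Fintype.card_subtype_eq]
    omega
  have hK : Cfsg.Agent.Lib.Helper6.Zs.KD a U := ⟨hUle, hcardU, hfixU⟩
  haveI : Fact (Nat.Prime 2) := ⟨Nat.prime_two⟩
  obtain ⟨k, hk⟩ := IsPGroup.iff_card.1 hU2
  have hk0 : k ≠ 0 := by
    rintro rfl
    rw [pow_zero] at hk
    omega
  have hodd2 : Odd (Fintype.card Ω - 2) := by
    have h1 : Fintype.card Ω - 2 = 2 ^ k - 1 := by omega
    rw [h1]
    exact Nat.Even.sub_odd (Nat.one_le_two_pow) ((Nat.even_pow).2 ⟨even_two, hk0⟩) odd_one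
  have hnodd : Odd (Fintype.card Ω) := by
    obtain ⟨j, hj⟩ := hodd2
    exact ⟨j + 1, by omega⟩
  obtain ⟨e, he⟩ : ∃ e, e = Nat.card
      ↥(MulAction.stabilizer G a ⊓ MulAction.stabilizer G b : Subgroup G) := ⟨_, rfl⟩
  have hdvd := h0.card_two_dvd hab
  rw [← he] at hdvd
  have hoddE : Odd e := Odd.of_dvd_nat hodd2 hdvd
  have he1 : 1 < e := by rw [he]; exact h0.one_lt_card_two hab
  have hle : Fintype.card Ω - 1 - 1 ≤ 2 * e := by
    rcases Cfsg.Agent.S0885.result hZ hab (Fintype.card Ω - 1) e (by omega) he.symm hoddE U hUle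
      hcardU hfixU with hle | ⟨-, ⟨u, w, huw⟩, -⟩
    · exact hle
    · exact absurd (Subtype.ext (hUab u u.2 w w.2)) huw
  have hen : e = Fintype.card Ω - 2 := by
    obtain ⟨c, hc⟩ := hdvd
    have hc2 : c ≤ 2 := by
      refine Nat.le_of_mul_le_mul_left ?_ (by omega : 0 < e)
      rw [← hc]; omega
    obtain ⟨j, hj⟩ := hodd2
    interval_cases c <;> omega
  have hcardU2 : 2 ∣ Nat.card U := by rw [hk]; exact dvd_pow_self 2 hk0
  obtain ⟨y0, hy0⟩ := exists_prime_orderOf_dvd_card' 2 hcardU2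
  have hy0o : orderOf (y0 : G) = 2 := by rw [Subgroup.orderOf_coe]; exact hy0
  have hinvol : ∀ x ∈ U, x ≠ 1 → orderOf x = 2 := by
    intro x hx hx1
    by_contra hne
    have key := hK.card_orbits_le h0 hab (ι := Bool) (fun i => cond i x (y0 : G))
      (fun i => by cases i; exact y0.2; exact hx)
      (fun i => by
        cases i
        · exact Cfsg.Agent.Lib.Helper6.Zs.ne_one_of_orderOf_two hy0o
        · exact hx1)
      (by
        intro i j hij
        cases i <;> cases j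
        · rfl
        · exfalso
          have hij' : orderOf (y0 : G) = orderOf x := hij
          rw [hy0o] at hij'
          exact hne hij'.symm
        · exfalso
          have hij' : orderOf x = orderOf (y0 : G) := hij
          rw [hy0o] at hij'
          exact hne hij'
        · rfl)
    rw [Fintype.card_bool, ← he] at key
    omega
  have hfx := h0.fx_involution hnodd hvo
  unfold Cfsg.Agent.Lib.Helper6.Zs.fx at hfx
  obtain ⟨c, hc⟩ := Finset.card_eq_one.1 hfx
  have hmemc : ∀ x : Ω, v • x = x ↔ x = c := by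
    intro x
    have := Finset.ext_iff.1 hc x
    simp only [Finset.mem_filter, Finset.mem_univ, true_and, Finset.mem_singleton] at this
    exact this
  have hvc : v • c = c := (hmemc c).2 rfl
  have hca : c ≠ a := by
    intro h'; rw [h'] at hvc; exact hva hvc
  have hcb : c ≠ b := by
    intro h'; rw [h', hvb] at hvc; exact hab hvc
  obtain ⟨u0', hu0', hu0uniq⟩ := hreg b c hba hca
  obtain ⟨u0, hu0⟩ : ∃ u0 : G, u0 = (u0' : G) := ⟨_, rfl⟩
  have hu0U : u0 ∈ U := by rw [hu0]; exact u0'.2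
  have hu0b : u0 • b = c := by rw [hu0]; exact hu0'
  have hu01 : u0 ≠ 1 := by
    intro h'; rw [h', one_smul] at hu0b; exact hcb hu0b.symm
  have hu0o := hinvol u0 hu0U hu01
  have hu0sq : u0 * u0 = 1 := Cfsg.Agent.Lib.Helper6.Zs.mul_self_of_orderOf_two hu0o
  have hu0a : u0 • a = a := hUa u0 hu0U
  have hu0c : u0 • c = b := by rw [← hu0b, ← mul_smul, hu0sq, one_smul]
  obtain ⟨w, hw⟩ : ∃ w : G, w = v * u0 := ⟨_, rfl⟩
  have hwa : w • a = b := by rw [hw, mul_smul, hu0a, ← hb]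
  have hwb : w • b = c := by rw [hw, mul_smul, hu0b, hvc]
  have hwc : w • c = a := by rw [hw, mul_smul, hu0c, hvb]
  have hw3 : w * w * w = 1 := by
    apply h0.three _ a b c hab hcb.symm hca.symm
    · rw [mul_smul, mul_smul, hwa, hwb, hwc]
    · rw [mul_smul, mul_smul, hwb, hwc, hwa]
    · rw [mul_smul, mul_smul, hwc, hwa, hwb]
  have hvi : v⁻¹ = v := inv_eq_of_mul_eq_one_right hv2
  have hu0i : u0⁻¹ = u0 := inv_eq_of_mul_eq_one_right hu0sq
  have heq : v * u0 * v = u0 * v * u0 := by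
    have h1 : v * u0 * v = (u0 * v * u0)⁻¹ := by
      apply eq_inv_of_mul_eq_one_left
      calc v * u0 * v * (u0 * v * u0) = (v * u0) * (v * u0) * (v * u0) := by group
        _ = 1 := by rw [← hw]; exact hw3
    rw [h1, mul_inv_rev, mul_inv_rev, hu0i, hvi, mul_assoc]
  refine ⟨u0, ⟨hu0U, hu01, heq⟩, ?_⟩
  rintro u1 ⟨hu1U, hu11, hu1eq⟩
  have h1 : v • (u1 • b) = u1 • b := by
    have e1 : (v * u1 * v) • a = v • (u1 • b) := by rw [mul_smul, mul_smul, ← hb]
    have e2 : (u1 * v * u1) • a = u1 • b := by rw [mul_smul, mul_smul, hUa u1 hu1U, ← hb]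
    rw [← e1, hu1eq, e2]
  have h2 : u1 • b = c := (hmemc _).1 h1
  have h3 := hu0uniq ⟨u1, hu1U⟩ h2
  rw [hu0, ← h3]


end Cfsg.Agent.S1167
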