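import Cfsg.Statements.S1168
import Cfsg.Agent.S1140

set_option autoImplicit false
open Cfsg

namespace Cfsg.Agent.S1168

theorem result {F : Type*} [Field F] [Fintype F] [CharP F 2]
    (q : F → F)
    (hq : ∀ x y z : F, q (x + y + z) + q (x + y) + q (x + z) + q (y + z) + q x + q y + q z = 0) :
    ∃ (s : Finset ((F ≃+* F) × (F ≃+* F))) (c : (F ≃+* F) × (F ≃+* F) → F),
      ∀ x : F, q x = ∑ p ∈ s, c p * (p.1 x * p.2 x) := by
  classical
  letI : Algebra (ZMod 2) F := ZMod.algebra F 2
  have h2 : ∀ a : F, a + a = 0 := fun a => CharTwo.add_self_eq_zero a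
  have hq0 : q 0 = 0 := by
    have := hq 0 0 0
    simp only [add_zero] at this
    have e : q 0 + q 0 + q 0 + q 0 + q 0 + q 0 + q 0 = q 0 := by
      rw [h2 (q 0), zero_add, h2 (q 0), zero_add, h2 (q 0), zero_add]
    rw [e] at this
    exact this
  -- the polar form
  have hadd : ∀ x y z : F, q (x + y + z) + q (x + y) + q z =
      (q (x + z) + q x + q z) + (q (y + z) + q y + q z) := by
    intro x y z
    have h := hq x y z
    have e : q (x + y + z) + q (x + y) + q z =
        (q (x + y + z) + q (x + y) + q (x + z) + q (y + z) + q x + q y + q z) +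
          ((q (x + z) + q x + q z) + (q (y + z) + q y + q z)) := by
      have a1 := h2 (q (x + z))
      have a2 := h2 (q (y + z))
      have a3 := h2 (q x)
      have a4 := h2 (q y)
      have a5 := h2 (q z)
      linear_combination (-1 : F) * a1 - a2 - a3 - a4 - a5
    rw [e, h, zero_add]
  let P0 : F → F →+ F := fun x =>
    { toFun := fun y => q (x + y) + q x + q y
      map_zero' := by
        show q (x + 0) + q x + q 0 = 0
        rw [add_zero, hq0, add_zero, h2]
      map_add' := fun y z => by
        show q (x + (y + z)) + q x + q (y + z) = (q (x + y) + q x + q y) + (q (x + z) + q x + q z)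
        have h := hadd y z x
        have e1 : y + z + x = x + (y + z) := by ring
        have e2 : y + x = x + y := add_comm _ _
        have e3 : z + x = x + z := add_comm _ _
        rw [e1, e2, e3] at h
        linear_combination h }
  let P : F →+ F →+ F :=
    { toFun := P0
      map_zero' := by
        ext y
        show q (0 + y) + q 0 + q y = 0
        rw [zero_add, hq0, add_zero, h2]
      map_add' := fun x y => by
        ext z
        show q (x + y + z) + q (x + y) + q z = (q (x + z) + q x + q z) + (q (y + z) + q y + q z)
        exact hadd x y z }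
  let PL : F →ₗ[ZMod 2] F →ₗ[ZMod 2] F :=
    ((AddMonoidHom.toZModLinearMapEquiv 2).toAddMonoidHom.comp P).toZModLinearMap 2
  have hPL : ∀ x y, PL x y = q (x + y) + q x + q y := fun x y => rfl
  let Q : QuadraticMap (ZMod 2) F F :=
    { toFun := q
      toFun_smul := by
        intro a x
        fin_cases a
        · show q ((0 : ZMod 2) • x) = ((0 : ZMod 2) * 0) • q x
          rw [zero_smul, mul_zero, zero_smul, hq0]
        · show q ((1 : ZMod 2) • x) = ((1 : ZMod 2) * 1) • q x
          rw [one_smul, mul_one, one_smul]
      exists_companion' := ⟨PL, fun x y => by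
        rw [hPL]
        have a1 := h2 (q x)
        have a2 := h2 (q y)
        linear_combination (-1 : F) * a1 - a2⟩ }
  obtain ⟨B2, hB2⟩ := LinearMap.BilinMap.toQuadraticMap_surjective Q
  have hB2' : ∀ x, B2 x x = q x := by
    intro x
    have := congrArg (fun R : QuadraticMap (ZMod 2) F F => R x) hB2
    simp only [LinearMap.BilinMap.toQuadraticMap_apply] at this
    exact this
  let B3 : F →+ F →+ F :=
    { toFun := fun x => (B2 x).toAddMonoidHom
      map_zero' := by
        ext y
        simp
      map_add' := fun x y => by
        ext z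
        simp }
  obtain ⟨s, c, hc⟩ := (Cfsg.Agent.S1140.result (F := F)).2.2 B3
  refine ⟨s, c, fun x => ?_⟩
  rw [← hB2' x]
  exact hc x x

end Cfsg.Agent.S1168
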