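import Mathlib
import Cfsg.Statements.S1176
import Cfsg.Agent.Lib.Lead.Invol
import Cfsg.Agent.Lib.Lead.Dihedral

set_option autoImplicit false
open Cfsg

namespace Cfsg.Agent.S1176

open Cfsg.Agent.Lib.Lead
open scoped commutatorElement

/-- Let x₀ be an involution of the finite group G and D its conjugacy class. Assume (a) for each x ∈ D the subgroup W(x) generated by the members of D commuting with x is a 2-group of nilpotency class at most 2, and (b) the product of two distinct commuting members of D again lies in D. Then for all x, y ∈ D, if xy has even order greater than 2, its order is 4. -/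
theorem result {G : Type*} [Group G] [Finite G] (x₀ : G) (hx₀ : orderOf x₀ = 2) (ha : ∀ x : G, IsConj x₀ x → IsPGroup 2 ↥(Subgroup.closure {y : G | IsConj x₀ y ∧ Commute y x}) ∧ ⁅⁅Subgroup.closure {y : G | IsConj x₀ y ∧ Commute y x}, Subgroup.closure {y : G | IsConj x₀ y ∧ Commute y x}⁆, Subgroup.closure {y : G | IsConj x₀ y ∧ Commute y x}⁆ = ⊥) (hb : ∀ x y : G, IsConj x₀ x → IsConj x₀ y → x ≠ y → Commute x y → IsConj x₀ (x * y)) (x y : G) (hx : IsConj x₀ x) (hy : IsConj x₀ y) (heven : Even (orderOf (x * y))) (hgt : 2 < orderOf (x * y)) : orderOf (x * y) = 4 := by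
  have hox : orderOf x = 2 := by
    obtain ⟨c, hc⟩ := isConj_iff.mp hx
    rw [← hc]
    have := (MulAut.conj c).orderOf_eq x₀
    simp only [MulAut.conj_apply] at this
    rw [this, hx₀]
  have hoy : orderOf y = 2 := by
    obtain ⟨c, hc⟩ := isConj_iff.mp hy
    rw [← hc]
    have := (MulAut.conj c).orderOf_eq x₀
    simp only [MulAut.conj_apply] at this
    rw [this, hx₀]
  set u := x * y with hu
  obtain ⟨m, hm⟩ := heven
  have hm2 : orderOf u = 2 * m := by rw [hm]; ring
  have hm1 : 1 < m := by omega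
  set z := u ^ m with hz
  have hoz : orderOf z = 2 := by
    rw [hz, orderOf_pow_of_dvd (by omega) ⟨2, by rw [hm2]; ring⟩, hm2]
    exact Nat.mul_div_cancel _ (by omega)
  have hzz : z * z = 1 := invol_mul_self hoz
  have hzinv : z⁻¹ = z := invol_inv hoz
  -- x z x⁻¹ = z⁻¹ = z
  have hxz : x * z * x⁻¹ = z := by
    have := invol_conj_mul_zpow hox hoy (m : ℤ)
    rw [zpow_natCast, zpow_neg, zpow_natCast] at this
    rw [← hu] at this
    rw [hz, this, ← hz, hzinv]
  have hcxz : x * z = z * x := by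
    calc x * z = (x * z * x⁻¹) * x := by group
      _ = z * x := by rw [hxz]
  have hcuz : u * z = z * u := by
    rw [hz, ← pow_succ', ← pow_succ]
  have hcyz : y * z = z * y := by
    have hyu : y = x * u := pair_y_eq hox
    rw [hyu, mul_assoc, hcuz, ← mul_assoc, hcxz, mul_assoc]
  -- z * x ∈ D
  have hzxD : IsConj x₀ (z * x) := by
    rcases Nat.even_or_odd' m with ⟨k, hk | hk⟩
    · -- m = 2k : z x = u^k x u^{-k}
      have := rot_conj_x hox hoy (k : ℤ)
      rw [← hu] at this
      have e : z * x = u ^ (k : ℤ) * x * (u ^ (k : ℤ))⁻¹ := by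
        rw [this, hz, hk, ← zpow_natCast]
        congr 2
      rw [e]
      exact hx.trans (isConj_iff.mpr ⟨_, rfl⟩)
    · -- m = 2k+1 : z x = u^(k+1) y u^{-(k+1)}
      have hyu : y = u⁻¹ * x := by
        rw [hu, mul_inv_rev, invol_inv hox, invol_inv hoy, mul_assoc, invol_mul_self hox, mul_one]
      have h1 := invol_conj_mul_zpow hox hoy (-((k : ℤ) + 1))
      rw [← hu, neg_neg] at h1
      -- x u^{-(k+1)} x⁻¹ = u^{k+1}
      have e : z * x = u ^ ((k : ℤ) + 1) * y * (u ^ ((k : ℤ) + 1))⁻¹ := by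
        have h2 : x * (u ^ ((k : ℤ) + 1))⁻¹ = u ^ ((k : ℤ) + 1) * x := by
          rw [← zpow_neg]
          calc x * u ^ (-((k : ℤ) + 1)) = (x * u ^ (-((k : ℤ) + 1)) * x⁻¹) * x := by group
            _ = u ^ ((k : ℤ) + 1) * x := by rw [h1]
        calc z * x = u ^ ((2 * k + 1 : ℕ) : ℤ) * x := by rw [hz, hk, zpow_natCast]
          _ = u ^ ((k : ℤ) + 1) * u⁻¹ * (u ^ ((k : ℤ) + 1) * x) := by
            rw [← mul_assoc]
            congr 1
            rw [← zpow_neg_one, ← zpow_add, ← zpow_add]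
            congr 1
            push_cast; ring
          _ = u ^ ((k : ℤ) + 1) * u⁻¹ * (x * (u ^ ((k : ℤ) + 1))⁻¹) := by rw [h2]
          _ = u ^ ((k : ℤ) + 1) * y * (u ^ ((k : ℤ) + 1))⁻¹ := by rw [hyu]; group
      rw [e]
      exact hy.trans (isConj_iff.mpr ⟨_, rfl⟩)
  -- z ∈ D
  have hzD : IsConj x₀ z := by
    have hne : x ≠ z * x := by
      intro h
      have : z = 1 := by
        have : 1 * x = z * x := by rw [one_mul]; exact h
        exact (mul_right_cancel this).symm
      rw [this, orderOf_one] at hoz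
      omega
    have hcomm : Commute x (z * x) := by
      change x * (z * x) = z * x * x
      rw [← mul_assoc, hcxz]
    have := hb x (z * x) hx hzxD hne hcomm
    have e : x * (z * x) = z := by
      rw [← mul_assoc, hcxz, mul_assoc, invol_mul_self hox, mul_one]
    rwa [e] at this
  -- class two
  set W := Subgroup.closure {y' : G | IsConj x₀ y' ∧ Commute y' z} with hW
  have hcl := (ha z hzD).2
  have hxW : x ∈ W := Subgroup.subset_closure ⟨hx, hcxz⟩
  have hyW : y ∈ W := Subgroup.subset_closure ⟨hy, hcyz⟩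
  have h1 : ⁅⁅x, y⁆, x⁆ ∈ ⁅⁅W, W⁆, W⁆ :=
    Subgroup.commutator_mem_commutator (Subgroup.commutator_mem_commutator hxW hyW) hxW
  rw [hcl, Subgroup.mem_bot] at h1
  have h2 : ⁅x, y⁆ = u ^ 2 := by
    rw [commutatorElement_def, invol_inv hox, invol_inv hoy, hu, pow_two]
    group
  have h3 : ⁅u ^ 2, x⁆ = u ^ 4 := by
    rw [commutatorElement_def]
    have := invol_conj_mul_zpow hox hoy (-2)
    rw [← hu, neg_neg] at this
    have e : u ^ 2 * x * (u ^ 2)⁻¹ * x⁻¹ = u ^ 2 * (x * u ^ (-2 : ℤ) * x⁻¹) := by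
      rw [zpow_neg]
      have : u ^ (2 : ℤ) = u ^ 2 := by norm_cast
      rw [this]; group
    rw [e, this]
    have : u ^ (2 : ℤ) = u ^ 2 := by norm_cast
    rw [this, ← pow_add]
  rw [h2, h3] at h1
  have hdvd : orderOf u ∣ 4 := orderOf_dvd_of_pow_eq_one h1
  have hle : orderOf u ≤ 4 := Nat.le_of_dvd (by norm_num) hdvd
  have : orderOf u ≠ 3 := by
    intro h; rw [h] at hdvd; omega
  omega

end Cfsg.Agent.S1176
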