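import Mathlib
import Cfsg.Statements.S1177
import Cfsg.Agent.Lib.Lead.CjMore

set_option autoImplicit false
open Cfsg

namespace Cfsg.Agent.S1177

open Cfsg.Agent.Lib.Lead Cfsg.Agent.Lib.Lead.BaerSuzuki

section

variable {G : Type*} [Group G] (A : Subgroup G)
  (hTI : ∀ g : G, cj A g ⊓ A = ⊥ ∨ cj A g = A)
  (hb : ∀ g : G, (∀ a ∈ A, ∀ b ∈ cj A g, a * b = b * a) → cj A g = A)

include hTI in
theorem ti' (u v : G) : cj A u ⊓ cj A v = ⊥ ∨ cj A u = cj A v := by
  rcases hTI (v⁻¹ * u) with h | h
  · left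
    rw [eq_bot_iff]
    intro x hx
    rw [Subgroup.mem_bot]
    have h1 : v⁻¹ * x * v ∈ cj A (v⁻¹ * u) ⊓ A := by
      constructor
      · change v⁻¹ * x * v ∈ cj A (v⁻¹ * u)
        rw [mem_cj]
        have : (v⁻¹ * u)⁻¹ * (v⁻¹ * x * v) * (v⁻¹ * u) = u⁻¹ * x * u := by group
        rw [this]
        exact (mem_cj A u x).mp hx.1
      · exact (mem_cj A v x).mp hx.2
    rw [h, Subgroup.mem_bot] at h1
    have : x = v * (v⁻¹ * x * v) * v⁻¹ := by group
    rw [this, h1]; group
  · right
    have := congrArg (fun X => cj X v) h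
    simp only [cj_cj] at this
    rw [← this]
    congr 1; group

include hb in
theorem hb' (u v : G) (h : ∀ x ∈ cj A u, ∀ y ∈ cj A v, x * y = y * x) : cj A u = cj A v := by
  have h1 : cj A (u⁻¹ * v) = A := by
    apply hb
    intro a ha b hb'
    have hx : u * a * u⁻¹ ∈ cj A u := by
      rw [mem_cj]
      have : u⁻¹ * (u * a * u⁻¹) * u = a := by group
      rw [this]; exact ha
    have hy : u * b * u⁻¹ ∈ cj A v := by
      rw [mem_cj]
      have : v⁻¹ * (u * b * u⁻¹) * v = (u⁻¹ * v)⁻¹ * b * (u⁻¹ * v) := by group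
      rw [this]; exact (mem_cj A _ b).mp hb'
    have := h _ hx _ hy
    have e1 : a * b = u⁻¹ * ((u * a * u⁻¹) * (u * b * u⁻¹)) * u := by group
    have e2 : b * a = u⁻¹ * ((u * b * u⁻¹) * (u * a * u⁻¹)) * u := by group
    rw [e1, e2, this]
  have := congrArg (fun X => cj X u) h1
  simp only [cj_cj] at this
  rw [← this]
  congr 1; group

include hTI in
theorem lemP (u x y : G) (hx : x ∈ cj A u) (hx1 : x ≠ 1) (hxy : y * x * y⁻¹ = x) :
    cj (cj A u) y = cj A u := by
  rw [cj_cj]
  rcases ti' A hTI (y * u) u with h | h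
  · exfalso
    apply hx1
    have : x ∈ cj A (y * u) ⊓ cj A u := by
      refine ⟨?_, hx⟩
      change x ∈ cj A (y * u)
      rw [mem_cj]
      have e : (y * u)⁻¹ * x * (y * u) = u⁻¹ * (y⁻¹ * x * y) * u := by group
      have e2 : y⁻¹ * x * y = x := by
        calc y⁻¹ * x * y = y⁻¹ * (y * x * y⁻¹) * y := by rw [hxy]
          _ = x := by group
      rw [e, e2]
      exact (mem_cj A u x).mp hx
    rw [h, Subgroup.mem_bot] at this
    exact this
  · exact h

include hTI hb in
theorem lemQ (u v : G) (h1 : ∀ y ∈ cj A v, cj (cj A u) y = cj A u)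
    (h2 : ∀ x ∈ cj A u, cj (cj A v) x = cj A v) : cj A u = cj A v := by
  rcases ti' A hTI u v with h | h
  · apply hb' A hb
    intro x hx y hy
    have hcomm : x * y * x⁻¹ * y⁻¹ ∈ cj A u ⊓ cj A v := by
      refine Subgroup.mem_inf.mpr ⟨?_, ?_⟩
      · have : y * x⁻¹ * y⁻¹ ∈ cj A u := by
          rw [← h1 y hy, mem_cj]
          have : y⁻¹ * (y * x⁻¹ * y⁻¹) * y = x⁻¹ := by group
          rw [this]; exact inv_mem hx
        have e : x * y * x⁻¹ * y⁻¹ = x * (y * x⁻¹ * y⁻¹) := by group
        rw [e]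
        exact mul_mem hx this
      · have : x * y * x⁻¹ ∈ cj A v := by
          rw [← h2 x hx, mem_cj]
          have : x⁻¹ * (x * y * x⁻¹) * x = y := by group
          rw [this]; exact hy
        exact mul_mem this (inv_mem hy)
    rw [h, Subgroup.mem_bot] at hcomm
    calc x * y = (x * y * x⁻¹ * y⁻¹) * (y * x) := by group
      _ = y * x := by rw [hcomm, one_mul]
  · exact h

end

/-- Let A be a nontrivial elementary abelian 2-subgroup of a finite group G which is a T.I. set (each conjugate of A meets A trivially or equals A) and which does not commute elementwise with any conjugate of A other than A itself. Then for every a ∈ A, a ≠ 1, every conjugate of A contained in C_G(a) is equal to A (A is weakly closed in C_G(a)). -/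
theorem result {G : Type*} [Group G] [Finite G] (A : Subgroup G) (hA : Cfsg.IsElementaryAbelian 2 A) (hA1 : A ≠ ⊥) (hTI : ∀ g : G, A.map (MulAut.conj g).toMonoidHom ⊓ A = ⊥ ∨ A.map (MulAut.conj g).toMonoidHom = A) (hb : ∀ g : G, (∀ a ∈ A, ∀ b ∈ A.map (MulAut.conj g).toMonoidHom, a * b = b * a) → A.map (MulAut.conj g).toMonoidHom = A) (a : G) (ha : a ∈ A) (ha1 : a ≠ 1) (g : G) (hg : A.map (MulAut.conj g).toMonoidHom ≤ Subgroup.centralizer ({a} : Set G)) : A.map (MulAut.conj g).toMonoidHom = A := by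
  change cj A g = A
  have hTI' : ∀ g : G, cj A g ⊓ A = ⊥ ∨ cj A g = A := hTI
  have hb' : ∀ g : G, (∀ a ∈ A, ∀ b ∈ cj A g, a * b = b * a) → cj A g = A := hb
  have hg' : cj A g ≤ Subgroup.centralizer ({a} : Set G) := hg
  have hsqA : ∀ x ∈ A, x * x = 1 := fun x hx => by rw [← pow_two]; exact hA.2 x hx
  have hsqB : ∀ x ∈ cj A g, x * x = 1 := by
    intro x hx
    have h1 := hsqA _ ((mem_cj A g x).mp hx)
    calc x * x = g * ((g⁻¹ * x * g) * (g⁻¹ * x * g)) * g⁻¹ := by group
      _ = 1 := by rw [h1]; group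
  have hinvA : ∀ x ∈ A, x⁻¹ = x := fun x hx => inv_eq_of_mul_eq_one_left (hsqA x hx)
  have hinvB : ∀ x ∈ cj A g, x⁻¹ = x := fun x hx => inv_eq_of_mul_eq_one_left (hsqB x hx)
  -- Step 1
  have step1 : ∀ b ∈ cj A g, cj A b = A := by
    intro b hb
    have hba : b * a = a * b := Subgroup.mem_centralizer_singleton_iff.mp (hg' hb)
    have := lemP A hTI' 1 a b (by rw [cj_one]; exact ha) ha1 (by rw [hba]; group)
    rwa [cj_one] at this
  -- the key commutation
  have hkey : ∀ a' ∈ A, ∀ b ∈ cj A g, b * (a' * b * a'⁻¹) = (a' * b * a'⁻¹) * b := by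
    intro a' ha' b hb
    have hbi := hinvB b hb
    have hai := hinvA a' ha'
    have hc : a' * b * a' * b ∈ A := by
      have h1 : b * a' * b⁻¹ ∈ A := by
        have : b * a' * b⁻¹ ∈ cj A b := by
          rw [mem_cj]
          have : b⁻¹ * (b * a' * b⁻¹) * b = a' := by group
          rw [this]; exact ha'
        rwa [step1 b hb] at this
      rw [hbi] at h1
      have e : a' * b * a' * b = a' * (b * a' * b) := by group
      rw [e]
      exact mul_mem ha' h1
    have hcc := hsqA _ hc
    rw [hai]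
    -- b a' b a' = a' b a' b
    have e1 : b * a' * b * a' = (a' * b * a' * b)⁻¹ := by
      rw [mul_inv_rev, mul_inv_rev, mul_inv_rev, hai, hbi]
      group
    have e2 : (a' * b * a' * b)⁻¹ = a' * b * a' * b := inv_eq_of_mul_eq_one_left hcc
    calc b * (a' * b * a') = b * a' * b * a' := by group
      _ = a' * b * a' * b := by rw [e1, e2]
  -- Step 2
  have step2 : ∀ a' ∈ A, cj (cj A g) a' = cj A g := by
    intro a' ha'
    have hQ := lemQ A hTI' hb' g (a' * g) ?_ ?_
    · rw [cj_cj]; exact hQ.symm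
    · -- every y ∈ cj A (a' g) normalizes cj A g
      intro y hy
      rw [← cj_cj, mem_cj] at hy
      set b := a'⁻¹ * y * a' with hbdef
      have hyb : y = a' * b * a'⁻¹ := by rw [hbdef]; group
      by_cases hb1 : b = 1
      · have : y = 1 := by rw [hyb, hb1]; group
        rw [this, cj_one]
      · apply lemP A hTI' g b y hy hb1
        have := hkey a' ha' b hy
        rw [← hyb] at this
        calc y * b * y⁻¹ = (b * y) * y⁻¹ := by rw [this]
          _ = b := by group
    · -- every b ∈ cj A g normalizes cj A (a' g)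
      intro b hb
      by_cases hb1 : b = 1
      · rw [hb1, cj_one]
      · have hmem : a' * b * a'⁻¹ ∈ cj A (a' * g) := by
          rw [← cj_cj, mem_cj]
          have : a'⁻¹ * (a' * b * a'⁻¹) * a' = b := by group
          rw [this]; exact hb
        have hne : a' * b * a'⁻¹ ≠ 1 := by
          intro h
          apply hb1
          calc b = a'⁻¹ * (a' * b * a'⁻¹) * a' := by group
            _ = 1 := by rw [h]; group
        apply lemP A hTI' (a' * g) (a' * b * a'⁻¹) b hmem hne
        rw [hkey a' ha' b hb]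
        group
  -- Step 3
  have := lemQ A hTI' hb' 1 g (by
    intro y hy; rw [cj_one]; exact step1 y hy) (by
    intro x hx; rw [cj_one] at hx; exact step2 x hx)
  rw [cj_one] at this
  exact this.symm

end Cfsg.Agent.S1177
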