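import Mathlib
import Cfsg.Statements.S1178
import Cfsg.Agent.Lib.Lead.Closed

set_option autoImplicit false
open Cfsg

namespace Cfsg.Agent.S1178

open Cfsg.Agent.Lib.Lead Cfsg.Agent.Lib.Lead.BaerSuzuki Cfsg.Agent.Lib.Lead.Closed

/-- Let A be a subgroup of a Sylow 2-subgroup S of the finite group G which is weakly closed in S. If a conjugate g A g⁻¹ commutes elementwise with A, then g A g⁻¹ = A. -/
theorem result {G : Type*} [Group G] [Finite G] (S : Sylow 2 G) (A : Subgroup G) (hW : Cfsg.IsWeaklyClosed A (S : Subgroup G)) (g : G) (hc : ∀ a ∈ A, ∀ b ∈ A.map (MulAut.conj g).toMonoidHom, a * b = b * a) : A.map (MulAut.conj g).toMonoidHom = A := by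
  haveI : Fact (Nat.Prime 2) := ⟨Nat.prime_two⟩
  change cj A g = A
  have hA2 : IsPGroup 2 A := S.2.to_le hW.1
  have hB2 : IsPGroup 2 (cj A g) := isPGroup_cj A g hA2
  have hnorm : cj A g ≤ Subgroup.normalizer (A : Set G) := by
    intro b hb
    rw [Subgroup.mem_normalizer_iff]
    intro a
    have key : ∀ a' ∈ A, b * a' * b⁻¹ = a' := by
      intro a' ha'
      have := hc a' ha' b hb
      rw [← this]; group
    constructor
    · intro ha; rw [key a ha]; exact ha
    · intro ha
      have h1 : b⁻¹ * (b * a * b⁻¹) * b = b * a * b⁻¹ := by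
        have := hc (b * a * b⁻¹) ha b hb
        calc b⁻¹ * (b * a * b⁻¹) * b = b⁻¹ * ((b * a * b⁻¹) * b) := by group
          _ = b⁻¹ * (b * (b * a * b⁻¹)) := by rw [this]
          _ = b * a * b⁻¹ := by group
      have h2 : b⁻¹ * (b * a * b⁻¹) * b = a := by group
      rw [← h2, h1]; exact ha
  have hR : IsPGroup 2 (cj A g ⊔ A : Subgroup G) := IsPGroup.to_sup_of_normal_right' hB2 hA2 hnorm
  exact weaklyClosed_of_pgroup S A hW _ hR le_sup_right g le_sup_left

end Cfsg.Agent.S1178
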