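import Mathlib
import Cfsg.Statements.S1184
import Cfsg.Agent.Lib.Lead.Isolated
import Cfsg.Agent.S1185

set_option autoImplicit false
open Cfsg
open Cfsg.Agent.Lib.Lead

namespace Cfsg.Agent.S1184

/-- Let z be an isolated involution of the finite group G. If s and t are distinct conjugates of z, then st does not commute with z. -/
theorem result {G : Type*} [Group G] [Finite G] (z : G) (hz : Cfsg.IsIsolatedInvolution z) (g h : G) (hne : g * z * g⁻¹ ≠ h * z * h⁻¹) : ¬ Commute (g * z * g⁻¹ * (h * z * h⁻¹)) z := by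
  intro hc
  apply hne
  obtain ⟨m, hkodd, hkinv, hkconj⟩ := isolated_rep hz g
  obtain ⟨n, hlodd, hlinv, hlconj⟩ := isolated_rep hz h
  set k := (z * (g * z * g⁻¹)) ^ m with hk
  set l := (z * (h * z * h⁻¹)) ^ n with hl
  have hs := Cfsg.Agent.S1185.conj_of_inverted hz.1 hkinv
  have ht := Cfsg.Agent.S1185.conj_of_inverted hz.1 hlinv
  rw [hkconj] at hs
  rw [hlconj] at ht
  rw [hs, ht] at hc ⊢
  have hzi := invol_inv hz.1
  -- z inverts k^2 and l^2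
  have hk2 : z * k ^ 2 * z⁻¹ = (k ^ 2)⁻¹ := by
    rw [← conj_pow, hkinv, inv_pow]
  have hl2 : z * l ^ 2 * z⁻¹ = (l ^ 2)⁻¹ := by
    rw [← conj_pow, hlinv, inv_pow]
  rw [hzi] at hk2 hl2
  -- the product is k^2 * l^-2
  have hprod : k ^ 2 * z * (l ^ 2 * z) = k ^ 2 * (l ^ 2)⁻¹ := by
    rw [← hl2]; group
  rw [hprod] at hc
  -- commuting with z
  have h1 : z * (k ^ 2 * (l ^ 2)⁻¹) * z = k ^ 2 * (l ^ 2)⁻¹ := by
    rw [← hc.eq, mul_assoc, invol_mul_self hz.1, mul_one]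
  have h2 : z * (k ^ 2 * (l ^ 2)⁻¹) * z = (k ^ 2)⁻¹ * l ^ 2 := by
    calc z * (k ^ 2 * (l ^ 2)⁻¹) * z = (z * k ^ 2 * z) * (z * l ^ 2 * z)⁻¹ := by
          rw [mul_inv_rev, mul_inv_rev, hzi]
          have : z * k ^ 2 * z * (z * ((l ^ 2)⁻¹ * z)) = z * k ^ 2 * (z * z) * (l ^ 2)⁻¹ * z := by group
          rw [this, invol_mul_self hz.1]; group
      _ = (k ^ 2)⁻¹ * l ^ 2 := by rw [hk2, hl2, inv_inv]
  have h3 : (k ^ 2)⁻¹ * l ^ 2 = k ^ 2 * (l ^ 2)⁻¹ := h2.symm.trans h1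
  have h4 : (l ^ 2) ^ 2 = (k ^ 2) ^ 2 := by
    have : l ^ 2 * l ^ 2 = k ^ 2 * k ^ 2 := by
      calc l ^ 2 * l ^ 2 = k ^ 2 * ((k ^ 2)⁻¹ * l ^ 2) * l ^ 2 := by group
        _ = k ^ 2 * (k ^ 2 * (l ^ 2)⁻¹) * l ^ 2 := by rw [h3]
        _ = k ^ 2 * k ^ 2 := by group
    rw [pow_two (l ^ 2), pow_two (k ^ 2)]; exact this
  have h5 : l ^ 2 = k ^ 2 := odd_sq_inj (odd_orderOf_sq hlodd) (odd_orderOf_sq hkodd) h4
  rw [h5]

end Cfsg.Agent.S1184
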