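import Mathlib
import Cfsg.Statements.S1186
import Cfsg.Agent.Lib.Lead.IsolatedMid

set_option autoImplicit false
open Cfsg

namespace Cfsg.Agent.S1186

open Cfsg.Agent.Lib.Lead Cfsg.Agent.Lib.Lead.IsoMid

theorem result {G : Type*} [Group G] [Finite G] (z : G) (hz : Cfsg.IsIsolatedInvolution z) (s : G) (hs : orderOf s = 2) (hsz : Commute s z) : Nat.card G = Nat.card (Subgroup.centralizer ({z} : Set G)) * Nat.card {k : G // Odd (orderOf k) ∧ z * k * z⁻¹ = k⁻¹ ∧ Commute k (s * z)} * Nat.card {k : G // Odd (orderOf k) ∧ z * k * z⁻¹ = k⁻¹ ∧ Commute k s} := by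
  classical
  have hz2 := hz.1
  have hzinv : z⁻¹ = z := invol_inv hz2
  have hzz : z * z = 1 := invol_mul_self hz2
  -- step A: K_t ↔ A_t
  have cardK : ∀ t : G, Commute t z →
      Nat.card {k : G // Odd (orderOf k) ∧ z * k * z⁻¹ = k⁻¹ ∧ Commute k t} =
      Nat.card {w : G // IsConj z w ∧ Commute w t} := by
    intro t ht
    have hkey : ∀ k : G, z * k * z⁻¹ = k⁻¹ → k * z * k⁻¹ = k ^ 2 * z := by
      intro k hk
      have : z * k⁻¹ = k * z := by
        have h1 : z * k⁻¹ * z⁻¹ = k := by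
          have : z * k⁻¹ * z⁻¹ = (z * k * z⁻¹)⁻¹ := by group
          rw [this, hk, inv_inv]
        have h2 : z * k⁻¹ * z⁻¹ * z = k * z := by rw [h1]
        rwa [inv_mul_cancel_right] at h2
      rw [mul_assoc, this, pow_two, mul_assoc]
    refine Nat.card_congr (Equiv.ofBijective
      (fun k => ⟨k.1 * z * k.1⁻¹, isConj_iff.mpr ⟨k.1, rfl⟩,
        (k.2.2.2.mul_left ht.symm).mul_left k.2.2.2.inv_left⟩) ⟨?_, ?_⟩)
    · rintro ⟨k, hk1, hk2, hk3⟩ ⟨l, hl1, hl2, hl3⟩ h
      have h' : k * z * k⁻¹ = l * z * l⁻¹ := congrArg Subtype.val h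
      rw [hkey k hk2, hkey l hl2] at h'
      have := mul_right_cancel h'
      exact Subtype.ext (odd_sq_inj hk1 hl1 this)
    · rintro ⟨w, hw1, hw2⟩
      obtain ⟨g, rfl⟩ := isConj_iff.mp hw1
      obtain ⟨m, hm1, hm2, hm3⟩ := isolated_rep hz g
      refine ⟨⟨(z * (g * z * g⁻¹)) ^ m, hm1, hm2, ?_⟩, Subtype.ext hm3⟩
      exact (ht.symm.mul_left hw2).pow_left m
  -- step B
  have hA : Nat.card {w : G // IsConj z w} =
      Nat.card {w : G // IsConj z w ∧ Commute w s} *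
        Nat.card {w : G // IsConj z w ∧ Commute w (s * z)} := by
    have hc : ∀ a : {w : G // IsConj z w ∧ Commute w s}, ∃ c : G, Commute c s ∧ c * z * c⁻¹ = a.1 := by
      rintro ⟨a, ha1, ha2⟩
      obtain ⟨g, rfl⟩ := isConj_iff.mp ha1
      obtain ⟨m, -, -, hm3⟩ := isolated_rep hz g
      exact ⟨(z * (g * z * g⁻¹)) ^ m, (hsz.symm.mul_left ha2).pow_left m, hm3⟩
    choose c hc1 hc2 using hc
    rw [← Nat.card_prod]
    symm
    refine Nat.card_congr (Equiv.ofBijective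
      (fun ab => ⟨c ab.1 * ab.2.1 * (c ab.1)⁻¹, ab.2.2.1.trans (isConj_iff.mpr ⟨c ab.1, rfl⟩)⟩)
      ⟨?_, ?_⟩)
    · rintro ⟨a, ⟨b, hb1, hb2⟩⟩ ⟨a', ⟨b', hb'1, hb'2⟩⟩ h
      have h' : c a * b * (c a)⁻¹ = c a' * b' * (c a')⁻¹ := congrArg Subtype.val h
      have hm := congrArg (mid s) h'
      rw [mid_conj (hc1 a), mid_conj (hc1 a'), (mid_eq_iff hz hs hsz hb1).mpr hb2,
        (mid_eq_iff hz hs hsz hb'1).mpr hb'2, hc2, hc2] at hm
      have haa : a = a' := Subtype.ext hm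
      subst haa
      have hbb : b = b' := by
        have := mul_right_cancel h'
        exact mul_left_cancel this
      subst hbb
      rfl
    · rintro ⟨w, hw⟩
      obtain ⟨hm1, hm2, hm3⟩ := mid_props hz hs hw
      set a : {w : G // IsConj z w ∧ Commute w s} := ⟨mid s w, hm1, hm2⟩ with ha
      have hb1 : IsConj z ((c a)⁻¹ * w * c a) := by
        refine hw.trans (isConj_iff.mpr ⟨(c a)⁻¹, ?_⟩)
        rw [inv_inv]
      have hb2 : Commute ((c a)⁻¹ * w * c a) (s * z) := by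
        rw [← mid_eq_iff hz hs hsz hb1]
        have := mid_conj (hc1 a).inv_left w
        rw [inv_inv] at this
        rw [this]
        have h3 : mid s w = c a * z * (c a)⁻¹ := (hc2 a).symm
        rw [h3]; group
      refine ⟨(a, ⟨(c a)⁻¹ * w * c a, hb1, hb2⟩), Subtype.ext ?_⟩
      simp only
      group
  have hTC := card_conj_mul_card_centralizer z
  rw [cardK (s * z) (hsz.mul_left (Commute.refl z)), cardK s hsz, ← hTC, hA]
  ring

end Cfsg.Agent.S1186
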