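import Cfsg.Statements.S1187
import Mathlib
import Cfsg.Agent.Lib.Helper2.ZS12

set_option autoImplicit false
open Cfsg

namespace Cfsg.Agent.S1187

open Cfsg.Agent.Lib.Helper2.ZS Cfsg.Agent.Lib.Lead

/-- Let z be an isolated involution of the finite group G and p a prime. If Q is a p-subgroup normalized by z that is maximal among p-subgroups normalized by z, then Q is a Sylow p-subgroup of G. -/
theorem result {G : Type*} [Group G] [Finite G] (z : G) (hz : Cfsg.IsIsolatedInvolution z) {p : ℕ} [Fact p.Prime] (Q : Subgroup G) (hQ : IsPGroup p Q) (hzQ : z ∈ Subgroup.normalizer (Q : Set G)) (hmax : ∀ R : Subgroup G, IsPGroup p R → z ∈ Subgroup.normalizer (R : Set G) → Q ≤ R → R = Q) : ∃ P : Sylow p G, (P : Subgroup G) = Q := by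
  classical
  have hp : Fact p.Prime := inferInstance
  have hzi : z⁻¹ = z := invol_inv hz.1
  have hzz : z * z = 1 := by
    have := mul_inv_cancel z
    rwa [hzi] at this
  have hnorm : ∀ H : Subgroup G, (∀ x ∈ H, z * x * z⁻¹ ∈ H) →
      z ∈ Subgroup.normalizer (H : Set G) := by
    intro H h
    rw [Subgroup.mem_normalizer_iff]
    intro x
    constructor
    · exact h x
    · intro hx
      have h1 := h _ hx
      have e : z * (z * x * z⁻¹) * z⁻¹ = x := by
        rw [hzi]
        calc z * (z * x * z) * z = (z * z) * x * (z * z) := by group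
          _ = x := by rw [hzz]; simp
      rwa [e] at h1
  by_cases hp2 : p = 2
  · subst hp2
    have hzp : IsPGroup 2 (Subgroup.zpowers z) :=
      IsPGroup.of_card (n := 1) (by rw [Nat.card_zpowers, hz.1, pow_one])
    have hzle : Subgroup.zpowers z ≤ Subgroup.normalizer (Q : Set G) :=
      (Subgroup.zpowers_le).mpr hzQ
    have hR : IsPGroup 2 (Q ⊔ Subgroup.zpowers z : Subgroup G) :=
      IsPGroup.to_sup_of_normal_left' hQ hzp hzle
    have hzR : z ∈ Subgroup.normalizer ((Q ⊔ Subgroup.zpowers z : Subgroup G) : Set G) :=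
      Subgroup.le_normalizer (Subgroup.mem_sup_right (Subgroup.mem_zpowers z))
    have hRQ := hmax _ hR hzR le_sup_left
    have hzQ' : z ∈ Q := by
      rw [← hRQ]; exact Subgroup.mem_sup_right (Subgroup.mem_zpowers z)
    obtain ⟨P, hQP⟩ := hQ.exists_le_sylow
    have hzP : z ∈ Subgroup.normalizer ((P : Subgroup G) : Set G) := by
      apply Subgroup.centralizer_le_normalizer
      rw [Subgroup.mem_centralizer_iff]
      intro h hh
      have h1 := isolated_sylow hz P (hQP hzQ') h
        ((P : Subgroup G).mul_mem ((P : Subgroup G).mul_mem hh (hQP hzQ'))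
          ((P : Subgroup G).inv_mem hh))
      calc h * z = h * z * h⁻¹ * h := by group
        _ = z * h := by rw [h1]
    exact ⟨P, hmax P P.2 hzP hQP⟩
  · by_contra hcon
    obtain ⟨P, hQP⟩ := hQ.exists_le_sylow
    obtain ⟨n, hn⟩ := IsPGroup.iff_card.mp hQ
    have hlt : Q ≠ (P : Subgroup G) := fun h => hcon ⟨P, h.symm⟩
    have hdvd : p ^ (n + 1) ∣ Nat.card G := by
      obtain ⟨m, hm⟩ := IsPGroup.iff_card.mp P.2
      have h1 : Nat.card Q < Nat.card (P : Subgroup G) := by
        by_contra h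
        exact hlt (Subgroup.eq_of_le_of_card_ge hQP (not_lt.mp h))
      rw [hn, hm] at h1
      have h2 : n < m := (Nat.pow_lt_pow_iff_right hp.out.one_lt).mp h1
      have h3 : p ^ (n + 1) ∣ p ^ m := pow_dvd_pow p h2
      rw [← hm] at h3
      exact h3.trans (Subgroup.card_subgroup_dvd_card _)
    have h1 := Sylow.prime_dvd_card_quotient_normalizer hdvd hn
    set L := Subgroup.normalizer (Q : Set G) with hL
    set Qt : Subgroup L := Q.comap L.subtype with hQt
    have hQtn : Qt.Normal := Subgroup.normal_in_normalizer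
    set zL : L := ⟨z, hzQ⟩ with hzL
    have hzLiso : Cfsg.IsIsolatedInvolution zL := isolated_subgroup hz L hzQ
    have hzLQ : zL ∉ Qt := by
      intro h
      have h' : z ∈ Q := h
      obtain ⟨k, hk⟩ := hQ ⟨z, h'⟩
      have hk' : z ^ p ^ k = 1 := by simpa using congrArg Subtype.val hk
      have h2 : orderOf z ∣ p ^ k := orderOf_dvd_of_pow_eq_one hk'
      rw [hz.1] at h2
      have h3 : 2 ∣ p := Nat.Prime.dvd_of_dvd_pow Nat.prime_two h2
      exact hp2 ((Nat.prime_dvd_prime_iff_eq Nat.prime_two hp.out).mp h3).symm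
    obtain ⟨hcen, hiso⟩ := Cfsg.Agent.S1181.result zL hzLiso Qt hzLQ
    obtain ⟨Rb, hRbp, hRbne, hRbz⟩ :=
      exists_invariant_psubgroup (QuotientGroup.mk zL : L ⧸ Qt) hiso h1
    set R' := Rb.comap (QuotientGroup.mk' Qt) with hR'
    set R := R'.map L.subtype with hR
    have hRp : IsPGroup p R := by
      apply IsPGroup.map
      apply hRbp.comap_of_ker_isPGroup
      rw [QuotientGroup.ker_mk']
      exact hQ.comap_subtype
    have hQR : Q ≤ R := by
      intro q hq
      refine ⟨⟨q, Subgroup.le_normalizer hq⟩, ?_, rfl⟩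
      show (QuotientGroup.mk' Qt) ⟨q, Subgroup.le_normalizer hq⟩ ∈ Rb
      have h2 : (QuotientGroup.mk' Qt) ⟨q, Subgroup.le_normalizer hq⟩ = 1 :=
        (QuotientGroup.eq_one_iff _).mpr hq
      rw [h2]; exact Subgroup.one_mem _
    have hzR : z ∈ Subgroup.normalizer (R : Set G) := by
      apply hnorm
      rintro _ ⟨l, hl, rfl⟩
      refine ⟨zL * l * zL⁻¹, ?_, rfl⟩
      show (QuotientGroup.mk' Qt) (zL * l * zL⁻¹) ∈ Rb
      rw [map_mul, map_mul, map_inv]
      exact (Subgroup.mem_normalizer_iff.mp hRbz _).mp hl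
    have hRQ := hmax R hRp hzR hQR
    apply hRbne
    rw [eq_bot_iff]
    intro x hx
    obtain ⟨l, rfl⟩ := QuotientGroup.mk'_surjective Qt x
    have hl : (l : G) ∈ R := ⟨l, hx, rfl⟩
    rw [hRQ] at hl
    rw [Subgroup.mem_bot]
    exact (QuotientGroup.eq_one_iff l).mpr hl

end Cfsg.Agent.S1187
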