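import Mathlib
import Cfsg.Statements.S1189
import Cfsg.Agent.Lib.Lead.QDCore2

set_option autoImplicit false

open Cfsg

namespace Cfsg.Agent.S1189

theorem result {S : Type*} [Group S] [Finite S] (hS : Cfsg.IsQuasiDihedral S) : Nat.card {C : ConjClasses S // ∃ t : S, orderOf t = 2 ∧ ConjClasses.mk t = C} = 2 ∧ Nat.card {C : ConjClasses S // ∃ t : S, orderOf t = 4 ∧ ConjClasses.mk t = C} = 2 := by
  classical
  obtain ⟨n, x, y, hq⟩ := Cfsg.Agent.Lib.Lead.QDCore.exists_QD hS
  open Cfsg.Agent.Lib.Lead.QDCore Cfsg.Agent.Lib.Lead.QDArith in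
  constructor
  · -- involutions
    have hA : {C : ConjClasses S | ∃ t : S, orderOf t = 2 ∧ ConjClasses.mk t = C} =
        {ConjClasses.mk (r n x (hh n)), ConjClasses.mk y} := by
      ext C
      simp only [Set.mem_setOf_eq, Set.mem_insert_iff, Set.mem_singleton_iff]
      constructor
      · rintro ⟨t, ht, rfl⟩
        rcases hq.involution_cases ht with h | ⟨i, hi, h⟩
        · left; rw [h]
        · right
          rw [h, ConjClasses.mk_eq_mk_iff_isConj]
          exact (hq.isConj_s_even hi).symm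
      · rintro (rfl | rfl)
        · exact ⟨_, hq.orderOf_rh, rfl⟩
        · exact ⟨_, hq.oy, rfl⟩
    have hne : ConjClasses.mk (r n x (hh n)) ≠ ConjClasses.mk y := by
      rw [Ne, ConjClasses.mk_eq_mk_iff_isConj]
      have := hq.not_isConj_r_s (hh n) 0
      rwa [hq.s_zero] at this
    show Nat.card ↥({C : ConjClasses S | ∃ t : S, orderOf t = 2 ∧ ConjClasses.mk t = C}) = 2
    rw [Nat.card_coe_set_eq, hA, Set.ncard_pair hne]
  · have hA : {C : ConjClasses S | ∃ t : S, orderOf t = 4 ∧ ConjClasses.mk t = C} =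
        {ConjClasses.mk (r n x (qq n)), ConjClasses.mk (s n x y 1)} := by
      ext C
      simp only [Set.mem_setOf_eq, Set.mem_insert_iff, Set.mem_singleton_iff]
      constructor
      · rintro ⟨t, ht, rfl⟩
        rcases hq.order4_cases ht with h | h | ⟨i, hi, h⟩
        · left; rw [h]
        · left
          rw [h, ConjClasses.mk_eq_mk_iff_isConj]
          exact hq.isConj_rq.symm
        · right
          rw [h, ConjClasses.mk_eq_mk_iff_isConj]
          exact (hq.isConj_s_odd hi).symm
      · rintro (rfl | rfl)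
        · exact ⟨_, hq.orderOf_rq, rfl⟩
        · exact ⟨_, hq.orderOf_s_odd odd_one, rfl⟩
    have hne : ConjClasses.mk (r n x (qq n)) ≠ ConjClasses.mk (s n x y 1) := by
      rw [Ne, ConjClasses.mk_eq_mk_iff_isConj]
      exact hq.not_isConj_r_s (qq n) 1
    show Nat.card ↥({C : ConjClasses S | ∃ t : S, orderOf t = 4 ∧ ConjClasses.mk t = C}) = 2
    rw [Nat.card_coe_set_eq, hA, Set.ncard_pair hne]

end Cfsg.Agent.S1189
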