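import Cfsg.Statements.S1191
import Mathlib
import Cfsg.Agent.Lib.Helper2.QDQuat

set_option autoImplicit false
open Cfsg

namespace Cfsg.Agent.S1191

open Cfsg.Agent.Lib.Lead.QDCore Cfsg.Agent.Lib.Helper2.QDQuat

/-- In a quasi-dihedral 2-group S, any two subgroups isomorphic to the quaternion group of order 8 are conjugate, and each such subgroup Q satisfies C_S(Q) = Z(Q) and |N_S(Q) : Q| = 2. -/
theorem result {S : Type*} [Group S] [Finite S] (hS : Cfsg.IsQuasiDihedral S) : (∀ Q₁ Q₂ : Subgroup S, Nonempty (Q₁ ≃* QuaternionGroup 2) → Nonempty (Q₂ ≃* QuaternionGroup 2) → ∃ s : S, Q₁.map (MulAut.conj s).toMonoidHom = Q₂) ∧ (∀ Q : Subgroup S, Nonempty (Q ≃* QuaternionGroup 2) → Subgroup.centralizer (Q : Set S) = (Subgroup.center Q).map Q.subtype ∧ Q.relIndex (Subgroup.normalizer (Q : Set S)) = 2) := by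
  obtain ⟨n, x, y, hq⟩ := exists_QD hS
  constructor
  · rintro Q₁ Q₂ ⟨e₁⟩ ⟨e₂⟩
    obtain ⟨k₁, hk₁, hr₁, hs₁⟩ := quat_struct hq Q₁ (quat_card Q₁ e₁) (quat_unique_invol Q₁ e₁)
      (quat_noncomm Q₁ e₁)
    obtain ⟨k₂, hk₂, hr₂, hs₂⟩ := quat_struct hq Q₂ (quat_card Q₂ e₂) (quat_unique_invol Q₂ e₂)
      (quat_noncomm Q₂ e₂)
    exact quat_conj hq Q₁ Q₂ k₁ k₂ hk₁ hk₂ hr₁ hs₁ hr₂ hs₂
  · rintro Q ⟨e⟩
    obtain ⟨k, hk, hr, hs⟩ := quat_struct hq Q (quat_card Q e) (quat_unique_invol Q e)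
      (quat_noncomm Q e)
    exact ⟨quat_centralizer hq Q k hk hr hs, quat_relIndex hq Q k hr hs⟩

end Cfsg.Agent.S1191
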