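import Mathlib
import Cfsg.Statements.S1192
import Cfsg.Agent.Lib.Lead.QDIso

set_option autoImplicit false

open Cfsg

namespace Cfsg.Agent.S1192

theorem result {S : Type*} [Group S] [Finite S] (hS : Cfsg.IsQuasiDihedral S) (n : ℕ) (hn : Nat.card S = 2 ^ (n + 1)) : ∃ M₁ M₂ M₃ : Subgroup S, IsCoatom M₁ ∧ IsCoatom M₂ ∧ IsCoatom M₃ ∧ M₁ ≠ M₂ ∧ M₁ ≠ M₃ ∧ M₂ ≠ M₃ ∧ (∀ M : Subgroup S, IsCoatom M → M = M₁ ∨ M = M₂ ∨ M = M₃) ∧ IsCyclic M₁ ∧ Nonempty (M₂ ≃* QuaternionGroup (2 ^ (n - 2))) ∧ Nonempty (M₃ ≃* DihedralGroup (2 ^ (n - 1))) := by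
  classical
  obtain ⟨n₀, x, y, hq⟩ := Cfsg.Agent.Lib.Lead.QDCore.exists_QD hS
  have hnn : n = n₀ := by
    have h1 := hq.card
    rw [hn] at h1
    have := Nat.pow_right_injective (le_refl 2) h1
    omega
  subst hnn
  refine ⟨Subgroup.zpowers x, hq.Q, hq.D,
    Cfsg.Agent.Lib.Lead.QDCore.isCoatom_of_index_two hq.index_zpowers,
    Cfsg.Agent.Lib.Lead.QDCore.isCoatom_of_index_two hq.index_Q,
    Cfsg.Agent.Lib.Lead.QDCore.isCoatom_of_index_two hq.index_D,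
    hq.zpowers_ne_Q, hq.zpowers_ne_D, hq.D_ne_Q.symm, ?_, inferInstance, hq.Q_iso, hq.D_iso⟩
  intro M hM
  rcases hq.coatom_cases M hM with h | h | h
  · exact Or.inl h
  · exact Or.inr (Or.inr h)
  · exact Or.inr (Or.inl h)

end Cfsg.Agent.S1192
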