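import Mathlib
import Cfsg.Statements.S1194
import Cfsg.Agent.Lib.Lead.QDSub

set_option autoImplicit false

open Cfsg

namespace Cfsg.Agent.S1194

theorem result {S : Type*} [Group S] [Finite S] (hS : Cfsg.IsQuasiDihedral S) (N : Subgroup S) [N.Normal] (hN : N ≠ ⊤) : IsCoatom N ∨ (IsCyclic N ∧ N ≤ commutator S) := by
  classical
  obtain ⟨n, x, y, hq⟩ := Cfsg.Agent.Lib.Lead.QDCore.exists_QD hS
  open Cfsg.Agent.Lib.Lead.QDCore Cfsg.Agent.Lib.Lead.QDArith in
  by_cases hs : ∃ i, s n x y i ∈ N
  · left
    obtain ⟨i, hi⟩ := hs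
    have hsj : ∀ j, Even (j - i) → s n x y j ∈ N := by
      intro j hj
      obtain ⟨k, hk⟩ := exists_shift hq.hn hj
      have h1 := (inferInstance : N.Normal).conj_mem _ hi (r n x k)
      rw [hq.r_conj_s, hk] at h1
      have : i + (j - i) = j := by ring
      rwa [this] at h1
    have hre : ∀ e, Even e → r n x e ∈ N := by
      intro e he
      have h1 : s n x y (e - mm n * i) ∈ N := by
        apply hsj
        have : e - mm n * i - i = e - i * hh n := by rw [← one_add_mm]; ring
        rw [this]
        exact he.sub (even_mul_left i (even_hh hq.n2))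
      have h2 := N.mul_mem h1 hi
      rw [hq.s_mul_s] at h2
      have : e - mm n * i + mm n * i = e := by ring
      rwa [this] at h2
    rcases even_or_odd i with hie | hio
    · have hD : hq.D ≤ N := by
        rintro g ⟨j, hj, rfl | rfl⟩
        · exact hre j hj
        · exact hsj j (hj.sub hie)
      have hDc := isCoatom_of_index_two hq.index_D
      have : hq.D = N := by
        by_contra hne
        exact hN (hDc.2 N (lt_of_le_of_ne hD hne))
      rw [← this]; exact hDc
    · have hQ : hq.Q ≤ N := by
        intro g hg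
        rcases hq.exists_rep g with ⟨j, rfl⟩ | ⟨j, rfl⟩
        · exact hre j ((hq.mem_Q_r j).1 hg)
        · apply hsj
          have hj := (hq.mem_Q_s j).1 hg
          obtain ⟨a, rfl⟩ := hj
          obtain ⟨b, rfl⟩ := hio
          exact ⟨a - b, by ring⟩
      have hQc := isCoatom_of_index_two hq.index_Q
      have : hq.Q = N := by
        by_contra hne
        exact hN (hQc.2 N (lt_of_le_of_ne hQ hne))
      rw [← this]; exact hQc
  · push_neg at hs
    have hNX : N ≤ Subgroup.zpowers x := by
      intro g hg
      rcases hq.exists_rep g with ⟨i, rfl⟩ | ⟨i, rfl⟩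
      · exact hq.r_mem i
      · exact absurd hg (hs i)
    by_cases ho : ∃ i, Odd i ∧ r n x i ∈ N
    · left
      obtain ⟨i, hi, hiN⟩ := ho
      have hx : x ∈ N := by
        have h1 : Subgroup.zpowers (r n x i) ≤ N := by
          rw [Subgroup.zpowers_le]; exact hiN
        exact h1 (hq.x_mem_zpowers_of_odd hi)
      have : N = Subgroup.zpowers x := le_antisymm hNX (by rw [Subgroup.zpowers_le]; exact hx)
      rw [this]
      exact isCoatom_of_index_two hq.index_zpowers
    · right
      push_neg at ho
      refine ⟨Subgroup.isCyclic_of_le hNX, ?_⟩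
      rw [hq.commutator_eq]
      intro g hg
      obtain ⟨i, rfl⟩ := hq.exists_r_of_mem (hNX hg)
      rw [hq.mem_R2_iff]
      refine ⟨i, ?_, rfl⟩
      by_contra hne
      exact ho i ((odd_iff_not_even hq.n1 i).2 hne) hg

end Cfsg.Agent.S1194
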