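import Mathlib
import Cfsg.Statements.S1196
import Cfsg.Agent.Lib.Lead.WR1196

set_option autoImplicit false

open Cfsg

namespace Cfsg.Agent.S1196

theorem result {S : Type*} [Group S] [Finite S] (hS : Cfsg.IsWreathed S) (n : ℕ) (hn : Nat.card S = 2 ^ (2 * n + 1)) : (∃! U : Subgroup S, IsMulCommutative U ∧ Nat.card U = 2 ^ (2 * n)) ∧ ∀ U : Subgroup S, IsMulCommutative U → Nat.card U = 2 ^ (2 * n) → Nonempty (U ≃* Multiplicative (ZMod (2 ^ n) × ZMod (2 ^ n))) := by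
  exact Cfsg.Agent.Lib.Lead.WRCore.s1196 hS n hn

end Cfsg.Agent.S1196
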