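import Mathlib
import Cfsg.Statements.S1198
import Cfsg.Agent.Lib.Lead.WR1198

set_option autoImplicit false

open Cfsg

namespace Cfsg.Agent.S1198

theorem result {S : Type*} [Group S] [Finite S] (hS : Cfsg.IsWreathed S) : ∃ T : Subgroup S, IsKleinFour T ∧ T.Normal ∧ (∃ T₀ : Subgroup S, IsKleinFour T₀ ∧ T₀ ≠ T) ∧ ∀ T₁ T₂ : Subgroup S, IsKleinFour T₁ → IsKleinFour T₂ → T₁ ≠ T → T₂ ≠ T → ∃ s : S, T₁.map (MulAut.conj s).toMonoidHom = T₂ := by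
  exact Cfsg.Agent.Lib.Lead.WRCore.s1198 hS

end Cfsg.Agent.S1198
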