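import Mathlib
import Cfsg.Statements.S1199
import Cfsg.Agent.Lib.Lead.WR1199

set_option autoImplicit false

open Cfsg

namespace Cfsg.Agent.S1199

theorem result {S : Type*} [Group S] [Finite S] (hS : Cfsg.IsWreathed S) (n : ℕ) (hn : Nat.card S = 2 ^ (2 * n + 1)) : (∃! Y : Subgroup S, Nat.card Y = 2 ^ (n + 1) ∧ Nonempty (Y ≃* QuaternionGroup (2 ^ (n - 1)))) ∧ ∀ Y : Subgroup S, Nat.card Y = 2 ^ (n + 1) → Nonempty (Y ≃* QuaternionGroup (2 ^ (n - 1))) → Y.Normal := by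
  exact Cfsg.Agent.Lib.Lead.WRCore.s1199 hS n hn

end Cfsg.Agent.S1199
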