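import Cfsg.Statements.S1202
import Mathlib
import Cfsg.Agent.Lib.Helper2.WRC

set_option autoImplicit false
open Cfsg

namespace Cfsg.Agent.S1202

open Cfsg.Agent.Lib.Lead.WRCore Cfsg.Agent.Lib.Helper2.WRA Cfsg.Agent.Lib.Helper2.WRB Cfsg.Agent.Lib.Helper2.WRC

/-- Let S be a wreathed 2-group of order 2^(2n+1) and X a subgroup with C_S(X) ≤ X such that Aut(X) is not a 2-group. Then |N_S(X) : X| = 2, and either X is the commutative subgroup of order 2^(2n), or X = Q·Z(S) for some subgroup Q ≅ Q₈; in the latter case any two such subgroups are conjugate in S. -/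
theorem result {S : Type*} [Group S] [Finite S] (hS : Cfsg.IsWreathed S) (n : ℕ) (hn : Nat.card S = 2 ^ (2 * n + 1)) (X : Subgroup S) (hC : Subgroup.centralizer (X : Set S) ≤ X) (hA : ¬ IsPGroup 2 (MulAut X)) : X.relIndex (Subgroup.normalizer (X : Set S)) = 2 ∧ ((IsMulCommutative X ∧ Nat.card X = 2 ^ (2 * n)) ∨ ∃ Q : Subgroup S, Nonempty (Q ≃* QuaternionGroup 2) ∧ X = Q ⊔ Subgroup.center S) ∧ ∀ X' : Subgroup S, Subgroup.centralizer (X' : Set S) ≤ X' → ¬ IsPGroup 2 (MulAut X') → ¬ IsMulCommutative X → ¬ IsMulCommutative X' → ∃ s : S, X.map (MulAut.conj s).toMonoidHom = X' := by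
      obtain ⟨m, x, y, z, hw⟩ := exists_WR hS
      obtain rfl := hw.n_eq hn
      have key : ∀ X' : Subgroup S, Subgroup.centralizer (X' : Set S) ≤ X' →
          ¬ IsPGroup 2 (MulAut X') → X' = hw.A ∨ ∃ d, Even d ∧ X' = Vd hw d := by
        intro X' hC' hA'
        obtain ⟨α, hodd, hne⟩ := exists_odd_of_not_isPGroup hA'
        exact centric_classify hw X' hC' α (orderOf α) hodd (pow_orderOf_eq_one α) hne
      rcases key X hC hA with rfl | ⟨d, ⟨r, rfl⟩, rfl⟩
      · refine ⟨?_, Or.inl ⟨hw.A_comm, hw.card_A⟩, ?_⟩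
        · haveI := hw.A_normal
          rw [Subgroup.normalizer_eq_top, Subgroup.relIndex_top_right]
          exact hw.index_A
        · intro X' _ _ hnc
          exact absurd hw.A_comm hnc
      · refine ⟨relIndex_normalizer_Vd hw _, Or.inr ⟨Qd hw (r + r), Qd_quat hw r, Vd_eq_sup hw r⟩, ?_⟩
        intro X' hC' hA' _ hnc'
        rcases key X' hC' hA' with rfl | ⟨d', ⟨r', rfl⟩, rfl⟩
        · exact absurd hw.A_comm hnc'
        · refine ⟨a n x y (r' - r) 0, ?_⟩
          rw [map_conj_Vd]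
          congr 1
          ring

end Cfsg.Agent.S1202
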