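import Cfsg.Statements.S1205
import Mathlib
import Cfsg.Agent.Lib.Helper2.QDFusD

set_option autoImplicit false
open Cfsg

namespace Cfsg.Agent.S1205

open Cfsg.Agent.Lib.Lead.QDCore Cfsg.Agent.Lib.Helper2.QDFusA Cfsg.Agent.Lib.Helper2.QDFusB Cfsg.Agent.Lib.Helper2.QDFusC Cfsg.Agent.Lib.Helper2.QDFusD

/-- Let G be a finite group with quasi-dihedral Sylow 2-subgroup S, T a Klein four-subgroup and Q a quaternion subgroup of order 8 of S, with |N_G(T) : C_G(T)| = 2 and |N_G(Q) : Q C_G(Q)| = 6. Then G has a normal subgroup K of index 2 whose Sylow 2-subgroups are generalized quaternion and which has no subgroup of index 2; the centre of S is weakly closed in S; and G has exactly two classes of involutions and one class of elements of order 4. -/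
theorem result {G : Type*} [Group G] [Finite G] (S : Sylow 2 G) (hS : Cfsg.IsQuasiDihedral (S : Subgroup G)) (T : Subgroup G) (hT : IsKleinFour T) (hTS : T ≤ S) (Q : Subgroup G) (hQS : Q ≤ S) (eQ : Q ≃* QuaternionGroup 2) (h₁ : (Subgroup.centralizer (T : Set G)).relIndex (Subgroup.normalizer (T : Set G)) = 2) (h₂ : (Q ⊔ Subgroup.centralizer (Q : Set G)).relIndex (Subgroup.normalizer (Q : Set G)) = 6) : (∃ K : Subgroup G, K.Normal ∧ K.index = 2 ∧ (∀ P : Sylow 2 ↥K, ∃ m : ℕ, 1 ≤ m ∧ Nonempty ((P : Subgroup ↥K) ≃* QuaternionGroup (2 ^ m))) ∧ (∀ H : Subgroup ↥K, H.index ≠ 2)) ∧ Cfsg.IsWeaklyClosed ((Subgroup.center (S : Subgroup G)).map (S : Subgroup G).subtype) (S : Subgroup G) ∧ Nat.card {C : ConjClasses G // ∃ t : G, orderOf t = 2 ∧ ConjClasses.mk t = C} = 2 ∧ Nat.card {C : ConjClasses G // ∃ t : G, orderOf t = 4 ∧ ConjClasses.mk t = C} = 1 := by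
    obtain ⟨n, x, y, hq⟩ := exists_QD hS
    haveI := hT
    have hE := no_fus_even_of_two S hq T hTS h₁
    have hB := isConj_v_s1_of_six S hq Q hQS eQ h₂
    obtain ⟨K, hKn, hK2, hKQ⟩ := exists_K_Q S hq hE
    refine ⟨⟨K, hKn, hK2, ?_, ?_⟩, center_weaklyClosed S hq hE, card_invol_classes_two S hq hE,
      card_order4_classes_one S hq hB⟩
    · intro P
      obtain ⟨e1⟩ := sylow_equiv_of_inf S K hq.Q hKQ P
      obtain ⟨e2⟩ := hq.Q_iso
      exact ⟨n - 2, by have := hq.hn; omega, ⟨e1.trans e2⟩⟩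
    · exact no_index_two_K_Q S hq K hK2 hKQ Q hQS eQ h₂

end Cfsg.Agent.S1205
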