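import Cfsg.Statements.S1206
import Mathlib
import Cfsg.Agent.Lib.Helper2.QDFusD

set_option autoImplicit false
open Cfsg

namespace Cfsg.Agent.S1206

open Cfsg.Agent.Lib.Lead.QDCore Cfsg.Agent.Lib.Helper2.QDFusA Cfsg.Agent.Lib.Helper2.QDFusB Cfsg.Agent.Lib.Helper2.QDFusC Cfsg.Agent.Lib.Helper2.QDFusD

/-- Let G be a finite group with quasi-dihedral Sylow 2-subgroup S, T a Klein four-subgroup and Q a quaternion subgroup of order 8 of S, with |N_G(T) : C_G(T)| = 6 and |N_G(Q) : Q C_G(Q)| = 2. Then G has a normal subgroup K of index 2 whose Sylow 2-subgroups are dihedral and which has no subgroup of index 2, and G has exactly one class of involutions and two classes of elements of order 4. -/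
theorem result {G : Type*} [Group G] [Finite G] (S : Sylow 2 G) (hS : Cfsg.IsQuasiDihedral (S : Subgroup G)) (T : Subgroup G) (hT : IsKleinFour T) (hTS : T ≤ S) (Q : Subgroup G) (hQS : Q ≤ S) (eQ : Q ≃* QuaternionGroup 2) (h₁ : (Subgroup.centralizer (T : Set G)).relIndex (Subgroup.normalizer (T : Set G)) = 6) (h₂ : (Q ⊔ Subgroup.centralizer (Q : Set G)).relIndex (Subgroup.normalizer (Q : Set G)) = 2) : (∃ K : Subgroup G, K.Normal ∧ K.index = 2 ∧ (∀ P : Sylow 2 ↥K, ∃ m : ℕ, Nonempty ((P : Subgroup ↥K) ≃* DihedralGroup m)) ∧ (∀ H : Subgroup ↥K, H.index ≠ 2)) ∧ Nat.card {C : ConjClasses G // ∃ t : G, orderOf t = 2 ∧ ConjClasses.mk t = C} = 1 ∧ Nat.card {C : ConjClasses G // ∃ t : G, orderOf t = 4 ∧ ConjClasses.mk t = C} = 2 := by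
    obtain ⟨n, x, y, hq⟩ := exists_QD hS
    haveI := hT
    have hA := isConj_z_y_of_six S hq T hTS h₁
    have hO := no_fus_odd_of_two S hq Q hQS eQ h₂
    obtain ⟨K, hKn, hK2, hKD⟩ := exists_K_D S hq hO
    refine ⟨⟨K, hKn, hK2, ?_, ?_⟩, card_invol_classes_one S hq hA,
      card_order4_classes_two S hq hO⟩
    · intro P
      obtain ⟨e1⟩ := sylow_equiv_of_inf S K hq.D hKD P
      obtain ⟨e2⟩ := hq.D_iso
      exact ⟨2 ^ (n - 1), ⟨e1.trans e2⟩⟩
    · exact no_index_two_K_D S hq K hK2 hKD T hTS h₁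

end Cfsg.Agent.S1206
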