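import Cfsg.Statements.S1207
import Mathlib
import Cfsg.Agent.Lib.Helper2.QDFusD

set_option autoImplicit false
open Cfsg

namespace Cfsg.Agent.S1207

open Cfsg.Agent.Lib.Lead.QDCore Cfsg.Agent.Lib.Helper2.QDFusA Cfsg.Agent.Lib.Helper2.QDFusB Cfsg.Agent.Lib.Helper2.QDFusC Cfsg.Agent.Lib.Helper2.QDFusD

/-- Let G be a finite group with quasi-dihedral Sylow 2-subgroup S, T a Klein four-subgroup and Q a quaternion subgroup of order 8 of S, with |N_G(T) : C_G(T)| = 2 and |N_G(Q) : Q C_G(Q)| = 2. Then G has a normal 2-complement, exactly two classes of involutions and exactly two classes of elements of order 4. -/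
theorem result {G : Type*} [Group G] [Finite G] (S : Sylow 2 G) (hS : Cfsg.IsQuasiDihedral (S : Subgroup G)) (T : Subgroup G) (hT : IsKleinFour T) (hTS : T ≤ S) (Q : Subgroup G) (hQS : Q ≤ S) (eQ : Q ≃* QuaternionGroup 2) (h₁ : (Subgroup.centralizer (T : Set G)).relIndex (Subgroup.normalizer (T : Set G)) = 2) (h₂ : (Q ⊔ Subgroup.centralizer (Q : Set G)).relIndex (Subgroup.normalizer (Q : Set G)) = 2) : Cfsg.HasNormalPComplement 2 G ∧ Nat.card {C : ConjClasses G // ∃ t : G, orderOf t = 2 ∧ ConjClasses.mk t = C} = 2 ∧ Nat.card {C : ConjClasses G // ∃ t : G, orderOf t = 4 ∧ ConjClasses.mk t = C} = 2 := by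
    obtain ⟨n, x, y, hq⟩ := exists_QD hS
    haveI := hT
    have hE := no_fus_even_of_two S hq T hTS h₁
    have hO := no_fus_odd_of_two S hq Q hQS eQ h₂
    have hctl := controlsOwnFusion_of_no_fus S hq hE hO
    obtain ⟨N, hNn, hN⟩ := Cfsg.Agent.Lib.Helper1.normal_complement_of_controlsOwnFusion S hctl
    exact ⟨⟨S, N, hNn, hN⟩, card_invol_classes_two S hq hE, card_order4_classes_two S hq hO⟩

end Cfsg.Agent.S1207
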