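import Cfsg.Statements.S1214
import Mathlib
import Cfsg.Agent.Lib.Helper6.ABGGlue
import Cfsg.Agent.Lib.Helper2.QDFusE
import Cfsg.Agent.Lib.Helper2.WRK

set_option autoImplicit false
open Cfsg

namespace Cfsg.Agent.S1214

open scoped Pointwise

theorem sylow_quot_equiv {G : Type*} [Group G] [Finite G] (S : Sylow 2 G)
    (P : Sylow 2 (G ⧸ Cfsg.oddCore G)) :
    Nonempty (↥(S : Subgroup G) ≃* ↥(P : Subgroup (G ⧸ Cfsg.oddCore G))) := by
  classical
  haveI : Fact (Nat.Prime 2) := ⟨Nat.prime_two⟩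
  have hsurj : Function.Surjective (QuotientGroup.mk' (Cfsg.oddCore G)) :=
    QuotientGroup.mk'_surjective _
  have hinj : Function.Injective ((QuotientGroup.mk' (Cfsg.oddCore G)).subgroupMap
      (S : Subgroup G)) := by
    rw [injective_iff_map_eq_one]
    intro s hs
    have h1 : (s : G) ∈ Cfsg.oddCore G := by
      have h := congrArg Subtype.val hs
      rw [MonoidHom.subgroupMap_apply_coe, Subgroup.coe_one] at h
      exact (QuotientGroup.eq_one_iff _).1 h
    obtain ⟨k, hk⟩ := (IsPGroup.iff_orderOf.1 S.isPGroup') s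
    have hdvd : orderOf (s : G) ∣ Nat.card (Cfsg.oddCore G) := by
      have h := orderOf_dvd_natCard (⟨(s : G), h1⟩ : ↥(Cfsg.oddCore G))
      rwa [← Subgroup.orderOf_coe] at h
    rw [Subgroup.orderOf_coe, hk] at hdvd
    have hcop : (Nat.card (Cfsg.oddCore G)).Coprime 2 :=
      Cfsg.Agent.Lib.Helper1.pPrimeCore_card_coprime 2
    have h2k : 2 ^ k = 1 := (Nat.Coprime.pow_left k hcop.symm).eq_one_of_dvd hdvd
    rw [h2k] at hk
    exact orderOf_eq_one_iff.1 hk
  let e1 : ↥(S : Subgroup G) ≃* ↥((S : Subgroup G).map (QuotientGroup.mk' (Cfsg.oddCore G))) :=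
    MulEquiv.ofBijective _ ⟨hinj, MonoidHom.subgroupMap_surjective _ _⟩
  obtain ⟨g, hg⟩ := MulAction.exists_smul_eq (G ⧸ Cfsg.oddCore G)
    (Sylow.mapSurjective hsurj S) P
  have hcoe : (P : Subgroup (G ⧸ Cfsg.oddCore G)) =
      MulAut.conj g • (S : Subgroup G).map (QuotientGroup.mk' (Cfsg.oddCore G)) := by
    rw [← hg, Sylow.coe_subgroup_smul, Sylow.coe_mapSurjective]
  let e2 := Subgroup.equivSMul (MulAut.conj g)
    ((S : Subgroup G).map (QuotientGroup.mk' (Cfsg.oddCore G)))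
  exact ⟨(e1.trans e2).trans (MulEquiv.subgroupCongr hcoe.symm)⟩


/-- Let G be a finite group with quasi-dihedral or wreathed Sylow 2-subgroups and no subgroup of index 2. Then G/O(G), the quotient by the largest normal subgroup of odd order, has a normal subgroup of odd index which is a non-abelian simple group. -/
theorem result {G : Type*} [Group G] [Finite G] (S : Sylow 2 G) (hS : Cfsg.IsQuasiDihedral (S : Subgroup G) ∨ Cfsg.IsWreathed (S : Subgroup G)) (hG : ∀ H : Subgroup G, H.index ≠ 2) : ∃ L : Subgroup (G ⧸ Cfsg.oddCore G), L.Normal ∧ Odd L.index ∧ IsSimpleGroup L ∧ ¬ IsMulCommutative L := by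
  classical
  haveI : Fact (Nat.Prime 2) := ⟨Nat.prime_two⟩
  have hO : Cfsg.oddCore (G ⧸ Cfsg.oddCore G) = ⊥ :=
    Cfsg.Agent.Lib.Helper1.pPrimeCore_quotient_eq_bot 2
  have h2 : ∀ H : Subgroup (G ⧸ Cfsg.oddCore G), H.index ≠ 2 := by
    intro H hH
    apply hG (H.comap (QuotientGroup.mk' (Cfsg.oddCore G)))
    rw [Subgroup.index_comap_of_surjective _ (QuotientGroup.mk'_surjective _)]
    exact hH
  have hconjG : ∀ s t : G, orderOf s = 2 → orderOf t = 2 → IsConj s t := by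
    intro s t hs ht
    rcases hS with hS | hS
    · obtain ⟨n, x, y, hq⟩ := Cfsg.Agent.Lib.Lead.QDCore.exists_QD hS
      exact (Cfsg.Agent.Lib.Helper2.QDFusE.all_invol_conj S hq hG s hs).symm.trans
        (Cfsg.Agent.Lib.Helper2.QDFusE.all_invol_conj S hq hG t ht)
    · obtain ⟨n, x, y, z, hw⟩ := Cfsg.Agent.Lib.Lead.WRCore.exists_WR hS
      exact (Cfsg.Agent.Lib.Helper2.WRK.all_invol_conj S hw hG s hs).symm.trans
        (Cfsg.Agent.Lib.Helper2.WRK.all_invol_conj S hw hG t ht)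
  have hconj : ∀ s t : G ⧸ Cfsg.oddCore G, orderOf s = 2 → orderOf t = 2 → IsConj s t := by
    intro s t hs ht
    obtain ⟨s', hs', rfl⟩ := Cfsg.Agent.Lib.Helper6.ABG.exists_lift_invol s hs
    obtain ⟨t', ht', rfl⟩ := Cfsg.Agent.Lib.Helper6.ABG.exists_lift_invol t ht
    exact MonoidHom.map_isConj (QuotientGroup.mk' (Cfsg.oddCore G)) (hconjG s' t' hs' ht')
  have hP : ∀ P : Sylow 2 (G ⧸ Cfsg.oddCore G),
      Cfsg.Agent.Lib.Helper6.ABG.GoodSylow (P : Subgroup (G ⧸ Cfsg.oddCore G)) := by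
    intro P
    obtain ⟨e⟩ := sylow_quot_equiv S P
    apply Cfsg.Agent.Lib.Helper6.ABG.goodSylow_of_type
    rcases hS with hS | hS
    · exact Or.inl (Cfsg.Agent.Lib.Helper2.WRJ.isQuasiDihedral_of_mulEquiv e hS)
    · exact Or.inr (Cfsg.Agent.Lib.Helper2.WRJ.isWreathed_of_mulEquiv e hS)
  exact Cfsg.Agent.Lib.Helper6.ABG.exists_simple_normal hO h2 hconj hP

end Cfsg.Agent.S1214
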