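import Cfsg.Statements.S1215
import Mathlib
import Cfsg.Agent.Lib.Helper2.ZS12
import Cfsg.Agent.Lib.Helper2.WRK
import Cfsg.Agent.Lib.Helper2.QDFusE

set_option autoImplicit false
open Cfsg

namespace Cfsg.Agent.S1215

open Cfsg.Agent.Lib.Lead.QDArith Cfsg.Agent.Lib.Lead.WRCore Cfsg.Agent.Lib.Lead.QDCore Cfsg.Agent.Lib.Helper7
open Cfsg.Agent.Lib.Helper2.WRA Cfsg.Agent.Lib.Helper2.WRB Cfsg.Agent.Lib.Helper2.WRC
open Cfsg.Agent.Lib.Helper2.WRD Cfsg.Agent.Lib.Helper2.WRE Cfsg.Agent.Lib.Helper2.WRF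
open Cfsg.Agent.Lib.Helper2.WRG Cfsg.Agent.Lib.Helper2.WRH Cfsg.Agent.Lib.Helper2.WRI
open Cfsg.Agent.Lib.Helper2.WRJ Cfsg.Agent.Lib.Helper2.WRK
open Cfsg.Agent.Lib.Helper2.QDFusD
open Cfsg.Agent.Lib.Helper2.ZS Cfsg.Agent.Lib.Lead

/-- Let H be a finite group with quasi-dihedral or wreathed Sylow 2-subgroup S such that H has a normal subgroup K of index a power of 2 with no subgroup of index 2 and with generalized quaternion Sylow 2-subgroups, and such that every subgroup of Z(S) is weakly closed in S with respect to H. Then H = O(H) C_H(Z(S)): every element of H is the product of an element of the largest normal odd-order subgroup and an element centralizing Z(S). -/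
theorem result {H : Type*} [Group H] [Finite H] (S : Sylow 2 H) (hS : Cfsg.IsQuasiDihedral (S : Subgroup H) ∨ Cfsg.IsWreathed (S : Subgroup H)) (hQ : (∃ K : Subgroup H, K.Normal ∧ (∃ a : ℕ, K.index = 2 ^ a) ∧ (∀ M : Subgroup ↥K, M.index ≠ 2) ∧ (∀ P : Sylow 2 ↥K, ∃ m : ℕ, 1 ≤ m ∧ Nonempty ((P : Subgroup ↥K) ≃* QuaternionGroup (2 ^ m)))) ∧ (∀ Z₀ : Subgroup H, Z₀ ≤ ((Subgroup.center (S : Subgroup H)).map (S : Subgroup H).subtype) → Cfsg.IsWeaklyClosed Z₀ (S : Subgroup H))) (h : H) : ∃ o ∈ Cfsg.oddCore H, ∃ c ∈ Subgroup.centralizer (((Subgroup.center (S : Subgroup H)).map (S : Subgroup H).subtype : Subgroup H) : Set H), h = o * c := by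
  have : Fact (Nat.Prime 2) := ⟨Nat.prime_two⟩
  have hNn : (Cfsg.pPrimeCore 2 H).Normal := Cfsg.Agent.Lib.Helper1.pPrimeCore_normal 2
  obtain ⟨-, hwc⟩ := hQ
  set D := (Subgroup.center (S : Subgroup H)).map (S : Subgroup H).subtype with hD
  have hDS : D ≤ (S : Subgroup H) := Subgroup.map_subtype_le _
  have hSD : ∀ s ∈ (S : Subgroup H), ∀ d ∈ D, s * d = d * s := by
    rintro s hs _ ⟨c, hc, rfl⟩
    have := Subgroup.mem_center_iff.mp hc ⟨s, hs⟩
    exact congrArg Subtype.val this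
  have hfix : ∀ d ∈ D, ∀ g : H, g * d * g⁻¹ ∈ (S : Subgroup H) → g * d * g⁻¹ = d := by
    rcases hS with hQD | hWR
    · obtain ⟨n, x, y, hq⟩ := exists_QD hQD
      rintro _ ⟨c, hc, rfl⟩ g hg
      have hc' := hc
      rw [hq.center_eq] at hc
      rcases mem_zpowers_two hq.orderOf_rh hc with h1 | h1
      · rw [h1]; simp
      · have hW := (hwc D le_rfl).2 g (by
          rintro _ ⟨_, ⟨c', hc', rfl⟩, rfl⟩
          rw [hq.center_eq] at hc'
          rcases mem_zpowers_two hq.orderOf_rh hc' with h2 | h2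
          · rw [h2]
            simp
          · rw [h2, ← h1]; exact hg)
        have hmem : g * ((S : Subgroup H).subtype c) * g⁻¹ ∈ D := by
          rw [← hW]
          exact ⟨_, ⟨c, hc', rfl⟩, rfl⟩
        obtain ⟨c', hc'', he⟩ := hmem
        rw [hq.center_eq] at hc''
        rcases mem_zpowers_two hq.orderOf_rh hc'' with h2 | h2
        · exfalso
          rw [h2] at he
          have h3 : ((S : Subgroup H).subtype c : H) = 1 := by
            have e : ((S : Subgroup H).subtype c : H) =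
                g⁻¹ * (g * ((S : Subgroup H).subtype c) * g⁻¹) * g := by group
            rw [e, ← he]; simp
          have h4 : c = 1 := Subtype.ext h3
          have h5 := hq.orderOf_rh
          rw [← h1, h4, orderOf_one] at h5
          omega
        · rw [← he, h2, ← h1]
    · obtain ⟨m, x, y, t, hw⟩ := exists_WR hWR
      rcases relIndex_Ag_cases S hw with h2 | h6
      · intro d hd g hg
        have h1 := Dg_fixed S hw h2 d hd g⁻¹ (by rw [inv_inv]; exact hg)
        rw [inv_inv] at h1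
        exact h1
      · exfalso
        have hconj := tt_conj_xone S hw h6
        obtain ⟨g, hg⟩ := isConj_iff.mp hconj
        set tt : H := ((a m x y (hh m) (hh m) : ↥(S : Subgroup H)) : H) with htt
        set xone : H := ((a m x y (hh m) 0 : ↥(S : Subgroup H)) : H) with hxone
        have httD : tt ∈ D := tt_mem_Dg S hw
        have hZ₀ : Subgroup.zpowers tt ≤ D := (Subgroup.zpowers_le).mpr httD
        have hmap : (Subgroup.zpowers tt).map (MulAut.conj g).toMonoidHom = Subgroup.zpowers xone := by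
          rw [MonoidHom.map_zpowers]
          congr 1
        have hW := (hwc _ hZ₀).2 g (by
          rw [hmap, Subgroup.zpowers_le]
          exact (a m x y (hh m) 0 : ↥(S : Subgroup H)).2)
        rw [hmap] at hW
        have hx : xone ∈ Subgroup.zpowers tt := by rw [← hW]; exact Subgroup.mem_zpowers _
        rcases mem_zpowers_two (orderOf_coe_tt S hw) hx with h1 | h1
        · have := orderOf_coe_xone S hw
          rw [← hxone, h1, orderOf_one] at this
          omega
        · exact tt_ne_xone S hw h1.symm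
  have hgz : ∀ d ∈ D, ∀ g : H, g * d * g⁻¹ * d⁻¹ ∈ Cfsg.oddCore H :=
    fun d hd g => gz S D hDS hfix d hd g
  set N := Cfsg.pPrimeCore 2 H with hN
  have hRL : D.map (MulAut.conj h).toMonoidHom ≤ (S : Subgroup H) ⊔ N := by
    rintro _ ⟨d, hd, rfl⟩
    show h * d * h⁻¹ ∈ _
    have e : h * d * h⁻¹ = (h * d * h⁻¹ * d⁻¹) * d := by group
    rw [e]
    exact Subgroup.mul_mem _ (Subgroup.mem_sup_right (hgz d hd h)) (Subgroup.mem_sup_left (hDS hd))
  have hRp : IsPGroup 2 (D.map (MulAut.conj h).toMonoidHom) := (S.2.to_le hDS).map _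
  obtain ⟨c, hcL, hc⟩ := Cfsg.Agent.Lib.Helper2.QDFusA.exists_conj_mem_of_le S
    (le_sup_left : (S : Subgroup H) ≤ (S : Subgroup H) ⊔ N) hRL hRp
  obtain ⟨s, hs, o, ho, rfl⟩ : ∃ s ∈ (S : Subgroup H), ∃ o ∈ N, c = s * o := by
    have h1 := hcL
    rw [← SetLike.mem_coe, Subgroup.mul_normal] at h1
    obtain ⟨s, hs, o, ho, rfl⟩ := Set.mem_mul.mp h1
    exact ⟨s, hs, o, ho, rfl⟩
  have hcen : ∀ d ∈ D, (s * o * h) * d * (s * o * h)⁻¹ = d := by
    intro d hd
    apply hfix d hd
    have h1 := hc (h * d * h⁻¹) ⟨d, hd, rfl⟩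
    have e : (s * o * h) * d * (s * o * h)⁻¹ = s * o * (h * d * h⁻¹) * (s * o)⁻¹ := by group
    rw [e]; exact h1
  refine ⟨o⁻¹, N.inv_mem ho, o * h, ?_, by group⟩
  rw [Subgroup.mem_centralizer_iff]
  intro d hd
  have h1 := hcen d hd
  have h2 : (o * h) * d * (o * h)⁻¹ = s⁻¹ * d * s := by
    have e : (o * h) * d * (o * h)⁻¹ = s⁻¹ * ((s * o * h) * d * (s * o * h)⁻¹) * s := by group
    rw [e, h1]
  have h3 : s⁻¹ * d * s = d := by
    rw [mul_assoc, ← hSD s hs d hd]; group
  rw [h3] at h2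
  calc d * (o * h) = (o * h) * d * (o * h)⁻¹ * (o * h) := by rw [h2]
    _ = (o * h) * d := by group

end Cfsg.Agent.S1215
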