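import Mathlib
import Cfsg.Statements.S1225
import Cfsg.Agent.Lib.Lead.SETrans

set_option autoImplicit false
open Cfsg

namespace Cfsg.Agent.S1225

open Cfsg.Agent.Lib.Lead Cfsg.Agent.Lib.Lead.SE

/-- Let H be a strongly embedded subgroup of the finite group G, u an involution outside H and D = H ∩ uHu⁻¹. Then any two involutions of H are conjugate by an element of D, and any two involutions of G are conjugate in G. -/
theorem result {G : Type*} [Group G] [Finite G] (H : Subgroup G) (hH : Cfsg.IsStronglyEmbedded H) (u : G) (hu : orderOf u = 2) (huH : u ∉ H) (s t : G) (hs : orderOf s = 2) (hsH : s ∈ H) (ht : orderOf t = 2) (htH : t ∈ H) : (∃ d ∈ (H ⊓ H.map (MulAut.conj u).toMonoidHom), d * s * d⁻¹ = t) ∧ ∀ a b : G, orderOf a = 2 → orderOf b = 2 → IsConj a b := by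
  refine ⟨?_, fun a b ha hb => isConj_invol hH ha hb⟩
  have hxy : (((1 : G) : G ⧸ H)) ≠ ((u : G) : G ⧸ H) := by
    intro h
    rw [QuotientGroup.eq] at h
    apply huH
    simpa using h
  have hsx : s • (((1 : G) : G ⧸ H)) = ((1 : G) : G ⧸ H) := by
    rw [smul_mk_eq_iff]; simpa using hsH
  have htx : t • (((1 : G) : G ⧸ H)) = ((1 : G) : G ⧸ H) := by
    rw [smul_mk_eq_iff]; simpa using htH
  obtain ⟨d, hd, hds⟩ := exists_conj_in_inf hH hxy hs ht hsx htx
  refine ⟨d, ?_, hds⟩
  have hu1 : ((u : G) : G ⧸ H) = u • (((1 : G) : G ⧸ H)) := by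
    show ((u : G) : G ⧸ H) = ((u * 1 : G) : G ⧸ H)
    rw [mul_one]
  rw [hu1, MulAction.stabilizer_smul_eq_stabilizer_map_conj, MulAction.stabilizer_quotient] at hd
  exact Subgroup.mem_inf.mpr ⟨(Subgroup.mem_inf.mp hd).2, (Subgroup.mem_inf.mp hd).1⟩

end Cfsg.Agent.S1225
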