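import Mathlib
import Cfsg.Statements.S1227
import Cfsg.Agent.Lib.Lead.SEElem

set_option autoImplicit false
open Cfsg

namespace Cfsg.Agent.S1227

open Cfsg.Agent.Lib.Lead Cfsg.Agent.Lib.Lead.SE

theorem inf_eq {G : Type*} [Group G] (H : Subgroup G) (u : G) :
    (MulAction.stabilizer G ((u : G) : G ⧸ H) ⊓ MulAction.stabilizer G ((1 : G) : G ⧸ H) : Subgroup G)
      = H.map (MulAut.conj u).toMonoidHom ⊓ H := by
  have hu1 : ((u : G) : G ⧸ H) = u • (((1 : G) : G ⧸ H)) := by
    show ((u : G) : G ⧸ H) = ((u * 1 : G) : G ⧸ H)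
    rw [mul_one]
  rw [hu1, MulAction.stabilizer_smul_eq_stabilizer_map_conj, MulAction.stabilizer_quotient]

/-- Let G be a finite group with a Sylow 2-subgroup T that is neither cyclic nor normal, such that the centralizer of every involution is an elementary abelian 2-group; put H = N_G(T), let u be an involution outside H and D = H ∩ uHu⁻¹. Then u inverts every element of D, |H| = |T|·(|T| − 1), and D is a complement to T in H. -/
theorem result {G : Type*} [Group G] [Finite G] (T : Sylow 2 G) (hnc : ¬ IsCyclic (T : Subgroup G)) (hnn : ¬ (T : Subgroup G).Normal) (hC : ∀ t : G, orderOf t = 2 → IsMulCommutative (Subgroup.centralizer ({t} : Set G)) ∧ ∀ c ∈ Subgroup.centralizer ({t} : Set G), c ^ 2 = 1) (u : G) (hu : orderOf u = 2) (huH : u ∉ Subgroup.normalizer ((T : Subgroup G) : Set G)) : (∀ d ∈ Subgroup.normalizer ((T : Subgroup G) : Set G) ⊓ (Subgroup.normalizer ((T : Subgroup G) : Set G)).map (MulAut.conj u).toMonoidHom, u * d * u⁻¹ = d⁻¹) ∧ Nat.card (Subgroup.normalizer ((T : Subgroup G)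 : Set G)) = Nat.card T * (Nat.card T - 1) ∧ Subgroup.IsComplement' ((Subgroup.normalizer ((T : Subgroup G) : Set G) ⊓ (Subgroup.normalizer ((T : Subgroup G) : Set G)).map (MulAut.conj u).toMonoidHom).subgroupOf (Subgroup.normalizer ((T : Subgroup G) : Set G))) ((T : Subgroup G).subgroupOf (Subgroup.normalizer ((T : Subgroup G) : Set G))) := by
  have h : ElemHyp T := ⟨hnc, hnn, hC⟩
  set H := Subgroup.normalizer ((T : Subgroup G) : Set G) with hH
  have hxy : (((1 : G) : G ⧸ H)) ≠ ((u : G) : G ⧸ H) := by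
    intro he
    rw [QuotientGroup.eq] at he
    apply huH
    simpa using he
  have hux : u • (((1 : G) : G ⧸ H)) = ((u : G) : G ⧸ H) := by
    show ((u * 1 : G) : G ⧸ H) = ((u : G) : G ⧸ H)
    rw [mul_one]
  have hD : (H ⊓ H.map (MulAut.conj u).toMonoidHom : Subgroup G) =
      (MulAction.stabilizer G ((u : G) : G ⧸ H) ⊓ MulAction.stabilizer G ((1 : G) : G ⧸ H)) := by
    rw [inf_eq, inf_comm]
  have hcardD : Nat.card (H ⊓ H.map (MulAut.conj u).toMonoidHom : Subgroup G) = Nat.card T - 1 := by
    rw [hD]; exact h.card_two_point hxy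
  refine ⟨?_, h.card_normalizer, ?_⟩
  · intro d hd
    rw [hD] at hd
    exact h.inverts hxy hu hux hd
  · have hTpos : 0 < Nat.card T := Nat.card_pos
    apply Subgroup.isComplement'_of_coprime
    · rw [Nat.card_congr (Subgroup.subgroupOfEquivOfLe (inf_le_left : H ⊓ H.map (MulAut.conj u).toMonoidHom ≤ H)).toEquiv,
        Nat.card_congr (Subgroup.subgroupOfEquivOfLe (Subgroup.le_normalizer : (T : Subgroup G) ≤ H)).toEquiv,
        hcardD, h.card_normalizer, mul_comm]
    · rw [Nat.card_congr (Subgroup.subgroupOfEquivOfLe (inf_le_left : H ⊓ H.map (MulAut.conj u).toMonoidHom ≤ H)).toEquiv,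
        Nat.card_congr (Subgroup.subgroupOfEquivOfLe (Subgroup.le_normalizer : (T : Subgroup G) ≤ H)).toEquiv,
        hcardD]
      have : Nat.card (T : Subgroup G) = (Nat.card T - 1) + 1 := by
        have : Nat.card (T : Subgroup G) = Nat.card T := rfl
        omega
      rw [this]
      simp

end Cfsg.Agent.S1227
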