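import Mathlib
import Cfsg.Statements.S1228
import Cfsg.Agent.Lib.Lead.SEElem2

set_option autoImplicit false
open Cfsg

namespace Cfsg.Agent.S1228

open Cfsg.Agent.Lib.Lead Cfsg.Agent.Lib.Lead.SE

theorem inf_eq {G : Type*} [Group G] (H : Subgroup G) (u : G) :
    (H ⊓ H.map (MulAut.conj u).toMonoidHom : Subgroup G) =
    (MulAction.stabilizer G ((u : G) : G ⧸ H) ⊓ MulAction.stabilizer G ((1 : G) : G ⧸ H) : Subgroup G) := by
  have hu1 : ((u : G) : G ⧸ H) = u • (((1 : G) : G ⧸ H)) := by
    show ((u : G) : G ⧸ H) = ((u * 1 : G) : G ⧸ H)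
    rw [mul_one]
  rw [hu1, MulAction.stabilizer_smul_eq_stabilizer_map_conj, MulAction.stabilizer_quotient, inf_comm]

/-- Let G be a finite group with a Sylow 2-subgroup T that is neither cyclic nor normal, such that the centralizer of every involution is an elementary abelian 2-group; put H = N_G(T), let u be an involution outside H and D = H ∩ uHu⁻¹. Then N_G(D) = D ⊔ ⟨u⟩, and a coset gH is fixed by every element of D exactly when gH = H or gH = uH. -/
theorem result {G : Type*} [Group G] [Finite G] (T : Sylow 2 G) (hnc : ¬ IsCyclic (T : Subgroup G)) (hnn : ¬ (T : Subgroup G).Normal) (hC : ∀ t : G, orderOf t = 2 → IsMulCommutative (Subgroup.centralizer ({t} : Set G)) ∧ ∀ c ∈ Subgroup.centralizer ({t} : Set G), c ^ 2 = 1) (u : G) (hu : orderOf u = 2) (huH : u ∉ Subgroup.normalizer ((T : Subgroup G) : Set G)) : Subgroup.normalizer ((Subgroup.normalizer ((T : Subgroup G) : Set G) ⊓ (Subgroup.normalizer ((T : Subgroup G) : Set G)).map (MulAut.conj u).toMonoidHom : Subgroup G) : Set G) = (Subgroup.normalizer ((T : Subgroup G) : Set G)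 ⊓ (Subgroup.normalizer ((T : Subgroup G) : Set G)).map (MulAut.conj u).toMonoidHom) ⊔ Subgroup.zpowers u ∧ ∀ g : G, ((∀ d ∈ Subgroup.normalizer ((T : Subgroup G) : Set G) ⊓ (Subgroup.normalizer ((T : Subgroup G) : Set G)).map (MulAut.conj u).toMonoidHom, d • (QuotientGroup.mk g : G ⧸ Subgroup.normalizer ((T : Subgroup G) : Set G)) = QuotientGroup.mk g) ↔ (QuotientGroup.mk g : G ⧸ Subgroup.normalizer ((T : Subgroup G) : Set G)) = QuotientGroup.mk 1 ∨ (QuotientGroup.mk g : G ⧸ Subgroup.normalizer ((T : Subgroup G) : Set G)) = QuotientGroup.mk u) := by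
  have h : ElemHyp T := ⟨hnc, hnn, hC⟩
  set H := Subgroup.normalizer ((T : Subgroup G) : Set G) with hH
  set x : G ⧸ H := ((1 : G) : G ⧸ H) with hx
  set y : G ⧸ H := ((u : G) : G ⧸ H) with hy
  have hxy : x ≠ y := by
    intro he
    rw [hx, hy, QuotientGroup.eq] at he
    apply huH
    simpa using he
  have hux : u • x = y := by
    show ((u * 1 : G) : G ⧸ H) = ((u : G) : G ⧸ H)
    rw [mul_one]
  have huy : u • y = x := by rw [← hux, ← mul_smul, invol_mul_self hu, one_smul]
  rw [inf_eq H u]
  set D : Subgroup G := MulAction.stabilizer G y ⊓ MulAction.stabilizer G x with hD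
  have hinv : ∀ d ∈ D, u * d * u⁻¹ = d⁻¹ := fun d hd => h.inverts hxy hu hux hd
  have hfix : ∀ z : G ⧸ H, (∀ d ∈ D, d • z = z) → z = x ∨ z = y := fun z hz => h.fix_two_base hxy hz
  have hDx : ∀ d ∈ D, d • x = x := fun d hd => MulAction.mem_stabilizer_iff.mp (Subgroup.mem_inf.mp hd).2
  have hDy : ∀ d ∈ D, d • y = y := fun d hd => MulAction.mem_stabilizer_iff.mp (Subgroup.mem_inf.mp hd).1
  have hmemD : ∀ g : G, g • x = x → g • y = y → g ∈ D := fun g h1 h2 =>
    Subgroup.mem_inf.mpr ⟨MulAction.mem_stabilizer_iff.mpr h2, MulAction.mem_stabilizer_iff.mpr h1⟩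
  constructor
  · apply le_antisymm
    · intro g hg
      rw [Subgroup.mem_normalizer_iff] at hg
      -- g permutes the fixed points of D
      have hperm : ∀ z : G ⧸ H, (∀ d ∈ D, d • z = z) → ∀ d ∈ D, d • (g • z) = g • z := by
        intro z hz d hd
        have h1 : g⁻¹ * d * g ∈ D := by
          have := (hg (g⁻¹ * d * g)).mpr (by
            have : g * (g⁻¹ * d * g) * g⁻¹ = d := by group
            rw [this]; exact hd)
          exact this
        calc d • (g • z) = g • ((g⁻¹ * d * g) • z) := by
              rw [← mul_smul, ← mul_smul]; congr 1; group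
          _ = g • z := by rw [hz _ h1]
      have h1 := hfix _ (hperm x hDx)
      have h2 := hfix _ (hperm y hDy)
      rcases h1 with h1 | h1
      · rcases h2 with h2 | h2
        · exfalso
          exact hxy (smul_left_cancel g (h1.trans h2.symm))
        · exact Subgroup.mem_sup_left (hmemD g h1 h2)
      · rcases h2 with h2 | h2
        · have h3 : u * g ∈ D := by
            apply hmemD
            · rw [mul_smul, h1, huy]
            · rw [mul_smul, h2, hux]
          have : g = u * (u * g) := by rw [← mul_assoc, invol_mul_self hu, one_mul]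
          rw [this]
          exact Subgroup.mul_mem _ (Subgroup.mem_sup_right (Subgroup.mem_zpowers u))
            (Subgroup.mem_sup_left h3)
        · exfalso
          exact hxy (smul_left_cancel g (h1.trans h2.symm))
    · apply sup_le Subgroup.le_normalizer
      rw [Subgroup.zpowers_le, Subgroup.mem_normalizer_iff]
      intro d
      constructor
      · intro hd
        rw [hinv d hd]; exact D.inv_mem hd
      · intro hd
        have h1 := hinv _ hd
        have h2 : u * (u * d * u⁻¹) * u⁻¹ = d := by
          rw [invol_inv hu]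
          calc u * (u * d * u) * u = (u * u) * d * (u * u) := by group
            _ = d := by rw [invol_mul_self hu, one_mul, mul_one]
        rw [h2] at h1
        rw [h1]; exact D.inv_mem hd
  · intro g
    constructor
    · intro hg
      exact hfix _ hg
    · rintro (hg | hg)
      · rw [hg]; exact hDx
      · rw [hg]; exact hDy

end Cfsg.Agent.S1228
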