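import Mathlib
import Cfsg.Statements.S1231
import Cfsg.Agent.Lib.Lead.PEmbedded

set_option autoImplicit false
open Cfsg

namespace Cfsg.Agent.S1231

open Cfsg.Agent.Lib.Lead Cfsg.Agent.Lib.Lead.BaerSuzuki

/-- `p`-rank bounds pull back along injective homomorphisms -/
theorem prankLE_of_injective {G₁ G₂ : Type*} [Group G₁] [Group G₂] {p k : ℕ} (f : G₁ →* G₂)
    (hf : Function.Injective f) (h : Cfsg.PRankLE p k G₂) : Cfsg.PRankLE p k G₁ := by
  intro A hA hexp
  have hcomm : IsMulCommutative (A.map f) := by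
    constructor
    constructor
    rintro ⟨_, a, ha, rfl⟩ ⟨_, b, hb, rfl⟩
    apply Subtype.ext
    change f a * f b = f b * f a
    rw [← map_mul, ← map_mul]
    congr 1
    exact congrArg Subtype.val (hA.is_comm.comm ⟨a, ha⟩ ⟨b, hb⟩)
  have hexp' : ∀ a ∈ A.map f, a ^ p = 1 := by
    rintro _ ⟨a, ha, rfl⟩
    rw [← map_pow, hexp a ha, map_one]
  have := h (A.map f) hcomm hexp'
  rwa [← Nat.card_congr (A.equivMapOfInjective f hf).toEquiv] at this

/-- Let H be a subgroup of the finite group G, p a prime, k ≥ 1, and P a Sylow p-subgroup of H whose p-rank is at least k. Then N_G(X) ≤ H for every subgroup X of P of p-rank at least k if and only if H ∩ gHg⁻¹ has p-rank less than k for every g ∉ H. -/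
theorem result {G : Type*} [Group G] [Finite G] {p : ℕ} [Fact p.Prime] (k : ℕ) (hk : 1 ≤ k) (H : Subgroup G) (P : Sylow p ↥H) (hP : ¬ Cfsg.PRankLE p (k - 1) ↥(P : Subgroup ↥H)) : (∀ X : Subgroup G, X ≤ (P : Subgroup ↥H).map H.subtype → ¬ Cfsg.PRankLE p (k - 1) ↥X → Subgroup.normalizer (X : Set G) ≤ H) ↔ (∀ g : G, g ∉ H → Cfsg.PRankLE p (k - 1) ↥(H ⊓ H.map (MulAut.conj g).toMonoidHom)) := by
  let big : Subgroup G → Prop := fun Y => ¬ Cfsg.PRankLE p (k - 1) ↥Y
  have hmono : ∀ X Y : Subgroup G, X ≤ Y → big X → big Y := by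
    intro X Y hXY hX hY
    exact hX (prankLE_of_injective (Subgroup.inclusion hXY) (Subgroup.inclusion_injective hXY) hY)
  have hconj : ∀ X g, big X → big (cj X g) := by
    intro X g hX hY
    apply hX
    exact prankLE_of_injective
      (X.equivMapOfInjective (MulAut.conj g).toMonoidHom (MulAut.conj g).injective).toMonoidHom
      (X.equivMapOfInjective (MulAut.conj g).toMonoidHom (MulAut.conj g).injective).injective hY
  have hsyl : ∀ D : Subgroup G, big D → ∃ A : Subgroup G, A ≤ D ∧ IsPGroup p A ∧ big A := by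
    intro D hD
    change ¬ Cfsg.PRankLE p (k - 1) ↥D at hD
    unfold Cfsg.PRankLE at hD
    push Not at hD
    obtain ⟨A', hcomm, hexp, hcard⟩ := hD
    refine ⟨A'.map D.subtype, Subgroup.map_subtype_le _, ?_, ?_⟩
    · rintro ⟨_, a, ha, rfl⟩
      refine ⟨1, ?_⟩
      apply Subtype.ext
      simp only [pow_one, Subgroup.coe_pow, Subgroup.coe_one]
      have := hexp a ha
      rw [← map_pow, this, map_one]
    · intro hrank
      have hcomm' : IsMulCommutative (⊤ : Subgroup ↥(A'.map D.subtype)) := by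
        constructor
        constructor
        rintro ⟨⟨_, a, ha, rfl⟩, -⟩ ⟨⟨_, b, hb, rfl⟩, -⟩
        apply Subtype.ext
        apply Subtype.ext
        change (D.subtype a) * (D.subtype b) = (D.subtype b) * (D.subtype a)
        rw [← map_mul, ← map_mul]
        congr 1
        exact congrArg Subtype.val (hcomm.is_comm.comm ⟨a, ha⟩ ⟨b, hb⟩)
      have hexp' : ∀ a ∈ (⊤ : Subgroup ↥(A'.map D.subtype)), a ^ p = 1 := by
        rintro ⟨_, a, ha, rfl⟩ -
        apply Subtype.ext
        simp only [Subgroup.coe_pow, Subgroup.coe_one]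
        have := hexp a ha
        rw [← map_pow, this, map_one]
      have h1 := hrank ⊤ hcomm' hexp'
      rw [Subgroup.card_top,
        ← Nat.card_congr (A'.equivMapOfInjective D.subtype D.subtype_injective).toEquiv] at h1
      exact absurd h1 (by omega)
  have key := PEmbedded.criterion (p := p) big hmono hconj hsyl H P
  constructor
  · intro h g hg
    have := key.mp h g hg
    change ¬ ¬ Cfsg.PRankLE p (k - 1) ↥(H ⊓ cj H g) at this
    exact not_not.mp this
  · intro h
    apply key.mpr
    intro g hg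
    change ¬ ¬ Cfsg.PRankLE p (k - 1) ↥(H ⊓ cj H g)
    exact not_not.mpr (h g hg)

end Cfsg.Agent.S1231
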