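import Cfsg.Statements.S1233
import Cfsg.Agent.Lib.Helper1.S1233Glue
import Cfsg.Agent.Lib.Helper1.S1233D1
import Cfsg.Agent.Lib.Helper1.S1233F2c
import Cfsg.Agent.Lib.Helper6.S1233A0
import Cfsg.Agent.Lib.Helper3.S1233B2
import Cfsg.Agent.Lib.Helper3.S1233D6
import Cfsg.Agent.Lib.Helper9.S1233B3w
import Cfsg.Agent.Lib.Helper9.S1233D3
import Cfsg.Agent.Lib.Helper9.S1233D7
import Cfsg.Agent.Lib.Helper4.QQC6
import Cfsg.Agent.Lib.Helper4.QQD5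
import Cfsg.Agent.Lib.Helper5.S1233D5w
import Cfsg.Agent.Lib.Helper7.QQF2
import Cfsg.Agent.Lib.Helper8.QQE5

set_option autoImplicit false
open Cfsg

namespace Cfsg.Agent.S1233

open Cfsg.Agent.Lib.Helper1.S1233

/-- case I : `3 ≤ n₁`, `3 ≤ n₂` -/
theorem case_I {S : Type*} [Group S] (Q₁ Q₂ : Subgroup S) (d : Dat S) (hC : Ctx Q₁ Q₂ d)
    (h1 : 3 ≤ d.n₁) (h2 : 3 ≤ d.n₂) : Sigma Q₁ Q₂ d.z := by
  have hD2₁ : Cfsg.Agent.Lib.Helper9.S1233.D2Stmt d.z d.c₁ :=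
    Cfsg.Agent.Lib.Helper4.QQD.D2 hC h1
  have hD2₂ : Cfsg.Agent.Lib.Helper9.S1233.D2Stmt d.z d.c₂ :=
    Cfsg.Agent.Lib.Helper4.QQD.D2_aux (base_symm hC.base) hC.s2 h2
  have hD3 : Cfsg.Agent.Lib.Helper9.S1233.D3Stmt d :=
    Cfsg.Agent.Lib.Helper9.S1233.D3_of hC h1 h2 hD2₁ hD2₂
  have hD5 : Cfsg.Agent.Lib.Helper9.S1233.D5Stmt Q₁ Q₂ d :=
    fun M hM y₁ y₂ a b c e f g h =>
      Cfsg.Agent.Lib.Helper5.S1233.D5 hC h1 h2 M hM y₁ y₂ a b c e f g h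
  have hD6 : Cfsg.Agent.Lib.Helper9.S1233.D6Stmt Q₁ Q₂ d :=
    fun M hM x hx hxR => Cfsg.Agent.Lib.Helper3.S1233D6.D6 hC h1 h2 M hM x hx hxR
  exact Cfsg.Agent.Lib.Helper9.S1233.case_I_of hC h1 h2 hD3 hD5 hD6
    (D1_comm hC h1 h2) (D1_sq hC h1 h2)

/-- case III : `3 ≤ n₁`, `n₂ = 2` -/
theorem case_III {S : Type*} [Group S] (Q₁ Q₂ : Subgroup S) (d : Dat S) (hC : Ctx Q₁ Q₂ d)
    (h1 : 3 ≤ d.n₁) (h2 : d.n₂ = 2) : Sigma Q₁ Q₂ d.z :=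
  case_III_of_normal hC h1 h2
    (Cfsg.Agent.Lib.Helper7.QQF.f1_normal hC.base
      (cen_eq_of_two (base_symm hC.base) hC.s2 h2) hC.s1 h1)

/-- Let S be a finite 2-group and Q a subgroup of order 32 generated by two elementwise-commuting subgroups Q₁, Q₂ each isomorphic to the quaternion group of order 8 (so Q = Q₁ ∗ Q₂). If C_S(Q) ≤ Q, then every section of S has 2-rank at most 4. -/
theorem result {S : Type*} [Group S] [Finite S] (hS : IsPGroup 2 S) (Q Q₁ Q₂ : Subgroup S) (e₁ : Q₁ ≃* QuaternionGroup 2) (e₂ : Q₂ ≃* QuaternionGroup 2) (hcomm : ∀ a ∈ Q₁, ∀ b ∈ Q₂, a * b = b * a) (hQ : Q₁ ⊔ Q₂ = Q) (hQ32 : Nat.card Q = 32) (hC : Subgroup.centralizer (Q : Set S) ≤ Q) : Cfsg.SectionalPRankLE 2 4 S := by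
  refine result_of
    (fun Q Q₁ Q₂ hS e₁ e₂ hcomm hQ hQ32 hC =>
      Cfsg.Agent.Lib.Helper6.S1233A.exists_base hS Q Q₁ Q₂ e₁ e₂ hcomm hQ hQ32 hC)
    (fun Q₁ Q₂ z hB => exists_ctx_of
      (fun Q₁ Q₂ z hB => Cfsg.Agent.Lib.Helper3.S1233B2.exists_side hB)
      (fun Q₁ Q₂ z c₁ i₁ j₁ c₂ i₂ j₂ n₁ ε₁ n₂ ε₂ hB h1 h2 =>
        Cfsg.Agent.Lib.Helper9.S1233.lemma_B hB h1 h2) hB)
    (fun Q₁ Q₂ d hCtx => sigma_all_of case_I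
      (fun Q₁ Q₂ d hC h1 h2 => Cfsg.Agent.Lib.Helper8.QQE.case_II hC h1 h2) case_III hCtx)
    (fun Q₁ Q₂ z hB hSig => Cfsg.Agent.Lib.Helper4.QQC.final hB hSig)
    hS Q Q₁ Q₂ e₁ e₂ hcomm hQ hQ32 hC

end Cfsg.Agent.S1233
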