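import Cfsg.Statements.S1236
import Mathlib
import Cfsg.Agent.Lib.Helper2.KleinCentral

set_option autoImplicit false
open Cfsg

namespace Cfsg.Agent.S1236

open Cfsg.Agent.Lib.Helper2.KleinCentral

/-- Let R be a finite group, t a central involution of R such that R ⧸ ⟨t⟩ is dihedral (of order ≥ 4) or quasi-dihedral, and A ≤ R an elementary abelian subgroup of order 8 containing t. Then C_R(A) = A. -/
theorem result {R : Type*} [Group R] [Finite R] (t : R) (ht : orderOf t = 2) (htz : t ∈ Subgroup.center R) [(Subgroup.zpowers t).Normal] (hq : (∃ m : ℕ, 2 ≤ m ∧ Nonempty (R ⧸ Subgroup.zpowers t ≃* DihedralGroup m)) ∨ Cfsg.IsQuasiDihedral (R ⧸ Subgroup.zpowers t)) (A : Subgroup R) (hA : Cfsg.IsElementaryAbelian 2 A) (hA8 : Nat.card A = 8) (htA : t ∈ A) : Subgroup.centralizer (A : Set R) = A := by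
    classical
    set Z : Subgroup R := Subgroup.zpowers t with hZ
    have hZA : Z ≤ A := Subgroup.zpowers_le.mpr htA
    have hZcard : Nat.card ↥Z = 2 := by rw [hZ, Nat.card_zpowers, ht]
    set π : R →* R ⧸ Z := QuotientGroup.mk' Z with hπ
    have hker : π.ker = Z := QuotientGroup.ker_mk' Z
    -- the image of `A` is a Klein four-group
    have hcardĀ : Nat.card ↥(A.map π) = 4 := by
      have h1 := Subgroup.relIndex_map_map π (⊥ : Subgroup R) A
      rw [Subgroup.map_bot, Subgroup.relIndex_bot_left, hker, bot_sup_eq, sup_of_le_left hZA] at h1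
      have h2 := Subgroup.relIndex_mul_relIndex (⊥ : Subgroup R) Z A bot_le hZA
      rw [Subgroup.relIndex_bot_left, Subgroup.relIndex_bot_left, hZcard, hA8] at h2
      rw [h1]; omega
    haveI : IsKleinFour ↥(A.map π) :=
      { card_four := hcardĀ
        exponent_two := by
          apply Nat.dvd_antisymm
          · apply Monoid.exponent_dvd_of_forall_pow_eq_one
            rintro ⟨_, a, ha, rfl⟩
            apply Subtype.ext
            show π a ^ 2 = 1
            rw [← map_pow, hA.2 a ha, map_one]
          · by_contra hdvd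
            have h1 : Monoid.exponent ↥(A.map π) ∣ 2 := by
              apply Monoid.exponent_dvd_of_forall_pow_eq_one
              rintro ⟨_, a, ha, rfl⟩
              apply Subtype.ext
              show π a ^ 2 = 1
              rw [← map_pow, hA.2 a ha, map_one]
            have h2 : Monoid.exponent ↥(A.map π) = 1 := by
              rcases (Nat.dvd_prime Nat.prime_two).mp h1 with h | h
              · exact h
              · rw [h] at hdvd; exact absurd (dvd_refl 2) hdvd
            rw [Monoid.exp_eq_one_iff] at h2
            have := Nat.card_eq_one_iff_unique.mpr ⟨h2, ⟨1⟩⟩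
            omega }
    have hself : Subgroup.centralizer ((A.map π : Subgroup (R ⧸ Z)) : Set (R ⧸ Z)) ≤ A.map π := by
      rcases hq with ⟨m, hm, ⟨e⟩⟩ | hqd
      · haveI : NeZero m := ⟨by omega⟩
        exact centralizer_le_of_mulEquiv e (fun U _ => dihedral_centralizer_le m U) (A.map π)
      · exact quasiDihedral_centralizer_le hqd (A.map π)
    apply le_antisymm
    · intro c hc
      have h1 : π c ∈ Subgroup.centralizer ((A.map π : Subgroup (R ⧸ Z)) : Set (R ⧸ Z)) := by
        rw [Subgroup.mem_centralizer_iff]
        rintro _ ⟨a, ha, rfl⟩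
        have := Subgroup.mem_centralizer_iff.mp hc a ha
        rw [← map_mul, ← map_mul, this]
      obtain ⟨a, ha, hac⟩ := hself h1
      have h2 : a⁻¹ * c ∈ Z := by
        rw [← hker, MonoidHom.mem_ker, map_mul, map_inv, hac, inv_mul_cancel]
      have : c = a * (a⁻¹ * c) := by group
      rw [this]
      exact A.mul_mem ha (hZA h2)
    · intro a ha
      rw [Subgroup.mem_centralizer_iff]
      intro b hb
      have := hA.1.is_comm.comm (⟨b, hb⟩ : ↥A) ⟨a, ha⟩
      exact congrArg Subtype.val this

end Cfsg.Agent.S1236
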