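import Cfsg.Statements.S1239
import Mathlib
import Cfsg.Agent.Lib.Helper2.ZS12
import Cfsg.Agent.Lib.Helper2.WRK
import Cfsg.Agent.Lib.Helper2.QDFusE

set_option autoImplicit false
open Cfsg

namespace Cfsg.Agent.S1239

open Cfsg.Agent.Lib.Lead.QDArith Cfsg.Agent.Lib.Lead.WRCore Cfsg.Agent.Lib.Lead.QDCore Cfsg.Agent.Lib.Helper7
open Cfsg.Agent.Lib.Helper2.WRA Cfsg.Agent.Lib.Helper2.WRB Cfsg.Agent.Lib.Helper2.WRC
open Cfsg.Agent.Lib.Helper2.WRD Cfsg.Agent.Lib.Helper2.WRE Cfsg.Agent.Lib.Helper2.WRF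
open Cfsg.Agent.Lib.Helper2.WRG Cfsg.Agent.Lib.Helper2.WRH Cfsg.Agent.Lib.Helper2.WRI
open Cfsg.Agent.Lib.Helper2.WRJ Cfsg.Agent.Lib.Helper2.WRK
open Cfsg.Agent.Lib.Helper2.QDFusD
open Cfsg.Agent.Lib.Helper2.ZS Cfsg.Agent.Lib.Lead

/-- Let X be a finite group whose Sylow 2-subgroup S is quasi-dihedral or wreathed, and suppose some involution of S is isolated in X. Then the product of the largest normal odd-order subgroup O(X) with the centre of S is normal in X. -/
theorem result {X : Type*} [Group X] [Finite X] (S : Sylow 2 X) (hS : Cfsg.IsQuasiDihedral (S : Subgroup X) ∨ Cfsg.IsWreathed (S : Subgroup X)) (z : X) (hzS : z ∈ S) (hz : Cfsg.IsIsolatedInvolution z) : (Cfsg.oddCore X ⊔ (Subgroup.center (S : Subgroup X)).map (S : Subgroup X).subtype).Normal := by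
  have : Fact (Nat.Prime 2) := ⟨Nat.prime_two⟩
  have hNn : (Cfsg.pPrimeCore 2 X).Normal := Cfsg.Agent.Lib.Helper1.pPrimeCore_normal 2
  have hzi : z⁻¹ = z := invol_inv hz.1
  set D := (Subgroup.center (S : Subgroup X)).map (S : Subgroup X).subtype with hD
  have hDS : D ≤ (S : Subgroup X) := Subgroup.map_subtype_le _
  -- `z` is central in `S`
  have hzc : (⟨z, hzS⟩ : (S : Subgroup X)) ∈ Subgroup.center (S : Subgroup X) := by
    rw [Subgroup.mem_center_iff]
    intro s
    apply Subtype.ext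
    have h1 := isolated_sylow hz S hzS (s : X)
      ((S : Subgroup X).mul_mem ((S : Subgroup X).mul_mem s.2 hzS) ((S : Subgroup X).inv_mem s.2))
    show (s : X) * z = z * (s : X)
    calc (s : X) * z = (s : X) * z * (s : X)⁻¹ * (s : X) := by group
      _ = z * (s : X) := by rw [h1]
  have hzD : z ∈ D := ⟨⟨z, hzS⟩, hzc, rfl⟩
  suffices h : ∀ d ∈ D, ∀ g : X, g * d * g⁻¹ * d⁻¹ ∈ Cfsg.oddCore X by
    set π := QuotientGroup.mk' (Cfsg.pPrimeCore 2 X) with hπ
    have hcen : D.map π ≤ Subgroup.center (X ⧸ Cfsg.pPrimeCore 2 X) := by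
      rintro _ ⟨d, hd, rfl⟩
      rw [Subgroup.mem_center_iff]
      intro gq
      obtain ⟨g, rfl⟩ := QuotientGroup.mk'_surjective _ gq
      have h1 := h d hd g
      have h2 : π (g * d * g⁻¹ * d⁻¹) = 1 := (QuotientGroup.eq_one_iff _).mpr h1
      have h3 : π g * π d = π (g * d * g⁻¹ * d⁻¹) * (π d * π g) := by
        simp only [map_mul, map_inv]; group
      rw [h3, h2, one_mul]
    have hn : (D.map π).Normal := ⟨fun n hn g => by
      have := Subgroup.mem_center_iff.mp (hcen hn) g
      rw [this, mul_inv_cancel_right]; exact hn⟩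
    have heq : Cfsg.oddCore X ⊔ D = (D.map π).comap π := by
      rw [Subgroup.comap_map_eq, QuotientGroup.ker_mk', sup_comm]
    rw [heq]
    exact hn.comap π
  rcases hS with hQD | hWR
  · obtain ⟨n, x, y, hq⟩ := exists_QD hQD
    rw [hq.center_eq] at hzc
    have hzr : (⟨z, hzS⟩ : (S : Subgroup X)) = r n x (hh n) := by
      rcases mem_zpowers_two hq.orderOf_rh hzc with h | h
      · exfalso
        have h1 : z = 1 := congrArg Subtype.val h
        have := hz.1
        rw [h1, orderOf_one] at this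
        omega
      · exact h
    rintro _ ⟨c, hc, rfl⟩ g
    rw [hq.center_eq] at hc
    rcases mem_zpowers_two hq.orderOf_rh hc with h1 | h1
    · rw [h1]
      simp
    · have h2 : ((S : Subgroup X).subtype c : X) = z := by
        rw [h1, ← hzr]; rfl
      rw [h2]
      have h3 := zstar z hz g
      have e : g * z * g⁻¹ * z⁻¹ = (z * g * z⁻¹ * g⁻¹)⁻¹ := by group
      rw [e]
      exact (Cfsg.oddCore X).inv_mem h3
  · obtain ⟨m, x, y, t, hw⟩ := exists_WR hWR
    rcases relIndex_Ag_cases S hw with h2 | h6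
    · intro d hd g
      apply gz S D hDS ?_ d hd g
      intro d' hd' g' hg'
      have h1 := Dg_fixed S hw h2 d' hd' g'⁻¹ (by rw [inv_inv]; exact hg')
      rw [inv_inv] at h1
      exact h1
    · exfalso
      have hconj := tt_conj_xone S hw h6
      have hzt := eq_tt_of_mem_Dg S hw z hzD hz.1
      rw [← hzt] at hconj
      obtain ⟨g, hg⟩ := isConj_iff.mp hconj
      have hcomm : Commute z (g * z * g⁻¹) := by
        rw [hg]
        show z * _ = _ * z
        have hzA : z ∈ Ag S hw := by rw [hzt]; exact tt_mem_Ag S hw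
        exact Ag_comm S hw z hzA _ (xone_mem_Ag S hw)
      have h1 := hz.2 g hcomm
      rw [hg] at h1
      apply tt_ne_xone S hw
      rw [← hzt, h1]

end Cfsg.Agent.S1239
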