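import Mathlib
import Cfsg.Statements.S1241

namespace Cfsg.Agent.S1241

open Subgroup MulAction

theorem result {G : Type*} [Group G] [Finite G] {p : ℕ} [Fact p.Prime] (H K : Subgroup G) (hHK : K ≤ H) (hKn : (K.subgroupOf H).Normal) (hab : ∀ x ∈ H, ∀ y ∈ H, x * y * x⁻¹ * y⁻¹ ∈ K) (hidx : Nat.Coprime p H.index) (g : G) (hgH : g ∈ H) (hgK : g ∉ K) (hgp : ∃ k : ℕ, orderOf g = p ^ k) (hctrl : ∀ (m : ℤ) (a : G), a * g ^ m * a⁻¹ ∈ H → (a * g ^ m * a⁻¹) * (g ^ m)⁻¹ ∈ K) : g ∉ commutator G := by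
  classical
  have hp := (Fact.out : p.Prime)
  haveI := hKn
  letI instA : CommGroup (↥H ⧸ K.subgroupOf H) :=
    { (inferInstance : Group (↥H ⧸ K.subgroupOf H)) with
      mul_comm := by
        intro x y
        induction x using QuotientGroup.induction_on with
        | H x =>
        induction y using QuotientGroup.induction_on with
        | H y =>
        rw [← QuotientGroup.mk_mul, ← QuotientGroup.mk_mul, QuotientGroup.eq]
        show ((x * y)⁻¹ * (y * x) : H).1 ∈ K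
        have h1 := hab y⁻¹.1 y⁻¹.2 x⁻¹.1 x⁻¹.2
        have h2 : ((x * y)⁻¹ * (y * x) : H).1 = y⁻¹.1 * x⁻¹.1 * (y⁻¹.1)⁻¹ * (x⁻¹.1)⁻¹ := by
          simp only [Subgroup.coe_mul, Subgroup.coe_inv]
          group
        rw [h2]
        exact h1 }
  let ϕ : H →* (↥H ⧸ K.subgroupOf H) := QuotientGroup.mk' (K.subgroupOf H)
  intro hg
  have h1 : MonoidHom.transfer ϕ g = 1 := by
    have hle : commutator G ≤ (MonoidHom.transfer ϕ).ker :=
      Abelianization.commutator_subset_ker _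
    exact hle hg
  haveI : Fintype (Quotient (MulAction.orbitRel (zpowers g) (G ⧸ H))) := Fintype.ofFinite _
  rw [MonoidHom.transfer_eq_prod_quotient_orbitRel_zpowers_quot] at h1
  have h2 : ∀ q : Quotient (MulAction.orbitRel (zpowers g) (G ⧸ H)),
      ϕ ⟨q.out.out⁻¹ * g ^ Function.minimalPeriod (g • ·) q.out * q.out.out,
        QuotientGroup.out_conj_pow_minimalPeriod_mem H g q.out⟩ =
      (ϕ ⟨g, hgH⟩) ^ Function.minimalPeriod (g • ·) q.out := by
    intro q
    rw [← map_pow]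
    symm
    show (QuotientGroup.mk _ : ↥H ⧸ K.subgroupOf H) = QuotientGroup.mk _
    rw [QuotientGroup.eq]
    show ((⟨g, hgH⟩ ^ Function.minimalPeriod (g • ·) q.out : H)⁻¹ *
      ⟨q.out.out⁻¹ * g ^ Function.minimalPeriod (g • ·) q.out * q.out.out,
        QuotientGroup.out_conj_pow_minimalPeriod_mem H g q.out⟩ : H).1 ∈ K
    have h3 := hctrl (Function.minimalPeriod (g • ·) q.out : ℤ) (q.out.out⁻¹) (by
      rw [zpow_natCast, inv_inv]
      exact QuotientGroup.out_conj_pow_minimalPeriod_mem H g q.out)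
    rw [zpow_natCast, inv_inv] at h3
    -- K.subgroupOf H normal: conjugate x * y⁻¹ ∈ K to y⁻¹ * x ∈ K
    set x : H := ⟨q.out.out⁻¹ * g ^ Function.minimalPeriod (g • ·) q.out * q.out.out,
        QuotientGroup.out_conj_pow_minimalPeriod_mem H g q.out⟩ with hx
    set y : H := ⟨g, hgH⟩ ^ Function.minimalPeriod (g • ·) q.out with hy
    have h4 : x * y⁻¹ ∈ K.subgroupOf H := by
      rw [Subgroup.mem_subgroupOf]
      simpa [hx, hy] using h3
    have h5 := hKn.conj_mem _ h4 y⁻¹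
    have h6 : y⁻¹ * (x * y⁻¹) * y⁻¹⁻¹ = y⁻¹ * x := by group
    rw [h6, Subgroup.mem_subgroupOf] at h5
    exact h5
  rw [Finset.prod_congr rfl (fun q _ => h2 q), Finset.prod_pow_eq_pow_sum,
    ← Subgroup.index_eq_sum_minimalPeriod H g] at h1
  -- order of ϕ g divides both a power of p and the index
  obtain ⟨k, hk⟩ := hgp
  have h7 : (ϕ ⟨g, hgH⟩) ^ (p ^ k) = 1 := by
    rw [← map_pow]
    have : (⟨g, hgH⟩ : H) ^ (p ^ k) = 1 := by
      apply Subtype.ext
      rw [Subgroup.coe_pow, Subgroup.coe_one]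
      show g ^ (p ^ k) = 1
      rw [← hk]
      exact pow_orderOf_eq_one g
    rw [this, map_one]
  have h8 : orderOf (ϕ ⟨g, hgH⟩) ∣ p ^ k := orderOf_dvd_of_pow_eq_one h7
  have h9 : orderOf (ϕ ⟨g, hgH⟩) ∣ H.index := orderOf_dvd_of_pow_eq_one h1
  have h10 : Nat.Coprime (p ^ k) H.index := Nat.Coprime.pow_left k hidx
  have h11 : orderOf (ϕ ⟨g, hgH⟩) = 1 := Nat.eq_one_of_dvd_coprimes h10 h8 h9
  rw [orderOf_eq_one_iff] at h11
  apply hgK
  have h12 : (⟨g, hgH⟩ : H) ∈ K.subgroupOf H := (QuotientGroup.eq_one_iff _).mp h11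
  exact h12
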