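import Mathlib
import Cfsg.Statements.S1242
import Cfsg.Agent.Lib.Lead.TransferCtrl

namespace Cfsg.Agent.S1242

open Subgroup MulAction Cfsg.Agent.Lib.Lead

theorem result {G : Type*} [Group G] [Finite G] {p : ℕ} [Fact p.Prime] (H : Subgroup G) (hidx : Nat.Coprime p H.index) (hfus : ∀ g ∈ H, (∃ k : ℕ, orderOf g = p ^ k) → ∀ a : G, a * g * a⁻¹ ∈ H → ∃ h ∈ H, h * g * h⁻¹ = a * g * a⁻¹) : (Cfsg.pResidual p G ⊔ commutator G) ⊓ H = (Cfsg.pResidual p ↥H ⊔ commutator ↥H).map H.subtype := by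
  classical
  have hp := (Fact.out : p.Prime)
  set Mh : Subgroup H := Cfsg.pResidual p ↥H ⊔ commutator ↥H with hMh
  have hcomm_le : commutator ↥H ≤ Mh := le_sup_right
  have hcomm_mem : ∀ a b : H, a * b * a⁻¹ * b⁻¹ ∈ Mh := by
    intro a b
    apply hcomm_le
    rw [commutator_def]
    exact Subgroup.commutator_mem_commutator (Subgroup.mem_top a) (Subgroup.mem_top b)
  haveI hMn : Mh.Normal := by
    constructor
    intro n hn g
    have : g * n * g⁻¹ = (g * n * g⁻¹ * n⁻¹) * n := by group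
    rw [this]
    exact Mh.mul_mem (hcomm_mem g n) hn
  letI instA : CommGroup (↥H ⧸ Mh) :=
    { (inferInstance : Group (↥H ⧸ Mh)) with
      mul_comm := by
        intro x y
        induction x using QuotientGroup.induction_on with
        | H x =>
        induction y using QuotientGroup.induction_on with
        | H y =>
        rw [← QuotientGroup.mk_mul, ← QuotientGroup.mk_mul, QuotientGroup.eq]
        have h2 : (x * y)⁻¹ * (y * x) = y⁻¹ * x⁻¹ * (y⁻¹)⁻¹ * (x⁻¹)⁻¹ := by group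
        rw [h2]
        exact hcomm_mem _ _ }
  let ϕ : H →* (↥H ⧸ Mh) := QuotientGroup.mk' Mh
  have hϕ1 : ∀ x : H, ϕ x = 1 ↔ x ∈ Mh := fun x => QuotientGroup.eq_one_iff x
  have hϕres : ∀ x : H, Nat.Coprime (orderOf x) p → ϕ x = 1 := fun x hx =>
    (hϕ1 x).2 ((le_sup_left : Cfsg.pResidual p ↥H ≤ Mh) (Subgroup.subset_closure hx))
  -- decomposition of the order
  have hdec : ∀ x : H, ∃ k m : ℕ, orderOf x = p ^ k * m ∧ Nat.Coprime m p ∧
      ϕ x ^ (p ^ k) = 1 := by
    intro x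
    obtain ⟨k, m, hm, hkm⟩ := Nat.exists_eq_pow_mul_and_not_dvd (orderOf_pos x).ne' p hp.ne_one
    have hmc : Nat.Coprime m p := ((Nat.Prime.coprime_iff_not_dvd hp).mpr hm).symm
    refine ⟨k, m, hkm, hmc, ?_⟩
    rw [← map_pow]
    apply hϕres
    rw [orderOf_pow_of_dvd (pow_pos hp.pos k).ne' (by rw [hkm]; exact dvd_mul_right _ _), hkm,
      Nat.mul_div_cancel_left _ (pow_pos hp.pos k)]
    exact hmc
  set V : G →* (↥H ⧸ Mh) := MonoidHom.transfer ϕ with hV
  have hVcomm : commutator G ≤ V.ker := Abelianization.commutator_subset_ker _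
  have hVres : Cfsg.pResidual p G ≤ V.ker := by
    rw [Cfsg.pResidual, Subgroup.closure_le]
    intro g hg
    rw [SetLike.mem_coe, MonoidHom.mem_ker]
    obtain ⟨y, hy⟩ := QuotientGroup.mk'_surjective Mh (V g)
    obtain ⟨k, m, -, -, hk⟩ := hdec y
    have h1 : orderOf (V g) ∣ p ^ k := orderOf_dvd_of_pow_eq_one (by rw [← hy]; exact hk)
    have h2 : orderOf (V g) ∣ orderOf g := orderOf_map_dvd V g
    have h3 : Nat.Coprime (orderOf g) (p ^ k) := Nat.Coprime.pow_right k hg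
    exact orderOf_eq_one_iff.mp (Nat.eq_one_of_dvd_coprimes h3 h2 h1)
  apply le_antisymm
  · rintro x ⟨hxN, hxH⟩
    have hVx : V x = 1 := (sup_le hVres hVcomm) hxN
    refine ⟨⟨x, hxH⟩, ?_, rfl⟩
    rw [SetLike.mem_coe, ← hϕ1]
    set X : H := ⟨x, hxH⟩ with hX
    obtain ⟨k, m, hkm, hmc, hk⟩ := hdec X
    have hgo : orderOf (X ^ m) = p ^ k := by
      rw [orderOf_pow_of_dvd (Nat.pos_of_ne_zero (fun h => by
        rw [h, mul_zero] at hkm; exact (orderOf_pos X).ne' hkm)).ne'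
        (by rw [hkm]; exact dvd_mul_left _ _), hkm, Nat.mul_div_cancel _ (Nat.pos_of_ne_zero
          (fun h => by rw [h, mul_zero] at hkm; exact (orderOf_pos X).ne' hkm))]
    have hgH : x ^ m ∈ H := H.pow_mem hxH m
    have hgo' : orderOf (x ^ m) = p ^ k := by
      rw [← hgo, ← Subgroup.orderOf_coe]
      rfl
    have hT : V (x ^ m) = ϕ ⟨x ^ m, hgH⟩ ^ H.index := by
      apply TransferCtrl.transfer_eq_pow_of_ctrl ϕ (x ^ m) hgH
      intro n a ha
      have hpn : ∃ k' : ℕ, orderOf ((x ^ m) ^ n) = p ^ k' := by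
        have h1 : orderOf ((x ^ m) ^ n) ∣ p ^ k := by
          rw [← hgo']
          exact orderOf_pow_dvd n
        obtain ⟨k', -, hk'⟩ := (Nat.dvd_prime_pow hp).mp h1
        exact ⟨k', hk'⟩
      obtain ⟨h, hh, hconj⟩ := hfus ((x ^ m) ^ n) (H.pow_mem hgH n) hpn a⁻¹ (by
        rw [inv_inv]; exact ha)
      rw [inv_inv] at hconj
      have h2 : (⟨a⁻¹ * (x ^ m) ^ n * a, ha⟩ : H) =
          ⟨h, hh⟩ * ⟨x ^ m, hgH⟩ ^ n * ⟨h, hh⟩⁻¹ := by
        apply Subtype.ext
        simp only [Subgroup.coe_mul, Subgroup.coe_pow, Subgroup.coe_inv]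
        exact hconj.symm
      rw [h2, map_mul, map_mul, map_inv, map_pow, mul_inv_cancel_comm]
    have h3 : ϕ X ^ (m * H.index) = 1 := by
      rw [pow_mul, ← map_pow]
      have : X ^ m = ⟨x ^ m, hgH⟩ := rfl
      rw [this, ← hT, map_pow, hVx, one_pow]
    have h4 : orderOf (ϕ X) ∣ p ^ k := orderOf_dvd_of_pow_eq_one hk
    have h5 : orderOf (ϕ X) ∣ m * H.index := orderOf_dvd_of_pow_eq_one h3
    have h6 : Nat.Coprime (p ^ k) (m * H.index) :=
      Nat.Coprime.pow_left k (Nat.Coprime.mul_right hmc.symm hidx)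
    exact orderOf_eq_one_iff.mp (Nat.eq_one_of_dvd_coprimes h6 h4 h5)
  · apply le_inf
    · rw [hMh, Subgroup.map_sup]
      apply sup_le_sup
      · rw [Cfsg.pResidual, Cfsg.pResidual, MonoidHom.map_closure]
        apply Subgroup.closure_mono
        rintro _ ⟨h, hh, rfl⟩
        show Nat.Coprime (orderOf (h : G)) p
        rw [Subgroup.orderOf_coe]
        exact hh
      · rw [commutator_def, commutator_def, Subgroup.map_commutator]
        exact Subgroup.commutator_mono le_top le_top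
    · exact Subgroup.map_subtype_le _
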