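import Mathlib
import Cfsg.Statements.S1243
import Cfsg.Agent.Lib.Lead.Closed

set_option autoImplicit false
open Cfsg

namespace Cfsg.Agent.S1243

open Cfsg.Agent.Lib.Lead Cfsg.Agent.Lib.Lead.BaerSuzuki Cfsg.Agent.Lib.Lead.Closed

/-- Let T be a Sylow p-subgroup of the finite group G and W ≤ T a subgroup weakly closed in T. If d and g d g⁻¹ both centralize W, then g d g⁻¹ = h d h⁻¹ for some h ∈ N_G(W). -/
theorem result {G : Type*} [Group G] [Finite G] {p : ℕ} [Fact p.Prime] (T : Sylow p G) (W : Subgroup G) (hW : Cfsg.IsWeaklyClosed W (T : Subgroup G)) (d g : G) (hd : d ∈ Subgroup.centralizer (W : Set G)) (hgd : g * d * g⁻¹ ∈ Subgroup.centralizer (W : Set G)) : ∃ h ∈ Subgroup.normalizer (W : Set G), h * d * h⁻¹ = g * d * g⁻¹ := by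
  set e := g * d * g⁻¹ with he
  set C := Subgroup.centralizer ({e} : Set G) with hC
  have hW2 : IsPGroup p W := T.2.to_le hW.1
  -- W ≤ C
  have hWC : W ≤ C := by
    intro w hw
    rw [hC, Subgroup.mem_centralizer_singleton_iff]
    exact ((Subgroup.mem_centralizer_iff.mp hgd) w hw)
  -- cj W g ≤ C
  have hWgC : cj W g ≤ C := by
    rw [cj_le_iff]
    intro w hw
    rw [hC, Subgroup.mem_centralizer_singleton_iff]
    have h1 : w * d = d * w := (Subgroup.mem_centralizer_iff.mp hd) w hw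
    calc g * w * g⁻¹ * e = g * (w * d) * g⁻¹ := by rw [he]; group
      _ = g * (d * w) * g⁻¹ := by rw [h1]
      _ = e * (g * w * g⁻¹) := by rw [he]; group
  -- a Sylow subgroup of C containing W
  obtain ⟨P, hP⟩ := (hW2.comap_subtype (K := C)).exists_le_sylow
  obtain ⟨c, hcC, hcle⟩ := exists_cj_le_sylow C P (cj W g) hWgC (isPGroup_cj W g hW2)
  set R : Subgroup G := (P : Subgroup C).map C.subtype with hR
  have hR2 : IsPGroup p R := P.2.map _
  have hWR : W ≤ R := by
    intro w hw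
    exact ⟨⟨w, hWC hw⟩, hP (by
      change (⟨w, hWC hw⟩ : C) ∈ W.subgroupOf C
      rw [Subgroup.mem_subgroupOf]; exact hw), rfl⟩
  rw [cj_cj] at hcle
  have hfix := weaklyClosed_of_pgroup T W hW R hR2 hWR (c * g) hcle
  refine ⟨c * g, mem_normalizer_of_cj_eq W _ hfix, ?_⟩
  have hce : c * e = e * c := by
    rw [hC, Subgroup.mem_centralizer_singleton_iff] at hcC
    exact hcC
  calc c * g * d * (c * g)⁻¹ = c * e * c⁻¹ := by rw [he]; group
    _ = e * c * c⁻¹ := by rw [hce]
    _ = e := by group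

end Cfsg.Agent.S1243
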