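import Cfsg.Statements.S1246
import Mathlib
import Cfsg.Agent.Lib.Helper8.CharP2
import Cfsg.Agent.Lib.Helper7.CharP2
import Cfsg.Agent.Lib.Helper2.Cores

set_option autoImplicit false
open Cfsg

namespace Cfsg.Agent.S1246

open Cfsg.Agent.Lib

/-- Let V ≤ U be p-subgroups of the finite group G. If the generalized Fitting subgroup of C_G(V) is a p-group, then so is that of C_G(U). -/
theorem result {G : Type*} [Group G] [Finite G] {p : ℕ} [Fact p.Prime] (U V : Subgroup G) (hVU : V ≤ U) (hU : IsPGroup p U) (hV : IsPGroup p ↥(Cfsg.generalizedFittingSubgroup ↥(Subgroup.centralizer (V : Set G)))) : IsPGroup p ↥(Cfsg.generalizedFittingSubgroup ↥(Subgroup.centralizer (U : Set G))) := by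
  -- F*(K) a p-group ⟹ F*(K) = O_p(K)
  have key : ∀ K : Subgroup G, IsPGroup p ↥(Cfsg.generalizedFittingSubgroup ↥K) →
      Cfsg.generalizedFittingSubgroup ↥K = Cfsg.pCore p ↥K := by
    intro K hK
    haveI : (Cfsg.generalizedFittingSubgroup ↥K).Normal := Helper8.generalizedFittingSubgroup_normal
    apply le_antisymm
    · exact Helper2.le_pCore hK
    · refine (Helper2.pCore_le_fittingSubgroup p).trans ?_
      unfold Cfsg.generalizedFittingSubgroup
      exact le_sup_right
  have h1 : Helper7.CharPIn p (Subgroup.centralizer (V : Set G)) :=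
    (Helper8.charPIn_iff_gfs p _).mpr (key _ hV)
  have h2 := Helper7.charPIn_centralizer_of_le hU hVU h1
  have h3 := (Helper8.charPIn_iff_gfs p _).mp h2
  rw [h3]
  exact Helper7.pCore_isPGroup p _

end Cfsg.Agent.S1246
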