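import Mathlib
import Cfsg.Statements.S1248
import Cfsg.Agent.Lib.Helper5.SU3SylowProps

set_option autoImplicit false
open Cfsg

namespace Cfsg.Agent.S1248

/-- Let F be a field with 16 elements and S a Sylow 2-subgroup of PSU(3) over F (the unitary group U₃(4)). Then |S| = 64; the centre Z(S) is a Klein four-group and coincides with the subgroup generated by the involutions of S and with the derived subgroup; and every element of S ⧸ Z(S) squares to the identity, S ⧸ Z(S) having order 16. -/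
theorem result {F : Type*} [Field F] [Fintype F] (hF : Fintype.card F = 16) (S : Sylow 2 (Cfsg.PSU 3 F 4)) : Nat.card S = 64 ∧ IsKleinFour (Subgroup.center (S : Subgroup (Cfsg.PSU 3 F 4))) ∧ Subgroup.center (S : Subgroup (Cfsg.PSU 3 F 4)) = Subgroup.closure {x : (S : Subgroup (Cfsg.PSU 3 F 4)) | orderOf x = 2} ∧ Subgroup.center (S : Subgroup (Cfsg.PSU 3 F 4)) = commutator (S : Subgroup (Cfsg.PSU 3 F 4)) ∧ Nat.card ((S : Subgroup (Cfsg.PSU 3 F 4)) ⧸ Subgroup.center (S : Subgroup (Cfsg.PSU 3 F 4))) = 16 ∧ ∀ x : (S : Subgroup (Cfsg.PSU 3 F 4)) ⧸ Subgroup.center (S : Subgroup (Cfsg.PSU 3 F 4)), x ^ 2 = 1 := by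
  have hF' : Fintype.card F = 4 ^ 2 := by rw [hF]; norm_num
  have : Fact (Fintype.card F = 4 ^ 2) := ⟨hF'⟩
  have : CharP F 2 := by
    obtain ⟨p, j, hp, hc, hpj⟩ := Cfsg.Agent.Lib.Helper5.Herm.exists_char_pow hF'
    have hj : j ≠ 0 := by
      rintro rfl
      rw [pow_zero] at hpj
      omega
    have h1 : p ∣ 4 := by rw [hpj]; exact dvd_pow_self p hj
    have h2 : p ∣ 2 := by
      have : p ∣ 2 ^ 2 := by norm_num; exact h1
      exact hp.dvd_of_dvd_pow this
    have h3 : p = 2 := (Nat.prime_dvd_prime_iff_eq hp Nat.prime_two).mp h2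
    rw [← h3]; exact hc
  obtain ⟨e⟩ := Cfsg.Agent.Lib.Helper5.SU3Sylow.exists_equiv (F := F) (q := 4) (n := 2)
    (by norm_num) (by norm_num) S
  have hcard := Cfsg.Agent.Lib.Helper5.SU3SylowProps.card' e
  have hcen := Cfsg.Agent.Lib.Helper5.SU3SylowProps.card_center' e
  refine ⟨by rw [hcard]; norm_num, ?_, Cfsg.Agent.Lib.Helper5.SU3SylowProps.center_eq_closure_involutions e,
    (Cfsg.Agent.Lib.Helper5.SU3SylowProps.commutator_eq_center' e).symm, ?_,
    Cfsg.Agent.Lib.Helper5.SU3SylowProps.quotient_sq e⟩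
  · have hnt : Nontrivial (Subgroup.center ↥(S : Subgroup (Cfsg.PSU 3 F 4))) := by
      have hfin : Finite (Subgroup.center ↥(S : Subgroup (Cfsg.PSU 3 F 4))) :=
        Nat.finite_of_card_ne_zero (by rw [hcen]; norm_num)
      rw [← Finite.one_lt_card_iff_nontrivial, hcen]
      norm_num
    refine ⟨hcen, ?_⟩
    rw [Monoid.exponent_eq_prime_iff Nat.prime_two]
    intro z hz1
    have h1 : (z : ↥(S : Subgroup (Cfsg.PSU 3 F 4))) * z = 1 :=
      (Cfsg.Agent.Lib.Helper5.SU3SylowProps.mul_self_eq_one_iff' e z.1).mpr z.2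
    apply orderOf_eq_prime
    · apply Subtype.ext
      rw [pow_two]
      exact h1
    · exact hz1
  · have h1 := Subgroup.card_eq_card_quotient_mul_card_subgroup
      (Subgroup.center ↥(S : Subgroup (Cfsg.PSU 3 F 4)))
    rw [hcard, hcen] at h1
    omega

end Cfsg.Agent.S1248
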