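import Mathlib
import Cfsg.Statements.S1249
import Cfsg.Agent.Lib.Lead.Closed

set_option autoImplicit false
open Cfsg

namespace Cfsg.Agent.S1249

open Cfsg.Agent.Lib.Lead Cfsg.Agent.Lib.Lead.BaerSuzuki Cfsg.Agent.Lib.Lead.Closed

/-- Let P and Q be Sylow p-subgroups of the finite group G both containing the subgroup A. If A is strongly closed in P, then A is strongly closed in Q. -/
theorem result {G : Type*} [Group G] [Finite G] {p : ℕ} [Fact p.Prime] (P Q : Sylow p G) (A : Subgroup G) (hAQ : A ≤ Q) (hA : Cfsg.IsStronglyClosed A (P : Subgroup G)) : Cfsg.IsStronglyClosed A (Q : Subgroup G) := by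
  obtain ⟨h, hh⟩ := sylow_eq_cj P Q
  refine ⟨hAQ, ?_⟩
  -- h⁻¹ A h ≤ A
  have hmemQ : ∀ y : G, y ∈ (Q : Subgroup G) ↔ h⁻¹ * y * h ∈ (P : Subgroup G) := by
    intro y; rw [hh, mem_cj]
  have h1 : ∀ a ∈ A, h⁻¹ * a * h ∈ A := by
    intro a ha
    have := hA.2 a ha h⁻¹
    rw [inv_inv] at this
    exact this ((hmemQ a).mp (hAQ ha))
  -- conjugation by h⁻¹ is a bijection of A
  have h2 : ∀ a ∈ A, h * a * h⁻¹ ∈ A := by
    have hle : cj A h⁻¹ ≤ A := by
      rw [cj_le_iff]; intro a ha; rw [inv_inv]; exact h1 a ha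
    have hcard : Nat.card (cj A h⁻¹) = Nat.card A :=
      Nat.card_congr (A.equivMapOfInjective _ (MulAut.conj h⁻¹).injective).toEquiv.symm
    have heq : cj A h⁻¹ = A := Subgroup.eq_of_le_of_card_ge hle (by rw [hcard])
    intro a ha
    have : a ∈ cj A h⁻¹ := by rw [heq]; exact ha
    rw [mem_cj, inv_inv] at this
    exact this
  intro x hx g hgx
  have h3 : h⁻¹ * (g * x * g⁻¹) * h ∈ A := by
    have e : h⁻¹ * (g * x * g⁻¹) * h = (h⁻¹ * g) * x * (h⁻¹ * g)⁻¹ := by group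
    rw [e]
    apply hA.2 x hx
    rw [← e]
    exact (hmemQ _).mp hgx
  have := h2 _ h3
  have e2 : h * (h⁻¹ * (g * x * g⁻¹) * h) * h⁻¹ = g * x * g⁻¹ := by group
  rwa [e2] at this

end Cfsg.Agent.S1249
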