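import Mathlib
import Cfsg.Statements.S1250
import Cfsg.Agent.Lib.Lead.Closed

set_option autoImplicit false
open Cfsg

namespace Cfsg.Agent.S1250

open Cfsg.Agent.Lib.Lead Cfsg.Agent.Lib.Lead.BaerSuzuki Cfsg.Agent.Lib.Lead.Closed

/-- a `p`-element of `S N` is `N`-conjugate into the Sylow subgroup `S` -/
theorem exists_conj_mem_of_mem_sup {G : Type*} [Group G] [Finite G] {p : ℕ} [Fact p.Prime]
    (S : Sylow p G) (N : Subgroup G) [N.Normal] (y : G) (hy : y ∈ (S : Subgroup G) ⊔ N)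
    (hp : IsPGroup p (Subgroup.zpowers y)) : ∃ n ∈ N, n * y * n⁻¹ ∈ (S : Subgroup G) := by
  set K : Subgroup G := (S : Subgroup G) ⊔ N with hK
  have hSK : (S : Subgroup G) ≤ K := le_sup_left
  have hyK : Subgroup.zpowers y ≤ K := by rw [Subgroup.zpowers_le]; exact hy
  obtain ⟨k, hkK, hkle⟩ := exists_cj_le_sylow K (S.subtype hSK) (Subgroup.zpowers y) hyK hp
  rw [Sylow.coe_subtype, Subgroup.map_subgroupOf_eq_of_le hSK, cj_le_iff] at hkle
  have hky : k * y * k⁻¹ ∈ (S : Subgroup G) := hkle y (Subgroup.mem_zpowers y)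
  obtain ⟨s₁, hs₁, n₁, hn₁, rfl⟩ := Subgroup.mem_sup_of_normal_right.mp hkK
  refine ⟨n₁, hn₁, ?_⟩
  have e : n₁ * y * n₁⁻¹ = s₁⁻¹ * (s₁ * n₁ * y * (s₁ * n₁)⁻¹) * s₁ := by group
  rw [e]
  exact mul_mem (mul_mem (inv_mem hs₁) hky) hs₁

/-- Let S be a Sylow p-subgroup of the finite group G, A ≤ S strongly closed in S, and N a normal subgroup. Then the image of A in G ⧸ N is strongly closed in the image of S (which is a Sylow p-subgroup of G ⧸ N). -/
theorem result {G : Type*} [Group G] [Finite G] {p : ℕ} [Fact p.Prime] (S : Sylow p G) (A : Subgroup G) (hA : Cfsg.IsStronglyClosed A (S : Subgroup G)) (N : Subgroup G) [N.Normal] : Cfsg.IsStronglyClosed (A.map (QuotientGroup.mk' N)) ((S : Subgroup G).map (QuotientGroup.mk' N)) := by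
  refine ⟨Subgroup.map_mono hA.1, ?_⟩
  rintro _ ⟨x, hx, rfl⟩ gbar hmem
  obtain ⟨g, rfl⟩ := QuotientGroup.mk'_surjective N gbar
  set y := g * x * g⁻¹ with hy
  have hπ : QuotientGroup.mk' N g * QuotientGroup.mk' N x * (QuotientGroup.mk' N g)⁻¹ =
      QuotientGroup.mk' N y := by
    rw [hy, map_mul, map_mul, map_inv]
  rw [hπ] at hmem ⊢
  obtain ⟨s, hs, hsy⟩ := hmem
  have hsyN : s⁻¹ * y ∈ N := by
    have : (s : G ⧸ N) = (y : G ⧸ N) := hsy
    exact QuotientGroup.eq.mp this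
  have hyK : y ∈ (S : Subgroup G) ⊔ N := by
    have : y = s * (s⁻¹ * y) := by group
    rw [this]
    exact Subgroup.mul_mem_sup hs hsyN
  have hxS : x ∈ (S : Subgroup G) := hA.1 hx
  have hp : IsPGroup p (Subgroup.zpowers y) := by
    have h1 : IsPGroup p (Subgroup.zpowers x) :=
      S.2.to_le (by rw [Subgroup.zpowers_le]; exact hxS)
    have h2 := isPGroup_cj (Subgroup.zpowers x) g h1
    unfold cj at h2
    rw [MonoidHom.map_zpowers] at h2
    exact h2
  obtain ⟨n, hn, hny⟩ := exists_conj_mem_of_mem_sup S N y hyK hp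
  have e : n * y * n⁻¹ = (n * g) * x * (n * g)⁻¹ := by rw [hy]; group
  have hnyA : n * y * n⁻¹ ∈ A := by
    rw [e]
    apply hA.2 x hx
    rw [← e]; exact hny
  refine ⟨n * y * n⁻¹, hnyA, ?_⟩
  have hn1 : QuotientGroup.mk' N n = 1 := (QuotientGroup.eq_one_iff n).mpr hn
  rw [map_mul, map_mul, map_inv, hn1]
  simp

end Cfsg.Agent.S1250
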