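import Cfsg.Statements.S1253
import Mathlib
import Cfsg.Agent.Lib.Helper2.ZS12
import Cfsg.Agent.S1187
import Cfsg.Agent.S1180

set_option autoImplicit false
open Cfsg

namespace Cfsg.Agent.S1253

open Cfsg.Agent.Lib.Helper2.ZS Cfsg.Agent.Lib.Lead
open scoped Pointwise

/-- Let z be an isolated involution of the finite group G with centralizer C, p an odd prime and P a Sylow p-subgroup of G normalized by z. Then P ∩ C has p-power-free index in C (it is a Sylow p-subgroup of C), and |P : C_P(z)| equals the number of elements x ∈ P with z x z⁻¹ = x⁻¹. -/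
theorem result {G : Type*} [Group G] [Finite G] (z : G) (hz : Cfsg.IsIsolatedInvolution z) {p : ℕ} [Fact p.Prime] (hp : p ≠ 2) (P : Sylow p G) (hzP : z ∈ Subgroup.normalizer ((P : Subgroup G) : Set G)) : ¬ p ∣ ((P : Subgroup G) ⊓ Subgroup.centralizer ({z} : Set G)).relIndex (Subgroup.centralizer ({z} : Set G)) ∧ ((P : Subgroup G) ⊓ Subgroup.centralizer ({z} : Set G)).relIndex (P : Subgroup G) = Nat.card {x : G // x ∈ P ∧ z * x * z⁻¹ = x⁻¹} := by
  classical
  have hpF : Fact p.Prime := inferInstance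
  have hzi : z⁻¹ = z := invol_inv hz.1
  have hzz : z * z = 1 := by
    have := mul_inv_cancel z
    rwa [hzi] at this
  set C := Subgroup.centralizer ({z} : Set G) with hC
  constructor
  · -- (1): `P ∩ C` is a Sylow `p`-subgroup of `C`
    obtain ⟨T⟩ : Nonempty (Sylow p ↥C) := inferInstance
    set T₁ : Subgroup G := (T : Subgroup C).map C.subtype with hT₁
    have hT₁p : IsPGroup p T₁ := T.2.map _
    have hT₁C : T₁ ≤ C := Subgroup.map_subtype_le _
    have hzT₁ : z ∈ Subgroup.normalizer (T₁ : Set G) := by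
      apply Subgroup.centralizer_le_normalizer
      rw [Subgroup.mem_centralizer_iff]
      intro h hh
      exact Subgroup.mem_centralizer_singleton_iff.mp (hT₁C hh)
    let 𝒮 : Set (Subgroup G) :=
      {V | T₁ ≤ V ∧ IsPGroup p V ∧ z ∈ Subgroup.normalizer (V : Set G)}
    have h𝒮 : 𝒮.Finite := Set.toFinite 𝒮
    obtain ⟨Q, hTQ, hmax⟩ := h𝒮.exists_le_maximal (show T₁ ∈ 𝒮 from ⟨le_rfl, hT₁p, hzT₁⟩)
    obtain ⟨hT₁Q, hQp, hzQ⟩ := hmax.prop
    obtain ⟨P₁, hP₁⟩ := Cfsg.Agent.S1187.result z hz Q hQp hzQ (by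
      intro R hRp hzR hQR
      exact le_antisymm (hmax.le_of_ge ⟨hT₁Q.trans hQR, hRp, hzR⟩ hQR) hQR)
    obtain ⟨g, hg⟩ := MulAction.exists_smul_eq G P P₁
    have hzP₁ : z • P₁ = P₁ := by
      rw [Sylow.smul_eq_iff_mem_normalizer]
      show z ∈ Subgroup.normalizer (((P₁ : Subgroup G)) : Set G)
      rw [hP₁]; exact hzQ
    have hgz : (g⁻¹ * z * g⁻¹⁻¹) • P = P := by
      rw [inv_inv, mul_smul, mul_smul, hg, hzP₁, ← hg, inv_smul_smul]
    have hgzN : g⁻¹ * z * g⁻¹⁻¹ ∈ Subgroup.normalizer ((P : Subgroup G) : Set G) :=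
      Sylow.smul_eq_iff_mem_normalizer.mp hgz
    obtain ⟨h, hhN, hh⟩ := Cfsg.Agent.S1180.result z hz
      (Subgroup.normalizer ((P : Subgroup G) : Set G)) hzP g⁻¹ hgzN
    set c := g * h with hc
    have hcC : c ∈ C := by
      rw [hC, Subgroup.mem_centralizer_singleton_iff]
      have e : c * z * c⁻¹ = g * (h * z * h⁻¹) * g⁻¹ := by rw [hc]; group
      have e2 : c * z * c⁻¹ = z := by rw [e, hh]; group
      calc c * z = c * z * c⁻¹ * c := by group
        _ = z * c := by rw [e2]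
    have hcP : c • P = P₁ := by
      rw [hc, mul_smul, Sylow.smul_eq_iff_mem_normalizer.mpr hhN, hg]
    set cC : ↥C := ⟨c, hcC⟩ with hcCdef
    have hle : ((cC⁻¹ • T : Sylow p ↥C) : Subgroup ↥C) ≤
        ((P : Subgroup G) ⊓ C).subgroupOf C := by
      intro y hy
      change y ∈ MulAut.conj cC⁻¹ • (T : Subgroup ↥C) at hy
      rw [Subgroup.mem_pointwise_smul_iff_inv_smul_mem] at hy
      have hy' : cC * y * cC⁻¹ ∈ (T : Subgroup ↥C) := by
        simpa [MulAut.smul_def] using hy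
      have h1 : c * (y : G) * c⁻¹ ∈ T₁ := ⟨cC * y * cC⁻¹, hy', rfl⟩
      have h2 : c * (y : G) * c⁻¹ ∈ (P₁ : Subgroup G) := by
        rw [hP₁]; exact hT₁Q h1
      rw [← hcP] at h2
      change c * (y : G) * c⁻¹ ∈ MulAut.conj c • (P : Subgroup G) at h2
      rw [Subgroup.mem_pointwise_smul_iff_inv_smul_mem] at h2
      have h3 : (y : G) ∈ (P : Subgroup G) := by
        have e : (MulAut.conj c)⁻¹ • (c * (y : G) * c⁻¹) = (y : G) := by
          simp [MulAut.smul_def]
          group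
        rwa [e] at h2
      rw [Subgroup.mem_subgroupOf]
      exact ⟨h3, y.2⟩
    have hdvd : (((P : Subgroup G) ⊓ C).subgroupOf C).index ∣
        ((cC⁻¹ • T : Sylow p ↥C) : Subgroup ↥C).index := Subgroup.index_dvd_of_le hle
    intro hcon
    exact (cC⁻¹ • T : Sylow p ↥C).not_dvd_index (hcon.trans hdvd)
  · -- (2): the index of `C_P(z)` counts the inverted elements
    have hPn : ∀ x ∈ (P : Subgroup G), z * x * z⁻¹ ∈ (P : Subgroup G) :=
      fun x hx => (Subgroup.mem_normalizer_iff.mp hzP x).mp hx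
    have hodd : ∀ x ∈ (P : Subgroup G), Odd (orderOf x) := by
      intro x hx
      obtain ⟨k, hk⟩ := (IsPGroup.iff_orderOf.mp P.2) ⟨x, hx⟩
      rw [Subgroup.orderOf_mk] at hk
      rw [hk]
      exact (hpF.out.odd_of_ne_two hp).pow
    set F : Subgroup ↥(P : Subgroup G) := ((P : Subgroup G) ⊓ C).subgroupOf (P : Subgroup G) with hF
    have hFmem : ∀ x : ↥(P : Subgroup G), x ∈ F ↔ (x : G) * z = z * (x : G) := by
      intro x
      rw [hF, Subgroup.mem_subgroupOf, Subgroup.mem_inf, hC, Subgroup.mem_centralizer_singleton_iff]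
      exact ⟨fun h => h.2, fun h => ⟨x.2, h⟩⟩
    let I := {x : G // x ∈ P ∧ z * x * z⁻¹ = x⁻¹}
    let f : ↥(P : Subgroup G) → I := fun x => ⟨(x : G) * z * (x : G)⁻¹ * z⁻¹, by
      have h1 : z * (x : G)⁻¹ * z⁻¹ ∈ (P : Subgroup G) := hPn _ ((P : Subgroup G).inv_mem x.2)
      have e : (x : G) * z * (x : G)⁻¹ * z⁻¹ = (x : G) * (z * (x : G)⁻¹ * z⁻¹) := by group
      rw [e]; exact (P : Subgroup G).mul_mem x.2 h1, by
      rw [hzi]
      have e1 : z * ((x : G) * z * (x : G)⁻¹ * z) * z = z * (x : G) * z * (x : G)⁻¹ * (z * z) := by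
        group
      have e2 : ((x : G) * z * (x : G)⁻¹ * z)⁻¹ = z⁻¹ * (x : G) * z⁻¹ * (x : G)⁻¹ := by group
      rw [e1, e2, hzz, hzi, mul_one]⟩
    have hf_eq : ∀ a b : ↥(P : Subgroup G), f a = f b ↔ a⁻¹ * b ∈ F := by
      intro a b
      rw [hFmem]
      constructor
      · intro h
        have h1 : (a : G) * z * (a : G)⁻¹ * z⁻¹ = (b : G) * z * (b : G)⁻¹ * z⁻¹ :=
          congrArg Subtype.val h
        have h2 : (a : G) * z * (a : G)⁻¹ = (b : G) * z * (b : G)⁻¹ := mul_right_cancel h1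
        show ((a⁻¹ * b : ↥(P : Subgroup G)) : G) * z = z * ((a⁻¹ * b : ↥(P : Subgroup G)) : G)
        rw [Subgroup.coe_mul, Subgroup.coe_inv]
        calc (a : G)⁻¹ * (b : G) * z = (a : G)⁻¹ * ((b : G) * z * (b : G)⁻¹) * (b : G) := by group
          _ = (a : G)⁻¹ * ((a : G) * z * (a : G)⁻¹) * (b : G) := by rw [h2]
          _ = z * ((a : G)⁻¹ * (b : G)) := by group
      · intro h
        have h' : (a : G)⁻¹ * (b : G) * z = z * ((a : G)⁻¹ * (b : G)) := by
          have := h
          rwa [Subgroup.coe_mul, Subgroup.coe_inv] at this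
        apply Subtype.ext
        show (a : G) * z * (a : G)⁻¹ * z⁻¹ = (b : G) * z * (b : G)⁻¹ * z⁻¹
        congr 1
        calc (a : G) * z * (a : G)⁻¹ = (a : G) * (z * ((a : G)⁻¹ * (b : G))) * (b : G)⁻¹ := by group
          _ = (a : G) * ((a : G)⁻¹ * (b : G) * z) * (b : G)⁻¹ := by rw [h']
          _ = (b : G) * z * (b : G)⁻¹ := by group
    have hf_surj : Function.Surjective f := by
      rintro ⟨i, hiP, hiz⟩
      obtain ⟨k, hk⟩ := hodd i hiP
      set j := i ^ (k + 1) with hj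
      have hjP : j ∈ (P : Subgroup G) := (P : Subgroup G).pow_mem hiP _
      have hjj : j * j = i := by
        rw [hj, ← pow_add]
        have : k + 1 + (k + 1) = orderOf i + 1 := by omega
        rw [this, pow_succ, pow_orderOf_eq_one, one_mul]
      have hjz : z * j * z⁻¹ = j⁻¹ := by
        rw [hj, ← conj_pow, hiz, inv_pow]
      refine ⟨⟨j, hjP⟩, ?_⟩
      apply Subtype.ext
      show j * z * j⁻¹ * z⁻¹ = i
      have e : j * z * j⁻¹ * z⁻¹ = j * (z * j * z⁻¹)⁻¹ := by group
      rw [e, hjz, inv_inv, hjj]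
    have hcard : Nat.card (↥(P : Subgroup G) ⧸ F) = Nat.card I := by
      apply Nat.card_congr
      refine Equiv.ofBijective (Quotient.lift (s := QuotientGroup.leftRel F) f (fun a b hab =>
        (hf_eq a b).mpr (QuotientGroup.leftRel_apply.mp hab))) ⟨?_, ?_⟩
      · intro qa qb
        induction qa using Quotient.inductionOn with | _ a => ?_
        induction qb using Quotient.inductionOn with | _ b => ?_
        intro h
        apply Quotient.sound
        exact QuotientGroup.leftRel_apply.mpr ((hf_eq a b).mp h)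
      · intro i
        obtain ⟨a, ha⟩ := hf_surj i
        exact ⟨Quotient.mk _ a, ha⟩
    show F.index = Nat.card I
    rw [Subgroup.index_eq_card, hcard]

end Cfsg.Agent.S1253
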