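import Cfsg.Statements.S1255
import Mathlib
import Cfsg.Agent.Lib.Helper2.DihedralFusion

set_option autoImplicit false
open Cfsg

namespace Cfsg.Agent.S1255

open Cfsg.Agent.S3864 Cfsg.Agent.Lib.Helper2.DihedralFusion

/-- Let X be a finite group whose Sylow 2-subgroup S is dihedral of order 2m ≥ 4. Then X has no subgroup of index 2 and no isolated involution if and only if either all involutions of X are conjugate, or for every Klein four-subgroup U ≤ S the index |N_X(U) : C_X(U)| equals 3 when |S| = 4 and equals 6 when |S| > 4. -/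
theorem result {X : Type*} [Group X] [Finite X] (S : Sylow 2 X) (m : ℕ) (hm : 2 ≤ m) (eS : (S : Subgroup X) ≃* DihedralGroup m) : ((∀ H : Subgroup X, H.index ≠ 2) ∧ (∀ z : X, ¬ Cfsg.IsIsolatedInvolution z)) ↔ ((∀ a b : X, orderOf a = 2 → orderOf b = 2 → IsConj a b) ∨ (∀ U : Subgroup X, U ≤ S → IsKleinFour U → (Subgroup.centralizer (U : Set X)).relIndex (Subgroup.normalizer (U : Set X)) = (if Nat.card S = 4 then 3 else 6))) := by
  haveI : Fact (Nat.Prime 2) := ⟨Nat.prime_two⟩
  have hcard : Nat.card ↥(S : Subgroup X) = 2 * m := by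
    rw [Nat.card_congr eS.toEquiv, DihedralGroup.nat_card]
  obtain ⟨a, ha⟩ := IsPGroup.exists_card_eq S.2
  rw [hcard] at ha
  have ha2 : 2 ≤ a := by
    by_contra hlt
    have : a = 0 ∨ a = 1 := by omega
    rcases this with rfl | rfl <;> omega
  obtain ⟨n, rfl⟩ : ∃ n, a = n + 2 := ⟨a - 2, by omega⟩
  have hm' : m = 2 ^ (n + 1) := by
    rw [pow_succ'] at ha
    exact Nat.eq_of_mul_eq_mul_left (by norm_num) ha
  rcases Nat.eq_zero_or_pos n with hn | hn
  · have hm2 : m = 2 := by rw [hm', hn]; norm_num
    subst hm2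
    haveI hK : IsKleinFour ↥(S : Subgroup X) :=
      { card_four := by rw [hcard]
        exponent_two := by
          rw [Monoid.exponent_eq_of_mulEquiv eS]
          exact IsKleinFour.exponent_two }
    have h4 : Nat.card S = 4 := hcard
    rw [if_pos h4]
    exact four_main S 3 (by norm_num) (by norm_num)
  · obtain ⟨j, rfl⟩ : ∃ j, n = j + 1 := ⟨n - 1, by omega⟩
    have D : DihData (S : Subgroup X) m (2 ^ (j + 1)) :=
      { e := (S : Subgroup X).subtype.comp eS.symm.toMonoidHom
        inj := fun a b h => eS.symm.injective (Subtype.ext h)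
        mem_iff := fun g => ⟨fun hg => ⟨eS ⟨g, hg⟩, by simp⟩, by rintro ⟨d, rfl⟩; exact (eS.symm d).2⟩
        hmk := by rw [hm', pow_succ' 2 (j + 1)]
        hk2 := by rw [pow_succ']; exact Dvd.intro _ rfl
        hk0 := by positivity }
    have h4 : ¬ Nat.card S = 4 := by
      intro h
      have h' : Nat.card ↥(S : Subgroup X) = 4 := h
      rw [hcard, hm', pow_succ', pow_succ'] at h'
      have : 0 < 2 ^ j := by positivity
      omega
    rw [if_neg h4]
    exact dih_main S D 6 (by norm_num) (by norm_num)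

end Cfsg.Agent.S1255
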