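import Cfsg.Statements.S1256
import Mathlib
import Cfsg.Agent.Lib.Helper2.DihedralFour2

set_option autoImplicit false
open Cfsg

namespace Cfsg.Agent.S1256

open Cfsg.Agent.S3864 Cfsg.Agent.Lib.Helper2.DihedralFour

/-- Let X be a finite group whose Sylow 2-subgroup S is dihedral of order 2m ≥ 4. If |S| = 4, any two Klein four-subgroups of X are conjugate; if |S| > 4, there are Klein four-subgroups U₁, U₂ of X that are not conjugate, and every Klein four-subgroup of X is conjugate to U₁ or to U₂. -/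
theorem result {X : Type*} [Group X] [Finite X] (S : Sylow 2 X) (m : ℕ) (hm : 2 ≤ m) (eS : (S : Subgroup X) ≃* DihedralGroup m) : (Nat.card S = 4 → ∀ U V : Subgroup X, IsKleinFour U → IsKleinFour V → (∃ x : X, U.map (MulAut.conj x).toMonoidHom = V)) ∧ (4 < Nat.card S → ∃ U₁ U₂ : Subgroup X, IsKleinFour U₁ ∧ IsKleinFour U₂ ∧ ¬ (∃ x : X, U₁.map (MulAut.conj x).toMonoidHom = U₂) ∧ ∀ V : Subgroup X, IsKleinFour V → (∃ x : X, V.map (MulAut.conj x).toMonoidHom = U₁) ∨ (∃ x : X, V.map (MulAut.conj x).toMonoidHom = U₂)) := by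
  haveI : Fact (Nat.Prime 2) := ⟨Nat.prime_two⟩
  have hcard : Nat.card ↥(S : Subgroup X) = 2 * m := by
    rw [Nat.card_congr eS.toEquiv, DihedralGroup.nat_card]
  constructor
  · intro h4 U V hU hV
    have h4' : Nat.card ↥(S : Subgroup X) = 4 := h4
    apply conj_of_card_eq_sylow S U V
    · rw [h4']; exact IsKleinFour.card_four
    · rw [h4']; exact IsKleinFour.card_four
  · intro h4
    have h4' : 4 < Nat.card ↥(S : Subgroup X) := h4
    obtain ⟨a, ha⟩ := IsPGroup.exists_card_eq S.2
    rw [hcard] at ha h4'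
    have ha3 : 3 ≤ a := by
      by_contra hlt
      have : a = 0 ∨ a = 1 ∨ a = 2 := by omega
      rcases this with rfl | rfl | rfl <;> omega
    obtain ⟨j, rfl⟩ : ∃ j, a = j + 3 := ⟨a - 3, by omega⟩
    have hm' : m = 2 ^ (j + 2) := by
      rw [pow_succ'] at ha
      exact Nat.eq_of_mul_eq_mul_left (by norm_num) ha
    have D : DihData (S : Subgroup X) m (2 ^ (j + 1)) :=
      { e := (S : Subgroup X).subtype.comp eS.symm.toMonoidHom
        inj := fun a b h => eS.symm.injective (Subtype.ext h)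
        mem_iff := fun g => ⟨fun hg => ⟨eS ⟨g, hg⟩, by simp⟩, by rintro ⟨d, rfl⟩; exact (eS.symm d).2⟩
        hmk := by rw [hm', pow_succ' 2 (j + 1)]
        hk2 := by rw [pow_succ']; exact Dvd.intro _ rfl
        hk0 := by positivity }
    exact dih_four_classes S D

end Cfsg.Agent.S1256
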