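import Cfsg.Statements.S1258
import Mathlib
import Cfsg.Agent.Lib.Helper2.Components2

set_option autoImplicit false
open Cfsg

namespace Cfsg.Agent.S1258

/-- If the central quotient of a finite group X is non-abelian simple, then X = X' Z(X) and the commutator subgroup X' is quasisimple. -/
theorem result {X : Type*} [Group X] [Finite X] (hs : IsSimpleGroup (X ⧸ Subgroup.center X)) (hna : ¬ IsMulCommutative (X ⧸ Subgroup.center X)) : commutator X ⊔ Subgroup.center X = ⊤ ∧ Cfsg.IsQuasisimple ↥(commutator X) := by
  have := hs
  have hna' : ¬ ∀ a b : X ⧸ Subgroup.center X, a * b = b * a := fun h => hna ⟨⟨h⟩⟩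
  have hQ : IsQuasisimple (X ⧸ Subgroup.center X) :=
    Cfsg.Agent.Lib.Helper2.isQuasisimple_of_simple hna'
  -- the image of the commutator subgroup is everything
  have hmap : (commutator X).map (QuotientGroup.mk' (Subgroup.center X)) = ⊤ := by
    have hc : commutator (X ⧸ Subgroup.center X) = ⊤ := hQ.1.commutator_eq_top
    rw [commutator_def]
    have h1 : (⊤ : Subgroup (X ⧸ Subgroup.center X)) =
        (⊤ : Subgroup X).map (QuotientGroup.mk' (Subgroup.center X)) :=
      (Subgroup.map_top_of_surjective _ (QuotientGroup.mk'_surjective (Subgroup.center X))).symm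
    rw [Subgroup.map_commutator, ← h1]
    exact hc
  have hsup : commutator X ⊔ Subgroup.center X = ⊤ := by
    have := congrArg (Subgroup.comap (QuotientGroup.mk' (Subgroup.center X))) hmap
    rwa [Subgroup.comap_map_eq, QuotientGroup.ker_mk', Subgroup.comap_top] at this
  refine ⟨hsup, ?_⟩
  -- the commutator subgroup is perfect
  have hperf : ⁅commutator X, commutator X⁆ = commutator X := by
    apply le_antisymm (Subgroup.commutator_le_left _ _)
    have h1 : commutator X = ⁅commutator X ⊔ Subgroup.center X, commutator X ⊔ Subgroup.center X⁆ := by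
      rw [hsup, commutator_def]
    conv_lhs => rw [h1]
    have : (⁅commutator X, commutator X⁆).Normal := Subgroup.commutator_normal _ _
    apply Cfsg.Agent.Lib.Helper2.commutator_sup_le
    · apply Cfsg.Agent.Lib.Helper2.commutator_sup_le'
      · exact le_rfl
      · rw [Subgroup.commutator_center_right]; exact bot_le
    · rw [Subgroup.commutator_center_left]; exact bot_le
  have hP : Group.IsPerfect ↥(commutator X) := Subgroup.isPerfect_iff.2 hperf
  let θ : ↥(commutator X) →* X ⧸ Subgroup.center X :=
    (QuotientGroup.mk' (Subgroup.center X)).comp (commutator X).subtype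
  have hθ : Function.Surjective θ := by
    intro y
    have : y ∈ (commutator X).map (QuotientGroup.mk' (Subgroup.center X)) := by
      rw [hmap]; trivial
    obtain ⟨x, hx, rfl⟩ := this
    exact ⟨⟨x, hx⟩, rfl⟩
  have hker : θ.ker ≤ Subgroup.center ↥(commutator X) := by
    intro x hx
    have hx' : (x : X) ∈ Subgroup.center X := by
      have : QuotientGroup.mk' (Subgroup.center X) (x : X) = 1 := hx
      rwa [QuotientGroup.mk'_apply, QuotientGroup.eq_one_iff] at this
    rw [Subgroup.mem_center_iff]
    intro g
    ext
    exact Subgroup.mem_center_iff.1 hx' g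
  exact Cfsg.Agent.Lib.Helper2.isQuasisimple_of_surjective_central hP θ hθ hker hQ

end Cfsg.Agent.S1258
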