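import Cfsg.Statements.S1260
import Mathlib
import Cfsg.Agent.Lib.Helper2.Components2

set_option autoImplicit false
open Cfsg

namespace Cfsg.Agent.S1260

/-- Let H be a subnormal subgroup of the finite group G and K a subgroup of H. Then K is a component of H if and only if K, viewed in G, is a component of G. -/
theorem result {G : Type*} [Group G] [Finite G] (H : Subgroup G) (hH : H.IsSubnormal) (K : Subgroup ↥H) : Cfsg.IsComponent K ↔ Cfsg.IsComponent (K.map H.subtype) := by
  have e : ↥K ≃* ↥(K.map H.subtype) := K.equivMapOfInjective H.subtype H.subtype_injective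
  constructor
  · rintro ⟨hsn, hq⟩
    exact ⟨hsn.trans' hH, Cfsg.Agent.Lib.Helper2.isQuasisimple_of_mulEquiv e.symm hq⟩
  · rintro ⟨hsn, hq⟩
    refine ⟨?_, Cfsg.Agent.Lib.Helper2.isQuasisimple_of_mulEquiv e hq⟩
    have h1 : ((K.map H.subtype).subgroupOf H).IsSubnormal := hsn.subgroupOf
    have h2 : (K.map H.subtype).subgroupOf H = K := by
      ext x
      rw [Subgroup.mem_subgroupOf]
      constructor
      · rintro ⟨y, hy, hxy⟩
        have : y = x := Subtype.ext hxy
        rwa [← this]
      · intro hx
        exact ⟨x, hx, rfl⟩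
    rwa [h2] at h1

end Cfsg.Agent.S1260
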