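import Cfsg.Statements.S1262
import Mathlib
import Cfsg.Agent.Lib.Helper2.Components

set_option autoImplicit false
open Cfsg

namespace Cfsg.Agent.S1262

/-- Let L be a component of the finite group G and H a solvable subgroup normalized by L. Then ⁅L, H⁆ = 1. -/
theorem result {G : Type*} [Group G] [Finite G] (L H : Subgroup G) (hL : Cfsg.IsComponent L) (hsolv : Group.IsSolvable ↥H) (hinv : L ≤ Subgroup.normalizer (H : Set G)) : ⁅L, H⁆ = ⊥ := by
  rcases Cfsg.Agent.Lib.Helper2.isComponent_le_or_commutator_eq_bot_of_le_normalizer hL hinv with h | h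
  · exfalso
    have hs : Group.IsSolvable ↥L :=
      Group.isSolvable_of_isSolvable_injective (Subgroup.inclusion_injective h)
    have hp : Group.IsPerfect ↥L := hL.2.1
    have hne : Nontrivial ↥L :=
      (Subgroup.nontrivial_iff_ne_bot L).2 (Cfsg.Agent.Lib.Helper2.isComponent_ne_bot hL)
    exact Group.IsPerfect.not_isSolvable ↥L hs
  · rw [Subgroup.commutator_comm]; exact h

end Cfsg.Agent.S1262
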