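import Cfsg.Statements.S1263
import Mathlib
import Cfsg.Agent.Lib.Helper2.Components3

set_option autoImplicit false
open Cfsg

namespace Cfsg.Agent.S1263

theorem mem_center_map_iff {G : Type*} [Group G] (H : Subgroup G) (z : G) :
    z ∈ (Subgroup.center ↥H).map H.subtype ↔ z ∈ H ∧ ∀ x ∈ H, x * z = z * x := by
  constructor
  · rintro ⟨y, hy, rfl⟩
    refine ⟨y.2, fun x hx => ?_⟩
    have := Subgroup.mem_center_iff.1 hy ⟨x, hx⟩
    exact congrArg Subtype.val this
  · rintro ⟨hz, h⟩
    refine ⟨⟨z, hz⟩, ?_, rfl⟩
    refine Subgroup.mem_center_iff.2 ?_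
    intro g
    ext
    exact h g g.2

theorem iSup_le_center {G : Type*} [Group G] :
    (⨆ L : {K : Subgroup G // Cfsg.IsComponent K},
      (Subgroup.center ↥(L : Subgroup G)).map (L : Subgroup G).subtype) ≤
    (Subgroup.center ↥(Cfsg.layer G)).map (Cfsg.layer G).subtype := by
  apply iSup_le
  rintro ⟨L, hL⟩ z hz
  rw [mem_center_map_iff] at hz ⊢
  refine ⟨Cfsg.Agent.Lib.Helper2.le_layer hL hz.1, ?_⟩
  have : Cfsg.layer G ≤ Subgroup.centralizer ({z} : Set G) := by
    unfold Cfsg.layer
    apply sSup_le
    intro K hK x hx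
    rw [Subgroup.mem_centralizer_singleton_iff]
    rcases Cfsg.Agent.Lib.Helper2.isComponent_eq_or_commutator_eq_bot hK hL with h | h
    · subst h
      exact hz.2 x hx
    · rw [Subgroup.commutator_eq_bot_iff_le_centralizer] at h
      exact (Subgroup.mem_centralizer_iff.1 (h hx) z hz.1).symm
  intro x hx
  exact Subgroup.mem_centralizer_singleton_iff.1 (this hx)

/-- For a finite group G, Z(E(G)) is the subgroup generated by the centres Z(L) of the components L of G (all viewed as subgroups of G). -/
theorem result {G : Type*} [Group G] [Finite G] : (Subgroup.center ↥(Cfsg.layer G)).map (Cfsg.layer G).subtype = ⨆ L : {K : Subgroup G // Cfsg.IsComponent K}, (Subgroup.center ↥(L : Subgroup G)).map (L : Subgroup G).subtype := by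
  apply le_antisymm _ iSup_le_center
  set R := ⨆ L : {K : Subgroup G // Cfsg.IsComponent K},
      (Subgroup.center ↥(L : Subgroup G)).map (L : Subgroup G).subtype with hR
  set ZE := (Subgroup.center ↥(Cfsg.layer G)).map (Cfsg.layer G).subtype with hZE
  have hfin : ({K : Subgroup G | Cfsg.IsComponent K}).Finite := Set.toFinite _
  have key : ZE ⊓ sSup {K : Subgroup G | Cfsg.IsComponent K} ≤ R := by
    refine Set.Finite.induction_on_subset (motive := fun T _ => ZE ⊓ sSup T ≤ R) _ hfin ?_ ?_
    · simp
    · intro L T hL hT hLT ih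
      rw [sSup_insert]
      have hcomm : ⁅sSup T, L⁆ = ⊥ := by
        rw [eq_bot_iff]
        apply Cfsg.Agent.Lib.Helper2.commutator_sSup_le
        intro K hK
        rcases Cfsg.Agent.Lib.Helper2.isComponent_eq_or_commutator_eq_bot (hT hK) hL with h | h
        · subst h; exact absurd hK hLT
        · rw [h]
      have hLW : L ≤ Subgroup.normalizer ((sSup T : Subgroup G) : Set G) := by
        rw [Subgroup.commutator_comm, Subgroup.commutator_eq_bot_iff_le_centralizer] at hcomm
        exact hcomm.trans (Subgroup.centralizer_le_normalizer _)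
      rintro z ⟨hzZ, hzE⟩
      have hz' : z ∈ ((L ⊔ sSup T : Subgroup G) : Set G) := hzE
      rw [Subgroup.coe_mul_of_left_le_normalizer_right _ _ hLW] at hz'
      obtain ⟨l, hl, w, hw, rfl⟩ := hz'
      have hzc := ((mem_center_map_iff _ _).1 hzZ).2
      have hlc : l ∈ (Subgroup.center ↥L).map L.subtype := by
        rw [mem_center_map_iff]
        refine ⟨hl, fun x hx => ?_⟩
        have h1 := hzc x (Cfsg.Agent.Lib.Helper2.le_layer hL hx)
        have h2 : w * x = x * w := by
          rw [Subgroup.commutator_eq_bot_iff_le_centralizer] at hcomm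
          exact Subgroup.mem_centralizer_iff.1 (hcomm hw) x hx |>.symm
        calc x * l = x * (l * w) * w⁻¹ := by group
          _ = l * w * x * w⁻¹ := by rw [h1]
          _ = l * (w * x) * w⁻¹ := by group
          _ = l * (x * w) * w⁻¹ := by rw [h2]
          _ = l * x := by group
      have hlR : l ∈ R := by
        have : (Subgroup.center ↥L).map L.subtype ≤ R :=
          le_iSup (fun K : {K : Subgroup G // Cfsg.IsComponent K} =>
            (Subgroup.center ↥(K : Subgroup G)).map (K : Subgroup G).subtype) ⟨L, hL⟩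
        exact this hlc
      have hlZ : l ∈ ZE := iSup_le_center hlR
      have hwZ : w ∈ ZE ⊓ sSup T := by
        refine ⟨?_, hw⟩
        have : w = l⁻¹ * (l * w) := by group
        rw [this]
        exact ZE.mul_mem (ZE.inv_mem hlZ) hzZ
      exact R.mul_mem hlR (ih hwZ)
  intro z hz
  exact key ⟨hz, Subgroup.map_subtype_le _ hz⟩

end Cfsg.Agent.S1263
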