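import Cfsg.Statements.S1264
import Mathlib
import Cfsg.Agent.Lib.Helper8.Nilp

set_option autoImplicit false
open Cfsg

namespace Cfsg.Agent.S1264

open Cfsg.Agent.Lib.Helper8 in
theorem main {G : Type*} [Group G] [Finite G] (N : Subgroup G)
    (hN : N ≤ Subgroup.centralizer (Cfsg.fittingSubgroup G : Set G))
    (hnorm : Subgroup.centralizer (Cfsg.fittingSubgroup G : Set G) ≤ Subgroup.normalizer (N : Set G))
    (hsolv : Group.IsSolvable ↥N) :
    N ≤ Subgroup.centralizer (Cfsg.fittingSubgroup G : Set G) ⊓ Cfsg.fittingSubgroup G := by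
  classical
  have hFn : (Cfsg.fittingSubgroup G).Normal := Cfsg.Agent.Lib.Helper2.fittingSubgroup_normal
  set F := Cfsg.fittingSubgroup G with hF
  set C := Subgroup.centralizer (F : Set G) with hC
  have hCn : C.Normal := Subgroup.normal_centralizer
  set Z := C ⊓ F with hZ
  have hex : ∃ k, dser N k ≤ Z := by
    obtain ⟨k, hk⟩ := exists_dser_eq_bot N hsolv
    exact ⟨k, by rw [hk]; exact bot_le⟩
  have hfind := Nat.find_spec hex
  rcases Nat.eq_zero_or_pos (Nat.find hex) with h0 | hpos
  · rw [h0] at hfind; exact hfind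
  · exfalso
    obtain ⟨m, hm⟩ : ∃ m, Nat.find hex = m + 1 := ⟨Nat.find hex - 1, by omega⟩
    have hnot : ¬ dser N m ≤ Z := Nat.find_min hex (by omega)
    rw [hm, dser_succ] at hfind
    set A := dser N m with hA
    have hAN : A ≤ N := dser_le_self N m
    have hAC : A ≤ C := hAN.trans hN
    -- `A` is nilpotent
    have hAnil : Group.IsNilpotent ↥A := by
      apply isNilpotent_of_commutator_central
      intro z hz a ha
      have hzF : z ∈ F := (hfind hz).2
      exact (Subgroup.mem_centralizer_iff.1 (hAC ha) z hzF).symm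
    -- `A` is subnormal
    have hAsn : A.IsSubnormal := by
      have h1 : C ≤ Subgroup.normalizer (A : Set G) :=
        hnorm.trans (normalizer_le_normalizer_dser N m)
      have h2 : (A.subgroupOf C).Normal := Subgroup.normal_subgroupOf_of_le_normalizer h1
      exact Subgroup.IsSubnormal.trans hAC h2.isSubnormal hCn.isSubnormal
    have hAF : A ≤ F :=
      Cfsg.Agent.Lib.Helper1.le_fittingSubgroup_of_isSubnormal_of_isNilpotent hAsn hAnil
    exact hnot (le_inf hAC hAF)

/-- Let G be finite, C = C_G(F(G)) the centralizer of the Fitting subgroup, and N a solvable subgroup of C normalized by C. Then N ≤ Z(F(G)). -/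
theorem result {G : Type*} [Group G] [Finite G] (N : Subgroup G) (hN : N ≤ Subgroup.centralizer (Cfsg.fittingSubgroup G : Set G)) (hnorm : Subgroup.centralizer (Cfsg.fittingSubgroup G : Set G) ≤ Subgroup.normalizer (N : Set G)) (hsolv : Group.IsSolvable ↥N) : N ≤ (Subgroup.center ↥(Cfsg.fittingSubgroup G)).map (Cfsg.fittingSubgroup G).subtype := by
  intro x hx
  obtain ⟨hxC, hxF⟩ := main N hN hnorm hsolv hx
  refine ⟨⟨x, hxF⟩, ?_, rfl⟩
  refine Subgroup.mem_center_iff.2 ?_
  intro g
  ext
  exact Subgroup.mem_centralizer_iff.1 hxC g g.2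

end Cfsg.Agent.S1264
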