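import Cfsg.Statements.S1267
import Mathlib
import Cfsg.Agent.Lib.Helper8.LocalLayer

set_option autoImplicit false
open Cfsg

namespace Cfsg.Agent.S1267

/-- Let G be finite and P ≤ O_p(G). Then E(N_G(P)) = E(G). -/
theorem result {G : Type*} [Group G] [Finite G] (p : ℕ) [Fact p.Prime] (P : Subgroup G) (hP : P ≤ Cfsg.pCore p G) : (Cfsg.layer ↥(Subgroup.normalizer ((P : Subgroup G) : Set G))).map (Subgroup.normalizer ((P : Subgroup G) : Set G)).subtype = Cfsg.layer G := by
  have hQn : (Cfsg.pCore p G).Normal := Cfsg.Agent.Lib.Helper7.pCore_normal p G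
  have hQp : IsPGroup p ↥(Cfsg.pCore p G) := Cfsg.Agent.Lib.Helper7.pCore_isPGroup p G
  have hQsolv : Group.IsSolvable ↥(Cfsg.pCore p G) := by
    have := hQp.isNilpotent
    infer_instance
  apply le_antisymm
  · rw [Subgroup.map_le_iff_le_comap]
    unfold Cfsg.layer
    apply sSup_le
    intro K hK
    rw [← Subgroup.map_le_iff_le_comap]
    exact le_sSup (Cfsg.Agent.Lib.Helper8.isComponent_of_normalizer_pSubgroup p P hP _
      Subgroup.le_normalizer (Subgroup.centralizer_le_normalizer _) K hK)
  · conv_lhs => unfold Cfsg.layer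
    apply sSup_le
    intro L hL
    have h1 : ⁅L, Cfsg.pCore p G⁆ = ⊥ := by
      apply Cfsg.Agent.Lib.Helper8.component_commutator_solvable hL hQsolv
      rw [Subgroup.normalizer_eq_top]; exact le_top
    rw [Subgroup.commutator_eq_bot_iff_le_centralizer] at h1
    have hLN : L ≤ Subgroup.normalizer (P : Set G) :=
      h1.trans ((Subgroup.centralizer_le hP).trans (Subgroup.centralizer_le_normalizer _))
    exact Cfsg.Agent.Lib.Helper8.le_layer_map hL hLN

end Cfsg.Agent.S1267
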