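import Cfsg.Statements.S1271
import Mathlib
import Cfsg.Agent.Lib.Helper8.CompBal4

set_option autoImplicit false
open Cfsg

namespace Cfsg.Agent.S1271

/-- Let G be finite with O_{p'}(G) = 1. Suppose that for every component L of G and every subgroup H ≥ L in which L is normal, the quotient H / C_H(L) is balanced for the prime p. Then G is balanced for p. -/
theorem result {G : Type*} [Group G] [Finite G] (p : ℕ) [Fact p.Prime] (hO : Cfsg.pPrimeCore p G = ⊥) (h : ∀ L : Subgroup G, Cfsg.IsComponent L → ∀ H : Subgroup G, L ≤ H → (L.subgroupOf H).Normal → ∀ [((Subgroup.centralizer (L : Set G)).subgroupOf H).Normal], Cfsg.IsBalancedFor p (↥H ⧸ (Subgroup.centralizer (L : Set G)).subgroupOf H)) : Cfsg.IsBalancedFor p G := by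
  intro x hx
  have hxp : x ^ p = 1 := by rw [← hx]; exact pow_orderOf_eq_one x
  have key : Cfsg.centralizerPPrimeCore p x = ⊥ := by
    apply Cfsg.Agent.Lib.Helper8.CompNorm.eq_bot_of_centralizes_components hO hxp le_rfl
    intro L hL hLx
    have hxN : x ∈ Subgroup.normalizer (L : Set G) := by
      have : Subgroup.zpowers x ≤ Subgroup.normalizer (L : Set G) := by
        rw [Subgroup.le_normalizer_iff_commutator_le_left, hLx]
      exact this (Subgroup.mem_zpowers x)
    have hW : Cfsg.centralizerPPrimeCore p x ≤ Cfsg.Agent.Lib.Helper8.CompBal.W1 p x L := by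
      apply Cfsg.Agent.Lib.Helper8.CoreIn.le_coreIn
      · exact le_inf (Cfsg.Agent.Lib.Helper8.CompNorm.centralizerPPrimeCore_le_normalizer hO hxp hL)
          (Cfsg.Agent.Lib.Helper8.CoreIn.coreIn_le p _)
      · exact inf_le_right.trans (Cfsg.Agent.Lib.Helper8.CoreIn.le_normalizer_coreIn p _)
      · exact Cfsg.Agent.Lib.Helper8.CoreIn.coreIn_card_coprime p _
    have hLn : (L.subgroupOf (Cfsg.Agent.Lib.Helper8.CompBal.Hx p x L)).Normal :=
      Cfsg.Agent.Lib.Helper8.SigFun.subgroupOf_sup_normal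
        (Cfsg.Agent.Lib.Helper8.CompBal.K_le_normalizer hxN)
    have hCn : ((Subgroup.centralizer (L : Set G)).subgroupOf
        (Cfsg.Agent.Lib.Helper8.CompBal.Hx p x L)).Normal :=
      Subgroup.normal_subgroupOf_of_le_normalizer
        ((Cfsg.Agent.Lib.Helper8.CompBal.Hx_le_normalizer hxN).trans
          (Cfsg.Agent.Lib.Helper8.Standard.normalizer_le_normalizer_centralizer L))
    have hbal := @h L hL (Cfsg.Agent.Lib.Helper8.CompBal.Hx p x L)
      Cfsg.Agent.Lib.Helper8.CompBal.L_le_Hx hLn hCn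
    have h1 := Cfsg.Agent.Lib.Helper8.CompBal.commutator_W1_eq_bot hO hxp hL hLx hCn hbal
    rw [eq_bot_iff, ← h1]
    exact Subgroup.commutator_mono le_rfl hW
  rw [key]
  exact bot_le

end Cfsg.Agent.S1271
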