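import Cfsg.Statements.S1277
import Mathlib
import Cfsg.Agent.Lib.Helper8.PComp6

set_option autoImplicit false
open Cfsg

namespace Cfsg.Agent.S1277

/-- For a finite group X with core O(X): the image of E(X) in X / O(X) is all of E(X / O(X)) if and only if every 2-component of X is a component, i.e. L_{2'}(X) ≤ E(X). -/
theorem result {X : Type*} [Group X] [Finite X] : (Cfsg.layer X).map (QuotientGroup.mk' (Cfsg.oddCore X)) = Cfsg.layer (X ⧸ Cfsg.oddCore X) ↔ Cfsg.pLayer 2 X ≤ Cfsg.layer X := by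
  have hmapE : (Cfsg.layer X).map (QuotientGroup.mk' (Cfsg.oddCore X)) =
      sSup {M : Subgroup (X ⧸ Cfsg.oddCore X) | ∃ L : Subgroup X, Cfsg.IsComponent L ∧
        M = L.map (QuotientGroup.mk' (Cfsg.oddCore X)) ∧ M ≠ ⊥} := by
    apply le_antisymm
    · rw [Subgroup.map_le_iff_le_comap]
      unfold Cfsg.layer
      apply sSup_le
      intro L hL
      rw [← Subgroup.map_le_iff_le_comap]
      by_cases h : L.map (QuotientGroup.mk' (Cfsg.oddCore X)) = ⊥
      · rw [h]; exact bot_le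
      · exact le_sSup ⟨L, hL, rfl, h⟩
    · apply sSup_le
      rintro M ⟨L, hL, rfl, -⟩
      exact Subgroup.map_mono (Cfsg.Agent.Lib.Helper2.le_layer hL)
  have hcomp : ∀ M ∈ {M : Subgroup (X ⧸ Cfsg.oddCore X) | ∃ L : Subgroup X, Cfsg.IsComponent L ∧
        M = L.map (QuotientGroup.mk' (Cfsg.oddCore X)) ∧ M ≠ ⊥}, Cfsg.IsComponent M := by
    rintro M ⟨L, hL, rfl, hne⟩
    exact (Cfsg.Agent.Lib.Helper8.PComp.isComponent_map_or_eq_bot _
      (QuotientGroup.mk'_surjective _) hL).resolve_left hne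
  have hpl := Cfsg.Agent.Lib.Helper8.PComp.map_pLayer (X := X) 2
  constructor
  · intro h
    unfold Cfsg.pLayer
    apply sSup_le
    intro K hK
    have h1 : K.map (QuotientGroup.mk' (Cfsg.oddCore X)) ≤
        Cfsg.layer (X ⧸ Cfsg.oddCore X) := Cfsg.Agent.Lib.Helper2.le_layer hK.2.1
    rw [← h, hmapE] at h1
    obtain ⟨L, hL, hLK, hne⟩ :=
      Cfsg.Agent.Lib.Helper8.PComp.isComponent_mem_of_le_sSup hcomp hK.2.1 h1
    have hLp : Cfsg.IsPComponent 2 L :=
      Cfsg.Agent.Lib.Helper8.PComp.isPComponent_of_isComponent hL (hLK ▸ hne)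
    have : K = L := Cfsg.Agent.Lib.Helper8.PComp.isPComponent_ext hK hLp hLK
    rw [this]
    exact Cfsg.Agent.Lib.Helper2.le_layer hL
  · intro h
    apply le_antisymm
    · rw [hmapE]
      apply sSup_le
      intro M hM
      exact Cfsg.Agent.Lib.Helper2.le_layer (hcomp M hM)
    · rw [← hpl]
      exact Subgroup.map_mono h

end Cfsg.Agent.S1277
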