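import Cfsg.Statements.S1278
import Mathlib
import Cfsg.Agent.Lib.Helper8.PComp5

set_option autoImplicit false
open Cfsg

namespace Cfsg.Agent.S1278

/-- Let K ≠ L be 2-components of the finite group X. Then ⁅K, L⁆ ≤ O(K) ⊓ O(L), and if K is quasisimple then ⁅K, L⁆ = 1. -/
theorem result {X : Type*} [Group X] [Finite X] (K L : Subgroup X) (hK : Cfsg.IsPComponent 2 K) (hL : Cfsg.IsPComponent 2 L) (hne : K ≠ L) : ⁅K, L⁆ ≤ ((Cfsg.oddCore ↥K).map K.subtype) ⊓ ((Cfsg.oddCore ↥L).map L.subtype) ∧ (Cfsg.IsQuasisimple ↥K → ⁅K, L⁆ = ⊥) := by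
  have h1 : ⁅K, L⁆ ≤ Cfsg.pPrimeCore 2 X :=
    Cfsg.Agent.Lib.Helper8.PComp.isPComponent_commutator_le hK hL hne
  have h2 : ⁅K, L⁆ ≤ K := Subgroup.le_normalizer_iff_commutator_le_left.mp
    (Cfsg.Agent.Lib.Helper8.PComp.isPComponent_le_normalizer hK hL)
  have h3 : ⁅K, L⁆ ≤ L := by
    rw [Subgroup.commutator_comm]
    exact Subgroup.le_normalizer_iff_commutator_le_left.mp
      (Cfsg.Agent.Lib.Helper8.PComp.isPComponent_le_normalizer hL hK)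
  have hKc : ⁅K, L⁆ ≤ (Cfsg.oddCore ↥K).map K.subtype := by
    rw [Cfsg.Agent.Lib.Helper8.PComp.map_pPrimeCore_subtype 2 hK.1]
    exact le_inf h1 h2
  have hLc : ⁅K, L⁆ ≤ (Cfsg.oddCore ↥L).map L.subtype := by
    rw [Cfsg.Agent.Lib.Helper8.PComp.map_pPrimeCore_subtype 2 hL.1]
    exact le_inf h1 h3
  refine ⟨le_inf hKc hLc, ?_⟩
  intro hq
  have h4 : ⁅K, (Cfsg.oddCore ↥K).map K.subtype⁆ = ⊥ :=
    (Cfsg.Agent.Lib.Helper8.PComp.isPComponent_isQuasisimple_iff hK).1 hq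
  have h5 : ⁅⁅K, L⁆, K⁆ = ⊥ := by
    have h : ⁅⁅K, L⁆, K⁆ ≤ ⁅(Cfsg.oddCore ↥K).map K.subtype, K⁆ :=
      Subgroup.commutator_mono hKc le_rfl
    rw [Subgroup.commutator_comm ((Cfsg.oddCore ↥K).map K.subtype) K, h4] at h
    exact le_bot_iff.1 h
  have h6 : ⁅⁅L, K⁆, K⁆ = ⊥ := by
    rw [Subgroup.commutator_comm L K]; exact h5
  have h7 := Subgroup.commutator_commutator_eq_bot_of_rotate h5 h6
  rw [Cfsg.Agent.Lib.Helper8.PComp.isPComponent_perfect hK] at h7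
  exact h7

end Cfsg.Agent.S1278
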