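import Cfsg.Statements.S1279
import Mathlib
import Cfsg.Agent.Lib.Helper7.Balance2

set_option autoImplicit false
open Cfsg

namespace Cfsg.Agent.S1279

/-- Let A be a noncyclic elementary abelian p-subgroup of the finite group G such that C_G(a) is solvable for every non-identity a ∈ A. Then a ↦ O_{p'}(C_G(a)) is a solvable A-signalizer functor on G. -/
theorem result {G : Type*} [Group G] [Finite G] (p : ℕ) [Fact p.Prime] (A : Subgroup G) (hA : Cfsg.IsElementaryAbelian p A) (hA2 : p ^ 2 ≤ Nat.card ↥A) (hsolv : ∀ a ∈ A, a ≠ 1 → Group.IsSolvable ↥(Subgroup.centralizer ({a} : Set G))) : Cfsg.IsSolvableSignalizerFunctor p A (fun a => Cfsg.centralizerPPrimeCore p a) := by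
  obtain ⟨hAc, hAp⟩ := hA
  have hcomm : ∀ a ∈ A, ∀ b ∈ A, a * b = b * a := by
    intro a ha b hb
    have := hAc.is_comm.comm (⟨a, ha⟩ : A) ⟨b, hb⟩
    exact congrArg Subtype.val this
  have hord : ∀ a ∈ A, a ≠ 1 → orderOf a = p := by
    intro a ha ha1
    exact orderOf_eq_prime (hAp a ha) ha1
  refine ⟨⟨?_, ?_, ?_, ?_⟩, ?_⟩
  · intro a _ _
    exact Cfsg.Agent.Lib.Helper7.centralizerPPrimeCore_le p a
  · intro a _ _ hdvd
    have h := Cfsg.Agent.Lib.Helper7.centralizerPPrimeCore_card_coprime (G := G) p a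
    have hp := (Fact.out : p.Prime)
    exact hp.one_lt.ne' (Nat.eq_one_of_dvd_coprimes h.symm (dvd_refl p) hdvd)
  · intro a ha _ b hb x hx
    have hb' : b ∈ Subgroup.centralizer ({a} : Set G) := by
      rw [Subgroup.mem_centralizer_singleton_iff]
      exact hcomm b hb a ha
    have := Cfsg.Agent.Lib.Helper7.centralizer_le_normalizer_centralizerPPrimeCore p a hb'
    exact (Subgroup.mem_normalizer_iff.1 this x).1 hx
  · intro a ha ha1 b hb hb1
    exact Cfsg.Agent.Lib.Helper7.balance_le p a b (hord a ha ha1) (hcomm a ha b hb) (hsolv b hb hb1)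
  · intro a ha ha1
    have := hsolv a ha ha1
    unfold Cfsg.centralizerPPrimeCore
    have e := (Subgroup.equivMapOfInjective (pPrimeCore p ↥(Subgroup.centralizer ({a} : Set G)))
      (Subgroup.centralizer ({a} : Set G)).subtype (Subgroup.subtype_injective _))
    exact Group.isSolvable_of_isSolvable_injective (f := e.symm.toMonoidHom) e.symm.injective

end Cfsg.Agent.S1279
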