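import Cfsg.Statements.S1280
import Mathlib
import Cfsg.Agent.Lib.Helper8.SigFun

set_option autoImplicit false
open Cfsg

namespace Cfsg.Agent.S1280

/-- Let θ be a solvable A-signalizer functor (A a noncyclic elementary abelian p-subgroup of the finite group G), and X, Y members of its family with Y ≤ N_G(X). Then X ⊔ Y (= XY) is again in the family. -/
theorem result {G : Type*} [Group G] [Finite G] (p : ℕ) [Fact p.Prime] (A : Subgroup G) (hA : Cfsg.IsElementaryAbelian p A) (hA2 : p ^ 2 ≤ Nat.card ↥A) (θ : G → Subgroup G) (hθ : Cfsg.IsSolvableSignalizerFunctor p A θ) (X Y : Subgroup G) (hX : X ∈ Cfsg.signalizerFamily p A θ) (hY : Y ∈ Cfsg.signalizerFamily p A θ) (hn : Y ≤ Subgroup.normalizer (X : Set G)) : X ⊔ Y ∈ Cfsg.signalizerFamily p A θ := by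
  obtain ⟨hXs, hXp, hXA, hXθ⟩ := hX
  obtain ⟨hYs, hYp, hYA, hYθ⟩ := hY
  refine ⟨Cfsg.Agent.Lib.Helper8.SigFun.isSolvable_sup_of_le_normalizer hn hXs hYs,
    Cfsg.Agent.Lib.Helper8.SigFun.not_dvd_card_sup hn hXp hYp, ?_, ?_⟩
  · intro b hb
    exact Cfsg.Agent.Lib.Helper8.SigFun.conj_mem_sup hn (hXA b hb) (hYA b hb)
  · intro a ha ha1
    refine (Cfsg.Agent.Lib.Helper8.SigFun.inf_centralizer_sup_le (p := p) (hA.2 a ha) hn hXp hYp
      (hXA a ha) (hYA a ha)).trans ?_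
    exact sup_le (hXθ a ha ha1) (hYθ a ha ha1)

end Cfsg.Agent.S1280
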