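import Cfsg.Statements.S1281
import Mathlib
import Cfsg.Agent.Lib.Helper8.SigFun

set_option autoImplicit false
open Cfsg

namespace Cfsg.Agent.S1281

/-- Let θ be a solvable A-signalizer functor on the finite group G (A a noncyclic elementary abelian p-subgroup) and N a normal subgroup of order prime to p. Then for all non-identity a, b ∈ A, the image of θ a in G / N meets the centralizer of the image of b inside the image of θ b. -/
theorem result {G : Type*} [Group G] [Finite G] (p : ℕ) [Fact p.Prime] (A : Subgroup G) (hA : Cfsg.IsElementaryAbelian p A) (hA2 : p ^ 2 ≤ Nat.card ↥A) (θ : G → Subgroup G) (hθ : Cfsg.IsSolvableSignalizerFunctor p A θ) (N : Subgroup G) [N.Normal] (hN : ¬ p ∣ Nat.card ↥N) (a b : G) (ha : a ∈ A) (ha1 : a ≠ 1) (hb : b ∈ A) (hb1 : b ≠ 1) : (θ a).map (QuotientGroup.mk' N) ⊓ Subgroup.centralizer {QuotientGroup.mk' N b} ≤ (θ b).map (QuotientGroup.mk' N) := by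
  obtain ⟨⟨hθ1, hθ2, hθ3, hθ4⟩, _⟩ := hθ
  have hbp : b ^ p = 1 := hA.2 b hb
  have hnN : ∀ Y : Subgroup G, Y ≤ Subgroup.normalizer (N : Set G) := by
    intro Y
    rw [Subgroup.normalizer_eq_top]
    exact le_top
  have hbN : ∀ u ∈ N, b * u * b⁻¹ ∈ N := fun u hu => Subgroup.Normal.conj_mem inferInstance u hu b
  have hbθ : ∀ u ∈ θ a, b * u * b⁻¹ ∈ θ a := hθ3 a ha ha1 b hb
  rintro q ⟨⟨g, hg, rfl⟩, hq⟩
  replace hq : (QuotientGroup.mk' N) g * (QuotientGroup.mk' N) b =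
      (QuotientGroup.mk' N) b * (QuotientGroup.mk' N) g :=
    Subgroup.mem_centralizer_singleton_iff.1 hq
  set K : Subgroup G := N ⊔ θ a with hK
  have hKp : ¬ p ∣ Nat.card ↥K :=
    Cfsg.Agent.Lib.Helper8.SigFun.not_dvd_card_sup (hnN _) hN (hθ2 a ha ha1)
  have hAp : IsPGroup p ↥(Subgroup.zpowers b) := by
    rw [IsPGroup.iff_card]
    rw [Nat.card_zpowers]
    have : orderOf b ∣ p ^ 1 := by rw [pow_one]; exact orderOf_dvd_of_pow_eq_one hbp
    obtain ⟨k, _, hk⟩ := (Nat.dvd_prime_pow Fact.out).1 this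
    exact ⟨k, hk⟩
  have hcop : (Nat.card ↥(Subgroup.zpowers b)).Coprime (Nat.card ↥K) := by
    obtain ⟨k, hk⟩ := IsPGroup.iff_card.1 hAp
    rw [hk]
    exact Nat.Coprime.pow_left k ((Nat.Prime.coprime_iff_not_dvd Fact.out).2 hKp)
  have hsolv : Group.IsSolvable ↥(Subgroup.zpowers b) := by
    have := hAp.isNilpotent
    infer_instance
  have hAK : Subgroup.zpowers b ≤ Subgroup.normalizer (K : Set G) :=
    Cfsg.Agent.Lib.Helper8.SigFun.zpowers_le_normalizer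
      (Cfsg.Agent.Lib.Helper8.SigFun.conj_mem_sup (hnN _) hbN hbθ)
  have hfix : ∀ a' ∈ Subgroup.zpowers b, a' * g * a'⁻¹ * g⁻¹ ∈ N := by
    rintro _ ⟨n, rfl⟩
    rw [← QuotientGroup.eq_one_iff]
    have h1 : Commute ((QuotientGroup.mk' N b) ^ n) (QuotientGroup.mk' N g) :=
      Commute.zpow_left hq.symm n
    have h2 : ((b ^ n * g * (b ^ n)⁻¹ * g⁻¹ : G) : G ⧸ N) =
        (QuotientGroup.mk' N b) ^ n * (QuotientGroup.mk' N g) * ((QuotientGroup.mk' N b) ^ n)⁻¹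
          * (QuotientGroup.mk' N g)⁻¹ := by
      simp only [QuotientGroup.mk'_apply, QuotientGroup.mk_mul, QuotientGroup.mk_inv,
        QuotientGroup.mk_zpow]
    rw [h2, h1.eq]
    group
  obtain ⟨c, hc, hgc⟩ := Cfsg.Agent.Lib.Helper1.coprime_fixed_points_quotient
    (Subgroup.zpowers b) K hAK hcop (Or.inl hsolv) N le_sup_left (hnN _) (hnN _) g
    (le_sup_right (a := N) hg) hfix
  have hc2 : c ∈ K ⊓ Subgroup.centralizer ({b} : Set G) :=
    ⟨hc.1, Cfsg.Agent.Lib.Helper8.SigFun.centralizer_zpowers_le_singleton b hc.2⟩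
  have hc3 := Cfsg.Agent.Lib.Helper8.SigFun.inf_centralizer_sup_le (p := p) hbp (hnN _) hN
    (hθ2 a ha ha1) hbN hbθ hc2
  have hc4 : c ∈ N ⊔ θ b :=
    (sup_le_sup inf_le_left (hθ4 a ha ha1 b hb hb1)) hc3
  obtain ⟨n, hn, t, ht, rfl⟩ :=
    (Cfsg.Agent.Lib.Helper8.SigFun.mem_sup_iff_of_le_normalizer (hnN _)).1 hc4
  refine ⟨t, ht, ?_⟩
  simp only [QuotientGroup.mk'_apply]
  rw [QuotientGroup.eq]
  have e : t⁻¹ * g = (t⁻¹ * n * t⁻¹⁻¹) * (g⁻¹ * (n * t))⁻¹ := by group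
  rw [e]
  exact N.mul_mem (Subgroup.Normal.conj_mem inferInstance _ hn _) (N.inv_mem hgc)

end Cfsg.Agent.S1281
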