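import Cfsg.Statements.S1285
import Mathlib
import Cfsg.Agent.Lib.Helper8.SigFun4

set_option autoImplicit false
open Cfsg

namespace Cfsg.Agent.S1285

/-- Let θ be a solvable A-signalizer functor on the finite group G with A elementary abelian of rank at least 3, and suppose that for some prime q every θ a (a ∈ A non-identity) is a q-group. Then θ is complete. -/
theorem result {G : Type*} [Group G] [Finite G] (p : ℕ) [Fact p.Prime] (A : Subgroup G) (hA : Cfsg.IsElementaryAbelian p A) (hA3 : p ^ 3 ≤ Nat.card ↥A) (θ : G → Subgroup G) (hθ : Cfsg.IsSolvableSignalizerFunctor p A θ) (q : ℕ) [Fact q.Prime] (hq : ∀ a ∈ A, a ≠ 1 → IsPGroup q ↥(θ a)) : Cfsg.IsCompleteSignalizerFunctor p A θ := by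
  have hp : p.Prime := Fact.out
  have hqP : q.Prime := Fact.out
  refine ⟨hθ.1, ?_⟩
  by_cases hqp : q = p
  · subst hqp
    refine ⟨⊥, ?_, ?_, ?_⟩
    · intro b _ x hx
      rw [Subgroup.mem_bot] at hx ⊢
      rw [hx]; simp
    · rw [Subgroup.card_bot]
      exact hp.one_lt.ne' ∘ Nat.dvd_one.1
    · intro a ha ha1
      rw [bot_inf_eq]
      symm
      obtain ⟨k, hk⟩ := IsPGroup.iff_card.1 (hq a ha ha1)
      have h2 := hθ.1.2.1 a ha ha1
      rw [hk] at h2
      have hk0 : k = 0 := by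
        by_contra hk0
        exact h2 (dvd_pow_self _ hk0)
      rw [hk0, pow_zero] at hk
      exact Subgroup.card_eq_one.1 hk
  · have hbotF : (⊥ : Subgroup G) ∈ Cfsg.signalizerFamily p A θ := by
      refine ⟨inferInstance, ?_, ?_, ?_⟩
      · rw [Subgroup.card_bot]
        exact hp.one_lt.ne' ∘ Nat.dvd_one.1
      · intro b _ x hx
        rw [Subgroup.mem_bot] at hx ⊢
        rw [hx]; simp
      · intro a _ _
        rw [bot_inf_eq]
        exact bot_le
    obtain ⟨Q, hQ, -⟩ := Cfsg.Agent.Lib.Helper8.SigFun.exists_isMaxQ_ge (q := q) hbotF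
      (IsPGroup.of_bot)
    refine ⟨Q, hQ.1.2.2.1, hQ.1.2.1, ?_⟩
    intro a ha ha1
    refine le_antisymm (hQ.1.2.2.2 a ha ha1) (le_inf ?_ (hθ.1.1 a ha ha1))
    have haF := Cfsg.Agent.Lib.Helper8.SigFun.theta_mem_fam hθ ha ha1
    obtain ⟨Q', hQ', hle⟩ := Cfsg.Agent.Lib.Helper8.SigFun.exists_isMaxQ_ge haF (hq a ha ha1)
    obtain ⟨c, hc, rfl⟩ := Cfsg.Agent.Lib.Helper8.SigFun.transitivity hA hA3 hθ hqp hQ hQ'
    have hca : c ∈ θ a := Cfsg.Agent.Lib.Helper8.SigFun.mem_signalizerInf_iff.1 hc a ha ha1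
    intro x hx
    have h1 : c * x * c⁻¹ ∈ θ a := (θ a).mul_mem ((θ a).mul_mem hca hx) ((θ a).inv_mem hca)
    obtain ⟨y, hy, hyx⟩ := hle h1
    have : y = x := by
      simp only [MulEquiv.coe_toMonoidHom, MulAut.conj_apply] at hyx
      exact mul_left_cancel (mul_right_cancel hyx)
    rw [← this]
    exact hy

end Cfsg.Agent.S1285
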