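import Cfsg.Statements.S1286
import Mathlib

set_option autoImplicit false
open Cfsg

namespace Cfsg.Agent.S1286

abbrev P5 := Equiv.Perm (Fin 5)

def a : P5 := Equiv.swap 0 1
def b : P5 := Equiv.swap 2 3
def ta : P5 := Equiv.swap 2 3 * Equiv.swap 3 4
def tb : P5 := Equiv.swap 0 1 * Equiv.swap 1 4

def A : Subgroup P5 where
  carrier := {g | g = 1 ∨ g = a ∨ g = b ∨ g = a * b}
  one_mem' := Or.inl rfl
  mul_mem' := by
    rintro x y (rfl | rfl | rfl | rfl) (rfl | rfl | rfl | rfl) <;>
      simp only [Set.mem_ofPred_eq] <;> decide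
  inv_mem' := by
    rintro x (rfl | rfl | rfl | rfl) <;> simp only [Set.mem_ofPred_eq] <;> decide

theorem mem_A {g : P5} : g ∈ A ↔ g = 1 ∨ g = a ∨ g = b ∨ g = a * b := Iff.rfl

instance decA : DecidablePred (· ∈ A) := fun g => decidable_of_iff _ mem_A.symm

theorem cardA : Fintype.card ↥A = 4 := by
  rw [Fintype.card_subtype]
  decide

def θ (g : P5) : Subgroup P5 :=
  if g = a then Subgroup.zpowers ta else if g = b then Subgroup.zpowers tb else ⊥

theorem mem_zpowers3 {t x : P5} (ht : t ^ 3 = 1) :
    x ∈ Subgroup.zpowers t ↔ x = 1 ∨ x = t ∨ x = t ^ 2 := by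
  constructor
  · intro hx
    obtain ⟨k, hk⟩ := Subgroup.mem_zpowers_iff.1 hx
    subst hk
    have ht' : t ^ (3 : ℤ) = 1 := by
      have : ((3 : ℕ) : ℤ) = 3 := rfl
      rw [← this, zpow_natCast]; exact ht
    have h : t ^ k = t ^ (k % 3) := zpow_eq_zpow_emod k ht'
    have h0 : 0 ≤ k % 3 := Int.emod_nonneg k (by norm_num)
    have h3 : k % 3 < 3 := Int.emod_lt_of_pos k (by norm_num)
    rw [h]
    obtain ⟨m, hm⟩ : ∃ m : ℕ, k % 3 = m := ⟨(k % 3).toNat, (Int.toNat_of_nonneg h0).symm⟩
    rw [hm, zpow_natCast]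
    have hm3 : m < 3 := by omega
    interval_cases m
    · left; simp
    · right; left; simp
    · right; right; rfl
  · rintro (rfl | rfl | rfl)
    · exact Subgroup.one_mem _
    · exact Subgroup.mem_zpowers _
    · exact Subgroup.pow_mem _ (Subgroup.mem_zpowers _) 2

theorem ta3 : ta ^ 3 = 1 := by decide
theorem tb3 : tb ^ 3 = 1 := by decide

theorem θa : θ a = Subgroup.zpowers ta := by simp [θ]
theorem θb : θ b = Subgroup.zpowers tb := by
  have : b ≠ a := by decide
  simp [θ, this]
theorem θab : θ (a * b) = ⊥ := by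
  have h1 : a * b ≠ a := by decide
  have h2 : a * b ≠ b := by decide
  simp [θ, h1, h2]

theorem card_zp (t : P5) (h3 : t ^ 3 = 1) (h1 : t ≠ 1) : Nat.card ↥(Subgroup.zpowers t) = 3 := by
  rw [Nat.card_zpowers]
  exact orderOf_eq_prime h3 h1

theorem isSig : Cfsg.IsSignalizerFunctor 2 A θ := by
  refine ⟨?_, ?_, ?_, ?_⟩
  · intro x hx hx1
    rcases mem_A.1 hx with rfl | rfl | rfl | rfl
    · exact absurd rfl hx1
    · rw [θa]
      intro y hy
      rw [Subgroup.mem_centralizer_singleton_iff]
      rcases (mem_zpowers3 ta3).1 hy with rfl | rfl | rfl <;> decide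
    · rw [θb]
      intro y hy
      rw [Subgroup.mem_centralizer_singleton_iff]
      rcases (mem_zpowers3 tb3).1 hy with rfl | rfl | rfl <;> decide
    · rw [θab]; exact bot_le
  · intro x hx hx1
    rcases mem_A.1 hx with rfl | rfl | rfl | rfl
    · exact absurd rfl hx1
    · rw [θa, card_zp ta ta3 (by decide)]; decide
    · rw [θb, card_zp tb tb3 (by decide)]; decide
    · rw [θab, Subgroup.card_bot]; decide
  · intro x hx hx1 c hc y hy
    rcases mem_A.1 hx with rfl | rfl | rfl | rfl
    · exact absurd rfl hx1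
    · rw [θa] at hy ⊢
      rw [mem_zpowers3 ta3] at hy ⊢
      rcases mem_A.1 hc with rfl | rfl | rfl | rfl <;> rcases hy with rfl | rfl | rfl <;> decide
    · rw [θb] at hy ⊢
      rw [mem_zpowers3 tb3] at hy ⊢
      rcases mem_A.1 hc with rfl | rfl | rfl | rfl <;> rcases hy with rfl | rfl | rfl <;> decide
    · rw [θab] at hy ⊢
      rw [Subgroup.mem_bot] at hy ⊢
      rw [hy]; group
  · intro x hx hx1 c hc hc1 y hy
    obtain ⟨hy1, hy2⟩ := hy
    replace hy1 : y ∈ θ x := hy1
    replace hy2 : y * c = c * y := Subgroup.mem_centralizer_singleton_iff.1 hy2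
    rcases mem_A.1 hx with rfl | rfl | rfl | rfl
    · exact absurd rfl hx1
    · rw [θa, mem_zpowers3 ta3] at hy1
      rcases mem_A.1 hc with rfl | rfl | rfl | rfl
      · exact absurd rfl hc1
      · rw [θa, mem_zpowers3 ta3]; exact hy1
      · rcases hy1 with rfl | rfl | rfl
        · exact Subgroup.one_mem _
        · exact absurd hy2 (by decide)
        · exact absurd hy2 (by decide)
      · rcases hy1 with rfl | rfl | rfl
        · exact Subgroup.one_mem _
        · exact absurd hy2 (by decide)
        · exact absurd hy2 (by decide)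
    · rw [θb, mem_zpowers3 tb3] at hy1
      rcases mem_A.1 hc with rfl | rfl | rfl | rfl
      · exact absurd rfl hc1
      · rcases hy1 with rfl | rfl | rfl
        · exact Subgroup.one_mem _
        · exact absurd hy2 (by decide)
        · exact absurd hy2 (by decide)
      · rw [θb, mem_zpowers3 tb3]; exact hy1
      · rcases hy1 with rfl | rfl | rfl
        · exact Subgroup.one_mem _
        · exact absurd hy2 (by decide)
        · exact absurd hy2 (by decide)
    · rw [θab, Subgroup.mem_bot] at hy1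
      rw [hy1]; exact Subgroup.one_mem _

/-- There exist a finite group X, an elementary abelian subgroup A of order 4 and a solvable A-signalizer functor θ on X for the prime 2 which is not complete. -/
theorem result : ∃ (X : Type) (_ : Group X) (_ : Finite X) (A : Subgroup X) (θ : X → Subgroup X), Cfsg.IsElementaryAbelian 2 A ∧ Nat.card ↥A = 4 ∧ Cfsg.IsSolvableSignalizerFunctor 2 A θ ∧ ¬ Cfsg.IsCompleteSignalizerFunctor 2 A θ := by
  refine ⟨P5, inferInstance, inferInstance, A, θ, ?_, ?_, ?_, ?_⟩
  · refine ⟨⟨⟨?_⟩⟩, ?_⟩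
    · rintro ⟨x, hx⟩ ⟨y, hy⟩
      apply Subtype.ext
      show x * y = y * x
      rcases mem_A.1 hx with rfl | rfl | rfl | rfl <;>
        rcases mem_A.1 hy with rfl | rfl | rfl | rfl <;> decide
    · intro x hx
      rcases mem_A.1 hx with rfl | rfl | rfl | rfl <;> decide
  · rw [Nat.card_eq_fintype_card]
    exact cardA
  · refine ⟨isSig, ?_⟩
    intro x hx hx1
    rcases mem_A.1 hx with rfl | rfl | rfl | rfl
    · exact absurd rfl hx1
    · rw [θa]
      have : IsCyclic ↥(Subgroup.zpowers ta) := inferInstance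
      have : IsMulCommutative ↥(Subgroup.zpowers ta) := inferInstance
      infer_instance
    · rw [θb]
      have : IsMulCommutative ↥(Subgroup.zpowers tb) := inferInstance
      infer_instance
    · rw [θab]; infer_instance
  · rintro ⟨_, X, _, hX2, hXθ⟩
    have h1 : ta ∈ X := by
      have := hXθ a (mem_A.2 (Or.inr (Or.inl rfl))) (by decide)
      have h : ta ∈ θ a := by rw [θa]; exact Subgroup.mem_zpowers _
      rw [← this] at h
      exact h.1
    have h2 : tb ∈ X := by
      have := hXθ b (mem_A.2 (Or.inr (Or.inr (Or.inl rfl)))) (by decide)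
      have h : tb ∈ θ b := by rw [θb]; exact Subgroup.mem_zpowers _
      rw [← this] at h
      exact h.1
    have hw : ta * tb * ta * tb⁻¹ ∈ X :=
      X.mul_mem (X.mul_mem (X.mul_mem h1 h2) h1) (X.inv_mem h2)
    have ho : orderOf (⟨ta * tb * ta * tb⁻¹, hw⟩ : X) = 2 := by
      refine orderOf_eq_prime ?_ ?_
      · apply Subtype.ext
        show (ta * tb * ta * tb⁻¹) ^ 2 = 1
        decide
      · intro h
        have := congrArg Subtype.val h
        revert this
        show ta * tb * ta * tb⁻¹ ≠ 1
        decide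
    apply hX2
    have := orderOf_dvd_natCard (⟨ta * tb * ta * tb⁻¹, hw⟩ : X)
    rwa [ho] at this

end Cfsg.Agent.S1286
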