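import Cfsg.Statements.S1287
import Mathlib
import Cfsg.Agent.Lib.Helper8.Wielandt3

set_option autoImplicit false
open scoped Pointwise
open Cfsg

namespace Cfsg.Agent.S1287

theorem exists_pair {H : Type*} [Group H] [Finite H] {p : ℕ} [Fact p.Prime] {A : Subgroup H}
    (hAe : ∀ a ∈ A, a ^ p = 1) (hA2 : p ^ 2 ≤ Nat.card ↥A) :
    ∃ x ∈ A, ∃ y ∈ A, y ≠ 1 ∧ x ∉ Subgroup.zpowers y := by
  have hp : p.Prime := Fact.out
  have hAnt : A ≠ ⊥ := by
    intro hb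
    rw [hb, Subgroup.card_bot] at hA2
    have : 2 ^ 2 ≤ p ^ 2 := Nat.pow_le_pow_left hp.two_le 2
    omega
  obtain ⟨y, hyA, hy1⟩ := (Subgroup.bot_or_exists_ne_one _).resolve_left hAnt
  have hyp : y ^ p = 1 := hAe y hyA
  have hyord : orderOf y = p := by
    rcases (Nat.dvd_prime hp).mp (orderOf_dvd_of_pow_eq_one hyp) with h1 | h1
    · exact absurd (orderOf_eq_one_iff.mp h1) hy1
    · exact h1
  have hzy : Subgroup.zpowers y ≤ A := by rw [Subgroup.zpowers_le]; exact hyA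
  have hne : Subgroup.zpowers y ≠ A := by
    intro heq
    have : Nat.card (Subgroup.zpowers y) = p := by rw [Nat.card_zpowers, hyord]
    rw [heq] at this
    rw [this] at hA2
    have : p * p ≤ p := by rw [← sq]; exact hA2
    have := hp.one_lt
    nlinarith
  obtain ⟨x, hxA, hxy'⟩ : ∃ x ∈ A, x ∉ Subgroup.zpowers y := by
    by_contra hcon
    push Not at hcon
    exact hne (le_antisymm hzy hcon)
  exact ⟨x, hxA, y, hyA, hy1, hxy'⟩

theorem card_of_coe_eq_mul {H : Type*} [Group H] {K' X' Y' : Subgroup H}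
    (h : (K' : Set H) = (X' : Set H) * (Y' : Set H)) :
    Nat.card ↥K' * Nat.card ↥(X' ⊓ Y' : Subgroup H) = Nat.card ↥X' * Nat.card ↥Y' := by
  rw [← Cfsg.Agent.Lib.Helper7.card_mul_set_mul_card_inf X' Y', ← h]
  rfl

/-- Let A be a noncyclic elementary abelian p-subgroup of a finite group H normalizing a subgroup K of order prime to p, and X, Y ≤ K subgroups normalized by A with C_K(a) = C_X(a) C_Y(a) (as sets) for every non-identity a ∈ A, where X is also normalized by C_K(A). Then K = XY as sets. -/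
theorem result {H : Type*} [Group H] [Finite H] (p : ℕ) [Fact p.Prime] (A K X Y : Subgroup H) (hA : Cfsg.IsElementaryAbelian p A) (hA2 : p ^ 2 ≤ Nat.card ↥A) (hK : ¬ p ∣ Nat.card ↥K) (hAK : A ≤ Subgroup.normalizer (K : Set H)) (hX : X ≤ K) (hY : Y ≤ K) (hAX : A ≤ Subgroup.normalizer (X : Set H)) (hAY : A ≤ Subgroup.normalizer (Y : Set H)) (hCX : K ⊓ Subgroup.centralizer (A : Set H) ≤ Subgroup.normalizer (X : Set H)) (hfac : ∀ a ∈ A, a ≠ 1 → ((K ⊓ Subgroup.centralizer {a} : Subgroup H) : Set H) = ((X ⊓ Subgroup.centralizer {a} : Subgroup H) : Set H) * ((Y ⊓ Subgroup.centralizer {a} : Subgroup H) : Set H)) : (K : Set H) = (X : Set H) * (Y : Set H) := by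
  obtain ⟨hAc, hAe⟩ := hA
  have hp : p.Prime := Fact.out
  obtain ⟨x, hxA, y, hyA, hy1, hxy⟩ := exists_pair hAe hA2
  obtain ⟨A₀, hA₀⟩ : ∃ A₀ : Subgroup H, A₀ = Subgroup.closure {x, y} := ⟨_, rfl⟩
  have hA₀A : A₀ ≤ A := by
    rw [hA₀, Subgroup.closure_le]
    intro z hz
    rcases hz with rfl | rfl
    · exact hxA
    · exact hyA
  have hx₀ : x ∈ A₀ := hA₀ ▸ Subgroup.subset_closure (by simp)
  have hy₀ : y ∈ A₀ := hA₀ ▸ Subgroup.subset_closure (by simp)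
  have hAc₀ : IsMulCommutative ↥A₀ :=
    ⟨⟨fun a b => Subtype.ext (setLike_mul_comm (hA₀A a.2) (hA₀A b.2))⟩⟩
  have hAe₀ : ∀ a ∈ A₀, a ^ p = 1 := fun a ha => hAe a (hA₀A ha)
  have hgen : ∀ T : Subgroup H, x ∈ T → y ∈ T → A₀ ≤ T := by
    intro T hxT hyT
    rw [hA₀, Subgroup.closure_le]
    intro z hz
    rcases hz with rfl | rfl
    · exact hxT
    · exact hyT
  have hXp : ¬ p ∣ Nat.card ↥X := fun h => hK (h.trans (Subgroup.card_dvd_of_le hX))
  have hYp : ¬ p ∣ Nat.card ↥Y := fun h => hK (h.trans (Subgroup.card_dvd_of_le hY))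
  have hZp : ¬ p ∣ Nat.card ↥(X ⊓ Y : Subgroup H) :=
    fun h => hXp (h.trans (Subgroup.card_dvd_of_le inf_le_left))
  have FK := Cfsg.Agent.Lib.Helper8.Wielandt.formula hAc₀ hAe₀ hx₀ hy₀ hgen K (hA₀A.trans hAK) hK
  have FX := Cfsg.Agent.Lib.Helper8.Wielandt.formula hAc₀ hAe₀ hx₀ hy₀ hgen X (hA₀A.trans hAX) hXp
  have FY := Cfsg.Agent.Lib.Helper8.Wielandt.formula hAc₀ hAe₀ hx₀ hy₀ hgen Y (hA₀A.trans hAY) hYp
  have FZ := Cfsg.Agent.Lib.Helper8.Wielandt.formula hAc₀ hAe₀ hx₀ hy₀ hgen (X ⊓ Y)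
    (Cfsg.Agent.Lib.Helper1.le_normalizer_inf (hA₀A.trans hAX) (hA₀A.trans hAY)) hZp
  unfold Cfsg.Agent.Lib.Helper8.Wielandt.Formula at FK FX FY FZ
  -- the generators of the hyperplanes are non-identity elements of `A`
  have hhA : ∀ i, Cfsg.Agent.Lib.Helper8.Wielandt.hyp p x y i ∈ A := by
    intro i
    rcases i with _ | c
    · exact hyA
    · exact A.mul_mem hxA (A.pow_mem hyA _)
  have hh1 : ∀ i, Cfsg.Agent.Lib.Helper8.Wielandt.hyp p x y i ≠ 1 := by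
    intro i
    rcases i with _ | c
    · exact hy1
    · intro h
      apply hxy
      have h' : x * y ^ c.val = 1 := h
      have : x = (y ^ c.val)⁻¹ := eq_inv_of_mul_eq_one_left h'
      rw [this]
      exact Subgroup.inv_mem _ (Subgroup.pow_mem _ (Subgroup.mem_zpowers y) _)
  have inf3 : ∀ C : Subgroup H, (X ⊓ C) ⊓ (Y ⊓ C) = (X ⊓ Y) ⊓ C := fun C =>
    (inf_inf_distrib_right X Y C).symm
  have hi : ∀ i, Cfsg.Agent.Lib.Helper8.Wielandt.cc K
        (Subgroup.zpowers (Cfsg.Agent.Lib.Helper8.Wielandt.hyp p x y i)) *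
      Cfsg.Agent.Lib.Helper8.Wielandt.cc (X ⊓ Y)
        (Subgroup.zpowers (Cfsg.Agent.Lib.Helper8.Wielandt.hyp p x y i)) =
      Cfsg.Agent.Lib.Helper8.Wielandt.cc X
        (Subgroup.zpowers (Cfsg.Agent.Lib.Helper8.Wielandt.hyp p x y i)) *
      Cfsg.Agent.Lib.Helper8.Wielandt.cc Y
        (Subgroup.zpowers (Cfsg.Agent.Lib.Helper8.Wielandt.hyp p x y i)) := by
    intro i
    unfold Cfsg.Agent.Lib.Helper8.Wielandt.cc
    rw [Cfsg.Agent.Lib.Helper8.Wielandt.centralizer_zpowers, ← inf3]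
    exact card_of_coe_eq_mul (hfac _ (hhA i) (hh1 i))
  have hcop : (Nat.card ↥A₀).Coprime (Nat.card ↥K) :=
    Cfsg.Agent.Lib.Helper8.Wielandt.coprime_card hAe₀ hK
  have hA₀fac : ((K ⊓ Subgroup.centralizer (A₀ : Set H) : Subgroup H) : Set H) =
      ((X ⊓ Subgroup.centralizer (A₀ : Set H) : Subgroup H) : Set H) *
        ((Y ⊓ Subgroup.centralizer (A₀ : Set H) : Subgroup H) : Set H) := by
    ext k
    constructor
    · intro hk
      have hky : k ∈ ((K ⊓ Subgroup.centralizer {y} : Subgroup H) : Set H) :=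
        ⟨hk.1, Subgroup.centralizer_le (by simpa using hy₀) hk.2⟩
      rw [hfac y hyA hy1] at hky
      obtain ⟨x', hx', y', hy', hxy'⟩ := hky
      obtain ⟨x'', hx'', y'', hy'', hk'⟩ := Cfsg.Agent.Lib.Helper1.coprime_fixed_points_mul A₀ K
        (hA₀A.trans hAK) hcop (Or.inl (Cfsg.Agent.Lib.Helper8.Wielandt.isSolvable_of_isMulCommutative
          hAc₀)) X Y hX hY (hA₀A.trans hAX) (hA₀A.trans hAY) k hk.2 x' y' hx'.1 hy'.1 hxy'.symm
      exact ⟨x'', hx'', y'', hy'', hk'.symm⟩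
    · rintro ⟨x', hx', y', hy', rfl⟩
      exact ⟨K.mul_mem (hX hx'.1) (hY hy'.1), Subgroup.mul_mem _ hx'.2 hy'.2⟩
  have ha : Cfsg.Agent.Lib.Helper8.Wielandt.cc K A₀ * Cfsg.Agent.Lib.Helper8.Wielandt.cc (X ⊓ Y) A₀ =
      Cfsg.Agent.Lib.Helper8.Wielandt.cc X A₀ * Cfsg.Agent.Lib.Helper8.Wielandt.cc Y A₀ := by
    unfold Cfsg.Agent.Lib.Helper8.Wielandt.cc
    rw [← inf3]
    exact card_of_coe_eq_mul hA₀fac
  have h1 : (Nat.card ↥K * Nat.card ↥(X ⊓ Y : Subgroup H)) *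
      ∏ _i : Option (ZMod p), (Cfsg.Agent.Lib.Helper8.Wielandt.cc K A₀ *
        Cfsg.Agent.Lib.Helper8.Wielandt.cc (X ⊓ Y) A₀) =
      (Nat.card ↥X * Nat.card ↥Y) *
      ∏ _i : Option (ZMod p), (Cfsg.Agent.Lib.Helper8.Wielandt.cc K A₀ *
        Cfsg.Agent.Lib.Helper8.Wielandt.cc (X ⊓ Y) A₀) := by
    calc (Nat.card ↥K * Nat.card ↥(X ⊓ Y : Subgroup H)) *
          ∏ _i : Option (ZMod p), (Cfsg.Agent.Lib.Helper8.Wielandt.cc K A₀ *
            Cfsg.Agent.Lib.Helper8.Wielandt.cc (X ⊓ Y) A₀)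
        = (Nat.card ↥K * ∏ _i : Option (ZMod p), Cfsg.Agent.Lib.Helper8.Wielandt.cc K A₀) *
          (Nat.card ↥(X ⊓ Y : Subgroup H) *
            ∏ _i : Option (ZMod p), Cfsg.Agent.Lib.Helper8.Wielandt.cc (X ⊓ Y) A₀) := by
          rw [Finset.prod_mul_distrib]; ring
      _ = (Cfsg.Agent.Lib.Helper8.Wielandt.cc K A₀ * Cfsg.Agent.Lib.Helper8.Wielandt.cc (X ⊓ Y) A₀) *
          ∏ i : Option (ZMod p), (Cfsg.Agent.Lib.Helper8.Wielandt.cc K
            (Subgroup.zpowers (Cfsg.Agent.Lib.Helper8.Wielandt.hyp p x y i)) *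
          Cfsg.Agent.Lib.Helper8.Wielandt.cc (X ⊓ Y)
            (Subgroup.zpowers (Cfsg.Agent.Lib.Helper8.Wielandt.hyp p x y i))) := by
          rw [FK, FZ, Finset.prod_mul_distrib]; ring
      _ = (Cfsg.Agent.Lib.Helper8.Wielandt.cc X A₀ * Cfsg.Agent.Lib.Helper8.Wielandt.cc Y A₀) *
          ∏ i : Option (ZMod p), (Cfsg.Agent.Lib.Helper8.Wielandt.cc X
            (Subgroup.zpowers (Cfsg.Agent.Lib.Helper8.Wielandt.hyp p x y i)) *
          Cfsg.Agent.Lib.Helper8.Wielandt.cc Y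
            (Subgroup.zpowers (Cfsg.Agent.Lib.Helper8.Wielandt.hyp p x y i))) := by
          rw [ha, Finset.prod_congr rfl (fun i _ => hi i)]
      _ = (Nat.card ↥X * ∏ _i : Option (ZMod p), Cfsg.Agent.Lib.Helper8.Wielandt.cc X A₀) *
          (Nat.card ↥Y * ∏ _i : Option (ZMod p), Cfsg.Agent.Lib.Helper8.Wielandt.cc Y A₀) := by
          rw [FX, FY, Finset.prod_mul_distrib]; ring
      _ = _ := by
          rw [ha, Finset.prod_mul_distrib]; ring
  have hpos : 0 < ∏ _i : Option (ZMod p), (Cfsg.Agent.Lib.Helper8.Wielandt.cc K A₀ *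
        Cfsg.Agent.Lib.Helper8.Wielandt.cc (X ⊓ Y) A₀) :=
    Finset.prod_pos fun _ _ => Nat.mul_pos (Cfsg.Agent.Lib.Helper8.Wielandt.cc_pos _ _)
      (Cfsg.Agent.Lib.Helper8.Wielandt.cc_pos _ _)
  have h2 : Nat.card ↥K * Nat.card ↥(X ⊓ Y : Subgroup H) = Nat.card ↥X * Nat.card ↥Y :=
    Nat.eq_of_mul_eq_mul_right hpos h1
  have h3 := Cfsg.Agent.Lib.Helper7.card_mul_set_mul_card_inf X Y
  rw [← h2] at h3
  have h4 : Nat.card ((X : Set H) * (Y : Set H) : Set H) = Nat.card ↥K :=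
    Nat.eq_of_mul_eq_mul_right Nat.card_pos h3
  have hsub : (X : Set H) * (Y : Set H) ⊆ (K : Set H) := by
    rintro _ ⟨x', hx', y', hy', rfl⟩
    exact K.mul_mem (hX hx') (hY hy')
  symm
  apply Set.eq_of_subset_of_ncard_le hsub _ (Set.toFinite _)
  rw [← Nat.card_coe_set_eq, ← Nat.card_coe_set_eq, h4]
  exact le_of_eq rfl

end Cfsg.Agent.S1287
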