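import Cfsg.Statements.S1288
import Mathlib
import Cfsg.Agent.Lib.Helper8.QPrime

set_option autoImplicit false
open Cfsg

namespace Cfsg.Agent.S1288

/-- Let A be a noncyclic elementary abelian p-subgroup of a finite group H normalizing a solvable subgroup K of order prime to p, q a prime dividing |K|, and U ≤ K a subgroup of order prime to q such that ⁅U, C_K(B)⁆ has order prime to q for every subgroup B of index p in A. Then U ≤ O_{q'}(K). -/
theorem result {H : Type*} [Group H] [Finite H] (p : ℕ) [Fact p.Prime] (A K : Subgroup H) (hA : Cfsg.IsElementaryAbelian p A) (hA2 : p ^ 2 ≤ Nat.card ↥A) (hK : ¬ p ∣ Nat.card ↥K) (hKs : Group.IsSolvable ↥K) (hAK : A ≤ Subgroup.normalizer (K : Set H)) (q : ℕ) [Fact q.Prime] (hqK : q ∣ Nat.card ↥K) (U : Subgroup H) (hU : U ≤ K) (hUq : ¬ q ∣ Nat.card ↥U) (hcomm : ∀ B : Subgroup H, B ≤ A → B.relIndex A = p → ¬ q ∣ Nat.card ↥⁅U, K ⊓ Subgroup.centralizer (B : Set H)⁆) : U ≤ (Cfsg.pPrimeCore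 q ↥K).map K.subtype := by
  obtain ⟨hAc, hAe⟩ := hA
  have hp : p.Prime := Fact.out
  have hqP : q.Prime := Fact.out
  have hA1 : A ≠ ⊥ := by
    intro hb
    rw [hb, Subgroup.card_bot] at hA2
    have : 2 ^ 2 ≤ p ^ 2 := Nat.pow_le_pow_left hp.two_le 2
    omega
  have hchar : (pPrimePCore q ↥K).Characteristic :=
    Cfsg.Agent.Lib.Helper8.QPrime.pPrimePCore_characteristic q
  have hPn : (pPrimePCore q ↥K).Normal := inferInstance
  have hAP : A ≤ Subgroup.normalizer (((pPrimePCore q ↥K).map K.subtype : Subgroup H) : Set H) :=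
    hAK.trans (Cfsg.Agent.Lib.Helper1.normalizer_le_normalizer_map_characteristic K
      (pPrimePCore q ↥K))
  have hPp : ¬ p ∣ Nat.card ↥((pPrimePCore q ↥K).map K.subtype : Subgroup H) :=
    fun h => hK (h.trans (Subgroup.card_dvd_of_le (Subgroup.map_subtype_le _)))
  have hPT : (pPrimePCore q ↥K).map K.subtype ≤
      ((Subgroup.centralizer (((U.subgroupOf K).map (QuotientGroup.mk' (pPrimeCore q ↥K)) :
        Subgroup (↥K ⧸ pPrimeCore q ↥K)) : Set (↥K ⧸ pPrimeCore q ↥K))).comap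
          (QuotientGroup.mk' (pPrimeCore q ↥K))).map K.subtype := by
    apply Cfsg.Agent.Lib.Helper7.le_of_coatom_centralizers_le A _ _ hAc hAe hA1 hAP hPp
    intro V hVA hco
    have hrel := Cfsg.Agent.Lib.Helper8.Hyperplane.relIndex_eq_of_isCoatom hAc hAe hVA hco
    have hW := hcomm V hVA hrel
    rintro z ⟨hzP, hzV⟩
    obtain ⟨z', hz', rfl⟩ := hzP
    refine ⟨z', ?_, rfl⟩
    refine Subgroup.mem_comap.2 (Subgroup.mem_centralizer_iff.2 ?_)
    rintro _ ⟨u', hu', rfl⟩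
    have hw : u' * z' * u'⁻¹ * z'⁻¹ ∈ pPrimeCore q ↥K := by
      apply Cfsg.Agent.Lib.Helper8.QPrime.mem_pPrimeCore_of_pow
        (n := Nat.card ↥⁅U, K ⊓ Subgroup.centralizer (V : Set H)⁆)
      · exact (pPrimePCore q ↥K).mul_mem (hPn.conj_mem z' hz' u') ((pPrimePCore q ↥K).inv_mem hz')
      · have hmem : ((u' * z' * u'⁻¹ * z'⁻¹ : ↥K) : H) ∈
            ⁅U, K ⊓ Subgroup.centralizer (V : Set H)⁆ := by
          have := Subgroup.commutator_mem_commutator (H₁ := U)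
            (H₂ := K ⊓ Subgroup.centralizer (V : Set H)) (Subgroup.mem_subgroupOf.1 hu')
            ⟨z'.2, hzV⟩
          simpa [commutatorElement_def] using this
        have h2 : (⟨_, hmem⟩ : ↥⁅U, K ⊓ Subgroup.centralizer (V : Set H)⁆) ^
            Nat.card ↥⁅U, K ⊓ Subgroup.centralizer (V : Set H)⁆ = 1 := pow_card_eq_one'
        have h3 := congrArg Subtype.val h2
        rw [Subgroup.coe_pow, Subgroup.coe_one] at h3
        apply Subtype.ext
        rw [Subgroup.coe_pow, Subgroup.coe_one]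
        exact h3
      · exact hW
    have h1 : (QuotientGroup.mk' (pPrimeCore q ↥K)) (u' * z' * u'⁻¹ * z'⁻¹) = 1 :=
      (QuotientGroup.eq_one_iff _).2 hw
    rw [map_mul, map_mul, map_mul, map_inv, map_inv, ← commutatorElement_def] at h1
    exact commutatorElement_eq_one_iff_mul_comm.1 h1
  intro u hu
  have hu' : (⟨u, hU hu⟩ : ↥K) ∈ U.subgroupOf K := Subgroup.mem_subgroupOf.2 hu
  have hcent : (QuotientGroup.mk' (pPrimeCore q ↥K)) ⟨u, hU hu⟩ ∈
      Subgroup.centralizer ((pCore q (↥K ⧸ pPrimeCore q ↥K) : Subgroup _) : Set _) := by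
    refine Subgroup.mem_centralizer_iff.2 ?_
    intro zb hzb
    obtain ⟨z', rfl⟩ := QuotientGroup.mk'_surjective _ zb
    have hz'P : z' ∈ pPrimePCore q ↥K := hzb
    obtain ⟨z'', hz'', hzz⟩ := hPT ⟨z', hz'P, rfl⟩
    have hzz' : z'' = z' := Subtype.ext hzz
    rw [hzz'] at hz''
    have := (Subgroup.mem_centralizer_iff.1 (Subgroup.mem_comap.1 hz''))
      ((QuotientGroup.mk' (pPrimeCore q ↥K)) ⟨u, hU hu⟩) ⟨_, hu', rfl⟩
    exact this.symm
  have hsolvQ : Group.IsSolvable (↥K ⧸ pPrimeCore q ↥K) := inferInstance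
  have hHH := Cfsg.Agent.Lib.Helper1.centralizer_pCore_le (G := ↥K ⧸ pPrimeCore q ↥K) q
    (Cfsg.Agent.Lib.Helper1.pPrimeCore_quotient_eq_bot q) hcent
  have hu'P : (⟨u, hU hu⟩ : ↥K) ∈ pPrimePCore q ↥K := hHH
  have hpow : (⟨u, hU hu⟩ : ↥K) ^ Nat.card ↥U = 1 := by
    have h2 : (⟨u, hu⟩ : ↥U) ^ Nat.card ↥U = 1 := pow_card_eq_one'
    have h3 := congrArg Subtype.val h2
    rw [Subgroup.coe_pow, Subgroup.coe_one] at h3
    apply Subtype.ext
    rw [Subgroup.coe_pow, Subgroup.coe_one]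
    exact h3
  exact ⟨⟨u, hU hu⟩, Cfsg.Agent.Lib.Helper8.QPrime.mem_pPrimeCore_of_pow hu'P hpow hUq, rfl⟩

end Cfsg.Agent.S1288
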