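import Cfsg.Statements.S1289
import Mathlib
import Cfsg.Agent.Lib.Helper8.PComp3

set_option autoImplicit false
open Cfsg

namespace Cfsg.Agent.S1289

/-- A p-component K of the finite group X is subnormal, perfect, of order divisible by p, and minimal among the subnormal perfect subgroups of X of order divisible by p. -/
theorem result {X : Type*} [Group X] [Finite X] (p : ℕ) [Fact p.Prime] (K : Subgroup X) (hK : Cfsg.IsPComponent p K) : K.IsSubnormal ∧ ⁅K, K⁆ = K ∧ p ∣ Nat.card ↥K ∧ ∀ H : Subgroup X, H ≤ K → H.IsSubnormal → ⁅H, H⁆ = H → p ∣ Nat.card ↥H → H = K := by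
  have hperf := Cfsg.Agent.Lib.Helper8.PComp.isPComponent_perfect hK
  obtain ⟨hsn, hcomp, hmin⟩ := hK
  have hp : p.Prime := Fact.out
  have hOc : (Nat.card ↥(Cfsg.pPrimeCore p X)).Coprime p :=
    Cfsg.Agent.Lib.Helper1.pPrimeCore_card_coprime p
  have key : ∀ H : Subgroup X, H ≤ Cfsg.pPrimeCore p X → ¬ p ∣ Nat.card ↥H := by
    intro H hH hd
    have h1 := hd.trans (Subgroup.card_dvd_of_le hH)
    exact hp.one_lt.ne' (Nat.eq_one_of_dvd_coprimes hOc.symm (dvd_refl p) h1)
  have kerle : ∀ H : Subgroup X, H.map (QuotientGroup.mk' (Cfsg.pPrimeCore p X)) = ⊥ →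
      H ≤ Cfsg.pPrimeCore p X := by
    intro H hH
    rw [Subgroup.map_eq_bot_iff, QuotientGroup.ker_mk'] at hH
    exact hH
  refine ⟨hsn, hperf, ?_, ?_⟩
  · by_contra hnd
    have hc : (Nat.card ↥K).Coprime p := by
      rw [Nat.coprime_comm]; exact (Nat.Prime.coprime_iff_not_dvd hp).2 hnd
    have hle := Cfsg.Agent.Lib.Helper8.PComp.le_pPrimeCore_of_isSubnormal p hsn hc
    apply Cfsg.Agent.Lib.Helper2.isComponent_ne_bot hcomp
    rw [Subgroup.map_eq_bot_iff, QuotientGroup.ker_mk']
    exact hle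
  · intro H hHK hHsn hHperf hpH
    apply hmin H hHsn hHK
    have hHsn' : (H.map (QuotientGroup.mk' (Cfsg.pPrimeCore p X))).IsSubnormal :=
      hHsn.map (QuotientGroup.mk'_surjective _)
    rcases Cfsg.Agent.Lib.Helper2.isComponent_le_or_commutator_eq_bot hcomp hHsn' with h | h
    · exact le_antisymm (Subgroup.map_mono hHK) h
    · exfalso
      have h2 : ⁅H.map (QuotientGroup.mk' (Cfsg.pPrimeCore p X)),
          H.map (QuotientGroup.mk' (Cfsg.pPrimeCore p X))⁆ = ⊥ := by
        rw [eq_bot_iff, ← h]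
        exact Subgroup.commutator_mono le_rfl (Subgroup.map_mono hHK)
      rw [← Subgroup.map_commutator, hHperf] at h2
      exact key H (kerle H h2) hpH

end Cfsg.Agent.S1289
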