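import Cfsg.Statements.S1300
import Mathlib

set_option autoImplicit false
open Cfsg

namespace Cfsg.Agent.S1300

theorem cpc_le_centralizer {G : Type*} [Group G] (p : ℕ) (x : G) :
    Cfsg.centralizerPPrimeCore p x ≤ Subgroup.centralizer ({x} : Set G) := by
  unfold Cfsg.centralizerPPrimeCore
  exact Subgroup.map_subtype_le _

theorem mem_zpowers_of_orderOf_two {G : Type*} [Group G] {x a : G} (hx : orderOf x = 2)
    (ha : a ∈ Subgroup.zpowers x) : a = 1 ∨ a = x := by
  obtain ⟨k, rfl⟩ := Subgroup.mem_zpowers_iff.1 ha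
  have h := zpow_mod_orderOf x k
  rw [hx] at h
  rcases Int.emod_two_eq_zero_or_one k with h0 | h1
  · left
    rw [← h]
    have : (k % ((2 : ℕ) : ℤ)) = 0 := by exact_mod_cast h0
    rw [this, zpow_zero]
  · right
    rw [← h]
    have : (k % ((2 : ℕ) : ℤ)) = 1 := by exact_mod_cast h1
    rw [this, zpow_one]

/-- For a finite group G, balance in the sense of commuting involutions is the same as 1-balance for the prime 2. -/
theorem result {G : Type*} [Group G] [Finite G] : Cfsg.IsBalanced G ↔ Cfsg.IsKBalanced 2 1 G := by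
  constructor
  · intro hbal A hA hcard b hb hcomm
    have hnt : ∃ a ∈ A, a ≠ 1 := by
      by_contra hcon
      push Not at hcon
      have : A = ⊥ := (Subgroup.eq_bot_iff_forall A).2 hcon
      rw [this, Subgroup.card_bot] at hcard
      norm_num at hcard
    obtain ⟨a, haA, ha1⟩ := hnt
    have hao : orderOf a = 2 := orderOf_eq_prime (hA.2 a haA) ha1
    have h1 : Cfsg.signalizerDelta 2 A ≤ Cfsg.centralizerPPrimeCore 2 a := by
      unfold Cfsg.signalizerDelta
      exact iInf_le (fun a' : {a : G // a ∈ A ∧ a ≠ 1} => Cfsg.centralizerPPrimeCore 2 (a' : G))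
        ⟨a, haA, ha1⟩
    have h2 := hbal a b hao hb (hcomm a haA)
    calc Cfsg.signalizerDelta 2 A ⊓ Subgroup.centralizer {b}
        ≤ Cfsg.centralizerPPrimeCore 2 a ⊓ Subgroup.centralizer {b} := inf_le_inf_right _ h1
      _ = Cfsg.centralizerPPrimeCore 2 b ⊓ Subgroup.centralizer {a} := h2
      _ ≤ Cfsg.centralizerPPrimeCore 2 b := inf_le_left
  · intro hk
    have key : ∀ x y : G, orderOf x = 2 → orderOf y = 2 → x * y = y * x →
        Cfsg.centralizerPPrimeCore 2 x ⊓ Subgroup.centralizer {y} ≤
          Cfsg.centralizerPPrimeCore 2 y ⊓ Subgroup.centralizer {x} := by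
      intro x y hx hy hxy
      apply le_inf _ (inf_le_left.trans (cpc_le_centralizer 2 x))
      have hA : Cfsg.IsElementaryAbelian 2 (Subgroup.zpowers x) := by
        refine ⟨inferInstance, ?_⟩
        intro a ha
        rcases mem_zpowers_of_orderOf_two hx ha with rfl | rfl
        · simp
        · rw [← hx]; exact pow_orderOf_eq_one a
      have hcard : Nat.card ↥(Subgroup.zpowers x) = 2 ^ 1 := by
        rw [Nat.card_zpowers, hx]; rfl
      have hcomm : ∀ a ∈ Subgroup.zpowers x, a * y = y * a := by
        intro a ha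
        rcases mem_zpowers_of_orderOf_two hx ha with rfl | rfl
        · simp
        · exact hxy
      have h1 := hk (Subgroup.zpowers x) hA hcard y hy hcomm
      refine le_trans (inf_le_inf_right _ ?_) h1
      unfold Cfsg.signalizerDelta
      apply le_iInf
      rintro ⟨a, ha, ha1⟩
      rcases mem_zpowers_of_orderOf_two hx ha with rfl | rfl
      · exact absurd rfl ha1
      · exact le_rfl
    intro x y hx hy hxy
    exact le_antisymm (key x y hx hy hxy) (key y x hy hx hxy.symm)

end Cfsg.Agent.S1300
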