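import Cfsg.Statements.S1301
import Cfsg.Agent.Lib.Helper7.BB1
import Cfsg.Agent.Lib.Helper1.LBALG1

set_option autoImplicit false
open Cfsg

namespace Cfsg.Agent.S1301

/-- L-balance: for a finite group X and a 2-subgroup T ≤ X, L_{2'}(C_X(T)) ≤ L_{2'}(X). -/
theorem result {X : Type*} [Group X] [Finite X] (T : Subgroup X) (hT : IsPGroup 2 ↥T) : (Cfsg.pLayer 2 ↥(Subgroup.centralizer (T : Set X))).map (Subgroup.centralizer (T : Set X)).subtype ≤ Cfsg.pLayer 2 X := by
  have hp2 : Fact (Nat.Prime 2) := ⟨Nat.prime_two⟩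
  set C : Subgroup X := Subgroup.centralizer (T : Set X) with hC
  set Y : Subgroup X := Subgroup.normalizer (T : Set X) with hY
  have hCY : C ≤ Y := by
    intro c hc
    rw [hY, Subgroup.mem_normalizer_iff]
    intro t
    have key : ∀ t ∈ T, c * t * c⁻¹ = t := by
      intro t ht
      have h := Subgroup.mem_centralizer_iff.mp hc t ht
      rw [← h, mul_inv_cancel_right]
    constructor
    · intro ht
      rw [key t ht]; exact ht
    · intro ht
      have h2 := key _ ht
      have h3 : t = c * t * c⁻¹ := by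
        have := congrArg (fun z => c⁻¹ * z * c) h2
        simp only [mul_assoc, inv_mul_cancel_left, inv_mul_cancel, mul_one] at this
        simpa [mul_assoc] using this.symm
      rw [h3]; exact ht
  have hYC : Y ≤ Subgroup.normalizer (C : Set X) := by
    intro y hy
    have hy' : ∀ t ∈ T, y⁻¹ * t * y ∈ T := by
      intro t ht
      have := (Subgroup.mem_normalizer_iff.mp (Y.inv_mem hy) t).mp ht
      simpa using this
    have hy'' : ∀ t ∈ T, y * t * y⁻¹ ∈ T := by
      intro t ht
      exact (Subgroup.mem_normalizer_iff.mp hy t).mp ht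
    rw [Subgroup.mem_normalizer_iff]
    intro c
    constructor
    · intro hc
      rw [hC, Subgroup.mem_centralizer_iff]
      intro t ht
      have h := Subgroup.mem_centralizer_iff.mp hc _ (hy' t ht)
      -- h : y⁻¹ t y * c = c * (y⁻¹ t y)
      have := congrArg (fun z => y * z * y⁻¹) h
      simp only [mul_assoc, mul_inv_cancel_left] at this
      simpa [mul_assoc] using this
    · intro hc
      rw [hC, Subgroup.mem_centralizer_iff]
      intro t ht
      have h := Subgroup.mem_centralizer_iff.mp hc _ (hy'' t ht)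
      have := congrArg (fun z => y⁻¹ * z * y) h
      simp only [mul_assoc, inv_mul_cancel_left, inv_mul_cancel, mul_one] at this
      simpa [mul_assoc] using this
  rw [Subgroup.map_le_iff_le_comap]
  apply sSup_le
  intro K hK
  rw [← Subgroup.map_le_iff_le_comap]
  set J : Subgroup X := K.map C.subtype with hJ
  have hJC : J ≤ C := Subgroup.map_subtype_le _
  have hJK : J.subgroupOf C = K :=
    Subgroup.comap_map_eq_self_of_injective (Subgroup.subtype_injective C) _
  have h1 : IsPComponentOf 2 J C := ⟨hJC, by rw [hJK]; exact hK⟩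
  rw [Cfsg.Agent.Lib.Helper7.BB.isPComponentOf_iff] at h1
  obtain ⟨-, hsub, hlike⟩ := h1
  have h2 : IsPComponentOf 2 J Y := by
    rw [Cfsg.Agent.Lib.Helper7.BB.isPComponentOf_iff]
    exact ⟨hJC.trans hCY,
      Cfsg.Agent.Lib.Helper7.BB.subn_trans hJC hCY hsub
        (Cfsg.Agent.Lib.Helper7.BB.subn_of_normalizer hCY hYC), hlike⟩
  have h3 : J.subgroupOf Y ≤ Cfsg.pLayer 2 ↥Y := le_sSup h2.2
  have h4 : J = (J.subgroupOf Y).map Y.subtype := by
    rw [Subgroup.subgroupOf_map_subtype, inf_of_le_left h2.1]
  rw [h4]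
  exact (Subgroup.map_mono h3).trans (Cfsg.Agent.Lib.Helper1.LBAL.G1 T hT)

end Cfsg.Agent.S1301
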