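import Cfsg.Statements.S1302
import Mathlib
import Cfsg.Agent.Lib.Helper8.Baer4
import Cfsg.Agent.Lib.Helper1.PConstrainedQuotient
import Cfsg.Agent.Lib.Helper7.PConstrained3

set_option autoImplicit false
open Cfsg

namespace Cfsg.Agent.S1302

/-- Let X be a finite p-constrained group, p an odd prime, and A an abelian p-subgroup of X containing every element of order p of C_X(A). Then every subgroup of X of order prime to p that is normalized by A lies in O_{p'}(X). -/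
theorem result {X : Type*} [Group X] [Finite X] (p : ℕ) [Fact p.Prime] (hp : p ≠ 2) (hX : Cfsg.IsPConstrained p X) (A : Subgroup X) (hA : IsMulCommutative ↥A) (hAp : IsPGroup p ↥A) (hΩ : ∀ x ∈ Subgroup.centralizer (A : Set X), orderOf x = p → x ∈ A) (Q : Subgroup X) (hQ : ¬ p ∣ Nat.card ↥Q) (hAQ : A ≤ Subgroup.normalizer (Q : Set X)) : Q ≤ Cfsg.pPrimeCore p X := by
  classical
  have hpP : p.Prime := Fact.out
  haveI hYn : (Cfsg.pPrimeCore p X).Normal := Cfsg.Agent.Lib.Helper1.pPrimeCore_normal p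
  have hYc : (Nat.card ↥(Cfsg.pPrimeCore p X)).Coprime p :=
    Cfsg.Agent.Lib.Helper1.pPrimeCore_card_coprime p
  have hQc : (Nat.card ↥Q).Coprime p := ((Nat.Prime.coprime_iff_not_dvd hpP).mpr hQ).symm
  -- the quotient
  have hX' : Cfsg.IsPConstrained p (X ⧸ Cfsg.pPrimeCore p X) :=
    Cfsg.Agent.Lib.Helper1.isPConstrained_iff_quotient.mp hX
  have hcen : Subgroup.centralizer (Cfsg.pCore p (X ⧸ Cfsg.pPrimeCore p X) : Set (X ⧸ Cfsg.pPrimeCore p X))
      ≤ Cfsg.pCore p (X ⧸ Cfsg.pPrimeCore p X) :=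
    (Cfsg.Agent.Lib.Helper1.isPConstrained_iff_of_pPrimeCore_eq_bot
      (Cfsg.Agent.Lib.Helper1.pPrimeCore_quotient_eq_bot p)).mp hX'
  have hPbar : IsPGroup p ↥(Cfsg.pCore p (X ⧸ Cfsg.pPrimeCore p X)) :=
    Cfsg.Agent.Lib.Helper1.pCore_isPGroup p
  haveI hPn : (Cfsg.pCore p (X ⧸ Cfsg.pPrimeCore p X)).Normal := Cfsg.Agent.Lib.Helper1.pCore_normal p
  have hker : ∀ x : X, QuotientGroup.mk' (Cfsg.pPrimeCore p X) x = 1 ↔ x ∈ Cfsg.pPrimeCore p X := by
    intro x
    rw [QuotientGroup.mk'_apply, QuotientGroup.eq_one_iff]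
  -- a Sylow subgroup containing A
  obtain ⟨S, hAS⟩ := hAp.exists_le_sylow
  have hKle := Cfsg.Agent.Lib.Helper7.pPrimePCore_le_sylow_inf_sup (p := p) S
  have hTY : ∀ x : X, x ∈ (S : Subgroup X) ⊓ Cfsg.pPrimePCore p X → x ∈ Cfsg.pPrimeCore p X → x = 1 := by
    intro x hxT hxY
    have hTp : IsPGroup p ↥((S : Subgroup X) ⊓ Cfsg.pPrimePCore p X) := S.2.to_le inf_le_left
    have hcop : (Nat.card ↥((S : Subgroup X) ⊓ Cfsg.pPrimePCore p X)).Coprime
        (Nat.card ↥(Cfsg.pPrimeCore p X)) := by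
      obtain ⟨k, hk⟩ := hTp.exists_card_eq
      rw [hk]
      exact Nat.Coprime.pow_left k hYc.symm
    have hd := disjoint_iff.mp (Subgroup.disjoint_of_coprime_natCard hcop)
    have : x ∈ ((S : Subgroup X) ⊓ Cfsg.pPrimePCore p X) ⊓ Cfsg.pPrimeCore p X :=
      Subgroup.mem_inf.mpr ⟨hxT, hxY⟩
    rw [hd, Subgroup.mem_bot] at this
    exact this
  have hKn : (Cfsg.pPrimePCore p X).Normal := by
    unfold Cfsg.pPrimePCore
    exact Subgroup.Normal.comap hPn _
  -- the main hypothesis in the quotient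
  have hH : ∀ xb ∈ Cfsg.pCore p (X ⧸ Cfsg.pPrimeCore p X), xb ^ p = 1 →
      (∀ ab ∈ A.map (QuotientGroup.mk' (Cfsg.pPrimeCore p X)), ab * xb = xb * ab) →
      xb ∈ A.map (QuotientGroup.mk' (Cfsg.pPrimeCore p X)) := by
    intro xb hxb hxbp hxbA
    obtain ⟨x0, rfl⟩ := QuotientGroup.mk'_surjective (Cfsg.pPrimeCore p X) xb
    have hx0K : x0 ∈ Cfsg.pPrimePCore p X := hxb
    obtain ⟨t, ht, y, hy, hty⟩ := Subgroup.mem_sup_of_normal_right.mp (hKle hx0K)
    have hπt : QuotientGroup.mk' (Cfsg.pPrimeCore p X) t = QuotientGroup.mk' (Cfsg.pPrimeCore p X) x0 := by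
      rw [← hty, map_mul, (hker y).mpr hy, mul_one]
    rw [← hπt] at hxbp hxbA ⊢
    have htp : t ^ p = 1 := by
      apply hTY _ (Subgroup.pow_mem _ ht p)
      rw [← hker, map_pow]
      exact hxbp
    have htA : ∀ a ∈ A, a * t = t * a := by
      intro a ha
      have hmem : a * t * a⁻¹ * t⁻¹ ∈ (S : Subgroup X) ⊓ Cfsg.pPrimePCore p X := by
        have ht' := Subgroup.mem_inf.mp ht
        apply Subgroup.mul_mem _ _ (Subgroup.inv_mem _ ht)
        apply Subgroup.mem_inf.mpr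
        constructor
        · exact Subgroup.mul_mem _ (Subgroup.mul_mem _ (hAS ha) ht'.1) (Subgroup.inv_mem _ (hAS ha))
        · exact hKn.conj_mem t ht'.2 a
      have h1 : a * t * a⁻¹ * t⁻¹ = 1 := by
        apply hTY _ hmem
        rw [← hker, map_mul, map_mul, map_mul, map_inv, map_inv]
        rw [hxbA _ (Subgroup.mem_map_of_mem _ ha)]
        group
      calc a * t = a * t * a⁻¹ * t⁻¹ * t * a := by group
        _ = t * a := by rw [h1, one_mul]
    by_cases ht1 : t = 1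
    · rw [ht1, map_one]; exact Subgroup.one_mem _
    · have hto : orderOf t = p := orderOf_eq_prime htp ht1
      have htC : t ∈ Subgroup.centralizer (A : Set X) := by
        rw [Subgroup.mem_centralizer_iff]
        intro a ha
        exact htA a ha
      exact Subgroup.mem_map_of_mem _ (hΩ t htC hto)
  have hAQ' : A.map (QuotientGroup.mk' (Cfsg.pPrimeCore p X)) ≤
      Subgroup.normalizer ((Q.map (QuotientGroup.mk' (Cfsg.pPrimeCore p X)) : Subgroup _) : Set _) :=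
    (Subgroup.map_mono hAQ).trans (Subgroup.le_normalizer_map _)
  have hQ' : (Nat.card ↥(Q.map (QuotientGroup.mk' (Cfsg.pPrimeCore p X)))).Coprime p :=
    Nat.Coprime.coprime_dvd_left (Subgroup.card_map_dvd _ _) hQc
  have hNtop : Subgroup.normalizer ((Cfsg.pCore p (X ⧸ Cfsg.pPrimeCore p X) :
      Subgroup (X ⧸ Cfsg.pPrimeCore p X)) : Set (X ⧸ Cfsg.pPrimeCore p X)) = ⊤ :=
    Subgroup.normalizer_eq_top _
  have hmain := Cfsg.Agent.Lib.Helper8.Baer.gt_lemma p hp
    (A.map (QuotientGroup.mk' (Cfsg.pPrimeCore p X))) (Q.map (QuotientGroup.mk' (Cfsg.pPrimeCore p X)))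
    (hAp.map _) hQ' hAQ' _ (Cfsg.pCore p (X ⧸ Cfsg.pPrimeCore p X)) rfl hPbar
    (by rw [hNtop]; exact le_top) (by rw [hNtop]; exact le_top) hH
  rw [Subgroup.commutator_comm, Subgroup.commutator_eq_bot_iff_le_centralizer] at hmain
  have hQP : Q.map (QuotientGroup.mk' (Cfsg.pPrimeCore p X)) ≤ Cfsg.pCore p (X ⧸ Cfsg.pPrimeCore p X) :=
    hmain.trans hcen
  have hQbot : Q.map (QuotientGroup.mk' (Cfsg.pPrimeCore p X)) = ⊥ := by
    have hpg : IsPGroup p ↥(Q.map (QuotientGroup.mk' (Cfsg.pPrimeCore p X))) := hPbar.to_le hQP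
    obtain ⟨k, hk⟩ := hpg.exists_card_eq
    rw [hk] at hQ'
    rcases Nat.eq_zero_or_pos k with h0 | hpos
    · rw [h0, pow_zero] at hk
      exact Subgroup.card_eq_one.mp hk
    · exfalso
      have : p ∣ p ^ k := dvd_pow_self p hpos.ne'
      have h1 : p ∣ Nat.gcd (p ^ k) p := Nat.dvd_gcd this dvd_rfl
      rw [hQ'] at h1
      exact hpP.one_lt.ne' (Nat.dvd_one.mp h1)
  intro q hq
  rw [← hker]
  have : QuotientGroup.mk' (Cfsg.pPrimeCore p X) q ∈ Q.map (QuotientGroup.mk' (Cfsg.pPrimeCore p X)) :=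
    Subgroup.mem_map_of_mem _ hq
  rw [hQbot, Subgroup.mem_bot] at this
  exact this

end Cfsg.Agent.S1302
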