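import Cfsg.Statements.S1303
import Mathlib
import Cfsg.Agent.Lib.Helper7.PConstrained2

set_option autoImplicit false
open Cfsg

namespace Cfsg.Agent.S1303

set_option maxRecDepth 100000

abbrev SL23 := Matrix.SpecialLinearGroup (Fin 2) (ZMod 3)

def z : SL23 := ⟨!![-1, 0; 0, -1], by decide⟩
def u : SL23 := ⟨!![1, 1; 0, 1], by decide⟩

theorem card8 : (Finset.univ.filter (fun g : SL23 => g ^ 8 = 1)).card = 8 := by decide
theorem card24 : Fintype.card SL23 = 24 := by decide
theorem invol : ∀ g : SL23, g * g = 1 → g = 1 ∨ g = z := by decide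
theorem zcent : ∀ g : SL23, g * z = z * g := by decide
theorem commz : ∀ n : SL23, n ≠ 1 →
    ∃ g : SL23, n = z ∨ n ^ 2 = z ∨ n ^ 3 = z ∨ (n * (g * n⁻¹ * g⁻¹)) ^ 2 = z := by decide
theorem u3 : u ^ 3 = 1 ∧ u ≠ 1 := by decide
theorem z2 : z ^ 2 = 1 ∧ z ≠ 1 := by decide

theorem core_bot : Cfsg.pPrimeCore 2 SL23 = ⊥ := by
  unfold Cfsg.pPrimeCore
  rw [sSup_eq_bot]
  rintro N ⟨hNn, hNc⟩
  rw [Subgroup.eq_bot_iff_forall]
  intro n hn
  by_contra hn1
  have hz : z ∈ N := by
    obtain ⟨g, h | h | h | h⟩ := commz n hn1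
    · rw [← h]; exact hn
    · rw [← h]; exact N.pow_mem hn 2
    · rw [← h]; exact N.pow_mem hn 3
    · rw [← h]
      exact N.pow_mem (N.mul_mem hn (hNn.conj_mem _ (N.inv_mem hn) g)) 2
  have ho : orderOf (⟨z, hz⟩ : N) = 2 := by
    refine orderOf_eq_prime ?_ ?_
    · exact Subtype.ext z2.1
    · intro h; exact z2.2 (congrArg Subtype.val h)
  have hd : 2 ∣ Nat.card ↥N := by
    have := orderOf_dvd_natCard (⟨z, hz⟩ : N)
    rwa [ho] at this
  have := Nat.eq_one_of_dvd_coprimes hNc hd (dvd_refl 2)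
  omega

theorem sylow_eq (S : Sylow 2 SL23) :
    ((S : Subgroup SL23) : Set SL23) = {g : SL23 | g ^ 8 = 1} := by
  have hc : Nat.card SL23 = 24 := by rw [Nat.card_eq_fintype_card]; exact card24
  have hS8 : Nat.card ↥(S : Subgroup SL23) = 8 := by
    obtain ⟨k, hk⟩ := IsPGroup.iff_card.1 S.2
    have h1 := (S : Subgroup SL23).card_mul_index
    rw [hc, hk] at h1
    have h2 : ¬ 2 ∣ (S : Subgroup SL23).index := S.not_dvd_index
    rw [hk]
    have hk4 : k < 5 := by
      by_contra hge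
      have : 2 ^ 5 ∣ 2 ^ k := pow_dvd_pow 2 (by omega)
      have h3 : 2 ^ 5 ∣ 24 := (this.trans (Dvd.intro _ h1))
      omega
    interval_cases k <;> omega
  have hsub : ((S : Subgroup SL23) : Set SL23) ⊆ {g : SL23 | g ^ 8 = 1} := by
    intro g hg
    have h : (⟨g, hg⟩ : (S : Subgroup SL23)) ^ Nat.card ↥(S : Subgroup SL23) = 1 :=
      pow_card_eq_one'
    rw [hS8] at h
    exact congrArg Subtype.val h
  classical
  have hfin : (Finset.univ.filter (fun g : SL23 => g ∈ (S : Subgroup SL23))).card = 8 := by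
    rw [← hS8, Nat.card_eq_fintype_card, Fintype.card_subtype]
  have hsub' : Finset.univ.filter (fun g : SL23 => g ∈ (S : Subgroup SL23)) ⊆
      Finset.univ.filter (fun g : SL23 => g ^ 8 = 1) := by
    intro g hg
    simp only [Finset.mem_filter, Finset.mem_univ, true_and] at hg ⊢
    exact hsub hg
  have heq := Finset.eq_of_subset_of_card_le hsub' (by rw [hfin, card8])
  ext g
  have := Finset.ext_iff.1 heq g
  simp only [Finset.mem_filter, Finset.mem_univ, true_and] at this
  exact this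

theorem sylow_subsingleton : Subsingleton (Sylow 2 SL23) := by
  refine ⟨fun S T => ?_⟩
  apply Sylow.ext
  apply SetLike.coe_injective
  rw [sylow_eq S, sylow_eq T]

/-- The group X = SL(2, 3): it is 2-constrained, O_{2'}(X) = 1, its centre A = Z(X) contains every involution of X = C_X(A), and X has a subgroup of order 3 (normalized by A) not contained in O_{2'}(X). -/
theorem result : Cfsg.IsPConstrained 2 (Matrix.SpecialLinearGroup (Fin 2) (ZMod 3)) ∧ Cfsg.pPrimeCore 2 (Matrix.SpecialLinearGroup (Fin 2) (ZMod 3)) = ⊥ ∧ (∀ t : Matrix.SpecialLinearGroup (Fin 2) (ZMod 3), orderOf t = 2 → t ∈ Subgroup.center (Matrix.SpecialLinearGroup (Fin 2) (ZMod 3))) ∧ ∃ Q : Subgroup (Matrix.SpecialLinearGroup (Fin 2) (ZMod 3)), Nat.card ↥Q = 3 ∧ ¬ (Q ≤ Cfsg.pPrimeCore 2 (Matrix.SpecialLinearGroup (Fin 2) (ZMod 3))) := by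
  have hsub := sylow_subsingleton
  have hS : Nonempty (Sylow 2 SL23) := inferInstance
  obtain ⟨S⟩ := hS
  have hSn : (S : Subgroup SL23).Normal := Sylow.normal_of_subsingleton S
  refine ⟨?_, core_bot, ?_, ?_⟩
  · apply Cfsg.Agent.Lib.Helper7.isPConstrained_of_normalizer_sup S
    rw [Subgroup.normalizer_eq_top]
    exact top_sup_eq _
  · intro t ht
    have h1 : t * t = 1 := by
      have := pow_orderOf_eq_one t
      rw [ht, pow_two] at this
      exact this
    rcases invol t h1 with h | h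
    · rw [h, orderOf_one] at ht; omega
    · rw [h, Subgroup.mem_center_iff]
      exact zcent
  · refine ⟨Subgroup.zpowers u, ?_, ?_⟩
    · rw [Nat.card_zpowers]
      exact orderOf_eq_prime u3.1 u3.2
    · intro h
      have : u ∈ (⊥ : Subgroup SL23) := by
        rw [← core_bot]; exact h (Subgroup.mem_zpowers u)
      exact u3.2 (Subgroup.mem_bot.1 this)

end Cfsg.Agent.S1303
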