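import Cfsg.Statements.S1304
import Mathlib
import Cfsg.Agent.Lib.Helper2.Quasisimple

set_option autoImplicit false
open Cfsg

namespace Cfsg.Agent.S1304

/-- Let X be a perfect group and α an automorphism of X with α(x) x⁻¹ central for every x. Then α is the identity. -/
theorem result {X : Type*} [Group X] (hperf : commutator X = ⊤) (α : X ≃* X) (h : ∀ x : X, α x * x⁻¹ ∈ Subgroup.center X) : ∀ x : X, α x = x := by
  have hP : Group.IsPerfect X := ⟨hperf⟩
  let f : X →* Subgroup.center X :=
    { toFun := fun x => ⟨α x * x⁻¹, h x⟩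
      map_one' := by ext; simp
      map_mul' := by
        intro x y
        ext
        have hy := Subgroup.mem_center_iff.1 (h y)
        show α (x * y) * (x * y)⁻¹ = α x * x⁻¹ * (α y * y⁻¹)
        rw [map_mul, mul_inv_rev, mul_assoc (α x), ← mul_assoc (α y), ← hy x⁻¹]
        group }
  intro x
  have hc : ∀ a b : Subgroup.center X, a * b = b * a := by
    intro a b
    ext
    exact Subgroup.mem_center_iff.1 b.2 a
  have := Cfsg.Agent.Lib.Helper2.hom_eq_one_of_isPerfect hP hc f x
  have h2 : α x * x⁻¹ = 1 := congrArg Subtype.val this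
  exact mul_inv_eq_one.1 h2

end Cfsg.Agent.S1304
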