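import Cfsg.Statements.S1306
import Mathlib
import Cfsg.Agent.Lib.Helper8.Standard
import Cfsg.Agent.Lib.Helper2.Components2

set_option autoImplicit false
open Cfsg

namespace Cfsg.Agent.S1306

open Cfsg.Agent.Lib.Helper8.Standard in
theorem key {G : Type*} [Group G] (L : Subgroup G)
    (hne : ∀ y : G, orderOf y = 2 → y ∈ Subgroup.centralizer (L : Set G) → L ≤ Subgroup.centralizer ({y} : Set G) ∧ Cfsg.IsComponent (L.subgroupOf (Subgroup.centralizer ({y} : Set G))))
    (hnc : ∀ g : G, L.map (MulAut.conj g).toMonoidHom ≠ L → ⁅L, L.map (MulAut.conj g).toMonoidHom⁆ ≠ ⊥)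
    (g y : G) (hy : orderOf y = 2) (hyL : y ∈ Subgroup.centralizer (L : Set G))
    (hyLg : y ∈ Subgroup.centralizer ((L.map (MulAut.conj g).toMonoidHom : Subgroup G) : Set G)) :
    L.map (MulAut.conj g).toMonoidHom = L := by
  obtain ⟨h1, c1⟩ := hne y hy hyL
  rw [Cfsg.Agent.Lib.Helper8.ExtLayer.centralizer_map_conj g L] at hyLg
  obtain ⟨k, hk, hky⟩ := Subgroup.mem_map.1 hyLg
  rw [MulEquiv.coe_toMonoidHom, MulAut.conj_apply] at hky
  have hk2 : orderOf k = 2 := by
    have : orderOf (g * k * g⁻¹) = orderOf k := by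
      have := (MulAut.conj g).orderOf_eq k
      rwa [MulAut.conj_apply] at this
    rw [← this, hky, hy]
  obtain ⟨h2, c2⟩ := hne k hk2 hk
  have h3 := map_conj_le_centralizer g k L h2
  have c3 := conj_component g k L c2
  rw [hky] at h3 c3
  by_contra hcon
  apply hnc g hcon
  rcases Cfsg.Agent.Lib.Helper2.isComponent_eq_or_commutator_eq_bot c1 c3 with h | h
  · exfalso
    apply hcon
    have := congrArg (Subgroup.map (Subgroup.centralizer ({y} : Set G)).subtype) h
    rw [Subgroup.map_subgroupOf_eq_of_le h1, Subgroup.map_subgroupOf_eq_of_le h3] at this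
    exact this.symm
  · rw [Subgroup.commutator_eq_bot_iff_le_centralizer] at h ⊢
    intro a ha
    rw [Subgroup.mem_centralizer_iff]
    intro b hb
    have ha' : (⟨a, h1 ha⟩ : ↥(Subgroup.centralizer ({y} : Set G))) ∈
        L.subgroupOf (Subgroup.centralizer ({y} : Set G)) := Subgroup.mem_subgroupOf.2 ha
    have hb' : (⟨b, h3 hb⟩ : ↥(Subgroup.centralizer ({y} : Set G))) ∈
        (L.map (MulAut.conj g).toMonoidHom).subgroupOf (Subgroup.centralizer ({y} : Set G)) :=
      Subgroup.mem_subgroupOf.2 hb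
    have := (Subgroup.mem_centralizer_iff.1 (h ha')) _ hb'
    exact congrArg Subtype.val this

/-- Let G be finite, x an involution and L ≤ C_G(x) a component of C_G(x). Suppose L is a component of C_G(y) for every involution y ∈ C_G(L), and ⁅L, g L g⁻¹⁆ ≠ 1 whenever g L g⁻¹ ≠ L. Then L is a standard subgroup of G. -/
theorem result {G : Type*} [Group G] [Finite G] (x : G) (hx : orderOf x = 2) (L : Subgroup G) (hLx : L ≤ Subgroup.centralizer ({x} : Set G)) (hL : Cfsg.IsComponent (L.subgroupOf (Subgroup.centralizer ({x} : Set G)))) (hne : ∀ y : G, orderOf y = 2 → y ∈ Subgroup.centralizer (L : Set G) → L ≤ Subgroup.centralizer ({y} : Set G) ∧ Cfsg.IsComponent (L.subgroupOf (Subgroup.centralizer ({y} : Set G)))) (hnc : ∀ g : G, L.map (MulAut.conj g).toMonoidHom ≠ L → ⁅L, L.map (MulAut.conj g).toMonoidHom⁆ ≠ ⊥) : Cfsg.IsStandardSubgroup L := by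
  have hxK : x ∈ Subgroup.centralizer (L : Set G) := by
    rw [Subgroup.mem_centralizer_iff]
    intro l hl
    have := Subgroup.mem_centralizer_singleton_iff.1 (hLx hl)
    exact this
  have hNle := Cfsg.Agent.Lib.Helper8.Standard.normalizer_le_normalizer_centralizer L
  refine ⟨?_, ⟨?_, ?_⟩, hnc, ?_⟩
  · exact Cfsg.Agent.Lib.Helper2.isQuasisimple_of_mulEquiv (Subgroup.subgroupOfEquivOfLe hLx).symm hL.2
  · have h1 : orderOf (⟨x, hxK⟩ : ↥(Subgroup.centralizer (L : Set G))) = 2 := by
      rw [Subgroup.orderOf_mk, hx]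
    have h2 : 2 ∣ Nat.card ↥(Subgroup.centralizer (L : Set G)) := by
      rw [← h1]
      exact orderOf_dvd_natCard _
    exact even_iff_two_dvd.2 h2
  · intro g hg
    by_contra hodd
    rw [Nat.not_odd_iff_even, even_iff_two_dvd] at hodd
    haveI : Fact (Nat.Prime 2) := ⟨Nat.prime_two⟩
    obtain ⟨⟨y, hyK, hyKg⟩, hy⟩ := exists_prime_orderOf_dvd_card' 2 hodd
    have hy' : orderOf y = 2 := by
      rw [← hy]
      exact (Subgroup.orderOf_mk y _).symm
    have hyK' : y ∈ Subgroup.centralizer (L : Set G) := hyK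
    have hyKg' : y ∈ (Subgroup.centralizer (L : Set G)).map (MulAut.conj g).toMonoidHom := hyKg
    rw [← Cfsg.Agent.Lib.Helper8.ExtLayer.centralizer_map_conj g L] at hyKg'
    have := key L hne hnc g y hy' hyK' hyKg'
    exact hg (hNle (Subgroup.mem_normalizer_iff_map_conj_eq.2 this))
  · apply le_antisymm hNle
    intro g hg
    have hgK := Subgroup.mem_normalizer_iff_map_conj_eq.1 hg
    have hx' : x ∈ Subgroup.centralizer ((L.map (MulAut.conj g).toMonoidHom : Subgroup G) : Set G) := by
      rw [Cfsg.Agent.Lib.Helper8.ExtLayer.centralizer_map_conj g L]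
      rw [show (Subgroup.centralizer (L : Set G)).map (MulAut.conj g).toMonoidHom
        = Subgroup.centralizer (L : Set G) from hgK]
      exact hxK
    exact Subgroup.mem_normalizer_iff_map_conj_eq.2 (key L hne hnc g x hx hxK hx')

end Cfsg.Agent.S1306
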