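import Cfsg.Statements.S1313
import Mathlib
import Cfsg.Agent.Lib.Helper8.FStar

set_option autoImplicit false
open Cfsg

namespace Cfsg.Agent.S1313

/-- A finite group with a normal subgroup containing its own centralizer has order at most the
factorial of the order of that subgroup. -/
theorem card_le_factorial {H : Type*} [Group H] [Finite H] (F : Subgroup H) [hF : F.Normal]
    (hC : Subgroup.centralizer (F : Set H) ≤ F) : Nat.card H ≤ Nat.factorial (Nat.card ↥F) := by
  classical
  -- conjugation action on the nonidentity elements of `F`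
  let A : MulAction H {x : ↥F // x ≠ 1} :=
    { smul := fun h x => ⟨⟨h * (x : ↥F) * h⁻¹, hF.conj_mem _ (x : ↥F).2 h⟩, by
        intro hx
        apply x.2
        have h1 : h * ((x : ↥F) : H) * h⁻¹ = 1 := congrArg Subtype.val hx
        have h2 : ((x : ↥F) : H) = 1 := by
          have := congrArg (fun y => h⁻¹ * y * h) h1
          simpa [mul_assoc] using this
        exact Subtype.ext h2⟩
      one_smul := by
        intro x
        apply Subtype.ext; apply Subtype.ext
        show (1 : H) * ((x : ↥F) : H) * (1 : H)⁻¹ = _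
        simp
      mul_smul := by
        intro a b x
        apply Subtype.ext; apply Subtype.ext
        show (a * b) * ((x : ↥F) : H) * (a * b)⁻¹ = a * (b * ((x : ↥F) : H) * b⁻¹) * a⁻¹
        group }
  let ψ : H →* Equiv.Perm {x : ↥F // x ≠ 1} := MulAction.toPermHom H {x : ↥F // x ≠ 1}
  have hker : ψ.ker ≤ Subgroup.centralizer (F : Set H) := by
    intro h hh
    rw [Subgroup.mem_centralizer_iff]
    intro x hx
    by_cases hx1 : x = 1
    · subst hx1; simp
    · have h1 : ψ h ⟨⟨x, hx⟩, fun e => hx1 (congrArg Subtype.val e)⟩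
          = ⟨⟨x, hx⟩, fun e => hx1 (congrArg Subtype.val e)⟩ := by
        rw [MonoidHom.mem_ker.1 hh]; rfl
      have h2 : h * x * h⁻¹ = x := congrArg (fun y : {x : ↥F // x ≠ 1} => ((y : ↥F) : H)) h1
      calc x * h = h * x * h⁻¹ * h := by rw [h2]
        _ = h * x := by group
  have h1 : Nat.card ψ.ker ≤ Nat.card ↥F := Subgroup.card_le_of_le (hker.trans hC)
  have h2 : ψ.ker.index ≤ Nat.factorial (Nat.card ↥F - 1) := by
    rw [Subgroup.index_ker]
    have h3 : Nat.card ↥ψ.range ≤ Nat.card (Equiv.Perm {x : ↥F // x ≠ 1}) :=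
      Nat.card_le_card_of_injective _ Subtype.val_injective
    have h4 : Nat.card {x : ↥F // x ≠ 1} = Nat.card ↥F - 1 := by
      have : Fintype ↥F := Fintype.ofFinite _
      rw [Nat.card_eq_fintype_card, Nat.card_eq_fintype_card, Fintype.card_subtype_compl,
        Fintype.card_subtype_eq]
    rw [Nat.card_perm, h4] at h3
    exact h3
  rw [← Subgroup.card_mul_index ψ.ker, ← Nat.mul_factorial_pred (Nat.card_pos (α := ↥F)).ne']
  exact Nat.mul_le_mul h1 h2

/-- For a finite group H, |H| ≤ |F*(H)|!. -/
theorem result {H : Type*} [Group H] [Finite H] : Nat.card H ≤ Nat.factorial (Nat.card ↥(Cfsg.generalizedFittingSubgroup H)) := by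
  have : (Cfsg.generalizedFittingSubgroup H).Normal :=
    Cfsg.Agent.Lib.Helper8.generalizedFittingSubgroup_normal
  exact card_le_factorial _ Cfsg.Agent.Lib.Helper8.centralizer_generalizedFittingSubgroup_le

end Cfsg.Agent.S1313
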