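import Cfsg.Statements.S1314
import Mathlib

set_option autoImplicit false
open Cfsg

namespace Cfsg.Agent.S1314

open scoped commutatorElement in
theorem comm_central {G : Type*} [Group G] (z₁ z₂ d₁ d₂ : G) (h1 : Commute z₁ d₁)
    (h2 : Commute z₁ z₂) (h3 : Commute z₁ d₂) (h4 : Commute z₂ d₁) (h5 : Commute z₂ d₂) :
    ⁅z₁ * d₁, z₂ * d₂⁆ = ⁅d₁, d₂⁆ := by
  rw [commutatorElement_def, commutatorElement_def]
  have hw : Commute z₁ (d₁ * z₂ * d₂ * d₁⁻¹) :=
    ((h1.mul_right h2).mul_right h3).mul_right h1.inv_right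
  have hu : Commute z₂ (d₁ * d₂ * d₁⁻¹ * d₂⁻¹) :=
    ((h4.mul_right h5).mul_right h4.inv_right).mul_right h5.inv_right
  calc z₁ * d₁ * (z₂ * d₂) * (z₁ * d₁)⁻¹ * (z₂ * d₂)⁻¹
      = z₁ * (d₁ * z₂ * d₂ * d₁⁻¹) * z₁⁻¹ * (d₂⁻¹ * z₂⁻¹) := by group
    _ = (d₁ * z₂ * d₂ * d₁⁻¹) * (d₂⁻¹ * z₂⁻¹) := by rw [hw.eq, mul_inv_cancel_right]
    _ = z₂ * (d₁ * d₂ * d₁⁻¹ * d₂⁻¹) * z₂⁻¹ := by rw [← h4.eq]; group
    _ = d₁ * d₂ * d₁⁻¹ * d₂⁻¹ := by rw [hu.eq, mul_inv_cancel_right]

open scoped commutatorElement in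
theorem main {G : Type*} [Group G] (φ : G ≃* G) (hφφ : ∀ g, φ (φ g) = g) (L : Subgroup G)
    (hperf : ⁅L, L⁆ = L) (hcL : ∀ a ∈ L, ∀ b ∈ L, a * φ b = φ b * a) :
    ∃ π : ↥L →* G, (∀ l : ↥L, π l = (l : G) * φ (l : G)) ∧ π.ker ≤ Subgroup.center ↥L ∧
      (∀ c ∈ π.range, φ c = c) ∧
      ∀ K : Subgroup G, (∀ c, c ∈ K ↔ c ∈ L ⊔ L.map φ.toMonoidHom ∧ φ c = c) →
        ⁅K, K⁆ = π.range := by
  let π : ↥L →* G :=
    { toFun := fun l => (l : G) * φ (l : G)
      map_one' := by simp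
      map_mul' := by
        intro a b
        show ((a : G) * (b : G)) * φ ((a : G) * (b : G)) = (a : G) * φ (a : G) * ((b : G) * φ (b : G))
        have h1 := hcL b b.2 a a.2
        rw [map_mul]
        calc ((a : G) * (b : G)) * (φ (a : G) * φ (b : G))
            = (a : G) * ((b : G) * φ (a : G)) * φ (b : G) := by group
          _ = (a : G) * (φ (a : G) * (b : G)) * φ (b : G) := by rw [h1]
          _ = _ := by group }
  have hπ : ∀ l : ↥L, π l = (l : G) * φ (l : G) := fun l => rfl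
  have hπφ : ∀ l : ↥L, φ (π l) = π l := by
    intro l
    rw [hπ, map_mul, hφφ]
    exact (hcL l l.2 l l.2).symm
  set Lx := L.map φ.toMonoidHom with hLx
  have hmemLx : ∀ b ∈ L, φ b ∈ Lx := fun b hb => ⟨b, hb, rfl⟩
  have hrangeK : ∀ c ∈ π.range, c ∈ L ⊔ Lx ∧ φ c = c := by
    rintro _ ⟨l, rfl⟩
    refine ⟨?_, hπφ l⟩
    rw [hπ]
    exact Subgroup.mul_mem_sup l.2 (hmemLx _ l.2)
  refine ⟨π, hπ, ?_, fun c hc => (hrangeK c hc).2, ?_⟩
  · intro l hl
    rw [MonoidHom.mem_ker, hπ] at hl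
    have hl' : (l : G) = (φ (l : G))⁻¹ := eq_inv_of_mul_eq_one_left hl
    refine Subgroup.mem_center_iff.2 ?_
    intro g
    ext
    show (g : G) * (l : G) = (l : G) * (g : G)
    have h1 := hcL g g.2 (l : G)⁻¹ (L.inv_mem l.2)
    rw [map_inv] at h1
    have h2 : (l : G)⁻¹ = φ (l : G) := by rw [hl', inv_inv]; rw [← hl']
    have h3 : (φ (l : G))⁻¹ = (l : G) := hl'.symm
    rw [h3] at h1
    exact h1
  · intro K hK
    have hcomm : ⁅L, Lx⁆ = ⊥ := by
      rw [Subgroup.commutator_eq_bot_iff_le_centralizer]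
      intro a ha
      rw [Subgroup.mem_centralizer_iff]
      rintro _ ⟨b, hb, rfl⟩
      exact (hcL a ha b hb).symm
    have hrange_le : π.range ≤ K := fun c hc => (hK c).2 (hrangeK c hc)
    apply le_antisymm
    · have hLN : L ≤ Subgroup.normalizer (Lx : Set G) := by
        rw [Subgroup.commutator_eq_bot_iff_le_centralizer] at hcomm
        exact hcomm.trans (Subgroup.centralizer_le_normalizer _)
      have hdec : ∀ c ∈ K, ∃ z : G, ∃ b : ↥L, c = z * π b ∧ (∀ g ∈ L ⊔ Lx, g * z = z * g) := by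
        intro c hc
        obtain ⟨hc1, hc2⟩ := (hK c).1 hc
        have hc1' : c ∈ ((L ⊔ Lx : Subgroup G) : Set G) := hc1
        rw [Subgroup.coe_mul_of_left_le_normalizer_right _ _ hLN] at hc1'
        obtain ⟨a, ha, _, ⟨b, hb, rfl⟩, rfl⟩ := hc1'
        have hb' : φ.toMonoidHom b = φ b := rfl
        have hc2' : φ a * b = a * φ b := by
          have : φ (a * φ b) = a * φ b := hc2
          rwa [map_mul, hφφ] at this
        have hzL : b⁻¹ * a ∈ L := L.mul_mem (L.inv_mem hb) ha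
        have hzeq : b⁻¹ * a = φ (a * b⁻¹) := by
          have h1 := hcL b hb a ha
          rw [map_mul, map_inv]
          calc b⁻¹ * a = b⁻¹ * (a * φ b) * (φ b)⁻¹ := by group
            _ = b⁻¹ * (φ a * b) * (φ b)⁻¹ := by rw [hc2']
            _ = b⁻¹ * (b * φ a) * (φ b)⁻¹ := by rw [h1]
            _ = φ a * (φ b)⁻¹ := by group
        have hzLx : b⁻¹ * a ∈ Lx := by
          rw [hzeq]; exact hmemLx _ (L.mul_mem ha (L.inv_mem hb))
        have hzc : ∀ g ∈ L ⊔ Lx, g * (b⁻¹ * a) = (b⁻¹ * a) * g := by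
          have hle : L ⊔ Lx ≤ Subgroup.centralizer ({b⁻¹ * a} : Set G) := by
            apply sup_le
            · intro g hg
              refine Subgroup.mem_centralizer_singleton_iff.2 ?_
              obtain ⟨w, hw, hwz⟩ := hzLx
              have hw' : φ.toMonoidHom w = φ w := rfl
              rw [← hwz, hw']
              exact hcL g hg w hw
            · rintro _ ⟨w, hw, rfl⟩
              refine Subgroup.mem_centralizer_singleton_iff.2 ?_
              have hw' : φ.toMonoidHom w = φ w := rfl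
              rw [hw']
              exact (hcL _ hzL w hw).symm
          intro g hg
          exact Subgroup.mem_centralizer_singleton_iff.1 (hle hg)
        refine ⟨b⁻¹ * a, ⟨b, hb⟩, ?_, hzc⟩
        rw [hπ, hb']
        have h3 := hzc b (le_sup_left (a := L) hb)
        show a * φ b = b⁻¹ * a * (b * φ b)
        calc a * φ b = b * (b⁻¹ * a) * φ b := by group
          _ = (b⁻¹ * a) * b * φ b := by rw [h3]
          _ = _ := by group
      rw [Subgroup.commutator_le]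
      intro c₁ hc₁ c₂ hc₂
      obtain ⟨z₁, b₁, rfl, hz₁⟩ := hdec c₁ hc₁
      obtain ⟨z₂, b₂, rfl, hz₂⟩ := hdec c₂ hc₂
      have hd₁ : π b₁ ∈ L ⊔ Lx := (hrangeK _ ⟨b₁, rfl⟩).1
      have hd₂ : π b₂ ∈ L ⊔ Lx := (hrangeK _ ⟨b₂, rfl⟩).1
      have hz₂K : z₂ ∈ L ⊔ Lx := by
        have : z₂ = (z₂ * π b₂) * (π b₂)⁻¹ := by group
        rw [this]
        exact (L ⊔ Lx).mul_mem ((hK _).1 hc₂).1 ((L ⊔ Lx).inv_mem hd₂)
      rw [comm_central z₁ z₂ (π b₁) (π b₂) (hz₁ _ hd₁).symm (hz₁ _ hz₂K).symm (hz₁ _ hd₂).symm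
        (hz₂ _ hd₁).symm (hz₂ _ hd₂).symm]
      exact ⟨⁅b₁, b₂⁆, by rw [map_commutatorElement]⟩
    · have hperf' : ⁅π.range, π.range⁆ = π.range := by
        have hP : Group.IsPerfect ↥L := Subgroup.isPerfect_iff.2 hperf
        have h1 : (⁅(⊤ : Subgroup ↥L), ⊤⁆ : Subgroup ↥L) = ⊤ := by
          rw [← commutator_def]; exact hP.commutator_eq_top
        rw [MonoidHom.range_eq_map, ← Subgroup.map_commutator, h1]
      calc π.range = ⁅π.range, π.range⁆ := hperf'.symm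
        _ ≤ _ := Subgroup.commutator_mono hrange_le hrange_le

/-- Let x be an involution of a group G and L a perfect subgroup with ⁅L, x L x⁻¹⁆ = 1. Then l ↦ l (x l x⁻¹) is a group homomorphism π from L to G whose kernel is central in L and whose image lies in C_G(x); and the commutator subgroup of C_{L ⊔ xLx⁻¹}(x) equals the image of π. -/
theorem result {G : Type*} [Group G] [Finite G] (x : G) (hx : orderOf x = 2) (L : Subgroup G) (hperf : ⁅L, L⁆ = L) (hcomm : ⁅L, L.map (MulAut.conj x).toMonoidHom⁆ = ⊥) : ∃ π : ↥L →* G, (∀ l : ↥L, π l = (l : G) * (x * (l : G) * x⁻¹)) ∧ π.ker ≤ Subgroup.center ↥L ∧ π.range ≤ Subgroup.centralizer ({x} : Set G) ∧ ⁅(L ⊔ L.map (MulAut.conj x).toMonoidHom) ⊓ Subgroup.centralizer ({x} : Set G), (L ⊔ L.map (MulAut.conj x).toMonoidHom) ⊓ Subgroup.centralizer ({x} : Set G)⁆ = π.range := by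
  have hx2 : x * x = 1 := by
    have := pow_orderOf_eq_one x
    rwa [hx, pow_two] at this
  have hφφ : ∀ g, (MulAut.conj x) ((MulAut.conj x) g) = g := by
    intro g
    rw [← MulAut.mul_apply, ← map_mul, hx2, map_one, MulAut.one_apply]
  have hcL : ∀ a ∈ L, ∀ b ∈ L, a * (MulAut.conj x) b = (MulAut.conj x) b * a := by
    intro a ha b hb
    rw [Subgroup.commutator_eq_bot_iff_le_centralizer] at hcomm
    have := Subgroup.mem_centralizer_iff.1 (hcomm ha) ((MulAut.conj x) b) ⟨b, hb, rfl⟩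
    exact this.symm
  obtain ⟨π, h1, h2, h3, h4⟩ := main (MulAut.conj x) hφφ L hperf hcL
  refine ⟨π, ?_, h2, ?_, ?_⟩
  · intro l
    rw [h1, MulAut.conj_apply]
  · intro c hc
    refine Subgroup.mem_centralizer_singleton_iff.2 ?_
    have := h3 c hc
    rw [MulAut.conj_apply, mul_inv_eq_iff_eq_mul] at this
    exact this.symm
  · apply h4
    intro c
    rw [Subgroup.mem_inf, Subgroup.mem_centralizer_singleton_iff, MulAut.conj_apply,
      mul_inv_eq_iff_eq_mul, eq_comm]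

end Cfsg.Agent.S1314
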