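import Cfsg.Statements.S1316
import Mathlib
import Cfsg.Agent.Lib.Helper8.DSer

set_option autoImplicit false
open Cfsg

namespace Cfsg.Agent.S1316

/-- For a finite group X, E(X) equals the intersection of the derived series of F*(X) (its last term). -/
theorem result {X : Type*} [Group X] [Finite X] : (⨅ n : ℕ, (derivedSeries ↥(Cfsg.generalizedFittingSubgroup X) n).map (Cfsg.generalizedFittingSubgroup X).subtype) = Cfsg.layer X := by
  have hEn : (Cfsg.layer X).Normal := Cfsg.Agent.Lib.Helper2.layer_normal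
  have hFn : (Cfsg.fittingSubgroup X).Normal := Cfsg.Agent.Lib.Helper2.fittingSubgroup_normal
  have hnil : Group.IsNilpotent ↥(Cfsg.fittingSubgroup X) :=
    Cfsg.Agent.Lib.Helper2.fittingSubgroup_isNilpotent
  simp_rw [Cfsg.Agent.Lib.Helper8.map_derivedSeries]
  apply le_antisymm
  · obtain ⟨n, hn⟩ := Cfsg.Agent.Lib.Helper8.exists_dser_eq_bot (Cfsg.fittingSubgroup X)
      inferInstance
    refine (iInf_le _ n).trans ?_
    unfold Cfsg.generalizedFittingSubgroup
    refine (Cfsg.Agent.Lib.Helper8.dser_sup_le _ _ n).trans ?_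
    rw [hn, sup_bot_eq]
  · apply le_iInf
    intro n
    have h1 : Cfsg.layer X ≤ Cfsg.generalizedFittingSubgroup X := le_sup_left
    have h2 := Cfsg.Agent.Lib.Helper8.dser_mono h1 n
    rwa [Cfsg.Agent.Lib.Helper8.dser_perfect Cfsg.Agent.Lib.Helper8.layer_perfect] at h2

end Cfsg.Agent.S1316
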