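import Cfsg.Statements.S1317
import Mathlib
import Cfsg.Agent.Lib.Helper8.Layer
import Cfsg.Agent.Lib.Helper8.Misc

set_option autoImplicit false
open Cfsg

namespace Cfsg.Agent.S1317

/-- For a finite group X, the centre of the layer E(X) is F(X) ∩ E(X). -/
theorem result {X : Type*} [Group X] [Finite X] : (Subgroup.center ↥(Cfsg.layer X)).map (Cfsg.layer X).subtype = Cfsg.fittingSubgroup X ⊓ Cfsg.layer X := by
  have hEn : (Cfsg.layer X).Normal := Cfsg.Agent.Lib.Helper2.layer_normal
  apply le_antisymm
  · apply le_inf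
    · have hn : ((Subgroup.center ↥(Cfsg.layer X)).map (Cfsg.layer X).subtype).Normal :=
        ConjAct.normal_of_characteristic_of_normal
      have hnil : Group.IsNilpotent ↥((Subgroup.center ↥(Cfsg.layer X)).map (Cfsg.layer X).subtype) := by
        apply Cfsg.Agent.Lib.Helper8.isNilpotent_subgroup_of_comm
        rintro _ ⟨a, ha, rfl⟩ _ ⟨b, hb, rfl⟩
        have := Subgroup.mem_center_iff.1 hb a
        exact congrArg Subtype.val this
      exact Cfsg.Agent.Lib.Helper2.le_fittingSubgroup hnil
    · exact Subgroup.map_subtype_le _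
  · rintro x ⟨hxF, hxE⟩
    refine ⟨⟨x, hxE⟩, ?_, rfl⟩
    refine Subgroup.mem_center_iff.2 ?_
    intro g
    ext
    have h1 := Cfsg.Agent.Lib.Helper8.commutator_layer_fitting (G := X)
    rw [Subgroup.commutator_eq_bot_iff_le_centralizer] at h1
    exact (Subgroup.mem_centralizer_iff.1 (h1 g.2) x hxF).symm

end Cfsg.Agent.S1317
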