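import Cfsg.Statements.S1318
import Mathlib
import Cfsg.Agent.Lib.Helper8.Quasinilpotent

set_option autoImplicit false
open Cfsg

namespace Cfsg.Agent.S1318

/-- Let X be finite and S ≤ F*(X) a subgroup subnormal in F*(X). Then F(S) = F(X) ∩ S (inside X) and S = F(S)E(S). -/
theorem result {X : Type*} [Group X] [Finite X] (S : Subgroup X) (hS : S ≤ Cfsg.generalizedFittingSubgroup X) (hsn : (S.subgroupOf (Cfsg.generalizedFittingSubgroup X)).IsSubnormal) : (Cfsg.fittingSubgroup ↥S).map S.subtype = Cfsg.fittingSubgroup X ⊓ S ∧ Cfsg.fittingSubgroup ↥S ⊔ Cfsg.layer ↥S = ⊤ := by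
  have hFn : (Cfsg.generalizedFittingSubgroup X).Normal :=
    Cfsg.Agent.Lib.Helper8.generalizedFittingSubgroup_normal
  have hSsn : S.IsSubnormal := Subgroup.IsSubnormal.trans hS hsn hFn.isSubnormal
  have hfn : (Cfsg.fittingSubgroup X).Normal := Cfsg.Agent.Lib.Helper2.fittingSubgroup_normal
  have hnil : Group.IsNilpotent ↥(Cfsg.fittingSubgroup X) :=
    Cfsg.Agent.Lib.Helper2.fittingSubgroup_isNilpotent
  constructor
  · apply le_antisymm
    · exact le_inf (Cfsg.Agent.Lib.Helper1.fittingSubgroup_map_le_of_isSubnormal hSsn)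
        (Subgroup.map_subtype_le _)
    · apply Cfsg.Agent.Lib.Helper8.le_fittingSubgroup_map inf_le_right
      · have : (Cfsg.fittingSubgroup X ⊓ S) = S ⊓ Cfsg.fittingSubgroup X := inf_comm _ _
        intro s hs
        rw [Subgroup.mem_normalizer_iff]
        intro h
        constructor
        · rintro ⟨h1, h2⟩
          exact ⟨hfn.conj_mem h h1 s, S.mul_mem (S.mul_mem hs h2) (S.inv_mem hs)⟩
        · rintro ⟨h1, h2⟩
          refine ⟨?_, ?_⟩
          · have := hfn.conj_mem _ h1 s⁻¹
            simpa [mul_assoc] using this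
          · have := S.mul_mem (S.mul_mem (S.inv_mem hs) h2) hs
            simpa [mul_assoc] using this
      · exact (Group.isNilpotent_congr (Subgroup.subgroupOfEquivOfLe
          (inf_le_left : Cfsg.fittingSubgroup X ⊓ S ≤ Cfsg.fittingSubgroup X))).1 inferInstance
  · have h1 : Cfsg.generalizedFittingSubgroup ↥(S.subgroupOf (Cfsg.generalizedFittingSubgroup X))
        = ⊤ :=
      Cfsg.Agent.Lib.Helper8.gfs_eq_top_of_isSubnormal Cfsg.Agent.Lib.Helper8.gfs_gfs_eq_top hsn
    have h2 : Cfsg.generalizedFittingSubgroup ↥S = ⊤ :=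
      Cfsg.Agent.Lib.Helper8.generalizedFittingSubgroup_eq_top_of_equiv
        (Subgroup.subgroupOfEquivOfLe hS) h1
    unfold Cfsg.generalizedFittingSubgroup at h2
    rw [sup_comm]; exact h2

end Cfsg.Agent.S1318
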