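import Cfsg.Statements.S1319
import Mathlib
import Cfsg.Agent.Lib.Helper2.Components3
import Cfsg.Agent.S1260

set_option autoImplicit false
open Cfsg

namespace Cfsg.Agent.S1319

/-- Let A be a subnormal subgroup of the finite group X with E(A) = A. Then A ≤ E(X) and A is normal in E(X). -/
theorem result {X : Type*} [Group X] [Finite X] (A : Subgroup X) (hsn : A.IsSubnormal) (hA : Cfsg.layer ↥A = ⊤) : A ≤ Cfsg.layer X ∧ (A.subgroupOf (Cfsg.layer X)).Normal := by
  have hle : A ≤ Cfsg.layer X := by
    have h1 : (Cfsg.layer ↥A).map A.subtype ≤ Cfsg.layer X := by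
      rw [Subgroup.map_le_iff_le_comap]
      unfold Cfsg.layer
      apply sSup_le
      intro K hK
      rw [← Subgroup.map_le_iff_le_comap]
      exact le_sSup ((Cfsg.Agent.S1260.result A hsn K).1 hK)
    rw [hA, ← MonoidHom.range_eq_map, Subgroup.range_subtype] at h1
    exact h1
  refine ⟨hle, ?_⟩
  rw [Subgroup.normal_subgroupOf_iff_le_normalizer hle]
  unfold Cfsg.layer
  apply sSup_le
  intro L hL
  rcases Cfsg.Agent.Lib.Helper2.isComponent_le_or_commutator_eq_bot hL hsn with h | h
  · exact h.trans Subgroup.le_normalizer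
  · rw [Subgroup.commutator_comm, Subgroup.commutator_eq_bot_iff_le_centralizer] at h
    exact h.trans (Subgroup.centralizer_le_normalizer (A : Set X))

end Cfsg.Agent.S1319
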