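import Cfsg.Statements.S1321
import Mathlib
import Cfsg.Agent.Lib.Helper2.Components3

set_option autoImplicit false
open Cfsg

namespace Cfsg.Agent.S1321

/-- Let X be finite and U ≤ X. Then E(X) is generated by C_{E(X)}(U) together with ⁅E(X), U⁆ (indeed it is their product, ⁅E(X), U⁆ being normal in E(X)). -/
theorem result {X : Type*} [Group X] [Finite X] (U : Subgroup X) : Cfsg.layer X = (Cfsg.layer X ⊓ Subgroup.centralizer (U : Set X)) ⊔ ⁅Cfsg.layer X, U⁆ ∧ ⁅Cfsg.layer X, U⁆ ≤ Cfsg.layer X := by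
  have hEn : (Cfsg.layer X).Normal := Cfsg.Agent.Lib.Helper2.layer_normal
  have h2 : ⁅Cfsg.layer X, U⁆ ≤ Cfsg.layer X := Subgroup.commutator_le_left _ _
  refine ⟨?_, h2⟩
  apply le_antisymm _ (sup_le inf_le_left h2)
  conv_lhs => unfold Cfsg.layer
  apply sSup_le
  intro L hL
  have hLE : L ≤ Cfsg.layer X := Cfsg.Agent.Lib.Helper2.le_layer hL
  by_cases h : ⁅L, U⁆ = ⊥
  · refine le_trans ?_ le_sup_left
    refine le_inf hLE ?_
    rwa [← Subgroup.commutator_eq_bot_iff_le_centralizer]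
  · refine le_trans ?_ le_sup_right
    have hLN : L ≤ Subgroup.normalizer ((⁅Cfsg.layer X, U⁆ : Subgroup X) : Set X) :=
      hLE.trans (Subgroup.normalizer_commutator_ge_left _ _)
    rcases Cfsg.Agent.Lib.Helper2.isComponent_le_or_commutator_eq_bot_of_le_normalizer hL hLN
      with h3 | h3
    · exact h3
    · exfalso
      apply h
      have h4 : ⁅⁅L, U⁆, L⁆ = ⊥ := by
        rw [eq_bot_iff, ← h3]
        exact Subgroup.commutator_mono (Subgroup.commutator_mono hLE le_rfl) le_rfl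
      have h5 : ⁅⁅U, L⁆, L⁆ = ⊥ := by
        rw [Subgroup.commutator_comm U L]; exact h4
      have h6 : ⁅⁅L, L⁆, U⁆ = ⊥ := Subgroup.commutator_commutator_eq_bot_of_rotate h4 h5
      rwa [Cfsg.Agent.Lib.Helper2.isComponent_perfect hL] at h6

end Cfsg.Agent.S1321
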