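import Cfsg.Statements.S1323
import Cfsg.Agent.Lib.Helper4.AltStd2

set_option autoImplicit false
open Cfsg

namespace Cfsg.Agent.S1323

/-- For n ≥ 9, the subgroup of the alternating group on Fin n fixing each of the points 0, 1, 2, 3 is a standard subgroup. -/
theorem result (n : ℕ) (h4 : 4 ≤ n) (hn : 9 ≤ n) : Cfsg.IsStandardSubgroup (⨅ i : Fin 4, MulAction.stabilizer ↥(alternatingGroup (Fin n)) (Fin.castLE h4 i : Fin n)) := by
  open Cfsg.Agent.Lib.Helper4.AltStd in
  classical
  set T : Finset (Fin n) := (Finset.univ.map (Fin.castLEEmb h4))ᶜ with hTdef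
  have hTc : Tᶜ.card = 4 := by
    rw [hTdef, compl_compl, Finset.card_map, Finset.card_univ, Fintype.card_fin]
  have hTcard : T.card = n - 4 := by
    have := Finset.card_compl T
    rw [hTc, Fintype.card_fin] at this
    omega
  have hL : (⨅ i : Fin 4, MulAction.stabilizer ↥(alternatingGroup (Fin n)) (Fin.castLE h4 i : Fin n))
      = altOn T := by
    ext σ
    rw [Subgroup.mem_iInf, mem_altOn']
    constructor
    · intro h j hj
      rw [hTdef, Finset.mem_compl, not_not, Finset.mem_map] at hj
      obtain ⟨i, -, rfl⟩ := hj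
      exact MulAction.mem_stabilizer_iff.mp (h i)
    · intro h i
      rw [MulAction.mem_stabilizer_iff]
      apply h
      rw [hTdef, Finset.mem_compl, not_not, Finset.mem_map]
      exact ⟨i, Finset.mem_univ _, rfl⟩
  rw [hL]
  apply isStandard_altOn T (by omega) hTc
  rw [Fintype.card_fin]
  omega

end Cfsg.Agent.S1323
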