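import Cfsg.Statements.S1326
import Mathlib
import Cfsg.Agent.Lib.Helper8.FStar

set_option autoImplicit false
open Cfsg

namespace Cfsg.Agent.S1326

/-- For a finite group X: the Fitting subgroup contains its centralizer if and only if the layer of X is trivial. -/
theorem result {X : Type*} [Group X] [Finite X] : Subgroup.centralizer (Cfsg.fittingSubgroup X : Set X) ≤ Cfsg.fittingSubgroup X ↔ Cfsg.layer X = ⊥ := by
  constructor
  · intro h
    have h1 : Cfsg.layer X ≤ Cfsg.fittingSubgroup X := by
      refine le_trans ?_ h
      rw [← Subgroup.commutator_eq_bot_iff_le_centralizer]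
      exact Cfsg.Agent.Lib.Helper8.commutator_layer_fitting
    rw [eq_bot_iff]
    unfold Cfsg.layer
    apply sSup_le
    intro L hL
    exfalso
    have hLF : L ≤ Cfsg.fittingSubgroup X := (Cfsg.Agent.Lib.Helper2.le_layer hL).trans h1
    have hnil : Group.IsNilpotent ↥(Cfsg.fittingSubgroup X) :=
      Cfsg.Agent.Lib.Helper2.fittingSubgroup_isNilpotent
    have hs : Group.IsSolvable ↥L :=
      Group.isSolvable_of_isSolvable_injective (Subgroup.inclusion_injective hLF)
    have hp : Group.IsPerfect ↥L := hL.2.1
    have hne : Nontrivial ↥L :=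
      (Subgroup.nontrivial_iff_ne_bot L).2 (Cfsg.Agent.Lib.Helper2.isComponent_ne_bot hL)
    exact Group.IsPerfect.not_isSolvable ↥L hs
  · intro h
    have h1 := Cfsg.Agent.Lib.Helper8.centralizer_generalizedFittingSubgroup_le (G := X)
    unfold Cfsg.generalizedFittingSubgroup at h1
    rw [h, bot_sup_eq] at h1
    exact h1

end Cfsg.Agent.S1326
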