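import Cfsg.Statements.S1331
import Mathlib
import Cfsg.Agent.Lib.Helper8.Hyperplane
import Cfsg.Agent.Lib.Helper8.SigFun

set_option autoImplicit false
open Cfsg

namespace Cfsg.Agent.S1331

/-- Let θ be a solvable A-signalizer functor on the finite group G for the prime p, A elementary abelian of rank at least 3, X a member of the family of θ, and B ≤ A with |B| ≥ p². Then X is generated by the subgroups X ∩ ⋂_{d ∈ D, d ≠ 1} θ d, D ranging over the subgroups of index p in B. -/
theorem result {G : Type*} [Group G] [Finite G] (p : ℕ) [Fact p.Prime] (A : Subgroup G) (hA : Cfsg.IsElementaryAbelian p A) (hA3 : p ^ 3 ≤ Nat.card ↥A) (θ : G → Subgroup G) (hθ : Cfsg.IsSolvableSignalizerFunctor p A θ) (X : Subgroup G) (hX : X ∈ Cfsg.signalizerFamily p A θ) (B : Subgroup G) (hB : B ≤ A) (hB2 : p ^ 2 ≤ Nat.card ↥B) : X = ⨆ D : {D : Subgroup G // D ≤ B ∧ D.relIndex B = p}, X ⊓ Cfsg.signalizerInf (D : Subgroup G) θ := by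
  obtain ⟨_, hXp, hXA, hXθ⟩ := hX
  have hBc : IsMulCommutative ↥B := by
    refine ⟨⟨fun a b => Subtype.ext ?_⟩⟩
    have := hA.1.is_comm.comm (⟨a.1, hB a.2⟩ : A) ⟨b.1, hB b.2⟩
    have h2 := congrArg Subtype.val this
    exact h2
  have hBe : ∀ a ∈ B, a ^ p = 1 := fun a ha => hA.2 a (hB ha)
  have hAX : A ≤ Subgroup.normalizer (X : Set G) := by
    intro a ha
    have := Cfsg.Agent.Lib.Helper8.SigFun.zpowers_le_normalizer (hXA a ha)
    exact this (Subgroup.mem_zpowers a)
  apply le_antisymm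
  · have h := Cfsg.Agent.Lib.Helper8.Hyperplane.eq_iSup_hyperplane_centralizers (p := p) B X hBc hBe
      (Cfsg.Agent.Lib.Helper8.Hyperplane.ne_bot_of_sq_le_card hB2) (hB.trans hAX) hXp
    refine h.le.trans ?_
    refine iSup_le ?_
    rintro ⟨D, hDB, hDp⟩
    refine le_trans ?_ (le_iSup (fun D : {D : Subgroup G // D ≤ B ∧ D.relIndex B = p} =>
      X ⊓ Cfsg.signalizerInf (D : Subgroup G) θ) ⟨D, hDB, hDp⟩)
    refine le_inf inf_le_left ?_
    unfold Cfsg.signalizerInf
    refine le_iInf ?_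
    rintro ⟨a, haD, ha1⟩
    refine le_trans ?_ (hXθ a (hB (hDB haD)) ha1)
    refine inf_le_inf_left _ ?_
    exact Subgroup.centralizer_le (by simpa using haD)
  · exact iSup_le fun B => inf_le_left

end Cfsg.Agent.S1331
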