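import Cfsg.Statements.S1335
import Mathlib

set_option autoImplicit false
open Cfsg

namespace Cfsg.Agent.S1335

theorem pRankLE_of_equiv {X Y : Type*} [Group X] [Group Y] (e : X ≃* Y) (p k : ℕ)
    (h : Cfsg.PRankLE p k Y) : Cfsg.PRankLE p k X := by
  intro A hA hexp
  have h1 : Nat.card ↥(A.map e.toMonoidHom) = Nat.card ↥A :=
    Nat.card_congr (A.equivMapOfInjective e.toMonoidHom e.injective).symm.toEquiv
  rw [← h1]
  apply h
  · refine ⟨⟨?_⟩⟩
    rintro ⟨_, a, ha, rfl⟩ ⟨_, b, hb, rfl⟩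
    apply Subtype.ext
    show e.toMonoidHom a * e.toMonoidHom b = e.toMonoidHom b * e.toMonoidHom a
    rw [← map_mul, ← map_mul]
    congr 1
    have := hA.is_comm.comm (⟨a, ha⟩ : ↥A) ⟨b, hb⟩
    exact congrArg Subtype.val this
  · rintro _ ⟨a, ha, rfl⟩
    rw [← map_pow, hexp a ha, map_one]

/-- Let H be a subgroup of the finite group G, p a prime, k ≥ 1, P a Sylow p-subgroup of H of p-rank at least k, and suppose N_G(X) ≤ H for every subgroup X ≤ P of p-rank at least k. Then P is a Sylow p-subgroup of G. -/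
theorem result {G : Type*} [Group G] [Finite G] {p : ℕ} [Fact p.Prime] (k : ℕ) (hk : 1 ≤ k) (H : Subgroup G) (P : Sylow p ↥H) (hP : ¬ Cfsg.PRankLE p (k - 1) ↥(P : Subgroup ↥H)) (hΓ : (∀ X : Subgroup G, X ≤ (P : Subgroup ↥H).map H.subtype → ¬ Cfsg.PRankLE p (k - 1) ↥X → Subgroup.normalizer (X : Set G) ≤ H)) : ∃ Q : Sylow p G, (Q : Subgroup G) = (P : Subgroup ↥H).map H.subtype := by
  set P₀ := (P : Subgroup ↥H).map H.subtype with hP₀
  have hP₀H : P₀ ≤ H := Subgroup.map_subtype_le _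
  have hP₀p : IsPGroup p ↥P₀ := P.2.map H.subtype
  have hrk : ¬ Cfsg.PRankLE p (k - 1) ↥P₀ := by
    intro h
    apply hP
    exact pRankLE_of_equiv ((P : Subgroup ↥H).equivMapOfInjective H.subtype H.subtype_injective)
      p (k - 1) h
  have hN : Subgroup.normalizer (P₀ : Set G) ≤ H := hΓ P₀ le_rfl hrk
  have hmax : ∀ Q : Subgroup G, IsPGroup p ↥Q → P₀ ≤ Q → Q = P₀ := by
    intro Q hQ hPQ
    by_contra hne
    -- the normalizer of `P₀` in `Q` is a larger `p`-subgroup of `H`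
    have hlt : P₀.subgroupOf Q < ⊤ := by
      rw [lt_top_iff_ne_top, Ne, Subgroup.subgroupOf_eq_top]
      intro hle
      exact hne (le_antisymm hle hPQ)
    have : Group.IsNilpotent ↥Q := hQ.isNilpotent
    have hnc := Group.normalizerCondition_of_isNilpotent (G := ↥Q) _ hlt
    obtain ⟨y, hyN, hyP⟩ := SetLike.exists_of_lt hnc
    set M := Q ⊓ Subgroup.normalizer (P₀ : Set G) with hM
    have hMp : IsPGroup p ↥M := hQ.to_le inf_le_left
    have hMH : M ≤ H := inf_le_right.trans hN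
    have hP₀M : P₀ ≤ M := le_inf hPQ Subgroup.le_normalizer
    have h1 : M.subgroupOf H = (P : Subgroup ↥H) := by
      apply P.3 hMp.comap_subtype
      intro x hx
      show (x : G) ∈ M
      exact hP₀M ⟨x, hx, rfl⟩
    have hyM : (y : G) ∈ M := by
      refine ⟨y.2, ?_⟩
      rw [Subgroup.mem_normalizer_iff] at hyN
      refine Subgroup.mem_normalizer_iff.2 ?_
      intro h
      constructor
      · intro hh
        have := (hyN ⟨h, hPQ hh⟩).1 (Subgroup.mem_subgroupOf.2 hh)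
        exact Subgroup.mem_subgroupOf.1 this
      · intro hh
        have hhQ : h ∈ Q := by
          have h2 : (y : G) * h * (y : G)⁻¹ ∈ Q := hPQ hh
          have h3 := Q.mul_mem (Q.mul_mem (Q.inv_mem y.2) h2) y.2
          simpa [mul_assoc] using h3
        have := (hyN ⟨h, hhQ⟩).2 (Subgroup.mem_subgroupOf.2 hh)
        exact Subgroup.mem_subgroupOf.1 this
    apply hyP
    rw [Subgroup.mem_subgroupOf]
    have h2 : (⟨(y : G), hMH hyM⟩ : ↥H) ∈ M.subgroupOf H := Subgroup.mem_subgroupOf.2 hyM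
    rw [h1] at h2
    exact ⟨_, h2, rfl⟩
  exact ⟨⟨P₀, hP₀p, fun {Q} hQ hPQ => hmax Q hQ hPQ⟩, rfl⟩

end Cfsg.Agent.S1335
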