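import Cfsg.Statements.S1336
import Mathlib
import Cfsg.Agent.Lib.Helper7.SylowGraph
import Cfsg.Agent.Lib.Helper8.CharP2
import Cfsg.Agent.Lib.Helper8.SigFun

set_option autoImplicit false
open Cfsg

namespace Cfsg.Agent.S1336

open Cfsg.Agent.Lib.Helper7 in
section

variable {G : Type*} [Group G] {p : ℕ}

def Good (p : ℕ) (A : Subgroup G) : Prop := Cfsg.IsElementaryAbelian p A ∧ p ^ 1 ≤ Nat.card ↥A

def Rel (p : ℕ) (A B : Subgroup G) : Prop :=
  Cfsg.IsElementaryAbelian p A ∧ p ^ 1 ≤ Nat.card ↥A ∧ Cfsg.IsElementaryAbelian p B ∧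
    p ^ 1 ≤ Nat.card ↥B ∧ ∀ a ∈ A, ∀ b ∈ B, a * b = b * a

theorem rel_of {A B : Subgroup G} (hA : Good p A) (hB : Good p B)
    (h : ∀ a ∈ A, ∀ b ∈ B, a * b = b * a) : Rel p A B :=
  ⟨hA.1, hA.2, hB.1, hB.2, h⟩

theorem good_zpowers {x : G} (hx : orderOf x = p) :
    Good p (Subgroup.zpowers x) := by
  refine ⟨⟨inferInstance, ?_⟩, ?_⟩
  · rintro _ ⟨k, rfl⟩
    show (x ^ k) ^ p = 1
    rw [← zpow_natCast, ← zpow_mul, mul_comm, zpow_mul, zpow_natCast, ← hx, pow_orderOf_eq_one,
      one_zpow]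
  · rw [Nat.card_zpowers, hx, pow_one]

theorem good_ne_bot [hp : Fact p.Prime] {A : Subgroup G} (hA : Good p A) : A ≠ ⊥ := by
  intro h
  have := hA.2
  rw [h, Subgroup.card_bot, pow_one] at this
  exact absurd hp.out.one_lt (by omega)

theorem good_isPGroup {A : Subgroup G} (hA : Good p A) : IsPGroup p ↥A := by
  intro a
  refine ⟨1, Subtype.ext ?_⟩
  simpa using hA.1.2 a a.2

theorem commute_zpowers {x : G} {B : Subgroup G} (h : ∀ b ∈ B, x * b = b * x) :
    ∀ a ∈ Subgroup.zpowers x, ∀ b ∈ B, a * b = b * a := by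
  rintro _ ⟨k, rfl⟩ b hb
  have : Commute x b := h b hb
  exact (this.zpow_left k).eq

theorem commute_zpowers' {x : G} {B : Subgroup G} (h : ∀ b ∈ B, x * b = b * x) :
    ∀ b ∈ B, ∀ a ∈ Subgroup.zpowers x, b * a = a * b := by
  intro b hb a ha
  exact (commute_zpowers h a ha b hb).symm

theorem exists_orderOf_inf [Finite G] [hp : Fact p.Prime] {S T : Subgroup G} (hS : IsPGroup p ↥S)
    (h : S ⊓ T ≠ ⊥) : ∃ x, x ∈ S ∧ x ∈ T ∧ orderOf x = p := by
  have hP : IsPGroup p ↥(S ⊓ T) := hS.to_le inf_le_left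
  obtain ⟨t, ht, hto, _⟩ := Cfsg.Agent.Lib.Helper8.exists_central_orderOf_eq p (S ⊓ T) hP h
  exact ⟨t, ht.1, ht.2, hto⟩

/-- Sylow connectivity gives connectivity of the commuting graph. -/
theorem forward [Finite G] [hp : Fact p.Prime]
    (h : ∀ S T : Sylow p G, Relation.ReflTransGen sylowAdj S T) : Cfsg.IsKConnected p 1 G := by
  have key : ∀ S T : Sylow p G, Relation.ReflTransGen sylowAdj S T →
      ∀ zS ∈ (S : Subgroup G), orderOf zS = p → (∀ r ∈ (S : Subgroup G), r * zS = zS * r) →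
      ∀ zT ∈ (T : Subgroup G), orderOf zT = p → (∀ r ∈ (T : Subgroup G), r * zT = zT * r) →
      Relation.ReflTransGen (Rel (G := G) p) (Subgroup.zpowers zS) (Subgroup.zpowers zT) := by
    intro S T hST
    induction hST with
    | refl =>
      intro zS hzS hoS hcS zT hzT hoT hcT
      refine Relation.ReflTransGen.single (rel_of (good_zpowers hoS) (good_zpowers hoT) ?_)
      refine commute_zpowers ?_
      intro b hb
      obtain ⟨k, rfl⟩ := hb
      have : Commute zS zT := (hcT zS hzS)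
      exact (this.zpow_right k).eq
    | @tail U T _ hUT ih =>
      intro zS hzS hoS hcS zT hzT hoT hcT
      have hU1 : (U : Subgroup G) ≠ ⊥ := by
        intro hb
        apply hUT.2
        rw [hb]; exact bot_inf_eq _
      obtain ⟨zU, hzU, hoU, hcU⟩ :=
        Cfsg.Agent.Lib.Helper8.exists_central_orderOf_eq p (U : Subgroup G) U.2 hU1
      have h1 := ih zS hzS hoS hcS zU hzU hoU hcU
      obtain ⟨x, hxU, hxT, hox⟩ := exists_orderOf_inf U.2 hUT.2
      have h2 : Rel p (Subgroup.zpowers zU) (Subgroup.zpowers x) := by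
        refine rel_of (good_zpowers hoU) (good_zpowers hox) ?_
        refine commute_zpowers ?_
        rintro _ ⟨k, rfl⟩
        have : Commute zU x := (hcU x hxU).symm
        exact (this.zpow_right k).eq
      have h3 : Rel p (Subgroup.zpowers x) (Subgroup.zpowers zT) := by
        refine rel_of (good_zpowers hox) (good_zpowers hoT) ?_
        refine commute_zpowers ?_
        rintro _ ⟨k, rfl⟩
        have : Commute x zT := (hcT x hxT)
        exact (this.zpow_right k).eq
      exact (h1.tail h2).tail h3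
  intro E E' hE hEc hE' hEc'
  have gE : Good p E := ⟨hE, hEc⟩
  have gE' : Good p E' := ⟨hE', hEc'⟩
  obtain ⟨S, hS⟩ := (good_isPGroup gE).exists_le_sylow
  obtain ⟨T, hT⟩ := (good_isPGroup gE').exists_le_sylow
  have hS1 : (S : Subgroup G) ≠ ⊥ := fun hb => good_ne_bot gE (le_bot_iff.1 (hb ▸ hS))
  have hT1 : (T : Subgroup G) ≠ ⊥ := fun hb => good_ne_bot gE' (le_bot_iff.1 (hb ▸ hT))
  obtain ⟨zS, hzS, hoS, hcS⟩ :=
    Cfsg.Agent.Lib.Helper8.exists_central_orderOf_eq p (S : Subgroup G) S.2 hS1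
  obtain ⟨zT, hzT, hoT, hcT⟩ :=
    Cfsg.Agent.Lib.Helper8.exists_central_orderOf_eq p (T : Subgroup G) T.2 hT1
  have h1 : Rel p E (Subgroup.zpowers zS) :=
    rel_of gE (good_zpowers hoS) (commute_zpowers' (fun b hb => (hcS b (hS hb)).symm))
  have h2 : Rel p (Subgroup.zpowers zT) E' :=
    rel_of (good_zpowers hoT) gE' (commute_zpowers (fun b hb => (hcT b (hT hb)).symm))
  exact (Relation.ReflTransGen.head h1 (key S T (h S T) zS hzS hoS hcS zT hzT hoT hcT)).tail h2

theorem step (U V : Sylow p G) (C : Subgroup G) (hC : C ≠ ⊥)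
    (hCU : C ≤ (U : Subgroup G)) (hCV : C ≤ (V : Subgroup G)) :
    Relation.ReflTransGen sylowAdj U V := by
  by_cases h : U = V
  · rw [h]
  · refine Relation.ReflTransGen.single ⟨h, ?_⟩
    intro hb
    apply hC
    exact le_bot_iff.1 (hb ▸ le_inf hCU hCV)

theorem isPGroup_sup_of_commute [Finite G] [hp : Fact p.Prime] {C B : Subgroup G}
    (hC : IsPGroup p ↥C) (hB : IsPGroup p ↥B) (h : ∀ c ∈ C, ∀ b ∈ B, c * b = b * c) :
    IsPGroup p ↥(C ⊔ B) := by
  have hn : B ≤ Subgroup.normalizer (C : Set G) := by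
    intro b hb
    rw [Subgroup.mem_normalizer_iff]
    intro c
    constructor
    · intro hc
      have : b * c * b⁻¹ = c := by rw [← h c hc b hb]; group
      rw [this]; exact hc
    · intro hc
      have h2 := h _ hc b hb
      have : c = b * c * b⁻¹ := by
        have h3 : b * c * b⁻¹ * b = b * (b * c * b⁻¹) := h2
        have h4 : b * c = b * (b * c * b⁻¹) := by
          rw [← h3]; group
        exact mul_left_cancel h4
      rw [this]; exact hc
  have hd := Cfsg.Agent.Lib.Helper8.SigFun.card_sup_dvd_of_le_normalizer hn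
  obtain ⟨i, hi⟩ := IsPGroup.iff_card.1 hC
  obtain ⟨j, hj⟩ := IsPGroup.iff_card.1 hB
  rw [hi, hj, ← pow_add] at hd
  obtain ⟨k, _, hk⟩ := (Nat.dvd_prime_pow hp.out).1 hd
  exact IsPGroup.of_card hk

/-- Connectivity of the commuting graph gives Sylow connectivity. -/
theorem backward [Finite G] [hp : Fact p.Prime] (h : Cfsg.IsKConnected p 1 G) :
    ∀ S T : Sylow p G, Relation.ReflTransGen sylowAdj S T := by
  have key : ∀ A B : Subgroup G, Relation.ReflTransGen (Rel (G := G) p) A B → Good p A →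
      ∀ S T : Sylow p G, A ≤ (S : Subgroup G) → B ≤ (T : Subgroup G) →
      Relation.ReflTransGen sylowAdj S T := by
    intro A B hAB
    induction hAB with
    | refl =>
      intro gA S T hAS hAT
      exact step S T A (good_ne_bot gA) hAS hAT
    | @tail C B _ hCB ih =>
      intro gA S T hAS hBT
      have gC : Good p C := ⟨hCB.1, hCB.2.1⟩
      have gB : Good p B := ⟨hCB.2.2.1, hCB.2.2.2.1⟩
      obtain ⟨U, hU⟩ := (good_isPGroup gC).exists_le_sylow
      have h1 := ih gA S U hAS hU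
      have hP := isPGroup_sup_of_commute (good_isPGroup gC) (good_isPGroup gB) hCB.2.2.2.2
      obtain ⟨V, hV⟩ := hP.exists_le_sylow
      have h2 := step U V C (good_ne_bot gC) hU (le_sup_left.trans hV)
      have h3 := step V T B (good_ne_bot gB) (le_sup_right.trans hV) hBT
      exact (h1.trans h2).trans h3
  intro S T
  by_cases hS1 : (S : Subgroup G) = ⊥
  · obtain ⟨g, hg⟩ := MulAction.exists_smul_eq G S T
    have : T = S := by
      apply Sylow.ext
      rw [← hg, Sylow.coe_subgroup_smul, hS1]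
      exact Subgroup.smul_bot _
    rw [this]
  · have hT1 : (T : Subgroup G) ≠ ⊥ := by
      intro hb
      apply hS1
      obtain ⟨g, hg⟩ := MulAction.exists_smul_eq G T S
      rw [← hg, Sylow.coe_subgroup_smul, hb]
      exact Subgroup.smul_bot _
    obtain ⟨x, hx, hox, _⟩ :=
      Cfsg.Agent.Lib.Helper8.exists_central_orderOf_eq p (S : Subgroup G) S.2 hS1
    obtain ⟨y, hy, hoy, _⟩ :=
      Cfsg.Agent.Lib.Helper8.exists_central_orderOf_eq p (T : Subgroup G) T.2 hT1
    have gx := good_zpowers (G := G) hox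
    have gy := good_zpowers (G := G) hoy
    have h1 := h (Subgroup.zpowers x) (Subgroup.zpowers y) gx.1 gx.2 gy.1 gy.2
    exact key _ _ h1 gx S T (by rw [Subgroup.zpowers_le]; exact hx)
      (by rw [Subgroup.zpowers_le]; exact hy)

end

/-- Let G be finite and p prime. Then G has a proper subgroup H with p ∣ |H| and p ∤ |H ∩ gHg⁻¹| for every g ∉ H (a strongly p-embedded subgroup) if and only if G is not 1-connected for p. -/
theorem result {G : Type*} [Group G] [Finite G] (p : ℕ) [Fact p.Prime] : (∃ H : Subgroup G, H ≠ ⊤ ∧ p ∣ Nat.card ↥H ∧ ∀ g : G, g ∉ H → ¬ p ∣ Nat.card ↥(H ⊓ H.map (MulAut.conj g).toMonoidHom)) ↔ ¬ Cfsg.IsKConnected p 1 G := by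
  rw [← Cfsg.Agent.Lib.Helper7.not_chainConnected_iff_classical,
    Cfsg.Agent.Lib.Helper7.chainConnected_iff]
  exact not_congr ⟨forward, backward⟩

end Cfsg.Agent.S1336
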