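import Cfsg.Statements.S1339
import Mathlib
import Cfsg.Agent.Lib.Helper8.TransvCent

set_option autoImplicit false
open Cfsg

namespace Cfsg.Agent.S1339

/-- Let F be a field with 2 elements, n ≥ 3, and t ∈ SL(n, F) a transvection (t = 1 + E_{ij}, i ≠ j). Then the generalized Fitting subgroup of C(t) is O_2(C(t)). -/
theorem result {F : Type*} [Field F] [Fintype F] [DecidableEq F] (hF : Fintype.card F = 2) (n : ℕ) (hn : 3 ≤ n) (i j : Fin n) (hij : i ≠ j) (t : Matrix.SpecialLinearGroup (Fin n) F) (ht : (t : Matrix (Fin n) (Fin n) F) = Matrix.transvection i j 1) : Cfsg.generalizedFittingSubgroup ↥(Subgroup.centralizer ({t} : Set (Matrix.SpecialLinearGroup (Fin n) F))) = Cfsg.pCore 2 ↥(Subgroup.centralizer ({t} : Set (Matrix.SpecialLinearGroup (Fin n) F))) := by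
  classical
  haveI : Fact (Nat.Prime 2) := ⟨Nat.prime_two⟩
  rw [Cfsg.Agent.Lib.Helper8.gfs_eq_pCore_iff 2]
  have hle := Cfsg.Agent.Lib.Helper8.TransvCent.R0_le_centralizer hF hij ht
  have hnorm := Cfsg.Agent.Lib.Helper8.TransvCent.centralizer_le_normalizer_R0 ht
  haveI hRn : ((Cfsg.Agent.Lib.Helper8.TransvCent.R0 F i).subgroupOf
      (Subgroup.centralizer ({t} : Set (Matrix.SpecialLinearGroup (Fin n) F)))).Normal :=
    (Subgroup.normal_subgroupOf_iff_le_normalizer hle).2 hnorm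
  have hRp : IsPGroup 2 ↥((Cfsg.Agent.Lib.Helper8.TransvCent.R0 F i).subgroupOf
      (Subgroup.centralizer ({t} : Set (Matrix.SpecialLinearGroup (Fin n) F)))) := by
    intro g
    refine ⟨1, ?_⟩
    have hg : ((g : ↥(Subgroup.centralizer ({t} : Set (Matrix.SpecialLinearGroup (Fin n) F))))
        : Matrix.SpecialLinearGroup (Fin n) F) ∈ Cfsg.Agent.Lib.Helper8.TransvCent.R0 F i :=
      Subgroup.mem_subgroupOf.1 g.2
    have h1 := Cfsg.Agent.Lib.Helper8.TransvCent.mul_self_eq_one hF hg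
    apply Subtype.ext
    apply Subtype.ext
    rw [pow_one, pow_two]
    exact h1
  have hRle := Cfsg.Agent.Lib.Helper2.le_pCore hRp
  intro c hc
  apply hRle
  refine Subgroup.mem_subgroupOf.2 ?_
  refine Cfsg.Agent.Lib.Helper8.TransvCent.centralizer_R0_le hF ht c.2 ?_
  intro g hg
  have hgC : (⟨g, hle hg⟩ : ↥(Subgroup.centralizer
      ({t} : Set (Matrix.SpecialLinearGroup (Fin n) F)))) ∈ Cfsg.pCore 2 _ :=
    hRle (Subgroup.mem_subgroupOf.2 hg)
  have h2 := (Subgroup.mem_centralizer_iff.1 hc) _ hgC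
  exact congrArg Subtype.val h2

end Cfsg.Agent.S1339
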