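import Cfsg.Statements.S1340
import Mathlib
import Cfsg.Agent.Lib.Helper8.GLInv

set_option autoImplicit false
open Cfsg

namespace Cfsg.Agent.S1340

theorem two_ne_zero_of_odd {F : Type*} [Field F] [Fintype F] (hF : Odd (Fintype.card F)) :
    (2 : F) ≠ 0 := by
  intro h
  have h1 : ringChar F = 2 := CharP.ringChar_of_prime_eq_zero Nat.prime_two (by exact_mod_cast h)
  have h2 := FiniteField.even_card_of_char_two h1
  rcases hF with ⟨k, hk⟩
  omega

theorem exists_sq_ne_one {F : Type*} [Field F] [Fintype F] [DecidableEq F]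
    (hF : 4 ≤ Fintype.card F) : ∃ a : F, a ≠ 0 ∧ a ^ 2 ≠ 1 := by
  by_contra hcon
  push_neg at hcon
  have hsub : (Finset.univ : Finset F) ⊆ {0, 1, -1} := by
    intro a _
    by_cases ha : a = 0
    · simp [ha]
    · have h1 := hcon a ha
      have h2 : (a - 1) * (a + 1) = 0 := by ring_nf; rw [h1]; ring
      rcases mul_eq_zero.1 h2 with h3 | h3
      · have : a = 1 := sub_eq_zero.1 h3
        simp [this]
      · have : a = -1 := eq_neg_of_add_eq_zero_left h3
        simp [this]
  have h3 : Fintype.card F ≤ 3 := by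
    calc Fintype.card F = (Finset.univ : Finset F).card := rfl
      _ ≤ ({0, 1, -1} : Finset F).card := Finset.card_le_card hsub
      _ ≤ 3 := Finset.card_le_three
  omega

theorem sl_quasisimple {F : Type*} [Field F] [Fintype F] [DecidableEq F] (m : ℕ)
    (h : 3 ≤ m ∨ (m = 2 ∧ 4 ≤ Fintype.card F)) :
    IsQuasisimple (Matrix.SpecialLinearGroup (Fin m) F) := by
  rcases h with h | ⟨rfl, h⟩
  · refine ⟨⟨Cfsg.Agent.Lib.Helper4.SL_commutator_eq_top (by simpa using h)⟩, ?_⟩
    exact Cfsg.Agent.S0249.psl_simple (by simpa using h)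
  · obtain ⟨a, ha, hasq⟩ := exists_sq_ne_one h
    refine ⟨⟨Matrix.SL2.commutator_eq_top ha hasq⟩, ?_⟩
    exact Matrix.ProjectiveSpecialLinearGroup.rank_two_simple
      (by rw [Nat.card_eq_fintype_card]; exact h)

/-- Let F be a finite field of odd order and n ≥ 3 with (n, |F|) ≠ (3, 3). Then GL(n, F) has a non-central involution t such that C(t) / O(C(t)) has a component. -/
theorem result {F : Type*} [Field F] [Fintype F] [DecidableEq F] (hF : Odd (Fintype.card F)) (n : ℕ) (hn : 3 ≤ n) (h33 : ¬ (n = 3 ∧ Fintype.card F = 3)) : ∃ t : Matrix.GeneralLinearGroup (Fin n) F, orderOf t = 2 ∧ t ∉ Subgroup.center (Matrix.GeneralLinearGroup (Fin n) F) ∧ Cfsg.HasComponent (↥(Subgroup.centralizer ({t} : Set (Matrix.GeneralLinearGroup (Fin n) F))) ⧸ Cfsg.oddCore ↥(Subgroup.centralizer ({t} : Set (Matrix.GeneralLinearGroup (Fin n) F)))) := by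
  obtain ⟨m, rfl⟩ : ∃ m, n = m + 1 := ⟨n - 1, by omega⟩
  have h2 : (2 : F) ≠ 0 := two_ne_zero_of_odd hF
  have hm : 2 ≤ m := by omega
  have hQ : IsQuasisimple (Matrix.SpecialLinearGroup (Fin m) F) := by
    apply sl_quasisimple
    by_cases h3 : 3 ≤ m
    · exact Or.inl h3
    · right
      have hm2 : m = 2 := by omega
      refine ⟨hm2, ?_⟩
      have hc : Fintype.card F ≠ 3 := fun h => h33 ⟨by omega, h⟩
      have h1 : 1 < Fintype.card F := Fintype.one_lt_card
      rcases hF with ⟨k, hk⟩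
      omega
  exact ⟨Cfsg.Agent.Lib.Helper8.GLInv.tInv F m, Cfsg.Agent.Lib.Helper8.GLInv.orderOf_tInv h2,
    Cfsg.Agent.Lib.Helper8.GLInv.tInv_not_mem_center h2 (by omega),
    Cfsg.Agent.Lib.Helper8.GLInv.hasComponent h2 hm hQ⟩

end Cfsg.Agent.S1340
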