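import Cfsg.Statements.S1349
import Mathlib
import Cfsg.Agent.Lib.Helper8.ThompsonDihedral2
import Cfsg.Agent.Lib.Helper8.ThompsonDihedral3
import Cfsg.Agent.Lib.Helper1.DihedralRecognition
import Cfsg.Agent.Lib.Helper1.GlaubermanRepl3

set_option autoImplicit false
open Cfsg

namespace Cfsg.Agent.S1349

open Cfsg.Agent.Lib.Helper8.ThompsonDihedral in
theorem assemble {G : Type*} [Group G] [Finite G] (L A M : Subgroup G) (d : ℕ)
    (hAc : ∀ a ∈ A, ∀ b ∈ A, a * b = b * a) (hA2 : ∀ a ∈ A, a * a = 1)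
    (hML : M ≤ L) (hMc : ∀ x ∈ M, ∀ y ∈ M, x * y = y * x) (hModd : Odd (Nat.card M))
    (a x : Fin d → G)
    (hax : ∀ i, a i ∈ A ∧ x i ∈ M ∧ x i ≠ 1 ∧ a i * x i * (a i)⁻¹ = (x i)⁻¹)
    (haxj : ∀ i j, i ≠ j → a j * x i * (a j)⁻¹ = x i)
    (hcl : Subgroup.closure (Set.range a) = A) :
    ∃ (Ai : Fin d → Subgroup G) (Li : Fin d → Subgroup G) (n : Fin d → ℕ), (∀ i, Ai i ≤ A ∧ Nat.card ↥(Ai i) = 2 ∧ Li i ≤ L ∧ Odd (n i) ∧ 3 ≤ n i ∧ Nonempty (↥(Ai i ⊔ Li i) ≃* DihedralGroup (n i))) ∧ (⨆ i, Ai i) = A ∧ ∀ i j, i ≠ j → ∀ x ∈ Ai i ⊔ Li i, ∀ y ∈ Ai j ⊔ Li j, x * y = y * x := by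
  classical
  have ha1 : ∀ i, a i ≠ 1 := by
    intro i h
    have h1 := (hax i).2.2.2
    rw [h, one_mul, inv_one, mul_one] at h1
    apply (hax i).2.2.1
    apply eq_one_of_mul_self_of_odd M hModd (hax i).2.1
    nth_rewrite 1 [h1]
    exact inv_mul_cancel _
  have hxodd : ∀ i, Odd (orderOf (x i)) := fun i =>
    hModd.of_dvd_nat (Subgroup.orderOf_dvd_natCard M (hax i).2.1)
  have hx3 : ∀ i, 3 ≤ orderOf (x i) := by
    intro i
    obtain ⟨k, hk⟩ := hxodd i
    have : orderOf (x i) ≠ 1 := fun h => (hax i).2.2.1 (orderOf_eq_one_iff.mp h)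
    omega
  have haord : ∀ i, orderOf (a i) = 2 := by
    intro i
    haveI : Fact (Nat.Prime 2) := ⟨Nat.prime_two⟩
    exact orderOf_eq_prime (by rw [pow_two]; exact hA2 _ (hax i).1) (ha1 i)
  have haM : ∀ i, a i ∉ M := by
    intro i h
    exact ha1 i (eq_one_of_mul_self_of_odd M hModd h (hA2 _ (hax i).1))
  refine ⟨fun i => Subgroup.zpowers (a i), fun i => Subgroup.zpowers (x i),
    fun i => orderOf (x i), ?_, ?_, ?_⟩
  · intro i
    refine ⟨Subgroup.zpowers_le.mpr (hax i).1, ?_, Subgroup.zpowers_le.mpr (hML (hax i).2.1),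
      hxodd i, hx3 i, ?_⟩
    · rw [Nat.card_zpowers, haord i]
    · haveI : NeZero (orderOf (x i)) := ⟨by have := hx3 i; omega⟩
      have hxmem : x i ∈ Subgroup.zpowers (a i) ⊔ Subgroup.zpowers (x i) :=
        (le_sup_right : Subgroup.zpowers (x i) ≤ _) (Subgroup.mem_zpowers _)
      have hamem : a i ∈ Subgroup.zpowers (a i) ⊔ Subgroup.zpowers (x i) :=
        (le_sup_left : Subgroup.zpowers (a i) ≤ _) (Subgroup.mem_zpowers _)
      have hnorm : Subgroup.zpowers (a i) ≤
          Subgroup.normalizer ((Subgroup.zpowers (x i) : Subgroup G) : Set G) := by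
        rw [Subgroup.zpowers_le]
        apply Cfsg.Agent.Lib.Helper8.Mazurov.mem_normalizer_of_conj_mem
        intro u hu
        obtain ⟨k, rfl⟩ := Subgroup.mem_zpowers_iff.mp hu
        rw [← conj_zpow, (hax i).2.2.2]
        exact Subgroup.zpow_mem _ (Subgroup.inv_mem _ (Subgroup.mem_zpowers _)) k
      have hinf : Subgroup.zpowers (a i) ⊓ Subgroup.zpowers (x i) = ⊥ := by
        rw [eq_bot_iff]
        intro u hu
        obtain ⟨hu1, hu2⟩ := Subgroup.mem_inf.mp hu
        have huA : u ∈ A := Subgroup.zpowers_le.mpr (hax i).1 hu1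
        have huM : u ∈ M := Subgroup.zpowers_le.mpr (hax i).2.1 hu2
        rw [Subgroup.mem_bot]
        exact eq_one_of_mul_self_of_odd M hModd huM (hA2 u huA)
      have hcard : Nat.card ↥(Subgroup.zpowers (a i) ⊔ Subgroup.zpowers (x i)) =
          2 * orderOf (x i) := by
        have := Cfsg.Agent.Lib.Helper1.GlaubermanRepl.card_sup_mul_card_inf_of_le_normalizer
          (Subgroup.zpowers (a i)) (Subgroup.zpowers (x i)) hnorm
        rw [hinf, Subgroup.card_bot, mul_one, Nat.card_zpowers, Nat.card_zpowers, haord i] at this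
        exact this
      apply Cfsg.Agent.Lib.Helper1.nonempty_mulEquiv_dihedralGroup (orderOf (x i))
        (⟨x i, hxmem⟩ : ↥(Subgroup.zpowers (a i) ⊔ Subgroup.zpowers (x i))) ⟨a i, hamem⟩
      · exact (Subgroup.orderOf_mk (x i) hxmem)
      · intro h
        obtain ⟨k, hk⟩ := Subgroup.mem_zpowers_iff.mp h
        have h2 := congrArg Subtype.val hk
        simp only [Subgroup.coe_zpow] at h2
        apply haM i
        rw [← h2]
        exact M.zpow_mem (hax i).2.1 k
      · exact Subtype.ext (hA2 _ (hax i).1)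
      · exact Subtype.ext (hax i).2.2.2
      · exact hcard
  · apply le_antisymm
    · exact iSup_le fun i => Subgroup.zpowers_le.mpr (hax i).1
    · rw [← hcl, Subgroup.closure_le]
      rintro _ ⟨i, rfl⟩
      exact (le_iSup (fun i => Subgroup.zpowers (a i)) i) (Subgroup.mem_zpowers _)
  · intro i j hij u hu v hv
    have hgen : ∀ g : G, a i * g = g * a i → x i * g = g * x i →
        g ∈ Subgroup.centralizer
          ((Subgroup.zpowers (a i) ⊔ Subgroup.zpowers (x i) : Subgroup G) : Set G) := by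
      intro g h1 h2
      have hle : Subgroup.zpowers (a i) ⊔ Subgroup.zpowers (x i) ≤ Subgroup.centralizer {g} := by
        apply sup_le
        · rw [Subgroup.zpowers_le, Subgroup.mem_centralizer_singleton_iff]; exact h1
        · rw [Subgroup.zpowers_le, Subgroup.mem_centralizer_singleton_iff]; exact h2
      rw [Subgroup.mem_centralizer_iff]
      intro h hh
      exact Subgroup.mem_centralizer_singleton_iff.mp (hle hh)
    have hle : Subgroup.zpowers (a j) ⊔ Subgroup.zpowers (x j) ≤ Subgroup.centralizer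
        ((Subgroup.zpowers (a i) ⊔ Subgroup.zpowers (x i) : Subgroup G) : Set G) := by
      apply sup_le
      · rw [Subgroup.zpowers_le]
        apply hgen
        · exact hAc _ (hax i).1 _ (hax j).1
        · exact (mul_inv_eq_iff_eq_mul.mp (haxj i j hij)).symm
      · rw [Subgroup.zpowers_le]
        apply hgen
        · exact mul_inv_eq_iff_eq_mul.mp (haxj j i (Ne.symm hij))
        · exact hMc _ (hax i).2.1 _ (hax j).2.1
    exact Subgroup.mem_centralizer_iff.mp (hle hv) u hu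

/-- Let G be finite, L ≤ G solvable of odd order, and A an elementary abelian 2-subgroup of order 2^d (d ≥ 1) normalizing L with C_A(L) = 1. Then there are subgroups A_1, …, A_d of A of order 2 generating A and subgroups L_1, …, L_d of L such that each A_i ⊔ L_i is dihedral of order 2 n_i with n_i odd and at least 3, and A_i ⊔ L_i commutes elementwise with A_j ⊔ L_j for i ≠ j. -/
theorem result {G : Type*} [Group G] [Finite G] (L A : Subgroup G) (hLs : Group.IsSolvable ↥L) (hLodd : Odd (Nat.card ↥L)) (hA : Cfsg.IsElementaryAbelian 2 A) (d : ℕ) (hd : 1 ≤ d) (hAd : Nat.card ↥A = 2 ^ d) (hAL : A ≤ Subgroup.normalizer (L : Set G)) (hfaith : A ⊓ Subgroup.centralizer (L : Set G) = ⊥) : ∃ (Ai : Fin d → Subgroup G) (Li : Fin d → Subgroup G) (n : Fin d → ℕ), (∀ i, Ai i ≤ A ∧ Nat.card ↥(Ai i) = 2 ∧ Li i ≤ L ∧ Odd (n i) ∧ 3 ≤ n i ∧ Nonempty (↥(Ai i ⊔ Li i) ≃* DihedralGroup (n i))) ∧ (⨆ i, Ai i) = A ∧ ∀ i j, i ≠ j → ∀ x ∈ Ai i ⊔ Li i, ∀ y ∈ Ai j ⊔ Li j, x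 * y = y * x := by
  classical
  obtain ⟨hAcomm, hA2'⟩ := hA
  have hAc : ∀ a ∈ A, ∀ b ∈ A, a * b = b * a := by
    intro a ha b hb
    have := mul_comm' (⟨a, ha⟩ : ↥A) ⟨b, hb⟩
    exact congrArg Subtype.val this
  have hA2 : ∀ a ∈ A, a * a = 1 := fun a ha => by rw [← pow_two]; exact hA2' a ha
  obtain ⟨M, hML, hMc, hAM, hMf⟩ :=
    Cfsg.Agent.Lib.Helper8.ThompsonDihedral.exists_abelian_faithful A hAc hA2 (Nat.card L) L
      le_rfl hLs hLodd hAL hfaith
  have hModd : Odd (Nat.card M) := hLodd.of_dvd_nat (Subgroup.card_dvd_of_le hML)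
  obtain ⟨a, x, hax, haxj, hcl⟩ :=
    Cfsg.Agent.Lib.Helper8.ThompsonDihedral.abelian_case M hMc hModd d A hAc hA2 hAd hAM hMf
  exact assemble L A M d hAc hA2 hML hMc hModd a x hax haxj hcl

end Cfsg.Agent.S1349
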