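import Mathlib
import Cfsg.Statements.S1367
import Cfsg.Agent.Lib.Lead.BGN9
import Cfsg.Agent.S1430
import Cfsg.Agent.S1431

set_option autoImplicit false

open Cfsg

namespace Cfsg.Agent.S1367

theorem result {G : Type*} [Group G] [Finite G] (hG : Cfsg.IsMinSimpleOddOrder G)
    (M : Subgroup G) (hM : IsCoatom M) (K U : Subgroup G) (hKU : Cfsg.IsSigmaDecomposition M K U) (hK1 : K ≠ ⊥) (Mstar : Subgroup G) (hMstar : IsCoatom Mstar)
    (hKst : K = Cfsg.sigmaCore Mstar ⊓ Subgroup.centralizer ((Cfsg.sigmaCore M ⊓ Subgroup.centralizer (K : Set G)) : Set G))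
    (hKstH : Cfsg.IsPiHallOf (Cfsg.kappa Mstar) (Cfsg.sigmaCore M ⊓ Subgroup.centralizer (K : Set G)) Mstar) :
    (∀ X : Subgroup G, X ≤ (Cfsg.sigmaCore M ⊓ Subgroup.centralizer (K : Set G)) → (Nat.card X).Prime →
        Subgroup.centralizer (X : Set G) ≤ M ∧ ∀ L : Subgroup G, IsCoatom L → Subgroup.centralizer (X : Set G) ≤ L → L = M) ∧
      (∀ Y : Subgroup G, Y ≤ K → (Nat.card Y).Prime →
        Subgroup.centralizer (Y : Set G) ≤ Mstar ∧ ∀ L : Subgroup G, IsCoatom L → Subgroup.centralizer (Y : Set G) ≤ L → L = Mstar) := by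
  exact Cfsg.Agent.Lib.Lead.BGN.s1367_of
    (fun hG M hM K hK hK1 => Cfsg.Agent.S1430.result hG M hM K hK hK1)
    (fun hG M hM K hK hK1 => Cfsg.Agent.S1431.result hG M hM K hK hK1)
    hG M hM K U hKU hK1 Mstar hMstar hKst hKstH

end Cfsg.Agent.S1367
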