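import Cfsg.Statements.S1378
import Cfsg.Agent.Lib.Helper3.BG15g

set_option autoImplicit false
open Cfsg

namespace Cfsg.Agent.S1378

/-- Let G be a minimal simple group of odd order. Then every prime dividing the order of G belongs to σ(M) for some maximal subgroup M, and if σ(M) and σ(N) have a prime in common for maximal subgroups M, N then N is conjugate to M; so the sets σ(M_i) over representatives of the conjugacy classes of maximal subgroups partition the prime divisors of #G. -/
theorem result {G : Type*} [Group G] [Finite G] (hG : Cfsg.IsMinSimpleOddOrder G) :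
    (∀ p : ℕ, p.Prime → p ∣ Nat.card G → ∃ M : Subgroup G, IsCoatom M ∧ p ∈ Cfsg.sigma M) ∧
      ∀ M N : Subgroup G, IsCoatom M → IsCoatom N → (Cfsg.sigma M ∩ Cfsg.sigma N).Nonempty → ∃ g : G, N = M.map (MulAut.conj g).toMonoidHom := by
  open Cfsg.Agent.Lib.Helper1 Cfsg.Agent.Lib.Helper7 in
  constructor
  · intro p hp hpG
    haveI : Fact p.Prime := ⟨hp⟩
    obtain ⟨P⟩ : Nonempty (Sylow p G) := inferInstance
    have hP1 : (P : Subgroup G) ≠ ⊥ := P.ne_bot_of_dvd_card hpG
    have hPtop : (P : Subgroup G) ≠ ⊤ := BG7.pgroup_ne_top hG P.2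
    have hNtop := BG7.normalizer_ne_top hG hP1 hPtop
    obtain ⟨M, hM, hNM⟩ := (eq_top_or_exists_le_coatom
      (Subgroup.normalizer ((P : Subgroup G) : Set G))).resolve_left hNtop
    have hPM : (P : Subgroup G) ≤ M := Subgroup.le_normalizer.trans hNM
    refine ⟨M, hM, BGK.mem_sigma_iff.mpr ⟨hp, ?_, (P : Subgroup G), ⟨hPM, P.2, ?_⟩, hNM⟩⟩
    · obtain ⟨n, hn⟩ := IsPGroup.iff_card.mp P.2
      have hn0 : n ≠ 0 := by
        rintro rfl
        rw [pow_zero] at hn
        exact hP1 (Subgroup.card_eq_one.mp hn)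
      have h1 : p ∣ Nat.card (P : Subgroup G) := by rw [hn]; exact dvd_pow_self p hn0
      exact h1.trans (Subgroup.card_dvd_of_le hPM)
    · intro T hT hPT _
      exact P.3 hT hPT
  · intro M N hM hN ⟨q, hqM, hqN⟩
    by_contra hcon
    push Not at hcon
    exact Cfsg.Agent.Lib.Helper3.BG15.sigma_partition hG hM hN (fun g h => hcon g h) hqM hqN

end Cfsg.Agent.S1378
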