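import Cfsg.Statements.S1383
import Cfsg.Agent.Lib.Helper3.BG17f
import Cfsg.Agent.Lib.Helper1.BGG22
import Cfsg.Agent.S1354
import Cfsg.Agent.S1355
import Cfsg.Agent.S1356
import Cfsg.Agent.S1357
import Cfsg.Agent.S1360
import Cfsg.Agent.S1364
import Cfsg.Agent.S1365
import Cfsg.Agent.S1366
import Cfsg.Agent.S1368
import Cfsg.Agent.S1370
import Cfsg.Agent.S1430
import Cfsg.Agent.S1431
import Cfsg.Agent.S1439

set_option autoImplicit false
open Cfsg

namespace Cfsg.Agent.S1383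

/-- Let G be a minimal simple group of odd order and M a maximal subgroup with standard factorisation M = K U M_σ. Then M is of Type V if and only if K ≠ 1, U = 1 and M_F = M_σ. -/
theorem result {G : Type*} [Group G] [Finite G] (hG : Cfsg.IsMinSimpleOddOrder G)
    (M : Subgroup G) (hM : IsCoatom M) (K U : Subgroup G) (hKU : Cfsg.IsSigmaDecomposition M K U) :
    Cfsg.IsOfTypeV M ↔ (K ≠ ⊥ ∧ U = ⊥ ∧ Cfsg.fittingHallOf M = Cfsg.sigmaCore M) := by
  exact Cfsg.Agent.Lib.Helper3.BG17.s1383_of (@Cfsg.Agent.S1354.result G _ _) (@Cfsg.Agent.S1355.result G _ _) (@Cfsg.Agent.S1356.result G _ _) (@Cfsg.Agent.S1364.result G _ _) (@Cfsg.Agent.S1365.result G _ _) (@Cfsg.Agent.S1366.result G _ _) (@Cfsg.Agent.S1368.result G _ _) (@Cfsg.Agent.S1370.result G _ _)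
    (Cfsg.Agent.Lib.Helper1.BGG.tri1440_of (@Cfsg.Agent.S1357.result G _ _) (@Cfsg.Agent.S1360.result G _ _) (@Cfsg.Agent.S1365.result G _ _) (@Cfsg.Agent.S1430.result G _ _) (@Cfsg.Agent.S1431.result G _ _) (@Cfsg.Agent.S1439.result G _ _))
    hG M hM K U hKU

end Cfsg.Agent.S1383
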