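import Mathlib
import Cfsg.Statements.S1386
import Cfsg.Agent.Lib.Lead.ComplIn

set_option autoImplicit false
open Cfsg

namespace Cfsg.Agent.S1386

open Cfsg.Agent.Lib.Lead.ComplIn

/-- Let G be a finite group, W₁, W₂ subgroups forming a self-normalizing cyclic pair, S a subgroup with W₂ ≤ S and W₁ a complement to S' in S, and (W₁, U, W₂') type-P data for S. Then W₂' = W₂ (that is, C_{S'}(W₁) = W₂). -/
theorem result {G : Type*} [Group G] [Finite G] (W₁ W₂ S U W₂' : Subgroup G) (hW : Cfsg.IsSelfNormalizingCyclic W₁ W₂)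
    (hSW : Cfsg.IsComplIn ⁅S, S⁆ W₁ S) (hW₂S : W₂ ≤ S) (hP : Cfsg.IsTypePWith S W₁ U W₂') :
    W₂' = W₂ := by
  obtain ⟨hW1ne, hW2ne, hW12, hcomm, hcyc, hnorm⟩ := hW
  obtain ⟨hS'S, hW1S, hS'W1, hSdec⟩ := hSW
  -- coprimality
  have hrel : W₁.relIndex S = Nat.card ↥⁅S, S⁆ := relIndex_right ⟨hS'S, hW1S, hS'W1, hSdec⟩
  have hcop : (Nat.card W₁).Coprime (Nat.card ↥⁅S, S⁆) := hrel ▸ hP.W₁_hall
  -- nonidentity elements
  obtain ⟨x, hx1⟩ := (Subgroup.ne_bot_iff_exists_ne_one).mp hW1ne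
  obtain ⟨y, hy1⟩ := (Subgroup.ne_bot_iff_exists_ne_one).mp hW2ne
  have hxW : (x : G) ∈ W₁ := x.2
  have hx1' : (x : G) ≠ 1 := fun h => hx1 (Subtype.ext h)
  have hyW : (y : G) ∈ W₂ := y.2
  have hy1' : (y : G) ≠ 1 := fun h => hy1 (Subtype.ext h)
  -- Step 1: W₂ ≤ S'
  have h1 : W₂ ≤ ⁅S, S⁆ := by
    intro b hb
    obtain ⟨s, hs, a, ha, hbsa⟩ := hSdec b (hW₂S hb)
    have hab : a * b = b * a := hcomm a ha b hb
    have hsa : Commute s a := by
      have : s = b * a⁻¹ := by rw [hbsa]; group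
      rw [this]
      show b * a⁻¹ * a = a * (b * a⁻¹)
      rw [← mul_assoc, hab]; group
    have hos : orderOf s ∣ Nat.card ↥⁅S, S⁆ := by
      have := orderOf_dvd_natCard (⟨s, hs⟩ : ↥⁅S, S⁆)
      rwa [← Subgroup.orderOf_coe] at this
    have hoa : orderOf a ∣ Nat.card W₁ := by
      have := orderOf_dvd_natCard (⟨a, ha⟩ : ↥W₁)
      rwa [← Subgroup.orderOf_coe] at this
    have hco : (orderOf s).Coprime (orderOf a) :=
      Nat.Coprime.coprime_dvd_left hos (Nat.Coprime.coprime_dvd_right hoa hcop.symm)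
    have hmem : a ∈ Subgroup.zpowers (s * a) := mem_zpowers_mul_of_coprime hsa hco
    rw [← hbsa] at hmem
    have haW2 : a ∈ W₂ := (Subgroup.zpowers_le.mpr hb) hmem
    have ha1 : a = 1 := by
      have : a ∈ W₁ ⊓ W₂ := ⟨ha, haW2⟩
      rwa [hW12, Subgroup.mem_bot] at this
    rw [hbsa, ha1, mul_one]; exact hs
  -- Step 2: W₂ ≤ W₂'
  have hcent := hP.W₂_centralizer x hxW hx1'
  have h2 : W₂ ≤ W₂' := by
    rw [← hcent]
    intro b hb
    refine ⟨h1 hb, ?_⟩
    show b ∈ Subgroup.centralizer ({(x : G)} : Set G)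
    rw [Subgroup.mem_centralizer_iff]
    intro z hz
    rw [Set.mem_singleton_iff] at hz
    rw [hz]
    exact hcomm x hxW b hb
  -- Step 3: W₂' ≤ W₂
  have h3 : W₂' ≤ W₂ := by
    intro c hc
    have hcS' : c ∈ ⁅S, S⁆ := by
      have : c ∈ ⁅S, S⁆ ⊓ Subgroup.centralizer ({(x : G)} : Set G) := by rw [hcent]; exact hc
      exact this.1
    have hcx : c * x = x * c := by
      have : c ∈ ⁅S, S⁆ ⊓ Subgroup.centralizer ({(x : G)} : Set G) := by rw [hcent]; exact hc
      have h : c ∈ Subgroup.centralizer ({(x : G)} : Set G) := this.2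
      rw [Subgroup.mem_centralizer_iff] at h
      exact (h x rfl).symm
    -- W₂' is commutative
    obtain ⟨-, -, -, hcomm', hcyc', -⟩ := hP.selfNormalizing
    have hcy : c * y = y * c := by
      have hyW2' : (y : G) ∈ W₂' := h2 hyW
      haveI := hcyc'
      have hcW : c ∈ W₁ ⊔ W₂' := (le_sup_right : W₂' ≤ W₁ ⊔ W₂') hc
      have hyWW : (y : G) ∈ W₁ ⊔ W₂' := (le_sup_right : W₂' ≤ W₁ ⊔ W₂') hyW2'
      letI := IsCyclic.commGroup (α := ↥(W₁ ⊔ W₂'))
      have := mul_comm (⟨c, hcW⟩ : ↥(W₁ ⊔ W₂')) ⟨y, hyWW⟩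
      exact congrArg Subtype.val this
    -- c normalizes {x*y}
    have hxyX : ({(x : G) * y} : Set G) ⊆ (↑(W₁ ⊔ W₂) : Set G) \ (↑W₁ ∪ ↑W₂) := by
      intro z hz
      rw [Set.mem_singleton_iff] at hz
      subst hz
      refine ⟨Subgroup.mul_mem _ ((le_sup_left : W₁ ≤ W₁ ⊔ W₂) hxW)
        ((le_sup_right : W₂ ≤ W₁ ⊔ W₂) hyW), ?_⟩
      rintro (h | h)
      · have : (y : G) ∈ W₁ := by
          have := W₁.mul_mem (W₁.inv_mem hxW) h
          simpa using this
        have : (y : G) ∈ W₁ ⊓ W₂ := ⟨this, hyW⟩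
        rw [hW12, Subgroup.mem_bot] at this
        exact hy1' this
      · have : (x : G) ∈ W₂ := by
          have := W₂.mul_mem h (W₂.inv_mem hyW)
          simpa using this
        have : (x : G) ∈ W₁ ⊓ W₂ := ⟨hxW, this⟩
        rw [hW12, Subgroup.mem_bot] at this
        exact hx1' this
    have hN := hnorm _ hxyX (Set.singleton_nonempty _)
    have hcN : c ∈ Subgroup.normalizer ({(x : G) * y} : Set G) := by
      rw [Subgroup.mem_set_normalizer_iff]
      intro z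
      simp only [Set.mem_singleton_iff]
      have hcxy : c * (x * y) * c⁻¹ = x * y := by
        rw [← mul_assoc, hcx, mul_assoc (x : G), hcy, ← mul_assoc, mul_inv_cancel_right]
      constructor
      · intro hz; rw [hz, hcxy]
      · intro hz
        have hcxy' : c⁻¹ * (x * y) * c = x * y := by
          nth_rewrite 1 [← hcxy]; group
        have : z = c⁻¹ * (x * y) * c := by rw [← hz]; group
        rw [this, hcxy']
    rw [hN] at hcN
    obtain ⟨a, ha, b, hb, hcab⟩ := mem_sup_of_commute hcomm hcN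
    have ha1 : a = 1 := by
      have haS' : a ∈ ⁅S, S⁆ := by
        have : a = c * b⁻¹ := by rw [hcab]; group
        rw [this]
        exact Subgroup.mul_mem _ hcS' (Subgroup.inv_mem _ (h1 hb))
      have : a ∈ ⁅S, S⁆ ⊓ W₁ := ⟨haS', ha⟩
      rwa [hS'W1, Subgroup.mem_bot] at this
    rw [hcab, ha1, one_mul]; exact hb
  exact le_antisymm h3 h2

end Cfsg.Agent.S1386
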