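import Mathlib
import Cfsg.Statements.S1388
import Cfsg.Agent.Lib.Lead.ComplIn
import Cfsg.Agent.Lib.Lead.FittingHall

set_option autoImplicit false
open Cfsg

namespace Cfsg.Agent.S1388

open Cfsg.Agent.Lib.Lead.ComplIn Cfsg.Agent.Lib.Lead.FittingHall

/-- Orders in type-P data: `|U|` is coprime to `|H|` and to `|W₁|`. -/
theorem coprime_facts {G : Type*} [Group G] [Finite G] (M W₁ U W₂ : Subgroup G)
    (hP : Cfsg.IsTypePWith M W₁ U W₂) :
    (Nat.card (Cfsg.fittingHallOf M)).Coprime (Nat.card U) ∧ (Nat.card W₁).Coprime (Nat.card U) ∧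
      U.relIndex M = Nat.card (Cfsg.fittingHallOf M) * Nat.card W₁ := by
  have c1 := card_eq hP.U_compl
  have c2 := card_eq hP.W₁_compl
  have hH := fittingHallOf_coprime M
  have hrel : Nat.card (Cfsg.fittingHallOf M) * (Cfsg.fittingHallOf M).relIndex M = Nat.card M := by
    rw [← Subgroup.relIndex_bot_left, ← Subgroup.relIndex_bot_left]
    exact Subgroup.relIndex_mul_relIndex _ _ _ bot_le (fittingHallOf_le M)
  have hHpos : 0 < Nat.card (Cfsg.fittingHallOf M) := Nat.card_pos
  have hrelH : (Cfsg.fittingHallOf M).relIndex M = Nat.card U * Nat.card W₁ := by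
    rw [c2, c1, mul_assoc] at hrel
    exact Nat.eq_of_mul_eq_mul_left hHpos hrel
  have h1 : (Nat.card (Cfsg.fittingHallOf M)).Coprime (Nat.card U) := by
    rw [hrelH] at hH
    exact Nat.Coprime.coprime_mul_right_right hH
  have hW := hP.W₁_hall
  rw [relIndex_right hP.W₁_compl, c1] at hW
  have h2 : (Nat.card W₁).Coprime (Nat.card U) := Nat.Coprime.coprime_mul_left_right hW
  refine ⟨h1, h2, ?_⟩
  have hUM : U ≤ M := hP.U_compl.2.1.trans hP.W₁_compl.1
  have hrelU : Nat.card U * U.relIndex M = Nat.card M := by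
    rw [← Subgroup.relIndex_bot_left, ← Subgroup.relIndex_bot_left]
    exact Subgroup.relIndex_mul_relIndex _ _ _ bot_le hUM
  have hUpos : 0 < Nat.card U := Nat.card_pos
  rw [c2, c1] at hrelU
  have : Nat.card U * U.relIndex M = Nat.card U * (Nat.card (Cfsg.fittingHallOf M) * Nat.card W₁) := by
    rw [hrelU]; ring
  exact Nat.eq_of_mul_eq_mul_left hUpos this

/-- Let M be a subgroup of a finite group G with type-P data (W₁, U, W₂) and H = M_F. Then the derived subgroup of U centralizes H, and if U ≠ 1 then U does not centralize H. -/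
theorem result {G : Type*} [Group G] [Finite G] (M W₁ U W₂ : Subgroup G) (hP : Cfsg.IsTypePWith M W₁ U W₂) :
    ⁅U, U⁆ ≤ Subgroup.centralizer (Cfsg.fittingHallOf M : Set G) ∧ (U ≠ ⊥ → ¬ U ≤ Subgroup.centralizer (Cfsg.fittingHallOf M : Set G)) := by
  obtain ⟨hcop1, hcop2, hrelU⟩ := coprime_facts M W₁ U W₂ hP
  set H := Cfsg.fittingHallOf M with hH
  obtain ⟨hHM', hUM', hHU, hM'dec⟩ := hP.U_compl
  obtain ⟨hM'M, hW1M, hM'W1, hMdec⟩ := hP.W₁_compl
  constructor
  · -- Part 1
    intro u hu
    have huU : u ∈ U := by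
      have : ⁅U, U⁆ ≤ U := by
        rw [Subgroup.commutator_le]
        intro g₁ h₁ g₂ h₂
        exact U.mul_mem (U.mul_mem (U.mul_mem h₁ h₂) (U.inv_mem h₁)) (U.inv_mem h₂)
      exact this hu
    have hu2 : u ∈ H ⊔ (M ⊓ Subgroup.centralizer (H : Set G)) :=
      hP.derived_two_le (Subgroup.commutator_mono hUM' hUM' hu)
    have hcomm : ∀ a ∈ H, ∀ b ∈ M ⊓ Subgroup.centralizer (H : Set G), a * b = b * a := by
      intro a ha b hb
      exact (Subgroup.mem_centralizer_iff.mp hb.2) a ha
    obtain ⟨h, hh, c, hc, huhc⟩ := mem_sup_of_commute hcomm hu2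
    have hhc : Commute h c := hcomm h hh c hc
    have hou : orderOf u ∣ Nat.card U := by
      have := orderOf_dvd_natCard (⟨u, huU⟩ : ↥U)
      rwa [← Subgroup.orderOf_coe] at this
    have hoh : orderOf h ∣ Nat.card H := by
      have := orderOf_dvd_natCard (⟨h, hh⟩ : ↥H)
      rwa [← Subgroup.orderOf_coe] at this
    have hco : (orderOf u).Coprime (orderOf h) :=
      Nat.Coprime.coprime_dvd_left hou (Nat.Coprime.coprime_dvd_right hoh hcop1.symm)
    have hpow : h ^ orderOf u * c ^ orderOf u = 1 := by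
      rw [← hhc.mul_pow, ← huhc, pow_orderOf_eq_one]
    have hhn : h ^ orderOf u ∈ Subgroup.centralizer (H : Set G) := by
      have : h ^ orderOf u = (c ^ orderOf u)⁻¹ := eq_inv_of_mul_eq_one_left hpow
      rw [this]
      exact Subgroup.inv_mem _ (Subgroup.pow_mem _ hc.2 _)
    obtain ⟨m, hm⟩ := exists_pow_eq_self_of_coprime hco
    have hhC : h ∈ Subgroup.centralizer (H : Set G) := by
      rw [← hm]; exact Subgroup.pow_mem _ hhn _
    rw [huhc]
    exact Subgroup.mul_mem _ hhC hc.2
  · -- Part 2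
    intro hUne hUC
    have hnorm : M ≤ Subgroup.normalizer (U : Set G) := by
      intro m hm
      obtain ⟨d, hd, w, hw, rfl⟩ := hMdec m hm
      obtain ⟨h, hh, u', hu', rfl⟩ := hM'dec d hd
      refine Subgroup.mul_mem _ (Subgroup.mul_mem _ ?_ (Subgroup.le_normalizer hu')) (hP.U_normal hw)
      rw [Subgroup.mem_normalizer_iff]
      intro x
      have key : ∀ z ∈ U, h * z * h⁻¹ = z := by
        intro z hz
        have := (Subgroup.mem_centralizer_iff.mp (hUC hz)) h hh
        rw [this, mul_inv_cancel_right]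
      constructor
      · intro hx; rw [key x hx]; exact hx
      · intro hx
        have := key _ hx
        have e : h * x * h⁻¹ = x := mul_left_cancel (mul_right_cancel this)
        rw [← e]; exact hx
    have hUM : U ≤ M := hUM'.trans hM'M
    have hco : (Nat.card U).Coprime (U.relIndex M) := by
      rw [hrelU]
      exact Nat.Coprime.mul_right hcop1.symm hcop2.symm
    have hUH : U ≤ H := le_fittingHallOf hUM hnorm hP.U_nilpotent hco
    apply hUne
    rw [eq_bot_iff, ← hHU]
    exact le_inf hUH le_rfl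

end Cfsg.Agent.S1388
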