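import Mathlib
import Cfsg.Statements.S1387
import Cfsg.Agent.Lib.Lead.ComplIn
import Cfsg.Agent.Lib.Lead.FittingHall
import Cfsg.Agent.S1388

set_option autoImplicit false
open Cfsg

namespace Cfsg.Agent.S1387

open Cfsg.Agent.Lib.Lead.ComplIn Cfsg.Agent.Lib.Lead.FittingHall

/-- Let M be a subgroup of a finite group G with type-P data (W₁, U, W₂) and H = M_F. Then the Fitting subgroup F(M) is generated by H and the centralizer of H in U. -/
theorem result {G : Type*} [Group G] [Finite G] (M W₁ U W₂ : Subgroup G) (hP : Cfsg.IsTypePWith M W₁ U W₂) :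
    Cfsg.fittingOf M = Cfsg.fittingHallOf M ⊔ (U ⊓ Subgroup.centralizer (Cfsg.fittingHallOf M : Set G)) := by
  obtain ⟨hcop1, hcop2, hrelU⟩ := Cfsg.Agent.S1388.coprime_facts M W₁ U W₂ hP
  rw [← hP.fitting_eq]
  set H := Cfsg.fittingHallOf M with hH
  obtain ⟨hHM', hUM', hHU, hM'dec⟩ := hP.U_compl
  obtain ⟨hM'M, hW1M, hM'W1, hMdec⟩ := hP.W₁_compl
  apply le_antisymm
  · apply sup_le le_sup_left
    intro c hc
    have hcF : c ∈ Cfsg.fittingOf M := by
      rw [← hP.fitting_eq]; exact (le_sup_right : _ ≤ H ⊔ _) hc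
    have hcM' : c ∈ ⁅M, M⁆ := hP.fitting_le hcF
    obtain ⟨h, hh, u, hu, hchu⟩ := hM'dec c hcM'
    have hcomm : Commute h c := (Subgroup.mem_centralizer_iff.mp hc.2) h hh
    have hu' : u = h⁻¹ * c := by rw [hchu]; group
    have hcomm' : Commute h⁻¹ c := hcomm.inv_left
    have hpow : ∀ k : ℕ, u ^ k = (h ^ k)⁻¹ * c ^ k := by
      intro k
      rw [hu', hcomm'.mul_pow, inv_pow]
    -- c^b ∈ H
    have h5 : c ^ Nat.card U ∈ H := by
      have h1 : u ^ Nat.card U = 1 := by
        have := pow_card_eq_one' (G := ↥U) (x := ⟨u, hu⟩)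
        exact congrArg Subtype.val this
      have h2 := hpow (Nat.card U)
      rw [h1] at h2
      have : c ^ Nat.card U = h ^ Nat.card U := by
        have := eq_mul_inv_of_mul_eq h2.symm
        rw [one_mul] at this
        exact (inv_injective this).symm
      rw [this]; exact Subgroup.pow_mem _ hh _
    -- c^a ∈ U ⊓ C(H)
    have h6 : c ^ Nat.card H ∈ U ⊓ Subgroup.centralizer (H : Set G) := by
      have h1 : h ^ Nat.card H = 1 := by
        have := pow_card_eq_one' (G := ↥H) (x := ⟨h, hh⟩)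
        exact congrArg Subtype.val this
      have h2 := hpow (Nat.card H)
      rw [h1, inv_one, one_mul] at h2
      refine ⟨?_, Subgroup.pow_mem _ hc.2 _⟩
      rw [← h2]; exact Subgroup.pow_mem _ hu _
    -- Bezout
    have hbez := Nat.gcd_eq_gcd_ab (Nat.card H) (Nat.card U)
    rw [Nat.Coprime.gcd_eq_one hcop1] at hbez
    have hc1 : c = (c ^ Nat.card H) ^ (Nat.gcdA (Nat.card H) (Nat.card U)) *
        (c ^ Nat.card U) ^ (Nat.gcdB (Nat.card H) (Nat.card U)) := by
      rw [← zpow_natCast, ← zpow_natCast, ← zpow_mul, ← zpow_mul, ← zpow_add, ← hbez]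
      simp
    rw [hc1]
    refine Subgroup.mul_mem _ ((le_sup_right : _ ≤ H ⊔ _) (Subgroup.zpow_mem _ h6 _))
      ((le_sup_left : H ≤ H ⊔ _) (Subgroup.zpow_mem _ h5 _))
  · apply sup_le le_sup_left
    refine le_trans ?_ le_sup_right
    exact inf_le_inf_right _ (hUM'.trans hM'M)

end Cfsg.Agent.S1387
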