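import Cfsg.Statements.S1403
import Cfsg.Agent.Lib.Helper1.MS5

set_option autoImplicit false
open Cfsg

namespace Cfsg.Agent.S1403

/-- Let G be a minimal simple group of odd order and K a proper subgroup having an elementary abelian subgroup of order p ^ 2 for some prime p. If K, or its centralizer C_G(K), has an elementary abelian subgroup of order q ^ 3 for some prime q, then K lies in exactly one maximal subgroup of G. -/
theorem result {G : Type*} [Group G] [Finite G] (hG : Cfsg.IsMinSimpleOddOrder G)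
    (K : Subgroup G) (hK : K ≠ ⊤) (hK2 : ¬ Cfsg.RankLE 1 K)
    (hK3 : ¬ Cfsg.RankLE 2 K ∨ ¬ Cfsg.RankLE 2 (Subgroup.centralizer (K : Set G))) :
    Cfsg.InUniqueMaximal K := by
  classical
  have key : ∀ (p : ℕ) (hp : p.Prime) (E : Subgroup G), Cfsg.IsElementaryAbelian p E →
      p ^ (2 + 1) ≤ Nat.card E → Cfsg.InUniqueMaximal E := by
    intro p hp E hEe hE3
    haveI : Fact p.Prime := ⟨hp⟩
    have hEp : IsPGroup p E := Cfsg.Agent.Lib.Helper1.BG9.isPGroup_of_isElementaryAbelian hEe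
    obtain ⟨P, hEP⟩ := hEp.exists_le_sylow
    have hPr : ¬ Cfsg.PRankLE p 2 ↥(P : Subgroup G) :=
      Cfsg.Agent.Lib.Helper1.BG9.not_pRankLE_of_elementary hp hEP hEe hE3
    have hE1 : E ≠ ⊥ := by
      intro h
      rw [h, Subgroup.card_bot] at hE3
      have : 1 < p ^ (2 + 1) := Nat.one_lt_pow (by norm_num) hp.one_lt
      omega
    have hpG : p ∣ Nat.card G :=
      (Cfsg.Agent.Lib.Helper1.BG8.dvd_card_of_isPGroup_ne_bot hEp hE1).trans
        (Subgroup.card_subgroup_dvd_card E)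
    have hp2 : p ≠ 2 := Cfsg.Agent.Lib.Helper1.BG9.odd_prime_of_dvd hG hpG
    obtain ⟨A, hA, hA3⟩ := Cfsg.Agent.Lib.Helper1.BG9.exists_SCN3 hp2 P.2 hPr
    have hAU := Cfsg.Agent.Lib.Helper1.MS.s1402 hG p P A hA hA3
    have hAp : IsPGroup p A := P.2.to_le hA.1
    have hAab : A ≤ Subgroup.centralizer (A : Set G) := by
      rw [← hA.2.2]; exact inf_le_right.trans (Subgroup.centralizer_le (by rw [hA.2.2]))
    have hAc : IsMulCommutative ↥A := by
      refine ⟨⟨fun a b => ?_⟩⟩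
      apply Subtype.ext
      exact ((Subgroup.mem_centralizer_iff.mp (hAab a.2)) b.1 b.2).symm
    have hEnc : ¬ IsCyclic ↥E :=
      Cfsg.Agent.Lib.Helper1.BG9.not_isCyclic_of_elementary hp le_rfl hEe
        (le_trans (Nat.pow_le_pow_right hp.pos (by norm_num)) hE3)
    have hEC : E ≤ Subgroup.centralizer (E : Set G) :=
      Cfsg.Agent.Lib.Helper1.BG9.le_centralizer_of_isElementaryAbelian hEe le_rfl
    exact Cfsg.Agent.Lib.Helper1.BG9.bg93 hG hAp hAc hA3 hAU hEp hEnc
      (Cfsg.Agent.Lib.Helper1.BG9.not_pRankLE_of_elementary hp hEC hEe hE3)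
  rcases hK3 with h | h
  · obtain ⟨p, hp, E, hEK, hEe, hE3⟩ := Cfsg.Agent.Lib.Helper1.BG7.exists_elementary_of_not_rankLE h
    exact Cfsg.Agent.Lib.Helper1.BG9.inUniqueMaximal_of_le (key p hp E hEe hE3) hEK hK
  · obtain ⟨p, hp, E, hEK, hEe, hE3⟩ := Cfsg.Agent.Lib.Helper1.BG7.exists_elementary_of_not_rankLE h
    exact Cfsg.Agent.Lib.Helper1.BG9.bg92 hG (key p hp E hEe hE3)
      (Cfsg.Agent.Lib.Helper1.BG9.le_centralizer_symm hEK) hK2

end Cfsg.Agent.S1403
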