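import Mathlib
import Cfsg.Statements.S1441
import Cfsg.Agent.Lib.Lead.Stability

namespace Cfsg.Agent.S1441

open Cfsg.Agent.Lib.Lead.Stability
open scoped commutatorElement

theorem result {G : Type*} [Group G] [Finite G] (H A : Subgroup G) (hH : Group.IsSolvable H) (hA : (A ≤ Subgroup.normalizer (H : Set G)))
    (n : ℕ) (c : Fin (n + 1) → Subgroup G) (hc0 : c 0 = H) (hcn : c (Fin.last n) = ⊥) (hanti : Antitone c)
    (hcN : ∀ i, H ≤ Subgroup.normalizer ((c i : Subgroup G) : Set G)) (hcA : ∀ i, A ≤ Subgroup.normalizer ((c i : Subgroup G) : Set G))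
    (htriv : ∀ i : Fin n, ⁅c i.castSucc, A⁆ ≤ c i.succ) :
    ∀ p : ℕ, p.Prime → p ∣ (A ⊓ Subgroup.centralizer (H : Set G)).relIndex A → p ∣ Nat.card H := by
  intro p hp hdvd
  by_contra hnd
  haveI : Fact p.Prime := ⟨hp⟩
  have key : ∀ a ∈ A, (∃ k, orderOf a = p ^ k) → a ∈ Subgroup.centralizer (H : Set G) := by
    rintro a haA ⟨k, hk⟩
    have hall : ∀ i : Fin (n + 1), ∀ h ∈ c i, a * h * a⁻¹ = h := by
      intro i
      induction i using Fin.reverseInduction with
      | last =>
        intro h hh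
        rw [hcn, Subgroup.mem_bot] at hh
        subst hh
        group
      | cast i ih =>
        intro h hh
        have hcm : h⁻¹ * (a * h * a⁻¹) ∈ c i.succ := by
          apply htriv i
          have := Subgroup.commutator_mem_commutator (H₁ := c i.castSucc) (H₂ := A)
            (inv_mem hh) haA
          have e : ⁅h⁻¹, a⁆ = h⁻¹ * (a * h * a⁻¹) := by
            rw [commutatorElement_def]; group
          rwa [e] at this
        apply conj_eq_of_commutator_fixed
        · have := ih _ hcm
          show a * (h⁻¹ * (a * h * a⁻¹)) = (h⁻¹ * (a * h * a⁻¹)) * a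
          calc a * (h⁻¹ * (a * h * a⁻¹)) = (a * (h⁻¹ * (a * h * a⁻¹)) * a⁻¹) * a := by group
            _ = (h⁻¹ * (a * h * a⁻¹)) * a := by rw [this]
        · rw [hk]
          apply Nat.Coprime.pow_left
          have hH : h⁻¹ * (a * h * a⁻¹) ∈ H := by
            rw [← hc0]
            exact hanti (Fin.zero_le _) hcm
          have hd : orderOf (h⁻¹ * (a * h * a⁻¹)) ∣ Nat.card H := by
            have := orderOf_dvd_natCard (⟨_, hH⟩ : H)
            rwa [Subgroup.orderOf_mk] at this
          exact Nat.Coprime.coprime_dvd_right hd ((Nat.Prime.coprime_iff_not_dvd hp).mpr hnd)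
    rw [Subgroup.mem_centralizer_iff]
    intro h hh
    have := hall 0 h (by rw [hc0]; exact hh)
    calc h * a = (a * h * a⁻¹) * a := by rw [this]
      _ = a * h := by group
  obtain ⟨P⟩ : Nonempty (Sylow p A) := inferInstance
  have hPle : (P : Subgroup A) ≤ (A ⊓ Subgroup.centralizer (H : Set G)).subgroupOf A := by
    intro x hx
    rw [Subgroup.mem_subgroupOf]
    refine Subgroup.mem_inf.mpr ⟨x.2, key x x.2 ?_⟩
    obtain ⟨k, hk⟩ := (IsPGroup.iff_orderOf.mp P.2) ⟨x, hx⟩
    refine ⟨k, ?_⟩
    rw [Subgroup.orderOf_mk] at hk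
    rw [← hk, Subgroup.orderOf_coe]
  have h1 : ((A ⊓ Subgroup.centralizer (H : Set G)).subgroupOf A).index ∣ (P : Subgroup A).index :=
    Subgroup.index_dvd_of_le hPle
  exact P.not_dvd_index (hdvd.trans h1)

end Cfsg.Agent.S1441
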