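import Mathlib
import Cfsg.Statements.S1443
import Cfsg.Agent.S1442
import Cfsg.Agent.Lib.Helper1.CoprimeAut

namespace Cfsg.Agent.S1443

theorem result {G : Type*} [Group G] [Finite G] (p : ℕ) [Fact p.Prime] (hp : p ≠ 2) (H E A : Subgroup G) (hH : IsPGroup p H) (hE : E ≤ H) (hEe : Cfsg.IsElementaryAbelian p E)
    (hA : (A ≤ Subgroup.normalizer (H : Set G))) (hcop : (Nat.card A).Coprime p)
    (hfix : ∀ x ∈ (H ⊓ Subgroup.centralizer (E : Set G)), orderOf x = p → A ≤ Subgroup.centralizer ({x} : Set G)) :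
    A ≤ Subgroup.centralizer (H : Set G) := by
  have hpp : p.Prime := Fact.out
  obtain ⟨hEc, hEp⟩ := hEe
  set K := H ⊓ Subgroup.centralizer (E : Set G) with hKdef
  have hEK : E ≤ K := by
    apply le_inf hE
    intro x hx
    rw [Subgroup.mem_centralizer_iff]
    intro y hy
    have := hEc.is_comm.comm (⟨y, hy⟩ : E) ⟨x, hx⟩
    exact congrArg Subtype.val this
  -- elements of K killed by p are centralized by A
  have hfix' : ∀ x ∈ K, x ^ p = 1 → ∀ a ∈ A, a * x * a⁻¹ = x := by
    intro x hx hxp a ha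
    by_cases hx1 : x = 1
    · subst hx1; group
    · have hord : orderOf x = p := orderOf_eq_prime hxp hx1
      have := hfix x hx hord ha
      rw [Subgroup.mem_centralizer_iff] at this
      have h2 := this x (Set.mem_singleton x)
      calc a * x * a⁻¹ = (x * a) * a⁻¹ := by rw [h2]
        _ = x := by group
  -- A centralizes E
  have hAE : ∀ a ∈ A, ∀ e ∈ E, a * e * a⁻¹ = e := fun a ha e he =>
    hfix' e (hEK he) (hEp e he) a ha
  -- A normalizes K
  have hAK : A ≤ Subgroup.normalizer (K : Set G) := by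
    intro a ha
    have haN := hA ha
    have haNi := hA (A.inv_mem ha)
    rw [Subgroup.mem_normalizer_iff]
    intro x
    have hcent : ∀ b ∈ A, ∀ y : G, y ∈ Subgroup.centralizer (E : Set G) →
        b * y * b⁻¹ ∈ Subgroup.centralizer (E : Set G) := by
      intro b hb y hy
      rw [Subgroup.mem_centralizer_iff] at hy ⊢
      intro e he
      have h1 := hAE b⁻¹ (A.inv_mem hb) e he
      rw [inv_inv] at h1
      have h2 := hy e he
      calc e * (b * y * b⁻¹) = b * ((b⁻¹ * e * b) * y) * b⁻¹ := by group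
        _ = b * (e * y) * b⁻¹ := by rw [h1]
        _ = b * (y * e) * b⁻¹ := by rw [h2]
        _ = b * y * (b⁻¹ * e * b) * b⁻¹ := by rw [h1]; group
        _ = b * y * b⁻¹ * e := by group
    constructor
    · intro hx
      obtain ⟨hxH, hxC⟩ := Subgroup.mem_inf.mp hx
      exact Subgroup.mem_inf.mpr ⟨(Subgroup.mem_normalizer_iff.mp haN x).mp hxH, hcent a ha x hxC⟩
    · intro hx
      obtain ⟨hxH, hxC⟩ := Subgroup.mem_inf.mp hx
      have e1 : a⁻¹ * (a * x * a⁻¹) * a⁻¹⁻¹ = x := by group
      refine Subgroup.mem_inf.mpr ⟨?_, ?_⟩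
      · have := (Subgroup.mem_normalizer_iff.mp haNi (a * x * a⁻¹)).mp hxH
        rwa [e1] at this
      · have := hcent a⁻¹ (A.inv_mem ha) _ hxC
        rwa [e1] at this
  have hKp : IsPGroup p K := hH.to_le inf_le_left
  -- A centralizes K
  have hAcK : ∀ a ∈ A, ∀ x ∈ K, a * x * a⁻¹ = x := by
    intro a ha x hx
    let a' : Subgroup.normalizer (K : Set G) := ⟨a, hAK ha⟩
    let φ : MulAut K := K.normalizerMonoidHom a'
    have hφord : (orderOf φ).Coprime p := by
      have h1 : orderOf φ ∣ orderOf a' := orderOf_map_dvd K.normalizerMonoidHom a'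
      have h2 : orderOf a' = orderOf a := Subgroup.orderOf_mk a (hAK ha)
      have h3 : orderOf a ∣ Nat.card A := by
        have := orderOf_dvd_natCard (⟨a, ha⟩ : A)
        rwa [Subgroup.orderOf_mk] at this
      rw [h2] at h1
      exact Nat.Coprime.coprime_dvd_left (h1.trans h3) hcop
    have hφ1 : φ = 1 := by
      apply Cfsg.Agent.Lib.Helper1.coprime_aut_trivial_of_fix_omega hp hKp φ hφord
      intro y hy
      apply Subtype.ext
      rw [Subgroup.normalizerMonoidHom_apply_apply_coe]
      apply hfix' y y.2 _ a ha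
      have := congrArg Subtype.val hy
      simpa using this
    have := congrArg (fun ψ : MulAut K => ((ψ ⟨x, hx⟩ : K) : G)) hφ1
    simp only [MulAut.one_apply] at this
    rw [Subgroup.normalizerMonoidHom_apply_apply_coe] at this
    exact this
  -- apply S1442
  have hHnil : Group.IsNilpotent H := hH.isNilpotent
  have hcop' : (Nat.card A).Coprime (Nat.card H) := by
    obtain ⟨k, hk⟩ := hH.exists_card_eq
    rw [hk]
    exact Nat.Coprime.pow_right k hcop
  apply Cfsg.Agent.S1442.result H A hHnil hA hcop'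
  -- C_H(C_H(A)) ≤ C_H(E) = K ≤ C_H(A)
  have hKC : K ≤ H ⊓ Subgroup.centralizer (A : Set G) := by
    intro x hx
    refine Subgroup.mem_inf.mpr ⟨(Subgroup.mem_inf.mp hx).1, ?_⟩
    rw [Subgroup.mem_centralizer_iff]
    intro a ha
    have := hAcK a ha x hx
    calc a * x = (a * x * a⁻¹) * a := by group
      _ = x * a := by rw [this]
  refine le_trans ?_ hKC
  apply inf_le_inf_left
  apply Subgroup.centralizer_le
  exact fun e he => hKC (hEK he)

end Cfsg.Agent.S1443
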