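import Cfsg.Statements.S1449
import Cfsg.Agent.Lib.Helper1.RT2

set_option autoImplicit false
open Cfsg

namespace Cfsg.Agent.S1449

/-- Let G be a finite group, p an odd prime, R a p-subgroup with no elementary abelian subgroup of order p ^ 3, and A a solvable subgroup of odd order normalizing R with A ∩ C_G(R) = 1. Then the derived subgroup [A, A] is a p-group. -/
theorem result {G : Type*} [Group G] [Finite G] (p : ℕ) [Fact p.Prime] (hp : p ≠ 2) (R A : Subgroup G) (hR : IsPGroup p R) (hr : Cfsg.PRankLE p 2 R)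
    (hA : (A ≤ Subgroup.normalizer (R : Set G))) (hAs : Group.IsSolvable A) (hAodd : Odd (Nat.card A)) (hfaith : A ⊓ Subgroup.centralizer (R : Set G) = ⊥) :
    IsPGroup p ↥⁅A, A⁆ := by
  classical
  have hinj : Function.Injective (Cfsg.Agent.Lib.Helper1.TF.zeta R A hA) := by
    rw [injective_iff_map_eq_one]
    intro a ha
    have h1 : (a : G) ∈ A ⊓ Subgroup.centralizer (R : Set G) := by
      refine Subgroup.mem_inf.mpr ⟨a.2, ?_⟩
      rw [Subgroup.mem_centralizer_iff]
      intro r hr'
      have h2 := congrArg (fun f : MulAut ↥R => ((f ⟨r, hr'⟩ : ↥R) : G)) ha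
      beta_reduce at h2
      rw [Cfsg.Agent.Lib.Helper1.TF.zeta_apply] at h2
      simp only [MulAut.one_apply] at h2
      calc r * (a : G) = ((a : G) * r * (a : G)⁻¹) * (a : G) := by rw [h2]
        _ = (a : G) * r := by group
    rw [hfaith, Subgroup.mem_bot] at h1
    exact Subtype.ext h1
  have key := Cfsg.Agent.Lib.Helper1.RT.commutator_pElements_of_faithful hp hR hr
    (Cfsg.Agent.Lib.Helper1.TF.zeta R A hA) hinj hAodd hAs
  intro g
  have hg : (g : G) ∈ Subgroup.map A.subtype (commutator ↥A) := by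
    rw [Subgroup.map_subtype_commutator]
    exact g.2
  obtain ⟨b, hb, hbg⟩ := hg
  obtain ⟨k, hk⟩ := key b hb
  refine ⟨k, ?_⟩
  apply Subtype.ext
  rw [Subgroup.coe_pow, ← hbg, ← map_pow, hk, map_one]
  rfl

end Cfsg.Agent.S1449
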