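import Mathlib
import Cfsg.Statements.S1459
import Cfsg.Agent.Lib.Helper1.CoprimeAbelian
import Cfsg.Agent.Lib.Helper1.TransferFocal

set_option autoImplicit false
open Cfsg

namespace Cfsg.Agent.S1459

open scoped commutatorElement

/-- `[H,K]` is normalised by `H` and by `K`. -/
theorem comm_normal {G : Type*} [Group G] (H K : Subgroup G) (hHK : H ⊔ K = ⊤) :
    (⁅H, K⁆ : Subgroup G).Normal := by
  have key : ∀ g, g ∈ H ∨ g ∈ K → ∀ x ∈ (⁅H, K⁆ : Subgroup G), g * x * g⁻¹ ∈ (⁅H, K⁆ : Subgroup G) := by
    intro g hg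
    have : (⁅H, K⁆ : Subgroup G) ≤ (⁅H, K⁆ : Subgroup G).comap (MulAut.conj g).toMonoidHom := by
      rw [Subgroup.commutator_le]
      intro h hh k hk
      show g * ⁅h, k⁆ * g⁻¹ ∈ (⁅H, K⁆ : Subgroup G)
      rcases hg with hg | hg
      · have e : g * ⁅h, k⁆ * g⁻¹ = ⁅g * h, k⁆ * ⁅g, k⁆⁻¹ := by
          simp only [commutatorElement_def]; group
        rw [e]
        exact Subgroup.mul_mem _ (Subgroup.commutator_mem_commutator (H.mul_mem hg hh) hk)
          (Subgroup.inv_mem _ (Subgroup.commutator_mem_commutator hg hk))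
      · have e : g * ⁅h, k⁆ * g⁻¹ = ⁅h, g⁆⁻¹ * ⁅h, g * k⁆ := by
          simp only [commutatorElement_def]; group
        rw [e]
        exact Subgroup.mul_mem _ (Subgroup.inv_mem _ (Subgroup.commutator_mem_commutator hh hg))
          (Subgroup.commutator_mem_commutator hh (K.mul_mem hg hk))
    intro x hx
    exact this hx
  have hn : Subgroup.normalizer ((⁅H, K⁆ : Subgroup G) : Set G) = ⊤ := by
    rw [eq_top_iff, ← hHK]
    apply sup_le
    · exact Cfsg.Agent.Lib.Helper1.le_normalizer_of_conj_mem (fun g hg x hx => key g (Or.inl hg) x hx)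
    · exact Cfsg.Agent.Lib.Helper1.le_normalizer_of_conj_mem (fun g hg x hx => key g (Or.inr hg) x hx)
  exact Subgroup.normalizer_eq_top_iff.mp hn

/-- A solvable subgroup contained in its own derived subgroup is trivial. -/
theorem eq_bot_of_le_commutator {G : Type*} [Group G] (H : Subgroup G) [Group.IsSolvable H]
    (h : H ≤ ⁅H, H⁆) : H = ⊥ := by
  by_contra hne
  haveI : Nontrivial H := (Subgroup.nontrivial_iff_ne_bot H).mpr hne
  have hlt := Group.IsSolvable.commutator_lt_top_of_nontrivial (G := H)
  have : (⊤ : Subgroup H) ≤ commutator H := by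
    rw [← Subgroup.map_subtype_le_map_subtype, Subgroup.map_subtype_commutator]
    rw [← MonoidHom.range_eq_map, Subgroup.range_subtype]
    exact h
  exact absurd (top_le_iff.mp this) hlt.ne


theorem part_a1 {G : Type*} [Group G] [Group.IsSolvable G] (H K : Subgroup G) (hH : H.Normal)
    (hc : Subgroup.IsComplement' H K) (hle : H ≤ commutator G) : H = ⁅H, K⁆ := by
  have hHK : H ⊔ K = ⊤ := hc.sup_eq_top
  have hinf : H ⊓ K = ⊥ := hc.disjoint.eq_bot
  set N : Subgroup G := ⁅H, K⁆ with hN
  haveI hNn : N.Normal := comm_normal H K hHK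
  have hNH : N ≤ H := Subgroup.commutator_le_left H K
  haveI : (⁅H, H⁆ : Subgroup G).Normal := Subgroup.commutator_normal H H
  set L : Subgroup G := N ⊔ ⁅H, H⁆ with hL
  haveI hLn : L.Normal := Subgroup.sup_normal N _
  have hLH : L ≤ H := sup_le hNH (Subgroup.commutator_le_left H H)
  set X : Subgroup G := L ⊔ K with hX
  -- X is normal
  have hXn : X.Normal := by
    have hn : Subgroup.normalizer (X : Set G) = ⊤ := by
      rw [eq_top_iff, ← hHK]
      apply sup_le
      · apply Cfsg.Agent.Lib.Helper1.le_normalizer_of_conj_mem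
        intro h hh x hx
        rw [hX, Subgroup.mem_sup_of_normal_left] at hx
        obtain ⟨l, hl, k, hk, rfl⟩ := hx
        have e : h * (l * k) * h⁻¹ = (h * l * h⁻¹) * ⁅h, k⁆ * k := by
          simp only [commutatorElement_def]; group
        rw [e]
        refine Subgroup.mul_mem _ (Subgroup.mul_mem _ ?_ ?_) ?_
        · exact (le_sup_left : L ≤ X) (hLn.conj_mem l hl h)
        · exact (le_sup_left : L ≤ X) ((le_sup_left : N ≤ L)
            (Subgroup.commutator_mem_commutator hh hk))
        · exact (le_sup_right : K ≤ X) hk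
      · exact (le_sup_right : K ≤ X).trans Subgroup.le_normalizer
    exact Subgroup.normalizer_eq_top_iff.mp hn
  haveI := hXn
  have hGX : commutator G ≤ X := by
    apply Cfsg.Agent.Lib.Helper1.commutator_le_of_sup_eq_top X H
    · rw [eq_top_iff, ← hHK]
      exact sup_le le_sup_right ((le_sup_right : K ≤ X).trans le_sup_left)
    · exact (le_sup_right : ⁅H, H⁆ ≤ L).trans le_sup_left
  have hHL : H ≤ L := by
    intro h hh
    have hx : h ∈ X := hGX (hle hh)
    rw [hX, Subgroup.mem_sup_of_normal_left] at hx
    obtain ⟨l, hl, k, hk, rfl⟩ := hx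
    have hkH : k ∈ H := by
      have : k = l⁻¹ * (l * k) := by group
      rw [this]
      exact H.mul_mem (H.inv_mem (hLH hl)) hh
    have : k ∈ H ⊓ K := ⟨hkH, hk⟩
    rw [hinf, Subgroup.mem_bot] at this
    rw [this, mul_one]
    exact hl
  -- now H/N is perfect
  let π := QuotientGroup.mk' N
  haveI : Group.IsSolvable (H.map π) :=
    Group.isSolvable_of_surjective (f := π.subgroupMap H) (π.subgroupMap_surjective H)
  have hperf : H.map π ≤ ⁅H.map π, H.map π⁆ := by
    rw [← Subgroup.map_commutator]
    have h1 : (⁅H, H⁆ : Subgroup G).map π = L.map π := by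
      rw [hL, Subgroup.map_sup]
      have : N.map π = ⊥ := by
        rw [eq_bot_iff]
        rintro _ ⟨n, hn, rfl⟩
        rw [Subgroup.mem_bot]
        exact (QuotientGroup.eq_one_iff n).mpr hn
      rw [this, bot_sup_eq]
    rw [h1]
    exact Subgroup.map_mono hHL
  have hbot := eq_bot_of_le_commutator (H.map π) hperf
  apply le_antisymm _ hNH
  intro h hh
  have : π h ∈ H.map π := Subgroup.mem_map_of_mem π hh
  rw [hbot, Subgroup.mem_bot] at this
  exact (QuotientGroup.eq_one_iff h).mp this


theorem part_a2 {G : Type*} [Group G] [Finite G] (H K : Subgroup G) (hH : H.Normal)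
    (hco : (Nat.card H).Coprime H.index)
    (hc : Subgroup.IsComplement' H K) (hHK : H = ⁅H, K⁆) :
    H ⊓ Subgroup.centralizer (K : Set G) ≤ ⁅H, H⁆ := by
  haveI : (⁅H, H⁆ : Subgroup G).Normal := Subgroup.commutator_normal H H
  let π := QuotientGroup.mk' (⁅H, H⁆ : Subgroup G)
  have hπ : Function.Surjective π := QuotientGroup.mk'_surjective _
  set V := H.map π with hV
  set A := K.map π with hA
  haveI : IsMulCommutative V := by
    refine ⟨⟨?_⟩⟩
    rintro ⟨_, ⟨a, ha, rfl⟩⟩ ⟨_, ⟨b, hb, rfl⟩⟩
    apply Subtype.ext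
    show π a * π b = π b * π a
    rw [← map_mul, ← map_mul]
    apply (QuotientGroup.eq).mpr
    have : ⁅b⁻¹, a⁻¹⁆ ∈ (⁅H, H⁆ : Subgroup G) :=
      Subgroup.commutator_mem_commutator (H.inv_mem hb) (H.inv_mem ha)
    have e : (a * b)⁻¹ * (b * a) = ⁅b⁻¹, a⁻¹⁆ := by
      simp only [commutatorElement_def]; group
    rw [e]; exact this
  haveI hVn : V.Normal := hH.map π hπ
  have hAV : A ≤ Subgroup.normalizer (V : Set (G ⧸ (⁅H, H⁆ : Subgroup G))) := by
    rw [Subgroup.normalizer_eq_top_iff.mpr hVn]; exact le_top
  have hcop : (Nat.card A).Coprime (Nat.card V) := by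
    have h1 : Nat.card A ∣ H.index := by
      rw [hc.symm.index_eq_card]; exact Subgroup.card_map_dvd K π
    have h2 : Nat.card V ∣ Nat.card H := Subgroup.card_map_dvd H π
    exact (Nat.Coprime.coprime_dvd_left h2 (Nat.Coprime.coprime_dvd_right h1 hco)).symm
  have hkey := Cfsg.Agent.Lib.Helper1.coprime_abelian_centralizer_inf_commutator A V hAV hcop
  have hVA : ⁅V, A⁆ = V := by
    rw [hV, hA, ← Subgroup.map_commutator, ← hHK]
  rw [hVA] at hkey
  intro x ⟨hxH, hxC⟩
  have hx : π x ∈ (V ⊓ Subgroup.centralizer (A : Set (G ⧸ (⁅H, H⁆ : Subgroup G)))) ⊓ V := by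
    refine ⟨⟨Subgroup.mem_map_of_mem π hxH, ?_⟩, Subgroup.mem_map_of_mem π hxH⟩
    show π x ∈ Subgroup.centralizer (A : Set (G ⧸ (⁅H, H⁆ : Subgroup G)))
    rw [Subgroup.mem_centralizer_iff]
    rintro _ ⟨k, hk, rfl⟩
    rw [← map_mul, ← map_mul, Subgroup.mem_centralizer_iff.mp hxC k hk]
  rw [hkey, Subgroup.mem_bot] at hx
  exact (QuotientGroup.eq_one_iff x).mp hx


/-- A nilpotent group with cyclic abelianisation is abelian. -/
theorem comm_of_nilpotent_of_cyclic (G : Type*) [Group G] [Group.IsNilpotent G] :
    IsCyclic (G ⧸ commutator G) → ∀ a b : G, a * b = b * a := by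
  refine Group.nilpotent_center_quotient_ind
    (P := fun G _ _ => IsCyclic (G ⧸ commutator G) → ∀ a b : G, a * b = b * a) G ?_ ?_
  · intro G _ _ _ a b; exact Subsingleton.elim _ _
  · intro G _ _ ih hcyc a b
    set Z := Subgroup.center G with hZ
    have hle : commutator G ≤ (commutator (G ⧸ Z)).comap (QuotientGroup.mk' Z) := by
      rw [← Subgroup.map_le_iff_le_comap, commutator_def, commutator_def, Subgroup.map_commutator]
      exact Subgroup.commutator_mono le_top le_top
    let f : G ⧸ commutator G →* (G ⧸ Z) ⧸ commutator (G ⧸ Z) :=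
      QuotientGroup.map (commutator G) (commutator (G ⧸ Z)) (QuotientGroup.mk' Z) hle
    have hf : Function.Surjective f := by
      intro y
      obtain ⟨y', rfl⟩ := QuotientGroup.mk_surjective y
      obtain ⟨g, rfl⟩ := QuotientGroup.mk_surjective y'
      exact ⟨(g : G ⧸ commutator G), rfl⟩
    haveI : IsCyclic ((G ⧸ Z) ⧸ commutator (G ⧸ Z)) := isCyclic_of_surjective f hf
    have hcomm := ih this
    have hGZ : commutator G ≤ Z := by
      rw [← Subgroup.Normal.quotient_commutative_iff_commutator_le]
      exact ⟨⟨hcomm⟩⟩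
    let g : G ⧸ commutator G →* G ⧸ Z :=
      QuotientGroup.map (commutator G) Z (MonoidHom.id G) (by simpa using hGZ)
    have hg : Function.Surjective g := by
      intro y
      obtain ⟨x, rfl⟩ := QuotientGroup.mk_surjective y
      exact ⟨(x : G ⧸ commutator G), rfl⟩
    haveI : IsCyclic (G ⧸ Z) := isCyclic_of_surjective g hg
    exact commutative_of_cyclic_center_quotient (QuotientGroup.mk' Z) (by simp [hZ]) a b


universe u

/-- If `G'` is nilpotent of prime index `p`, then `p ∤ |G'|`. -/
theorem not_dvd_card_commutator (p : ℕ) (hp : p.Prime) :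
    ∀ n : ℕ, ∀ (G : Type u) [Group G] [Finite G], Nat.card G = n →
      Group.IsNilpotent ↥(commutator G) → (commutator G).index = p →
      ¬ p ∣ Nat.card ↥(commutator G) := by
  intro n
  induction n using Nat.strong_induction_on with
  | _ n ih =>
  intro G _ _ hn hnil hidx hdvd
  haveI := Fact.mk hp
  set D := commutator G with hD
  by_cases hq : ∃ q : ℕ, q.Prime ∧ q ≠ p ∧ q ∣ Nat.card D
  · obtain ⟨q, hqp, hqne, hqd⟩ := hq
    haveI := Fact.mk hqp
    obtain ⟨S⟩ : Nonempty (Sylow q D) := inferInstance
    have htfae := (Group.isNilpotent_of_finite_tfae (G := D)).out 0 3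
    have hSn : (S : Subgroup D).Normal := (htfae.mp hnil) q inferInstance S
    haveI hSc : (S : Subgroup D).Characteristic := Sylow.characteristic_of_normal S hSn
    set T : Subgroup G := (S : Subgroup D).map D.subtype with hT
    haveI hTn : T.Normal := by
      have := ConjAct.normal_of_characteristic_of_normal (H := D) (K := (S : Subgroup D))
      exact this
    have hTD : T ≤ D := Subgroup.map_subtype_le _
    have hTcard : Nat.card T = q ^ (Nat.card D).factorization q := by
      rw [hT, Subgroup.card_map_of_injective D.subtype_injective]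
      exact S.card_eq_multiplicity
    have hfac : 0 < (Nat.card D).factorization q :=
      hqp.factorization_pos_of_dvd Nat.card_pos.ne' hqd
    have hT1 : 1 < Nat.card T := by
      rw [hTcard]; exact Nat.one_lt_pow hfac.ne' hqp.one_lt
    let π := QuotientGroup.mk' T
    have hπ : Function.Surjective π := QuotientGroup.mk'_surjective T
    have hcomm : commutator (G ⧸ T) = D.map π := by
      rw [hD, commutator_def, commutator_def, Subgroup.map_commutator,
        ← MonoidHom.range_eq_map, MonoidHom.range_eq_top.mpr hπ]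
    have hlt : Nat.card (G ⧸ T) < n := by
      rw [← hn, Subgroup.card_eq_card_quotient_mul_card_subgroup T]
      have : 0 < Nat.card (G ⧸ T) := Nat.card_pos
      nlinarith
    have hnil' : Group.IsNilpotent ↥(commutator (G ⧸ T)) := by
      rw [hcomm]
      haveI := hnil
      exact nilpotent_of_surjective (π.subgroupMap D) (π.subgroupMap_surjective D)
    have hidx' : (commutator (G ⧸ T)).index = p := by
      rw [hcomm, Subgroup.index_map_eq D hπ (by rw [QuotientGroup.ker_mk']; exact hTD)]
      exact hidx
    have hnd := ih _ hlt (G ⧸ T) rfl hnil' hidx'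
    apply hnd
    rw [hcomm]
    obtain ⟨x, hx⟩ := exists_prime_orderOf_dvd_card' (G := D) p hdvd
    have hxo : orderOf (x : G) = p := by rw [Subgroup.orderOf_coe]; exact hx
    have hmem : π x ∈ D.map π := Subgroup.mem_map_of_mem π x.2
    have hne1 : π (x : G) ≠ 1 := by
      intro h1
      have hxT : (x : G) ∈ T := (QuotientGroup.eq_one_iff _).mp h1
      have h2 : (⟨(x : G), hxT⟩ : T) ^ Nat.card T = 1 := pow_card_eq_one'
      have h3 : (x : G) ^ Nat.card T = 1 := congrArg Subtype.val h2
      have h4 : p ∣ Nat.card T := by rw [← hxo]; exact orderOf_dvd_of_pow_eq_one h3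
      rw [hTcard] at h4
      exact hqne ((Nat.prime_dvd_prime_iff_eq hp hqp).mp (hp.dvd_of_dvd_pow h4)).symm
    have ho : orderOf (π (x : G)) = p := by
      have hd : orderOf (π (x : G)) ∣ p := by
        apply orderOf_dvd_of_pow_eq_one
        rw [← map_pow, ← hxo, pow_orderOf_eq_one, map_one]
      rcases (Nat.dvd_prime hp).mp hd with h | h
      · exact absurd (orderOf_eq_one_iff.mp h) hne1
      · exact h
    have := orderOf_dvd_natCard (⟨π (x : G), hmem⟩ : D.map π)
    rw [Subgroup.orderOf_mk, ho] at this
    exact this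
  · push_neg at hq
    have hpow : Nat.card D = p ^ (Nat.card D).primeFactorsList.length :=
      Nat.eq_prime_pow_of_unique_prime_dvd Nat.card_pos.ne' (fun {d} hd hdd => by
        by_contra hne
        exact hq d hd hne hdd)
    have hG : Nat.card G = p ^ ((Nat.card D).primeFactorsList.length + 1) := by
      rw [← D.card_mul_index, hidx, pow_succ, ← hpow]
    have hPG : IsPGroup p G := IsPGroup.of_card hG
    haveI : Group.IsNilpotent G := hPG.isNilpotent
    haveI : IsCyclic (G ⧸ commutator G) := by
      apply isCyclic_of_prime_card (p := p)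
      rw [← Subgroup.index_eq_card]; exact hidx
    have hc := comm_of_nilpotent_of_cyclic G this
    have hbot : D = ⊥ := by
      rw [eq_bot_iff, hD, commutator_def, Subgroup.commutator_le]
      intro a _ b _
      rw [Subgroup.mem_bot, commutatorElement_eq_one_iff_commute]
      exact hc a b
    rw [hbot, Subgroup.card_bot] at hdvd
    exact hp.one_lt.ne' (Nat.dvd_one.mp hdvd)


/-- Let G be a finite solvable group. (a) If H is a normal subgroup of order coprime to its index, K is a complement to H, and H ≤ G', then H = [H, K] and H ∩ C_G(K) ≤ [H, H]. (b) If G' is nilpotent and has prime index in G, then the order of G' is coprime to its index and G' = [G, K] (the subgroup generated by commutators of elements of G with elements of K) for every complement K of G'. -/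
theorem result {G : Type*} [Group G] [Finite G] [Group.IsSolvable G] :
    (∀ (H K : Subgroup G), H.Normal → (Nat.card H).Coprime H.index → Subgroup.IsComplement' H K → H ≤ commutator G →
        H = ⁅H, K⁆ ∧ H ⊓ Subgroup.centralizer (K : Set G) ≤ ⁅H, H⁆) ∧
      (Group.IsNilpotent ↥(commutator G) → (commutator G).index.Prime →
        (Nat.card ↥(commutator G)).Coprime (commutator G).index ∧
        ∀ K : Subgroup G, Subgroup.IsComplement' (commutator G) K → commutator G = ⁅(⊤ : Subgroup G), K⁆) := by
  have ha : ∀ (H K : Subgroup G), H.Normal → (Nat.card H).Coprime H.index →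
      Subgroup.IsComplement' H K → H ≤ commutator G →
        H = ⁅H, K⁆ ∧ H ⊓ Subgroup.centralizer (K : Set G) ≤ ⁅H, H⁆ := by
    intro H K hH hco hc hle
    have h1 := part_a1 H K hH hc hle
    exact ⟨h1, part_a2 H K hH hco hc h1⟩
  refine ⟨ha, ?_⟩
  intro hnil hprime
  have hnd := not_dvd_card_commutator _ hprime _ G rfl hnil rfl
  have hco : (Nat.card ↥(commutator G)).Coprime (commutator G).index :=
    ((Nat.Prime.coprime_iff_not_dvd hprime).mpr hnd).symm
  refine ⟨hco, ?_⟩
  intro K hK
  have h1 := (ha (commutator G) K inferInstance hco hK le_rfl).1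
  apply le_antisymm
  · rw [h1]
    exact Subgroup.commutator_mono le_top le_rfl
  · rw [commutator_def]
    exact Subgroup.commutator_mono le_rfl le_top

end Cfsg.Agent.S1459
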