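import Mathlib
import Cfsg.Statements.S1462
import Cfsg.Agent.Lib.Lead.PLength
import Cfsg.Agent.Lib.Lead.LiftPSub
import Cfsg.Agent.Lib.Lead.FixOmega
import Cfsg.Agent.Lib.Helper1.FittingCentralizer
import Cfsg.Agent.Lib.Helper8.AxB

set_option autoImplicit false
open Cfsg

namespace Cfsg.Agent.S1462

open Pointwise
open Cfsg.Agent.Lib.Lead Cfsg.Agent.Lib.Helper1 Cfsg.Agent.Lib.Helper8

/-- Generated by an elementary abelian subgroup and a commuting element of order dividing `p`. -/
theorem elemAb_sup {X : Type*} [Group X] (p : ℕ) (E : Subgroup X) (hE : IsElementaryAbelian p E)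
    (x : X) (hx : x ^ p = 1) (hxE : ∀ e ∈ E, x * e = e * x) :
    IsElementaryAbelian p (Subgroup.closure ((E : Set X) ∪ {x})) := by
  have hcomm : ∀ a ∈ ((E : Set X) ∪ {x}), ∀ b ∈ ((E : Set X) ∪ {x}), a * b = b * a := by
    rintro a (ha | ha) b (hb | hb)
    · have := hE.1.is_comm.comm (⟨a, ha⟩ : E) ⟨b, hb⟩
      exact congrArg Subtype.val this
    · rw [Set.mem_singleton_iff] at hb; subst hb; exact (hxE a ha).symm
    · rw [Set.mem_singleton_iff] at ha; subst ha; exact hxE b hb
    · rw [Set.mem_singleton_iff] at ha hb; subst ha; subst hb; rfl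
  have hc' : IsMulCommutative (Subgroup.closure ((E : Set X) ∪ {x})) :=
    Subgroup.isMulCommutative_closure hcomm
  refine ⟨hc', ?_⟩
  intro a ha
  induction ha using Subgroup.closure_induction with
  | mem y hy =>
    rcases hy with hy | hy
    · exact hE.2 y hy
    · rw [Set.mem_singleton_iff] at hy; subst hy; exact hx
  | one => exact one_pow _
  | mul y z hy hz ihy ihz =>
    have : (⟨y, hy⟩ : Subgroup.closure ((E : Set X) ∪ {x})) * ⟨z, hz⟩ = ⟨z, hz⟩ * ⟨y, hy⟩ :=
      hc'.is_comm.comm _ _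
    have hc : Commute y z := congrArg Subtype.val this
    rw [hc.mul_pow, ihy, ihz, one_mul]
  | inv y hy ihy => rw [inv_pow, ihy, inv_one]

theorem isPGroup_of_elemAb {X : Type*} [Group X] (p : ℕ) (E : Subgroup X)
    (hE : IsElementaryAbelian p E) : IsPGroup p E := by
  intro e
  exact ⟨1, by rw [pow_one]; exact Subtype.ext (hE.2 e e.2)⟩

theorem main {G : Type*} [Group G] [Finite G] [Group.IsSolvable G] (p : ℕ) [Fact p.Prime] (hp : p ≠ 2) (hpl : Cfsg.PLengthLE p 1 G) (E L : Subgroup G) (hE : Cfsg.IsElementaryAbelian p E)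
    (hEmax : ∀ B : Subgroup G, Cfsg.IsElementaryAbelian p B → E ≤ B → B = E) (hL : (Nat.card L).Coprime p) (hEL : E ≤ Subgroup.normalizer (L : Set G)) :
    L ≤ Cfsg.pPrimeCore p G := by
  have hOc : (Nat.card (pPrimeCore p G)).Coprime p := pPrimeCore_card_coprime p
  obtain ⟨S⟩ : Nonempty (Sylow p G) := inferInstance
  obtain ⟨hNn, hNi, -, hOS⟩ := PLength.pLengthLE_one_core p hpl S
  set π := QuotientGroup.mk' (pPrimeCore p G) with hπ
  have hsurj : Function.Surjective π := QuotientGroup.mk'_surjective (pPrimeCore p G)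
  have hker : π.ker = (pPrimeCore p G) := QuotientGroup.ker_mk' (pPrimeCore p G)
  have hObot : pPrimeCore p (G ⧸ (pPrimeCore p G)) = ⊥ := pPrimeCore_quotient_eq_bot p
  -- the image of S
  set Sb : Subgroup (G ⧸ (pPrimeCore p G)) := (S : Subgroup G).map π with hSb
  have hmapO : (pPrimeCore p G).map π = ⊥ := by
    rw [eq_bot_iff]
    rintro _ ⟨o, ho, rfl⟩
    rw [Subgroup.mem_bot]
    exact (QuotientGroup.eq_one_iff o).mpr ho
  have hSb' : ((pPrimeCore p G) ⊔ (S : Subgroup G)).map π = Sb := by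
    rw [Subgroup.map_sup, hmapO, bot_sup_eq]
  haveI hSbn : Sb.Normal := hSb' ▸ hNn.map π hsurj
  have hSbi : Sb.index.Coprime p := by
    rw [← hSb', Subgroup.index_map_eq _ hsurj (by rw [hker]; exact le_sup_left)]
    exact hNi
  have hSbp : IsPGroup p Sb := S.2.map π
  have hPS : pCore p (G ⧸ (pPrimeCore p G)) = Sb := by
    apply le_antisymm
    · exact PLength.le_of_isPGroup_of_index_coprime hSbi (pCore_isPGroup p)
    · exact le_pCore hSbn hSbp
  have hCS : Subgroup.centralizer (Sb : Set (G ⧸ (pPrimeCore p G))) ≤ Sb := by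
    have := centralizer_pCore_le (G := G ⧸ (pPrimeCore p G)) p hObot
    rwa [hPS] at this
  -- images of E and L
  have hEp : IsPGroup p E := isPGroup_of_elemAb p E hE
  set Eb : Subgroup (G ⧸ (pPrimeCore p G)) := E.map π with hEb
  set Lb : Subgroup (G ⧸ (pPrimeCore p G)) := L.map π with hLb
  have hEbp : IsPGroup p Eb := hEp.map π
  have hEbS : Eb ≤ Sb := PLength.le_of_isPGroup_of_index_coprime hSbi hEbp
  have hLbc : (Nat.card Lb).Coprime p :=
    Nat.Coprime.coprime_dvd_left (Subgroup.card_map_dvd L π) hL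
  have hEbL : Eb ≤ Subgroup.normalizer (Lb : Set (G ⧸ (pPrimeCore p G))) :=
    (Subgroup.map_mono hEL).trans (Subgroup.le_normalizer_map π)
  have hSL : Sb ⊓ Lb = ⊥ := by
    apply (Subgroup.disjoint_of_coprime_natCard _).eq_bot
    obtain ⟨a, ha⟩ := IsPGroup.iff_card.mp hSbp
    rw [ha]
    exact (Nat.Coprime.pow_right _ hLbc).symm
  have hLE : ⁅Lb, Eb⁆ = ⊥ := by
    rw [eq_bot_iff, ← hSL]
    apply le_inf
    · exact (Subgroup.commutator_mono le_top hEbS).trans (Subgroup.commutator_le_right _ _)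
    · exact Subgroup.le_normalizer_iff_commutator_le_left.mp hEbL
  have hLcE : Lb ≤ Subgroup.centralizer (Eb : Set (G ⧸ (pPrimeCore p G))) :=
    Subgroup.commutator_eq_bot_iff_le_centralizer.mp hLE
  -- maximality of E passes to the quotient
  have hmax : ∀ x : G ⧸ (pPrimeCore p G), x ^ p = 1 → (∀ e ∈ Eb, x * e = e * x) → x ∈ Eb := by
    intro x hx hxE
    have hEbe : IsElementaryAbelian p Eb := by
      refine ⟨?_, ?_⟩
      · haveI := hE.1
        exact Subgroup.map_isMulCommutative E π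
      · rintro _ ⟨e, he, rfl⟩
        rw [← map_pow, hE.2 e he, map_one]
    have hB := elemAb_sup p Eb hEbe x hx hxE
    set B := Subgroup.closure ((Eb : Set (G ⧸ (pPrimeCore p G))) ∪ {x}) with hBdef
    have hEB : Eb ≤ B := by
      intro e he
      exact Subgroup.subset_closure (Or.inl he)
    obtain ⟨T, hET, hTp, hTB, hTO⟩ :=
      LiftPSub.exists_lift p (pPrimeCore p G) hOc E hEp B (isPGroup_of_elemAb p B hB) hEB
    have hTe : IsElementaryAbelian p T := by
      have hinj : ∀ t ∈ T, π t = 1 → t = 1 := by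
        intro t ht h1
        have : t ∈ T ⊓ (pPrimeCore p G) := ⟨ht, (QuotientGroup.eq_one_iff t).mp h1⟩
        rwa [hTO, Subgroup.mem_bot] at this
      refine ⟨⟨⟨?_⟩⟩, ?_⟩
      · rintro ⟨a, ha⟩ ⟨b, hb⟩
        apply Subtype.ext
        show a * b = b * a
        have h1 : π a ∈ B := hTB ▸ Subgroup.mem_map_of_mem π ha
        have h2 : π b ∈ B := hTB ▸ Subgroup.mem_map_of_mem π hb
        have h3 : π a * π b = π b * π a :=
          congrArg Subtype.val (hB.1.is_comm.comm (⟨π a, h1⟩ : B) ⟨π b, h2⟩)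
        have h4 : a * b * (b * a)⁻¹ = 1 := by
          apply hinj _ (T.mul_mem (T.mul_mem ha hb) (T.inv_mem (T.mul_mem hb ha)))
          rw [map_mul, map_inv, map_mul, map_mul, h3, mul_inv_cancel]
        exact mul_inv_eq_one.mp h4
      · intro t ht
        apply hinj _ (T.pow_mem ht p)
        rw [map_pow]
        exact hB.2 _ (hTB ▸ Subgroup.mem_map_of_mem π ht)
    have hTE : T = E := hEmax T hTe hET
    have : x ∈ B := Subgroup.subset_closure (Or.inr rfl)
    rw [← hTB, hTE] at this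
    exact this
  -- the crux: C_Sb(Eb) ≤ C(Lb)
  have hcrux : Sb ⊓ Subgroup.centralizer (Eb : Set (G ⧸ (pPrimeCore p G))) ≤
      Subgroup.centralizer (Lb : Set (G ⧸ (pPrimeCore p G))) := by
    intro c hc
    rw [Subgroup.mem_centralizer_iff]
    intro l hl
    set C := Sb ⊓ Subgroup.centralizer (Eb : Set (G ⧸ (pPrimeCore p G))) with hCdef
    have hCp : IsPGroup p C := hSbp.to_le inf_le_left
    have hlN : l ∈ Subgroup.normalizer (C : Set (G ⧸ (pPrimeCore p G))) := by
      have hlC : l ∈ Subgroup.centralizer (Eb : Set (G ⧸ (pPrimeCore p G))) := hLcE hl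
      rw [Subgroup.mem_normalizer_iff]
      intro h
      constructor
      · rintro ⟨h1, h2⟩
        exact ⟨hSbn.conj_mem h h1 l, Subgroup.mul_mem _ (Subgroup.mul_mem _ hlC h2)
          (Subgroup.inv_mem _ hlC)⟩
      · rintro ⟨h1, h2⟩
        have e : h = l⁻¹ * (l * h * l⁻¹) * l⁻¹⁻¹ := by group
        rw [e]
        exact ⟨hSbn.conj_mem _ h1 l⁻¹, Subgroup.mul_mem _ (Subgroup.mul_mem _
          (Subgroup.inv_mem _ hlC) h2) (Subgroup.inv_mem _ (Subgroup.inv_mem _ hlC))⟩
    have hlo : (orderOf l).Coprime p := by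
      have : orderOf l ∣ Nat.card Lb := by
        have := orderOf_dvd_natCard (⟨l, hl⟩ : Lb)
        rwa [Subgroup.orderOf_mk] at this
      exact Nat.Coprime.coprime_dvd_left this hLbc
    have hfix : ∀ x ∈ C, x ^ p = 1 → l * x = x * l := by
      intro x hxC hxp
      have hxE : x ∈ Eb := by
        apply hmax x hxp
        intro e he
        exact (Subgroup.mem_centralizer_iff.mp hxC.2 e he).symm
      exact (Subgroup.mem_centralizer_iff.mp (hLcE hl) x hxE).symm
    exact FixOmega.centralizes_of_centralizes_omega hp C hCp l hlN hlo hfix c hc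
  have hAxB := thompson_AxB p Lb Eb hEbp hLbc hLE _ Sb rfl hSbp
    (by rw [Subgroup.normalizer_eq_top_iff.mpr hSbn]; exact le_top)
    (by rw [Subgroup.normalizer_eq_top_iff.mpr hSbn]; exact le_top) hcrux
  have hLC : Lb ≤ Subgroup.centralizer (Sb : Set (G ⧸ (pPrimeCore p G))) := by
    rw [Subgroup.commutator_comm] at hAxB
    exact Subgroup.commutator_eq_bot_iff_le_centralizer.mp hAxB
  have hLbot : Lb = ⊥ := by
    rw [eq_bot_iff, ← hSL]
    exact le_inf (hLC.trans hCS) le_rfl
  intro l hl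
  have : π l ∈ Lb := Subgroup.mem_map_of_mem π hl
  rw [hLbot, Subgroup.mem_bot] at this
  exact (QuotientGroup.eq_one_iff l).mp this


theorem result {G : Type*} [Group G] [Finite G] [Group.IsSolvable G] (p : ℕ) [Fact p.Prime] (hp : p ≠ 2) (hpl : Cfsg.PLengthLE p 1 G) (E L : Subgroup G) (hE : Cfsg.IsElementaryAbelian p E)
    (hEmax : ∀ B : Subgroup G, Cfsg.IsElementaryAbelian p B → E ≤ B → B = E) (hL : (Nat.card L).Coprime p) (hEL : E ≤ Subgroup.normalizer (L : Set G)) :
    L ≤ Cfsg.pPrimeCore p G := by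
  exact main p hp hpl E L hE hEmax hL hEL

end Cfsg.Agent.S1462
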