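import Mathlib
import Cfsg.Statements.S1466
import Cfsg.Agent.Lib.Lead.Puig2

namespace Cfsg.Agent.S1466

open Cfsg.Agent.Lib.Lead.Puig

theorem result {R : Type*} [Group R] [Finite R] (p : ℕ) [Fact p.Prime] (hR : IsPGroup p R) [Nontrivial R] :
    (∀ i : ℕ, 0 < i → Subgroup.center R ≤ Subgroup.centralizer ((Cfsg.puigSeq R i : Subgroup R) : Set R) ∧
        Subgroup.centralizer ((Cfsg.puigSeq R i : Subgroup R) : Set R) ≤ Cfsg.puigSeq R i) ∧
      (Subgroup.center R ≤ Subgroup.centralizer ((Cfsg.puigLower R : Subgroup R) : Set R) ∧ Subgroup.centralizer ((Cfsg.puigLower R : Subgroup R) : Set R) ≤ Cfsg.puigLower R) ∧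
      (Subgroup.center R ≤ Subgroup.centralizer ((Cfsg.puigSubgroup R : Subgroup R) : Set R) ∧ Subgroup.centralizer ((Cfsg.puigSubgroup R : Subgroup R) : Set R) ≤ Cfsg.puigSubgroup R) ∧
      Cfsg.puigSubgroup R ≠ ⊥ ∧ Cfsg.puigLower R ≠ ⊥ := by
  have hmain : ∀ i : ℕ, 0 < i → Subgroup.center R ≤ Subgroup.centralizer ((Cfsg.puigSeq R i : Subgroup R) : Set R) ∧
        Subgroup.centralizer ((Cfsg.puigSeq R i : Subgroup R) : Set R) ≤ Cfsg.puigSeq R i := by
    intro i hi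
    refine ⟨Subgroup.center_le_centralizer _, ?_⟩
    obtain ⟨j, rfl⟩ : ∃ j, i = j + 1 := ⟨i - 1, by omega⟩
    rw [puigSeq_succ]
    haveI := puigSeq_normal (G := R) j
    exact centralizer_puigStep_le hR _
  obtain ⟨k, hk⟩ := exists_stable (G := R)
  have hlow : Cfsg.puigLower R = Cfsg.puigSeq R (2 * (k + 1)) := ((hk (k + 1) (Nat.le_succ k)).1).symm
  have hup : Cfsg.puigSubgroup R = Cfsg.puigSeq R (2 * k + 1) := ((hk k le_rfl).2).symm
  have h1 := hmain (2 * (k + 1)) (by omega)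
  have h2 := hmain (2 * k + 1) (by omega)
  rw [← hlow] at h1
  rw [← hup] at h2
  have hne : ∀ L : Subgroup R, Subgroup.centralizer (L : Set R) ≤ L → L ≠ ⊥ := by
    intro L hL hbot
    rw [hbot] at hL
    have : (⊤ : Subgroup R) ≤ ⊥ := by
      have e : Subgroup.centralizer (((⊥ : Subgroup R) : Subgroup R) : Set R) = ⊤ := by
        rw [Subgroup.coe_bot]; exact Subgroup.centralizer_eq_top_iff_subset.mpr (by simp)
      rw [← e]; exact hL
    obtain ⟨x, hx⟩ := exists_ne (1 : R)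
    exact hx (Subgroup.mem_bot.mp (this (Subgroup.mem_top x)))
  exact ⟨hmain, h1, h2, hne _ h2.2, hne _ h1.2⟩

end Cfsg.Agent.S1466
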