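import Mathlib
import Cfsg.Statements.S1470

set_option autoImplicit false

open Cfsg

namespace Cfsg.Agent.S1470

theorem result (p q : ℕ) [Fact p.Prime] [Fact q.Prime] (hp : p ≠ 2) (hq : q ≠ 2) (hA : Nat.Coprime ((p ^ q - 1) / (p - 1)) (p - 1))
    (hinv : ∀ a ∈ {a : GaloisField p q | Algebra.norm (ZMod p) a = 1 ∧ Algebra.norm (ZMod p) (2 - a) = 1}, a⁻¹ ∈ {a : GaloisField p q | Algebra.norm (ZMod p) a = 1 ∧ Algebra.norm (ZMod p) (2 - a) = 1})
    (h2 : 2 ≤ Set.ncard {a : GaloisField p q | Algebra.norm (ZMod p) a = 1 ∧ Algebra.norm (ZMod p) (2 - a) = 1}) :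
    p ≤ q := by
  classical
  set E : Set (GaloisField p q) := {a : GaloisField p q | Algebra.norm (ZMod p) a = 1 ∧
    Algebra.norm (ZMod p) (2 - a) = 1} with hE
  have hq0 : q ≠ 0 := (Fact.out : q.Prime).ne_zero
  -- a nonidentity element of E
  have h1E : (1 : GaloisField p q) ∈ E := by
    refine ⟨map_one _, ?_⟩
    have : (2 : GaloisField p q) - 1 = 1 := by ring
    rw [this, map_one]
  obtain ⟨a, haE, ha1⟩ : ∃ a ∈ E, a ≠ 1 := by
    by_contra hcon
    push_neg at hcon
    have hsub : E ⊆ {1} := fun a ha => hcon a ha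
    have := Set.ncard_le_ncard hsub (Set.finite_singleton _)
    rw [Set.ncard_singleton] at this
    omega
  have hsymm : ∀ b ∈ E, 2 - b ∈ E := by
    rintro b ⟨hb1, hb2⟩
    refine ⟨hb2, ?_⟩
    have : (2 : GaloisField p q) - (2 - b) = b := by ring
    rw [this]; exact hb1
  have hne0 : ∀ b ∈ E, b ≠ 0 := by
    rintro b ⟨hb1, _⟩ rfl
    rw [Algebra.norm_zero] at hb1
    exact zero_ne_one hb1
  -- the sequence a_{k+1} = 2 - a_k⁻¹
  let s : ℕ → GaloisField p q := fun k => Nat.rec a (fun _ b => 2 - b⁻¹) k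
  have hs0 : s 0 = a := rfl
  have hss : ∀ k, s (k + 1) = 2 - (s k)⁻¹ := fun k => rfl
  have hsE : ∀ k, s k ∈ E := by
    intro k
    induction k with
    | zero => exact haE
    | succ k ih => rw [hss]; exact hsymm _ (hinv _ ih)
  let b : ℕ → GaloisField p q := fun k => ∏ i ∈ Finset.range k, s i
  have hb0 : b 0 = 1 := by simp [b]
  have hbs : ∀ k, b (k + 1) = b k * s k := fun k => Finset.prod_range_succ _ _
  set x := a - 1 with hx
  have hx0 : x ≠ 0 := sub_ne_zero.2 ha1
  have hb : ∀ k : ℕ, b k = 1 + k * x ∧ b (k + 1) = 1 + (k + 1 : ℕ) * x := by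
    intro k
    induction k with
    | zero =>
      refine ⟨by simp [hb0], ?_⟩
      rw [hbs, hb0, hs0, hx]; push_cast; ring
    | succ k ih =>
      refine ⟨ih.2, ?_⟩
      rw [hbs (k + 1), hss, mul_sub, ih.2]
      have h1 : b (k + 1) * (s k)⁻¹ = b k := by
        rw [hbs, mul_assoc, mul_inv_cancel₀ (hne0 _ (hsE k)), mul_one]
      rw [← ih.2, h1, ih.2, ih.1]
      push_cast; ring
  have hNb : ∀ k, Algebra.norm (ZMod p) (b k) = 1 := by
    intro k
    simp only [b]
    rw [map_prod]
    exact Finset.prod_eq_one (fun i _ => (hsE i).1)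
  have hN : ∀ k : ℕ, Algebra.norm (ZMod p) (1 + (k : GaloisField p q) * x) = 1 := by
    intro k
    rw [← (hb k).1]; exact hNb k
  -- polynomial argument
  haveI : FiniteDimensional (ZMod p) (GaloisField p q) := inferInstance
  have hprod : ∀ k : ℕ, ∏ σ : (GaloisField p q) ≃ₐ[ZMod p] (GaloisField p q),
      (1 + (k : GaloisField p q) * σ x) = 1 := by
    intro k
    have h := Algebra.norm_eq_prod_automorphisms (ZMod p) (1 + (k : GaloisField p q) * x)
    rw [hN k, map_one] at h
    calc ∏ σ : (GaloisField p q) ≃ₐ[ZMod p] (GaloisField p q), (1 + (k : GaloisField p q) * σ x)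
        = ∏ σ : (GaloisField p q) ≃ₐ[ZMod p] (GaloisField p q),
            σ (1 + (k : GaloisField p q) * x) := Finset.prod_congr rfl (fun σ _ => by simp)
      _ = 1 := h.symm
  let Q : Polynomial (GaloisField p q) :=
    ∏ σ : (GaloisField p q) ≃ₐ[ZMod p] (GaloisField p q),
      (Polynomial.C (σ x) * Polynomial.X + 1)
  have hlead : ∀ σ : (GaloisField p q) ≃ₐ[ZMod p] (GaloisField p q),
      (Polynomial.C (σ x) * Polynomial.X + 1 : Polynomial (GaloisField p q)).leadingCoeff = σ x := by
    intro σ
    have hσ : σ x ≠ 0 := by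
      intro h0
      exact hx0 (by simpa using h0)
    rw [show (1 : Polynomial (GaloisField p q)) = Polynomial.C 1 from (map_one _).symm,
      Polynomial.leadingCoeff_linear hσ]
  have hdeg1 : ∀ σ : (GaloisField p q) ≃ₐ[ZMod p] (GaloisField p q),
      (Polynomial.C (σ x) * Polynomial.X + 1 : Polynomial (GaloisField p q)).natDegree = 1 := by
    intro σ
    have hσ : σ x ≠ 0 := by
      intro h0
      exact hx0 (by simpa using h0)
    rw [show (1 : Polynomial (GaloisField p q)) = Polynomial.C 1 from (map_one _).symm,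
      Polynomial.natDegree_linear hσ]
  have hQdeg : Q.natDegree = q := by
    have hne : ∏ σ : (GaloisField p q) ≃ₐ[ZMod p] (GaloisField p q),
        (Polynomial.C (σ x) * Polynomial.X + 1 : Polynomial (GaloisField p q)).leadingCoeff ≠ 0 := by
      rw [Finset.prod_ne_zero_iff]
      intro σ _
      rw [hlead]
      intro h0
      exact hx0 (by simpa using h0)
    rw [Polynomial.natDegree_prod' _ _ hne]
    simp only [hdeg1, Finset.sum_const, Finset.card_univ, smul_eq_mul, mul_one]
    rw [← Nat.card_eq_fintype_card, IsGalois.card_aut_eq_finrank, GaloisField.finrank p hq0]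
  have hq1 : 1 ≤ q := (Fact.out : q.Prime).one_le
  let R : Polynomial (GaloisField p q) := Q - Polynomial.C 1
  have hRdeg : R.natDegree = q := by
    rw [Polynomial.natDegree_sub_C, hQdeg]
  have hR0 : R ≠ 0 := by
    intro h0
    rw [h0, Polynomial.natDegree_zero] at hRdeg
    omega
  have hroot : ∀ k : ℕ, (k : GaloisField p q) ∈ R.roots := by
    intro k
    rw [Polynomial.mem_roots hR0, Polynomial.IsRoot.def]
    simp only [R, Q, Polynomial.eval_sub, Polynomial.eval_prod, Polynomial.eval_add,
      Polynomial.eval_mul, Polynomial.eval_C, Polynomial.eval_X, Polynomial.eval_one]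
    rw [sub_eq_zero]
    calc ∏ σ : (GaloisField p q) ≃ₐ[ZMod p] (GaloisField p q), (σ x * (k : GaloisField p q) + 1)
        = ∏ σ : (GaloisField p q) ≃ₐ[ZMod p] (GaloisField p q),
            (1 + (k : GaloisField p q) * σ x) := Finset.prod_congr rfl (fun σ _ => by ring)
      _ = 1 := hprod k
  haveI : CharP (GaloisField p q) p := inferInstance
  let Z : Finset (GaloisField p q) := (Finset.range p).image (fun k : ℕ => (k : GaloisField p q))
  have hZcard : Z.card = p := by
    rw [Finset.card_image_of_injOn, Finset.card_range]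
    intro i hi j hj hij
    have := CharP.natCast_injOn_Iio (GaloisField p q) p
    exact this (by simpa using hi) (by simpa using hj) hij
  have hZsub : Z.val ⊆ R.roots := by
    intro z hz
    have hz' : z ∈ Z := hz
    simp only [Z, Finset.mem_image, Finset.mem_range] at hz'
    obtain ⟨k, _, rfl⟩ := hz'
    exact hroot k
  have := Polynomial.card_le_degree_of_subset_roots hZsub
  rw [hZcard, hRdeg] at this
  exact this

end Cfsg.Agent.S1470
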