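import Mathlib
import Cfsg.Statements.S1474
import Cfsg.Agent.Lib.Lead.CNFrob
import Cfsg.Agent.Lib.Helper1.FrobeniusBasic

set_option autoImplicit false
open Cfsg

namespace Cfsg.Agent.S1474

open Cfsg.Agent.Lib.Lead.CNFrob Cfsg.Agent.Lib.Lead.FittingHall

/-- Let G be a finite group in which every non-identity element has nilpotent centralizer, not itself nilpotent, and having a nontrivial normal Sylow p-subgroup for some prime p. Let H be the largest normal nilpotent Hall subgroup of G. Then H is a nontrivial proper normal subgroup with a complement E that is a Frobenius complement in G (no non-identity element of E centralizes a non-identity element of H), and G/H is nilpotent. -/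
theorem result {G : Type*} [Group G] [Finite G] (hCN : Cfsg.IsCNGroup G) (hnn : ¬ Group.IsNilpotent G) (p : ℕ) [Fact p.Prime] (P : Sylow p G)
    (hP1 : (P : Subgroup G) ≠ ⊥) (hPn : (P : Subgroup G).Normal) :
    Cfsg.fittingHall G ≠ ⊥ ∧ Cfsg.fittingHall G ≠ ⊤ ∧
      (∃ E : Subgroup G, Subgroup.IsComplement' (Cfsg.fittingHall G) E ∧ Cfsg.IsFrobeniusComplement E ∧
        ∀ e ∈ E, e ≠ 1 → Cfsg.fittingHall G ⊓ Subgroup.centralizer ({e} : Set G) = ⊥) ∧
      Group.IsNilpotent (G ⧸ Cfsg.fittingHall G) := by
  classical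
  have hp : p.Prime := Fact.out
  have Hnil := fittingHall_isNilpotent G
  have Hcop := fittingHall_coprime G
  have hPH : (P : Subgroup G) ≤ fittingHall G :=
    le_fittingHall hPn P.2.isNilpotent P.card_coprime_index
  have hHbot : fittingHall G ≠ ⊥ := by
    intro h
    apply hP1
    rw [eq_bot_iff, ← h]
    exact hPH
  have hHtop : fittingHall G ≠ ⊤ := by
    intro h
    apply hnn
    rw [h] at Hnil
    haveI := Hnil
    exact Group.nilpotent_of_mulEquiv (Subgroup.topEquiv (G := G))
  obtain ⟨E, hE⟩ := Subgroup.exists_right_complement'_of_coprime Hcop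
  have hfpf := fittingHall_fpf hCN E hE
  have hE1 : E ≠ ⊥ := by
    intro h
    rw [h] at hE
    exact hHtop (Subgroup.isComplement'_bot_right.mp hE)
  refine ⟨hHbot, hHtop, ⟨E, hE,
    (Cfsg.Agent.Lib.Helper1.frobenius_iff_fpf (fittingHall G) E hE hHbot hE1).mpr hfpf, hfpf⟩, ?_⟩
  -- V = Z(P)
  haveI := hPn
  have hVn : ((P : Subgroup G) ⊓ Subgroup.centralizer ((P : Subgroup G) : Set G)).Normal :=
    inferInstance
  have hVc : ∀ a ∈ (P : Subgroup G) ⊓ Subgroup.centralizer ((P : Subgroup G) : Set G),
      ∀ b ∈ (P : Subgroup G) ⊓ Subgroup.centralizer ((P : Subgroup G) : Set G), a * b = b * a := by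
    intro a ha b hb
    exact (Subgroup.mem_centralizer_iff.mp ha.2 b hb.1).symm
  have hV1 : (P : Subgroup G) ⊓ Subgroup.centralizer ((P : Subgroup G) : Set G) ≠ ⊥ := by
    haveI : Nontrivial (P : Subgroup G) := (Subgroup.nontrivial_iff_ne_bot _).mpr hP1
    haveI := P.2.center_nontrivial
    obtain ⟨⟨z0, hz0c⟩, hz01⟩ := exists_ne (1 : Subgroup.center (P : Subgroup G))
    intro e
    have hmem : (z0 : G) ∈ (P : Subgroup G) ⊓ Subgroup.centralizer ((P : Subgroup G) : Set G) := by
      refine ⟨z0.2, ?_⟩
      show (z0 : G) ∈ Subgroup.centralizer ((P : Subgroup G) : Set G)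
      rw [Subgroup.mem_centralizer_iff]
      intro x hx
      have := Subgroup.mem_center_iff.mp hz0c ⟨x, hx⟩
      exact congrArg Subtype.val this
    rw [e] at hmem
    apply hz01
    apply Subtype.ext
    apply Subtype.ext
    exact Subgroup.mem_bot.mp hmem
  have hVp : IsPGroup p ((P : Subgroup G) ⊓ Subgroup.centralizer ((P : Subgroup G) : Set G) :
      Subgroup G) := P.2.to_le inf_le_left
  have hpE : ¬ p ∣ Nat.card E := by
    intro hdvd
    have hidx : (fittingHall G).index = Nat.card E := hE.symm.index_eq_card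
    have h1 : p ∣ Nat.card (fittingHall G) := by
      have h2 : p ∣ Nat.card (P : Subgroup G) := by
        obtain ⟨n, hn⟩ := P.2.exists_card_eq
        have hn0 : n ≠ 0 := by
          intro h0
          rw [h0, pow_zero] at hn
          exact hP1 (Subgroup.card_eq_one.mp hn)
        rw [hn]; exact dvd_pow_self p hn0
      exact h2.trans (Subgroup.card_dvd_of_le hPH)
    rw [← hidx] at hdvd
    have := Nat.dvd_gcd h1 hdvd
    rw [Hcop] at this
    exact hp.one_lt.ne' (Nat.dvd_one.mp this)
  have hEnil : Group.IsNilpotent E := by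
    refine nilpotent_of_fpf hCN _ hVc hV1 p hp hVp E hpE ?_
    intro e he he1 v hv hev
    have hmem : v ∈ fittingHall G ⊓ Subgroup.centralizer ({e} : Set G) := by
      refine ⟨hPH hv.1, ?_⟩
      show v ∈ Subgroup.centralizer ({e} : Set G)
      rw [mem_cent_single]; exact hev
    rw [hfpf e he he1] at hmem
    exact Subgroup.mem_bot.mp hmem
  haveI := hEnil
  let f : E →* G ⧸ fittingHall G := (QuotientGroup.mk' (fittingHall G)).comp E.subtype
  have hf : Function.Surjective f := by
    intro x
    obtain ⟨g, rfl⟩ := QuotientGroup.mk_surjective x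
    obtain ⟨⟨⟨h, hh⟩, ⟨e, he⟩⟩, rfl⟩ := hE.2 g
    refine ⟨⟨e, he⟩, ?_⟩
    show (QuotientGroup.mk e : G ⧸ fittingHall G) = QuotientGroup.mk (h * e)
    rw [QuotientGroup.eq]
    have := (inferInstance : (fittingHall G).Normal).conj_mem' h hh e
    simpa [mul_assoc] using this
  exact Group.nilpotent_of_surjective f hf

end Cfsg.Agent.S1474
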