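import Mathlib
import Cfsg.Statements.S1476
import Cfsg.Agent.Lib.Lead.CNSolv
import Cfsg.Agent.S1474

set_option autoImplicit false
open Cfsg

namespace Cfsg.Agent.S1476

open Cfsg.Agent.Lib.Lead.CNSolv Cfsg.Agent.Lib.Lead.CNFrob Cfsg.Agent.Lib.Lead.UniqueP
  Cfsg.Agent.Lib.Lead.NilpotentCoprime Cfsg.Agent.Lib.Lead.FittingHall

/-- Case A: a nontrivial normal Sylow subgroup. -/
theorem caseA {G : Type*} [Group G] [Finite G] (hCN : Cfsg.IsCNGroup G)
    (hnn : ¬ Group.IsNilpotent G) (p : ℕ) [Fact p.Prime] (P : Sylow p G)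
    (hP1 : (P : Subgroup G) ≠ ⊥) (hPn : (P : Subgroup G).Normal) :
    ∃ K E : Subgroup G, K.Normal ∧ Subgroup.IsComplement' K E ∧ Cfsg.IsFrobeniusComplement E ∧
        (IsCyclic E ∨ ∃ C Q : Subgroup G, C ⊔ Q = E ∧ (∀ a ∈ C, ∀ b ∈ Q, a * b = b * a) ∧ IsCyclic C ∧ Odd (Nat.card C) ∧
          ∃ n : ℕ, Nonempty (↥Q ≃* QuaternionGroup (2 ^ n))) := by
  classical
  obtain ⟨hHbot, hHtop, ⟨E, hE, hEfrob, hEfpf⟩, hGHnil⟩ :=
    Cfsg.Agent.S1474.result hCN hnn p P hP1 hPn
  refine ⟨fittingHall G, E, inferInstance, hE, hEfrob, ?_⟩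
  -- E nilpotent
  have hEnil : Group.IsNilpotent E := by
    let f : E →* G ⧸ fittingHall G := (QuotientGroup.mk' (fittingHall G)).comp E.subtype
    haveI := hGHnil
    refine Subgroup.isNilpotent_of_ker_le_center f ?_
    intro x hx
    have hxH : (x : G) ∈ fittingHall G := by
      have := MonoidHom.mem_ker.mp hx
      exact (QuotientGroup.eq_one_iff _).mp this
    have hmem : (x : G) ∈ fittingHall G ⊓ E := ⟨hxH, x.2⟩
    rw [hE.disjoint.eq_bot, Subgroup.mem_bot] at hmem
    have : x = 1 := Subtype.ext hmem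
    rw [this]; exact Subgroup.one_mem _
  haveI := hEnil
  by_cases hZ : IsZGroup E
  · left
    infer_instance
  right
  -- a noncyclic Sylow subgroup
  have hex : ∃ (r : ℕ) (_ : r.Prime) (S : Sylow r E), ¬ IsCyclic S := by
    by_contra hcon
    push Not at hcon
    exact hZ ⟨fun r hr S => hcon r hr S⟩
  obtain ⟨r, hr, S, hSnc⟩ := hex
  haveI : Fact r.Prime := ⟨hr⟩
  have hS'p : IsPGroup r ((S : Subgroup E).map E.subtype) := S.2.map _
  have hS'E : (S : Subgroup E).map E.subtype ≤ E := Subgroup.map_subtype_le _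
  have hu := uop_of_fpf (fittingHall G) hHbot r _ hS'p (fun h hh hh1 => hEfpf h (hS'E hh) hh1)
  have e : (S : Subgroup E) ≃* ((S : Subgroup E).map E.subtype) :=
    (S : Subgroup E).equivMapOfInjective E.subtype E.subtype_injective
  rcases cyclic_or_quaternion r hS'p hu with hc | ⟨h2, hquat⟩
  · exfalso
    haveI := hc
    exact hSnc (isCyclic_of_surjective e.symm e.symm.surjective)
  subst h2
  -- complement of S in E
  haveI hSn : (S : Subgroup E).Normal := inferInstance
  obtain ⟨C', hC'⟩ := Subgroup.exists_right_complement'_of_coprime S.card_coprime_index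
  have hC'card : Nat.card C' = (S : Subgroup E).index := hC'.symm.index_eq_card.symm
  have hS1 : (S : Subgroup E) ≠ ⊥ := by
    intro h
    apply hSnc
    haveI : Subsingleton (S : Subgroup E) := by rw [h]; infer_instance
    exact isCyclic_of_subsingleton
  have h2S : 2 ∣ Nat.card (S : Subgroup E) := by
    obtain ⟨n, hn⟩ := S.2.exists_card_eq
    have hn0 : n ≠ 0 := by
      intro h0
      rw [h0, pow_zero] at hn
      exact hS1 (Subgroup.card_eq_one.mp hn)
    rw [hn]; exact dvd_pow_self 2 hn0
  have hC'odd : Odd (Nat.card C') := by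
    rw [hC'card, ← Nat.not_even_iff_odd, even_iff_two_dvd]
    intro h
    have := Nat.dvd_gcd h2S h
    rw [S.card_coprime_index] at this
    omega
  have hCcard : Nat.card (C'.map E.subtype) = Nat.card C' :=
    Subgroup.card_map_of_injective E.subtype_injective
  have hCE : C'.map E.subtype ≤ E := Subgroup.map_subtype_le _
  refine ⟨C'.map E.subtype, (S : Subgroup E).map E.subtype, ?_, ?_, ?_, ?_, hquat⟩
  · have h1 := hC'.sup_eq_top
    have h2 := congrArg (Subgroup.map E.subtype) h1
    rw [Subgroup.map_sup, ← MonoidHom.range_eq_map, Subgroup.range_subtype] at h2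
    rw [sup_comm]; exact h2
  · intro a ha b hb
    apply commute_of_coprime_of_mem E hEnil (hCE ha) (hS'E hb)
    have h1 : orderOf a ∣ Nat.card (C'.map E.subtype) := Subgroup.orderOf_dvd_natCard _ ha
    obtain ⟨k, hk⟩ := orderOf_dvd_of_mem_pgroup 2 _ hS'p hb
    rw [hCcard] at h1
    apply Nat.Coprime.coprime_dvd_left h1
    apply Nat.Coprime.coprime_dvd_right hk
    apply Nat.Coprime.pow_right
    exact (Nat.coprime_two_right).mpr hC'odd
  · apply cyclic_of_odd_nilpotent_fpf (fittingHall G) hHbot _ (isNilpotent_of_le hCE hEnil)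
      (by rw [hCcard]; exact hC'odd)
    intro h hh hh1
    exact hEfpf h (hCE hh) hh1
  · rw [hCcard]; exact hC'odd

/-- Let G be a finite solvable group in which every non-identity element has nilpotent centralizer. Then either G is nilpotent; or G has a normal subgroup K with a Frobenius complement E (K E = G, K ∩ E = 1, E meets its conjugates by outside elements trivially) such that E is cyclic or E is generated by two elementwise-commuting subgroups, one cyclic of odd order and one isomorphic to a generalized quaternion group; or G is a three-step group with respect to some prime p. -/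
theorem result {G : Type*} [Group G] [Finite G] [Group.IsSolvable G] (hCN : Cfsg.IsCNGroup G) :
    Group.IsNilpotent G ∨
      (∃ K E : Subgroup G, K.Normal ∧ Subgroup.IsComplement' K E ∧ Cfsg.IsFrobeniusComplement E ∧
        (IsCyclic E ∨ ∃ C Q : Subgroup G, C ⊔ Q = E ∧ (∀ a ∈ C, ∀ b ∈ Q, a * b = b * a) ∧ IsCyclic C ∧ Odd (Nat.card C) ∧
          ∃ n : ℕ, Nonempty (↥Q ≃* QuaternionGroup (2 ^ n)))) ∨
      ∃ p : ℕ, p.Prime ∧ Cfsg.IsThreeStepGroup p G := by
  by_cases hnn : Group.IsNilpotent G
  · exact Or.inl hnn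
  right
  by_cases hns : ∀ (q : ℕ) [Fact q.Prime] (Q : Sylow q G), (Q : Subgroup G).Normal →
      (Q : Subgroup G) = ⊥
  · exact Or.inr (threeStep_of_no_normal_sylow hCN hnn hns)
  · left
    push Not at hns
    obtain ⟨q, hq, Q, hQn, hQ1⟩ := hns
    exact caseA hCN hnn q Q hQ1 hQn

end Cfsg.Agent.S1476
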