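import Mathlib
import Cfsg.Statements.S1485
import Cfsg.Agent.Lib.Helper6.Clifford

set_option autoImplicit false
open Cfsg

namespace Cfsg.Agent.S1485

open Cfsg.Agent.Lib.Helper6
open scoped ComplexConjugate

variable {G : Type*} [Group G]

/-- fibres of `x ↦ θ^x` are cosets of the stabiliser -/
theorem card_fiber [Fintype G] [DecidableEq (G → ℂ)] (H : Subgroup G) (hN : H.Normal) (θ : H → ℂ)
    (x₀ : G) [DecidableEq (H → ℂ)] :
    (Finset.univ.filter (fun x : G => Lib.Helper6.conjFun H hN θ x = Lib.Helper6.conjFun H hN θ x₀)).card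
      = Nat.card {g : G // Lib.Helper6.conjFun H hN θ g = θ} := by
  classical
  rw [Nat.card_eq_fintype_card, Fintype.card_subtype]
  apply Finset.card_bij' (fun x _ => x * x₀⁻¹) (fun y _ => y * x₀)
  · intro x hx
    rw [Finset.mem_filter] at hx ⊢
    refine ⟨Finset.mem_univ _, ?_⟩
    have h1 := hx.2
    -- θ^(x x₀⁻¹) = (θ^x)^(x₀⁻¹) = (θ^x₀)^(x₀⁻¹) = θ
    rw [← conjFun_conjFun, h1, conjFun_conjFun, mul_inv_cancel, conjFun_one]
  · intro y hy
    rw [Finset.mem_filter] at hy ⊢
    refine ⟨Finset.mem_univ _, ?_⟩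
    rw [← conjFun_conjFun, hy.2]
  · intro x _; simp
  · intro y _; simp

/-- Let H be a normal subgroup of the finite group G and θ an irreducible character of H. On H, the function induced from θ equals r times the sum of the distinct G-conjugates of θ, where r is the number of elements of G fixing θ under conjugation divided by the order of H (the index of H in the inertia group). -/
theorem result {G : Type*} [Group G] [Fintype G] (H : Subgroup G) [hN : H.Normal] (θ : H → ℂ) (hθ : Cfsg.IsIrrCharacter H θ) : (fun h : H => Cfsg.indFun H θ h) = ((Nat.card {g : G // ∀ h : H, θ ⟨g * h * g⁻¹, hN.conj_mem h h.2 g⟩ = θ h} : ℂ) / (Nat.card H : ℂ)) • ∑ᶠ ψ ∈ {ψ : H → ℂ | ∃ g : G, ψ = fun h : H => θ ⟨g * h * g⁻¹, hN.conj_mem h h.2 g⟩}, ψ := by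
  classical
  rw [indFun_restrict_of_normal H hN θ]
  -- the set of conjugates as a finset
  have hS : {ψ : H → ℂ | ∃ g : G, ψ = fun h : H => θ ⟨g * h * g⁻¹, hN.conj_mem h h.2 g⟩}
      = ((Finset.univ.image (fun x : G => Lib.Helper6.conjFun H hN θ x) : Finset (H → ℂ)) : Set (H → ℂ)) := by
    ext ψ
    simp only [Set.mem_ofPred_eq, Finset.coe_image, Finset.coe_univ, Set.image_univ, Set.mem_range]
    constructor
    · rintro ⟨g, rfl⟩; exact ⟨g, rfl⟩
    · rintro ⟨g, rfl⟩; exact ⟨g, rfl⟩
  rw [hS, finsum_mem_coe_finset]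
  have hcardI : Nat.card {g : G // ∀ h : H, θ ⟨g * h * g⁻¹, hN.conj_mem h h.2 g⟩ = θ h}
      = Nat.card {g : G // Lib.Helper6.conjFun H hN θ g = θ} := by
    apply Nat.card_congr
    apply Equiv.subtypeEquivRight
    intro g
    constructor
    · intro h; funext n; exact h n
    · intro h n; exact congrFun h n
  rw [hcardI]
  have hsum : ∑ x : G, Lib.Helper6.conjFun H hN θ x
      = ∑ ψ ∈ Finset.univ.image (fun x : G => Lib.Helper6.conjFun H hN θ x),
          (Nat.card {g : G // Lib.Helper6.conjFun H hN θ g = θ}) • ψ := by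
    rw [Finset.sum_comp (fun ψ : H → ℂ => ψ) (fun x : G => Lib.Helper6.conjFun H hN θ x)]
    apply Finset.sum_congr rfl
    intro ψ hψ
    rw [Finset.mem_image] at hψ
    obtain ⟨x₀, _, rfl⟩ := hψ
    rw [card_fiber H hN θ x₀]
  rw [hsum, ← Finset.smul_sum, div_eq_mul_inv, mul_comm, mul_smul]
  congr 1
  rw [Nat.cast_smul_eq_nsmul]

end Cfsg.Agent.S1485
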