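import Mathlib
import Cfsg.Statements.S1486
import Cfsg.Agent.S0146
import Cfsg.Agent.Lib.Helper6.Clifford
import Cfsg.Agent.Lib.Helper6.IndFunTI
import Cfsg.Agent.Lib.Helper6.Orthogonality

set_option autoImplicit false
open Cfsg

namespace Cfsg.Agent.S1486

open Cfsg.Agent.Lib.Helper6
open scoped ComplexConjugate

variable {G : Type*} [Group G]

theorem extendByZero_conjFun (H : Subgroup G) (hN : H.Normal) (θ : H → ℂ) (g z : G) :
    Cfsg.extendByZero H (Lib.Helper6.conjFun H hN θ g) z = Cfsg.extendByZero H θ (g * z * g⁻¹) := by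
  by_cases hz : z ∈ H
  · rw [extendByZero_of_mem H _ hz, extendByZero_of_mem H θ (hN.conj_mem z hz g)]
    rfl
  · rw [extendByZero_of_not_mem H _ hz, extendByZero_of_not_mem H θ]
    intro h
    apply hz
    have := hN.conj_mem _ h g⁻¹
    have e : g⁻¹ * (g * z * g⁻¹) * g⁻¹⁻¹ = z := by group
    rwa [e] at this

theorem indFun_conjFun [Fintype G] (H : Subgroup G) (hN : H.Normal) (θ : H → ℂ) (g : G) :
    Cfsg.indFun H (Lib.Helper6.conjFun H hN θ g) = Cfsg.indFun H θ := by
  funext y
  unfold Cfsg.indFun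
  congr 1
  simp_rw [extendByZero_conjFun]
  refine Fintype.sum_equiv (Equiv.mulRight g⁻¹) _ _ ?_
  intro x
  simp only [Equiv.coe_mulRight]
  congr 1
  group

/-- Let H be a normal subgroup of the finite group G and θ, φ irreducible characters of H. If φ is a G-conjugate of θ then the functions induced from θ and φ coincide; if φ is not a G-conjugate of θ then the induced functions are orthogonal. -/
theorem result {G : Type*} [Group G] [Fintype G] (H : Subgroup G) [hN : H.Normal] (θ φ : H → ℂ) (hθ : Cfsg.IsIrrCharacter H θ) (hφ : Cfsg.IsIrrCharacter H φ) : ((∃ g : G, φ = fun h : H => θ ⟨g * h * g⁻¹, hN.conj_mem h h.2 g⟩) → Cfsg.indFun H φ = Cfsg.indFun H θ) ∧ ((¬ ∃ g : G, φ = fun h : H => θ ⟨g * h * g⁻¹, hN.conj_mem h h.2 g⟩) → Cfsg.classInner (Cfsg.indFun H φ) (Cfsg.indFun H θ) = 0) := by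
  classical
  constructor
  · rintro ⟨g, rfl⟩
    exact indFun_conjFun H hN θ g
  · intro hne
    rw [Cfsg.Agent.S0146.result H φ _ (indFun_isClassFunction H θ),
      classInner_indFun_restrict_right H hN θ φ]
    have : ∀ x : G, Cfsg.classInner φ (Lib.Helper6.conjFun H hN θ x) = 0 := by
      intro x
      rw [classInner_isIrrCharacter hφ (IsIrrCharacter.conjFun H hN hθ x), if_neg]
      intro h
      exact hne ⟨x, h⟩
    simp [this]

end Cfsg.Agent.S1486
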