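import Mathlib
import Cfsg.Statements.S1487
import Cfsg.Agent.Lib.Helper6.Clifford
import Cfsg.Agent.Lib.Helper6.CharBasic

set_option autoImplicit false
open Cfsg

namespace Cfsg.Agent.S1487

open Cfsg.Agent.Lib.Helper6
open scoped ComplexConjugate

theorem eq_of_re_eq_of_norm_le (z : ℂ) (n : ℝ) (hn : ‖z‖ ≤ n) (hre : z.re = n) : z = (n : ℂ) := by
  have h0 : 0 ≤ n := le_trans (norm_nonneg z) hn
  have h1 : ‖z‖ ^ 2 = z.re ^ 2 + z.im ^ 2 := by
    rw [Complex.sq_norm, Complex.normSq_apply]; ring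
  have h2 : ‖z‖ ^ 2 ≤ n ^ 2 := pow_le_pow_left₀ (norm_nonneg z) hn 2
  have h3 : z.im ^ 2 ≤ 0 := by rw [h1, hre] at h2; linarith
  have h4 : z.im = 0 := by
    have := sq_nonneg z.im
    have h5 : z.im ^ 2 = 0 := le_antisymm h3 this
    exact pow_eq_zero_iff (by norm_num) |>.mp h5
  apply Complex.ext
  · rw [hre]; simp
  · rw [h4]; simp

/-- Let A ≤ H be normal subgroups of the finite group G and θ an irreducible character of H. Then θ takes the value θ 1 on all of A if and only if the function induced from θ to G takes its value at 1 on all of A. -/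
theorem result {G : Type*} [Group G] [Fintype G] (A H : Subgroup G) [hAn : A.Normal] [hN : H.Normal] (hAH : A ≤ H) (θ : H → ℂ) (hθ : Cfsg.IsIrrCharacter H θ) : (∀ a : H, (a : G) ∈ A → θ a = θ 1) ↔ (∀ a : G, a ∈ A → Cfsg.indFun H θ a = Cfsg.indFun H θ 1) := by
  classical
  have hHc : (Nat.card H : ℂ) ≠ 0 := card_ne_zero_complex H
  have hind1 : Cfsg.indFun H θ 1 = (Nat.card H : ℂ)⁻¹ * ∑ _x : G, θ 1 := by
    have := indFun_apply_of_normal H hN θ 1
    rw [OneMemClass.coe_one] at this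
    rw [this]
    congr 1
    apply Finset.sum_congr rfl
    intro x _
    rw [conjFun_apply]
    congr 1
    apply Subtype.ext
    simp
  have hinda : ∀ a : G, ∀ ha : a ∈ A, Cfsg.indFun H θ a
      = (Nat.card H : ℂ)⁻¹ * ∑ x : G, θ ⟨x * a * x⁻¹, hAH (hAn.conj_mem a ha x)⟩ := by
    intro a ha
    have := indFun_apply_of_normal H hN θ ⟨a, hAH ha⟩
    rw [this]
    rfl
  constructor
  · intro h a ha
    rw [hinda a ha, hind1]
    congr 1
    apply Finset.sum_congr rfl
    intro x _
    exact h ⟨x * a * x⁻¹, hAH (hAn.conj_mem a ha x)⟩ (hAn.conj_mem a ha x)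
  · intro h a ha
    have h1 := h a ha
    rw [hinda a ha, hind1] at h1
    have h2 : ∑ x : G, θ ⟨x * (a : G) * x⁻¹, hAH (hAn.conj_mem a ha x)⟩ = ∑ _x : G, θ 1 :=
      mul_left_cancel₀ (inv_ne_zero hHc) h1
    -- θ = character of ρ
    obtain ⟨n, ρ, hρ, rfl⟩ := hθ
    have hone : ρ.character 1 = ((Module.finrank ℂ (Fin n → ℂ) : ℝ) : ℂ) := by
      rw [Representation.char_one]; simp
    have hre : ∑ x : G, (ρ.character ⟨x * (a : G) * x⁻¹, hAH (hAn.conj_mem a ha x)⟩).re
        = ∑ _x : G, (Module.finrank ℂ (Fin n → ℂ) : ℝ) := by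
      have := congrArg Complex.re h2
      rw [Complex.re_sum, Complex.re_sum] at this
      rw [this]
      apply Finset.sum_congr rfl
      intro x _
      rw [hone]; simp
    have hle : ∀ x ∈ (Finset.univ : Finset G),
        (ρ.character ⟨x * (a : G) * x⁻¹, hAH (hAn.conj_mem a ha x)⟩).re
          ≤ (Module.finrank ℂ (Fin n → ℂ) : ℝ) := by
      intro x _
      exact le_trans (Complex.re_le_norm _) (norm_character_le ρ _)
    have heq := (Finset.sum_eq_sum_iff_of_le hle).mp hre 1 (Finset.mem_univ _)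
    have hnorm := norm_character_le ρ (⟨1 * (a : G) * 1⁻¹, hAH (hAn.conj_mem a ha 1)⟩ : H)
    have := eq_of_re_eq_of_norm_le _ _ hnorm heq
    rw [hone, ← this]
    congr 1
    apply Subtype.ext
    simp

end Cfsg.Agent.S1487
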