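import Mathlib
import Cfsg.Statements.S1488
import Cfsg.Agent.Lib.Helper6.IndFun
import Cfsg.Agent.Lib.Helper6.QuotChar

set_option autoImplicit false
open Cfsg

namespace Cfsg.Agent.S1488

open Cfsg.Agent.Lib.Helper6

/-- Let A be a normal subgroup of the finite group G contained in the subgroup H, let θ be a function on H and θ₁ a function on the image of H in G ⧸ A whose composite with the projection is θ. Then the function induced from θ₁ to G ⧸ A, composed with the projection G → G ⧸ A, equals the function induced from θ to G. -/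
theorem result {G : Type*} [Group G] [Fintype G] (A H : Subgroup G) [A.Normal] (hAH : A ≤ H) [Fintype (G ⧸ A)] [Fintype ↥(H.map (QuotientGroup.mk' A))] (θ : H → ℂ) (θ₁ : ↥(H.map (QuotientGroup.mk' A)) → ℂ) (hθ : ∀ x : H, θ₁ ⟨QuotientGroup.mk' A x, Subgroup.mem_map_of_mem _ x.2⟩ = θ x) (g : G) : Cfsg.indFun (H.map (QuotientGroup.mk' A)) θ₁ (QuotientGroup.mk' A g) = Cfsg.indFun H θ g := by
  classical
  have : Fintype A := Fintype.ofFinite A
  -- pointwise comparison of extensions by zero
  have hext : ∀ z : G, Cfsg.extendByZero H θ z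
      = Cfsg.extendByZero (H.map (QuotientGroup.mk' A)) θ₁ (QuotientGroup.mk' A z) := by
    intro z
    by_cases hz : z ∈ H
    · rw [extendByZero_of_mem H θ hz,
        extendByZero_of_mem _ θ₁ (Subgroup.mem_map_of_mem _ hz)]
      exact (hθ ⟨z, hz⟩).symm
    · rw [extendByZero_of_not_mem H θ hz, extendByZero_of_not_mem]
      rintro ⟨h, hh, hhz⟩
      apply hz
      have h1 : h⁻¹ * z ∈ A := by
        have : (QuotientGroup.mk' A h) = QuotientGroup.mk' A z := hhz
        rw [QuotientGroup.mk'_apply, QuotientGroup.mk'_apply, QuotientGroup.eq] at this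
        exact this
      have : z = h * (h⁻¹ * z) := by group
      rw [this]
      exact mul_mem hh (hAH h1)
  -- cardinalities
  have hcard : Nat.card H = Nat.card A * Nat.card ↥(H.map (QuotientGroup.mk' A)) := by
    have hidx : (H.map (QuotientGroup.mk' A)).index = H.index :=
      Subgroup.index_map_eq _ (QuotientGroup.mk'_surjective A) (by rw [QuotientGroup.ker_mk']; exact hAH)
    have h1 := Subgroup.card_mul_index H
    have h2 := Subgroup.card_mul_index (H.map (QuotientGroup.mk' A))
    have h3 : Nat.card G = Nat.card (G ⧸ A) * Nat.card A :=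
      Subgroup.card_eq_card_quotient_mul_card_subgroup A
    rw [hidx] at h2
    have hpos : 0 < H.index := Nat.pos_of_ne_zero (Subgroup.index_ne_zero_of_finite)
    apply Nat.eq_of_mul_eq_mul_right hpos
    rw [h1, h3, ← h2]; ring
  unfold Cfsg.indFun
  simp_rw [hext]
  have hsum : ∑ x : G, Cfsg.extendByZero (H.map (QuotientGroup.mk' A)) θ₁
        (QuotientGroup.mk' A (x⁻¹ * g * x))
      = (Nat.card A : ℂ) * ∑ q : G ⧸ A, Cfsg.extendByZero (H.map (QuotientGroup.mk' A)) θ₁
        (q⁻¹ * QuotientGroup.mk' A g * q) := by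
    rw [← sum_comp_mk A (fun q => Cfsg.extendByZero (H.map (QuotientGroup.mk' A)) θ₁
        (q⁻¹ * QuotientGroup.mk' A g * q))]
    apply Finset.sum_congr rfl
    intro x _
    rfl
  rw [hsum, hcard]
  have hA : (Nat.card A : ℂ) ≠ 0 := card_ne_zero_complex A
  have hHb : (Nat.card ↥(H.map (QuotientGroup.mk' A)) : ℂ) ≠ 0 := by
    have : Finite ↥(H.map (QuotientGroup.mk' A)) := inferInstance
    exact_mod_cast (Nat.card_pos (α := ↥(H.map (QuotientGroup.mk' A)))).ne'
  push_cast
  field_simp

end Cfsg.Agent.S1488
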