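import Mathlib
import Cfsg.Statements.S1493
import Cfsg.Agent.Lib.Lead.PF4

set_option autoImplicit false

open Cfsg

namespace Cfsg.Agent.S1493

theorem result {G : Type*} [Group G] [Finite G] (a b k : ℕ) (hab : Nat.card G = a * b) (hcop : Nat.Coprime a b) (hk : Nat.Coprime k a) (χ : G → ℂ) (hχ : Cfsg.IsCharacter G χ) : ∃ χ' : G → ℂ, Cfsg.IsCharacter G χ' ∧ (Cfsg.IsIrrCharacter G χ → Cfsg.IsIrrCharacter G χ') ∧ (∀ g : G, orderOf g ∣ a → χ' g = χ (g ^ k)) ∧ (∀ g : G, Nat.Coprime (orderOf g) a → χ' g = χ g) := by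
  exact Cfsg.Agent.Lib.Lead.PF.s1493 a b k hab hcop hk χ hχ

end Cfsg.Agent.S1493
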