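import Mathlib
import Cfsg.Statements.S1494
import Cfsg.Agent.Lib.Lead.PF4

set_option autoImplicit false

open Cfsg

namespace Cfsg.Agent.S1494

theorem result {G : Type*} [Group G] [Finite G] (χ : G → ℂ) (hχ : Cfsg.IsGeneralizedCharacter G χ) (p : ℕ) (hp : p.Prime) (x y : G) (hx : orderOf x = p) (hxy : x * y = y * x) : ∃ ω : ℂ, IsIntegral ℤ ω ∧ χ (x * y) - χ y = (1 - Complex.exp (2 * Real.pi * Complex.I / p)) * ω := by
  exact Cfsg.Agent.Lib.Lead.PF.s1494 χ hχ p hp x y hx hxy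

end Cfsg.Agent.S1494
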