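import Mathlib
import Cfsg.Statements.S1495

set_option autoImplicit false
open Cfsg

namespace Cfsg.Agent.S1495

open Finset

/-- Let p be a prime, ε = exp(2πi/p), and n an integer such that n = (1 − ε) * ω for some algebraic integer ω. Then p divides n. -/
theorem result (p : ℕ) (hp : p.Prime) (n : ℤ) (ω : ℂ) (hω : IsIntegral ℤ ω) (h : (n : ℂ) = (1 - Complex.exp (2 * Real.pi * Complex.I / p)) * ω) : (p : ℤ) ∣ n := by
  set ε := Complex.exp (2 * Real.pi * Complex.I / p) with hε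
  have hprim : IsPrimitiveRoot ε p := Complex.isPrimitiveRoot_exp p hp.ne_zero
  have hεint : IsIntegral ℤ ε := hprim.isIntegral hp.pos
  have hεp : ε ^ p = 1 := hprim.pow_eq_one
  obtain ⟨m, hm⟩ : ∃ m, p = m + 1 := ⟨p - 1, by have := hp.pos; omega⟩
  have hprod : ∏ k ∈ range m, (1 - ε ^ (k + 1)) = (p : ℂ) := by
    have := IsPrimitiveRoot.prod_one_sub_pow_eq_order (hm ▸ hprim)
    rw [this, hm]; push_cast; ring
  -- each factor
  have hfac : ∀ k ∈ range m, ∃ w : ℂ, IsIntegral ℤ w ∧ (n : ℂ) = (1 - ε ^ (k + 1)) * w := by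
    intro k hk
    rw [mem_range] at hk
    have hcop : Nat.Coprime (k + 1) p := by
      rw [Nat.coprime_comm, Nat.Prime.coprime_iff_not_dvd hp]
      intro hd
      have := Nat.le_of_dvd (by omega) hd
      omega
    obtain ⟨j, _, hj⟩ := Nat.exists_mul_mod_eq_one_of_coprime hcop hp.one_lt
    have hpow : (ε ^ (k + 1)) ^ j = ε := by
      rw [← pow_mul, ← Nat.div_add_mod ((k + 1) * j) p, pow_add, pow_mul, hεp, one_pow, one_mul, hj,
        pow_one]
    refine ⟨(∑ i ∈ range j, (ε ^ (k + 1)) ^ i) * ω, ?_, ?_⟩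
    · apply IsIntegral.mul _ hω
      apply IsIntegral.sum
      intro i _
      exact (hεint.pow _).pow _
    · rw [← mul_assoc, mul_neg_geom_sum, hpow]
      exact h
  choose! w hwint hw using hfac
  have hpown : (n : ℂ) ^ m = (p : ℂ) * ∏ k ∈ range m, w k := by
    rw [← hprod, ← prod_mul_distrib]
    have : ∏ k ∈ range m, (n : ℂ) = ∏ k ∈ range m, ((1 - ε ^ (k + 1)) * w k) :=
      prod_congr rfl (fun k hk => hw k hk)
    rw [← this, prod_const, card_range]
  set W := ∏ k ∈ range m, w k with hW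
  have hWint : IsIntegral ℤ W := IsIntegral.prod _ (fun k hk => hwint k hk)
  have hpC : (p : ℂ) ≠ 0 := by exact_mod_cast hp.ne_zero
  -- W is rational
  have hWq : W = algebraMap ℚ ℂ ((n : ℚ) ^ m / (p : ℚ)) := by
    have : W = (n : ℂ) ^ m / (p : ℂ) := by rw [hpown]; field_simp
    rw [this]
    push_cast
    rfl
  rw [hWq] at hWint
  have hq : IsIntegral ℤ ((n : ℚ) ^ m / (p : ℚ)) :=
    (isIntegral_algebraMap_iff (algebraMap ℚ ℂ).injective).mp hWint
  obtain ⟨y, hy⟩ := IsIntegrallyClosed.algebraMap_eq_of_integral hq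
  have hpQ : (p : ℚ) ≠ 0 := by exact_mod_cast hp.ne_zero
  have hdvd : (p : ℤ) ∣ n ^ m := by
    refine ⟨y, ?_⟩
    have h1 : (n : ℚ) ^ m = (p : ℚ) * (y : ℚ) := by
      have : (y : ℚ) = (n : ℚ) ^ m / (p : ℚ) := by rw [← hy]; rfl
      rw [this]; field_simp
    exact_mod_cast h1
  exact Int.Prime.dvd_pow' hp hdvd

end Cfsg.Agent.S1495
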