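import Mathlib
import Cfsg.Statements.S1496
import Cfsg.Agent.Lib.Helper3.SZRel

set_option autoImplicit false
open Cfsg
open scoped Pointwise

namespace Cfsg.Agent.S1496

universe u

open Cfsg.Agent.Lib.Helper3

theorem core {L : Type u} [Group L] [Finite L] (N : Subgroup L) [hN : N.Normal] (g : L)
    (hcop : Nat.Coprime (orderOf g) (Nat.card N)) (h : L) (hh : h ∈ N) :
    ∃ x ∈ N, ∃ c ∈ N, c * g = g * c ∧ x * (h * g) * x⁻¹ = c * g := by
  set n := orderOf g with hn
  set m := Nat.card N with hm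
  have hnpos : 0 < n := orderOf_pos g
  -- elements of N with n-th power 1 are trivial
  have triv : ∀ z ∈ N, z ^ n = 1 → z = 1 := by
    intro z hz hzn
    have h1 : orderOf z ∣ n := orderOf_dvd_of_pow_eq_one hzn
    have h2 : orderOf z ∣ m := by
      have := orderOf_dvd_natCard (⟨z, hz⟩ : N)
      rwa [Subgroup.orderOf_mk] at this
    have h3 : orderOf z ∣ 1 := by
      have := Nat.dvd_gcd h1 h2
      rwa [hcop] at this
    exact orderOf_eq_one_iff.mp (Nat.dvd_one.mp h3)
  have powN : ∀ z ∈ N, z ^ m = 1 := by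
    intro z hz
    have : (⟨z, hz⟩ : N) ^ Nat.card N = 1 := pow_card_eq_one'
    exact congrArg Subtype.val this
  -- membership mod N
  have modN : ∀ k : ℕ, (g ^ k)⁻¹ * (h * g) ^ k ∈ N := by
    intro k
    induction k with
    | zero => simp
    | succ k ih =>
      have e : (g ^ (k + 1))⁻¹ * (h * g) ^ (k + 1) =
          g⁻¹ * ((g ^ k)⁻¹ * (h * g) ^ k) * g * (g⁻¹ * h * g) := by
        rw [pow_succ, pow_succ]; group
      rw [e]
      refine mul_mem ?_ ?_
      · have := hN.conj_mem _ ih g⁻¹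
        rwa [inv_inv] at this
      · have := hN.conj_mem _ hh g⁻¹
        rwa [inv_inv] at this
  obtain ⟨a, ha1, ha0⟩ := Nat.chineseRemainder hcop 1 0
  set y := h * g with hy
  set u := y ^ a with hu
  have hga : g ^ a = g := by
    have : g ^ a = g ^ 1 := pow_eq_pow_iff_modEq.mpr ha1
    rwa [pow_one] at this
  have hgu : g⁻¹ * u ∈ N := by
    have := modN a
    rwa [hga] at this
  have hyn : y ^ n ∈ N := by
    have := modN n
    rwa [hn, pow_orderOf_eq_one, inv_one, one_mul] at this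
  have hun : u ^ n = 1 := by
    obtain ⟨a', ha'⟩ := (Nat.modEq_zero_iff_dvd.mp ha0)
    rw [hu, ← pow_mul, mul_comm, pow_mul, ha', pow_mul, powN _ hyn, one_pow]
  -- order of u
  have hordu : orderOf u = n := by
    apply Nat.dvd_antisymm (orderOf_dvd_of_pow_eq_one hun)
    set k := orderOf u with hk
    -- g^k ∈ N
    have h1 : g ^ k ∈ N := by
      have h2 : (g ^ k)⁻¹ * u ^ k ∈ N := by
        have e : (g ^ k)⁻¹ * u ^ k = (g ^ k)⁻¹ * (g * (g⁻¹ * u)) ^ k := by
          congr 2; group
        rw [e]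
        -- general: (g^k)⁻¹ (g z)^k ∈ N for z ∈ N
        have gen : ∀ (z : L), z ∈ N → ∀ j : ℕ, (g ^ j)⁻¹ * (g * z) ^ j ∈ N := by
          intro z hz j
          induction j with
          | zero => simp
          | succ j ih =>
            have e : (g ^ (j + 1))⁻¹ * (g * z) ^ (j + 1) =
                g⁻¹ * ((g ^ j)⁻¹ * (g * z) ^ j) * g * z := by
              rw [pow_succ, pow_succ]; group
            rw [e]
            refine mul_mem ?_ hz
            have := hN.conj_mem _ ih g⁻¹
            rwa [inv_inv] at this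
        exact gen _ hgu k
      rw [hk, pow_orderOf_eq_one, mul_one] at h2
      have := inv_mem h2
      rwa [inv_inv] at this
    have h3 : g ^ k = 1 := by
      apply triv _ h1
      rw [← pow_mul, mul_comm, pow_mul, hn, pow_orderOf_eq_one, one_pow]
    exact orderOf_dvd_of_pow_eq_one h3
  -- apply Schur–Zassenhaus
  have hK : Subgroup.zpowers u ≤ Subgroup.zpowers g ⊔ N := by
    rw [Subgroup.zpowers_le]
    have : u = g * (g⁻¹ * u) := by group
    rw [this]
    exact mul_mem (Subgroup.mem_sup_left (Subgroup.mem_zpowers g)) (Subgroup.mem_sup_right hgu)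
  have hcard : Nat.card (Subgroup.zpowers u) = Nat.card (Subgroup.zpowers g) := by
    rw [Nat.card_zpowers, Nat.card_zpowers, hordu]
  have hcop' : (Nat.card N).Coprime (Nat.card (Subgroup.zpowers g)) := by
    rw [Nat.card_zpowers]; exact hcop.symm
  have hsolv : Group.IsSolvable N ∨ Group.IsSolvable (Subgroup.zpowers g) := by
    right
    infer_instance
  obtain ⟨x, hxN, hx⟩ := sz_conj_rel N (Subgroup.zpowers g) (Subgroup.zpowers u) hcop' hK hcard hsolv
  have humem : u ∈ MulAut.conj x • Subgroup.zpowers g := by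
    rw [hx]; exact Subgroup.mem_zpowers u
  rw [mem_conj_smul_iff] at humem
  obtain ⟨j, hj⟩ := humem
  have hj' : g ^ j = x⁻¹ * u * x := hj
  -- g^j = g
  have hgj : g ^ j = g := by
    have h1 : g ^ j * g⁻¹ ∈ N := by
      rw [hj']
      have e : x⁻¹ * u * x * g⁻¹ = x⁻¹ * (g * ((g⁻¹ * u) * (g⁻¹ * (g * x * g⁻¹) * g)) * g⁻¹) := by
        group
      rw [e]
      refine mul_mem (inv_mem hxN) (hN.conj_mem _ (mul_mem hgu ?_) g)
      have : g⁻¹ * (g * x * g⁻¹) * g = x := by group
      rw [this]; exact hxN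
    have h2 : (g ^ j * g⁻¹) ^ n = 1 := by
      have : g ^ j * g⁻¹ = g ^ (j - 1) := by
        rw [zpow_sub, zpow_one]
      rw [this, ← zpow_natCast, ← zpow_mul, mul_comm, zpow_mul, zpow_natCast, hn, pow_orderOf_eq_one,
        one_zpow]
    have h3 := triv _ h1 h2
    exact mul_inv_eq_one.mp h3
  rw [hgj] at hj'
  -- conclude
  refine ⟨x⁻¹, inv_mem hxN, x⁻¹ * h * (g * x * g⁻¹), ?_, ?_, ?_⟩
  · exact mul_mem (mul_mem (inv_mem hxN) hh) (hN.conj_mem _ hxN g)
  · have hcomm : Commute y u := by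
      rw [hu]; exact Commute.pow_right (Commute.refl y) a
    have h1 : Commute (x⁻¹ * y * x) (x⁻¹ * u * x) := by
      show (x⁻¹ * y * x) * (x⁻¹ * u * x) = (x⁻¹ * u * x) * (x⁻¹ * y * x)
      have e1 : (x⁻¹ * y * x) * (x⁻¹ * u * x) = x⁻¹ * (y * u) * x := by group
      have e2 : (x⁻¹ * u * x) * (x⁻¹ * y * x) = x⁻¹ * (u * y) * x := by group
      rw [e1, e2, hcomm.eq]
    rw [← hj'] at h1
    have e3 : x⁻¹ * y * x = (x⁻¹ * h * (g * x * g⁻¹)) * g := by rw [hy]; group
    rw [e3] at h1
    have h2 : (x⁻¹ * h * (g * x * g⁻¹)) * g * g = g * ((x⁻¹ * h * (g * x * g⁻¹)) * g) := h1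
    have h3 : ((x⁻¹ * h * (g * x * g⁻¹)) * g) * g = (g * (x⁻¹ * h * (g * x * g⁻¹))) * g := by
      rw [h2]; group
    exact mul_right_cancel h3
  · rw [inv_inv, hy]; group

/-- Let H be a subgroup of the finite group G and g an element normalising H whose order is coprime to the order of H. Then for every h ∈ H there are x ∈ H and c ∈ H commuting with g such that x * (h * g) * x⁻¹ = c * g. -/
theorem result {G : Type*} [Group G] [Finite G] (H : Subgroup G) (g : G) (hg : g ∈ Subgroup.normalizer (H : Set G)) (hcop : Nat.Coprime (orderOf g) (Nat.card H)) (h : G) (hh : h ∈ H) : ∃ x ∈ H, ∃ c ∈ H, c * g = g * c ∧ x * (h * g) * x⁻¹ = c * g := by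
  set L := Subgroup.normalizer (H : Set G) with hL
  have hHL : H ≤ L := Subgroup.le_normalizer
  have hNn : (H.subgroupOf L).Normal := Subgroup.normal_in_normalizer
  have hcard : Nat.card (H.subgroupOf L) = Nat.card H :=
    Nat.card_congr (Subgroup.subgroupOfEquivOfLe hHL).toEquiv
  have hord : orderOf (⟨g, hg⟩ : L) = orderOf g := Subgroup.orderOf_mk g hg
  obtain ⟨x, hx, c, hc, hcg, hconj⟩ := core (H.subgroupOf L) (⟨g, hg⟩ : L)
    (by rw [hord, hcard]; exact hcop) ⟨h, hHL hh⟩ (by
      rw [Subgroup.mem_subgroupOf]; exact hh)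
  rw [Subgroup.mem_subgroupOf] at hx hc
  refine ⟨(x : G), hx, (c : G), hc, ?_, ?_⟩
  · exact congrArg Subtype.val hcg
  · exact congrArg Subtype.val hconj

end Cfsg.Agent.S1496
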