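import Mathlib
import Cfsg.Statements.S1497

set_option autoImplicit false
open Cfsg

namespace Cfsg.Agent.S1497

/-- Let A be a nonempty subset of the finite group G not containing 1 and L a subgroup. Then A is a TI-subset whose normaliser is L if and only if the Dade hypothesis holds for A, L and the constant choice H(a) = ⊥. -/
theorem result {G : Type*} [Group G] [Finite G] (A : Set G) (hA : A.Nonempty) (h1 : (1 : G) ∉ A) (L : Subgroup G) : (Cfsg.IsTISubset A ∧ Subgroup.normalizer A = L) ↔ Cfsg.DadeHypothesis A L (fun _ => ⊥) := by
  constructor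
  · rintro ⟨hTI, hN⟩
    -- key: conjugating an element of A into A forces membership of L
    have key : ∀ g : G, ∀ x ∈ A, g * x * g⁻¹ ∈ A → g ∈ L := by
      intro g x hx hgx
      rw [← hN]
      by_contra hcon
      have := hTI g hcon x hx hgx
      rw [this] at hx
      exact h1 hx
    refine ⟨h1, ?_, ?_, ?_, ?_, ?_, ?_, ?_, ?_⟩
    · intro a ha
      apply key a a ha
      rw [mul_inv_cancel_right]; exact ha
    · intro x hx a ha
      rw [← hN] at hx
      exact (Subgroup.mem_set_normalizer_iff.mp hx a).mp ha
    · intro a ha g hg
      exact ⟨g, key g a ha hg, rfl⟩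
    · intro a _; exact bot_le
    · intro a _ c _ u hu
      rw [Subgroup.mem_bot] at hu ⊢
      rw [hu, mul_one, mul_inv_cancel]
    · intro a _; exact bot_inf_eq _
    · intro a ha
      rw [bot_sup_eq, inf_eq_right]
      intro c hc
      apply key c a ha
      have : c * a * c⁻¹ = a := by
        have := Subgroup.mem_centralizer_iff.mp hc a (Set.mem_singleton a)
        rw [← this, mul_inv_cancel_right]
      rw [this]; exact ha
    · intro a _ b _
      rw [Subgroup.card_bot]
      exact Nat.coprime_one_left _
  · intro hD
    have hLN : L ≤ Subgroup.normalizer A := by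
      intro x hx
      rw [Subgroup.mem_set_normalizer_iff]
      intro a
      constructor
      · exact hD.conj_mem x hx a
      · intro h
        have := hD.conj_mem x⁻¹ (inv_mem hx) _ h
        have e : x⁻¹ * (x * a * x⁻¹) * x⁻¹⁻¹ = a := by group
        rwa [e] at this
    have key : ∀ g : G, ∀ x ∈ A, g * x * g⁻¹ ∈ A → g ∈ L := by
      intro g x hx hgx
      obtain ⟨y, hy, hyx⟩ := hD.fusion x hx g hgx
      have hc : y⁻¹ * g ∈ Subgroup.centralizer ({x} : Set G) := by
        rw [Subgroup.mem_centralizer_iff]
        intro z hz
        rw [Set.mem_singleton_iff] at hz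
        subst hz
        have : z = y⁻¹ * (g * z * g⁻¹) * y := by rw [← hyx]; group
        calc z * (y⁻¹ * g) = (y⁻¹ * (g * z * g⁻¹) * y) * (y⁻¹ * g) := by rw [← this]
          _ = y⁻¹ * g * z := by group
      have hsup := hD.sup_eq x hx
      simp only [bot_sup_eq] at hsup
      rw [← hsup] at hc
      have : g = y * (y⁻¹ * g) := by group
      rw [this]
      exact mul_mem hy hc.1
    constructor
    · intro g hg x hx hgx
      exact absurd (hLN (key g x hx hgx)) hg
    · apply le_antisymm
      · intro g hg
        obtain ⟨a, ha⟩ := hA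
        exact key g a ha ((Subgroup.mem_set_normalizer_iff.mp hg a).mp ha)
      · exact hLN

end Cfsg.Agent.S1497
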