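import Mathlib
import Cfsg.Statements.S1499
import Cfsg.Agent.Lib.Lead.Dade1

set_option autoImplicit false

open Cfsg

namespace Cfsg.Agent.S1499

theorem result {G : Type*} [Group G] [Finite G] (A : Set G) (L : Subgroup G) (H : G → Subgroup G) (hD : Cfsg.DadeHypothesis A L H) (a b : G) (ha : a ∈ A) (hb : b ∈ A) : ((∃ u ∈ H a, ∃ v ∈ H b, ∃ g : G, g * (a * u) * g⁻¹ = b * v) → ∃ x ∈ L, x * a * x⁻¹ = b) ∧ Subgroup.normalizer ((fun u : G => a * u) '' (H a : Set G)) = Subgroup.centralizer ({a} : Set G) := by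
  exact Cfsg.Agent.Lib.Lead.Dade.s1499 hD a b ha hb

end Cfsg.Agent.S1499
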