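import Mathlib
import Cfsg.Statements.S1503
import Cfsg.Agent.Lib.Lead.CycTI3
import Cfsg.Agent.Lib.Helper6.ClassFun

set_option autoImplicit false

open Cfsg

namespace Cfsg.Agent.S1503

theorem result {G : Type*} [Group G] [Fintype G] (W₁ W₂ : Subgroup G) (hW : Cfsg.IsSelfNormalizingCyclic W₁ W₂) (χ : (↥(W₁ ⊔ W₂) →* ℂˣ) → (G → ℂ)) (hχ : Cfsg.IsCyclicTIFamily W₁ W₂ χ) (θ : G → ℂ) (hθ : Cfsg.IsIrrCharacter G θ) (horth : ∀ ω, Cfsg.classInner θ (χ ω) = 0) (w : ↥(W₁ ⊔ W₂)) (hw₁ : (w : G) ∉ W₁) (hw₂ : (w : G) ∉ W₂) : θ w = 0 := by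
  exact Cfsg.Agent.Lib.Lead.CycTI.s1503 W₁ W₂ hW χ hχ θ
    (Cfsg.Agent.Lib.Helper6.IsIrrCharacter.isClassFunction hθ) horth w hw₁ hw₂

end Cfsg.Agent.S1503
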