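import Mathlib
import Cfsg.Statements.S1508
import Cfsg.Agent.Lib.Lead.CycTI5

set_option autoImplicit false

open Cfsg

namespace Cfsg.Agent.S1508

theorem result {G : Type*} [Group G] [Fintype G] (W₁ W₂ : Subgroup G) (hW : Cfsg.IsSelfNormalizingCyclic W₁ W₂) (hodd : Odd (Nat.card ↥(W₁ ⊔ W₂))) (χ : (↥(W₁ ⊔ W₂) →* ℂˣ) → (G → ℂ)) (hχ : Cfsg.IsCyclicTIFamily W₁ W₂ χ) (ω : ↥(W₁ ⊔ W₂) →* ℂˣ) (g : G) (hg : Nat.Coprime (orderOf g) (orderOf ω)) : ∃ n : ℤ, χ ω g = n := by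
  exact Cfsg.Agent.Lib.Lead.CycTI.s1508 W₁ W₂ hW hodd χ hχ ω g hg

end Cfsg.Agent.S1508
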