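import Mathlib
import Cfsg.Statements.S1509
import Cfsg.Agent.Lib.Helper6.IrrBasis
import Cfsg.Agent.Lib.Helper6.Constituent
import Cfsg.Agent.Lib.Helper6.Orthogonality

set_option autoImplicit false
open Cfsg

namespace Cfsg.Agent.S1509

open Cfsg.Agent.Lib.Helper6
open scoped ComplexConjugate

variable {X : Type*} [Group X] [Fintype X]

/-- signed irreducible characters -/
def SIrr (f : X → ℂ) : Prop := Cfsg.IsIrrCharacter X f ∨ Cfsg.IsIrrCharacter X (-f)

omit [Fintype X] in
theorem SIrr.one_ne_zero {f : X → ℂ} (hf : SIrr f) : f 1 ≠ 0 := by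
  rcases hf with h | h
  · exact IsIrrCharacter.apply_one_ne_zero h
  · have := IsIrrCharacter.apply_one_ne_zero h
    intro h0
    apply this
    simp [h0]

/-- trichotomy for inner products of signed irreducibles -/
theorem SIrr.inner {f g : X → ℂ} (hf : SIrr f) (hg : SIrr g) :
    Cfsg.classInner f g = 0 ∨ (f = g ∧ Cfsg.classInner f g = 1) ∨
      (f = -g ∧ Cfsg.classInner f g = -1) := by
  rcases hf with hf | hf <;> rcases hg with hg | hg
  · have := classInner_isIrrCharacter hf hg
    by_cases h : f = g
    · right; left; exact ⟨h, by rw [this, if_pos h]⟩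
    · left; rw [this, if_neg h]
  · have := classInner_isIrrCharacter hf hg
    rw [classInner_neg_right] at this
    by_cases h : f = -g
    · right; right
      refine ⟨h, ?_⟩
      rw [if_pos h] at this
      linear_combination (-1 : ℂ) * this
    · left
      rw [if_neg h] at this
      linear_combination (-1 : ℂ) * this
  · have := classInner_isIrrCharacter hf hg
    rw [classInner_neg_left] at this
    by_cases h : -f = g
    · right; right
      refine ⟨by rw [← h, neg_neg], ?_⟩
      rw [if_pos h] at this
      linear_combination (-1 : ℂ) * this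
    · left
      rw [if_neg h] at this
      linear_combination (-1 : ℂ) * this
  · have := classInner_isIrrCharacter hf hg
    rw [classInner_neg_left, classInner_neg_right, neg_neg] at this
    by_cases h : -f = -g
    · right; left
      exact ⟨neg_injective h, by rw [this, if_pos h]⟩
    · left; rw [this, if_neg h]

theorem inner_symm_zero {f g : X → ℂ} (h : Cfsg.classInner f g = 0) : Cfsg.classInner g f = 0 := by
  rw [← classInner_conj_symm, h, map_zero]

/-- Let α, β, γ, δ be functions on a finite group X each of which is an irreducible character or the negative of one, and u, v nonzero real numbers. Suppose ⟨α, β⟩ = ⟨γ, δ⟩ = 0, ⟨α − β, uγ − vδ⟩ = 0, α 1 = β 1 and u γ 1 = v δ 1. Then also ⟨α, γ⟩ = ⟨α, δ⟩ = ⟨β, γ⟩ = ⟨β, δ⟩ = 0. -/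
theorem result {X : Type*} [Group X] [Fintype X] (α β γ δ : X → ℂ) (hα : Cfsg.IsIrrCharacter X α ∨ Cfsg.IsIrrCharacter X (-α)) (hβ : Cfsg.IsIrrCharacter X β ∨ Cfsg.IsIrrCharacter X (-β)) (hγ : Cfsg.IsIrrCharacter X γ ∨ Cfsg.IsIrrCharacter X (-γ)) (hδ : Cfsg.IsIrrCharacter X δ ∨ Cfsg.IsIrrCharacter X (-δ)) (u v : ℝ) (hu : u ≠ 0) (hv : v ≠ 0) (hab : Cfsg.classInner α β = 0) (hcd : Cfsg.classInner γ δ = 0) (hmix : Cfsg.classInner (α - β) ((u : ℂ) • γ - (v : ℂ) • δ) = 0) (h1 : α 1 = β 1) (h2 : (u : ℂ) * γ 1 = (v : ℂ) * δ 1) : Cfsg.classInner α γ = 0 ∧ Cfsg.classInner α δ = 0 ∧ Cfsg.classInner β γ = 0 ∧ Cfsg.classInner β δ = 0 := by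
  have hα' : SIrr α := hα
  have hβ' : SIrr β := hβ
  have hγ' : SIrr γ := hγ
  have hδ' : SIrr δ := hδ
  have huC : (u : ℂ) ≠ 0 := by exact_mod_cast hu
  have hvC : (v : ℂ) ≠ 0 := by exact_mod_cast hv
  have hα1 := hα'.one_ne_zero
  have hba := inner_symm_zero hab
  have hdc := inner_symm_zero hcd
  -- expand the mixed condition
  have hmix' : (u : ℂ) * Cfsg.classInner α γ - (v : ℂ) * Cfsg.classInner α δ
      - (u : ℂ) * Cfsg.classInner β γ + (v : ℂ) * Cfsg.classInner β δ = 0 := by
    rw [classInner_sub_left, classInner_sub_right, classInner_sub_right, classInner_smul_right,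
      classInner_smul_right, classInner_smul_right, classInner_smul_right, Complex.conj_ofReal,
      Complex.conj_ofReal] at hmix
    linear_combination hmix
  -- Step 1: ⟨α, γ⟩ = 0
  have s1 : Cfsg.classInner α γ = 0 := by
    rcases hα'.inner hγ' with h | ⟨e, h⟩ | ⟨e, h⟩
    · exact h
    · exfalso
      have x2 : Cfsg.classInner α δ = 0 := by rw [e]; exact hcd
      have x3 : Cfsg.classInner β γ = 0 := by rw [← e]; exact hba
      rw [h, x2, x3] at hmix'
      rcases hβ'.inner hδ' with h4 | ⟨e4, h4⟩ | ⟨e4, h4⟩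
      · rw [h4] at hmix'
        apply huC; linear_combination hmix'
      · rw [h4] at hmix'
        -- u + v = 0, α = γ, β = δ
        have : (u : ℂ) * α 1 = 0 := by
          rw [← e, ← e4, ← h1] at h2
          linear_combination (1/2 : ℂ) * h2 + (1/2 : ℂ) * (α 1) * hmix'
        rcases mul_eq_zero.mp this with h0 | h0
        · exact huC h0
        · exact hα1 h0
      · rw [h4] at hmix'
        have hδ1 : δ 1 = - β 1 := by rw [e4]; simp
        have : (u : ℂ) * α 1 = 0 := by
          rw [← e, hδ1, ← h1] at h2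
          linear_combination (1/2 : ℂ) * h2 + (1/2 : ℂ) * (α 1) * hmix'
        rcases mul_eq_zero.mp this with h0 | h0
        · exact huC h0
        · exact hα1 h0
    · exfalso
      have x2 : Cfsg.classInner α δ = 0 := by rw [e, classInner_neg_left, hcd, neg_zero]
      have x3 : Cfsg.classInner β γ = 0 := by
        have : γ = -α := by rw [e, neg_neg]
        rw [this, classInner_neg_right, hba, neg_zero]
      have hγ1 : γ 1 = - α 1 := by
        have : γ = -α := by rw [e, neg_neg]
        rw [this]; simp
      rw [h, x2, x3] at hmix'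
      rcases hβ'.inner hδ' with h4 | ⟨e4, h4⟩ | ⟨e4, h4⟩
      · rw [h4] at hmix'
        apply huC; linear_combination (-1 : ℂ) * hmix'
      · rw [h4] at hmix'
        have : (u : ℂ) * α 1 = 0 := by
          rw [hγ1, ← e4, ← h1] at h2
          linear_combination (-1/2 : ℂ) * h2 + (-1/2 : ℂ) * (α 1) * hmix'
        rcases mul_eq_zero.mp this with h0 | h0
        · exact huC h0
        · exact hα1 h0
      · rw [h4] at hmix'
        have hδ1 : δ 1 = - β 1 := by rw [e4]; simp
        have : (u : ℂ) * α 1 = 0 := by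
          rw [hγ1, hδ1, ← h1] at h2
          linear_combination (-1/2 : ℂ) * h2 + (-1/2 : ℂ) * (α 1) * hmix'
        rcases mul_eq_zero.mp this with h0 | h0
        · exact huC h0
        · exact hα1 h0
  -- Step 2: ⟨α, δ⟩ = 0
  have s2 : Cfsg.classInner α δ = 0 := by
    rcases hα'.inner hδ' with h | ⟨e, h⟩ | ⟨e, h⟩
    · exact h
    · exfalso
      have x4 : Cfsg.classInner β δ = 0 := by rw [← e]; exact hba
      rw [s1, h, x4] at hmix'
      rcases hβ'.inner hγ' with h3 | ⟨e3, h3⟩ | ⟨e3, h3⟩
      · rw [h3] at hmix'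
        apply hvC; linear_combination (-1 : ℂ) * hmix'
      · rw [h3] at hmix'
        -- -v - u = 0; α = δ, β = γ
        have : (u : ℂ) * α 1 = 0 := by
          rw [← e, ← e3, ← h1] at h2
          linear_combination (1/2 : ℂ) * h2 + (-1/2 : ℂ) * (α 1) * hmix'
        rcases mul_eq_zero.mp this with h0 | h0
        · exact huC h0
        · exact hα1 h0
      · rw [h3] at hmix'
        have hγ1 : γ 1 = - β 1 := by
          have : γ = -β := by rw [e3, neg_neg]
          rw [this]; simp
        have : (u : ℂ) * α 1 = 0 := by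
          rw [← e, hγ1, ← h1] at h2
          linear_combination (-1/2 : ℂ) * h2 + (1/2 : ℂ) * (α 1) * hmix'
        rcases mul_eq_zero.mp this with h0 | h0
        · exact huC h0
        · exact hα1 h0
    · exfalso
      have hδ1 : δ 1 = - α 1 := by
        have : δ = -α := by rw [e, neg_neg]
        rw [this]; simp
      have x4 : Cfsg.classInner β δ = 0 := by
        have : δ = -α := by rw [e, neg_neg]
        rw [this, classInner_neg_right, hba, neg_zero]
      rw [s1, h, x4] at hmix'
      rcases hβ'.inner hγ' with h3 | ⟨e3, h3⟩ | ⟨e3, h3⟩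
      · rw [h3] at hmix'
        apply hvC; linear_combination hmix'
      · rw [h3] at hmix'
        have : (u : ℂ) * α 1 = 0 := by
          rw [hδ1, ← e3, ← h1] at h2
          linear_combination (1/2 : ℂ) * h2 + (-1/2 : ℂ) * (α 1) * hmix'
        rcases mul_eq_zero.mp this with h0 | h0
        · exact huC h0
        · exact hα1 h0
      · rw [h3] at hmix'
        have hγ1 : γ 1 = - β 1 := by
          have : γ = -β := by rw [e3, neg_neg]
          rw [this]; simp
        have : (u : ℂ) * α 1 = 0 := by
          rw [hδ1, hγ1, ← h1] at h2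
          linear_combination (-1/2 : ℂ) * h2 + (1/2 : ℂ) * (α 1) * hmix'
        rcases mul_eq_zero.mp this with h0 | h0
        · exact huC h0
        · exact hα1 h0
  rw [s1, s2] at hmix'
  -- Step 3
  have s3 : Cfsg.classInner β γ = 0 := by
    rcases hβ'.inner hγ' with h | ⟨e, h⟩ | ⟨e, h⟩
    · exact h
    · exfalso
      have x4 : Cfsg.classInner β δ = 0 := by rw [e]; exact hcd
      rw [h, x4] at hmix'
      apply huC; linear_combination (-1 : ℂ) * hmix'
    · exfalso
      have x4 : Cfsg.classInner β δ = 0 := by rw [e, classInner_neg_left, hcd, neg_zero]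
      rw [h, x4] at hmix'
      apply huC; linear_combination hmix'
  rw [s3] at hmix'
  have s4 : Cfsg.classInner β δ = 0 := by
    have : (v : ℂ) * Cfsg.classInner β δ = 0 := by linear_combination hmix'
    rcases mul_eq_zero.mp this with h0 | h0
    · exact absurd h0 hvC
    · exact h0
  exact ⟨s1, s2, s3, s4⟩

end Cfsg.Agent.S1509
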