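import Cfsg.Statements.S1510
import Mathlib
import Cfsg.Agent.Lib.Helper3.Irrational
-- import your own Cfsg.Agent.* helpers here

set_option autoImplicit false
open Cfsg

namespace Cfsg.Agent.S1510

open Cfsg.Agent.Lib.Helper3 Pointwise


/-- product of two commuting cyclic subgroups of coprime orders -/
theorem cyclic_sup {L : Type*} [Group L] [Finite L] (W₁ W₂ : Subgroup L) (a₀ b₀ : L)
    (h1 : W₁ = Subgroup.zpowers a₀) (h2 : W₂ = Subgroup.zpowers b₀)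
    (hcomm : a₀ * b₀ = b₀ * a₀) (hcop : Nat.Coprime (Nat.card W₁) (Nat.card W₂)) :
    W₁ ⊔ W₂ = Subgroup.zpowers (a₀ * b₀) := by
  have ha : a₀ ∈ W₁ := h1 ▸ Subgroup.mem_zpowers a₀
  have hb : b₀ ∈ W₂ := h2 ▸ Subgroup.mem_zpowers b₀
  have hao : a₀ ^ Nat.card W₁ = 1 := by
    rw [h1, Nat.card_zpowers]; exact pow_orderOf_eq_one _
  have hbo : b₀ ^ Nat.card W₂ = 1 := by
    rw [h2, Nat.card_zpowers]; exact pow_orderOf_eq_one _
  have hc : Commute a₀ b₀ := hcomm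
  apply le_antisymm
  · apply sup_le
    · rw [h1, Subgroup.zpowers_le]
      apply mem_of_pow_mem_of_pow_mem_coprime _ a₀ (Nat.card W₂) (Nat.card W₁) hcop.symm
      · have : (a₀ * b₀) ^ Nat.card W₂ = a₀ ^ Nat.card W₂ := by
          rw [hc.mul_pow, hbo, mul_one]
        rw [← this]
        exact Subgroup.pow_mem _ (Subgroup.mem_zpowers _) _
      · rw [hao]; exact Subgroup.one_mem _
    · rw [h2, Subgroup.zpowers_le]
      apply mem_of_pow_mem_of_pow_mem_coprime _ b₀ (Nat.card W₁) (Nat.card W₂) hcop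
      · have : (a₀ * b₀) ^ Nat.card W₁ = b₀ ^ Nat.card W₁ := by
          rw [hc.mul_pow, hao, one_mul]
        rw [← this]
        exact Subgroup.pow_mem _ (Subgroup.mem_zpowers _) _
      · rw [hbo]; exact Subgroup.one_mem _
  · rw [Subgroup.zpowers_le]
    exact Subgroup.mul_mem _ (le_sup_left (b := W₂) ha) (le_sup_right (a := W₁) hb)


theorem exists_gen {L : Type*} [Group L] (W : Subgroup L) (hW : IsCyclic W) :
    ∃ a : L, W = Subgroup.zpowers a := by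
  obtain ⟨⟨a, ha⟩, hgen⟩ := hW.exists_generator
  refine ⟨a, le_antisymm ?_ ?_⟩
  · intro x hx
    obtain ⟨k, hk⟩ := hgen ⟨x, hx⟩
    refine ⟨k, ?_⟩
    have := congrArg Subtype.val hk
    simpa using this
  · rw [Subgroup.zpowers_le]; exact ha




theorem main {L : Type*} [Group L] [Finite L] (K W₁ W₂ : Subgroup L) [hK : K.Normal] (hKW₁ : K ⊓ W₁ = ⊥) (hKW₁' : K ⊔ W₁ = ⊤) (hW₁ : W₁ ≠ ⊥) (hW₁c : IsCyclic W₁) (hHall : Nat.Coprime (Nat.card W₁) W₁.index) (hW₂ : W₂ ≠ ⊥) (hW₂c : IsCyclic W₂) (hW₂K : W₂ ≤ K) (hC : ∀ x ∈ W₁, x ≠ 1 → K ⊓ Subgroup.centralizer ({x} : Set L) = W₂) : Cfsg.IsSelfNormalizingCyclic W₁ W₂ := by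
  -- basic facts
  have hdisj : W₁ ⊓ W₂ = ⊥ := by
    rw [eq_bot_iff, ← hKW₁]
    exact le_inf (inf_le_right.trans hW₂K) inf_le_left
  have hcomm : ∀ a ∈ W₁, ∀ b ∈ W₂, a * b = b * a := by
    intro a ha b hb
    by_cases ha1 : a = 1
    · rw [ha1, one_mul, mul_one]
    · have := hC a ha ha1
      rw [← this] at hb
      have hb2 := (Subgroup.mem_inf.1 hb).2
      rw [Subgroup.mem_centralizer_iff] at hb2
      exact hb2 a rfl
  have hcompl : Subgroup.IsComplement' K W₁ := by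
    apply Subgroup.isComplement'_of_disjoint_and_mul_eq_univ (disjoint_iff.2 hKW₁)
    rw [← Subgroup.normal_mul, hKW₁']; rfl
  have hidx : W₁.index = Nat.card K := hcompl.index_eq_card
  have hcop : Nat.Coprime (Nat.card W₁) (Nat.card W₂) := by
    rw [hidx] at hHall
    exact Nat.Coprime.coprime_dvd_right (Subgroup.card_dvd_of_le hW₂K) hHall
  obtain ⟨a₀, ha₀⟩ := exists_gen W₁ hW₁c
  obtain ⟨b₀, hb₀⟩ := exists_gen W₂ hW₂c
  have ha₀m : a₀ ∈ W₁ := ha₀ ▸ Subgroup.mem_zpowers a₀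
  have hb₀m : b₀ ∈ W₂ := hb₀ ▸ Subgroup.mem_zpowers b₀
  have hab₀ : a₀ * b₀ = b₀ * a₀ := hcomm a₀ ha₀m b₀ hb₀m
  have hW : W₁ ⊔ W₂ = Subgroup.zpowers (a₀ * b₀) := cyclic_sup W₁ W₂ a₀ b₀ ha₀ hb₀ hab₀ hcop
  have hdecomp : ∀ w ∈ W₁ ⊔ W₂, ∃ a ∈ W₁, ∃ b ∈ W₂, w = a * b := by
    intro w hw
    rw [hW] at hw
    obtain ⟨j, rfl⟩ := hw
    refine ⟨a₀ ^ j, W₁.zpow_mem ha₀m j, b₀ ^ j, W₂.zpow_mem hb₀m j, ?_⟩
    exact (show Commute a₀ b₀ from hab₀).mul_zpow j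
  have hWcomm : ∀ u ∈ W₁ ⊔ W₂, ∀ v ∈ W₁ ⊔ W₂, u * v = v * u := by
    intro u hu v hv
    rw [hW] at hu hv
    obtain ⟨i, rfl⟩ := hu
    obtain ⟨j, rfl⟩ := hv
    show (a₀ * b₀) ^ i * (a₀ * b₀) ^ j = (a₀ * b₀) ^ j * (a₀ * b₀) ^ i
    rw [← zpow_add, ← zpow_add, add_comm]
  have hb_pow : ∀ b ∈ W₂, b ^ Nat.card W₂ = 1 := by
    intro b hb
    have h := pow_card_eq_one' (G := W₂) (x := ⟨b, hb⟩)
    have h' := congrArg Subtype.val h
    rwa [Subgroup.coe_pow, Subgroup.coe_one] at h'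
  have ha_pow : ∀ a ∈ W₁, a ^ Nat.card W₁ = 1 := by
    intro a ha
    have h := pow_card_eq_one' (G := W₁) (x := ⟨a, ha⟩)
    have h' := congrArg Subtype.val h
    rwa [Subgroup.coe_pow, Subgroup.coe_one] at h'
  refine ⟨hW₁, hW₂, hdisj, hcomm, ?_, ?_⟩
  · rw [hW]; infer_instance
  · intro X hX hXne
    -- W ≤ N(X)
    have hWN : W₁ ⊔ W₂ ≤ Subgroup.normalizer X := by
      intro w hw
      rw [Subgroup.mem_set_normalizer_iff]
      intro h
      constructor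
      · intro hh
        have : w * h * w⁻¹ = h := by
          rw [hWcomm w hw h (hX hh).1]; group
        rw [this]; exact hh
      · intro hh
        have h1 : w * h * w⁻¹ ∈ W₁ ⊔ W₂ := (hX hh).1
        have h2 : h ∈ W₁ ⊔ W₂ := by
          have : h = w⁻¹ * (w * h * w⁻¹) * w := by group
          rw [this]
          exact Subgroup.mul_mem _ (Subgroup.mul_mem _ (Subgroup.inv_mem _ hw) h1) hw
        have : w * h * w⁻¹ = h := by
          rw [hWcomm w hw h h2]; group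
        rwa [this] at hh
    apply le_antisymm _ hWN
    intro g hg
    -- decompose g = k * u
    have hgKW : g ∈ ((K ⊔ W₁ : Subgroup L) : Set L) := by rw [hKW₁']; trivial
    rw [Subgroup.normal_mul] at hgKW
    obtain ⟨k, hk, u, hu, rfl⟩ := Set.mem_mul.1 hgKW
    have hkN : k ∈ Subgroup.normalizer X := by
      have : k = (k * u) * u⁻¹ := by group
      rw [this]
      exact Subgroup.mul_mem _ hg (Subgroup.inv_mem _ (hWN (le_sup_left (b := W₂) hu)))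
    obtain ⟨w, hwX⟩ := hXne
    have hwW := (hX hwX).1
    have hwn := (hX hwX).2
    obtain ⟨a, ha, b, hb, rfl⟩ := hdecomp w hwW
    have hw'X : k * (a * b) * k⁻¹ ∈ X := (Subgroup.mem_set_normalizer_iff.1 hkN (a * b)).1 hwX
    obtain ⟨a', ha', b', hb', hw'⟩ := hdecomp _ (hX hw'X).1
    -- a' = a
    have haa : a' = a := by
      have h1 : k * (a * b) * k⁻¹ * (a * b)⁻¹ ∈ K := by
        have : k * (a * b) * k⁻¹ * (a * b)⁻¹ = k * ((a * b) * k⁻¹ * (a * b)⁻¹) := by group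
        rw [this]
        exact K.mul_mem hk (hK.conj_mem _ (K.inv_mem hk) _)
      rw [hw'] at h1
      have h2 : a' * b' * (a * b)⁻¹ = (a' * a⁻¹) * (b' * b⁻¹) := by
        have e1 : b' * a⁻¹ = a⁻¹ * b' := (hcomm a⁻¹ (W₁.inv_mem ha) b' hb').symm
        calc a' * b' * (a * b)⁻¹ = a' * (b' * a⁻¹) * b⁻¹ := by
              rw [hcomm a ha b hb, mul_inv_rev]; group
          _ = (a' * a⁻¹) * (b' * b⁻¹) := by rw [e1]; group
      rw [h2] at h1
      have h3 : a' * a⁻¹ ∈ K := by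
        have : a' * a⁻¹ = (a' * a⁻¹) * (b' * b⁻¹) * (b' * b⁻¹)⁻¹ := by group
        rw [this]
        exact K.mul_mem h1 (K.inv_mem (K.mul_mem (hW₂K hb') (K.inv_mem (hW₂K hb))))
      have h4 : a' * a⁻¹ ∈ K ⊓ W₁ := ⟨h3, W₁.mul_mem ha' (W₁.inv_mem ha)⟩
      rw [hKW₁, Subgroup.mem_bot] at h4
      exact mul_inv_eq_one.1 h4
    subst haa
    -- k commutes with a' ^ |W₂|
    have e1 : (a' * b) ^ Nat.card W₂ = a' ^ Nat.card W₂ := by
      rw [(show Commute a' b from hcomm a' ha b hb).mul_pow, hb_pow b hb, mul_one]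
    have e2 : (a' * b') ^ Nat.card W₂ = a' ^ Nat.card W₂ := by
      rw [(show Commute a' b' from hcomm a' ha b' hb').mul_pow, hb_pow b' hb', mul_one]
    have e3 : k * a' ^ Nat.card W₂ * k⁻¹ = a' ^ Nat.card W₂ := by
      calc k * a' ^ Nat.card W₂ * k⁻¹ = k * (a' * b) ^ Nat.card W₂ * k⁻¹ := by rw [e1]
        _ = (k * (a' * b) * k⁻¹) ^ Nat.card W₂ := (conj_pow).symm
        _ = a' ^ Nat.card W₂ := by rw [hw', e2]
    have ha1 : a' ≠ 1 := by
      rintro rfl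
      apply hwn
      right
      rw [one_mul]; exact hb
    have hx1 : a' ^ Nat.card W₂ ≠ 1 := by
      intro h
      apply ha1
      have := mem_of_pow_mem_of_pow_mem_coprime (⊥ : Subgroup L) a' _ _ hcop
        (by rw [ha_pow a' ha]; exact Subgroup.one_mem _) (by rw [h]; exact Subgroup.one_mem _)
      simpa using this
    have hkW₂ : k ∈ W₂ := by
      rw [← hC _ (W₁.pow_mem ha _) hx1]
      refine Subgroup.mem_inf.2 ⟨hk, ?_⟩
      rw [Subgroup.mem_centralizer_iff]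
      intro z hz
      rw [Set.mem_singleton_iff] at hz
      subst hz
      have := congrArg (fun z => z * k) e3
      simpa using this.symm
    exact Subgroup.mul_mem _ (le_sup_right (a := W₁) hkW₂) (le_sup_left (b := W₂) hu)





/-- Let L be a finite group with a normal subgroup K and a nontrivial cyclic subgroup W₁ of order coprime to its index, K ⊓ W₁ = ⊥ and K ⊔ W₁ = ⊤; let W₂ ≠ ⊥ be a cyclic subgroup of K with K ⊓ C_L(x) = W₂ for every non-identity x ∈ W₁, and suppose W₁ ⊔ W₂ has odd order. Then (W₁, W₂) is a self-normalising cyclic pair in L. -/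
theorem result {L : Type*} [Group L] [Fintype L] (K W₁ W₂ : Subgroup L) [hK : K.Normal] (hKW₁ : K ⊓ W₁ = ⊥) (hKW₁' : K ⊔ W₁ = ⊤) (hW₁ : W₁ ≠ ⊥) (hW₁c : IsCyclic W₁) (hHall : Nat.Coprime (Nat.card W₁) W₁.index) (hW₂ : W₂ ≠ ⊥) (hW₂c : IsCyclic W₂) (hW₂K : W₂ ≤ K) (hC : ∀ x ∈ W₁, x ≠ 1 → K ⊓ Subgroup.centralizer ({x} : Set L) = W₂) (hodd : Odd (Nat.card ↥(W₁ ⊔ W₂))) : Cfsg.IsSelfNormalizingCyclic W₁ W₂ := by
  exact main K W₁ W₂ hKW₁ hKW₁' hW₁ hW₁c hHall hW₂ hW₂c hW₂K hC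

end Cfsg.Agent.S1510
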