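import Cfsg.Statements.S1512
import Mathlib
-- import your own Cfsg.Agent.* helpers here

set_option autoImplicit false
open Cfsg

namespace Cfsg.Agent.S1512

theorem card_carrier_dvd {K : Type*} [Group K] [Finite K] (C : ConjClasses K) :
    Nat.card C.carrier ∣ Nat.card K := by
  obtain ⟨g, rfl⟩ := ConjClasses.exists_rep C
  rw [← ConjAct.orbit_eq_carrier_conjClasses]
  have e := MulAction.orbitProdStabilizerEquivGroup (ConjAct K) g
  have h := Nat.card_congr e
  rw [Nat.card_prod] at h
  exact ⟨_, h.symm⟩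


theorem map_pow_fixed {L : Type*} [Group L] (K : Subgroup L) [hK : K.Normal] (x : L)
    (C : ConjClasses K)
    (hCx : ConjClasses.map (MulEquiv.toMonoidHom ((MulAut.conjNormal x : MulAut K))) C = C)
    (k : ℕ) :
    ConjClasses.map (MulEquiv.toMonoidHom ((MulAut.conjNormal (x ^ k) : MulAut K))) C = C := by
  induction k with
  | zero =>
    obtain ⟨c, rfl⟩ := ConjClasses.exists_rep C
    show ConjClasses.mk ((MulAut.conjNormal (x ^ 0) : MulAut K) c) = ConjClasses.mk c
    rw [pow_zero, map_one]; rfl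
  | succ k ih =>
    have key : ∀ D : ConjClasses K,
        ConjClasses.map (MulEquiv.toMonoidHom ((MulAut.conjNormal (x ^ (k + 1)) : MulAut K))) D =
        ConjClasses.map (MulEquiv.toMonoidHom ((MulAut.conjNormal (x ^ k) : MulAut K)))
          (ConjClasses.map (MulEquiv.toMonoidHom ((MulAut.conjNormal x : MulAut K))) D) := by
      intro D
      obtain ⟨c, rfl⟩ := ConjClasses.exists_rep D
      show ConjClasses.mk ((MulAut.conjNormal (x ^ (k + 1)) : MulAut K) c) =
        ConjClasses.mk ((MulAut.conjNormal (x ^ k) : MulAut K) ((MulAut.conjNormal x : MulAut K) c))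
      rw [pow_succ, map_mul]; rfl
    rw [key, hCx, ih]


theorem mem_carrier_of_fixed {L : Type*} [Group L] (K : Subgroup L) [hK : K.Normal] (x : L)
    (C : ConjClasses K)
    (hCx : ConjClasses.map (MulEquiv.toMonoidHom ((MulAut.conjNormal x : MulAut K))) C = C)
    (c : K) (hc : c ∈ C.carrier) : (MulAut.conjNormal x : MulAut K) c ∈ C.carrier := by
  rw [ConjClasses.mem_carrier_iff_mk_eq] at hc ⊢
  rw [← hc] at hCx
  rw [← hc]
  exact hCx




/-- an element `y` of prime order `p` fixing a class of size prime to `p` commutes with a member -/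
theorem exists_fixed {L : Type*} [Group L] [Finite L] (K : Subgroup L) [hK : K.Normal] (y : L)
    (p : ℕ) [hp : Fact p.Prime] (hy : y ^ p = 1) (hpK : ¬ p ∣ Nat.card K)
    (C : ConjClasses K)
    (hCy : ∀ k : ℕ, ConjClasses.map (MulEquiv.toMonoidHom ((MulAut.conjNormal (y ^ k) : MulAut K))) C = C) :
    ∃ c : K, c ∈ C.carrier ∧ y * (c : L) * y⁻¹ = c := by
  classical
  have hpow : ∀ k : ℕ, ∀ c : K, c ∈ C.carrier → (MulAut.conjNormal (y ^ k) : MulAut K) c ∈ C.carrier :=
    fun k c hc => mem_carrier_of_fixed K (y ^ k) C (hCy k) c hc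
  have hyinv : y⁻¹ = y ^ (p - 1) := by
    have hp1 : 1 ≤ p := hp.out.one_lt.le
    apply inv_eq_of_mul_eq_one_right
    rw [← pow_succ', Nat.sub_add_cancel hp1, hy]
  let σ : Equiv.Perm C.carrier :=
    { toFun := fun c => ⟨(MulAut.conjNormal y : MulAut K) c, by simpa using hpow 1 c c.2⟩
      invFun := fun c => ⟨(MulAut.conjNormal y⁻¹ : MulAut K) c, by rw [hyinv]; exact hpow _ c c.2⟩
      left_inv := by
        intro c
        apply Subtype.ext
        apply Subtype.ext
        simp [MulAut.conjNormal_apply, mul_assoc]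
      right_inv := by
        intro c
        apply Subtype.ext
        apply Subtype.ext
        simp [MulAut.conjNormal_apply, mul_assoc] }
  have hσk : ∀ (k : ℕ) (c : C.carrier), (((σ ^ k) c : C.carrier) : K) = (MulAut.conjNormal (y ^ k) : MulAut K) c := by
    intro k
    induction k with
    | zero => intro c; simp
    | succ k ih =>
      intro c
      rw [pow_succ', Equiv.Perm.mul_apply]
      show (MulAut.conjNormal y : MulAut K) ((σ ^ k) c : C.carrier) = _
      rw [ih c, pow_succ', map_mul]; rfl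
  have hσp : σ ^ p ^ 1 = 1 := by
    rw [pow_one]
    ext c
    rw [hσk p c, hy, map_one]; rfl
  haveI : Fintype C.carrier := Fintype.ofFinite _
  have hnd : ¬ p ∣ Fintype.card C.carrier := by
    intro h
    apply hpK
    rw [← Nat.card_eq_fintype_card] at h
    exact h.trans (card_carrier_dvd C)
  obtain ⟨c, hc⟩ := Equiv.Perm.exists_fixed_point_of_prime hnd hσp
  refine ⟨c.1, c.2, ?_⟩
  have := congrArg (fun z : C.carrier => ((z : K) : L)) hc
  simpa [σ, MulAut.conjNormal_apply] using this




theorem main {L : Type*} [Group L] [Finite L] (K W₂ : Subgroup L) [hK : K.Normal] (x : L) (hx1 : x ≠ 1) (hx : Nat.Coprime (orderOf x) (Nat.card K)) (hC : ∀ y ∈ Subgroup.zpowers x, y ≠ 1 → K ⊓ Subgroup.centralizer ({y} : Set L) = W₂) : Nat.card {C : ConjClasses K // ConjClasses.map (MulEquiv.toMonoidHom ((MulAut.conjNormal x : MulAut K))) C = C} ≤ Nat.card W₂ := by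
  have hord : orderOf x ≠ 1 := by rwa [Ne, orderOf_eq_one_iff]
  obtain ⟨p, hp, hpx⟩ := Nat.exists_prime_and_dvd hord
  haveI := Fact.mk hp
  obtain ⟨m, hm⟩ := hpx
  have hm0 : m ≠ 0 := by
    rintro rfl
    rw [mul_zero] at hm
    exact (orderOf_pos x).ne' hm
  have hy : orderOf (x ^ m) = p := by
    rw [orderOf_pow_of_dvd hm0 ⟨p, by rw [hm, mul_comm]⟩, hm, Nat.mul_div_cancel _ (Nat.pos_of_ne_zero hm0)]
  have hyp : (x ^ m) ^ p = 1 := by rw [← hy]; exact pow_orderOf_eq_one _
  have hy1 : x ^ m ≠ 1 := by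
    intro h
    rw [h, orderOf_one] at hy
    exact hp.one_lt.ne hy
  have hyz : x ^ m ∈ Subgroup.zpowers x := Subgroup.npow_mem_zpowers x m
  have hW := hC _ hyz hy1
  have hpK : ¬ p ∣ Nat.card K := by
    intro h
    have h1 : p ∣ orderOf x := ⟨m, hm⟩
    have := Nat.eq_one_of_dvd_coprimes hx h1 h
    exact hp.one_lt.ne' this
  have key : ∀ C : {C : ConjClasses K // ConjClasses.map (MulEquiv.toMonoidHom ((MulAut.conjNormal x : MulAut K))) C = C},
      ∃ c : K, c ∈ C.1.carrier ∧ (c : L) ∈ W₂ := by
    rintro ⟨C, hCx⟩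
    obtain ⟨c, hc, hcy⟩ := exists_fixed K (x ^ m) p hyp hpK C (fun k => by
      rw [← pow_mul]; exact map_pow_fixed K x C hCx _)
    refine ⟨c, hc, ?_⟩
    rw [← hW]
    refine Subgroup.mem_inf.2 ⟨c.2, ?_⟩
    rw [Subgroup.mem_centralizer_iff]
    intro z hz
    rw [Set.mem_singleton_iff] at hz
    subst hz
    have := congrArg (fun w => w * x ^ m) hcy
    simpa using this
  choose f hf1 hf2 using key
  apply Nat.card_le_card_of_injective (fun C => (⟨(f C : L), hf2 C⟩ : W₂))
  intro C D hCD
  have h1 : (f C : L) = f D := congrArg (fun w : W₂ => (w : L)) hCD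
  have h2 : f C = f D := Subtype.ext h1
  apply Subtype.ext
  have h3 := hf1 C
  have h4 := hf1 D
  rw [ConjClasses.mem_carrier_iff_mk_eq] at h3 h4
  rw [← h3, ← h4, h2]





/-- Let K be a normal subgroup of the finite group L and x a non-identity element whose order is coprime to the order of K, such that K ⊓ C_L(y) = W₂ for every non-identity element y of the cyclic group generated by x. Then the number of conjugacy classes of K mapped to themselves by conjugation by x is at most Nat.card W₂. -/
theorem result {L : Type*} [Group L] [Finite L] (K W₂ : Subgroup L) [hK : K.Normal] (x : L) (hx1 : x ≠ 1) (hx : Nat.Coprime (orderOf x) (Nat.card K)) (hC : ∀ y ∈ Subgroup.zpowers x, y ≠ 1 → K ⊓ Subgroup.centralizer ({y} : Set L) = W₂) : Nat.card {C : ConjClasses K // ConjClasses.map (MulEquiv.toMonoidHom ((MulAut.conjNormal x : MulAut K))) C = C} ≤ Nat.card W₂ := by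
  exact main K W₂ x hx1 hx hC

end Cfsg.Agent.S1512
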