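import Mathlib
import Cfsg.Statements.S1517
import Cfsg.Agent.Lib.Lead.Coh7

set_option autoImplicit false

open Cfsg

namespace Cfsg.Agent.S1517

theorem result {L : Type*} [Group L] [Fintype L] {G : Type*} [Group G] [Fintype G] (S : Set (L → ℂ)) (τ : (L → ℂ) → (G → ℂ)) (R : (L → ℂ) → Finset (G → ℂ)) (hS : Cfsg.IsCoherenceSystem S τ R) (hdeg : ∀ φ ∈ S, ∀ ψ ∈ S, φ 1 = ψ 1) : Cfsg.IsCoherent S {1}ᶜ τ := by
  exact Cfsg.Agent.Lib.Lead.Coh.s1517 S τ R hS hdeg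

end Cfsg.Agent.S1517
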