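import Cfsg.Statements.S1518
import Mathlib
import Cfsg.Agent.Lib.Helper6.DadeVChar2
import Cfsg.Agent.Lib.Lead.Dade3
import Cfsg.Agent.Lib.Helper6.GenChar
import Cfsg.Agent.Lib.Helper6.Norm
import Cfsg.Agent.Lib.Helper6.Orthogonality
import Cfsg.Agent.Lib.Helper6.ClassMult
import Cfsg.Agent.Lib.Helper6.IrrBasis
import Cfsg.Agent.Lib.Helper6.Mult

set_option autoImplicit false
open Cfsg

namespace Cfsg.Agent.S1518

open Cfsg.Agent.Lib.Helper6

/-- Under the Dade hypothesis for (A, L, H): if χ is an irreducible character of L vanishing at every non-identity element of L outside A, then the Dade image of χ − conj χ equals μ − conj μ for some irreducible character μ of G. -/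
theorem result {G : Type*} [Group G] [Fintype G] (A : Set G) (L : Subgroup G) [Fintype L] (H : G → Subgroup G) (hD : Cfsg.DadeHypothesis A L H) (χ : L → ℂ) (hχ : Cfsg.IsIrrCharacter L χ) (hsupp : ∀ x : L, x ≠ 1 → (x : G) ∉ A → χ x = 0) : ∃ μ : G → ℂ, Cfsg.IsIrrCharacter G μ ∧ Cfsg.dadeIsometry A L H (χ - Cfsg.conjFun χ) = μ - Cfsg.conjFun μ := by
  classical
  have hχc := IsIrrCharacter.isCharacter hχ
  have hcirr : Cfsg.IsIrrCharacter L (Cfsg.conjFun χ) := IsIrrCharacter.conj hχ
  have hcc := IsIrrCharacter.isCharacter hcirr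
  by_cases hreal : Cfsg.conjFun χ = χ
  · refine ⟨fun _ => 1, isIrrCharacter_one, ?_⟩
    rw [hreal, sub_self]
    funext g
    have h0 : Cfsg.conjFun (fun _ : G => (1:ℂ)) = fun _ => 1 := by
      funext x; simp [Cfsg.conjFun]
    rw [h0, sub_self]
    unfold Cfsg.dadeIsometry
    split_ifs <;> rfl
  · obtain ⟨β, hβ⟩ : ∃ β : L → ℂ, β = χ - Cfsg.conjFun χ := ⟨_, rfl⟩
    rw [← hβ]
    have hβgen : Cfsg.IsGeneralizedCharacter L β := ⟨χ, Cfsg.conjFun χ, hχc, hcc, hβ⟩
    have hβcf := IsGeneralizedCharacter.isClassFunction hβgen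
    have hβA : ∀ x : L, (x : G) ∉ A → β x = 0 := by
      intro x hx
      rw [hβ]
      simp only [Pi.sub_apply, Cfsg.conjFun]
      by_cases hx1 : x = 1
      · rw [hx1, IsIrrCharacter.conj_apply_one hχ, sub_self]
      · rw [hsupp x hx1 hx, map_zero, sub_zero]
    have hβconj : ∀ x : L, (starRingEnd ℂ) (β x) = - β x := by
      intro x
      rw [hβ]
      simp only [Pi.sub_apply, Cfsg.conjFun, map_sub, Complex.conj_conj]
      ring
    obtain ⟨θ, hθ⟩ : ∃ θ : G → ℂ, θ = Cfsg.dadeIsometry A L H β := ⟨_, rfl⟩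
    rw [← hθ]
    have hθgen : Cfsg.IsGeneralizedCharacter G θ :=
      hθ ▸ dade_isGeneralizedCharacter hD hβgen hβA
    have hnorm : Cfsg.classInner θ θ = 2 := by
      rw [hθ, (Cfsg.Agent.Lib.Lead.Dade.s1500 hD β hβcf hβA).1 β hβcf hβA, hβ,
        classInner_sub_left, classInner_sub_right, classInner_sub_right,
        classInner_isIrrCharacter hχ hχ, classInner_isIrrCharacter hχ hcirr,
        classInner_isIrrCharacter hcirr hχ, classInner_isIrrCharacter hcirr hcirr,
        if_pos rfl, if_pos rfl, if_neg (Ne.symm hreal), if_neg hreal]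
      norm_num
    have hθ1 : θ 1 = 0 := by
      rw [hθ]
      apply Cfsg.Agent.Lib.Lead.Dade.dade_apply_of_not
      rintro ⟨a, ha, x, u, hu, hx⟩
      have h1 : (a : G) * u = 1 := by rw [← hx]; group
      have h2 : (a : G) = u⁻¹ := eq_inv_of_mul_eq_one_left h1
      have h3 : (a : G) ∈ H (a:G) ⊓ (L ⊓ Subgroup.centralizer ({(a:G)} : Set G)) := by
        refine ⟨?_, a.2, ?_⟩
        · have : u⁻¹ ∈ H (a:G) := (H (a:G)).inv_mem hu
          rwa [← h2] at this
        · exact Subgroup.mem_centralizer_singleton_iff.mpr rfl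
      rw [hD.inf_eq_bot a ha, Subgroup.mem_bot] at h3
      exact hD.one_not_mem (h3 ▸ ha)
    have hθconj : ∀ g : G, (starRingEnd ℂ) (θ g) = - θ g := by
      intro g
      rw [hθ]
      by_cases hs : ∃ a : ↥L, (a : G) ∈ A ∧ ∃ x : G, ∃ u ∈ H (a : G), x * g * x⁻¹ = (a : G) * u
      · obtain ⟨a, ha, x, u, hu, hx⟩ := hs
        rw [Cfsg.Agent.Lib.Lead.Dade.dade_apply hD hβcf a ha hu hx]; exact hβconj a
      · rw [Cfsg.Agent.Lib.Lead.Dade.dade_apply_of_not hs, map_zero, neg_zero]
    obtain ⟨x, y, hxy, hθxy⟩ := IsGeneralizedCharacter.eq_sub_of_norm_two hθgen hnorm hθ1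
    refine ⟨x, x.2, ?_⟩
    have hxc : Cfsg.IsIrrCharacter G (Cfsg.conjFun (x : G → ℂ)) := IsIrrCharacter.conj x.2
    have hyc : Cfsg.IsIrrCharacter G (Cfsg.conjFun (y : G → ℂ)) := IsIrrCharacter.conj y.2
    have hrel : Cfsg.conjFun (x : G → ℂ) + (x : G → ℂ) = (y : G → ℂ) + Cfsg.conjFun (y : G → ℂ) := by
      funext g
      have := hθconj g
      rw [hθxy] at this
      simp only [Pi.sub_apply, map_sub] at this
      simp only [Pi.add_apply, Cfsg.conjFun]
      linear_combination this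
    have hinner := congrArg (fun F => Cfsg.classInner F (y : G → ℂ)) hrel
    beta_reduce at hinner
    have hxyf : (x : G → ℂ) ≠ (y : G → ℂ) := fun h => hxy (Subtype.ext h)
    rw [classInner_add_left, classInner_add_left, classInner_isIrrCharacter hxc y.2,
      classInner_isIrrCharacter x.2 y.2, classInner_isIrrCharacter y.2 y.2,
      classInner_isIrrCharacter hyc y.2, if_pos rfl, if_neg hxyf] at hinner
    have hxy' : Cfsg.conjFun (x : G → ℂ) = (y : G → ℂ) := by
      by_contra hne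
      rw [if_neg hne] at hinner
      split_ifs at hinner <;> norm_num at hinner
    rw [hθxy, hxy']

end Cfsg.Agent.S1518
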