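import Mathlib
import Cfsg.Statements.S1527
import Cfsg.Agent.Lib.Helper4.Simple60

set_option autoImplicit false
open Cfsg

namespace Cfsg.Agent.S1527

open Cfsg.Agent.Lib.Helper4

variable {G : Type*} [Group G]

/-- the non-identity elements conjugate into `H` -/
def conjSet (H : Subgroup G) : Set G := {g | g ≠ 1 ∧ ∃ x : G, x * g * x⁻¹ ∈ H}

theorem card_conjSet [Finite G] (H : Subgroup G) (hTI : Cfsg.IsTISubset (H : Set G)) :
    Nat.card (conjSet H) * Nat.card (Subgroup.normalizer (H : Set G)) =
      Nat.card G * (Nat.card H - 1) := by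
  classical
  rw [← card_subtype_ne_one (H := H), ← Nat.card_prod, ← Nat.card_prod]
  -- chosen conjugator
  let x₀ : conjSet H → G := fun g => Classical.choose g.2.2
  have hx₀ : ∀ g : conjSet H, x₀ g * (g : G) * (x₀ g)⁻¹ ∈ H := fun g => Classical.choose_spec g.2.2
  have hne : ∀ (x g : G), g ≠ 1 → x * g * x⁻¹ ≠ 1 := by
    intro x g hg h
    apply hg
    have : g = x⁻¹ * (x * g * x⁻¹) * x := by group
    rw [this, h]; group
  have hNmem : ∀ (n : Subgroup.normalizer (H : Set G)) (h : G), h ∈ H → (n : G) * h * (n : G)⁻¹ ∈ H := by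
    intro n h hh
    exact (Subgroup.mem_normalizer_iff.mp n.2 h).mp hh
  let f : conjSet H × Subgroup.normalizer (H : Set G) → G × {h : H // h ≠ 1} := fun p =>
    ((p.2 : G) * x₀ p.1, ⟨⟨((p.2 : G) * x₀ p.1) * (p.1 : G) * ((p.2 : G) * x₀ p.1)⁻¹, by
        have := hNmem p.2 _ (hx₀ p.1)
        have e : (p.2 : G) * (x₀ p.1 * (p.1 : G) * (x₀ p.1)⁻¹) * (p.2 : G)⁻¹ =
            ((p.2 : G) * x₀ p.1) * (p.1 : G) * ((p.2 : G) * x₀ p.1)⁻¹ := by group
        rwa [e] at this⟩, by
        intro h
        have h' := congrArg Subtype.val h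
        exact hne _ _ p.1.2.1 h'⟩)
  have hf : Function.Bijective f := by
    constructor
    · rintro ⟨g, n⟩ ⟨g', n'⟩ h
      have h1 : (n : G) * x₀ g = (n' : G) * x₀ g' := congrArg Prod.fst h
      have h2 : ((n : G) * x₀ g) * (g : G) * ((n : G) * x₀ g)⁻¹ =
          ((n' : G) * x₀ g') * (g' : G) * ((n' : G) * x₀ g')⁻¹ := by
        have := congrArg (fun q : G × {h : H // h ≠ 1} => ((q.2 : H) : G)) h
        exact this
      rw [← h1] at h2
      have hgg : (g : G) = (g' : G) := by
        have := mul_right_cancel h2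
        exact mul_left_cancel this
      have hgg' : g = g' := Subtype.ext hgg
      subst hgg'
      have hnn : (n : G) = (n' : G) := mul_right_cancel h1
      have : n = n' := Subtype.ext hnn
      subst this
      rfl
    · rintro ⟨x, ⟨⟨h, hh⟩, hh1⟩⟩
      have hh1' : h ≠ 1 := by
        intro h0
        apply hh1
        exact Subtype.ext h0
      have hgC : x⁻¹ * h * x ∈ conjSet H := by
        refine ⟨?_, x, ?_⟩
        · have := hne x⁻¹ h hh1'
          rwa [inv_inv] at this
        · have : x * (x⁻¹ * h * x) * x⁻¹ = h := by group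
          rw [this]; exact hh
      set g : conjSet H := ⟨x⁻¹ * h * x, hgC⟩ with hg
      have hn : x * (x₀ g)⁻¹ ∈ Subgroup.normalizer (H : Set G) := by
        by_contra hcon
        have h0 := hTI (x * (x₀ g)⁻¹) hcon (x₀ g * (g : G) * (x₀ g)⁻¹) (hx₀ g) (by
          have : x * (x₀ g)⁻¹ * (x₀ g * (g : G) * (x₀ g)⁻¹) * (x * (x₀ g)⁻¹)⁻¹ = x * (g : G) * x⁻¹ := by
            group
          rw [this]
          show x * (x⁻¹ * h * x) * x⁻¹ ∈ (H : Set G)
          have : x * (x⁻¹ * h * x) * x⁻¹ = h := by group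
          rw [this]; exact hh)
        exact hne _ _ g.2.1 h0
      refine ⟨(g, ⟨x * (x₀ g)⁻¹, hn⟩), ?_⟩
      have e1 : x * (x₀ g)⁻¹ * x₀ g = x := by group
      apply Prod.ext
      · exact e1
      · apply Subtype.ext
        apply Subtype.ext
        show (x * (x₀ g)⁻¹ * x₀ g) * (g : G) * (x * (x₀ g)⁻¹ * x₀ g)⁻¹ = h
        rw [e1]
        show x * (x⁻¹ * h * x) * x⁻¹ = h
        group
  exact Nat.card_congr (Equiv.ofBijective f hf)

theorem card_conjSet' [Finite G] (H : Subgroup G) (hTI : Cfsg.IsTISubset (H : Set G)) :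
    Nat.card (conjSet H) = (Subgroup.normalizer (H : Set G)).index * (Nat.card H - 1) := by
  have h1 := card_conjSet H hTI
  have h2 := Subgroup.card_mul_index (Subgroup.normalizer (H : Set G))
  rw [← h2] at h1
  have hpos : 0 < Nat.card (Subgroup.normalizer (H : Set G)) := Nat.card_pos
  apply Nat.eq_of_mul_eq_mul_right hpos
  rw [h1]; ring

/-- Let G be a finite group and H i (i in a finite index type) subgroups of pairwise coprime orders, each of whose underlying sets is a TI-subset of G, such that every non-identity element of G is conjugate to an element of some H i. Then Nat.card G − 1 = Σ_i [G : N_G(H i)] · (Nat.card (H i) − 1). -/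
theorem result {G : Type*} [Group G] [Finite G] {ι : Type*} [Fintype ι] (H : ι → Subgroup G) (hcop : ∀ i j, i ≠ j → Nat.Coprime (Nat.card (H i)) (Nat.card (H j))) (hTI : ∀ i, Cfsg.IsTISubset (H i : Set G)) (hcover : ∀ g : G, g ≠ 1 → ∃ i, ∃ x : G, x * g * x⁻¹ ∈ H i) : Nat.card G - 1 = ∑ i, (Subgroup.normalizer (H i : Set G)).index * (Nat.card (H i) - 1) := by
  classical
  have hsum : ∑ i, (Subgroup.normalizer (H i : Set G)).index * (Nat.card (H i) - 1) =
      ∑ i, Nat.card (conjSet (H i)) := by
    apply Finset.sum_congr rfl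
    intro i _
    exact (card_conjSet' (H i) (hTI i)).symm
  rw [hsum, ← Nat.card_sigma, ← card_subtype_ne_one (H := G)]
  let f : (Σ i, conjSet (H i)) → {g : G // g ≠ 1} := fun p => ⟨(p.2 : G), p.2.2.1⟩
  have hf : Function.Bijective f := by
    constructor
    · rintro ⟨i, g, hg⟩ ⟨j, g', hg'⟩ h
      have hgg : g = g' := congrArg Subtype.val h
      subst hgg
      have hij : i = j := by
        by_contra hij
        obtain ⟨x, hx⟩ := hg.2
        obtain ⟨y, hy⟩ := hg'.2
        have h1 : orderOf g ∣ Nat.card (H i) := by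
          have : orderOf (x * g * x⁻¹) = orderOf g := by
            rw [show x * g * x⁻¹ = MulAut.conj x g from rfl, MulEquiv.orderOf_eq]
          rw [← this]
          have := orderOf_dvd_natCard (⟨x * g * x⁻¹, hx⟩ : H i)
          rwa [Subgroup.orderOf_mk] at this
        have h2 : orderOf g ∣ Nat.card (H j) := by
          have : orderOf (y * g * y⁻¹) = orderOf g := by
            rw [show y * g * y⁻¹ = MulAut.conj y g from rfl, MulEquiv.orderOf_eq]
          rw [← this]
          have := orderOf_dvd_natCard (⟨y * g * y⁻¹, hy⟩ : H j)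
          rwa [Subgroup.orderOf_mk] at this
        have h3 : orderOf g ∣ 1 := by
          have := Nat.dvd_gcd h1 h2
          rwa [hcop i j hij] at this
        have h4 : orderOf g = 1 := Nat.dvd_one.mp h3
        exact hg.1 (orderOf_eq_one_iff.mp h4)
      subst hij
      rfl
    · rintro ⟨g, hg⟩
      obtain ⟨i, x, hx⟩ := hcover g hg
      exact ⟨⟨i, ⟨g, hg, x, hx⟩⟩, rfl⟩
  exact (Nat.card_congr (Equiv.ofBijective f hf)).symm

end Cfsg.Agent.S1527
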