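import Mathlib
import Cfsg.Statements.S1528
import Cfsg.Agent.Lib.Lead.Frob1

set_option autoImplicit false

open Cfsg

namespace Cfsg.Agent.S1528

theorem result {G : Type*} [Group G] [Fintype G] (N : Subgroup G) [N.Normal] (hC : ∀ n ∈ N, n ≠ 1 → Subgroup.centralizer ({n} : Set G) ≤ N) (χ : G → ℂ) (hχ : Cfsg.IsIrrCharacter G χ) (hker : ∃ n ∈ N, χ n ≠ χ 1) : ∃ φ : N → ℂ, Cfsg.IsIrrCharacter N φ ∧ χ = Cfsg.indFun N φ := by
  exact Cfsg.Agent.Lib.Lead.Frob.s1528 N hC χ hχ hker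

end Cfsg.Agent.S1528
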