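import Mathlib
import Cfsg.Statements.S1532
import Cfsg.Agent.Lib.Lead.Sib5

set_option autoImplicit false

open Cfsg

namespace Cfsg.Agent.S1532

theorem result {G : Type*} [Group G] [Fintype G] (p : ℕ) [Fact p.Prime] (hp : p ≠ 2) (P : Sylow p G) (hna : ¬ IsMulCommutative (P : Subgroup G)) (hTI : Cfsg.IsTISubset ((P : Subgroup G) : Set G)) (hlt : (P : Subgroup G) < Subgroup.normalizer ((P : Subgroup G) : Set G)) (hC : ∀ k ∈ (P : Subgroup G), k ≠ 1 → Subgroup.centralizer ({k} : Set G) ≤ (P : Subgroup G)) [Fintype ↥(Subgroup.normalizer ((P : Subgroup G) : Set G))] (Z : Subgroup G) (hZ1 : Z ≠ ⊥) (hZP : ∀ z ∈ Z, z ∈ (P : Subgroup G) ∧ ∀ y ∈ (P : Subgroup G), z * y = y * z) (hZn : ∀ x ∈ Subgroup.normalizer ((P : Subgroup G) : Set G), ∀ z ∈ Z, x * z * x⁻¹ ∈ Z) : Cfsg.IsCoherent {χ : ↥(Subgroup.normalizer ((P : Subgroup G) : Set G)) → ℂ | Cfsg.IsIrrCharacter ↥(Subgroup.normalizer ((P : Subgroup G) : Set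 G)) χ ∧ ∃ z : ↥(Subgroup.normalizer ((P : Subgroup G) : Set G)), (z : G) ∈ Z ∧ χ z ≠ χ 1} {1}ᶜ (fun α => Cfsg.indFun (Subgroup.normalizer ((P : Subgroup G) : Set G)) α) := by
  have hlt' : ∃ x ∈ Subgroup.normalizer ((P : Subgroup G) : Set G), x ∉ (P : Subgroup G) := by
    by_contra hcon
    push Not at hcon
    exact absurd (le_antisymm (fun x hx => hcon x hx) hlt.le) (ne_of_gt hlt)
  exact Cfsg.Agent.Lib.Lead.Sib.s1532_aux p hp (P : Subgroup G) P.isPGroup' hna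
    (Subgroup.normalizer ((P : Subgroup G) : Set G)) hlt.le
    (fun x hx h hh => (Subgroup.mem_normalizer_iff.1 hx h).1 hh) hlt'
    (fun g hg t ht h => hTI g hg t ht h) hC Z hZ1 hZP hZn

end Cfsg.Agent.S1532
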