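import Mathlib
import Cfsg.Statements.S1534
import Cfsg.Agent.Lib.Lead.Se5

set_option autoImplicit false

open Cfsg

namespace Cfsg.Agent.S1534

theorem result {G : Type*} [Group G] [Fintype G] (K : Subgroup G) (hK1 : K ≠ ⊥) (hnil : Group.IsNilpotent K) (hTI : Cfsg.IsTISubset (K : Set G)) (hlt : K < Subgroup.normalizer (K : Set G)) (hC : ∀ k ∈ K, k ≠ 1 → Subgroup.centralizer ({k} : Set G) ≤ K) [Fintype ↥(Subgroup.normalizer (K : Set G))] : (Nat.card {χ : ↥(Subgroup.normalizer (K : Set G)) → ℂ // Cfsg.IsIrrCharacter ↥(Subgroup.normalizer (K : Set G)) χ ∧ ∃ k : ↥(Subgroup.normalizer (K : Set G)), (k : G) ∈ K ∧ χ k ≠ χ 1} = 1 ∧ Nat.card K = (K.subgroupOf (Subgroup.normalizer (K : Set G))).index + 1 ∧ ∃ p : ℕ, p.Prime ∧ Cfsg.IsElementaryAbelian p K) ∨ (Nat.card K = 2 ^ (Nat.card G).factorization 2 ∧ (⁅K, K⁆.subgroupOf K).index < 4 * (K.subgroupOf (Subgroup.normalizer (K : Set G))).index ^ 2) ∨ Cfsg.IsCoherent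 {χ : ↥(Subgroup.normalizer (K : Set G)) → ℂ | Cfsg.IsIrrCharacter ↥(Subgroup.normalizer (K : Set G)) χ ∧ ∃ k : ↥(Subgroup.normalizer (K : Set G)), (k : G) ∈ K ∧ χ k ≠ χ 1} {1}ᶜ (fun α => Cfsg.indFun (Subgroup.normalizer (K : Set G)) α) := by
  have hlt' : ∃ x ∈ Subgroup.normalizer (K : Set G), x ∉ K := by
    by_contra hcon
    push Not at hcon
    exact absurd (le_antisymm (fun x hx => hcon x hx) hlt.le) (ne_of_gt hlt)
  exact Cfsg.Agent.Lib.Lead.Se.s1534_aux K hK1 hnil (Subgroup.normalizer (K : Set G)) hlt.le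
    (fun x hx h hh => (Subgroup.mem_normalizer_iff.1 hx h).1 hh) hlt'
    (fun g hg t ht h => hTI g hg t ht h) hC

end Cfsg.Agent.S1534
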