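import Cfsg.Statements.S1542
import Cfsg.Agent.S1351
import Cfsg.Agent.S1352
import Cfsg.Agent.S1354
import Cfsg.Agent.S1355
import Cfsg.Agent.S1356
import Cfsg.Agent.S1357
import Cfsg.Agent.S1360
import Cfsg.Agent.S1363
import Cfsg.Agent.S1364
import Cfsg.Agent.S1365
import Cfsg.Agent.S1366
import Cfsg.Agent.S1368
import Cfsg.Agent.S1370
import Cfsg.Agent.S1372
import Cfsg.Agent.S1374
import Cfsg.Agent.S1375
import Cfsg.Agent.S1378
import Cfsg.Agent.S1432
import Cfsg.Agent.S1436
import Cfsg.Agent.Lib.Helper6.PF8f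

set_option autoImplicit false
open Cfsg

namespace Cfsg.Agent.S1542

open Cfsg.Agent.Lib.Helper7.BGRows

/-- Let G be a minimal simple group of odd order and L a maximal subgroup of Type I in which every non-identity element of H = L_F has its centraliser within L inside H. Let S be the set of functions on L induced from non-principal irreducible characters of H. Then every member of S is an irreducible character of L, and (S, L minus 1, τ) is coherent for τ the Dade map relative to A(L), L and a ↦ R(a). -/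
theorem result {G : Type*} [Group G] [Fintype G] (hG : Cfsg.IsMinSimpleOddOrder G) (L : Subgroup G) [Fintype L] (hL : IsCoatom L) (hI : Cfsg.IsOfTypeI L) (hfrob : ∀ x ∈ Cfsg.fittingHallOf L, x ≠ 1 → L ⊓ Subgroup.centralizer ({x} : Set G) ≤ Cfsg.fittingHallOf L) : (∀ χ ∈ Cfsg.inducedIrrAbove (Cfsg.fittingHall L) ⊥, Cfsg.IsIrrCharacter L χ) ∧ Cfsg.IsCoherent (Cfsg.inducedIrrAbove (Cfsg.fittingHall L) ⊥) {1}ᶜ (Cfsg.dadeIsometry (Cfsg.typeA L) L (Cfsg.supportR L)) := by
  have h1351 : Row1351 G := fun hG M hM => Cfsg.Agent.S1351.result hG M hM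
  have h1352 : Row1352 G := fun hG M hM K hKc hK => Cfsg.Agent.S1352.result hG M hM K hKc hK
  have h1354 : Row1354 G := fun hG M hM K hKc hK => Cfsg.Agent.S1354.result hG M hM K hKc hK
  have h1355 : Row1355 G := fun hG M hM => Cfsg.Agent.S1355.result hG M hM
  have h1356 : Row1356 G := fun hG M hM => Cfsg.Agent.S1356.result hG M hM
  have h1357 : Row1357 G := fun hG M hM K U hKU hne => Cfsg.Agent.S1357.result hG M hM K U hKU hne
  have h1360 : Row1360 G := fun hG M hM K U hKU => Cfsg.Agent.S1360.result hG M hM K U hKU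
  have h1363 : Row1363 G := fun hG M hM K U hKU hK1 => Cfsg.Agent.S1363.result hG M hM K U hKU hK1
  have h1364 : Row1364 G := fun hG M hM K U hKU hK1 => Cfsg.Agent.S1364.result hG M hM K U hKU hK1
  have h1365 : Row1365 G := fun hG M hM K U hKU hK1 => Cfsg.Agent.S1365.result hG M hM K U hKU hK1
  have h1366 : Row1366 G := fun hG M hM K U hKU hK1 => Cfsg.Agent.S1366.result hG M hM K U hKU hK1
  have h1368 : Row1368 G := fun hG M hM K U hKU hK1 Mstar hMstar hKst hKstH => Cfsg.Agent.S1368.result hG M hM K U hKU hK1 Mstar hMstar hKst hKstH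
  have h1370 : Row1370 G := fun hG M hM K U hKU hK1 => Cfsg.Agent.S1370.result hG M hM K U hKU hK1
  have h1372 : Row1372 G := fun hG M hM K U hKU hK1 hU1 => Cfsg.Agent.S1372.result hG M hM K U hKU hK1 hU1
  have h1374 : Row1374 G := fun hG M hM x hx hx1 => Cfsg.Agent.S1374.result hG M hM x hx hx1
  have h1375 : Row1375 G := fun hG M hM x hx hx1 hxM => Cfsg.Agent.S1375.result hG M hM x hx hx1 hxM
  have h1378 : Row1378 G := fun hG => Cfsg.Agent.S1378.result hG
  have h1432 : Row1432 G := fun hG M hM x hx hx1 x' hx' hx'1 hσ => Cfsg.Agent.S1432.result hG M hM x hx hx1 x' hx' hx'1 hσ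
  have h1436 : Row1436 G := fun hG M hM x hx hx1 hxM N hN hxN => Cfsg.Agent.S1436.result hG M hM x hx hx1 hxM N hN hxN
  have h1381 : Row1381 G := Cfsg.Agent.Lib.Helper3.BG17.s1381_of h1354 h1355 h1356 h1357 h1360 h1363 h1364 h1365 h1366 h1368 h1370 h1372
  have h1382 : Row1382 G := Cfsg.Agent.Lib.Helper3.BG17.s1382_of h1354 h1355 h1356 h1357 h1363 h1364 h1365 h1366 h1368 h1370
  have hW : Cfsg.Agent.Lib.Helper6.PF8.Weak2 G := Cfsg.Agent.Lib.Helper6.PF8.weak2_of_rows h1351 h1352 h1354 h1355 h1356 h1357 h1364 h1365 h1366 h1368 h1370 h1374 h1375 h1378 h1381 h1382 h1432 h1436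
  exact Cfsg.Agent.Lib.Helper6.PF8.s1542_rows2 h1351 h1352 h1355 h1357 h1364 h1365 h1382 hW hG L hL hI hfrob

end Cfsg.Agent.S1542
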