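import Mathlib
import Cfsg.Statements.S1546

set_option autoImplicit false
open Cfsg

namespace Cfsg.Agent.S1546

open Finset

/-- geometric sum modulo `r` when `p ≡ 1`. -/
theorem geom_mod (p q r : ℕ) (h : p % r = 1 % r) : (∑ k ∈ range q, p ^ k) % r = q % r := by
  have h1 : ((∑ k ∈ range q, p ^ k : ℕ) : ZMod r) = (q : ZMod r) := by
    have hp : (p : ZMod r) = 1 := by
      have := (ZMod.natCast_eq_natCast_iff' p 1 r).mpr h
      simpa using this
    push_cast
    rw [hp]
    simp
  exact (ZMod.natCast_eq_natCast_iff' _ _ _).mp h1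

/-- Let p and q be odd primes and N = (p ^ q − 1) / (p − 1) = 1 + p + ⋯ + p^(q−1). Then N is odd; if p ≡ 1 (mod q) then q ∣ N; and if p is not ≡ 1 (mod q) then N is coprime to p − 1 and every divisor of N is ≡ 1 (mod q). -/
theorem result (p q : ℕ) (hp : p.Prime) (hq : q.Prime) (hp2 : p ≠ 2) (hq2 : q ≠ 2) : Odd ((p ^ q - 1) / (p - 1)) ∧ (p % q = 1 → q ∣ (p ^ q - 1) / (p - 1)) ∧ (p % q ≠ 1 → Nat.Coprime ((p ^ q - 1) / (p - 1)) (p - 1) ∧ ∀ x : ℕ, x ∣ (p ^ q - 1) / (p - 1) → x % q = 1) := by
  have hp2' : 2 ≤ p := hp.two_le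
  have hq2' : 2 ≤ q := hq.two_le
  have hp3 : 3 ≤ p := by omega
  have hq3 : 3 ≤ q := by omega
  rw [← Nat.geomSum_eq hp2' q]
  set N := ∑ k ∈ range q, p ^ k with hN
  have hpodd : p % 2 = 1 := by
    rcases hp.eq_two_or_odd with h | h
    · exact absurd h hp2
    · exact h
  have hqodd : q % 2 = 1 := by
    rcases hq.eq_two_or_odd with h | h
    · exact absurd h hq2
    · exact h
  have hNpos : 0 < N := by
    rw [hN]
    have : p ^ 0 ≤ ∑ k ∈ range q, p ^ k :=
      Finset.single_le_sum (f := fun k => p ^ k) (fun _ _ => Nat.zero_le _) (Finset.mem_range.mpr (by omega))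
    have h1 : p ^ 0 = 1 := pow_zero p
    omega
  have hmul : N * (p - 1) = p ^ q - 1 := by
    rw [hN]
    exact geom_sum_mul_of_one_le (by omega) q
  refine ⟨?_, ?_, ?_⟩
  · rw [Nat.odd_iff]
    have := geom_mod p q 2 (by rw [hpodd])
    rw [this, hqodd]
  · intro hpq
    rw [Nat.dvd_iff_mod_eq_zero]
    have := geom_mod p q q (by rw [hpq, Nat.mod_eq_of_lt (by omega : 1 < q)])
    rw [this, Nat.mod_self]
  · intro hpq
    have hq_not_dvd : ¬ q ∣ p - 1 := by
      intro hd
      obtain ⟨k, hk⟩ := hd
      apply hpq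
      have : p = q * k + 1 := by omega
      rw [this, Nat.mul_add_mod, Nat.mod_eq_of_lt (by omega : 1 < q)]
    constructor
    · -- coprime
      have hmod : N % (p - 1) = q % (p - 1) := by
        apply geom_mod
        obtain ⟨t, ht⟩ : ∃ t, p = t + 1 := ⟨p - 1, by omega⟩
        subst ht
        rw [Nat.add_sub_cancel, Nat.add_mod, Nat.mod_self, zero_add, Nat.mod_mod]
      have : Nat.gcd N (p - 1) = Nat.gcd q (p - 1) := by
        rw [Nat.gcd_comm N, Nat.gcd_comm q, Nat.gcd_rec (p - 1) N, Nat.gcd_rec (p - 1) q, hmod]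
      unfold Nat.Coprime
      rw [this]
      exact (Nat.Prime.coprime_iff_not_dvd hq).mpr hq_not_dvd
    · -- divisors
      intro x
      induction x using Nat.recOnMul with
      | zero =>
        intro h0
        rw [zero_dvd_iff] at h0
        omega
      | one => intro _; exact Nat.mod_eq_of_lt (by omega)
      | prime r hr =>
        intro hrN
        have : Fact r.Prime := ⟨hr⟩
        have hr_dvd : r ∣ p ^ q - 1 := by
          rw [← hmul]; exact Dvd.dvd.mul_right hrN _
        have hpow : ((p : ZMod r)) ^ q = 1 := by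
          have h1 : ((p ^ q - 1 : ℕ) : ZMod r) = 0 := (ZMod.natCast_eq_zero_iff _ _).mpr hr_dvd
          have h2 : 1 ≤ p ^ q := Nat.one_le_pow _ _ (by omega)
          rw [Nat.cast_sub h2] at h1
          push_cast at h1
          exact sub_eq_zero.mp h1
        have hord : orderOf (p : ZMod r) ∣ q := orderOf_dvd_of_pow_eq_one hpow
        rcases (Nat.dvd_prime hq).mp hord with h1 | h1
        · -- p ≡ 1 mod r
          exfalso
          have hp1 : (p : ZMod r) = 1 := orderOf_eq_one_iff.mp h1
          have hp1' : p % r = 1 % r := by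
            apply (ZMod.natCast_eq_natCast_iff' p 1 r).mp
            simpa using hp1
          have hNr := geom_mod p q r hp1'
          rw [← hN, (Nat.dvd_iff_mod_eq_zero).mp hrN] at hNr
          have hrq : r ∣ q := (Nat.dvd_iff_mod_eq_zero).mpr hNr.symm
          have hrq' : r = q := (Nat.prime_dvd_prime_iff_eq hr hq).mp hrq
          subst hrq'
          apply hpq
          rw [hp1', Nat.mod_eq_of_lt (by omega : 1 < r)]
        · have hne : (p : ZMod r) ≠ 0 := by
            intro h0
            rw [h0, zero_pow (by omega)] at hpow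
            exact zero_ne_one hpow
          have h2 : (p : ZMod r) ^ (r - 1) = 1 := ZMod.pow_card_sub_one_eq_one hne
          have h3 : orderOf (p : ZMod r) ∣ r - 1 := orderOf_dvd_of_pow_eq_one h2
          rw [h1] at h3
          obtain ⟨k, hk⟩ := h3
          have hr2 := hr.two_le
          have : r = q * k + 1 := by omega
          rw [this, Nat.mul_add_mod, Nat.mod_eq_of_lt (by omega : 1 < q)]
      | mul a b iha ihb =>
        intro hab
        have ha := iha (Dvd.dvd.trans (Dvd.intro _ rfl) hab)
        have hb := ihb (Dvd.dvd.trans (Dvd.intro_left _ rfl) hab)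
        rw [Nat.mul_mod, ha, hb, one_mul, Nat.mod_eq_of_lt (by omega : 1 < q)]

end Cfsg.Agent.S1546
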