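import Cfsg.Statements.S1555
import Cfsg.Agent.Lib.Helper9.Steiner8
import Cfsg.Agent.Lib.Helper9.GolayQR8

set_option autoImplicit false
open scoped Pointwise
open Cfsg

namespace Cfsg.Agent.S1555

/-- Bottom row of the Leech triangle: an octad is met in a prescribed pair of its points by exactly 16 octads and in a prescribed 4-subset by exactly 4 octads. -/
theorem result (o : Finset Cfsg.GolayPt) (ho : o ∈ Cfsg.octads) (s : Finset Cfsg.GolayPt) (hs : s ⊆ o) : (s.card = 2 → {o' : Finset Cfsg.GolayPt | o' ∈ Cfsg.octads ∧ o ∩ o' = s}.ncard = 16) ∧ (s.card = 4 → {o' : Finset Cfsg.GolayPt | o' ∈ Cfsg.octads ∧ o ∩ o' = s}.ncard = 4) := by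
  classical
  obtain ⟨Bf, hBf⟩ := Cfsg.Agent.Lib.Helper9.GolayQR8.exists_octads_finset
  have hB : Cfsg.IsSteinerSystem 5 8 (Bf : Set (Finset Cfsg.GolayPt)) := by
    rw [hBf]; exact Cfsg.Agent.Lib.Helper9.GolayQR5.octads_isSteiner
  have hob : o ∈ Bf := by
    rw [← Finset.mem_coe, hBf]; exact ho
  have hset : {o' : Finset Cfsg.GolayPt | o' ∈ Cfsg.octads ∧ o ∩ o' = s}
      = ((Bf.filter (fun c => o ∩ c = s) : Finset (Finset Cfsg.GolayPt)) : Set _) := by
    ext c
    rw [Finset.mem_coe, Finset.mem_filter, ← Finset.mem_coe, hBf]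
    exact Iff.rfl
  rw [hset, Set.ncard_coe_finset]
  exact ⟨fun h2 => Cfsg.Agent.Lib.Helper9.Steiner8.meet_two
      Cfsg.Agent.Lib.Helper9.GolayQR5.card_golayPt Bf hB o hob s hs h2,
    fun h4 => Cfsg.Agent.Lib.Helper9.Steiner8.meet_four
      Cfsg.Agent.Lib.Helper9.GolayQR5.card_golayPt Bf hB o hob s hs h4⟩

end Cfsg.Agent.S1555
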