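import Cfsg.Statements.S1567
import Cfsg.Agent.Lib.Helper4.Leech2

set_option autoImplicit false
open Cfsg

namespace Cfsg.Agent.S1567

open Finset
open Cfsg.Agent.Lib.Helper9.Golay1 Cfsg.Agent.Lib.Helper4.Leech Cfsg.Agent.Lib.Helper4.Leech2
open Cfsg.Agent.Lib.Helper9.GolayQR2

/-- the minimal vectors -/
def minV : Set (GolayPt → ℤ) := {x | x ∈ leechLattice ∧ sqNorm x = 32}

/-- vectors with all coordinates divisible by four and sum divisible by eight -/
theorem mem_of_four_dvd (y : GolayPt → ℤ) (h4 : ∀ i, (4 : ℤ) ∣ y i) (h8 : (8 : ℤ) ∣ ∑ i, y i) :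
    y ∈ leechSet := by
  rw [mem_leechSet_iff]
  refine ⟨0, fun i => ?_, ?_, fun k => ?_⟩
  · obtain ⟨c, hc⟩ := h4 i
    rw [hc]
    unfold Int.ModEq
    omega
  · obtain ⟨c, hc⟩ := h8
    rw [hc]
    unfold Int.ModEq
    omega
  · have : lev y k = if (0 : ℤ) ≡ k [ZMOD 4] then Finset.univ else ∅ := by
      ext i
      obtain ⟨c, hc⟩ := h4 i
      by_cases h : (0 : ℤ) ≡ k [ZMOD 4]
      · simp only [mem_lev, h, if_true, Finset.mem_univ, iff_true]
        rw [hc]
        unfold Int.ModEq at *
        omega
      · simp only [mem_lev, h, if_false, Finset.notMem_empty, iff_false]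
        rw [hc]
        unfold Int.ModEq at *
        omega
    rw [this]
    split_ifs
    · rw [ind_univ]; exact one_mem_golay
    · rw [ind_empty]; exact golayCode.zero_mem

def fourD (i j : GolayPt) : GolayPt → ℤ := fun p => (if p = i then 4 else 0) - (if p = j then 4 else 0)

def fourS (i j : GolayPt) : GolayPt → ℤ := fun p => (if p = i then 4 else 0) + (if p = j then 4 else 0)

theorem sqNorm_fourD : ∀ i j : GolayPt, i ≠ j → sqNorm (fourD i j) = 32 := by
  decide +kernel

theorem sqNorm_fourS : ∀ i j : GolayPt, i ≠ j → sqNorm (fourS i j) = 32 := by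
  decide +kernel

theorem sum_fourD : ∀ i j : GolayPt, ∑ p, fourD i j p = 0 := by
  decide +kernel

theorem sum_fourS : ∀ i j : GolayPt, ∑ p, fourS i j p = 8 := by
  decide +kernel

theorem fourD_mem (i j : GolayPt) (h : i ≠ j) : fourD i j ∈ minV := by
  refine ⟨(mem_leechLattice_iff _).mpr (mem_of_four_dvd _ (fun p => ?_) ?_), sqNorm_fourD i j h⟩
  · unfold fourD
    split_ifs <;> norm_num
  · rw [sum_fourD]; exact dvd_zero _

theorem fourS_mem (i j : GolayPt) (h : i ≠ j) : fourS i j ∈ minV := by
  refine ⟨(mem_leechLattice_iff _).mpr (mem_of_four_dvd _ (fun p => ?_) ?_), sqNorm_fourS i j h⟩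
  · unfold fourS
    split_ifs <;> norm_num
  · rw [sum_fourS]

/-- the vector `(-3, 1, …, 1)` -/
def v₀ : GolayPt → ℤ := fun p => if p = none then -3 else 1

theorem v₀_mem : v₀ ∈ minV := by
  refine ⟨(mem_leechLattice_iff _).mpr ?_, by decide +kernel⟩
  rw [mem_leechSet_iff]
  refine ⟨1, fun i => ?_, by decide +kernel, fun k => ?_⟩
  · unfold v₀
    split_ifs <;> decide
  · have : lev v₀ k = if (1 : ℤ) ≡ k [ZMOD 4] then Finset.univ else ∅ := by
      ext i
      have hi : v₀ i = -3 ∨ v₀ i = 1 := by
        unfold v₀; split_ifs <;> simp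
      by_cases h : (1 : ℤ) ≡ k [ZMOD 4]
      · simp only [mem_lev, h, if_true, Finset.mem_univ, iff_true]
        unfold Int.ModEq at *
        omega
      · simp only [mem_lev, h, if_false, Finset.notMem_empty, iff_false]
        unfold Int.ModEq at *
        omega
    rw [this]
    split_ifs
    · rw [ind_univ]; exact one_mem_golay
    · rw [ind_empty]; exact golayCode.zero_mem

/-- twice the indicator of a set -/
def two (s : Finset GolayPt) : GolayPt → ℤ := fun p => if p ∈ s then 2 else 0

theorem ind_compl (s : Finset GolayPt) : ind sᶜ = 1 + ind s := by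
  ext i
  by_cases h : i ∈ s <;> simp [ind, h]
  decide

theorem two_mem (s : Finset GolayPt) (hs : ind s ∈ golayCode) (h8 : s.card = 8) : two s ∈ minV := by
  constructor
  · rw [mem_leechLattice_iff, mem_leechSet_iff]
    refine ⟨0, fun i => ?_, ?_, fun k => ?_⟩
    · unfold two
      split_ifs <;> decide
    · have : ∑ i, two s i = 16 := by
        unfold two
        rw [Finset.sum_ite_mem, Finset.univ_inter, Finset.sum_const, h8]
        rfl
      rw [this]
      decide
    · by_cases h2 : (2 : ℤ) ≡ k [ZMOD 4]
      · have : lev (two s) k = s := by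
          ext i
          unfold two
          by_cases hi : i ∈ s
          · simp only [mem_lev, hi, if_true, iff_true]; exact h2
          · simp only [mem_lev, hi, if_false, iff_false]
            unfold Int.ModEq at *
            omega
        rw [this]; exact hs
      by_cases h0 : (0 : ℤ) ≡ k [ZMOD 4]
      · have : lev (two s) k = sᶜ := by
          ext i
          unfold two
          by_cases hi : i ∈ s
          · simp only [mem_lev, hi, if_true, Finset.mem_compl, not_true, iff_false]
            unfold Int.ModEq at *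
            omega
          · simp only [mem_lev, hi, if_false, Finset.mem_compl, not_false_eq_true, iff_true]
            exact h0
        rw [this, ind_compl]
        exact golayCode.add_mem one_mem_golay hs
      · have : lev (two s) k = ∅ := by
          ext i
          unfold two
          simp only [mem_lev, Finset.notMem_empty, iff_false]
          unfold Int.ModEq at *
          split_ifs <;> omega
        rw [this, ind_empty]
        exact golayCode.zero_mem
  · unfold sqNorm two
    have : ∀ i, (if i ∈ s then (2 : ℤ) else 0) ^ 2 = if i ∈ s then 4 else 0 := by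
      intro i; split_ifs <;> norm_num
    simp only [this]
    rw [Finset.sum_ite_mem, Finset.univ_inter, Finset.sum_const, h8]
    rfl
theorem bw_card : ∀ j : Fin 12, (supp (bw j)).card = 8 := by
  intro j
  rw [← wt_eq]
  unfold bw
  rw [Cfsg.Agent.Lib.Helper9.GolayQR1.wt_dec]
  revert j
  decide +kernel

theorem two_bw_mem (j : Fin 12) : two (supp (bw j)) ∈ minV := by
  apply two_mem _ _ (bw_card j)
  rw [ind_supp]
  exact Cfsg.Agent.Lib.Helper9.GolayQR3.bw_mem j

/-- vectors with coordinates divisible by four -/
theorem mem_closure_of_four (y : GolayPt → ℤ) (h4 : ∀ i, (4 : ℤ) ∣ y i) (h8 : (8 : ℤ) ∣ ∑ i, y i) :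
    y ∈ AddSubgroup.closure minV := by
  choose u hu using h4
  obtain ⟨t, ht⟩ := h8
  have hsum : ∑ i, u i = 2 * t := by
    have : ∑ i, y i = 4 * ∑ i, u i := by
      rw [Finset.mul_sum]
      exact Finset.sum_congr rfl fun i _ => hu i
    rw [this] at ht
    omega
  have hy : y = ∑ i, u i • fourD i none + t • (fourS none (some 0) + fourD none (some 0)) := by
    funext p
    have h1 : (∑ i, u i • fourD i none) p
        = 4 * u p - (∑ i, u i) * (if p = none then 4 else 0) := by
      simp only [Finset.sum_apply, Pi.smul_apply, smul_eq_mul, fourD, mul_sub,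
        Finset.sum_sub_distrib, mul_ite, mul_zero, Finset.sum_ite_eq,
        Finset.mem_univ, if_true]
      by_cases hp : p = none
      · simp only [hp, if_true, Finset.sum_mul]
        ring
      · simp only [hp, if_false, Finset.sum_const_zero]
        ring
    rw [Pi.add_apply, h1, hsum, hu p]
    simp only [Pi.smul_apply, Pi.add_apply, smul_eq_mul, fourS, fourD]
    by_cases hp : p = none
    · subst hp
      simp
      ring
    · by_cases hp0 : p = some 0
      · subst hp0
        simp
      · simp [hp, hp0]
  rw [hy]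
  apply add_mem
  · apply sum_mem
    intro i _
    by_cases hi : i = none
    · have : fourD i none = 0 := by
        funext p
        simp [fourD, hi]
      rw [this, smul_zero]
      exact zero_mem _
    · exact zsmul_mem (AddSubgroup.subset_closure (fourD_mem i none hi)) _
  · apply zsmul_mem
    exact add_mem (AddSubgroup.subset_closure (fourS_mem none (some 0) (by decide)))
      (AddSubgroup.subset_closure (fourD_mem none (some 0) (by decide)))

theorem mem_closure_of_four' (y : GolayPt → ℤ) (hy : y ∈ leechSet) (h4 : ∀ i, (4 : ℤ) ∣ y i) :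
    y ∈ AddSubgroup.closure minV := by
  apply mem_closure_of_four y h4
  rw [mem_leechSet_iff] at hy
  obtain ⟨m, hm1, hm2, -⟩ := hy
  have h1 := hm1 none
  obtain ⟨c, hc⟩ := h4 none
  rw [hc] at h1
  unfold Int.ModEq at *
  omega

/-- the even case -/
theorem mem_closure_of_even (x : GolayPt → ℤ) (hx : x ∈ leechSet) (h2 : ∀ i, (2 : ℤ) ∣ x i) :
    x ∈ AddSubgroup.closure minV := by
  have hT : ind (lev x 2) ∈ golayCode := by
    rw [mem_leechSet_iff] at hx
    obtain ⟨m, -, -, hm⟩ := hx
    exact hm 2
  obtain ⟨g, hg⟩ := Cfsg.Agent.Lib.Helper9.GolayQR4.exists_coords _ hT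
  set z : GolayPt → ℤ := ∑ j, (if g j = 1 then two (supp (bw j)) else 0) with hz
  have hzmem : z ∈ AddSubgroup.closure minV := by
    apply sum_mem
    intro j _
    split_ifs
    · exact AddSubgroup.subset_closure (two_bw_mem j)
    · exact zero_mem _
  have hzL : z ∈ leechSub := by
    apply sum_mem
    intro j _
    split_ifs
    · exact (mem_leechLattice_iff _).mp (two_bw_mem j).1
    · exact zero_mem _
  have hxz : x - z ∈ leechSet := leechSub.sub_mem hx hzL
  -- coordinates of z
  have hzp : ∀ p, ∃ c : ℤ, z p = 2 * c ∧ ((c : ZMod 2) = ind (lev x 2) p) := by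
    intro p
    refine ⟨∑ j, (if g j = 1 then (if bw j p ≠ 0 then 1 else 0) else 0), ?_, ?_⟩
    · rw [hz, Finset.sum_apply, Finset.mul_sum]
      refine Finset.sum_congr rfl fun j _ => ?_
      by_cases hgj : g j = 1
      · simp only [hgj, if_true, two, mem_supp]
        split_ifs <;> simp
      · simp [hgj]
    · rw [← hg, Finset.sum_apply]
      push_cast
      refine Finset.sum_congr rfl fun j _ => ?_
      rcases zmod2_cases (g j) with h0 | h1
      · simp [h0]
      · rcases zmod2_cases (bw j p) with hb | hb
        · simp [h1, hb]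
        · simp [h1, hb]
  have h4 : ∀ p, (4 : ℤ) ∣ (x - z) p := by
    intro p
    obtain ⟨c, hc1, hc2⟩ := hzp p
    obtain ⟨d, hd⟩ := h2 p
    rw [Pi.sub_apply, hc1]
    by_cases hp : p ∈ lev x 2
    · have h3 : (c : ZMod 2) = 1 := by rw [hc2]; simp [ind, hp]
      have h5 : c % 2 = 1 := by
        have := (ZMod.intCast_eq_intCast_iff c 1 2).mp (by rw [h3]; simp)
        unfold Int.ModEq at this
        omega
      rw [mem_lev] at hp
      unfold Int.ModEq at hp
      omega
    · have h3 : (c : ZMod 2) = 0 := by rw [hc2]; simp [ind, hp]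
      have h5 : c % 2 = 0 := by
        have := (ZMod.intCast_eq_intCast_iff c 0 2).mp (by rw [h3]; simp)
        unfold Int.ModEq at this
        omega
      rw [mem_lev] at hp
      unfold Int.ModEq at hp
      omega
  have := add_mem (mem_closure_of_four' _ hxz h4) hzmem
  rwa [sub_add_cancel] at this

/-- The rank-24 lattice is the additive subgroup generated by its 196560 minimal vectors. -/
theorem result : AddSubgroup.closure {x : Cfsg.GolayPt → ℤ | x ∈ Cfsg.leechLattice ∧ Cfsg.sqNorm x = 32} = Cfsg.leechLattice := by
  apply le_antisymm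
  · rw [AddSubgroup.closure_le]
    exact fun x hx => hx.1
  · intro x hx
    rw [mem_leechLattice_iff] at hx
    have hx' := hx
    rw [mem_leechSet_iff] at hx'
    obtain ⟨m, hm1, -, -⟩ := hx'
    by_cases hm : (2 : ℤ) ∣ m
    · apply mem_closure_of_even x hx
      intro i
      have := hm1 i
      obtain ⟨c, hc⟩ := hm
      unfold Int.ModEq at this
      omega
    · have hv : v₀ ∈ leechSub := (mem_leechLattice_iff _).mp v₀_mem.1
      have hxv : x - v₀ ∈ leechSet := leechSub.sub_mem hx hv
      have h2 : ∀ i, (2 : ℤ) ∣ (x - v₀) i := by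
        intro i
        have := hm1 i
        have hi : v₀ i = -3 ∨ v₀ i = 1 := by
          unfold v₀; split_ifs <;> simp
        rw [Pi.sub_apply]
        unfold Int.ModEq at this
        omega
      have := add_mem (mem_closure_of_even _ hxv h2) (AddSubgroup.subset_closure v₀_mem)
      rwa [sub_add_cancel] at this

end Cfsg.Agent.S1567
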