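import Cfsg.Statements.S1578
import Cfsg.Agent.Lib.Helper9.LeechD5

set_option autoImplicit false
open Cfsg

namespace Cfsg.Agent.S1578

/-- A lattice vector of customary norm 6 is the sum of an unordered pair of minimal vectors in exactly 276 ways (552 ordered summands). -/
theorem result (u : ↥Cfsg.leechLattice) (hu : Cfsg.sqNorm (u : Cfsg.GolayPt → ℤ) = 48) : {v : ↥Cfsg.leechLattice | Cfsg.sqNorm (v : Cfsg.GolayPt → ℤ) = 32 ∧ Cfsg.sqNorm ((u - v) : Cfsg.GolayPt → ℤ) = 32}.ncard = 552 := by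
  have h := (Cfsg.Agent.Lib.Helper9.LeechD5.census48 u hu).1
  rw [← h]
  have himg : {w : Cfsg.GolayPt → ℤ | w ∈ Cfsg.leechLattice ∧ Cfsg.sqNorm w = 32 ∧
      Cfsg.dotInt (u : Cfsg.GolayPt → ℤ) w = 24}
      = Subtype.val '' {v : ↥Cfsg.leechLattice | Cfsg.sqNorm (v : Cfsg.GolayPt → ℤ) = 32 ∧
          Cfsg.sqNorm ((u - v) : Cfsg.GolayPt → ℤ) = 32} := by
    ext w
    simp only [Set.mem_setOf_eq, Set.mem_image]
    constructor
    · rintro ⟨hw, hn, hd⟩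
      refine ⟨⟨w, hw⟩, ⟨hn, ?_⟩, rfl⟩
      rw [Cfsg.Agent.Lib.Helper9.LeechC7.sqNorm_sub, hu]
      show (48 : ℤ) - 2 * Cfsg.dotInt (u : Cfsg.GolayPt → ℤ) w + Cfsg.sqNorm w = 32
      rw [hd, hn]; norm_num
    · rintro ⟨v, ⟨hn, hs⟩, rfl⟩
      refine ⟨v.2, hn, ?_⟩
      rw [Cfsg.Agent.Lib.Helper9.LeechC7.sqNorm_sub, hu, hn] at hs
      linarith
  rw [himg, Set.ncard_image_of_injective _ Subtype.val_injective]

end Cfsg.Agent.S1578
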