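import Cfsg.Statements.S1581
import Cfsg.Agent.Lib.Helper9.McL162f

set_option autoImplicit false
open Cfsg
open Cfsg.Agent.Lib.Helper9.LeechE4 Cfsg.Agent.Lib.Helper9.LeechX11 Cfsg.Agent.Lib.Helper9.McL162a Cfsg.Agent.Lib.Helper9.McL162e
  Cfsg.Agent.Lib.Helper9.McL162f

namespace Cfsg.Agent.S1581

/-- The McLaughlin group acts with rank 3 and subdegrees 1, 112, 162 on its 275 points: the point stabiliser has two orbits on the remaining points, distinguished by customary inner product 1 or 2 with the fixed point. -/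
theorem result (u v x : ↥Cfsg.leechLattice) (hu : Cfsg.sqNorm (u : Cfsg.GolayPt → ℤ) = 48) (hv : Cfsg.sqNorm (v : Cfsg.GolayPt → ℤ) = 32 ∧ Cfsg.sqNorm ((u - v) : Cfsg.GolayPt → ℤ) = 32) (hx : x ∈ {x : ↥Cfsg.leechLattice | Cfsg.sqNorm (x : Cfsg.GolayPt → ℤ) = 32 ∧ Cfsg.sqNorm ((u - x) : Cfsg.GolayPt → ℤ) = 32 ∧ Cfsg.dotInt (v : Cfsg.GolayPt → ℤ) (x : Cfsg.GolayPt → ℤ) = 16}) : {y : ↥Cfsg.leechLattice | y ∈ {x : ↥Cfsg.leechLattice | Cfsg.sqNorm (x : Cfsg.GolayPt → ℤ) = 32 ∧ Cfsg.sqNorm ((u - x) : Cfsg.GolayPt → ℤ) = 32 ∧ Cfsg.dotInt (v : Cfsg.GolayPt → ℤ) (x : Cfsg.GolayPt → ℤ) = 16} ∧ Cfsg.dotInt (x : Cfsg.GolayPt → ℤ) (y : Cfsg.GolayPt → ℤ) = 8}.ncard = 112 ∧ {y : ↥Cfsg.leechLattice | y ∈ {x : ↥Cfsg.leechLattice | Cfsg.sqNorm (x : Cfsg.GolayPt → ℤ) = 32 ∧ Cfsg.sqNorm ((u - x) : Cfsg.GolayPt → ℤ) = 32 ∧ Cfsg.dotInt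 (v : Cfsg.GolayPt → ℤ) (x : Cfsg.GolayPt → ℤ) = 16} ∧ y ≠ x ∧ Cfsg.dotInt (x : Cfsg.GolayPt → ℤ) (y : Cfsg.GolayPt → ℤ) = 16}.ncard = 162 ∧ ∀ y ∈ {x : ↥Cfsg.leechLattice | Cfsg.sqNorm (x : Cfsg.GolayPt → ℤ) = 32 ∧ Cfsg.sqNorm ((u - x) : Cfsg.GolayPt → ℤ) = 32 ∧ Cfsg.dotInt (v : Cfsg.GolayPt → ℤ) (x : Cfsg.GolayPt → ℤ) = 16}, ∀ y' ∈ {x : ↥Cfsg.leechLattice | Cfsg.sqNorm (x : Cfsg.GolayPt → ℤ) = 32 ∧ Cfsg.sqNorm ((u - x) : Cfsg.GolayPt → ℤ) = 32 ∧ Cfsg.dotInt (v : Cfsg.GolayPt → ℤ) (x : Cfsg.GolayPt → ℤ) = 16}, y ≠ x → y' ≠ x → Cfsg.dotInt (x : Cfsg.GolayPt → ℤ) (y : Cfsg.GolayPt → ℤ) = Cfsg.dotInt (x : Cfsg.GolayPt → ℤ) (y' : Cfsg.GolayPt → ℤ) → ∃ g : ↥Cfsg.Co0, g • u = u ∧ g • v = v ∧ g • x = x ∧ g • y = y' := by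
  obtain ⟨hx1, hx2, hx3⟩ := hx
  obtain ⟨δ, hδ, d1, d2, d3⟩ := to_std u v x hu hv.1 hv.2 ⟨hx1, hx2, hx3⟩
  have key : ∀ y : Cfsg.leechLattice, (Cfsg.sqNorm (y : Cfsg.GolayPt → ℤ) = 32 ∧
      Cfsg.sqNorm ((u - y) : Cfsg.GolayPt → ℤ) = 32 ∧
      Cfsg.dotInt (v : Cfsg.GolayPt → ℤ) (y : Cfsg.GolayPt → ℤ) = 16) ↔ (δ y).1 ∈ SF :=
    fun y => mem_iff u v δ hδ hu d1 d2 y
  have kphi : ∀ y : Cfsg.leechLattice,
      Cfsg.dotInt (x : Cfsg.GolayPt → ℤ) (y : Cfsg.GolayPt → ℤ) = phi (δ y) := by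
    intro y
    have := dot_pres δ hδ x y
    rw [d3] at this
    exact this.symm
  refine ⟨?_, ?_, ?_⟩
  · rw [← card_p8]
    have : {y : ↥Cfsg.leechLattice | y ∈ {x : ↥Cfsg.leechLattice |
        Cfsg.sqNorm (x : Cfsg.GolayPt → ℤ) = 32 ∧
        Cfsg.sqNorm ((u - x) : Cfsg.GolayPt → ℤ) = 32 ∧
        Cfsg.dotInt (v : Cfsg.GolayPt → ℤ) (x : Cfsg.GolayPt → ℤ) = 16} ∧
        Cfsg.dotInt (x : Cfsg.GolayPt → ℤ) (y : Cfsg.GolayPt → ℤ) = 8}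
        = δ ⁻¹' {y : Cfsg.leechLattice | y.1 ∈ SF ∧ phi y = 8} := by
      ext y
      simp only [Set.mem_preimage, Set.mem_setOf_eq]
      rw [key y, kphi y]
    rw [this, ← Equiv.image_symm_eq_preimage, Set.ncard_image_of_injective _ δ.symm.injective]
  · rw [← card_p16]
    have : {y : ↥Cfsg.leechLattice | y ∈ {x : ↥Cfsg.leechLattice |
        Cfsg.sqNorm (x : Cfsg.GolayPt → ℤ) = 32 ∧
        Cfsg.sqNorm ((u - x) : Cfsg.GolayPt → ℤ) = 32 ∧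
        Cfsg.dotInt (v : Cfsg.GolayPt → ℤ) (x : Cfsg.GolayPt → ℤ) = 16} ∧ y ≠ x ∧
        Cfsg.dotInt (x : Cfsg.GolayPt → ℤ) (y : Cfsg.GolayPt → ℤ) = 16}
        = δ ⁻¹' {y : Cfsg.leechLattice | y.1 ∈ SF ∧ phi y = 16} := by
      ext y
      simp only [Set.mem_preimage, Set.mem_setOf_eq]
      rw [key y, kphi y]
      constructor
      · rintro ⟨h1, -, h3⟩
        exact ⟨h1, h3⟩
      · rintro ⟨h1, h3⟩
        refine ⟨h1, ?_, h3⟩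
        rintro rfl
        rw [d3, phi_a5] at h3
        omega
    rw [this, ← Equiv.image_symm_eq_preimage, Set.ncard_image_of_injective _ δ.symm.injective]
  · intro y hy y' hy' _ _ hyy
    have h1 : (δ y).1 ∈ SF := (key y).mp hy
    have h2 : (δ y').1 ∈ SF := (key y').mp hy'
    obtain ⟨n, hn, hny⟩ := trans (δ y) (δ y') h1 h2 (by rw [← kphi y, ← kphi y', hyy])
    refine ⟨⟨δ⁻¹ * n * δ, Cfsg.Co0.mul_mem (Cfsg.Co0.mul_mem (Cfsg.Co0.inv_mem hδ) hn.1) hδ⟩,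
      ?_, ?_, ?_, ?_⟩
    · show (δ⁻¹ * n * δ) u = u
      rw [Equiv.Perm.mul_apply, Equiv.Perm.mul_apply, d1, hn.2.1, ← d1]; simp
    · show (δ⁻¹ * n * δ) v = v
      rw [Equiv.Perm.mul_apply, Equiv.Perm.mul_apply, d2, hn.2.2.1, ← d2]; simp
    · show (δ⁻¹ * n * δ) x = x
      rw [Equiv.Perm.mul_apply, Equiv.Perm.mul_apply, d3, hn.2.2.2, ← d3]; simp
    · show (δ⁻¹ * n * δ) y = y'
      rw [Equiv.Perm.mul_apply, Equiv.Perm.mul_apply, hny]; simp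

end Cfsg.Agent.S1581
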