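import Cfsg.Statements.S1584
import Cfsg.Agent.Lib.Helper9.LeechE9

set_option autoImplicit false
open Cfsg

namespace Cfsg.Agent.S1584

/-- The Higman–Sims group acts with rank 3 and subdegrees 1, 22, 77 on its 100 points, the orbits of a point stabiliser being distinguished by customary inner product 1 with the fixed point. -/
theorem result (v w x : ↥Cfsg.leechLattice) (hv : Cfsg.sqNorm (v : Cfsg.GolayPt → ℤ) = 48) (hw : Cfsg.sqNorm (w : Cfsg.GolayPt → ℤ) = 48) (hvw : Cfsg.dotInt (v : Cfsg.GolayPt → ℤ) (w : Cfsg.GolayPt → ℤ) = -32) (hx : x ∈ {x : ↥Cfsg.leechLattice | Cfsg.sqNorm (x : Cfsg.GolayPt → ℤ) = 32 ∧ Cfsg.dotInt (v : Cfsg.GolayPt → ℤ) (x : Cfsg.GolayPt → ℤ) = 24 ∧ Cfsg.dotInt (w : Cfsg.GolayPt → ℤ) (x : Cfsg.GolayPt → ℤ) = -24}) : {y : ↥Cfsg.leechLattice | y ∈ {x : ↥Cfsg.leechLattice | Cfsg.sqNorm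 (x : Cfsg.GolayPt → ℤ) = 32 ∧ Cfsg.dotInt (v : Cfsg.GolayPt → ℤ) (x : Cfsg.GolayPt → ℤ) = 24 ∧ Cfsg.dotInt (w : Cfsg.GolayPt → ℤ) (x : Cfsg.GolayPt → ℤ) = -24} ∧ Cfsg.dotInt (x : Cfsg.GolayPt → ℤ) (y : Cfsg.GolayPt → ℤ) = 8}.ncard = 22 ∧ {y : ↥Cfsg.leechLattice | y ∈ {x : ↥Cfsg.leechLattice | Cfsg.sqNorm (x : Cfsg.GolayPt → ℤ) = 32 ∧ Cfsg.dotInt (v : Cfsg.GolayPt → ℤ) (x : Cfsg.GolayPt → ℤ) = 24 ∧ Cfsg.dotInt (w : Cfsg.GolayPt → ℤ) (x : Cfsg.GolayPt → ℤ) = -24} ∧ y ≠ x ∧ Cfsg.dotInt (x : Cfsg.GolayPt → ℤ) (y : Cfsg.GolayPt → ℤ) ≠ 8}.ncard = 77 ∧ ∀ y ∈ {x : ↥Cfsg.leechLattice | Cfsg.sqNorm (x : Cfsg.GolayPt → ℤ) = 32 ∧ Cfsg.dotInt (v : Cfsg.GolayPt → ℤ) (x : Cfsg.GolayPt → ℤ) = 24 ∧ Cfsg.dotInt (w : Cfsg.GolayPt → ℤ) (x : Cfsg.GolayPt → ℤ) = -24}, ∀ y' ∈ {x : ↥Cfsg.leechLattice | Cfsg.sqNorm (x : Cfsg.GolayPt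 → ℤ) = 32 ∧ Cfsg.dotInt (v : Cfsg.GolayPt → ℤ) (x : Cfsg.GolayPt → ℤ) = 24 ∧ Cfsg.dotInt (w : Cfsg.GolayPt → ℤ) (x : Cfsg.GolayPt → ℤ) = -24}, y ≠ x → y' ≠ x → (Cfsg.dotInt (x : Cfsg.GolayPt → ℤ) (y : Cfsg.GolayPt → ℤ) = 8 ↔ Cfsg.dotInt (x : Cfsg.GolayPt → ℤ) (y' : Cfsg.GolayPt → ℤ) = 8) → ∃ g : ↥Cfsg.Co0, g • v = v ∧ g • w = w ∧ g • x = x ∧ g • y = y' := by
  have hx' : Cfsg.sqNorm (x : Cfsg.GolayPt → ℤ) = 32 ∧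
      Cfsg.dotInt (v : Cfsg.GolayPt → ℤ) (x : Cfsg.GolayPt → ℤ) = 24 ∧
      Cfsg.dotInt (w : Cfsg.GolayPt → ℤ) (x : Cfsg.GolayPt → ℤ) = -24 := hx
  obtain ⟨hx1, hx2, hx3⟩ := hx'
  have hother := fun y : ↥Cfsg.leechLattice =>
    Cfsg.Agent.Lib.Helper9.LeechE8.hs_other v w x y hv hw hvw hx1 hx2 hx3
  have dxx : Cfsg.dotInt (x : Cfsg.GolayPt → ℤ) (x : Cfsg.GolayPt → ℤ) = 32 := by
    rw [Cfsg.Agent.Lib.Helper9.LeechE4.dot_self]; exact hx1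
  refine ⟨?_, ?_, ?_⟩
  · refine (congrArg Set.ncard ?_).trans
      (Cfsg.Agent.Lib.Helper9.LeechE8.hs_count22 v w x hv hw hvw hx1 hx2 hx3)
    ext y
    simp only [Set.mem_setOf_eq]
    constructor
    · rintro ⟨⟨h1, h2, h3⟩, h4⟩; exact ⟨h1, h2, h3, h4⟩
    · rintro ⟨h1, h2, h3, h4⟩; exact ⟨⟨h1, h2, h3⟩, h4⟩
  · refine (congrArg Set.ncard ?_).trans
      (Cfsg.Agent.Lib.Helper9.LeechE8.hs_count77 v w x hv hw hvw hx1 hx2 hx3)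
    ext y
    simp only [Set.mem_setOf_eq]
    constructor
    · rintro ⟨⟨h1, h2, h3⟩, h4, h5⟩
      rcases hother y h1 h2 h3 with h | h | h
      · exact absurd h h4
      · exact absurd h h5
      · exact ⟨h1, h2, h3, h⟩
    · rintro ⟨h1, h2, h3, h4⟩
      refine ⟨⟨h1, h2, h3⟩, ?_, ?_⟩
      · rintro rfl
        rw [dxx] at h4; norm_num at h4
      · rw [h4]; norm_num
  · intro y hy y' hy' hne hne' hiff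
    obtain ⟨h1, h2, h3⟩ := hy
    obtain ⟨h1', h2', h3'⟩ := hy'
    have key : ∃ d : ℤ, (d = 8 ∨ d = 16) ∧
        Cfsg.dotInt (x : Cfsg.GolayPt → ℤ) (y : Cfsg.GolayPt → ℤ) = d ∧
        Cfsg.dotInt (x : Cfsg.GolayPt → ℤ) (y' : Cfsg.GolayPt → ℤ) = d := by
      rcases hother y h1 h2 h3 with h | h | h
      · exact absurd h hne
      · exact ⟨8, Or.inl rfl, h, hiff.mp h⟩
      · rcases hother y' h1' h2' h3' with h' | h' | h'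
        · exact absurd h' hne'
        · have := hiff.mpr h'
          rw [h] at this; norm_num at this
        · exact ⟨16, Or.inr rfl, h, h'⟩
    obtain ⟨d, hd, e1, e2⟩ := key
    obtain ⟨g, hg, g1, g2, g3, g4⟩ := Cfsg.Agent.Lib.Helper9.LeechE9.hs_rank3 v w x y y' hv hw hvw
      hx1 hx2 hx3 h1 h2 h3 h1' h2' h3' d hd e1 e2
    exact ⟨⟨g, hg⟩, g1, g2, g3, g4⟩

end Cfsg.Agent.S1584
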