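import Cfsg.Statements.S1587

set_option autoImplicit false
open Cfsg

namespace Cfsg.Agent.S1587

open Matrix

theorem symm_form (B : Matrix (Fin 24) (Fin 24) ℤ) (hsymm : B.IsSymm) (x y : Fin 24 → ℤ) :
    y ⬝ᵥ (B *ᵥ x) = x ⬝ᵥ (B *ᵥ y) := by
  rw [dotProduct_comm, ← Matrix.vecMul_transpose, hsymm.eq, Matrix.dotProduct_mulVec]

theorem q_sub (B : Matrix (Fin 24) (Fin 24) ℤ) (hsymm : B.IsSymm) (x y : Fin 24 → ℤ) :
    (x - y) ⬝ᵥ (B *ᵥ (x - y)) = x ⬝ᵥ (B *ᵥ x) + y ⬝ᵥ (B *ᵥ y) - 2 * (x ⬝ᵥ (B *ᵥ y)) := by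
  rw [Matrix.mulVec_sub, sub_dotProduct, dotProduct_sub, dotProduct_sub, symm_form B hsymm x y]
  ring

theorem q_add (B : Matrix (Fin 24) (Fin 24) ℤ) (hsymm : B.IsSymm) (x y : Fin 24 → ℤ) :
    (x + y) ⬝ᵥ (B *ᵥ (x + y)) = x ⬝ᵥ (B *ᵥ x) + y ⬝ᵥ (B *ᵥ y) + 2 * (x ⬝ᵥ (B *ᵥ y)) := by
  rw [Matrix.mulVec_add, add_dotProduct, dotProduct_add, dotProduct_add, symm_form B hsymm x y]
  ring

theorem q_two (B : Matrix (Fin 24) (Fin 24) ℤ) (z : Fin 24 → ℤ) :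
    ((2 : ℤ) • z) ⬝ᵥ (B *ᵥ ((2 : ℤ) • z)) = 4 * (z ⬝ᵥ (B *ᵥ z)) := by
  rw [Matrix.mulVec_smul, smul_dotProduct, dotProduct_smul, smul_eq_mul, smul_eq_mul]
  ring

/-- possible values of the form -/
theorem q_values (B : Matrix (Fin 24) (Fin 24) ℤ)
    (hpos : ∀ x : Fin 24 → ℤ, x ≠ 0 → 0 < x ⬝ᵥ (B *ᵥ x))
    (heven : ∀ x : Fin 24 → ℤ, (2 : ℤ) ∣ x ⬝ᵥ (B *ᵥ x))
    (h2 : ∀ x : Fin 24 → ℤ, x ⬝ᵥ (B *ᵥ x) ≠ 2) (z : Fin 24 → ℤ) :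
    z = 0 ∨ 4 ≤ z ⬝ᵥ (B *ᵥ z) := by
  by_cases hz : z = 0
  · exact Or.inl hz
  · right
    have h1 := hpos z hz
    have h3 := h2 z
    obtain ⟨k, hk⟩ := heven z
    omega

/-- First step of the characterisation of the rank-24 lattice: in an even lattice without roots, norm-8 vectors congruent modulo 2 are equal, opposite or orthogonal. -/
theorem result (B : Matrix (Fin 24) (Fin 24) ℤ) (hsymm : B.IsSymm) (hpos : ∀ x : Fin 24 → ℤ, x ≠ 0 → 0 < x ⬝ᵥ (B *ᵥ x)) (heven : ∀ x : Fin 24 → ℤ, (2 : ℤ) ∣ x ⬝ᵥ (B *ᵥ x)) (h2 : ∀ x : Fin 24 → ℤ, x ⬝ᵥ (B *ᵥ x) ≠ 2) (x y : Fin 24 → ℤ) (hx : x ⬝ᵥ (B *ᵥ x) = 8) (hy : y ⬝ᵥ (B *ᵥ y) = 8) (hc : ∀ i, (2 : ℤ) ∣ (x - y) i) : y = x ∨ y = -x ∨ x ⬝ᵥ (B *ᵥ y) = 0 := by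
  choose z hz using hc
  have hxy : x - y = (2 : ℤ) • z := by
    funext i
    rw [hz i]; simp
  have hxy' : x + y = (2 : ℤ) • (x - z) := by
    have : y = x - (2 : ℤ) • z := by rw [← hxy]; abel
    rw [this]
    funext i
    simp
    ring
  have e1 := q_sub B hsymm x y
  have e2 := q_add B hsymm x y
  rw [hxy, q_two] at e1
  rw [hxy', q_two] at e2
  rw [hx, hy] at e1 e2
  rcases q_values B hpos heven h2 z with h | h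
  · left
    rw [h, smul_zero] at hxy
    exact (sub_eq_zero.mp hxy).symm
  rcases q_values B hpos heven h2 (x - z) with h' | h'
  · right; left
    rw [h', smul_zero] at hxy'
    exact eq_neg_of_add_eq_zero_right hxy'
  · right; right
    omega

end Cfsg.Agent.S1587
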