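import Cfsg.Statements.S1588
import Cfsg.Agent.Lib.Helper9.EvenLat2

set_option autoImplicit false
open Matrix
open Cfsg

namespace Cfsg.Agent.S1588

/-- Second step of the characterisation: under the vector counts of the rank-24 lattice, the norm-8 vectors fall into congruence classes of exactly 48 modulo twice the lattice. -/
theorem result (B : Matrix (Fin 24) (Fin 24) ℤ) (hsymm : B.IsSymm) (hpos : ∀ x : Fin 24 → ℤ, x ≠ 0 → 0 < x ⬝ᵥ (B *ᵥ x)) (heven : ∀ x : Fin 24 → ℤ, (2 : ℤ) ∣ x ⬝ᵥ (B *ᵥ x)) (h2 : ∀ x : Fin 24 → ℤ, x ⬝ᵥ (B *ᵥ x) ≠ 2) (h4 : {x : Fin 24 → ℤ | x ⬝ᵥ (B *ᵥ x) = 4}.ncard = 196560) (h6 : {x : Fin 24 → ℤ | x ⬝ᵥ (B *ᵥ x) = 6}.ncard = 16773120) (h8 : {x : Fin 24 → ℤ | x ⬝ᵥ (B *ᵥ x) = 8}.ncard = 398034000) (x : Fin 24 → ℤ) (hx : x ⬝ᵥ (B *ᵥ x) = 8) : {y : Fin 24 → ℤ | y ⬝ᵥ (B *ᵥ y) = 8 ∧ ∀ i, (2 : ℤ) ∣ (x - y) i}.ncard = 48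 := by
  classical
  have f4 : {x : Fin 24 → ℤ | x ⬝ᵥ (B *ᵥ x) = 4}.Finite :=
    Set.finite_of_ncard_ne_zero (by rw [h4]; norm_num)
  have f6 : {x : Fin 24 → ℤ | x ⬝ᵥ (B *ᵥ x) = 6}.Finite :=
    Set.finite_of_ncard_ne_zero (by rw [h6]; norm_num)
  have f8 : {x : Fin 24 → ℤ | x ⬝ᵥ (B *ᵥ x) = 8}.Finite :=
    Set.finite_of_ncard_ne_zero (by rw [h8]; norm_num)
  have m4 : ∀ x, x ∈ f4.toFinset ↔ x ⬝ᵥ (B *ᵥ x) = 4 := fun x => by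
    rw [Set.Finite.mem_toFinset]; rfl
  have m6 : ∀ x, x ∈ f6.toFinset ↔ x ⬝ᵥ (B *ᵥ x) = 6 := fun x => by
    rw [Set.Finite.mem_toFinset]; rfl
  have m8 : ∀ x, x ∈ f8.toFinset ↔ x ⬝ᵥ (B *ᵥ x) = 8 := fun x => by
    rw [Set.Finite.mem_toFinset]; rfl
  have c4 : f4.toFinset.card = 196560 := by rw [← Set.ncard_eq_toFinset_card _ f4]; exact h4
  have c6 : f6.toFinset.card = 16773120 := by rw [← Set.ncard_eq_toFinset_card _ f6]; exact h6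
  have c8 : f8.toFinset.card = 398034000 := by rw [← Set.ncard_eq_toFinset_card _ f8]; exact h8
  have key := Cfsg.Agent.Lib.Helper9.EvenLat2.fiber_eq B hsymm hpos heven h2 f4.toFinset
    f6.toFinset f8.toFinset m4 m6 m8 c4 c6 c8 x ((m8 x).mpr hx)
  rw [← key, ← Set.ncard_coe_finset]
  congr 1
  ext y
  simp only [Set.mem_setOf_eq, Finset.coe_filter, m8]
  rw [Cfsg.Agent.Lib.Helper9.EvenLat1.red_eq_iff]
  constructor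
  · rintro ⟨h1, h3⟩
    refine ⟨h1, fun i => ?_⟩
    have := h3 i
    rw [Pi.sub_apply] at this ⊢
    obtain ⟨k, hk⟩ := this
    exact ⟨-k, by linarith⟩
  · rintro ⟨h1, h3⟩
    refine ⟨h1, fun i => ?_⟩
    have := h3 i
    rw [Pi.sub_apply] at this ⊢
    obtain ⟨k, hk⟩ := this
    exact ⟨-k, by linarith⟩

end Cfsg.Agent.S1588
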