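import Cfsg.Statements.S1590
import Cfsg.Agent.Lib.Helper4.TernaryGolay

set_option autoImplicit false
open Cfsg

namespace Cfsg.Agent.S1590

open Cfsg.Agent.Lib.Helper4.TernaryGolay

lemma count_eq (n : ℕ) :
    {x : ArrayPt → ZMod 3 | x ∈ ternaryGolayCode ∧ (ternarySupport x).card = n}.ncard =
      (Finset.univ.filter (fun p : P6 => (ternarySupport (encP p)).card = n)).card := by
  have h : {x : ArrayPt → ZMod 3 | x ∈ ternaryGolayCode ∧ (ternarySupport x).card = n} =
      encP '' (↑(Finset.univ.filter (fun p : P6 => (ternarySupport (encP p)).card = n)) : Set P6) := by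
    ext x
    simp only [Set.mem_ofPred_eq, Set.mem_image, Finset.coe_filter, Finset.mem_univ, true_and]
    constructor
    · rintro ⟨hx, hn⟩
      obtain ⟨p, rfl⟩ := exists_encP x hx
      exact ⟨p, hn, rfl⟩
    · rintro ⟨p, hn, rfl⟩
      exact ⟨encP_mem p, hn⟩
  rw [h, Set.ncard_image_of_injective _ encP_injective, Set.ncard_coe_finset]

theorem result : Nat.card ↥Cfsg.ternaryGolayCode = 729 ∧ (∀ x ∈ Cfsg.ternaryGolayCode, x ≠ 0 → (Cfsg.ternarySupport x).card = 6 ∨ (Cfsg.ternarySupport x).card = 9 ∨ (Cfsg.ternarySupport x).card = 12) ∧ {x : Cfsg.ArrayPt → ZMod 3 | x ∈ Cfsg.ternaryGolayCode ∧ (Cfsg.ternarySupport x).card = 6}.ncard = 264 ∧ {x : Cfsg.ArrayPt → ZMod 3 | x ∈ Cfsg.ternaryGolayCode ∧ (Cfsg.ternarySupport x).card = 9}.ncard = 440 ∧ {x : Cfsg.ArrayPt → ZMod 3 | x ∈ Cfsg.ternaryGolayCode ∧ (Cfsg.ternarySupport x).card = 12}.ncard = 24 := by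
  refine ⟨?_, ?_, ?_, ?_, ?_⟩
  · let Φ : P6 → ↥ternaryGolayCode := fun p => ⟨encP p, encP_mem p⟩
    have hΦ : Function.Bijective Φ := by
      constructor
      · intro p p' h
        exact encP_injective (congrArg Subtype.val h)
      · rintro ⟨x, hx⟩
        obtain ⟨p, rfl⟩ := exists_encP x hx
        exact ⟨p, rfl⟩
    rw [← Nat.card_congr (Equiv.ofBijective Φ hΦ), Nat.card_eq_fintype_card]
    simp [ZMod.card]
  · intro x hx hx0
    obtain ⟨p, rfl⟩ := exists_encP x hx
    rcases wt_cases p with h | h | h | h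
    · exact absurd (support_card_eq_zero h) hx0
    · exact Or.inl h
    · exact Or.inr (Or.inl h)
    · exact Or.inr (Or.inr h)
  · rw [count_eq, cnt6]
  · rw [count_eq, cnt9]
  · rw [count_eq, cnt12]

end Cfsg.Agent.S1590
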