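import Cfsg.Statements.S1591
import Cfsg.Agent.Lib.Helper4.TernaryGolay

set_option autoImplicit false
open Cfsg

namespace Cfsg.Agent.S1591

open Cfsg.Agent.Lib.Helper4.TernaryGolay

lemma colDot : ∀ u v w u' v' w' : ZMod 3,
    (u + v * 0 + w * 0 ^ 2) * (u' + v' * 0 + w' * 0 ^ 2) +
      ((u + v * 1 + w * 1 ^ 2) * (u' + v' * 1 + w' * 1 ^ 2) +
        (u + v * 2 + w * 2 ^ 2) * (u' + v' * 2 + w' * 2 ^ 2)) =
      -(u * w' + w * u' + w * w' + v * v') := by decide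

lemma enc0 (α0 α1 α2 α3 a b r : ZMod 3) : enc α0 α1 α2 α3 a b (0, r) =
    α0 + b * r + (α0 + α1 + α2 + α3) * r ^ 2 := rfl

lemma enc1 (α0 α1 α2 α3 a b r : ZMod 3) : enc α0 α1 α2 α3 a b (1, r) =
    α1 + a * r + (α0 + α1 + α2 + α3) * r ^ 2 := rfl

lemma enc2 (α0 α1 α2 α3 a b r : ZMod 3) : enc α0 α1 α2 α3 a b (2, r) =
    α2 + (a + b) * r + (α0 + α1 + α2 + α3) * r ^ 2 := rfl

lemma enc3 (α0 α1 α2 α3 a b r : ZMod 3) : enc α0 α1 α2 α3 a b (3, r) =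
    α3 + (a + 2 * b) * r + (α0 + α1 + α2 + α3) * r ^ 2 := rfl

theorem result (x y : Cfsg.ArrayPt → ZMod 3) (hx : x ∈ Cfsg.ternaryGolayCode) (hy : y ∈ Cfsg.ternaryGolayCode) : ∑ p, x p * y p = 0 := by
  obtain ⟨α0, α1, α2, α3, a, b, rfl⟩ := exists_enc x hx
  obtain ⟨α0', α1', α2', α3', a', b', rfl⟩ := exists_enc y hy
  rw [Fintype.sum_prod_type, Fin.sum_univ_four, sum_zmod3, sum_zmod3, sum_zmod3, sum_zmod3]
  simp only [enc0, enc1, enc2, enc3]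
  have h3 : (3 : ZMod 3) = 0 := by decide
  have e0 := colDot α0 b (α0 + α1 + α2 + α3) α0' b' (α0' + α1' + α2' + α3')
  have e1 := colDot α1 a (α0 + α1 + α2 + α3) α1' a' (α0' + α1' + α2' + α3')
  have e2 := colDot α2 (a + b) (α0 + α1 + α2 + α3) α2' (a' + b') (α0' + α1' + α2' + α3')
  have e3 := colDot α3 (a + 2 * b) (α0 + α1 + α2 + α3) α3' (a' + 2 * b') (α0' + α1' + α2' + α3')
  linear_combination e0 + e1 + e2 + e3 -
    (2 * (α0 + α1 + α2 + α3) * (α0' + α1' + α2' + α3') + a * a' + a * b' + b * a' + 2 * b * b') * h3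

end Cfsg.Agent.S1591
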