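import Cfsg.Statements.S1597
import Cfsg.Agent.Lib.Helper9.M24QT3

set_option autoImplicit false
open scoped Pointwise
open Cfsg

namespace Cfsg.Agent.S1597

/-- A dodecad has 220 quartets and its stabiliser is transitive on them. -/
theorem result (d : Finset Cfsg.GolayPt) (hd : d ∈ Cfsg.dodecads) : (Cfsg.quartets d).ncard = 220 ∧ ∀ Q ∈ Cfsg.quartets d, ∀ Q' ∈ Cfsg.quartets d, ∃ g : Equiv.Perm Cfsg.GolayPt, g ∈ Cfsg.M24 ∧ g • d = d ∧ g • Q = Q' := by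
  refine ⟨Cfsg.Agent.Lib.Helper9.M24QT3.card_quartets d hd, ?_⟩
  intro Q hQ Q' hQ'
  obtain ⟨t, ht, u, hu, hne⟩ := Finset.one_lt_card.mp (by rw [hQ.1]; norm_num : 1 < Q.card)
  obtain ⟨t', ht', u', hu', hne'⟩ :=
    Finset.one_lt_card.mp (by rw [hQ'.1]; norm_num : 1 < Q'.card)
  obtain ⟨g, hg, -, -, h3⟩ := Cfsg.Agent.Lib.Helper9.M24QT2.pair_transport d hd Q Q' hQ hQ'
    t u t' u' ht hu hne ht' hu' hne'
  obtain ⟨hgM, hgd⟩ := (Cfsg.Agent.Lib.Helper9.M24T9.mem_stabF d g).mp hg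
  exact ⟨g, hgM, hgd, h3⟩

end Cfsg.Agent.S1597
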