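import Cfsg.Statements.S1601
import Mathlib
import Cfsg.Agent.Lib.Helper8.L211D

set_option autoImplicit false
open scoped Pointwise
open Cfsg

namespace Cfsg.Agent.S1601

/-- In the 3-transitive action of the smallest Mathieu group on the complementary dodecad, a point stabiliser is isomorphic to PSL(2, 11). -/
theorem result (d : Finset Cfsg.GolayPt) (hd : d ∈ Cfsg.dodecads) (p q : Cfsg.GolayPt) (hp : p ∈ d) (hq : q ∉ d) : Nonempty (↥(MulAction.stabilizer Cfsg.M24 d ⊓ MulAction.stabilizer Cfsg.M24 p ⊓ MulAction.stabilizer Cfsg.M24 q) ≃* Matrix.ProjectiveSpecialLinearGroup (Fin 2) (ZMod 11)) := by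
  obtain ⟨e⟩ := Cfsg.Agent.Lib.Helper8.L211.main d hd p q hp hq
  have hmem : ∀ g : M24, g ∈ (MulAction.stabilizer M24 d ⊓ MulAction.stabilizer M24 p ⊓
      MulAction.stabilizer M24 q) ↔ g.1 ∈ Cfsg.Agent.Lib.Helper8.L211.Hst d p q := by
    intro g
    rw [Cfsg.Agent.Lib.Helper8.L211.mem_Hst]
    simp only [Subgroup.mem_inf, MulAction.mem_stabilizer_iff]
    constructor
    · rintro ⟨⟨h1, h2⟩, h3⟩
      exact ⟨g.2, h1, h2, h3⟩
    · rintro ⟨-, h1, h2, h3⟩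
      exact ⟨⟨h1, h2⟩, h3⟩
  have hP : Cfsg.Agent.Lib.Helper8.L211.Hst d p q ≤ M24 := fun g hg =>
    ((Cfsg.Agent.Lib.Helper8.L211.mem_Hst d p q g).mp hg).1
  exact ⟨(Cfsg.Agent.Lib.Helper9.M24Q3.subEquiv M24 _ (Cfsg.Agent.Lib.Helper8.L211.Hst d p q) hP
    hmem).trans e⟩

end Cfsg.Agent.S1601
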