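import Cfsg.Statements.S1606
import Cfsg.Agent.Lib.Helper9.IdxA5

set_option autoImplicit false
open scoped Pointwise
open Cfsg

namespace Cfsg.Agent.S1606

/-- The stabiliser of two points in the group of the length-24 code has no subgroups of index 56 or 210. -/
theorem result (p q : Cfsg.GolayPt) (hpq : p ≠ q) (H : Subgroup ↥(MulAction.stabilizer Cfsg.M24 p ⊓ MulAction.stabilizer Cfsg.M24 q)) : H.index ≠ 56 ∧ H.index ≠ 210 := by
  have hG : Nat.card ↥(MulAction.stabilizer Cfsg.M24 p ⊓ MulAction.stabilizer Cfsg.M24 q) = 443520 := by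
    rw [Cfsg.Agent.Lib.Helper9.M24T7.card_stabilizer_two, Cfsg.Agent.Lib.Helper9.M24T7.card_fix_two p q hpq]
  have hidx := Subgroup.card_mul_index H
  rw [hG] at hidx
  have hι : Function.Injective (Cfsg.M24.subtype.comp
      (MulAction.stabilizer Cfsg.M24 p ⊓ MulAction.stabilizer Cfsg.M24 q).subtype) :=
    (Subgroup.subtype_injective _).comp (Subgroup.subtype_injective _)
  have hK : Nat.card ↥(H.map (Cfsg.M24.subtype.comp
      (MulAction.stabilizer Cfsg.M24 p ⊓ MulAction.stabilizer Cfsg.M24 q).subtype)) = Nat.card H :=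
    Subgroup.card_map_of_injective hι
  have hL : Cfsg.Agent.Lib.Helper9.OutM.Lvl (H.map (Cfsg.M24.subtype.comp
      (MulAction.stabilizer Cfsg.M24 p ⊓ MulAction.stabilizer Cfsg.M24 q).subtype)) {p, q} := by
    constructor
    · rintro _ ⟨x, _, rfl⟩
      exact x.1.2
    · rintro _ ⟨x, _, rfl⟩ a ha
      have hx := Subgroup.mem_inf.mp x.2
      rw [Finset.mem_insert, Finset.mem_singleton] at ha
      rcases ha with rfl | rfl
      · exact MulAction.mem_stabilizer_iff.mp hx.1
      · exact MulAction.mem_stabilizer_iff.mp hx.2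
  constructor
  · intro h56
    rw [h56] at hidx
    have : Nat.card H = 7920 := by omega
    exact Cfsg.Agent.Lib.Helper9.Idx.no_7920 hpq hL (hK.trans this)
  · intro h210
    rw [h210] at hidx
    have : Nat.card H = 2112 := by omega
    exact Cfsg.Agent.Lib.Helper9.Idx.no_2112 p q hpq _ hL (hK.trans this)

end Cfsg.Agent.S1606
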