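import Cfsg.Statements.S1609
import Cfsg.Agent.Lib.Helper9.IdxB3

set_option autoImplicit false
open scoped Pointwise
open Cfsg

namespace Cfsg.Agent.S1609

/-- Subgroups of index 253 in the Mathieu group of degree 23 are exactly the duad stabilisers and the heptad stabilisers. -/
theorem result (x : Cfsg.GolayPt) (H : Subgroup ↥(MulAction.stabilizer Cfsg.M24 x)) (hH : H.index = 253) : (∃ s : Finset Cfsg.GolayPt, s.card = 2 ∧ x ∉ s ∧ H = (MulAction.stabilizer Cfsg.M24 s).subgroupOf (MulAction.stabilizer Cfsg.M24 x)) ∨ ∃ o ∈ Cfsg.octads, x ∈ o ∧ H = (MulAction.stabilizer Cfsg.M24 o).subgroupOf (MulAction.stabilizer Cfsg.M24 x) := by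
  have hG : Nat.card ↥(MulAction.stabilizer Cfsg.M24 x) = 10200960 := by
    rw [Cfsg.Agent.Lib.Helper9.M24T7.card_stabilizer, Cfsg.Agent.Lib.Helper9.M24T7.card_fix_point]
  have hidx := Subgroup.card_mul_index H
  rw [hG, hH] at hidx
  have hcH : Nat.card H = 40320 := by omega
  have hι : Function.Injective (Cfsg.M24.subtype.comp (MulAction.stabilizer Cfsg.M24 x).subtype) :=
    (Subgroup.subtype_injective _).comp (Subgroup.subtype_injective _)
  have hK : Nat.card ↥(H.map (Cfsg.M24.subtype.comp (MulAction.stabilizer Cfsg.M24 x).subtype)) = 40320 :=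
    (Subgroup.card_map_of_injective hι).trans hcH
  have hL : Cfsg.Agent.Lib.Helper9.OutM.Lvl
      (H.map (Cfsg.M24.subtype.comp (MulAction.stabilizer Cfsg.M24 x).subtype)) {x} := by
    constructor
    · rintro _ ⟨g, _, rfl⟩
      exact g.1.2
    · rintro _ ⟨g, _, rfl⟩ a ha
      rw [Finset.mem_singleton] at ha
      rw [ha]
      exact MulAction.mem_stabilizer_iff.mp g.2
  have key : ∀ s : Finset Cfsg.GolayPt,
      H.map (Cfsg.M24.subtype.comp (MulAction.stabilizer Cfsg.M24 x).subtype) =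
        Cfsg.Agent.Lib.Helper9.M24T9.stabF s ⊓ MulAction.stabilizer (Equiv.Perm Cfsg.GolayPt) x →
      H = (MulAction.stabilizer Cfsg.M24 s).subgroupOf (MulAction.stabilizer Cfsg.M24 x) := by
    intro s hs
    ext g
    rw [Subgroup.mem_subgroupOf, MulAction.mem_stabilizer_iff]
    constructor
    · intro hg
      have hm : (Cfsg.M24.subtype.comp (MulAction.stabilizer Cfsg.M24 x).subtype) g ∈
          H.map (Cfsg.M24.subtype.comp (MulAction.stabilizer Cfsg.M24 x).subtype) :=
        Subgroup.mem_map_of_mem _ hg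
      rw [hs] at hm
      exact ((Cfsg.Agent.Lib.Helper9.M24T9.mem_stabF s _).mp hm.1).2
    · intro hg
      have hm : (Cfsg.M24.subtype.comp (MulAction.stabilizer Cfsg.M24 x).subtype) g ∈
          Cfsg.Agent.Lib.Helper9.M24T9.stabF s ⊓ MulAction.stabilizer (Equiv.Perm Cfsg.GolayPt) x :=
        ⟨(Cfsg.Agent.Lib.Helper9.M24T9.mem_stabF s _).mpr ⟨g.1.2, hg⟩,
          MulAction.mem_stabilizer_iff.mpr (MulAction.mem_stabilizer_iff.mp g.2)⟩
      rw [← hs] at hm
      obtain ⟨g', hg', e⟩ := hm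
      rwa [← hι e]
  rcases Cfsg.Agent.Lib.Helper9.Idx.index253 x _ hL hK with ⟨s, hs2, hxs, hs⟩ | ⟨o, ho, hxo, hs⟩
  · left
    exact ⟨s, hs2, hxs, key s hs⟩
  · right
    exact ⟨o, ho, hxo, key o hs⟩

end Cfsg.Agent.S1609
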