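import Cfsg.Statements.S1613
import Cfsg.Agent.Lib.Helper3.TT18
import Cfsg.Agent.Lib.Helper3.TT19

set_option autoImplicit false
open Cfsg

namespace Cfsg.Agent.S1613

/-- For a transposition x of a Fischer 3-transposition group, the transpositions commuting with x (other than x) form one conjugacy class of the subgroup they generate. -/
theorem result {G : Type*} [Group G] [Finite G] (hsol : ∀ N : Subgroup G, N.Normal → Group.IsSolvable ↥N → N = ⊥) (hperf : ⁅commutator G, commutator G⁆ = commutator G) {D : Set G} (hD : Cfsg.IsThreeTranspositionClass D) (x : G) (hx : x ∈ D) : ∀ y ∈ {y : G | y ∈ D ∧ y ≠ x ∧ Commute x y}, ∀ y' ∈ {y : G | y ∈ D ∧ y ≠ x ∧ Commute x y}, ∃ g ∈ Subgroup.closure {y : G | y ∈ D ∧ y ≠ x ∧ Commute x y}, g * y * g⁻¹ = y' := by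
  classical
  obtain ⟨hG, hprim, hw⟩ := Cfsg.Agent.Lib.Helper3.TT.fischer_hyp hsol hperf hD
  have hT := Cfsg.Agent.Lib.Helper3.TT.TSet.of_group hG
  intro y hy y' hy'
  have hconn := Cfsg.Agent.Lib.Helper3.TT.Dm_connected hG hprim hw hx
    {z : G | z ∈ Cfsg.Agent.Lib.Helper3.TT.Dm D x ∧
      ∃ g ∈ Subgroup.closure (Cfsg.Agent.Lib.Helper3.TT.Dm D x), g * y * g⁻¹ = z}
    (fun z hz => hz.1) ⟨y, hy, 1, Subgroup.one_mem _, by group⟩
    (by
      rintro z ⟨hz, g, hg, hgz⟩ w hwm hzw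
      refine ⟨hwm, (z * w) * g, ?_, ?_⟩
      · exact Subgroup.mul_mem _ (Subgroup.mul_mem _ (Subgroup.subset_closure hz)
          (Subgroup.subset_closure hwm)) hg
      · have h1 := hT.conj_eq hz.1 hwm.1 hzw
        calc z * w * g * y * (z * w * g)⁻¹ = (z * w) * (g * y * g⁻¹) * (z * w)⁻¹ := by group
          _ = (z * w) * z * (z * w)⁻¹ := by rw [hgz]
          _ = w := h1)
  have hy'C : y' ∈ {z : G | z ∈ Cfsg.Agent.Lib.Helper3.TT.Dm D x ∧
      ∃ g ∈ Subgroup.closure (Cfsg.Agent.Lib.Helper3.TT.Dm D x), g * y * g⁻¹ = z} := by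
    rw [hconn]; exact hy'
  exact hy'C.2

end Cfsg.Agent.S1613
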