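import Cfsg.Statements.S1628
import Cfsg.Agent.Lib.Helper9.RuE

set_option autoImplicit false
open Cfsg

namespace Cfsg.Agent.S1628

/-- The Conway–Wales lattice as stored is even with no vectors of true norm 2: stored norms are multiples of 8, never equal to 8, and the minimum over nonzero vectors is 16. -/
theorem result : (∀ x ∈ Cfsg.Spor.ruLattice, (8 : ℤ) ∣ Cfsg.Spor.ruNorm x) ∧ (∀ x ∈ Cfsg.Spor.ruLattice, Cfsg.Spor.ruNorm x ≠ 8) ∧ (∀ x ∈ Cfsg.Spor.ruLattice, x ≠ 0 → 16 ≤ Cfsg.Spor.ruNorm x) ∧ ∃ x ∈ Cfsg.Spor.ruLattice, Cfsg.Spor.ruNorm x = 16 := by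
  have hev : ∀ x ∈ Cfsg.Spor.ruLattice, (8 : ℤ) ∣ Cfsg.Spor.ruNorm x := fun x hx =>
    Cfsg.Agent.Lib.Helper9.Ru.even_SB (Cfsg.Agent.Lib.Helper9.Ru.ruLattice_le hx)
  have hne : ∀ x ∈ Cfsg.Spor.ruLattice, Cfsg.Spor.ruNorm x ≠ 8 := fun x hx h =>
    Cfsg.Agent.Lib.Helper9.Ru.rootless (Cfsg.Agent.Lib.Helper9.Ru.ruLattice_le hx) h
  refine ⟨hev, hne, ?_, ?_⟩
  · intro x hx hx0
    obtain ⟨k, hk⟩ := hev x hx
    have h8 := hne x hx
    have hpos : 0 < Cfsg.Spor.ruNorm x := by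
      obtain ⟨p, hp⟩ := Function.ne_iff.1 hx0
      have hp' : 0 < (x p).norm := GaussianInt.norm_pos.2 hp
      have hle : (x p).norm ≤ Cfsg.Spor.ruNorm x :=
        Finset.single_le_sum (f := fun q => (x q).norm)
          (fun q _ => GaussianInt.norm_nonneg (x q)) (Finset.mem_univ p)
      omega
    omega
  · have hmem : (Cfsg.Spor.ruTable.get ⟨0, by decide⟩) ∈ Cfsg.Spor.ruLattice := by
      rw [Cfsg.Spor.ruLattice, AddSubgroup.mem_sInf]
      intro L hL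
      exact hL.1 _ (List.get_mem _ _)
    refine ⟨_, hmem, ?_⟩
    decide +kernel

end Cfsg.Agent.S1628
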