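import Mathlib
import Cfsg.Statements.S1630
import Cfsg.Agent.Lib.Helper5.ThreeTransOrth
import Cfsg.Agent.Lib.Helper5.OrthPlane
import Cfsg.Agent.Lib.Helper5.OrthCard
import Cfsg.Agent.Lib.Helper5.QuadStd
import Cfsg.Agent.S0288

set_option autoImplicit false
open scoped MatrixGroups
open Cfsg

namespace Cfsg.Agent.S1630

theorem aniso2 : ∀ z₁ z₂ : ZMod 2, z₁ ^ 2 + 1 * z₁ * z₂ + 1 * z₂ ^ 2 = 0 → z₁ = 0 ∧ z₂ = 0 := by
  decide

open Cfsg.Agent.Lib.Helper5 Cfsg.Agent.Lib.Helper5.OrthCard Cfsg.Agent.Lib.Helper5.OrthPlane QuadraticMap in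
theorem minus_nondegenerate (k : ℕ) :
    (polarBilin (minusForm k (ZMod 2) 1 1)).Nondegenerate := by
  have h := genForm_nondegenerate _ (binForm_nondegenerate (1 : ZMod 2) 1
    (anisotropic_of (1 : ZMod 2) 1 aniso2)) k
  have h2 : minusForm k (ZMod 2) 1 1 = genForm (binForm (1 : ZMod 2) 1) k := by
    apply DFunLike.coe_injective
    rw [coe_minusForm, Cfsg.Agent.S0288.minus_eq]
  rw [h2]
  exact h

/-- The orthogonal transvections of the minus-type orthogonal group in dimension ≥ 6 over the field with two elements form a generating conjugacy class of 3-transpositions. -/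
theorem result (m : ℕ) (hm : 2 ≤ m) : Cfsg.IsThreeTranspositionClass {g : ↥(Cfsg.isometryGroup (ZMod 2) (Cfsg.quadFormMinus m (ZMod 2) 1 1)) | (((g : GL ((Fin m ⊕ Fin m) ⊕ Fin 2) (ZMod 2)) : Matrix ((Fin m ⊕ Fin m) ⊕ Fin 2) ((Fin m ⊕ Fin m) ⊕ Fin 2) (ZMod 2)) - 1).rank = 1} := by
  have h := Cfsg.Agent.Lib.Helper5.ThreeTransOrth.isThreeTranspositionClass
    (Cfsg.Agent.Lib.Helper5.minusForm m (ZMod 2) 1 1)
    (minus_nondegenerate m)
    (by rw [Fintype.card_sum, Fintype.card_sum, Fintype.card_fin, Fintype.card_fin]; omega)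
    (by rw [Fintype.card_sum, Fintype.card_sum, Fintype.card_fin, Fintype.card_fin]; omega)
  unfold Cfsg.Agent.Lib.Helper5.ThreeTransOrth.D at h
  rw [Cfsg.Agent.Lib.Helper5.coe_minusForm] at h
  exact h

end Cfsg.Agent.S1630
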