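import Cfsg.Statements.S1640
import Cfsg.Agent.Lib.Helper9.LeechP9
import Cfsg.Agent.Lib.Helper9.LeechD5

set_option autoImplicit false
open Cfsg

namespace Cfsg.Agent.S1640

/-- The stabiliser of a vector of customary norm 6 is transitive on the 11178 minimal vectors of customary inner product −2 with it. -/
theorem result (u : ↥Cfsg.leechLattice) (hu : Cfsg.sqNorm (u : Cfsg.GolayPt → ℤ) = 48) : {x : ↥Cfsg.leechLattice | Cfsg.sqNorm (x : Cfsg.GolayPt → ℤ) = 32 ∧ Cfsg.dotInt (u : Cfsg.GolayPt → ℤ) (x : Cfsg.GolayPt → ℤ) = -16}.ncard = 11178 ∧ ∀ x ∈ {x : ↥Cfsg.leechLattice | Cfsg.sqNorm (x : Cfsg.GolayPt → ℤ) = 32 ∧ Cfsg.dotInt (u : Cfsg.GolayPt → ℤ) (x : Cfsg.GolayPt → ℤ) = -16}, ∀ x' ∈ {x : ↥Cfsg.leechLattice | Cfsg.sqNorm (x : Cfsg.GolayPt → ℤ) = 32 ∧ Cfsg.dotInt (u : Cfsg.GolayPt → ℤ) (x : Cfsg.GolayPt → ℤ) = -16}, ∃ g : ↥Cfsg.Co0, g • u = u ∧ g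 • x = x' := by
  refine ⟨?_, ?_⟩
  · have h := (Cfsg.Agent.Lib.Helper9.LeechD5.census48 u hu).2
    rw [← h]
    have himg : {w : Cfsg.GolayPt → ℤ | w ∈ Cfsg.leechLattice ∧ Cfsg.sqNorm w = 32 ∧
        Cfsg.dotInt (u : Cfsg.GolayPt → ℤ) w = -16}
        = Subtype.val '' {x : ↥Cfsg.leechLattice | Cfsg.sqNorm (x : Cfsg.GolayPt → ℤ) = 32 ∧
            Cfsg.dotInt (u : Cfsg.GolayPt → ℤ) (x : Cfsg.GolayPt → ℤ) = -16} := by
      ext w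
      simp only [Set.mem_setOf_eq, Set.mem_image]
      constructor
      · rintro ⟨hw, hn, hd⟩
        exact ⟨⟨w, hw⟩, ⟨hn, hd⟩, rfl⟩
      · rintro ⟨v, ⟨hn, hs⟩, rfl⟩
        exact ⟨v.2, hn, hs⟩
    rw [himg, Set.ncard_image_of_injective _ Subtype.val_injective]
  · intro x hx x' hx'
    exact (Cfsg.Agent.Lib.Helper9.LeechP9.co3_trans16 u x x' hu hx.1 hx'.1 hx.2 hx'.2).exists_smul

end Cfsg.Agent.S1640
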