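import Cfsg.Statements.S1641
import Cfsg.Agent.Lib.Helper9.HS11178e
import Cfsg.Agent.Lib.Helper9.OrbCert4

set_option autoImplicit false
open Cfsg
open Cfsg.Agent.Lib.Helper9.OrbCert1 Cfsg.Agent.Lib.Helper9.OrbCert2 Cfsg.Agent.Lib.Helper9.OrbCert4
  Cfsg.Agent.Lib.Helper9.HS11178a Cfsg.Agent.Lib.Helper9.HS11178b Cfsg.Agent.Lib.Helper9.HS11178d
  Cfsg.Agent.Lib.Helper9.HS11178e Cfsg.Agent.Lib.Helper9.LeechX9 Cfsg.Agent.Lib.Helper9.LeechE4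
  Cfsg.Agent.Lib.Helper9.LeechX11

namespace Cfsg.Agent.S1641

/-- The third Conway group acts on the 11178 cosets of the Higman–Sims group with rank 5 and subdegrees 1, 352, 1100, 4125, 5600. -/
theorem result (u x : ↥Cfsg.leechLattice) (hu : Cfsg.sqNorm (u : Cfsg.GolayPt → ℤ) = 48) (hx : x ∈ {x : ↥Cfsg.leechLattice | Cfsg.sqNorm (x : Cfsg.GolayPt → ℤ) = 32 ∧ Cfsg.dotInt (u : Cfsg.GolayPt → ℤ) (x : Cfsg.GolayPt → ℤ) = -16}) : ∃ y₁ ∈ {x : ↥Cfsg.leechLattice | Cfsg.sqNorm (x : Cfsg.GolayPt → ℤ) = 32 ∧ Cfsg.dotInt (u : Cfsg.GolayPt → ℤ) (x : Cfsg.GolayPt → ℤ) = -16}, ∃ y₂ ∈ {x : ↥Cfsg.leechLattice | Cfsg.sqNorm (x : Cfsg.GolayPt → ℤ) = 32 ∧ Cfsg.dotInt (u : Cfsg.GolayPt → ℤ) (x : Cfsg.GolayPt → ℤ) = -16}, ∃ y₃ ∈ {x : ↥Cfsg.leechLattice | Cfsg.sqNorm (x : Cfsg.GolayPt → ℤ) = 32 ∧ Cfsg.dotInt (u : Cfsg.GolayPt → ℤ) (x : Cfsg.GolayPt → ℤ) = -16}, ∃ y₄ ∈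 {x : ↥Cfsg.leechLattice | Cfsg.sqNorm (x : Cfsg.GolayPt → ℤ) = 32 ∧ Cfsg.dotInt (u : Cfsg.GolayPt → ℤ) (x : Cfsg.GolayPt → ℤ) = -16}, (MulAction.orbit ↥(MulAction.stabilizer ↥Cfsg.Co0 u ⊓ MulAction.stabilizer ↥Cfsg.Co0 x) y₁).ncard = 352 ∧ (MulAction.orbit ↥(MulAction.stabilizer ↥Cfsg.Co0 u ⊓ MulAction.stabilizer ↥Cfsg.Co0 x) y₂).ncard = 1100 ∧ (MulAction.orbit ↥(MulAction.stabilizer ↥Cfsg.Co0 u ⊓ MulAction.stabilizer ↥Cfsg.Co0 x) y₃).ncard = 4125 ∧ (MulAction.orbit ↥(MulAction.stabilizer ↥Cfsg.Co0 u ⊓ MulAction.stabilizer ↥Cfsg.Co0 x) y₄).ncard = 5600 ∧ {x : ↥Cfsg.leechLattice | Cfsg.sqNorm (x : Cfsg.GolayPt → ℤ) = 32 ∧ Cfsg.dotInt (u : Cfsg.GolayPt → ℤ) (x : Cfsg.GolayPt → ℤ) = -16} = {x} ∪ MulAction.orbit ↥(MulAction.stabilizer ↥Cfsg.Co0 u ⊓ MulAction.stabilizer ↥Cfsg.Co0 x) y₁ ∪ MulAction.orbit ↥(MulAction.stabilizer ↥Cfsg.Co0 u ⊓ MulAction.stabilizer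 ↥Cfsg.Co0 x) y₂ ∪ MulAction.orbit ↥(MulAction.stabilizer ↥Cfsg.Co0 u ⊓ MulAction.stabilizer ↥Cfsg.Co0 x) y₃ ∪ MulAction.orbit ↥(MulAction.stabilizer ↥Cfsg.Co0 u ⊓ MulAction.stabilizer ↥Cfsg.Co0 x) y₄ := by
  obtain ⟨hx1, hx2⟩ := hx
  -- move the standard pair to the given pair
  obtain ⟨g, hg, hgz, hgu⟩ := Cfsg.Agent.Lib.Helper9.LeechP9.pairs48 z3 rG x u
    (by decide +kernel) rG_norm hx1 hu (by decide +kernel)
    (by rw [Cfsg.Agent.Lib.Helper9.LeechP9.dot_comm']; exact hx2)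
  let γ : ↥Cfsg.Co0 := ⟨g, hg⟩
  have hγu : γ • rG = u := hgu
  have hγx : γ • z3 = x := hgz
  have hGood : Good = GoodAB rG z3 := rfl
  have horb : ∀ r : Cfsg.leechLattice,
      MulAction.orbit ↥(MulAction.stabilizer ↥Cfsg.Co0 u ⊓ MulAction.stabilizer ↥Cfsg.Co0 x) (γ • r)
        = (fun y => γ • y) '' Orb Good r := by
    intro r
    have := orbit_eq_image γ rG z3 r
    rw [hγu, hγx] at this
    rw [hGood]; exact this
  have hcard : ∀ r : Cfsg.leechLattice,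
      (MulAction.orbit ↥(MulAction.stabilizer ↥Cfsg.Co0 u ⊓ MulAction.stabilizer ↥Cfsg.Co0 x)
        (γ • r)).ncard = (Orb Good r).ncard := by
    intro r
    rw [horb r, Set.ncard_image_of_injective _ (MulAction.injective γ)]
  -- membership in the set is preserved
  have hmem : ∀ y : Cfsg.leechLattice, (Cfsg.sqNorm (y : Cfsg.GolayPt → ℤ) = 32 ∧
      Cfsg.dotInt (rG : Cfsg.GolayPt → ℤ) (y : Cfsg.GolayPt → ℤ) = -16) →
      (Cfsg.sqNorm ((γ • y : Cfsg.leechLattice) : Cfsg.GolayPt → ℤ) = 32 ∧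
        Cfsg.dotInt (u : Cfsg.GolayPt → ℤ) ((γ • y : Cfsg.leechLattice) : Cfsg.GolayPt → ℤ) = -16) := by
    rintro y ⟨h1, h2⟩
    refine ⟨by show Cfsg.sqNorm (g y).1 = 32; rw [hg.2, h1], ?_⟩
    have := dot_pres g hg rG y
    rw [hgu] at this
    show Cfsg.dotInt u.1 (g y).1 = -16
    rw [this, h2]
  have hroot : ∀ b ∈ blocks, b.1.1 ∈ SF := Cfsg.Agent.Lib.Helper9.HS11178e.hroot
  have hr1 : ym8.1 ∈ SF := hroot (ym8, codes rm8 Em8) (by simp [blocks])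
  have hr2 : yp16.1 ∈ SF := hroot (yp16, codes rp16 Ep16) (by simp [blocks])
  have hr3 : yp0.1 ∈ SF := hroot (yp0, codes rp0 Ep0) (by simp [blocks])
  have hr4 : yp8.1 ∈ SF := hroot (yp8, codes rp8 Ep8) (by simp [blocks])
  refine ⟨γ • ym8, hmem ym8 hr1.2, γ • yp16, hmem yp16 hr2.2, γ • yp0, hmem yp0 hr3.2,
    γ • yp8, hmem yp8 hr4.2, ?_, ?_, ?_, ?_, ?_⟩
  · rw [hcard]; exact card_m8
  · rw [hcard]; exact card_p16
  · rw [hcard]; exact card_p0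
  · rw [hcard]; exact card_p8
  · ext y
    constructor
    · rintro ⟨h1, h2⟩
      -- pull back to the standard pair
      have hy0 : Cfsg.sqNorm ((γ⁻¹ • y : Cfsg.leechLattice) : Cfsg.GolayPt → ℤ) = 32 ∧
          Cfsg.dotInt (rG : Cfsg.GolayPt → ℤ) ((γ⁻¹ • y : Cfsg.leechLattice) : Cfsg.GolayPt → ℤ)
            = -16 := by
        have hgi : (γ⁻¹).1 ∈ Cfsg.Co0 := (γ⁻¹).2
        refine ⟨by show Cfsg.sqNorm ((γ⁻¹).1 y).1 = 32; rw [hgi.2, h1], ?_⟩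
        have := dot_pres (γ⁻¹).1 hgi u y
        have hu' : (γ⁻¹).1 u = rG := by
          show γ⁻¹ • u = rG
          rw [← hγu, inv_smul_smul]
        rw [hu'] at this
        show Cfsg.dotInt rG.1 ((γ⁻¹).1 y).1 = -16
        rw [this, h2]
      have hyy : γ • (γ⁻¹ • y) = y := smul_inv_smul γ y
      rcases all_orb (γ⁻¹ • y) hy0.1 hy0.2 with h | h | h | h | h
      · left; left; left; left
        show y = x
        rw [← hyy, h, hγx]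
      · left; left; left; right
        rw [horb]; exact ⟨γ⁻¹ • y, h, hyy⟩
      · left; left; right
        rw [horb]; exact ⟨γ⁻¹ • y, h, hyy⟩
      · left; right
        rw [horb]; exact ⟨γ⁻¹ • y, h, hyy⟩
      · right
        rw [horb]; exact ⟨γ⁻¹ • y, h, hyy⟩
    · rintro ((((h | h) | h) | h) | h)
      · rw [Set.mem_singleton_iff] at h
        rw [h]; exact ⟨hx1, hx2⟩
      · rw [horb] at h
        obtain ⟨y0, hy0, rfl⟩ := h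
        exact hmem y0 (orb_sub ym8 hr1 y0 hy0)
      · rw [horb] at h
        obtain ⟨y0, hy0, rfl⟩ := h
        exact hmem y0 (orb_sub yp16 hr2 y0 hy0)
      · rw [horb] at h
        obtain ⟨y0, hy0, rfl⟩ := h
        exact hmem y0 (orb_sub yp0 hr3 y0 hy0)
      · rw [horb] at h
        obtain ⟨y0, hy0, rfl⟩ := h
        exact hmem y0 (orb_sub yp8 hr4 y0 hy0)

end Cfsg.Agent.S1641
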