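import Cfsg.Statements.S1679
import Mathlib
import Cfsg.Agent.Lib.Helper8.G2SE
import Cfsg.Agent.S1694

set_option autoImplicit false
open Cfsg

namespace Cfsg.Agent.S1679

open Cfsg.Spor Cfsg.Agent.Lib.Helper4.TC Cfsg.Agent.Lib.Helper4.TCD Cfsg.Agent.Lib.Helper8.G2S Cfsg.Agent.Lib.Helper8.HeSp in
theorem aux : Nonempty ((((Subgroup.closure ({Suz.a, Suz.b, Suz.c, Suz.d, Suz.e, Suz.f} : Set (FreeGroup Suz.Gen))).map (PresentedGroup.mk PSuz.P.rels) : Subgroup PSuz.P.Grp)) ≃* Cfsg.Lie.chevG2.group K4) := by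
  rw [HS_eq]
  obtain ⟨fG, _, hcard⟩ := Cfsg.Agent.S1694.order_aux
  exact iso fG hcard

/-- In the presented sporadic Suzuki group (generators a, …, g), the subgroup generated by the images of a, …, f is isomorphic to the adjoint Chevalley group of type G₂ over a field with four elements. -/
theorem result : ∃ (K : Type) (_ : Field K) (_ : Fintype K), Fintype.card K = 4 ∧ Nonempty ((((Subgroup.closure ({Cfsg.Spor.Suz.a, Cfsg.Spor.Suz.b, Cfsg.Spor.Suz.c, Cfsg.Spor.Suz.d, Cfsg.Spor.Suz.e, Cfsg.Spor.Suz.f} : Set (FreeGroup Cfsg.Spor.Suz.Gen))).map (PresentedGroup.mk (Cfsg.Spor.coxRelators Cfsg.Spor.Suz.edges ∪ {r | r ∈ Cfsg.Spor.Suz.extra})))) ≃* Cfsg.Lie.chevG2.group K) := by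
  exact ⟨Cfsg.Agent.Lib.Helper8.HeSp.K4, inferInstance, inferInstance, Cfsg.Agent.Lib.Helper8.HeSp.K4.card_eq, aux⟩

end Cfsg.Agent.S1679
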