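import Cfsg.Statements.S1708
import Cfsg.Agent.Lib.Helper4.HNSimple
import Cfsg.Agent.Lib.Helper4.HNNC2

set_option autoImplicit false
open Cfsg

namespace Cfsg.Agent.S1708

open Cfsg.Agent.Lib.Helper4 Cfsg.Agent.Lib.Helper4.TC Cfsg.Agent.Lib.Helper4.TCD.HNm

theorem psi_inj : Function.Injective HNSimple.psi :=
  (HNMain.xinst.injective_of_sub HNSimple.psi Cfsg.Agent.Lib.Helper4.TCD.HNNR.prep.phi HNNMain.order_aux.2.1
    HNSimple.sh HNSimple.sh_inj HNSimple.hsub HNSimple.hint).2

theorem range_eq : HNSimple.psi.range = Inst.subG PHN.P subs :=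
  le_antisymm HNSimple.hrange HNSimple.hsub

theorem key : ∃ K : Subgroup ↥HNSimple.psi.range, K.Normal ∧ K.index = 2 ∧
    Cfsg.IsNonsplitDoubleCover K Cfsg.Spor.HS := by
  haveI : Finite PHNN.P.Grp := HNNMain.order_aux.1
  exact DCoverLib.exists_of_equiv (MonoidHom.ofInjective psi_inj) HNNC2.main

/-- In the presented Harada–Norton group, the subgroup N generated by the images of x, y, z has a normal subgroup of index 2 which is a non-split double cover of the Higman–Sims group. -/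
theorem result : ∃ K : Subgroup (((Subgroup.closure ({Cfsg.Spor.HN.x, Cfsg.Spor.HN.y, Cfsg.Spor.HN.z} : Set (FreeGroup Cfsg.Spor.HN.Gen))).map (PresentedGroup.mk (Cfsg.Spor.coxRelators Cfsg.Spor.HN.edges ∪ {r | r ∈ Cfsg.Spor.HN.extra})))), K.Normal ∧ K.index = 2 ∧ Cfsg.IsNonsplitDoubleCover K Cfsg.Spor.HS := by
  have hH : (((Subgroup.closure ({Cfsg.Spor.HN.x, Cfsg.Spor.HN.y, Cfsg.Spor.HN.z} : Set (FreeGroup Cfsg.Spor.HN.Gen))).map (PresentedGroup.mk (Cfsg.Spor.coxRelators Cfsg.Spor.HN.edges ∪ {r | r ∈ Cfsg.Spor.HN.extra})))) = HNSimple.psi.range := by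
    rw [range_eq, MonoidHom.map_closure]
    unfold Inst.subG
    congr 1
    ext x
    simp only [Set.image_insert_eq, Set.image_singleton, Set.mem_insert_iff, Set.mem_singleton_iff,
      subs, List.mem_cons, List.not_mem_nil, or_false, exists_eq_or_imp, exists_eq_left,
      Log.wordP_cons, Log.wordP_nil, wordP_replicate_flatten, mul_one, map_mul, map_pow]
    rfl
  suffices h : ∀ H' : Subgroup Cfsg.Spor.HN, H' = HNSimple.psi.range →
      ∃ K : Subgroup H', K.Normal ∧ K.index = 2 ∧ Cfsg.IsNonsplitDoubleCover K Cfsg.Spor.HS from h _ hH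
  rintro H' rfl
  exact key

end Cfsg.Agent.S1708
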