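import Cfsg.Statements.S1723
import Cfsg.Agent.Lib.Helper8.J2X
import Cfsg.Agent.Lib.Helper2.J2T5
import Cfsg.Agent.Lib.Helper6.J2T3
import Cfsg.Agent.Lib.Helper6.J2L5

set_option autoImplicit false
open Cfsg

namespace Cfsg.Agent.S1723

/-- Sylow 3-structure of a group of Hall–Janko type (large-extraspecial hypothesis with Q of order 32, quotient Ω⁻(4, 2), z not weakly closed in Q, more than one class of involutions): a Sylow 3-subgroup P is extraspecial of order 27, its normaliser has order 216, and the elements of order 3 form exactly two conjugacy classes. -/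
theorem result {G : Type*} [Group G] [Finite G] (z : G) (hz : orderOf z = 2) (Q : Subgroup (Subgroup.centralizer ({z} : Set G))) [Q.Normal] (hF : Cfsg.generalizedFittingSubgroup (Subgroup.centralizer ({z} : Set G)) = Q) (hQ : Cfsg.IsExtraspecial 2 Q) (hcard : Nat.card Q = 2 ^ 5) (e : (Subgroup.centralizer ({z} : Set G)) ⧸ Q ≃* Cfsg.Omega (ZMod 2) (Cfsg.quadFormMinus 1 (ZMod 2) 1 1)) (hnwc : ∃ g : G, (∃ hq : g * z * g⁻¹ ∈ Subgroup.centralizer ({z} : Set G), (⟨g * z * g⁻¹, hq⟩ : Subgroup.centralizer ({z} : Set G)) ∈ Q) ∧ g * z * g⁻¹ ≠ z) (hcl : ∃ x y : G, orderOf x = 2 ∧ orderOf y = 2 ∧ ¬ IsConj x y) (P : Sylow 3 G) : Cfsg.IsExtraspecial 3 (P : Subgroup G) ∧ Nat.card P = 27 ∧ Nat.card (Subgroup.normalizer ((P : Subgroup G) : Set G)) = 216 ∧ ∃ a b : G, orderOf a = 3 ∧ orderOf b = 3 ∧ ¬ IsConj a b ∧ ∀ c : G, orderOf c = 3 → IsConj c a ∨ IsConj c b := by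
  obtain ⟨Q', phi, u, -, F⟩ := Cfsg.Agent.Lib.Helper8.J2.exists_facts z hz Q hF hQ hcard e hnwc hcl
  obtain ⟨t, V0, R1, D, hG, hz2, ht, hzt, -, -, -, -, hVB, hV, htV, hR1, hfuse, hBz, -, -, hM, hVD,
    hD12, hcent, hDA4⟩ := F.exports
  have hC : ∀ g : G, g ∈ Subgroup.centralizer ({z} : Set G) ↔ g * z = z * g := fun g =>
    Subgroup.mem_centralizer_singleton_iff
  have hCz : ∀ c ∈ Subgroup.centralizer ({z} : Set G), c * z = z * c := fun c hc => (hC c).mp hc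
  have h3 : Cfsg.Agent.Lib.Helper6.J2T.ThreeLocal z (Subgroup.centralizer ({z} : Set G)) Q' :=
    Cfsg.Agent.Lib.Helper6.J2T.threeLocal_of_module _ Q' z F.hD F.hQ F.hQC hCz F.hQn F.hCcard phi u
      F.hker F.hran F.hu F.hcm F.hact F.hgen
  have h5 : ∀ f ∈ Subgroup.centralizer ({z} : Set G), orderOf f = 5 →
      ∀ c ∈ Subgroup.centralizer ({z} : Set G), c * f = f * c → ∃ a b : ℕ, c = z ^ a * f ^ b :=
    fun f hfC hf5 => Cfsg.Agent.Lib.Helper2.J2T5.cent_five _ Q' z F.hD F.hQ F.hQC hCz F.hQn F.hself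
      phi F.hker F.hran f hfC hf5
  obtain ⟨d, r, s, hd, hr3, hrn, hdr, -, -, hs2, hsd, hsr, htr, hcr, hstab⟩ :=
    Cfsg.Agent.Lib.Helper6.J2L.exists_d_r hG z t _ Q' V0 R1 D hC h3 F.hQz hz2 ht hzt hVB hV htV hR1
      hfuse hBz hM hVD hD12 hcent hDA4 h5
  exact Cfsg.Agent.Lib.Helper6.J2L.sylow_three_of_d_r hG z t _ Q' D hC h3 ht hD12 d r s hd hr3 hrn
    hdr hs2 hsd hsr htr hcr hstab P

end Cfsg.Agent.S1723
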