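import Cfsg.Statements.S1754
import Mathlib
import Cfsg.Agent.Lib.Helper2.Components2
-- import your own Cfsg.Agent.* helpers here

set_option autoImplicit false
open Cfsg

namespace Cfsg.Agent.S1754

open Cfsg.Agent.Lib.Helper2


theorem final {G : Type*} [Group G] [Finite G]
    (A : Subgroup G) (hA : Cfsg.IsStandardSubgroup A) (t : G) (ht : orderOf t = 2) (htA : t ∈ Subgroup.centralizer (A : Set G)) :
    Subgroup.centralizer ({t} : Set G) ≤ Subgroup.normalizer (A : Set G) ∧
      Cfsg.IsComponent (A.subgroupOf (Subgroup.centralizer ({t} : Set G))) := by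
  obtain ⟨hqs, ⟨-, htight⟩, -, hnorm⟩ := hA
  set K := Subgroup.centralizer (A : Set G) with hK
  have h1 : Subgroup.centralizer ({t} : Set G) ≤ Subgroup.normalizer (A : Set G) := by
    intro g hg
    rw [hnorm]
    by_contra hgN
    have hodd := htight g hgN
    -- t lies in K ⊓ K^g
    have hgt : g * t * g⁻¹ = t := by
      rw [Subgroup.mem_centralizer_iff] at hg
      have := hg t rfl
      calc g * t * g⁻¹ = (t * g) * g⁻¹ := by rw [this]
        _ = t := by group
    have htmem : t ∈ K ⊓ K.map (MulAut.conj g).toMonoidHom := by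
      refine Subgroup.mem_inf.mpr ⟨htA, ⟨t, htA, ?_⟩⟩
      simp only [MulEquiv.coe_toMonoidHom, MulAut.conj_apply]
      exact hgt
    have hdvd : orderOf (⟨t, htmem⟩ : ↥(K ⊓ K.map (MulAut.conj g).toMonoidHom)) ∣
        Nat.card ↥(K ⊓ K.map (MulAut.conj g).toMonoidHom) := orderOf_dvd_natCard _
    rw [← Subgroup.orderOf_coe] at hdvd
    simp only at hdvd
    rw [ht] at hdvd
    exact (Nat.not_even_iff_odd.mpr hodd) (even_iff_two_dvd.mpr hdvd)
  refine ⟨h1, ?_⟩
  set C := Subgroup.centralizer ({t} : Set G) with hC
  have hAC : A ≤ C := by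
    intro a ha
    rw [hC, Subgroup.mem_centralizer_iff]
    intro s hs
    rw [Set.mem_singleton_iff] at hs
    rw [hs]
    rw [hK, Subgroup.mem_centralizer_iff] at htA
    exact (htA a ha).symm
  have hn : (A.subgroupOf C).Normal := by
    constructor
    intro a ha c
    rw [Subgroup.mem_subgroupOf] at ha ⊢
    have := (Subgroup.mem_normalizer_iff.mp (h1 c.2) a).mp ha
    simpa using this
  exact ⟨hn.isSubnormal, isQuasisimple_of_mulEquiv (Subgroup.subgroupOfEquivOfLe hAC) hqs⟩





/-- Let A be a standard subgroup of the finite group G (A quasisimple, C_G(A) tightly embedded of even order, A commuting elementwise with no other conjugate of itself, and N_G(A) = N_G(C_G(A))), and let t be an involution of G centralizing A. Then the centralizer of t lies in the normalizer of A; in particular A, viewed inside C_G(t), is a component of C_G(t). -/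
theorem result {G : Type*} [Group G] [Finite G]
    (A : Subgroup G) (hA : Cfsg.IsStandardSubgroup A) (t : G) (ht : orderOf t = 2) (htA : t ∈ Subgroup.centralizer (A : Set G)) :
    Subgroup.centralizer ({t} : Set G) ≤ Subgroup.normalizer (A : Set G) ∧
      Cfsg.IsComponent (A.subgroupOf (Subgroup.centralizer ({t} : Set G))) := by
  exact final A hA t ht htA

end Cfsg.Agent.S1754
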