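import Cfsg.Statements.S1755
import Mathlib
import Cfsg.Agent.Lib.Helper8.FStar
import Cfsg.Agent.Lib.Helper6.CyclicSub
-- import your own Cfsg.Agent.* helpers here

set_option autoImplicit false
open Cfsg

namespace Cfsg.Agent.S1755

open Cfsg.Agent.Lib.Helper8 Cfsg.Agent.Lib.Helper6


theorem not_cyclic_of_three {R : Type*} [Group R] [Finite R] (H : Subgroup R) (x y : R)
    (hx : x ∈ H) (hy : y ∈ H) (hx2 : x ^ 2 = 1) (hy2 : y ^ 2 = 1) (hx1 : x ≠ 1) (hy1 : y ≠ 1)
    (hxy : x ≠ y) : ¬ IsCyclic H := by
  intro hcyc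
  classical
  haveI : Fintype H := Fintype.ofFinite H
  have h1 := IsCyclic.card_pow_eq_one_le (α := H) (n := 2) (by norm_num)
  have h2 : ({1, ⟨x, hx⟩, ⟨y, hy⟩} : Finset H) ⊆ Finset.univ.filter (fun a : H => a ^ 2 = 1) := by
    intro t ht
    simp only [Finset.mem_insert, Finset.mem_singleton] at ht
    simp only [Finset.mem_filter, Finset.mem_univ, true_and]
    rcases ht with rfl | rfl | rfl
    · simp
    · exact Subtype.ext hx2
    · exact Subtype.ext hy2
  have h3 : ({1, ⟨x, hx⟩, ⟨y, hy⟩} : Finset H).card = 3 := by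
    rw [Finset.card_eq_three]
    refine ⟨1, ⟨x, hx⟩, ⟨y, hy⟩, ?_, ?_, ?_, rfl⟩
    · intro h; exact hx1 (congrArg Subtype.val h).symm
    · intro h; exact hy1 (congrArg Subtype.val h).symm
    · intro h; exact hxy (congrArg Subtype.val h)
  have h4 := Finset.card_le_card h2
  omega


theorem core {G : Type*} [Group G] [Finite G] (z : G) (hz : orderOf z = 2)
    (C : Subgroup G) (hC : ∀ g, g ∈ C ↔ g * z = z * g)
    (F : Subgroup C) [hFn : F.Normal] (hF2 : IsPGroup 2 F)
    (hcent : Subgroup.centralizer (F : Set C) ≤ F)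
    (hZcyc : IsCyclic (Subgroup.center F))
    (B : Subgroup F) (hBc : B.Characteristic) (hBcyc : IsCyclic B) (g : G) :
    ((B.map F.subtype).map C.subtype).map (MulAut.conj g).toMonoidHom =
        (B.map F.subtype).map C.subtype ∨
      ((B.map F.subtype).map C.subtype).map (MulAut.conj g).toMonoidHom ⊓
        (B.map F.subtype).map C.subtype = ⊥ := by
  haveI : Fact (Nat.Prime 2) := ⟨Nat.prime_two⟩
  set Bh := (B.map F.subtype).map C.subtype with hBh
  have hmem : ∀ x : G, x ∈ Bh ↔ ∃ b : F, b ∈ B ∧ ((b : C) : G) = x := by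
    intro x
    constructor
    · rintro ⟨c, ⟨b, hb, rfl⟩, rfl⟩
      exact ⟨b, hb, rfl⟩
    · rintro ⟨b, hb, rfl⟩
      exact ⟨(b : C), ⟨b, hb, rfl⟩, rfl⟩
  by_cases hB : B = ⊥
  · left
    have : Bh = ⊥ := by rw [hBh, hB, Subgroup.map_bot, Subgroup.map_bot]
    rw [this, Subgroup.map_bot]
  -- the element z inside F
  have hzC : z ∈ C := (hC z).mpr rfl
  have hzcent : (⟨z, hzC⟩ : C) ∈ Subgroup.centralizer (F : Set C) := by
    rw [Subgroup.mem_centralizer_iff]
    intro f _
    apply Subtype.ext
    simp only [Subgroup.coe_mul]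
    exact (hC f).mp f.2
  have hzF : (⟨z, hzC⟩ : C) ∈ F := hcent hzcent
  set zF : F := ⟨⟨z, hzC⟩, hzF⟩ with hzFdef
  have hzFc : zF ∈ Subgroup.center F := by
    rw [Subgroup.mem_center_iff]
    intro f
    apply Subtype.ext
    apply Subtype.ext
    simp only [Subgroup.coe_mul]
    exact (hC (f : C)).mp (f : C).2
  have hzFo : orderOf zF = 2 := by
    rw [← Subgroup.orderOf_coe, ← Subgroup.orderOf_coe]
    exact hz
  haveI hBn : B.Normal := Subgroup.normal_of_characteristic B
  have hzB : zF ∈ B := mem_of_normal_ne_bot_of_center_cyclic hF2 hZcyc B hB hzFc hzFo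
  have hzBh : z ∈ Bh := (hmem z).mpr ⟨zF, hzB, rfl⟩
  have hz2 : z ^ 2 = 1 := by rw [← hz]; exact pow_orderOf_eq_one z
  have hz1 : z ≠ 1 := by
    intro h
    rw [h, orderOf_one] at hz
    omega
  -- involutions of Bh equal z
  have hinv : ∀ x ∈ Bh, orderOf x = 2 → x = z := by
    intro x hx hxo
    obtain ⟨b, hb, rfl⟩ := (hmem x).mp hx
    by_contra hne
    have hbo : orderOf b = 2 := by
      rw [← Subgroup.orderOf_coe, ← Subgroup.orderOf_coe]
      exact hxo
    have hb2 : b ^ 2 = 1 := by rw [← hbo]; exact pow_orderOf_eq_one b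
    have hb1 : b ≠ 1 := by
      intro h
      rw [h, orderOf_one] at hbo
      omega
    have hzF2 : zF ^ 2 = 1 := by rw [← hzFo]; exact pow_orderOf_eq_one zF
    have hzF1 : zF ≠ 1 := by
      intro h
      rw [h, orderOf_one] at hzFo
      omega
    have hbz : b ≠ zF := by
      intro h
      apply hne
      rw [h]
    exact not_cyclic_of_three B b zF hb hzB hb2 hzF2 hb1 hzF1 hbz hBcyc
  -- conjugation by elements of C
  have hconjC : ∀ c : G, c ∈ C → Bh.map (MulAut.conj c).toMonoidHom = Bh := by
    intro c hc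
    set α : MulAut F := MulAut.conjNormal (⟨c, hc⟩ : C) with hα
    have hBα : B.map α.toMonoidHom = B := (Subgroup.characteristic_iff_map_eq.mp hBc) α
    have hαcoe : ∀ b : F, (((α b : F) : C) : G) = c * ((b : C) : G) * c⁻¹ := by
      intro b
      rw [hα, MulAut.conjNormal_apply]
      rfl
    ext x
    constructor
    · rintro ⟨y, hy, rfl⟩
      obtain ⟨b, hb, rfl⟩ := (hmem y).mp hy
      rw [hmem]
      refine ⟨α b, ?_, ?_⟩
      · rw [← hBα]; exact ⟨b, hb, rfl⟩
      · rw [hαcoe]; rfl
    · intro hx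
      obtain ⟨b, hb, rfl⟩ := (hmem x).mp hx
      rw [← hBα] at hb
      obtain ⟨b', hb', rfl⟩ := hb
      refine ⟨((b' : C) : G), (hmem _).mpr ⟨b', hb', rfl⟩, ?_⟩
      simp only [MulEquiv.coe_toMonoidHom, MulAut.conj_apply]
      exact (hαcoe b').symm
  by_cases hg : g ∈ C
  · left
    exact hconjC g hg
  right
  by_contra hne
  -- Bh is a 2-group
  have hBh2 : IsPGroup 2 Bh := ((hF2.to_subgroup B).map F.subtype).map C.subtype
  set D := Bh.map (MulAut.conj g).toMonoidHom ⊓ Bh with hD
  have hD2 : IsPGroup 2 D := hBh2.to_le inf_le_right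
  have hdvd : 2 ∣ Nat.card D := by
    rcases hD2.card_eq_or_dvd with h1 | h1
    · exact absurd (Subgroup.card_eq_one.mp h1) hne
    · exact h1
  obtain ⟨d, hd⟩ := exists_prime_orderOf_dvd_card' 2 hdvd
  have hdo : orderOf (d : G) = 2 := by rw [Subgroup.orderOf_coe]; exact hd
  have hdBh : (d : G) ∈ Bh := (Subgroup.mem_inf.mp d.2).2
  have hdz : (d : G) = z := hinv _ hdBh hdo
  obtain ⟨x, hx, hxd⟩ := (Subgroup.mem_inf.mp d.2).1
  simp only [MulEquiv.coe_toMonoidHom, MulAut.conj_apply] at hxd
  have hxo : orderOf x = 2 := by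
    have : orderOf (g * x * g⁻¹) = orderOf x := by
      have := orderOf_injective (MulAut.conj g).toMonoidHom (MulAut.conj g).injective x
      simpa using this
    rw [← this, hxd]; exact hdo
  have hxz : x = z := hinv x hx hxo
  apply hg
  rw [hC]
  rw [hxz, hdz] at hxd
  calc g * z = (g * z * g⁻¹) * g := by group
    _ = z * g := by rw [hxd]




theorem final {G : Type*} [Group G] [Finite G] (z : G) (hz : orderOf z = 2) (hQ : Cfsg.IsOfSymplecticType ↥(Cfsg.generalizedFittingSubgroup ↥(Subgroup.centralizer ({z} : Set G))))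
    (B : Subgroup ↥(Cfsg.generalizedFittingSubgroup ↥(Subgroup.centralizer ({z} : Set G)))) (hBc : B.Characteristic) (hBa : IsMulCommutative ↥B) (g : G) :
    ((B.map (Cfsg.generalizedFittingSubgroup ↥(Subgroup.centralizer ({z} : Set G))).subtype).map (Subgroup.centralizer ({z} : Set G)).subtype).map (MulAut.conj g).toMonoidHom =
        (B.map (Cfsg.generalizedFittingSubgroup ↥(Subgroup.centralizer ({z} : Set G))).subtype).map (Subgroup.centralizer ({z} : Set G)).subtype ∨
      ((B.map (Cfsg.generalizedFittingSubgroup ↥(Subgroup.centralizer ({z} : Set G))).subtype).map (Subgroup.centralizer ({z} : Set G)).subtype).map (MulAut.conj g).toMonoidHom ⊓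
        (B.map (Cfsg.generalizedFittingSubgroup ↥(Subgroup.centralizer ({z} : Set G))).subtype).map (Subgroup.centralizer ({z} : Set G)).subtype = ⊥ := by
  haveI hFn : (Cfsg.generalizedFittingSubgroup ↥(Subgroup.centralizer ({z} : Set G))).Normal :=
    generalizedFittingSubgroup_normal
  refine core z hz (Subgroup.centralizer ({z} : Set G)) ?_
    (Cfsg.generalizedFittingSubgroup ↥(Subgroup.centralizer ({z} : Set G))) hQ.1
    centralizer_generalizedFittingSubgroup_le ?_ B hBc (hQ.2 B hBc hBa) g
  · intro x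
    rw [Subgroup.mem_centralizer_iff]
    constructor
    · intro h; exact (h z rfl).symm
    · intro h s hs
      rw [Set.mem_singleton_iff] at hs
      rw [hs]; exact h.symm
  · exact hQ.2 _ inferInstance inferInstance





/-- Let G be a finite group and let z be an involution of G such that Q, the generalized Fitting subgroup of the centralizer C of z, is a 2-group of symplectic type (every characteristic abelian subgroup of Q is cyclic). Let B be a characteristic abelian subgroup of Q, viewed as a subgroup of G. Then for every g in G, the conjugate of B by g either equals B or meets B trivially. -/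
theorem result {G : Type*} [Group G] [Finite G] (z : G) (hz : orderOf z = 2) (hQ : Cfsg.IsOfSymplecticType ↥(Cfsg.generalizedFittingSubgroup ↥(Subgroup.centralizer ({z} : Set G))))
    (B : Subgroup ↥(Cfsg.generalizedFittingSubgroup ↥(Subgroup.centralizer ({z} : Set G)))) (hBc : B.Characteristic) (hBa : IsMulCommutative ↥B) (g : G) :
    ((B.map (Cfsg.generalizedFittingSubgroup ↥(Subgroup.centralizer ({z} : Set G))).subtype).map (Subgroup.centralizer ({z} : Set G)).subtype).map (MulAut.conj g).toMonoidHom =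
        (B.map (Cfsg.generalizedFittingSubgroup ↥(Subgroup.centralizer ({z} : Set G))).subtype).map (Subgroup.centralizer ({z} : Set G)).subtype ∨
      ((B.map (Cfsg.generalizedFittingSubgroup ↥(Subgroup.centralizer ({z} : Set G))).subtype).map (Subgroup.centralizer ({z} : Set G)).subtype).map (MulAut.conj g).toMonoidHom ⊓
        (B.map (Cfsg.generalizedFittingSubgroup ↥(Subgroup.centralizer ({z} : Set G))).subtype).map (Subgroup.centralizer ({z} : Set G)).subtype = ⊥ := by
  exact final z hz hQ B hBc hBa g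

end Cfsg.Agent.S1755
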