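import Cfsg.Statements.S1756
import Mathlib
import Cfsg.Agent.Lib.Helper9.Extraspecial1
-- import your own Cfsg.Agent.* helpers here

set_option autoImplicit false
open Cfsg

namespace Cfsg.Agent.S1756

open Cfsg.Agent.Lib.Helper9
variable {G : Type*} [Group G]


/-- conjugation by a normalizing element as an automorphism of the subgroup. -/
def conjAut (Q : Subgroup G) (t : G) (ht : t ∈ Subgroup.normalizer (Q : Set G)) : Q ≃* Q where
  toFun x := ⟨t * x * t⁻¹, (Subgroup.mem_normalizer_iff.mp ht x).mp x.2⟩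
  invFun x := ⟨t⁻¹ * x * t, by
    have h := (Subgroup.mem_normalizer_iff.mp ht (t⁻¹ * x * t)).mpr
    apply h
    have : t * (t⁻¹ * x * t) * t⁻¹ = x := by group
    rw [this]; exact x.2⟩
  left_inv x := by
    apply Subtype.ext
    simp only
    group
  right_inv x := by
    apply Subtype.ext
    simp only
    group
  map_mul' x y := by
    apply Subtype.ext
    simp only [Subgroup.coe_mul]
    group


theorem conjAut_apply (Q : Subgroup G) (t : G) (ht : t ∈ Subgroup.normalizer (Q : Set G)) (x : Q) :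
    ((conjAut Q t ht x : Q) : G) = t * x * t⁻¹ := rfl


/-- the key computation: commutators with `t` are central in `Q`. -/
theorem comm_central [Finite G] (Q : Subgroup G) (t : G) (ht2 : t * t = 1)
    (htN : t ∈ Subgroup.normalizer (Q : Set G))
    (hK : ∀ x ∈ Q, ∀ y ∈ Q, ¬ (t * x = x * t) → ¬ (t * y = y * t) → t * (x * y) = (x * y) * t)
    (x : G) (hx : x ∈ Q) (y : G) (hy : y ∈ Q) :
    (t * x * t⁻¹ * x⁻¹) * y = y * (t * x * t⁻¹ * x⁻¹) := by
  have htinv : t⁻¹ = t := inv_eq_of_mul_eq_one_right ht2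
  -- c(x) = 1 when x commutes with t
  by_cases hxc : t * x = x * t
  · have : t * x * t⁻¹ * x⁻¹ = 1 := by rw [hxc]; group
    rw [this]; simp
  -- x0 := x ∉ C, w := c(x)
  set w := t * x * t⁻¹ * x⁻¹ with hw
  have hxinv : ¬ (t * x⁻¹ = x⁻¹ * t) := by
    intro h
    apply hxc
    have := (show Commute t x⁻¹ from h).inv_right
    simpa using this.eq
  -- (1) c(y) = w for all y ∈ Q not commuting with t
  have h1 : ∀ y ∈ Q, ¬ (t * y = y * t) → t * y * t⁻¹ * y⁻¹ = w := by
    intro y hy hyc
    have h := hK x⁻¹ (Q.inv_mem hx) y hy hxinv hyc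
    -- t (x⁻¹ y) = (x⁻¹ y) t
    have e : t * y * t⁻¹ = (t * x * t⁻¹) * (x⁻¹ * y) := by
      have : t * y * t⁻¹ = (t * x * t⁻¹) * (t * (x⁻¹ * y)) * t⁻¹ := by group
      rw [this, h]; group
    rw [e, hw]; group
  -- (3) w commutes with elements commuting with t
  have h3 : ∀ y ∈ Q, t * y = y * t → y * w = w * y := by
    intro y hy hyc
    have hyx : ¬ (t * (y * x) = (y * x) * t) := by
      intro h
      apply hxc
      have e1 : t * x = y⁻¹ * (y * t) * x := by group
      rw [e1, ← hyc]
      have e2 : y⁻¹ * (t * y) * x = y⁻¹ * (t * (y * x)) := by group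
      rw [e2, h]; group
    have h4 := h1 (y * x) (Q.mul_mem hy hx) hyx
    have e : t * (y * x) * t⁻¹ * (y * x)⁻¹ = y * w * y⁻¹ := by
      have : t * (y * x) * t⁻¹ * (y * x)⁻¹ = (t * y) * x * t⁻¹ * x⁻¹ * y⁻¹ := by group
      rw [this, hyc, hw]; group
    rw [e] at h4
    calc y * w = (y * w * y⁻¹) * y := by group
      _ = w * y := by rw [h4]
  -- (4) w * w = 1
  have h4 : w * w = 1 := by
    set x1 := t * x * t⁻¹ with hx1
    have hx1Q : x1 ∈ Q := (Subgroup.mem_normalizer_iff.mp htN x).mp hx
    have hx1c : ¬ (t * x1 = x1 * t) := by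
      intro h
      apply hxc
      rw [hx1, htinv] at h
      -- t * (t x t) = (t x t) * t → x t = t x
      have e1 : t * (t * x * t) = x * t := by
        calc t * (t * x * t) = (t * t) * x * t := by group
          _ = x * t := by rw [ht2, one_mul]
      have e2 : t * x * t * t = t * x := by
        calc t * x * t * t = t * x * (t * t) := by group
          _ = t * x := by rw [ht2, mul_one]
      rw [e1, e2] at h
      exact h.symm
    have h5 := h1 x1 hx1Q hx1c
    have e : t * x1 * t⁻¹ * x1⁻¹ = w⁻¹ := by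
      rw [hw, hx1, htinv]
      have : t * (t * x * t) * t * (t * x * t)⁻¹ = (t * t) * x * (t * t) * (t * x * t)⁻¹ := by group
      rw [this, ht2]
      rw [← htinv]; group
    rw [e] at h5
    calc w * w = w * w⁻¹ := by rw [h5]
      _ = 1 := mul_inv_cancel w
  -- (5) x commutes with w
  have h5 : x * w = w * x := by
    have hxx := hK x hx x hx hxc hxc
    -- c(x x) = 1 → w x w x⁻¹ = 1
    have e : t * (x * x) * t⁻¹ * (x * x)⁻¹ = w * (x * w * x⁻¹) := by
      rw [hw]; group
    have e2 : t * (x * x) * t⁻¹ * (x * x)⁻¹ = 1 := by rw [hxx]; group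
    rw [e2] at e
    have e3 : x * w * x⁻¹ = w⁻¹ := by
      have := e.symm
      exact (eq_inv_of_mul_eq_one_right this)
    have e4 : w⁻¹ = w := inv_eq_of_mul_eq_one_right h4
    rw [e4] at e3
    calc x * w = (x * w * x⁻¹) * x := by group
      _ = w * x := by rw [e3]
  -- conclude
  have hfin : w * y = y * w := by
    by_cases hyc : t * y = y * t
    · exact (h3 y hy hyc).symm
    · have hyx : t * (y * x⁻¹) = (y * x⁻¹) * t := hK y hy x⁻¹ (Q.inv_mem hx) hyc hxinv
      have h6 := h3 (y * x⁻¹) (Q.mul_mem hy (Q.inv_mem hx)) hyx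
      calc w * y = w * (y * x⁻¹) * x := by group
        _ = (y * x⁻¹) * w * x := by rw [← h6]
        _ = (y * x⁻¹) * (w * x) := by group
        _ = (y * x⁻¹) * (x * w) := by rw [h5]
        _ = y * w := by group
  exact hfin




theorem final [Finite G] (Q : Subgroup G)
    (hQ : Cfsg.IsExtraspecial 2 ↥Q) (t : G) (ht : orderOf t = 2) (htN : t ∈ Subgroup.normalizer (Q : Set G))
    (hi : (Subgroup.centralizer ({t} : Set G) ⊓ Q).relIndex Q ≤ 2) :
    t ∈ Q ⊔ Subgroup.centralizer (Q : Set G) := by
  have ht2 : t * t = 1 := by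
    have := pow_orderOf_eq_one t
    rwa [ht, pow_two] at this
  set C := Subgroup.centralizer ({t} : Set G) ⊓ Q with hC
  have hmemC : ∀ x ∈ Q, x ∈ C ↔ t * x = x * t := by
    intro x hx
    rw [hC, Subgroup.mem_inf, Subgroup.mem_centralizer_iff]
    constructor
    · rintro ⟨h, -⟩
      exact h t rfl
    · intro h
      refine ⟨?_, hx⟩
      intro s hs
      rw [Set.mem_singleton_iff] at hs
      rw [hs]; exact h
  have hK : ∀ x ∈ Q, ∀ y ∈ Q, ¬ (t * x = x * t) → ¬ (t * y = y * t) →
      t * (x * y) = (x * y) * t := by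
    intro x hx y hy hxc hyc
    have h0 : C.relIndex Q ≠ 0 := by
      have : (C.subgroupOf Q).index ≠ 0 := Subgroup.index_ne_zero_of_finite
      exact this
    have h12 : C.relIndex Q = 1 ∨ C.relIndex Q = 2 := by omega
    rcases h12 with h1 | h2
    · exfalso
      rw [Subgroup.relIndex_eq_one] at h1
      exact hxc ((hmemC x hx).mp (h1 hx))
    · have h3 : (C.subgroupOf Q).index = 2 := h2
      have h4 := Subgroup.mul_mem_iff_of_index_two h3 (a := (⟨x, hx⟩ : Q)) (b := ⟨y, hy⟩)
      have h5 : (⟨x, hx⟩ : Q) * ⟨y, hy⟩ ∈ C.subgroupOf Q := by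
        rw [h4]
        simp only [Subgroup.mem_subgroupOf]
        constructor
        · intro h; exact (hxc ((hmemC x hx).mp h)).elim
        · intro h; exact (hyc ((hmemC y hy).mp h)).elim
      rw [Subgroup.mem_subgroupOf] at h5
      exact (hmemC (x * y) (Q.mul_mem hx hy)).mp h5
  have hφ : ∀ x : Q, conjAut Q t htN x * x⁻¹ ∈ Subgroup.center Q := by
    intro x
    rw [Subgroup.mem_center_iff]
    intro y
    apply Subtype.ext
    simp only [Subgroup.coe_mul, conjAut_apply, Subgroup.coe_inv]
    exact (comm_central Q t ht2 htN hK x x.2 y y.2).symm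
  obtain ⟨g, hg⟩ := inner_of_trivial_mod_center hQ (conjAut Q t htN) hφ
  have hg' : ∀ x ∈ Q, t * x * t⁻¹ = g * x * (g : G)⁻¹ := by
    intro x hx
    have := congrArg Subtype.val (hg ⟨x, hx⟩)
    simpa [conjAut_apply] using this
  have hcent : (g : G)⁻¹ * t ∈ Subgroup.centralizer (Q : Set G) := by
    rw [Subgroup.mem_centralizer_iff]
    intro x hx
    have h1 := hg' x hx
    have h2 : x * ((g : G)⁻¹ * t) = (g : G)⁻¹ * (g * x * (g : G)⁻¹) * t := by group
    rw [h2, ← h1]; group
  have : t = (g : G) * ((g : G)⁻¹ * t) := by group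
  rw [this]
  exact Subgroup.mul_mem_sup g.2 hcent





/-- Let Q be an extraspecial 2-subgroup of the finite group G (special with centre of order 2) and t an involution of G normalizing Q such that the centralizer of t in Q has index at most 2 in Q. Then t lies in the product of Q with the centralizer of Q. -/
theorem result {G : Type*} [Group G] [Finite G] (Q : Subgroup G)
    (hQ : Cfsg.IsExtraspecial 2 ↥Q) (t : G) (ht : orderOf t = 2) (htN : t ∈ Subgroup.normalizer (Q : Set G))
    (hi : (Subgroup.centralizer ({t} : Set G) ⊓ Q).relIndex Q ≤ 2) :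
    t ∈ Q ⊔ Subgroup.centralizer (Q : Set G) := by
  exact final Q hQ t ht htN hi

end Cfsg.Agent.S1756
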