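import Mathlib
import Cfsg.Statements.S1757

set_option autoImplicit false
open Cfsg

namespace Cfsg.Agent.S1757

/-- Let p be a prime and A, B p-subgroups of the finite group G, each of which meets every conjugate of itself other than itself trivially. Suppose the order of A is at most that of B, A and B intersect trivially, and B normalizes A. Then A and B commute elementwise. -/
theorem result {G : Type*} [Group G] [Finite G] (p : ℕ) [Fact p.Prime] (A B : Subgroup G)
    (hA : IsPGroup p ↥A) (hB : IsPGroup p ↥B)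
    (hAti : ∀ g : G, A.map (MulAut.conj g).toMonoidHom = A ∨ A.map (MulAut.conj g).toMonoidHom ⊓ A = ⊥)
    (hBti : ∀ g : G, B.map (MulAut.conj g).toMonoidHom = B ∨ B.map (MulAut.conj g).toMonoidHom ⊓ B = ⊥)
    (hle : Nat.card ↥A ≤ Nat.card ↥B) (hAB : A ⊓ B = ⊥) (hN : B ≤ Subgroup.normalizer (A : Set G)) : ⁅A, B⁆ = ⊥ := by
  classical
  -- B normalises A elementwise
  have hnorm : ∀ b ∈ B, ∀ a ∈ A, b * a * b⁻¹ ∈ A := by
    intro b hb a ha
    exact (Subgroup.mem_normalizer_iff.mp (hN hb) a).mp ha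
  -- Claim 1
  have claim1 : ∀ a ∈ A, (∃ b ∈ B, b ≠ 1 ∧ b * a = a * b) → ∀ b' ∈ B, b' * a = a * b' := by
    rintro a ha ⟨b, hb, hb1, hba⟩ b' hb'
    have hmem : b ∈ B.map (MulAut.conj a).toMonoidHom ⊓ B := by
      refine ⟨⟨b, hb, ?_⟩, hb⟩
      show a * b * a⁻¹ = b
      rw [← hba, mul_inv_cancel_right]
    have hBa : B.map (MulAut.conj a).toMonoidHom = B := by
      rcases hBti a with h | h
      · exact h
      · exfalso
        rw [h, Subgroup.mem_bot] at hmem
        exact hb1 hmem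
    have h1 : a * b' * a⁻¹ ∈ B := by
      rw [← hBa]
      exact ⟨b', hb', rfl⟩
    have h2 : a * b' * a⁻¹ * b'⁻¹ ∈ B := mul_mem h1 (inv_mem hb')
    have h3 : a * b' * a⁻¹ * b'⁻¹ ∈ A := by
      have := mul_mem ha (hnorm b' hb' a⁻¹ (inv_mem ha))
      have e : a * (b' * a⁻¹ * b'⁻¹) = a * b' * a⁻¹ * b'⁻¹ := by group
      rwa [e] at this
    have h4 : a * b' * a⁻¹ * b'⁻¹ ∈ A ⊓ B := ⟨h3, h2⟩
    rw [hAB, Subgroup.mem_bot] at h4
    have h5 : a * b' = b' * a := by
      have : a * b' = (a * b' * a⁻¹ * b'⁻¹) * (b' * a) := by group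
      rw [this, h4, one_mul]
    exact h5.symm
  rw [Subgroup.commutator_eq_bot_iff_le_centralizer]
  intro a₀ ha₀
  rw [Subgroup.mem_centralizer_iff]
  by_contra hcon
  push Not at hcon
  obtain ⟨b₀, hb₀, hne⟩ := hcon
  -- no nontrivial element of B commutes with a₀
  have hfree : ∀ b ∈ B, b * a₀ = a₀ * b → b = 1 := by
    intro b hb hba
    by_contra hb1
    exact hne (claim1 a₀ ha₀ ⟨b, hb, hb1, hba⟩ b₀ hb₀)
  have ha₀1 : a₀ ≠ 1 := by
    rintro rfl
    exact hne (by simp)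
  -- injective map B → A missing 1
  let f : B → A := fun b => ⟨(b : G) * a₀ * (b : G)⁻¹, hnorm b b.2 a₀ ha₀⟩
  have hf : Function.Injective f := by
    intro b b' h
    have h' : (b : G) * a₀ * (b : G)⁻¹ = (b' : G) * a₀ * (b' : G)⁻¹ := congrArg Subtype.val h
    have h1 : ((b' : G)⁻¹ * (b : G)) * a₀ = a₀ * ((b' : G)⁻¹ * (b : G)) := by
      have : (b' : G)⁻¹ * ((b : G) * a₀ * (b : G)⁻¹) * (b : G) = (b' : G)⁻¹ * ((b' : G) * a₀ * (b' : G)⁻¹) * (b : G) := by
        rw [h']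
      calc ((b' : G)⁻¹ * (b : G)) * a₀ = (b' : G)⁻¹ * ((b : G) * a₀ * (b : G)⁻¹) * (b : G) := by group
        _ = (b' : G)⁻¹ * ((b' : G) * a₀ * (b' : G)⁻¹) * (b : G) := this
        _ = a₀ * ((b' : G)⁻¹ * (b : G)) := by group
    have h2 := hfree _ (mul_mem (inv_mem b'.2) b.2) h1
    apply Subtype.ext
    have : (b : G) = (b' : G) * ((b' : G)⁻¹ * (b : G)) := by group
    rw [this, h2, mul_one]
  have hnot : (1 : A) ∉ Set.range f := by
    rintro ⟨b, hb⟩
    have h' : (b : G) * a₀ * (b : G)⁻¹ = 1 := congrArg Subtype.val hb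
    apply ha₀1
    have : a₀ = (b : G)⁻¹ * ((b : G) * a₀ * (b : G)⁻¹) * (b : G) := by group
    rw [this, h', mul_one, inv_mul_cancel]
  have : Fintype A := Fintype.ofFinite A
  have : Fintype B := Fintype.ofFinite B
  have hlt := Fintype.card_lt_of_injective_of_notMem f hf hnot
  rw [← Nat.card_eq_fintype_card, ← Nat.card_eq_fintype_card] at hlt
  omega

end Cfsg.Agent.S1757
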