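import Cfsg.Statements.S1775
import Cfsg.Agent.Lib.Helper9.TCLU1
import Cfsg.Agent.Lib.Helper4.TCLU2
import Cfsg.Agent.Lib.Helper8.TCLU3
import Cfsg.Agent.Lib.Helper7.TCLU4
import Cfsg.Agent.Lib.Helper8.TCLU8
import Cfsg.Agent.Lib.Helper3.TCLU10
import Cfsg.Agent.Lib.Helper1.TCLU9
import Cfsg.Agent.Lib.Helper7.BB1
import Cfsg.Agent.Lib.Helper2.Components2

set_option autoImplicit false
open Cfsg

namespace Cfsg.Agent.S1775

/-- Let G be a finite group whose generalized Fitting subgroup is a non-abelian simple group and in which every proper section has the B-property; see the frozen statement. -/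
theorem result {G : Type*} [Group G] [Finite G]
    (hF : IsSimpleGroup ↥(Cfsg.generalizedFittingSubgroup G)) (hF' : ¬ IsMulCommutative ↥(Cfsg.generalizedFittingSubgroup G))
    (hsec : ∀ (H : Subgroup G) (N : Subgroup ↥H) [N.Normal], (H ≠ ⊤ ∨ N ≠ ⊥) → Cfsg.HasBProperty (↥H ⧸ N))
    (x y : G) (hx : orderOf x = 2) (hy : orderOf y = 2) (hxy : x * y = y * x)
    (J : Subgroup ↥((Cfsg.pLayer 2 ↥(Subgroup.centralizer ({x} : Set G))).map (Subgroup.centralizer ({x} : Set G)).subtype ⊓ Subgroup.centralizer ({y} : Set G)))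
    (hJ : Cfsg.IsPComponent 2 J) :
    Cfsg.IsComponent
        ((((J.map (Subgroup.subtype _)).subgroupOf (Subgroup.centralizer ({y} : Set G))).map (QuotientGroup.mk' (Cfsg.oddCore ↥(Subgroup.centralizer ({y} : Set G))))).subgroupOf
          (Subgroup.centralizer ({(QuotientGroup.mk' (Cfsg.oddCore ↥(Subgroup.centralizer ({y} : Set G))) ⟨x, Subgroup.mem_centralizer_singleton_iff.mpr hxy⟩ : ↥(Subgroup.centralizer ({y} : Set G)) ⧸ Cfsg.oddCore ↥(Subgroup.centralizer ({y} : Set G)))} : Set _))) ∧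
      ∀ E : Subgroup G, E ≤ Subgroup.centralizer ({x} : Set G) ⊓ Subgroup.centralizer ({y} : Set G) → Odd (Nat.card ↥E) →
        (∀ j ∈ J.map (Subgroup.subtype _), ∀ e ∈ E, j * e * j⁻¹ ∈ E) →
          ⁅J.map (Subgroup.subtype _), E⁆ ≤ (Cfsg.oddCore ↥(Subgroup.centralizer ({y} : Set G))).map (Subgroup.centralizer ({y} : Set G)).subtype := by
  have hne : Subgroup.centralizer ({y} : Set G) ≠ ⊤ := Cfsg.Agent.Lib.Helper9.TCL.U1 hF hF' y hy
  have hB0 : Cfsg.HasBProperty (↥(Subgroup.centralizer ({y} : Set G)) ⧸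
      (⊥ : Subgroup ↥(Subgroup.centralizer ({y} : Set G)))) :=
    hsec (Subgroup.centralizer ({y} : Set G)) ⊥ (Or.inl hne)
  have hB : Cfsg.HasBProperty ↥(Subgroup.centralizer ({y} : Set G)) :=
    Cfsg.Agent.Lib.Helper4.TCL.U2 QuotientGroup.quotientBot hB0
  have ht : orderOf (⟨x, Subgroup.mem_centralizer_singleton_iff.mpr hxy⟩ :
      ↥(Subgroup.centralizer ({y} : Set G))) = 2 := by
    rw [Subgroup.orderOf_mk]; exact hx
  have hK := Cfsg.Agent.Lib.Helper7.TCL.U4 x y hxy J hJ
  obtain ⟨hKle, hKsub, -⟩ := (Cfsg.Agent.Lib.Helper7.BB.isPComponentOf_iff (p := 2) _ _).1 hK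
  have h3 := Cfsg.Agent.Lib.Helper8.TCL.U3 _ ht hB _ hK
  have hJ'le : J.map (Subgroup.subtype _) ≤ Subgroup.centralizer ({y} : Set G) :=
    (Subgroup.map_subtype_le J).trans inf_le_right
  refine ⟨⟨?_, ?_⟩, ?_⟩
  · exact Cfsg.Agent.Lib.Helper1.TCL.U9 _ ht _ hKle hKsub
  · have hq := Cfsg.Agent.Lib.Helper8.TCL.U8 _ _ hK h3
    have hPZ : ((J.map (Subgroup.subtype _)).subgroupOf (Subgroup.centralizer ({y} : Set G))).map
        (QuotientGroup.mk' (Cfsg.oddCore ↥(Subgroup.centralizer ({y} : Set G)))) ≤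
        Subgroup.centralizer ({(QuotientGroup.mk' (Cfsg.oddCore ↥(Subgroup.centralizer ({y} : Set G)))
          ⟨x, Subgroup.mem_centralizer_singleton_iff.mpr hxy⟩ :
            ↥(Subgroup.centralizer ({y} : Set G)) ⧸ Cfsg.oddCore ↥(Subgroup.centralizer ({y} : Set G)))} : Set _) := by
      rintro _ ⟨k, hk, rfl⟩
      have h1 := Subgroup.mem_centralizer_singleton_iff.mp (hKle hk)
      rw [Subgroup.mem_centralizer_singleton_iff, ← map_mul, ← map_mul, h1]
    exact Cfsg.Agent.Lib.Helper2.isQuasisimple_of_mulEquiv (Subgroup.subgroupOfEquivOfLe hPZ) hq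
  · intro E hE hodd hnorm
    have hECy : E ≤ Subgroup.centralizer ({y} : Set G) := hE.trans inf_le_right
    have hEC : E.subgroupOf (Subgroup.centralizer ({y} : Set G)) ≤
        Subgroup.centralizer ({(⟨x, Subgroup.mem_centralizer_singleton_iff.mpr hxy⟩ :
          ↥(Subgroup.centralizer ({y} : Set G)))} : Set ↥(Subgroup.centralizer ({y} : Set G))) := by
      intro e he
      rw [Subgroup.mem_centralizer_singleton_iff]
      apply Subtype.ext
      have h1 : (e : G) ∈ Subgroup.centralizer ({x} : Set G) :=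
        (hE (Subgroup.mem_subgroupOf.mp he)).1
      exact Subgroup.mem_centralizer_singleton_iff.mp h1
    have hodd2 : Odd (Nat.card ↥(E.subgroupOf (Subgroup.centralizer ({y} : Set G)))) := by
      rw [Nat.card_congr (Subgroup.subgroupOfEquivOfLe hECy).toEquiv]; exact hodd
    have hKE : (J.map (Subgroup.subtype _)).subgroupOf (Subgroup.centralizer ({y} : Set G)) ≤
        Subgroup.normalizer ((E.subgroupOf (Subgroup.centralizer ({y} : Set G)) :
          Subgroup ↥(Subgroup.centralizer ({y} : Set G))) : Set ↥(Subgroup.centralizer ({y} : Set G))) := by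
      intro k hk
      have hk' : (k : G) ∈ J.map (Subgroup.subtype _) := Subgroup.mem_subgroupOf.mp hk
      rw [Subgroup.mem_normalizer_iff]
      intro h
      rw [Subgroup.mem_subgroupOf, Subgroup.mem_subgroupOf]
      constructor
      · intro hh
        exact hnorm _ hk' _ hh
      · intro hh
        have h2 := hnorm _ (Subgroup.inv_mem _ hk') _ hh
        have h3 : (k : G)⁻¹ * ((k * h * k⁻¹ : ↥(Subgroup.centralizer ({y} : Set G))) : G) * (k : G)⁻¹⁻¹ = h := by
          push_cast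
          group
        rwa [h3] at h2
    have h10 := Cfsg.Agent.Lib.Helper3.TCL.U10 _ ht hB _ _ hK hEC hodd2 hKE
    have h11 := Subgroup.map_mono (f := (Subgroup.centralizer ({y} : Set G)).subtype) h10
    rw [Subgroup.map_commutator, Subgroup.map_subgroupOf_eq_of_le hJ'le,
      Subgroup.map_subgroupOf_eq_of_le hECy] at h11
    exact h11

end Cfsg.Agent.S1775
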