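import Mathlib
import Cfsg.Statements.S1780

set_option autoImplicit false
open Cfsg

namespace Cfsg.Agent.S1780

variable {A : Type*} [CommGroup A]

/-- `δ a = t a * a⁻¹` -/
def delta (t : MulAut A) : A →* A where
  toFun a := t a * a⁻¹
  map_one' := by simp
  map_mul' a b := by
    rw [map_mul, mul_inv]
    exact mul_mul_mul_comm _ _ _ _

theorem delta_apply (t : MulAut A) (a : A) : delta t a = t a * a⁻¹ := rfl

theorem t_delta (t : MulAut A) (a : A) : t (delta t a) = delta t (t a) := by
  rw [delta_apply, delta_apply, map_mul, map_inv]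

/-- fixed point lemma: a `t`-invariant nontrivial subgroup of a finite 2-group contains a
non-identity fixed point, if `t` has 2-power order. -/
theorem exists_fixed [Finite A] (hA : IsPGroup 2 A) (t : MulAut A) (k : ℕ) (ht : t ^ 2 ^ k = 1)
    (B : Subgroup A) (hB : B ≠ ⊥) (hinv : ∀ b ∈ B, t b ∈ B) :
    ∃ c ∈ B, c ≠ 1 ∧ t c = c := by
  classical
  have : Fact (Nat.Prime 2) := ⟨Nat.prime_two⟩
  have : Fintype B := Fintype.ofFinite B
  let f : Function.End B := fun b => ⟨t b, hinv b b.2⟩
  have hf : ∀ n : ℕ, ∀ b : B, (((f ^ n) b : B) : A) = (t ^ n) b := by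
    intro n
    induction n with
    | zero => intro b; rfl
    | succ n ih =>
      intro b
      rw [pow_succ', pow_succ']
      show t (((f ^ n) b : B) : A) = t ((t ^ n) b)
      rw [ih]
  have hfk : f ^ 2 ^ k = 1 := by
    funext b
    apply Subtype.ext
    rw [hf, ht]
    rfl
  have hmod := Equiv.Perm.card_fixedPoints_modEq (p := 2) (n := k) hfk
  have hBnt : Nontrivial B := (Subgroup.nontrivial_iff_ne_bot B).mpr hB
  have hBp : IsPGroup 2 B := hA.to_subgroup B
  obtain ⟨m, hm⟩ := IsPGroup.iff_card.mp hBp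
  have hm0 : m ≠ 0 := by
    intro h0
    rw [h0, pow_zero] at hm
    have := Finite.one_lt_card_iff_nontrivial.mpr hBnt
    omega
  have heven : Fintype.card B % 2 = 0 := by
    rw [← Nat.card_eq_fintype_card, hm]
    obtain ⟨m', rfl⟩ := Nat.exists_eq_succ_of_ne_zero hm0
    rw [pow_succ]; omega
  have hfix : Fintype.card (Function.fixedPoints f) % 2 = 0 := by
    rw [← heven]; exact hmod.symm
  have h1mem : (1 : B) ∈ Function.fixedPoints f := by
    show f 1 = 1
    apply Subtype.ext
    show t ((1 : B) : A) = ((1 : B) : A)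
    simp
  have hpos : 0 < Fintype.card (Function.fixedPoints f) := Fintype.card_pos_iff.mpr ⟨⟨1, h1mem⟩⟩
  have hlt : 1 < Fintype.card (Function.fixedPoints f) := by omega
  obtain ⟨c, hc⟩ := Fintype.exists_ne_of_one_lt_card hlt ⟨1, h1mem⟩
  refine ⟨((c : B) : A), (c : B).2, ?_, ?_⟩
  · intro h
    apply hc
    apply Subtype.ext
    apply Subtype.ext
    exact h
  · have := c.2
    have h' : f c = c := this
    exact congrArg Subtype.val h'

/-- Let A be a finite abelian 2-group and t an automorphism of A whose order is a power of 2. If every element of A fixed by t² is fixed by t, then t fixes every element of A. -/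
theorem result {A : Type*} [CommGroup A] [Finite A]
    (hA : IsPGroup 2 A) (t : MulAut A) (ht : ∃ k : ℕ, orderOf t = 2 ^ k) (hC : ∀ a : A, t (t a) = a → t a = a) :
    ∀ a : A, t a = a := by
  obtain ⟨k, hk⟩ := ht
  have htk : t ^ 2 ^ k = 1 := by rw [← hk]; exact pow_orderOf_eq_one t
  by_contra hcon
  push Not at hcon
  obtain ⟨a₀, ha₀⟩ := hcon
  have hB : (delta t).range ≠ ⊥ := by
    intro h
    have : delta t a₀ ∈ (delta t).range := ⟨a₀, rfl⟩
    rw [h, Subgroup.mem_bot, delta_apply, mul_inv_eq_one] at this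
    exact ha₀ this
  have hinv : ∀ b ∈ (delta t).range, t b ∈ (delta t).range := by
    rintro _ ⟨x, rfl⟩
    exact ⟨t x, (t_delta t x).symm⟩
  obtain ⟨c, ⟨y, rfl⟩, hc1, hcfix⟩ := exists_fixed hA t k htk _ hB hinv
  -- order of c
  obtain ⟨j, hj⟩ := hA (delta t y)
  -- choose minimal j
  classical
  have hex : ∃ j, (delta t y) ^ 2 ^ j = 1 := ⟨j, hj⟩
  set j₀ := Nat.find hex with hj₀
  have hj₀spec : (delta t y) ^ 2 ^ j₀ = 1 := Nat.find_spec hex
  have hj₀pos : j₀ ≠ 0 := by
    intro h0
    rw [h0, pow_zero, pow_one] at hj₀spec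
    exact hc1 hj₀spec
  obtain ⟨i, hi⟩ := Nat.exists_eq_succ_of_ne_zero hj₀pos
  have hmin : (delta t y) ^ 2 ^ i ≠ 1 := by
    have := Nat.find_min hex (m := i) (by omega)
    exact this
  set y' := y ^ 2 ^ i with hy'
  set c' := (delta t y) ^ 2 ^ i with hc'
  have hc'2 : c' * c' = 1 := by
    rw [hc', ← pow_add, ← two_mul, ← pow_succ']
    have : i + 1 = j₀ := hi.symm
    rw [this]; exact hj₀spec
  have hdy' : delta t y' = c' := by rw [hy', map_pow]
  have htc' : t c' = c' := by rw [hc', map_pow, hcfix]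
  have hty' : t y' = c' * y' := by
    rw [← hdy', delta_apply, inv_mul_cancel_right]
  have htt : t (t y') = y' := by
    rw [hty', map_mul, htc', hty', ← mul_assoc, hc'2, one_mul]
  have := hC y' htt
  rw [hty'] at this
  exact hmin (mul_eq_right.mp this)

end Cfsg.Agent.S1780
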