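import Mathlib
import Cfsg.Statements.S1781
import Cfsg.Agent.S1780
import Cfsg.Agent.S1757

set_option autoImplicit false
open Cfsg

namespace Cfsg.Agent.S1781

variable {G : Type*} [Group G]

theorem mem_map_conj (A : Subgroup G) (g x : G) :
    x ∈ A.map (MulAut.conj g).toMonoidHom ↔ g⁻¹ * x * g ∈ A := by
  constructor
  · rintro ⟨a, ha, rfl⟩
    show g⁻¹ * (g * a * g⁻¹) * g ∈ A
    have : g⁻¹ * (g * a * g⁻¹) * g = a := by group
    rw [this]; exact ha
  · intro h
    refine ⟨g⁻¹ * x * g, h, ?_⟩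
    show g * (g⁻¹ * x * g) * g⁻¹ = x
    group

/-- conjugation by a normalising element as an automorphism -/
def conjAut (B : Subgroup G) (a : G) (ha : a ∈ Subgroup.normalizer (B : Set G)) : MulAut B where
  toFun b := ⟨a * b * a⁻¹, (Subgroup.mem_normalizer_iff.mp ha b).mp b.2⟩
  invFun b := ⟨a⁻¹ * b * a, (Subgroup.mem_normalizer_iff''.mp ha b).mp b.2⟩
  left_inv b := by
    apply Subtype.ext
    show a⁻¹ * (a * (b : G) * a⁻¹) * a = b
    group
  right_inv b := by
    apply Subtype.ext
    show a * (a⁻¹ * (b : G) * a) * a⁻¹ = b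
    group
  map_mul' x y := by
    apply Subtype.ext
    show a * ((x : G) * (y : G)) * a⁻¹ = (a * x * a⁻¹) * (a * y * a⁻¹)
    group

theorem conjAut_apply (B : Subgroup G) (a : G) (ha : a ∈ Subgroup.normalizer (B : Set G)) (b : B) :
    ((conjAut B a ha b : B) : G) = a * b * a⁻¹ := rfl

theorem conjAut_pow (B : Subgroup G) (a : G) (ha : a ∈ Subgroup.normalizer (B : Set G)) (n : ℕ)
    (b : B) : (((conjAut B a ha) ^ n) b : G) = a ^ n * b * (a ^ n)⁻¹ := by
  induction n with
  | zero => simp
  | succ n ih =>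
    rw [pow_succ', MulAut.mul_apply, conjAut_apply, ih, pow_succ']
    group

open scoped IsMulCommutative in
theorem centralizes_of_sq [Finite G] (A B : Subgroup G) [IsMulCommutative B] (hA2 : IsPGroup 2 A)
    (hB2 : IsPGroup 2 B) (hAB : A ⊓ B = ⊥)
    (hti : ∀ h : G, A.map (MulAut.conj h).toMonoidHom = A ∨ A.map (MulAut.conj h).toMonoidHom ⊓ A = ⊥)
    (a : G) (haA : a ∈ A) (haN : a ∈ Subgroup.normalizer (B : Set G)) (ha2 : a ^ 2 ≠ 1) :
    ∀ b ∈ B, a * b * a⁻¹ = b := by
  have key := Cfsg.Agent.S1780.result (A := B) hB2 (conjAut B a haN) ?_ ?_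
  · intro b hb
    exact congrArg Subtype.val (key ⟨b, hb⟩)
  · -- order is a power of 2
    have hpow : (conjAut B a haN) ^ orderOf a = 1 := by
      ext b
      rw [conjAut_pow, pow_orderOf_eq_one]
      simp
    have hdvd : orderOf (conjAut B a haN) ∣ orderOf a := orderOf_dvd_of_pow_eq_one hpow
    obtain ⟨k, hk⟩ := hA2 ⟨a, haA⟩
    have hk' : a ^ 2 ^ k = 1 := by
      have := congrArg Subtype.val hk
      simpa using this
    have hdvd2 : orderOf (conjAut B a haN) ∣ 2 ^ k := hdvd.trans (orderOf_dvd_of_pow_eq_one hk')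
    obtain ⟨j, _, hj⟩ := (Nat.dvd_prime_pow Nat.prime_two).mp hdvd2
    exact ⟨j, hj⟩
  · -- fixed by square implies fixed
    intro b hb
    have hb' : a * (a * (b : G) * a⁻¹) * a⁻¹ = b := congrArg Subtype.val hb
    apply Subtype.ext
    show a * (b : G) * a⁻¹ = b
    -- a^2 commutes with b
    have h1 : (b : G) * a ^ 2 * (b : G)⁻¹ = a ^ 2 := by
      have : a ^ 2 * (b : G) = (b : G) * a ^ 2 := by
        rw [pow_two]
        calc a * a * (b : G) = (a * (a * (b : G) * a⁻¹) * a⁻¹) * (a * a) := by group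
          _ = (b : G) * (a * a) := by rw [hb']
      rw [← this]; group
    have ha2A : a ^ 2 ∈ A := pow_mem haA 2
    have hmem : a ^ 2 ∈ A.map (MulAut.conj (b : G)).toMonoidHom ⊓ A := by
      refine ⟨⟨a ^ 2, ha2A, ?_⟩, ha2A⟩
      exact h1
    have hAb : A.map (MulAut.conj (b : G)).toMonoidHom = A := by
      rcases hti b with h | h
      · exact h
      · exfalso
        rw [h, Subgroup.mem_bot] at hmem
        exact ha2 hmem
    -- b normalises A, so b a⁻¹ b⁻¹ ∈ A
    have h2 : (b : G) * a⁻¹ * (b : G)⁻¹ ∈ A := by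
      rw [← hAb]
      exact ⟨a⁻¹, inv_mem haA, rfl⟩
    have h3 : a * (b : G) * a⁻¹ * (b : G)⁻¹ ∈ A := by
      have := mul_mem haA h2
      have e : a * ((b : G) * a⁻¹ * (b : G)⁻¹) = a * (b : G) * a⁻¹ * (b : G)⁻¹ := by group
      rwa [e] at this
    have h4 : a * (b : G) * a⁻¹ * (b : G)⁻¹ ∈ B :=
      mul_mem ((Subgroup.mem_normalizer_iff.mp haN b).mp b.2) (inv_mem b.2)
    have h5 : a * (b : G) * a⁻¹ * (b : G)⁻¹ ∈ A ⊓ B := ⟨h3, h4⟩
    rw [hAB, Subgroup.mem_bot] at h5
    exact mul_inv_eq_one.mp h5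

/-- Let A be an abelian 2-subgroup of the finite group G such that every conjugate of A equals A or meets A trivially, and let g ∈ G with g A g⁻¹ ≠ A. Then either the subgroup of those elements of A that normalize g A g⁻¹ is an elementary abelian 2-group, or A and g A g⁻¹ commute elementwise. -/
theorem result {G : Type*} [Group G] [Finite G] (A : Subgroup G)
    (hA2 : IsPGroup 2 ↥A) (hAa : IsMulCommutative ↥A)
    (hti : ∀ h : G, A.map (MulAut.conj h).toMonoidHom = A ∨ A.map (MulAut.conj h).toMonoidHom ⊓ A = ⊥)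
    (g : G) (hg : A.map (MulAut.conj g).toMonoidHom ≠ A) :
    Cfsg.IsElementaryAbelian 2 (A ⊓ Subgroup.normalizer ((A.map (MulAut.conj g).toMonoidHom : Subgroup G) : Set G)) ∨
      ⁅A, A.map (MulAut.conj g).toMonoidHom⁆ = ⊥ := by
  have : Fact (Nat.Prime 2) := ⟨Nat.prime_two⟩
  set B := A.map (MulAut.conj g).toMonoidHom with hBdef
  have hinj : Function.Injective (MulAut.conj g).toMonoidHom := (MulAut.conj g).injective
  have hcommA : ∀ x ∈ A, ∀ y ∈ A, x * y = y * x := by
    intro x hx y hy
    have := mul_comm' (⟨x, hx⟩ : A) ⟨y, hy⟩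
    exact congrArg Subtype.val this
  by_cases hD : ∀ a ∈ A ⊓ Subgroup.normalizer ((B : Subgroup G) : Set G), a ^ 2 = 1
  · left
    refine ⟨⟨⟨fun x y => ?_⟩⟩, hD⟩
    apply Subtype.ext
    exact hcommA x x.2.1 y y.2.1
  · right
    push Not at hD
    obtain ⟨a, ⟨haA, haN⟩, ha2⟩ := hD
    have hB2 : IsPGroup 2 B := hA2.map _
    have hAB : A ⊓ B = ⊥ := by
      rcases hti g with h | h
      · exact absurd h hg
      · rw [inf_comm]; exact h
    have hBc : IsMulCommutative B := by
      refine ⟨⟨fun x y => ?_⟩⟩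
      obtain ⟨x', hx', hx⟩ := x.2
      obtain ⟨y', hy', hy⟩ := y.2
      apply Subtype.ext
      show (x : G) * (y : G) = (y : G) * (x : G)
      rw [← hx, ← hy, ← map_mul, ← map_mul, hcommA x' hx' y' hy']
    have hcent := centralizes_of_sq A B hA2 hB2 hAB hti a haA haN ha2
    have ha1 : a ≠ 1 := by
      rintro rfl
      exact ha2 (one_pow 2)
    -- B normalises A
    have hN : B ≤ Subgroup.normalizer (A : Set G) := by
      intro b hb
      have h1 : b * a * b⁻¹ = a := by
        have := hcent b hb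
        have hab : a * b = b * a := mul_inv_eq_iff_eq_mul.mp this
        rw [← hab]; group
      have hmem : a ∈ A.map (MulAut.conj b).toMonoidHom ⊓ A := ⟨⟨a, haA, h1⟩, haA⟩
      have hAb : A.map (MulAut.conj b).toMonoidHom = A := by
        rcases hti b with h | h
        · exact h
        · exfalso
          rw [h, Subgroup.mem_bot] at hmem
          exact ha1 hmem
      rw [Subgroup.mem_normalizer_iff]
      intro x
      constructor
      · intro hx
        rw [← hAb]
        exact ⟨x, hx, rfl⟩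
      · intro hx
        rw [← hAb] at hx
        obtain ⟨x', hx', hxx⟩ := hx
        have : x' = x := by
          have h' : b * x' * b⁻¹ = b * x * b⁻¹ := hxx
          have := mul_right_cancel h'
          exact mul_left_cancel this
        rw [← this]; exact hx'
    -- TI for B
    have hBti : ∀ h : G, B.map (MulAut.conj h).toMonoidHom = B ∨
        B.map (MulAut.conj h).toMonoidHom ⊓ B = ⊥ := by
      intro h
      have e1 : B.map (MulAut.conj h).toMonoidHom =
          (A.map (MulAut.conj (g⁻¹ * h * g)).toMonoidHom).map (MulAut.conj g).toMonoidHom := by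
        rw [hBdef, Subgroup.map_map, Subgroup.map_map]
        congr 1
        ext x
        show h * (g * x * g⁻¹) * h⁻¹ = g * ((g⁻¹ * h * g) * x * (g⁻¹ * h * g)⁻¹) * g⁻¹
        group
      rcases hti (g⁻¹ * h * g) with h1 | h1
      · left
        rw [e1, h1]
      · right
        rw [e1, hBdef, ← Subgroup.map_inf _ _ _ hinj, h1, Subgroup.map_bot]
    have hcard : Nat.card A ≤ Nat.card B := by
      rw [hBdef, Subgroup.card_map_of_injective hinj]
    exact Cfsg.Agent.S1757.result 2 A B hA2 hB2 hti hBti hcard hAB hN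

end Cfsg.Agent.S1781
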