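import Cfsg.Statements.S1782
import Mathlib
import Cfsg.Agent.Lib.Helper1.FrattiniP
-- import your own Cfsg.Agent.* helpers here

set_option autoImplicit false
open Cfsg

namespace Cfsg.Agent.S1782

open Cfsg.Agent.Lib.Helper1
universe u
variable {S : Type u} [Group S]


/-- conjugate of a subgroup -/
abbrev cj (s : S) (R : Subgroup S) : Subgroup S := R.map (MulAut.conj s).toMonoidHom

theorem mem_cj {s : S} {R : Subgroup S} {x : S} : x ∈ cj s R ↔ s⁻¹ * x * s ∈ R := by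
  constructor
  · rintro ⟨a, ha, rfl⟩
    simp only [MulEquiv.coe_toMonoidHom, MulAut.conj_apply]
    have : s⁻¹ * (s * a * s⁻¹) * s = a := by group
    rwa [this]
  · intro h
    refine ⟨s⁻¹ * x * s, h, ?_⟩
    simp only [MulEquiv.coe_toMonoidHom, MulAut.conj_apply]
    group


theorem conj_mem_cj {s : S} {R : Subgroup S} {a : S} (ha : a ∈ R) : s * a * s⁻¹ ∈ cj s R := by
  rw [mem_cj]
  have : s⁻¹ * (s * a * s⁻¹) * s = a := by group
  rwa [this]


theorem cj_mul (s t : S) (R : Subgroup S) : cj (s * t) R = cj s (cj t R) := by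
  ext x
  simp only [mem_cj]
  have : (s * t)⁻¹ * x * (s * t) = t⁻¹ * (s⁻¹ * x * s) * t := by group
  rw [this]


theorem cj_one (R : Subgroup S) : cj 1 R = R := by
  ext x
  simp [mem_cj]


/-- the stabilizer of `R` under conjugation, as a subgroup. -/
def stab (R : Subgroup S) : Subgroup S where
  carrier := {s | cj s R = R}
  one_mem' := cj_one R
  mul_mem' := by
    intro a b ha hb
    show cj (a * b) R = R
    rw [cj_mul, show cj b R = R from hb, show cj a R = R from ha]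
  inv_mem' := by
    intro a ha
    show cj a⁻¹ R = R
    have h1 : cj a⁻¹ (cj a R) = R := by rw [← cj_mul, inv_mul_cancel, cj_one]
    rw [show cj a R = R from ha] at h1
    exact h1


theorem mem_stab {R : Subgroup S} {s : S} : s ∈ stab R ↔ cj s R = R := Iff.rfl

structure Fam (Δ : Set (Subgroup S)) : Prop where
  inv : ∀ s : S, ∀ R ∈ Δ, cj s R ∈ Δ
  sq : ∀ R ∈ Δ, ∃ r ∈ R, r ^ 2 ≠ 1
  ord : ∀ R ∈ Δ, ∀ T ∈ Δ, Nat.card R = Nat.card T
  ti : ∀ R ∈ Δ, ∀ T ∈ Δ, R = T ∨ R ⊓ T = ⊥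


theorem ti_elem {Δ : Set (Subgroup S)} (hF : Fam Δ) {R T : Subgroup S} (hR : R ∈ Δ) (hT : T ∈ Δ)
    (hne : R ≠ T) {x : S} (hxR : x ∈ R) (hxT : x ∈ T) : x = 1 := by
  rcases hF.ti R hR T hT with h | h
  · exact (hne h).elim
  · have : x ∈ R ⊓ T := ⟨hxR, hxT⟩
    rw [h] at this
    exact this




theorem le_stab_self (R : Subgroup S) : R ≤ stab R := by
  intro r hr
  rw [mem_stab]
  ext x
  rw [mem_cj]
  constructor
  · intro h
    have : x = r * (r⁻¹ * x * r) * r⁻¹ := by group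
    rw [this]
    exact R.mul_mem (R.mul_mem hr h) (R.inv_mem hr)
  · intro h
    exact R.mul_mem (R.mul_mem (R.inv_mem hr) h) hr


theorem mem_stab_of_commute {R : Subgroup S} {b : S} (h : ∀ a ∈ R, a * b = b * a) : b ∈ stab R := by
  rw [mem_stab]
  ext x
  rw [mem_cj]
  constructor
  · intro hx
    have h1 := h _ hx
    have : x = b * (b⁻¹ * x * b) * b⁻¹ := by group
    rw [this, ← h1]
    have : b⁻¹ * x * b * b * b⁻¹ = b⁻¹ * x * b := by group
    rw [this]; exact hx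
  · intro hx
    have h1 := h x hx
    have : b⁻¹ * x * b = b⁻¹ * (x * b) := by group
    rw [this, h1]
    have : b⁻¹ * (b * x) = x := by group
    rw [this]; exact hx


theorem exists_pow_mem' [Finite S] (p : ℕ) [Fact p.Prime] (hP : IsPGroup p S) (A : Subgroup S) (c : S)
    (hc : c ∉ A) : ∃ j : ℕ, c ^ (p ^ j) ∉ A ∧ (c ^ (p ^ j)) ^ p ∈ A := by
  obtain ⟨k, hk⟩ := hP c
  have hex : ∃ j : ℕ, c ^ (p ^ j) ∈ A := ⟨k, by rw [hk]; exact A.one_mem⟩
  classical
  have hmin := @Nat.find_min _ _ hex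
  have hspec := Nat.find_spec hex
  set j := Nat.find hex with hj
  have hj0 : j ≠ 0 := by
    intro h0
    rw [h0] at hspec
    simp at hspec
    exact hc hspec
  obtain ⟨i, hi⟩ := Nat.exists_eq_succ_of_ne_zero hj0
  refine ⟨i, ?_, ?_⟩
  · apply hmin
    omega
  · rw [← pow_mul, ← pow_succ, ← Nat.succ_eq_add_one, ← hi]
    exact hspec


theorem stepB {Δ : Set (Subgroup S)} (hF : Fam Δ)
    (h1 : ∀ X ∈ Δ, ∀ s : S, cj s X = X ∨ ∀ a ∈ X, ∀ b ∈ cj s X, a * b = b * a)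
    {R T : Subgroup S} (hR : R ∈ Δ) (hT : T ∈ Δ) {t : S} (htT : t ∈ T)
    (htR : cj t R ≠ R) (ht2 : cj (t ^ 2) R = R) (r : S) (hr : r ∈ R) (hrT : cj r T ≠ T) :
    r ^ 2 = 1 := by
  have hR' : cj t R ∈ Δ := hF.inv t R hR
  have hcomm : ∀ a ∈ R, ∀ b ∈ cj t R, a * b = b * a := (h1 R hR t).resolve_left htR
  have hint : ∀ x, x ∈ R → x ∈ cj t R → x = 1 :=
    fun x hx hx' => ti_elem hF hR hR' (Ne.symm htR) hx hx'
  have hc := (h1 T hT r).resolve_left hrT
  have h2 : t * (r * t * r⁻¹) = (r * t * r⁻¹) * t := hc t htT _ (conj_mem_cj htT)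
  set b := t * r * t⁻¹ with hb
  set c := t ^ 2 * r * (t ^ 2)⁻¹ with hc'
  have hbR' : b ∈ cj t R := conj_mem_cj hr
  have hcR : c ∈ R := by
    have : c ∈ cj (t ^ 2) R := conj_mem_cj hr
    rwa [ht2] at this
  have h3 : t * (r * b⁻¹) * t⁻¹ = r * b⁻¹ := by
    have e1 : r * t * r⁻¹ = r * b⁻¹ * t := by rw [hb]; group
    rw [e1] at h2
    calc t * (r * b⁻¹) * t⁻¹ = (t * (r * b⁻¹ * t)) * t⁻¹ * t⁻¹ := by group
      _ = r * b⁻¹ := by rw [h2]; group
  have h4 : t * (r * b⁻¹) * t⁻¹ = b * c⁻¹ := by rw [hb, hc']; group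
  have h5 : b * c⁻¹ = r * b⁻¹ := h4.symm.trans h3
  have h6 : c⁻¹ * b = b * c⁻¹ := hcomm c⁻¹ (R.inv_mem hcR) b hbR'
  have h7 : r⁻¹ * c⁻¹ = b⁻¹ * b⁻¹ := by
    have : c⁻¹ * b = r * b⁻¹ := h6.trans h5
    calc r⁻¹ * c⁻¹ = r⁻¹ * (c⁻¹ * b) * b⁻¹ := by group
      _ = b⁻¹ * b⁻¹ := by rw [this]; group
  have h8 : b⁻¹ * b⁻¹ = 1 := by
    apply hint
    · rw [← h7]; exact R.mul_mem (R.inv_mem hr) (R.inv_mem hcR)
    · exact Subgroup.mul_mem _ (Subgroup.inv_mem _ hbR') (Subgroup.inv_mem _ hbR')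
  have h9 : b * b = 1 := by
    have : (b * b)⁻¹ = 1 := by rw [mul_inv_rev]; exact h8
    exact inv_eq_one.mp this
  have h10 : t * (r * r) * t⁻¹ = 1 := by
    rw [← h9, hb]; group
  have h11 : r * r = t⁻¹ * (t * (r * r) * t⁻¹) * t := by group
  rw [pow_two, h11, h10]; group




theorem stepD [Finite S] {Δ : Set (Subgroup S)} (hF : Fam Δ)
    (h1 : ∀ X ∈ Δ, ∀ s : S, cj s X = X ∨ ∀ a ∈ X, ∀ b ∈ cj s X, a * b = b * a)
    {R T : Subgroup S} (hR : R ∈ Δ) (hT : T ∈ Δ) {t : S} (htT : t ∈ T)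
    (htR : cj t R ≠ R) : ∃ r ∈ R, cj r T ≠ T := by
  by_contra hcon
  push Not at hcon
  have hR' : cj t R ∈ Δ := hF.inv t R hR
  have hcomm : ∀ a ∈ R, ∀ b ∈ cj t R, a * b = b * a := (h1 R hR t).resolve_left htR
  have hint : ∀ x, x ∈ R → x ∈ cj t R → x = 1 :=
    fun x hx hx' => ti_elem hF hR hR' (Ne.symm htR) hx hx'
  have hRstab : R ≤ stab T := fun r hr => hcon r hr
  have hy : ∀ r : R, (r : S)⁻¹ * (t * r * t⁻¹) ∈ T := by
    intro r
    have h2 : (r : S)⁻¹ ∈ stab T := (stab T).inv_mem (hRstab r.2)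
    have h3 : (r : S)⁻¹ * t * (r : S)⁻¹⁻¹ ∈ cj (r : S)⁻¹ T := conj_mem_cj htT
    rw [mem_stab.mp h2, inv_inv] at h3
    have h4 : (r : S)⁻¹ * (t * r * t⁻¹) = ((r : S)⁻¹ * t * r) * t⁻¹ := by group
    rw [h4]
    exact T.mul_mem h3 (T.inv_mem htT)
  let y : R → T := fun r => ⟨(r : S)⁻¹ * (t * r * t⁻¹), hy r⟩
  have hinj : Function.Injective y := by
    intro r r' h
    have h2 : (r : S)⁻¹ * (t * r * t⁻¹) = (r' : S)⁻¹ * (t * r' * t⁻¹) := congrArg Subtype.val h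
    have h3 : (r' : S) * (r : S)⁻¹ = (t * r' * t⁻¹) * (t * r * t⁻¹)⁻¹ := by
      calc (r' : S) * (r : S)⁻¹ = r' * ((r : S)⁻¹ * (t * r * t⁻¹)) * (t * r * t⁻¹)⁻¹ := by group
        _ = (t * r' * t⁻¹) * (t * r * t⁻¹)⁻¹ := by rw [h2]; group
    have h4 : (r' : S) * (r : S)⁻¹ = 1 := by
      apply hint
      · exact R.mul_mem r'.2 (R.inv_mem r.2)
      · rw [h3]
        exact Subgroup.mul_mem _ (conj_mem_cj r'.2) (Subgroup.inv_mem _ (conj_mem_cj r.2))
    apply Subtype.ext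
    exact (mul_inv_eq_one.mp h4).symm
  have hbij : Function.Bijective y :=
    Function.Injective.bijective_of_nat_card_le hinj (le_of_eq (hF.ord T hT R hR))
  obtain ⟨r, hr⟩ := hbij.2 ⟨t, htT⟩
  have h2 : (r : S)⁻¹ * (t * r * t⁻¹) = t := congrArg Subtype.val hr
  apply htR
  rw [← mem_stab, ← h2]
  apply (stab R).mul_mem
  · exact (stab R).inv_mem (le_stab_self R r.2)
  · apply mem_stab_of_commute
    intro a ha
    exact hcomm a ha _ (conj_mem_cj r.2)


theorem key [Finite S] (hS : IsPGroup 2 S) {Δ : Set (Subgroup S)} (hF : Fam Δ)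
    (h1 : ∀ X ∈ Δ, ∀ s : S, cj s X = X ∨ ∀ a ∈ X, ∀ b ∈ cj s X, a * b = b * a)
    {R T : Subgroup S} (hR : R ∈ Δ) (hT : T ∈ Δ) : ∀ t ∈ T, cj t R = R := by
  haveI : Fact (Nat.Prime 2) := ⟨Nat.prime_two⟩
  by_contra hcon
  push Not at hcon
  obtain ⟨t', ht'T, ht'R⟩ := hcon
  have h0 : t' ∉ stab R := ht'R
  obtain ⟨j, hj1, hj2⟩ := exists_pow_mem' 2 hS (stab R) t' h0
  set t := t' ^ (2 ^ j) with ht
  have htT : t ∈ T := T.pow_mem ht'T _
  have htR : cj t R ≠ R := hj1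
  have ht2 : cj (t ^ 2) R = R := hj2
  have hR' : cj t R ∈ Δ := hF.inv t R hR
  have hcomm : ∀ a ∈ R, ∀ b ∈ cj t R, a * b = b * a := (h1 R hR t).resolve_left htR
  have hint : ∀ x, x ∈ R → x ∈ cj t R → x = 1 :=
    fun x hx hx' => ti_elem hF hR hR' (Ne.symm htR) hx hx'
  obtain ⟨r, hr, hrT⟩ := stepD hF h1 hR hT htT htR
  have hr2 : r ^ 2 = 1 := stepB hF h1 hR hT htT htR ht2 r hr hrT
  obtain ⟨r0, hr0, hr02⟩ := hF.sq R hR
  have hr0T : cj r0 T = T := by
    by_contra h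
    exact hr02 (stepB hF h1 hR hT htT htR ht2 r0 hr0 h)
  have hrr0 : (r * r0) ^ 2 = 1 := by
    apply stepB hF h1 hR hT htT htR ht2 (r * r0) (R.mul_mem hr hr0)
    rw [cj_mul, hr0T]
    exact hrT
  have hinv : r * r0 * r⁻¹ = r0⁻¹ := by
    have e1 : r⁻¹ = r := by
      rw [inv_eq_iff_mul_eq_one, ← pow_two]; exact hr2
    have e2 : r * r0 * (r * r0) = 1 := by rw [← pow_two]; exact hrr0
    rw [e1]
    calc r * r0 * r = (r * r0 * (r * r0)) * r0⁻¹ := by group
      _ = r0⁻¹ := by rw [e2, one_mul]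
  -- the involution r1
  obtain ⟨k, hk⟩ : ∃ k, orderOf r0 = 2 ^ k := by
    obtain ⟨k, hk⟩ := hS r0
    have := orderOf_dvd_of_pow_eq_one hk
    obtain ⟨m, -, hm⟩ := (Nat.dvd_prime_pow Nat.prime_two).mp this
    exact ⟨m, hm⟩
  have hk2 : 1 ≤ k := by
    by_contra hlt
    push Not at hlt
    have : k = 0 := by omega
    rw [this, pow_zero, orderOf_eq_one_iff] at hk
    apply hr02
    rw [hk]; simp
  set r1 := r0 ^ (2 ^ (k - 1)) with hr1
  have hr1R : r1 ∈ R := R.pow_mem hr0 _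
  have hr1sq : r1 ^ 2 = 1 := by
    rw [hr1, ← pow_mul, ← pow_succ]
    have : k - 1 + 1 = k := by omega
    rw [this, ← hk]
    exact pow_orderOf_eq_one r0
  have hr1ne : r1 ≠ 1 := by
    intro h
    have h1' := orderOf_dvd_of_pow_eq_one h
    rw [hk] at h1'
    have h2 := Nat.le_of_dvd (by positivity) h1'
    have h3 : 2 ^ (k - 1) < 2 ^ k := Nat.pow_lt_pow_right (by norm_num) (by omega)
    omega
  have hr1T : r1 ∈ stab T := (stab T).pow_mem (mem_stab.mpr hr0T) _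
  have hr1inv : r1⁻¹ = r1 := by
    rw [inv_eq_iff_mul_eq_one, ← pow_two]; exact hr1sq
  have hrr1 : r * r1 * r⁻¹ = r1 := by
    rw [hr1, ← conj_pow, hinv, inv_pow, ← hr1, hr1inv]
  -- the element y
  set b1 := t * r1 * t⁻¹ with hb1
  have hb1R' : b1 ∈ cj t R := conj_mem_cj hr1R
  set y := r1⁻¹ * b1 with hy
  have hyT : y ∈ T := by
    have h2 : r1⁻¹ ∈ stab T := (stab T).inv_mem hr1T
    have h3 : r1⁻¹ * t * r1⁻¹⁻¹ ∈ cj r1⁻¹ T := conj_mem_cj htT
    rw [mem_stab.mp h2, inv_inv] at h3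
    have h4 : y = (r1⁻¹ * t * r1) * t⁻¹ := by rw [hy, hb1]; group
    rw [h4]
    exact T.mul_mem h3 (T.inv_mem htT)
  have hyT' : y ∈ cj r T := by
    rw [mem_cj]
    have h2 : r * b1 = b1 * r := hcomm r hr b1 hb1R'
    have h3 : r⁻¹ * y * r = y := by
      have e0 : r⁻¹ * r1 * r = r1 := by
        calc r⁻¹ * r1 * r = r⁻¹ * (r * r1 * r⁻¹) * r := by rw [hrr1]
          _ = r1 := by group
      have e1 : r⁻¹ * r1⁻¹ * r = r1⁻¹ := by
        have : r⁻¹ * r1⁻¹ * r = (r⁻¹ * r1 * r)⁻¹ := by group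
        rw [this, e0]
      calc r⁻¹ * y * r = (r⁻¹ * r1⁻¹ * r) * (r⁻¹ * (b1 * r)) := by rw [hy]; group
        _ = r1⁻¹ * (r⁻¹ * (r * b1)) := by rw [e1, h2]
        _ = y := by rw [hy]; group
    rw [h3]; exact hyT
  have hy1 : y = 1 := ti_elem hF hT (hF.inv r T hT) (Ne.symm hrT) hyT hyT'
  have h5 : r1 = b1 := by
    have : r1⁻¹ * b1 = 1 := hy1
    exact (inv_mul_eq_one.mp this)
  apply hr1ne
  apply hint r1 hr1R
  rw [h5]; exact hb1R'




theorem card_lt_of_ne_top' [Finite S] (L : Subgroup S) (h : L ≠ ⊤) : Nat.card L < Nat.card S := by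
  have h1 := L.card_mul_index
  have h2 : L.index ≠ 1 := fun h' => h (Subgroup.index_eq_one.mp h')
  have h3 : L.index ≠ 0 := Subgroup.index_ne_zero_of_finite
  have h4 : 0 < Nat.card L := Nat.card_pos
  have h5 : 2 ≤ L.index := by omega
  nlinarith


theorem fam_sub {Δ : Set (Subgroup S)} (hF : Fam Δ) (M : Subgroup S) :
    Fam {X' : Subgroup M | X'.map M.subtype ∈ Δ} := by
  refine ⟨?_, ?_, ?_, ?_⟩
  · intro m X' hX'
    have h1 : (cj m X').map M.subtype = cj (m : S) (X'.map M.subtype) := by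
      simp only [cj, Subgroup.map_map]
      congr 1
    rw [Set.mem_setOf_eq, h1]
    exact hF.inv _ _ hX'
  · intro X' hX'
    obtain ⟨r, ⟨r', hr', rfl⟩, hr2⟩ := hF.sq _ hX'
    refine ⟨r', hr', ?_⟩
    intro h
    apply hr2
    have := congrArg Subtype.val h
    simpa using this
  · intro X' hX' Y' hY'
    have := hF.ord _ hX' _ hY'
    rwa [Subgroup.card_map_of_injective M.subtype_injective,
      Subgroup.card_map_of_injective M.subtype_injective] at this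
  · intro X' hX' Y' hY'
    rcases hF.ti _ hX' _ hY' with h | h
    · left
      exact Subgroup.map_injective M.subtype_injective h
    · right
      rw [← Subgroup.map_inf _ _ _ M.subtype_injective] at h
      exact (Subgroup.map_eq_bot_iff_of_injective _ M.subtype_injective).mp h


theorem main : ∀ (n : ℕ) (S : Type u) [Group S] [Finite S], Nat.card S = n → IsPGroup 2 S →
    ∀ Δ : Set (Subgroup S), Fam Δ → ∀ R ∈ Δ, ∀ T ∈ Δ, R ≠ T → ∀ a ∈ R, ∀ b ∈ T, a * b = b * a := by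
  intro n
  induction n using Nat.strong_induction_on with
  | _ n ih =>
    intro S _ _ hn hS Δ hF R hR T hT hne a ha b hb
    have h1 : ∀ X ∈ Δ, ∀ s : S, cj s X = X ∨ ∀ a ∈ X, ∀ b ∈ cj s X, a * b = b * a := by
      intro X hX s
      by_cases hXs : cj s X = X
      · exact Or.inl hXs
      right
      have hXtop : X ≠ ⊤ := by
        rintro rfl
        apply hXs
        exact Subgroup.map_top_of_surjective _ (MulAut.conj s).surjective
      obtain ⟨M, hM, hXM⟩ := (eq_top_or_exists_le_coatom X).resolve_left hXtop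
      haveI := hS.isNilpotent
      haveI hMn : M.Normal := Subgroup.NormalizerCondition.normal_of_coatom M Group.normalizerCondition_of_isNilpotent hM
      have hlt : Nat.card M < n := by
        rw [← hn]
        exact card_lt_of_ne_top' M hM.1
      have hcM : cj s X ≤ M := by
        intro x hx
        rw [mem_cj] at hx
        have h2 := hMn.conj_mem _ (hXM hx) s
        have : s * (s⁻¹ * x * s) * s⁻¹ = x := by group
        rwa [this] at h2
      have hFM := fam_sub hF M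
      have hX' : X.subgroupOf M ∈ {X' : Subgroup M | X'.map M.subtype ∈ Δ} := by
        rw [Set.mem_setOf_eq, Subgroup.map_subgroupOf_eq_of_le hXM]; exact hX
      have hY' : (cj s X).subgroupOf M ∈ {X' : Subgroup M | X'.map M.subtype ∈ Δ} := by
        rw [Set.mem_setOf_eq, Subgroup.map_subgroupOf_eq_of_le hcM]; exact hF.inv s X hX
      have hne' : X.subgroupOf M ≠ (cj s X).subgroupOf M := by
        intro h
        apply hXs
        have := congrArg (Subgroup.map M.subtype) h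
        rw [Subgroup.map_subgroupOf_eq_of_le hXM, Subgroup.map_subgroupOf_eq_of_le hcM] at this
        exact this.symm
      intro a ha b hb
      have := ih (Nat.card M) hlt M rfl (hS.to_subgroup M) _ hFM _ hX' _ hY' hne'
        ⟨a, hXM ha⟩ (Subgroup.mem_subgroupOf.mpr ha) ⟨b, hcM hb⟩ (Subgroup.mem_subgroupOf.mpr hb)
      exact congrArg Subtype.val this
    have hTR := key hS hF h1 hR hT
    have hRT := key hS hF h1 hT hR
    have hx : a * b * a⁻¹ * b⁻¹ = 1 := by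
      apply ti_elem hF hR hT hne
      · have h2 : b * a⁻¹ * b⁻¹ ∈ cj b R := conj_mem_cj (R.inv_mem ha)
        rw [hTR b hb] at h2
        have : a * b * a⁻¹ * b⁻¹ = a * (b * a⁻¹ * b⁻¹) := by group
        rw [this]
        exact R.mul_mem ha h2
      · have h2 : a * b * a⁻¹ ∈ cj a T := conj_mem_cj hb
        rw [hRT a ha] at h2
        exact T.mul_mem h2 (T.inv_mem hb)
    calc a * b = (a * b * a⁻¹ * b⁻¹) * (b * a) := by group
      _ = b * a := by rw [hx, one_mul]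




theorem frattini_eq_bot_of_exp_two {R : Type*} [Group R] [Finite R] (h : ∀ r : R, r ^ 2 = 1) :
    frattini R = ⊥ := by
  haveI : Fact (Nat.Prime 2) := ⟨Nat.prime_two⟩
  rw [eq_bot_iff]
  apply frattini_le_of_elementary_quotient 2 ⊥
  · rw [commutator_eq_closure, Subgroup.closure_le]
    rintro _ ⟨a, b, rfl⟩
    rw [SetLike.mem_coe, Subgroup.mem_bot, commutatorElement_eq_one_iff_mul_comm]
    have ha : a⁻¹ = a := by rw [inv_eq_iff_mul_eq_one, ← pow_two]; exact h a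
    have hb : b⁻¹ = b := by rw [inv_eq_iff_mul_eq_one, ← pow_two]; exact h b
    have hab : (a * b)⁻¹ = a * b := by rw [inv_eq_iff_mul_eq_one, ← pow_two]; exact h (a * b)
    rw [← hab, mul_inv_rev, ha, hb]
  · intro x
    rw [Subgroup.mem_bot]; exact h x


theorem final {S : Type u} [Group S] [Finite S] (hS : IsPGroup 2 S)
    (Δ : Set (Subgroup S)) (hinv : ∀ s : S, ∀ R ∈ Δ, R.map (MulAut.conj s).toMonoidHom ∈ Δ)
    (hΦ : ∀ R ∈ Δ, frattini ↥R ≠ ⊥) (hord : ∀ R ∈ Δ, ∀ T ∈ Δ, Nat.card ↥R = Nat.card ↥T)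
    (hti : ∀ R ∈ Δ, ∀ T ∈ Δ, R = T ∨ R ⊓ T = ⊥) :
    ∀ R ∈ Δ, ∀ T ∈ Δ, R ≠ T → ⁅R, T⁆ = ⊥ := by
  have hF : Fam Δ := by
    refine ⟨hinv, ?_, hord, hti⟩
    intro R hR
    by_contra hcon
    push Not at hcon
    apply hΦ R hR
    apply frattini_eq_bot_of_exp_two
    intro r
    apply Subtype.ext
    simpa using hcon r.1 r.2
  intro R hR T hT hne
  rw [Subgroup.commutator_eq_bot_iff_le_centralizer]
  intro a ha
  rw [Subgroup.mem_centralizer_iff]
  intro b hb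
  exact (main _ S rfl hS Δ hF R hR T hT hne a ha b hb).symm





/-- Let S be a finite 2-group and Δ a set of subgroups of S closed under conjugation by S, all of the same order, each with nontrivial Frattini subgroup, and such that two distinct members of Δ meet trivially. Then any two distinct members of Δ commute elementwise. -/
theorem result {S : Type*} [Group S] [Finite S] (hS : IsPGroup 2 S)
    (Δ : Set (Subgroup S)) (hinv : ∀ s : S, ∀ R ∈ Δ, R.map (MulAut.conj s).toMonoidHom ∈ Δ)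
    (hΦ : ∀ R ∈ Δ, frattini ↥R ≠ ⊥) (hord : ∀ R ∈ Δ, ∀ T ∈ Δ, Nat.card ↥R = Nat.card ↥T)
    (hti : ∀ R ∈ Δ, ∀ T ∈ Δ, R = T ∨ R ⊓ T = ⊥) :
    ∀ R ∈ Δ, ∀ T ∈ Δ, R ≠ T → ⁅R, T⁆ = ⊥ := by
  exact final hS Δ hinv hΦ hord hti

end Cfsg.Agent.S1782
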