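import Cfsg.Statements.S1783
import Mathlib
import Cfsg.Agent.S1782
import Cfsg.Agent.Lib.Helper8.FStar
import Cfsg.Agent.Lib.Helper1.FrattiniAction
import Cfsg.Agent.Lib.Helper1.FrattiniP
import Cfsg.Agent.Lib.Helper1.PCore
-- import your own Cfsg.Agent.* helpers here

set_option autoImplicit false
open Cfsg

namespace Cfsg.Agent.S1783

open Cfsg.Agent.S1782 Cfsg.Agent.Lib.Helper1
universe u
variable {X : Type u} [Group X]


theorem fam_conj [Finite X] (A : Subgroup X)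
    (hti : ∀ h : X, cj h A = A ∨ cj h A ⊓ A = ⊥) (hsq : ∃ a ∈ A, a ^ 2 ≠ 1) :
    Fam {R : Subgroup X | ∃ x : X, R = cj x A} := by
  refine ⟨?_, ?_, ?_, ?_⟩
  · rintro s R ⟨x, rfl⟩
    exact ⟨s * x, (cj_mul s x A).symm⟩
  · rintro R ⟨x, rfl⟩
    obtain ⟨a, ha, ha2⟩ := hsq
    refine ⟨x * a * x⁻¹, conj_mem_cj ha, ?_⟩
    intro h
    apply ha2
    rw [conj_pow] at h
    have : a ^ 2 = x⁻¹ * (x * a ^ 2 * x⁻¹) * x := by group
    rw [this, h]; group
  · rintro R ⟨x, rfl⟩ T ⟨y, rfl⟩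
    rw [Subgroup.card_map_of_injective (MulAut.conj x).injective,
      Subgroup.card_map_of_injective (MulAut.conj y).injective]
  · rintro R ⟨x, rfl⟩ T ⟨y, rfl⟩
    have hx : cj x A = cj y (cj (y⁻¹ * x) A) := by
      rw [← cj_mul]; congr 1; group
    rcases hti (y⁻¹ * x) with h | h
    · left
      rw [hx, h]
    · right
      rw [hx]
      have : cj y (cj (y⁻¹ * x) A) ⊓ cj y A = cj y (cj (y⁻¹ * x) A ⊓ A) :=
        (Subgroup.map_inf _ _ _ (MulAut.conj y).injective).symm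
      rw [this, h]
      exact Subgroup.map_bot _


/-- distinct conjugates of `A` inside a 2-subgroup `P` commute elementwise -/
theorem comm_of_le [Finite X] (A : Subgroup X)
    (hti : ∀ h : X, cj h A = A ∨ cj h A ⊓ A = ⊥) (hsq : ∃ a ∈ A, a ^ 2 ≠ 1)
    (P : Subgroup X) (hP : IsPGroup 2 P) (x y : X) (hx : cj x A ≤ P) (hy : cj y A ≤ P)
    (hne : cj x A ≠ cj y A) : ∀ a ∈ cj x A, ∀ b ∈ cj y A, a * b = b * a := by
  have hF := fam_conj A hti hsq
  have hFP := fam_sub hF P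
  have hX' : (cj x A).subgroupOf P ∈ {X' : Subgroup P | X'.map P.subtype ∈
      {R : Subgroup X | ∃ x : X, R = cj x A}} := by
    rw [Set.mem_setOf_eq, Subgroup.map_subgroupOf_eq_of_le hx]; exact ⟨x, rfl⟩
  have hY' : (cj y A).subgroupOf P ∈ {X' : Subgroup P | X'.map P.subtype ∈
      {R : Subgroup X | ∃ x : X, R = cj x A}} := by
    rw [Set.mem_setOf_eq, Subgroup.map_subgroupOf_eq_of_le hy]; exact ⟨y, rfl⟩
  have hne' : (cj x A).subgroupOf P ≠ (cj y A).subgroupOf P := by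
    intro h
    apply hne
    have := congrArg (Subgroup.map P.subtype) h
    rwa [Subgroup.map_subgroupOf_eq_of_le hx, Subgroup.map_subgroupOf_eq_of_le hy] at this
  intro a ha b hb
  have := main (Nat.card P) P rfl hP _ hFP _ hX' _ hY' hne'
    ⟨a, hx ha⟩ (Subgroup.mem_subgroupOf.mpr ha) ⟨b, hy hb⟩ (Subgroup.mem_subgroupOf.mpr hb)
  exact congrArg Subtype.val this




/-- the centralizer of `Q/N` -/
def centMod (Q N : Subgroup X) [hQ : Q.Normal] [hN : N.Normal] : Subgroup X where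
  carrier := {x | ∀ q ∈ Q, x * q * x⁻¹ * q⁻¹ ∈ N}
  one_mem' := by
    intro q _
    simp
  mul_mem' := by
    intro x y hx hy q hq
    have h1 := hN.conj_mem _ (hy q hq) x
    have h2 := hx q hq
    have : x * y * q * (x * y)⁻¹ * q⁻¹ = (x * (y * q * y⁻¹ * q⁻¹) * x⁻¹) * (x * q * x⁻¹ * q⁻¹) := by
      group
    rw [this]
    exact N.mul_mem h1 h2
  inv_mem' := by
    intro x hx q hq
    have hq' : x⁻¹ * q * x ∈ Q := by
      have := hQ.conj_mem q hq x⁻¹
      simpa using this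
    have h1 := hx _ hq'
    have h2 := N.inv_mem h1
    have : x⁻¹ * q * x⁻¹⁻¹ * q⁻¹ = (x * (x⁻¹ * q * x) * x⁻¹ * (x⁻¹ * q * x)⁻¹)⁻¹ := by group
    rw [this]
    exact h2


theorem mem_centMod {Q N : Subgroup X} [hQ : Q.Normal] [hN : N.Normal] {x : X} :
    x ∈ centMod Q N ↔ ∀ q ∈ Q, x * q * x⁻¹ * q⁻¹ ∈ N := Iff.rfl


theorem centMod_normal (Q N : Subgroup X) [hQ : Q.Normal] [hN : N.Normal] :
    (centMod Q N).Normal := by
  constructor
  intro x hx g q hq
  have hq' : g⁻¹ * q * g ∈ Q := by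
    have := hQ.conj_mem q hq g⁻¹
    simpa using this
  have h1 := hN.conj_mem _ (hx _ hq') g
  have : g * x * g⁻¹ * q * (g * x * g⁻¹)⁻¹ * q⁻¹ =
      g * (x * (g⁻¹ * q * g) * x⁻¹ * (g⁻¹ * q * g)⁻¹) * g⁻¹ := by group
  rw [this]
  exact h1


theorem part1 [Finite X]
    (hX : Cfsg.generalizedFittingSubgroup X = Cfsg.pCore 2 X) (A : Subgroup X) (hA2 : IsPGroup 2 ↥A) (hAa : IsMulCommutative ↥A)
    (hti : ∀ h : X, A.map (MulAut.conj h).toMonoidHom = A ∨ A.map (MulAut.conj h).toMonoidHom ⊓ A = ⊥) :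
    Subgroup.closure ((fun a : X => a ^ 2) '' (A : Set X)) ≤ Cfsg.pCore 2 X := by
  haveI : Fact (Nat.Prime 2) := ⟨Nat.prime_two⟩
  set Q := Cfsg.pCore 2 X with hQdef
  haveI hQn : Q.Normal := Cfsg.Agent.Lib.Helper1.pCore_normal 2
  have hQ2 : IsPGroup 2 Q := Cfsg.Agent.Lib.Helper1.pCore_isPGroup 2
  have hAc : ∀ x ∈ A, ∀ y ∈ A, x * y = y * x := by
    intro x hx y hy
    have := hAa.is_comm.comm ⟨x, hx⟩ ⟨y, hy⟩
    exact congrArg Subtype.val this
  by_cases hsq : ∃ a ∈ A, a ^ 2 ≠ 1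
  swap
  · push Not at hsq
    rw [Subgroup.closure_le]
    rintro _ ⟨a, ha, rfl⟩
    simp only [hsq a ha]
    exact Q.one_mem
  -- the 2-group P = A Q
  set P := A ⊔ Q with hPdef
  have hP : IsPGroup 2 P := hA2.to_sup_of_normal_right hQ2
  have hAP : A ≤ P := le_sup_left
  have hQP : Q ≤ P := le_sup_right
  have hcomm_a : ∀ a ∈ A, ∀ q ∈ Q, a * (q * a * q⁻¹) = (q * a * q⁻¹) * a := by
    intro a ha q hq
    by_cases hcq : cj q A = A
    · have : q * a * q⁻¹ ∈ A := by rw [← hcq]; exact conj_mem_cj ha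
      exact hAc a ha _ this
    · have h1 : cj 1 A = A := cj_one A
      have hx : cj 1 A ≤ P := by rw [h1]; exact hAP
      have hy : cj q A ≤ P := by
        rintro _ ⟨b, hb, rfl⟩
        simp only [MulEquiv.coe_toMonoidHom, MulAut.conj_apply]
        exact P.mul_mem (P.mul_mem (hQP hq) (hAP hb)) (P.inv_mem (hQP hq))
      have hne : cj 1 A ≠ cj q A := by rw [h1]; exact fun h => hcq h.symm
      exact comm_of_le A hti hsq P hP 1 q hx hy hne a (by rw [h1]; exact ha) _ (conj_mem_cj ha)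
  -- N = Φ(Q) inside X
  set N := (frattini Q).map Q.subtype with hNdef
  haveI hNn : N.Normal := by
    have := normalizer_le_normalizer_map_characteristic Q (frattini Q)
    rw [Subgroup.normalizer_eq_top] at this
    exact Subgroup.normalizer_eq_top_iff.mp (top_le_iff.mp this)
  set K := centMod Q N with hKdef
  haveI hKn : K.Normal := centMod_normal Q N
  -- K is a 2-group
  have hK2 : IsPGroup 2 K := by
    intro x
    obtain ⟨k, m, hm, hkm⟩ := Nat.exists_eq_two_pow_mul_odd (n := orderOf (x : X))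
      (orderOf_pos (x : X)).ne'
    set y := (x : X) ^ (2 ^ k) with hy
    have hyK : y ∈ K := K.pow_mem x.2 _
    have hyo : orderOf y = m := by
      rw [hy, orderOf_pow_of_dvd (by positivity) (by rw [hkm]; exact dvd_mul_right _ _), hkm,
        Nat.mul_div_cancel_left _ (by positivity)]
    have hcent : Subgroup.zpowers y ≤ Subgroup.centralizer (Q : Set X) := by
      apply centralizes_of_trivial_on_frattini_quotient (Subgroup.zpowers y) Q
      · rw [Subgroup.normalizer_eq_top]; exact le_top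
      · rw [Nat.card_zpowers, hyo]
        obtain ⟨j, hj⟩ := IsPGroup.iff_card.mp (hQ2.to_subgroup (frattini Q))
        rw [hj]
        exact Nat.Coprime.pow_right _ (Nat.coprime_two_right.mpr hm)
      · intro a ha q hq
        have haK : a ∈ K := (Subgroup.zpowers_le.mpr hyK) ha
        exact haK q hq
    have hyQ : y ∈ Q := by
      have h1 : y ∈ Subgroup.centralizer (Q : Set X) := hcent (Subgroup.mem_zpowers y)
      have h2 : y ∈ Subgroup.centralizer ((Cfsg.generalizedFittingSubgroup X : Subgroup X) : Set X) := by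
        rw [hX]; exact h1
      have h3 := Cfsg.Agent.Lib.Helper8.centralizer_generalizedFittingSubgroup_le h2
      rw [hX] at h3
      exact h3
    have hy1 : y = 1 := by
      obtain ⟨j, hj⟩ := hQ2 ⟨y, hyQ⟩
      have hj' : y ^ (2 ^ j) = 1 := congrArg Subtype.val hj
      have h1 := orderOf_dvd_of_pow_eq_one hj'
      rw [hyo] at h1
      have h2 : m = 1 := by
        have hcop : Nat.Coprime m (2 ^ j) :=
          Nat.Coprime.pow_right _ (Nat.coprime_two_right.mpr hm)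
        exact Nat.Coprime.eq_one_of_dvd hcop h1
      rw [h2, orderOf_eq_one_iff] at hyo
      exact hyo
    exact ⟨k, Subtype.ext hy1⟩
  have hKQ : K ≤ Q := Cfsg.Agent.Lib.Helper1.le_pCore hKn hK2
  refine le_trans ?_ hKQ
  rw [Subgroup.closure_le]
  rintro _ ⟨a, ha, rfl⟩
  show a ^ 2 ∈ K
  intro q hq
  set u := a * q * a⁻¹ * q⁻¹ with hu
  have huQ : u ∈ Q := by
    have := hQn.conj_mem q hq a
    exact Q.mul_mem this (Q.inv_mem hq)
  have hua : a * u * a⁻¹ = u := by
    have h1 := hcomm_a a ha q hq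
    have h2 : Commute a (q * a * q⁻¹) := h1
    have h3 : Commute a (q * a * q⁻¹)⁻¹ := h2.inv_right
    have h4 : u = a * (q * a * q⁻¹)⁻¹ := by rw [hu]; group
    have h5 : Commute a u := by rw [h4]; exact (Commute.refl a).mul_right h3
    calc a * u * a⁻¹ = (u * a) * a⁻¹ := by rw [h5.eq]
      _ = u := by group
  have hsq2 : a ^ 2 * q * (a ^ 2)⁻¹ * q⁻¹ = u ^ 2 := by
    have h1 : a * q * a⁻¹ = u * q := by rw [hu]; group
    have : a ^ 2 * q * (a ^ 2)⁻¹ * q⁻¹ = a * (a * q * a⁻¹) * a⁻¹ * q⁻¹ := by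
      rw [pow_two]; group
    rw [this, h1]
    have : a * (u * q) * a⁻¹ * q⁻¹ = (a * u * a⁻¹) * (a * q * a⁻¹) * q⁻¹ := by group
    rw [this, hua, h1, pow_two]; group
  rw [hsq2]
  have h1 := pow_prime_mem_frattini_of_isPGroup 2 hQ2 (⟨u, huQ⟩ : Q)
  exact ⟨_, h1, rfl⟩




theorem cj_normal (Q : Subgroup X) [hQ : Q.Normal] (h : X) : cj h Q = Q := by
  ext x
  rw [mem_cj]
  constructor
  · intro hx
    have := hQ.conj_mem _ hx h
    have e : h * (h⁻¹ * x * h) * h⁻¹ = x := by group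
    rwa [e] at this
  · intro hx
    have := hQ.conj_mem _ hx h⁻¹
    simpa using this


theorem part2 [Finite X]
    (A : Subgroup X) (hAa : IsMulCommutative ↥A)
    (hti : ∀ h : X, A.map (MulAut.conj h).toMonoidHom = A ∨ A.map (MulAut.conj h).toMonoidHom ⊓ A = ⊥)
    (hB : Subgroup.closure ((fun a : X => a ^ 2) '' (A : Set X)) ≤ Cfsg.pCore 2 X)
    (hne : ¬ Cfsg.IsElementaryAbelian 2 (Subgroup.closure ((fun a : X => a ^ 2) '' (A : Set X)))) :
    IsMulCommutative ↥(Subgroup.normalClosure ((fun a : X => a ^ 2) '' (A : Set X))) := by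
  haveI : Fact (Nat.Prime 2) := ⟨Nat.prime_two⟩
  set Q := Cfsg.pCore 2 X with hQdef
  haveI hQn : Q.Normal := Cfsg.Agent.Lib.Helper1.pCore_normal 2
  have hQ2 : IsPGroup 2 Q := Cfsg.Agent.Lib.Helper1.pCore_isPGroup 2
  have hAc : ∀ x ∈ A, ∀ y ∈ A, x * y = y * x := by
    intro x hx y hy
    have := hAa.is_comm.comm ⟨x, hx⟩ ⟨y, hy⟩
    exact congrArg Subtype.val this
  set B := Subgroup.closure ((fun a : X => a ^ 2) '' (A : Set X)) with hBdef
  have hBA : B ≤ A := by
    rw [hBdef, Subgroup.closure_le]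
    rintro _ ⟨a, ha, rfl⟩
    exact A.pow_mem ha 2
  set A0 := A ⊓ Q with hA0
  have hBA0 : B ≤ A0 := le_inf hBA hB
  have hti0 : ∀ h : X, cj h A0 = A0 ∨ cj h A0 ⊓ A0 = ⊥ := by
    intro h
    have e : cj h A0 = cj h A ⊓ Q := by
      have : cj h A0 = cj h A ⊓ cj h Q := Subgroup.map_inf _ _ _ (MulAut.conj h).injective
      rw [this, cj_normal Q h]
    rcases hti h with h1 | h1
    · left
      rw [e, show cj h A = A from h1]
    · right
      rw [eq_bot_iff, ← h1, e]
      exact inf_le_inf inf_le_left inf_le_left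
  have hsq0 : ∃ a ∈ A0, a ^ 2 ≠ 1 := by
    by_contra hcon
    push Not at hcon
    apply hne
    refine ⟨⟨⟨fun x y => Subtype.ext (hAc x (hBA x.2) y (hBA y.2))⟩⟩, ?_⟩
    intro b hb
    exact hcon b (hBA0 hb)
  have hcjQ : ∀ x : X, cj x A0 ≤ Q := by
    intro x
    have : cj x A0 ≤ cj x Q := Subgroup.map_mono inf_le_right
    rwa [cj_normal Q x] at this
  unfold Subgroup.normalClosure
  apply Subgroup.isMulCommutative_closure
  intro u hu v hv
  rw [Group.mem_conjugatesOfSet_iff] at hu hv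
  obtain ⟨_, ⟨a, ha, rfl⟩, hau⟩ := hu
  obtain ⟨_, ⟨a', ha', rfl⟩, hav⟩ := hv
  rw [isConj_iff] at hau hav
  obtain ⟨x, rfl⟩ := hau
  obtain ⟨y, rfl⟩ := hav
  have haA0 : a ^ 2 ∈ A0 := hBA0 (Subgroup.subset_closure ⟨a, ha, rfl⟩)
  have ha'A0 : a' ^ 2 ∈ A0 := hBA0 (Subgroup.subset_closure ⟨a', ha', rfl⟩)
  by_cases hxy : cj x A0 = cj y A0
  · have h1 : y * a' ^ 2 * y⁻¹ ∈ cj x A0 := by rw [hxy]; exact conj_mem_cj ha'A0
    rw [mem_cj] at h1
    have h2 := hAc _ (Subgroup.mem_inf.mp haA0).1 _ (Subgroup.mem_inf.mp h1).1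
    calc x * a ^ 2 * x⁻¹ * (y * a' ^ 2 * y⁻¹)
        = x * (a ^ 2 * (x⁻¹ * (y * a' ^ 2 * y⁻¹) * x)) * x⁻¹ := by group
      _ = x * ((x⁻¹ * (y * a' ^ 2 * y⁻¹) * x) * a ^ 2) * x⁻¹ := by rw [h2]
      _ = y * a' ^ 2 * y⁻¹ * (x * a ^ 2 * x⁻¹) := by group
  · exact comm_of_le A0 hti0 hsq0 Q hQ2 x y (hcjQ x) (hcjQ y) hxy _ (conj_mem_cj haA0) _
      (conj_mem_cj ha'A0)


theorem final {X : Type u} [Group X] [Finite X]
    (hX : Cfsg.generalizedFittingSubgroup X = Cfsg.pCore 2 X) (A : Subgroup X) (hA2 : IsPGroup 2 ↥A) (hAa : IsMulCommutative ↥A)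
    (hti : ∀ h : X, A.map (MulAut.conj h).toMonoidHom = A ∨ A.map (MulAut.conj h).toMonoidHom ⊓ A = ⊥) :
    Subgroup.closure ((fun a : X => a ^ 2) '' (A : Set X)) ≤ Cfsg.pCore 2 X ∧
      (¬ Cfsg.IsElementaryAbelian 2 (Subgroup.closure ((fun a : X => a ^ 2) '' (A : Set X))) →
        IsMulCommutative ↥(Subgroup.normalClosure ((fun a : X => a ^ 2) '' (A : Set X)))) := by
  have h1 := part1 hX A hA2 hAa hti
  exact ⟨h1, fun hne => part2 A hAa hti h1 hne⟩





/-- Let X be a finite group whose generalized Fitting subgroup equals its largest normal 2-subgroup Q, and let A be an abelian 2-subgroup of X such that every conjugate of A equals A or meets A trivially. Let B be the subgroup generated by the squares of the elements of A. Then B lies in Q, and if B is not an elementary abelian 2-group then the normal closure of B in X is commutative. -/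
theorem result {X : Type*} [Group X] [Finite X]
    (hX : Cfsg.generalizedFittingSubgroup X = Cfsg.pCore 2 X) (A : Subgroup X) (hA2 : IsPGroup 2 ↥A) (hAa : IsMulCommutative ↥A)
    (hti : ∀ h : X, A.map (MulAut.conj h).toMonoidHom = A ∨ A.map (MulAut.conj h).toMonoidHom ⊓ A = ⊥) :
    Subgroup.closure ((fun a : X => a ^ 2) '' (A : Set X)) ≤ Cfsg.pCore 2 X ∧
      (¬ Cfsg.IsElementaryAbelian 2 (Subgroup.closure ((fun a : X => a ^ 2) '' (A : Set X))) →
        IsMulCommutative ↥(Subgroup.normalClosure ((fun a : X => a ^ 2) '' (A : Set X)))) := by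
  exact final hX A hA2 hAa hti

end Cfsg.Agent.S1783
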