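import Cfsg.Statements.S1784
import Cfsg.Agent.Lib.Helper2.ESDC
import Cfsg.Agent.Lib.Helper2.ExtraSp3
import Cfsg.Agent.Lib.Helper8.FStar

set_option autoImplicit false
open Cfsg

namespace Cfsg.Agent.S1784

open Cfsg.Agent.Lib.Helper4.ES2 Cfsg.Agent.Lib.Helper2.ESDC Cfsg.Agent.Lib.Helper2.ExtraSp

theorem core {G : Type*} [Group G] [Finite G] (z : G) (hz : orderOf z = 2) (C : Subgroup G)
    (hC : C = Subgroup.centralizer ({z} : Set G))
    (hE : Cfsg.IsExtraspecial 2 ↥(Cfsg.generalizedFittingSubgroup ↥C))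
    (α : G) (hα : orderOf α = 2) (hαC : α ∈ C)
    (hαQ : α ∉ (Cfsg.generalizedFittingSubgroup ↥C).map C.subtype)
    (Q₀ : Subgroup G) (hQ₀ : ∀ q : G, q ∈ Q₀ ↔ (q ∈ (Cfsg.generalizedFittingSubgroup ↥C).map C.subtype ∧
      α * q * α⁻¹ * q⁻¹ ∈ Subgroup.zpowers z)) :
    Subgroup.closure ((fun q : G => α * q * α⁻¹ * q⁻¹) ''
        ((Cfsg.generalizedFittingSubgroup ↥C).map C.subtype : Set G)) =
      (Subgroup.center ↥Q₀).map Q₀.subtype ∧
      (¬ Q₀ ≤ ((Cfsg.generalizedFittingSubgroup ↥C).map C.subtype ⊓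
          Subgroup.centralizer ({α} : Set G)) ⊔ Subgroup.zpowers z →
        ∃ q ∈ (Cfsg.generalizedFittingSubgroup ↥C).map C.subtype, q * α * q⁻¹ = α * z) := by
  obtain ⟨F, hF⟩ : ∃ F : Subgroup ↥C, F = Cfsg.generalizedFittingSubgroup ↥C := ⟨_, rfl⟩
  rw [← hF] at hE hαQ hQ₀ ⊢
  obtain ⟨Q, hQdef⟩ : ∃ Q : Subgroup G, Q = F.map C.subtype := ⟨_, rfl⟩
  rw [← hQdef] at hαQ hQ₀ ⊢
  have hQC : Q ≤ C := by rw [hQdef]; exact Subgroup.map_subtype_le F
  have hz1 : z ≠ 1 := by
    intro h1; rw [h1, orderOf_one] at hz; omega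
  have hzz : z * z = 1 := by
    have := pow_orderOf_eq_one z
    rwa [hz, pow_two] at this
  have hCcomm : ∀ c ∈ C, c * z = z * c := by
    intro c hc
    rw [hC, Subgroup.mem_centralizer_singleton_iff] at hc
    exact hc
  have hzC : z ∈ C := by
    rw [hC, Subgroup.mem_centralizer_singleton_iff]
  haveI hFn : F.Normal := by
    rw [hF]; exact Cfsg.Agent.Lib.Helper8.generalizedFittingSubgroup_normal
  have hself : Subgroup.centralizer (F : Set ↥C) ≤ F := by
    rw [hF]; exact Cfsg.Agent.Lib.Helper8.centralizer_generalizedFittingSubgroup_le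
  -- membership in `Q`
  have hmemQ : ∀ c : ↥C, c ∈ F → (c : G) ∈ Q := by
    intro c hc
    rw [hQdef]
    exact Subgroup.mem_map.mpr ⟨c, hc, rfl⟩
  have hQmem : ∀ q ∈ Q, ∃ c : ↥C, c ∈ F ∧ (c : G) = q := by
    intro q hq
    rw [hQdef] at hq
    obtain ⟨c, hc, rfl⟩ := Subgroup.mem_map.mp hq
    exact ⟨c, hc, rfl⟩
  -- `z ∈ Q`
  have hzQ : z ∈ Q := by
    have : (⟨z, hzC⟩ : ↥C) ∈ F := by
      apply hself
      rw [Subgroup.mem_centralizer_iff]
      intro f _
      apply Subtype.ext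
      show (f : G) * z = z * f
      exact hCcomm f f.2
    exact hmemQ _ this
  -- the data
  obtain ⟨z₀, hES, _⟩ := esdata_of_extraspecial (Q := F) hE
  have hES' : ESData (F.map C.subtype) (z₀ : G) := hES.map_subtype
  rw [← hQdef] at hES'
  have hz₀ : (z₀ : G) = z := by
    rcases hES'.center_sub z hzQ (fun q hq => hCcomm q (hQC hq)) with h1 | h1
    · exact absurd h1 hz1
    · exact h1.symm
  rw [hz₀] at hES'
  have hD : Data Q z :=
    ⟨hES'.zQ, hES'.z_ne, hES'.z_sq, hES'.z_comm, hES'.center_sub, hES'.comm_mem, hES'.sq_mem⟩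
  -- facts on `α`
  have hα2 : α * α = 1 := by
    have := pow_orderOf_eq_one α
    rwa [hα, pow_two] at this
  have hαz : α * z = z * α := hCcomm α hαC
  have hαnorm : ∀ q ∈ Q, α * q * α⁻¹ ∈ Q := by
    intro q hq
    obtain ⟨c, hc, rfl⟩ := hQmem q hq
    have := hFn.conj_mem c hc ⟨α, hαC⟩
    exact hmemQ _ this
  have hnc : ∃ q ∈ Q, cm α q ≠ 1 := by
    by_contra hcon
    push Not at hcon
    apply hαQ
    have : (⟨α, hαC⟩ : ↥C) ∈ F := by
      apply hself
      rw [Subgroup.mem_centralizer_iff]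
      intro f hf
      apply Subtype.ext
      show (f : G) * α = α * f
      exact (cm_eq_one_iff.mp (hcon _ (hmemQ f hf))).symm
    exact hmemQ _ this
  have hzp : ∀ v : G, v ∈ Subgroup.zpowers z ↔ (v = 1 ∨ v = z) := by
    intro v
    constructor
    · exact mem_zpowers_two hz
    · rintro (rfl | rfl)
      · exact Subgroup.one_mem _
      · exact Subgroup.mem_zpowers _
  have hQ₀' : ∀ q : G, q ∈ Q₀ ↔ (q ∈ Q ∧ (cm α q = 1 ∨ cm α q = z)) := by
    intro q
    rw [hQ₀ q, hzp]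
    rfl
  refine ⟨?_, ?_⟩
  · exact invol_comm_structure hD α hα2 hαz hαnorm hnc Q₀ hQ₀'
  · intro hnle
    obtain ⟨q, hq₀, hqn⟩ : ∃ q ∈ Q₀, q ∉ (Q ⊓ Subgroup.centralizer ({α} : Set G)) ⊔
        Subgroup.zpowers z := by
      by_contra hcon
      push Not at hcon
      exact hnle hcon
    obtain ⟨hqQ, hγ⟩ := (hQ₀' q).mp hq₀
    refine ⟨q, hqQ, ?_⟩
    rcases hγ with h1 | h1
    · exfalso
      apply hqn
      apply (le_sup_left : Q ⊓ Subgroup.centralizer ({α} : Set G) ≤ _)
      rw [Subgroup.mem_inf, Subgroup.mem_centralizer_singleton_iff]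
      exact ⟨hqQ, (cm_eq_one_iff.mp h1).symm⟩
    · -- α q α⁻¹ q⁻¹ = z
      have h2 : α * q * α⁻¹ * q⁻¹ = z := h1
      have h3 : q * α⁻¹ * q⁻¹ = α⁻¹ * z := by
        rw [← h2]; group
      have h4 : q * α * q⁻¹ = (q * α⁻¹ * q⁻¹)⁻¹ := by group
      rw [h4, h3, mul_inv_rev, inv_inv, hD.z_inv, ← hαz]

/-- Let G be a finite group and let z be an involution of G such that Q, the generalized Fitting subgroup of the centralizer C of z, is a 2-group of symplectic type (every characteristic abelian subgroup of Q is cyclic); suppose Q is extraspecial, and view Q inside G. Let α be an involution of C that is not in Q, and let Q₀ be the subgroup of those q ∈ Q whose commutator with α lies in the subgroup generated by z. Then (a) the subgroup generated by the commutators α q α⁻¹ q⁻¹, q ∈ Q, equals the centre of Q₀; and (b) if Q₀ is not contained in the product of the centralizer of α in Q with the subgroup generated by z, then some element of Q conjugates α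 to α z. -/
theorem result {G : Type*} [Group G] [Finite G] (z : G) (hz : orderOf z = 2) (hQ : Cfsg.IsOfSymplecticType ↥(Cfsg.generalizedFittingSubgroup ↥(Subgroup.centralizer ({z} : Set G)))) (hE : Cfsg.IsExtraspecial 2 ↥(Cfsg.generalizedFittingSubgroup ↥(Subgroup.centralizer ({z} : Set G))))
    (α : G) (hα : orderOf α = 2) (hαC : α ∈ Subgroup.centralizer ({z} : Set G)) (hαQ : α ∉ (Cfsg.generalizedFittingSubgroup ↥(Subgroup.centralizer ({z} : Set G))).map (Subgroup.centralizer ({z} : Set G)).subtype)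
    (Q₀ : Subgroup G) (hQ₀ : ∀ q : G, q ∈ Q₀ ↔ (q ∈ (Cfsg.generalizedFittingSubgroup ↥(Subgroup.centralizer ({z} : Set G))).map (Subgroup.centralizer ({z} : Set G)).subtype ∧ α * q * α⁻¹ * q⁻¹ ∈ Subgroup.zpowers z)) :
    Subgroup.closure ((fun q : G => α * q * α⁻¹ * q⁻¹) '' ((Cfsg.generalizedFittingSubgroup ↥(Subgroup.centralizer ({z} : Set G))).map (Subgroup.centralizer ({z} : Set G)).subtype : Set G)) = (Subgroup.center ↥Q₀).map Q₀.subtype ∧
      (¬ Q₀ ≤ ((Cfsg.generalizedFittingSubgroup ↥(Subgroup.centralizer ({z} : Set G))).map (Subgroup.centralizer ({z} : Set G)).subtype ⊓ Subgroup.centralizer ({α} : Set G)) ⊔ Subgroup.zpowers z →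
        ∃ q ∈ (Cfsg.generalizedFittingSubgroup ↥(Subgroup.centralizer ({z} : Set G))).map (Subgroup.centralizer ({z} : Set G)).subtype, q * α * q⁻¹ = α * z) := by
  exact core z hz _ rfl hE α hα hαC hαQ Q₀ hQ₀

end Cfsg.Agent.S1784
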