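import Cfsg.Statements.S1785
import Mathlib
-- import your own Cfsg.Agent.* helpers here

set_option autoImplicit false
open Cfsg

namespace Cfsg.Agent.S1785

variable {X : Type*} [Group X]


/-- adjoin a commuting involution to a subgroup -/
def adj (B : Subgroup X) (a : X) (ha : a * a = 1) (hc : ∀ b ∈ B, a * b = b * a) : Subgroup X where
  carrier := {x | x ∈ B ∨ x * a ∈ B}
  one_mem' := Or.inl B.one_mem
  mul_mem' := by
    rintro x y (hx | hx) (hy | hy)
    · exact Or.inl (B.mul_mem hx hy)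
    · right
      have : x * y * a = x * (y * a) := by rw [mul_assoc]
      rw [this]; exact B.mul_mem hx hy
    · right
      have : x * y * a = (x * a) * y := by rw [mul_assoc, ← hc y hy, mul_assoc]
      rw [this]; exact B.mul_mem hx hy
    · left
      have h1 : a * y = y * a := by
        have h2 := hc (y * a) hy
        calc a * y = a * (y * a) * a := by rw [mul_assoc, mul_assoc, ha, mul_one]
          _ = y * a := by rw [h2, mul_assoc, ha, mul_one]
      have : x * y = (x * a) * (y * a) := by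
        rw [← h1, mul_assoc, ← mul_assoc a, ha, one_mul]
      rw [this]; exact B.mul_mem hx hy
  inv_mem' := by
    have hinv : a⁻¹ = a := inv_eq_of_mul_eq_one_right ha
    rintro x (hx | hx)
    · exact Or.inl (B.inv_mem hx)
    · right
      have h1 := B.inv_mem hx
      rw [mul_inv_rev, hinv] at h1
      have h2 := hc _ h1
      -- a * x⁻¹ ∈ B, commutes with a: a * (a * x⁻¹) = (a * x⁻¹) * a
      have : x⁻¹ * a = a * x⁻¹ := by
        rw [← mul_assoc, ha, one_mul] at h2
        calc x⁻¹ * a = (a * x⁻¹ * a) * a := by rw [← h2]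
          _ = a * x⁻¹ := by rw [mul_assoc, ha, mul_one]
      rw [this]; exact h1


theorem mem_adj {B : Subgroup X} {a : X} {ha : a * a = 1} {hc : ∀ b ∈ B, a * b = b * a} {x : X} :
    x ∈ adj B a ha hc ↔ x ∈ B ∨ x * a ∈ B := Iff.rfl


theorem le_adj (B : Subgroup X) (a : X) (ha : a * a = 1) (hc : ∀ b ∈ B, a * b = b * a) :
    B ≤ adj B a ha hc := fun _ hx => Or.inl hx


theorem mem_adj_self (B : Subgroup X) (a : X) (ha : a * a = 1) (hc : ∀ b ∈ B, a * b = b * a) :
    a ∈ adj B a ha hc := Or.inr (by rw [ha]; exact B.one_mem)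


theorem adj_le {B C : Subgroup X} {a : X} {ha : a * a = 1} {hc : ∀ b ∈ B, a * b = b * a}
    (hBC : B ≤ C) (haC : a ∈ C) : adj B a ha hc ≤ C := by
  rintro x (hx | hx)
  · exact hBC hx
  · have : x = (x * a) * a := by rw [mul_assoc, ha, mul_one]
    rw [this]; exact C.mul_mem (hBC hx) haC


theorem card_adj [Finite X] (B : Subgroup X) (a : X) (ha : a * a = 1) (hc : ∀ b ∈ B, a * b = b * a)
    (haB : a ∉ B) : Nat.card (adj B a ha hc) = 2 * Nat.card B := by
  have hcar : ((adj B a ha hc : Subgroup X) : Set X) = (B : Set X) ∪ (fun x => x * a) '' (B : Set X) := by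
    ext x
    simp only [SetLike.mem_coe, mem_adj, Set.mem_union, Set.mem_image]
    constructor
    · rintro (h | h)
      · exact Or.inl h
      · exact Or.inr ⟨x * a, h, by rw [mul_assoc, ha, mul_one]⟩
    · rintro (h | ⟨b, hb, rfl⟩)
      · exact Or.inl h
      · right; rw [mul_assoc, ha, mul_one]; exact hb
  have hdisj : Disjoint (B : Set X) ((fun x => x * a) '' (B : Set X)) := by
    rw [Set.disjoint_left]
    rintro x hx ⟨b, hb, rfl⟩
    apply haB
    have : a = b⁻¹ * (b * a) := by group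
    rw [this]; exact B.mul_mem (B.inv_mem hb) hx
  have e0 : Nat.card (adj B a ha hc) = Set.ncard ((adj B a ha hc : Subgroup X) : Set X) :=
    (Nat.card_coe_set_eq _)
  have e1 : Nat.card B = Set.ncard (B : Set X) := (Nat.card_coe_set_eq _)
  rw [e0, hcar, Set.ncard_union_eq hdisj (Set.toFinite _) (Set.toFinite _),
    Set.ncard_image_of_injective _ (mul_left_injective a), e1]
  ring


theorem elem_adj {B : Subgroup X} {a : X} {ha : a * a = 1} {hc : ∀ b ∈ B, a * b = b * a}
    (hB : Cfsg.IsElementaryAbelian 2 B) : Cfsg.IsElementaryAbelian 2 (adj B a ha hc) := by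
  have hBc : ∀ x ∈ B, ∀ y ∈ B, x * y = y * x := by
    intro x hx y hy
    have := hB.1.is_comm.comm ⟨x, hx⟩ ⟨y, hy⟩
    exact congrArg Subtype.val this
  -- every element of adj is b or b * a with b ∈ B
  have hform : ∀ x ∈ adj B a ha hc, ∃ b ∈ B, b = x ∨ b * a = x := by
    rintro x (hx | hx)
    · exact ⟨x, hx, Or.inl rfl⟩
    · exact ⟨x * a, hx, Or.inr (by rw [mul_assoc, ha, mul_one])⟩
  have hcomm : ∀ x ∈ adj B a ha hc, ∀ y ∈ adj B a ha hc, x * y = y * x := by
    intro x hx y hy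
    obtain ⟨b, hb, hxb⟩ := hform x hx
    obtain ⟨b', hb', hyb⟩ := hform y hy
    rcases hxb with rfl | rfl <;> rcases hyb with rfl | rfl
    · exact hBc _ hb _ hb'
    · rw [← mul_assoc, hBc b hb b' hb', mul_assoc, mul_assoc, hc b hb]
    · rw [mul_assoc, hc b' hb', ← mul_assoc, hBc b hb b' hb', mul_assoc]
    · have e1 : b * a * (b' * a) = b * b' := by
        rw [mul_assoc, ← mul_assoc a, hc b' hb', mul_assoc, ha, mul_one]
      have e2 : b' * a * (b * a) = b' * b := by
        rw [mul_assoc, ← mul_assoc a, hc b hb, mul_assoc, ha, mul_one]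
      rw [e1, e2, hBc b hb b' hb']
  refine ⟨⟨⟨fun x y => Subtype.ext (hcomm x x.2 y y.2)⟩⟩, ?_⟩
  intro x hx
  obtain ⟨b, hb, rfl | rfl⟩ := hform x hx
  · exact hB.2 b hb
  · rw [pow_two, mul_assoc, ← mul_assoc a, hc b hb, mul_assoc, ha, mul_one, ← pow_two]
    exact hB.2 b hb




theorem card_fix_sq [Finite X] (F : Subgroup X) (hcomm : ∀ x ∈ F, ∀ y ∈ F, x * y = y * x)
    (hF2 : ∀ x ∈ F, x ^ 2 = 1) (u : X) (hu : u * u = 1) (hconj : ∀ x ∈ F, u * x * u ∈ F) :
    Nat.card F ≤ (Nat.card ↥(F ⊓ Subgroup.centralizer ({u} : Set X))) ^ 2 := by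
  let φ : F →* F := MonoidHom.mk' (fun x => ⟨x * (u * x * u), F.mul_mem x.2 (hconj x x.2)⟩) (by
    intro x y
    apply Subtype.ext
    simp only [Subgroup.coe_mul]
    have h1 := hcomm y y.2 (u * x * u) (hconj x x.2)
    have e1 : u * ((x : X) * y) * u = (u * x * u) * (u * y * u) := by
      have : (u * (x : X) * u) * (u * y * u) = u * x * (u * u) * y * u := by simp only [mul_assoc]
      rw [this, hu, mul_one]; simp only [mul_assoc]
    calc (x : X) * y * (u * (x * y) * u) = x * (y * (u * x * u)) * (u * y * u) := by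
          rw [e1]; simp only [mul_assoc]
      _ = x * ((u * x * u) * y) * (u * y * u) := by rw [h1]
      _ = x * (u * x * u) * (y * (u * y * u)) := by simp only [mul_assoc])
  have hφ : ∀ x : F, ((φ x : F) : X) = x * (u * x * u) := fun x => rfl
  set C := F ⊓ Subgroup.centralizer ({u} : Set X) with hC
  have hker : φ.ker.map F.subtype ≤ C := by
    rintro _ ⟨x, hx, rfl⟩
    refine Subgroup.mem_inf.mpr ⟨x.2, ?_⟩
    rw [Subgroup.mem_centralizer_iff]
    intro h hh
    rw [Set.mem_singleton_iff] at hh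
    subst hh
    rw [SetLike.mem_coe, MonoidHom.mem_ker] at hx
    have h1 : (x : X) * (h * x * h) = 1 := by
      rw [← hφ, hx]; rfl
    have h2 : (x : X) * x = 1 := by rw [← pow_two]; exact hF2 x x.2
    have h3 : h * (x : X) * h = x := by
      have := h1.trans h2.symm
      exact mul_left_cancel this
    simp only [Subgroup.subtype_apply]
    calc h * (x : X) = (h * x * h) * h := by rw [mul_assoc, mul_assoc, hu, mul_one]
      _ = x * h := by rw [h3]
  have hrange : φ.range.map F.subtype ≤ C := by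
    rintro _ ⟨_, ⟨x, rfl⟩, rfl⟩
    refine Subgroup.mem_inf.mpr ⟨(φ x).2, ?_⟩
    rw [Subgroup.mem_centralizer_iff]
    intro h hh
    rw [Set.mem_singleton_iff] at hh
    subst hh
    simp only [Subgroup.subtype_apply, hφ]
    have h1 := hcomm x x.2 (h * x * h) (hconj x x.2)
    calc h * ((x : X) * (h * x * h)) = (h * x * h * x) * h := by simp only [mul_assoc]
      _ = (x * (h * x * h)) * h := by rw [h1]
      _ = x * (h * x * (h * h)) := by simp only [mul_assoc]
      _ = x * (h * x * h) * h := by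
        rw [hu, mul_one]
        have : (x : X) * (h * x * h) * h = x * (h * x * (h * h)) := by simp only [mul_assoc]
        rw [this, hu, mul_one]
  have hc1 : Nat.card φ.ker ≤ Nat.card C := by
    rw [← Subgroup.card_map_of_injective (F.subtype_injective)]
    exact Subgroup.card_le_of_le hker
  have hc2 : Nat.card φ.range ≤ Nat.card C := by
    rw [← Subgroup.card_map_of_injective (F.subtype_injective)]
    exact Subgroup.card_le_of_le hrange
  have hc3 : Nat.card F = Nat.card φ.ker * Nat.card φ.range := by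
    rw [← Subgroup.index_ker, Subgroup.card_mul_index]
  rw [hc3, pow_two]
  exact Nat.mul_le_mul hc1 hc2


theorem lemmaG_aux [Finite X] (E : Subgroup X) [hEn : E.Normal] (hE : Cfsg.IsElementaryAbelian 2 E)
    (A : Subgroup X) (hA : Cfsg.IsElementaryAbelian 2 A) :
    ∀ n : ℕ, ∀ B : Subgroup X, B ≤ A → Nat.card A - Nat.card B = n →
      Nat.card E ^ Nat.card ↥(A ⊓ E) ≤ Nat.card ↥(E ⊓ Subgroup.centralizer (B : Set X)) ^ Nat.card B →
      Nat.card E ^ Nat.card ↥(A ⊓ E) ≤ Nat.card ↥(E ⊓ Subgroup.centralizer (A : Set X)) ^ Nat.card A := by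
  have hAc : ∀ x ∈ A, ∀ y ∈ A, x * y = y * x := by
    intro x hx y hy
    have := hA.1.is_comm.comm ⟨x, hx⟩ ⟨y, hy⟩
    exact congrArg Subtype.val this
  have hEc : ∀ x ∈ E, ∀ y ∈ E, x * y = y * x := by
    intro x hx y hy
    have := hE.1.is_comm.comm ⟨x, hx⟩ ⟨y, hy⟩
    exact congrArg Subtype.val this
  intro n
  induction n using Nat.strong_induction_on with
  | _ n ih =>
    intro B hBA hn hP
    by_cases hBeq : B = A
    · rw [hBeq] at hP; exact hP
    obtain ⟨a, haA, haB⟩ : ∃ a ∈ A, a ∉ B := by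
      by_contra hcon
      push Not at hcon
      exact hBeq (le_antisymm hBA hcon)
    have ha : a * a = 1 := by rw [← pow_two]; exact hA.2 a haA
    have hc : ∀ b ∈ B, a * b = b * a := fun b hb => hAc a haA b (hBA hb)
    have hB'A : adj B a ha hc ≤ A := adj_le hBA haA
    have hcard := card_adj B a ha hc haB
    have hle : Nat.card (adj B a ha hc) ≤ Nat.card A := Subgroup.card_le_of_le hB'A
    have hpos : 0 < Nat.card B := Nat.card_pos
    apply ih (Nat.card A - Nat.card (adj B a ha hc)) (by omega) (adj B a ha hc) hB'A rfl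
    -- P(B')
    set F := E ⊓ Subgroup.centralizer (B : Set X) with hF
    have hFsub : F ⊓ Subgroup.centralizer ({a} : Set X) ≤
        E ⊓ Subgroup.centralizer ((adj B a ha hc : Subgroup X) : Set X) := by
      intro x hx
      obtain ⟨hxF, hxa⟩ := Subgroup.mem_inf.mp hx
      obtain ⟨hxE, hxB⟩ := Subgroup.mem_inf.mp hxF
      refine Subgroup.mem_inf.mpr ⟨hxE, ?_⟩
      rw [Subgroup.mem_centralizer_iff] at hxa hxB ⊢
      have hxa' : a * x = x * a := hxa a rfl
      rintro y (hy | hy)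
      · exact hxB y hy
      · have h1 := hxB _ hy
        have : y = (y * a) * a := by rw [mul_assoc, ha, mul_one]
        rw [this, mul_assoc, hxa', ← mul_assoc, h1, mul_assoc]
    have hinvA : a⁻¹ = a := inv_eq_of_mul_eq_one_right ha
    have hsq := card_fix_sq F (fun x hx y hy => hEc x (Subgroup.mem_inf.mp hx).1 y (Subgroup.mem_inf.mp hy).1)
      (fun x hx => hE.2 x (Subgroup.mem_inf.mp hx).1) a ha (by
        intro x hx
        obtain ⟨hxE, hxB⟩ := Subgroup.mem_inf.mp hx
        refine Subgroup.mem_inf.mpr ⟨?_, ?_⟩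
        · have := hEn.conj_mem x hxE a
          rwa [hinvA] at this
        · rw [Subgroup.mem_centralizer_iff] at hxB ⊢
          intro b hb
          have h1 := hxB b hb
          have h2 := hc b hb
          calc b * (a * x * a) = (b * a) * x * a := by simp only [mul_assoc]
            _ = a * (b * x) * a := by rw [← h2]; simp only [mul_assoc]
            _ = a * x * (b * a) := by rw [h1]; simp only [mul_assoc]
            _ = a * x * a * b := by rw [← h2]; simp only [mul_assoc])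
    have hle2 := Subgroup.card_le_of_le hFsub
    calc Nat.card E ^ Nat.card ↥(A ⊓ E) ≤ Nat.card F ^ Nat.card B := hP
      _ ≤ ((Nat.card ↥(F ⊓ Subgroup.centralizer ({a} : Set X))) ^ 2) ^ Nat.card B :=
          Nat.pow_le_pow_left hsq _
      _ = (Nat.card ↥(F ⊓ Subgroup.centralizer ({a} : Set X))) ^ Nat.card (adj B a ha hc) := by
          rw [hcard, ← pow_mul]
      _ ≤ _ := Nat.pow_le_pow_left hle2 _


theorem lemmaG [Finite X] (E : Subgroup X) [hEn : E.Normal] (hE : Cfsg.IsElementaryAbelian 2 E)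
    (A : Subgroup X) (hA : Cfsg.IsElementaryAbelian 2 A) :
    Nat.card E ^ Nat.card ↥(A ⊓ E) ≤ Nat.card ↥(E ⊓ Subgroup.centralizer (A : Set X)) ^ Nat.card A := by
  apply lemmaG_aux E hE A hA _ (A ⊓ E) inf_le_left rfl
  have hEc : ∀ x ∈ E, ∀ y ∈ E, x * y = y * x := by
    intro x hx y hy
    have := hE.1.is_comm.comm ⟨x, hx⟩ ⟨y, hy⟩
    exact congrArg Subtype.val this
  have : E ≤ E ⊓ Subgroup.centralizer ((A ⊓ E : Subgroup X) : Set X) := by
    intro x hx
    refine Subgroup.mem_inf.mpr ⟨hx, ?_⟩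
    rw [Subgroup.mem_centralizer_iff]
    intro y hy
    exact hEc y (Subgroup.mem_inf.mp hy).2 x hx
  exact Nat.pow_le_pow_left (Subgroup.card_le_of_le this) _




theorem arith (w n : ℕ) (hn : n = 4 ∨ n = 8) (hw : 0 < w) (hdvd : w ∣ n) (h : 32 ^ w ≤ w ^ n) :
    False := by
  rcases hn with rfl | rfl
  · have hw4 : w ≤ 4 := Nat.le_of_dvd (by norm_num) hdvd
    interval_cases w <;> norm_num at h
  · have hw8 : w ≤ 8 := Nat.le_of_dvd (by norm_num) hdvd
    interval_cases w <;> norm_num at h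


theorem lemmaP [Finite X] (E : Subgroup X) [hEn : E.Normal] (hE : Cfsg.IsElementaryAbelian 2 E)
    (hE32 : 32 ≤ Nat.card E) (A : Subgroup X) (hA : Cfsg.IsElementaryAbelian 2 A)
    (hcard : Nat.card A = 4 ∨ Nat.card A = 8) :
    ∃ e ∈ E, e ∉ A ∧ ∀ a ∈ A, e * a = a * e := by
  by_contra hcon
  push Not at hcon
  have hG := lemmaG E hE A hA
  have hAc : ∀ x ∈ A, ∀ y ∈ A, x * y = y * x := by
    intro x hx y hy
    have := hA.1.is_comm.comm ⟨x, hx⟩ ⟨y, hy⟩
    exact congrArg Subtype.val this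
  have hle : E ⊓ Subgroup.centralizer (A : Set X) ≤ A ⊓ E := by
    intro x hx
    obtain ⟨hxE, hxA⟩ := Subgroup.mem_inf.mp hx
    rw [Subgroup.mem_centralizer_iff] at hxA
    refine Subgroup.mem_inf.mpr ⟨?_, hxE⟩
    by_contra hxnA
    obtain ⟨a, ha, hne⟩ := hcon x hxE hxnA
    exact hne (hxA a ha).symm
  have hc := Subgroup.card_le_of_le hle
  have hdvd : Nat.card ↥(A ⊓ E) ∣ Nat.card A := Subgroup.card_dvd_of_le inf_le_left
  set w := Nat.card ↥(A ⊓ E) with hw
  set c := Nat.card ↥(E ⊓ Subgroup.centralizer (A : Set X)) with hc'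
  have hwpos : 0 < w := Nat.card_pos
  have h1 : 32 ^ w ≤ w ^ Nat.card A :=
    calc 32 ^ w ≤ Nat.card E ^ w := Nat.pow_le_pow_left hE32 _
      _ ≤ c ^ Nat.card A := hG
      _ ≤ w ^ Nat.card A := Nat.pow_le_pow_left hc _
  exact arith w (Nat.card A) hcard hwpos hdvd h1


theorem partB [Finite X] (E : Subgroup X) [hEn : E.Normal] (hE : Cfsg.IsElementaryAbelian 2 E)
    (hE32 : 32 ≤ Nat.card E) (V : Subgroup X) (hV : Cfsg.IsElementaryAbelian 2 V)
    (hV4 : Nat.card V = 4) :
    ∃ A : Subgroup X, V ≤ A ∧ Cfsg.IsElementaryAbelian 2 A ∧ Nat.card ↥A = 8 := by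
  obtain ⟨e, heE, heV, hec⟩ := lemmaP E hE hE32 V hV (Or.inl hV4)
  have he : e * e = 1 := by rw [← pow_two]; exact hE.2 e heE
  refine ⟨adj V e he hec, le_adj _ _ _ _, elem_adj hV, ?_⟩
  rw [card_adj V e he hec heV, hV4]


theorem step [Finite X] (hX : IsPGroup 2 X) (E : Subgroup X) [hEn : E.Normal]
    (hE : Cfsg.IsElementaryAbelian 2 E) (hE32 : 32 ≤ Nat.card E) (A : Subgroup X)
    (hA : Cfsg.IsElementaryAbelian 2 A) (hA8 : Nat.card A = 8) (hAE : ¬ A ≤ E) :
    ∃ A' : Subgroup X, Cfsg.IsElementaryAbelian 2 A' ∧ Nat.card A' = 8 ∧ ⁅A, A'⁆ = ⊥ ∧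
      Nat.card ↥(A ⊓ E) < Nat.card ↥(A' ⊓ E) := by
  haveI : Fact (Nat.Prime 2) := ⟨Nat.prime_two⟩
  have hAc : ∀ x ∈ A, ∀ y ∈ A, x * y = y * x := by
    intro x hx y hy
    have := hA.1.is_comm.comm ⟨x, hx⟩ ⟨y, hy⟩
    exact congrArg Subtype.val this
  -- the hyperplane H
  obtain ⟨H, hH4, hWH, hHA⟩ : ∃ H : Subgroup X, Nat.card H = 4 ∧ A ⊓ E ≤ H ∧ H ≤ A := by
    set K0 := (A ⊓ E).subgroupOf A with hK0
    have hK0p : IsPGroup 2 K0 := (hX.to_subgroup A).to_subgroup K0
    obtain ⟨k, hk⟩ := IsPGroup.iff_card.mp hK0p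
    have hK0top : K0 ≠ ⊤ := by
      intro h
      rw [hK0, Subgroup.subgroupOf_eq_top] at h
      exact hAE (le_trans h inf_le_right)
    have hk2 : k ≤ 2 := by
      have h1 : Nat.card K0 < Nat.card A := by
        have h1 := K0.card_mul_index
        have h2 : K0.index ≠ 1 := fun h' => hK0top (Subgroup.index_eq_one.mp h')
        have h3 : K0.index ≠ 0 := Subgroup.index_ne_zero_of_finite
        have h4 : 0 < Nat.card K0 := Nat.card_pos
        have h5 : 2 ≤ K0.index := by omega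
        nlinarith
      rw [hk, hA8] at h1
      by_contra hlt
      push Not at hlt
      have : 2 ^ 3 ≤ 2 ^ k := Nat.pow_le_pow_right (by norm_num) hlt
      omega
    obtain ⟨K, hK4, hK0K⟩ := Sylow.exists_subgroup_card_pow_prime_le 2 (m := 2)
      (by rw [hA8]; norm_num) K0 hk hk2
    refine ⟨K.map A.subtype, ?_, ?_, ?_⟩
    · rw [Subgroup.card_map_of_injective A.subtype_injective, hK4]; norm_num
    · intro x hx
      have hxA : x ∈ A := (Subgroup.mem_inf.mp hx).1
      refine ⟨⟨x, hxA⟩, hK0K ?_, rfl⟩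
      rw [hK0, Subgroup.mem_subgroupOf]
      exact hx
    · rintro _ ⟨y, -, rfl⟩
      exact y.2
  obtain ⟨e, heE, heA, hec⟩ := lemmaP E hE hE32 A hA (Or.inr hA8)
  have he : e * e = 1 := by rw [← pow_two]; exact hE.2 e heE
  have hecH : ∀ b ∈ H, e * b = b * e := fun b hb => hec b (hHA hb)
  have heH : e ∉ H := fun h => heA (hHA h)
  have hHel : Cfsg.IsElementaryAbelian 2 H :=
    ⟨⟨⟨fun x y => Subtype.ext (hAc x (hHA x.2) y (hHA y.2))⟩⟩, fun a ha => hA.2 a (hHA ha)⟩
  refine ⟨adj H e he hecH, elem_adj hHel, ?_, ?_, ?_⟩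
  · rw [card_adj H e he hecH heH, hH4]
  · rw [Subgroup.commutator_eq_bot_iff_le_centralizer]
    intro a ha
    rw [Subgroup.mem_centralizer_iff]
    rintro y (hy | hy)
    · exact hAc y (hHA hy) a ha
    · have h1 := hAc (y * e) (hHA hy) a ha
      have h2 := hec a ha
      have : y = (y * e) * e := by rw [mul_assoc, he, mul_one]
      rw [this, mul_assoc, h2, ← mul_assoc, h1, mul_assoc]
  · have hle : A ⊓ E ≤ adj H e he hecH ⊓ E :=
      le_inf (le_trans hWH (le_adj _ _ _ _)) inf_le_right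
    by_contra hlt
    push Not at hlt
    have heq := Subgroup.eq_of_le_of_card_ge hle hlt
    have hmem : e ∈ adj H e he hecH ⊓ E := Subgroup.mem_inf.mpr ⟨mem_adj_self _ _ _ _, heE⟩
    rw [← heq] at hmem
    exact heA (Subgroup.mem_inf.mp hmem).1




/-- the relation -/
def Rel (C D : Subgroup X) : Prop :=
  Cfsg.IsElementaryAbelian 2 C ∧ Nat.card ↥C = 8 ∧ Cfsg.IsElementaryAbelian 2 D ∧ Nat.card ↥D = 8 ∧
    ⁅C, D⁆ = ⊥


theorem Rel_symm {C D : Subgroup X} (h : Rel C D) : Rel D C := by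
  obtain ⟨h1, h2, h3, h4, h5⟩ := h
  exact ⟨h3, h4, h1, h2, by rw [Subgroup.commutator_comm]; exact h5⟩


theorem rtg_symm {A B : Subgroup X} (h : Relation.ReflTransGen Rel A B) :
    Relation.ReflTransGen Rel B A := by
  induction h with
  | refl => exact Relation.ReflTransGen.refl
  | tail _ hbc ih => exact Relation.ReflTransGen.head (Rel_symm hbc) ih


theorem reach [Finite X] (hX : IsPGroup 2 X) (E : Subgroup X) [hEn : E.Normal]
    (hE : Cfsg.IsElementaryAbelian 2 E) (hE32 : 32 ≤ Nat.card E) :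
    ∀ n : ℕ, ∀ A : Subgroup X, Cfsg.IsElementaryAbelian 2 A → Nat.card A = 8 →
      8 - Nat.card ↥(A ⊓ E) = n →
      ∃ A' : Subgroup X, A' ≤ E ∧ Cfsg.IsElementaryAbelian 2 A' ∧ Nat.card A' = 8 ∧
        Relation.ReflTransGen Rel A A' := by
  intro n
  induction n using Nat.strong_induction_on with
  | _ n ih =>
    intro A hA hA8 hn
    by_cases hAE : A ≤ E
    · exact ⟨A, hAE, hA, hA8, Relation.ReflTransGen.refl⟩
    · obtain ⟨A1, hA1, hA18, hcomm, hlt⟩ := step hX E hE hE32 A hA hA8 hAE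
      have hle : Nat.card ↥(A1 ⊓ E) ≤ 8 := by
        rw [← hA18]; exact Subgroup.card_le_of_le inf_le_left
      obtain ⟨A', h1, h2, h3, h4⟩ := ih (8 - Nat.card ↥(A1 ⊓ E)) (by omega) A1 hA1 hA18 rfl
      exact ⟨A', h1, h2, h3, Relation.ReflTransGen.head ⟨hA, hA8, hA1, hA18, hcomm⟩ h4⟩


theorem final [Finite X]
    (hX : IsPGroup 2 X) (E : Subgroup X) [E.Normal] (hE : Cfsg.IsElementaryAbelian 2 E) (hE32 : 32 ≤ Nat.card ↥E) :
    (∀ A B : Subgroup X, Cfsg.IsElementaryAbelian 2 A → Nat.card ↥A = 8 → Cfsg.IsElementaryAbelian 2 B → Nat.card ↥B = 8 →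
        Relation.ReflTransGen
          (fun C D : Subgroup X => Cfsg.IsElementaryAbelian 2 C ∧ Nat.card ↥C = 8 ∧ Cfsg.IsElementaryAbelian 2 D ∧ Nat.card ↥D = 8 ∧ ⁅C, D⁆ = ⊥)
          A B) ∧
      (∀ V : Subgroup X, Cfsg.IsElementaryAbelian 2 V → Nat.card ↥V = 4 →
        ∃ A : Subgroup X, V ≤ A ∧ Cfsg.IsElementaryAbelian 2 A ∧ Nat.card ↥A = 8) := by
  refine ⟨?_, fun V hV hV4 => partB E hE hE32 V hV hV4⟩
  intro A B hA hA8 hB hB8
  obtain ⟨A', hA'E, hA', hA'8, hAA'⟩ := reach hX E hE hE32 _ A hA hA8 rfl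
  obtain ⟨B', hB'E, hB', hB'8, hBB'⟩ := reach hX E hE hE32 _ B hB hB8 rfl
  have hEc : ∀ x ∈ E, ∀ y ∈ E, x * y = y * x := by
    intro x hx y hy
    have := hE.1.is_comm.comm ⟨x, hx⟩ ⟨y, hy⟩
    exact congrArg Subtype.val this
  have hmid : Rel A' B' := by
    refine ⟨hA', hA'8, hB', hB'8, ?_⟩
    rw [Subgroup.commutator_eq_bot_iff_le_centralizer]
    intro a ha
    rw [Subgroup.mem_centralizer_iff]
    intro b hb
    exact hEc b (hB'E hb) a (hA'E ha)
  have := (hAA'.tail hmid).trans (rtg_symm hBB')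
  exact this





/-- Let X be a finite 2-group having a normal elementary abelian subgroup of order at least 32. Then (a) for any two elementary abelian subgroups A, B of X of order 8 there is a chain A = A₁, A₂, …, Aₙ = B of elementary abelian subgroups of order 8 in which consecutive members commute elementwise; and (b) every elementary abelian subgroup of X of order 4 is contained in an elementary abelian subgroup of order 8. -/
theorem result {X : Type*} [Group X] [Finite X]
    (hX : IsPGroup 2 X) (E : Subgroup X) [E.Normal] (hE : Cfsg.IsElementaryAbelian 2 E) (hE32 : 32 ≤ Nat.card ↥E) :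
    (∀ A B : Subgroup X, Cfsg.IsElementaryAbelian 2 A → Nat.card ↥A = 8 → Cfsg.IsElementaryAbelian 2 B → Nat.card ↥B = 8 →
        Relation.ReflTransGen
          (fun C D : Subgroup X => Cfsg.IsElementaryAbelian 2 C ∧ Nat.card ↥C = 8 ∧ Cfsg.IsElementaryAbelian 2 D ∧ Nat.card ↥D = 8 ∧ ⁅C, D⁆ = ⊥)
          A B) ∧
      (∀ V : Subgroup X, Cfsg.IsElementaryAbelian 2 V → Nat.card ↥V = 4 →
        ∃ A : Subgroup X, V ≤ A ∧ Cfsg.IsElementaryAbelian 2 A ∧ Nat.card ↥A = 8) := by
  exact final hX E hE hE32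

end Cfsg.Agent.S1785
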