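import Cfsg.Statements.S1850
import Mathlib
import Cfsg.Agent.Lib.Helper8.CharP3

set_option autoImplicit false
open Cfsg

namespace Cfsg.Agent.S1850

/-- Let G be a non-abelian finite simple QTKE-group and T a Sylow 2-subgroup of G. If U is a nontrivial 2-subgroup of G with U ∩ Z(T) ≠ 1, then F*(N_G(U)) = O₂(N_G(U)). -/
theorem result {G : Type*} [Group G] [Finite G] [IsSimpleGroup G]
    (hG : ¬ IsMulCommutative G) (hQ : Cfsg.IsQTKE G) (T : Sylow 2 G) (U : Subgroup G)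
    (hU : IsPGroup 2 ↥U) (hZ : U ⊓ ((T : Subgroup G) ⊓ Subgroup.centralizer ((T : Subgroup G) : Set G)) ≠ ⊥) :
    Subgroup.normalizer (U : Set G) ∈ Cfsg.calHe G := by
  classical
  haveI : Fact (Nat.Prime 2) := ⟨Nat.prime_two⟩
  -- an involution in `U ∩ Z(T)`
  obtain ⟨W, hW⟩ : ∃ W : Subgroup G, W = U ⊓ ((T : Subgroup G) ⊓
      Subgroup.centralizer ((T : Subgroup G) : Set G)) := ⟨_, rfl⟩
  rw [← hW] at hZ
  have hWU : W ≤ U := hW ▸ inf_le_left
  have hWp : IsPGroup 2 ↥W := hU.to_le hWU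
  have hdvd : 2 ∣ Nat.card ↥W := by
    rcases hWp.card_eq_or_dvd with h1 | h1
    · exact absurd (Subgroup.card_eq_one.mp h1) hZ
    · exact h1
  obtain ⟨z', hz'⟩ := exists_prime_orderOf_dvd_card' (G := ↥W) 2 hdvd
  obtain ⟨z, hzdef⟩ : ∃ z : G, z = (z' : G) := ⟨_, rfl⟩
  have hzo : orderOf z = 2 := by rw [hzdef, Subgroup.orderOf_coe]; exact hz'
  have hzW : z ∈ W := hzdef ▸ z'.2
  have hzU : z ∈ U := hWU hzW
  have hzT : z ∈ Subgroup.centralizer ((T : Subgroup G) : Set G) := by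
    rw [hW] at hzW
    exact (Subgroup.mem_inf.1 (Subgroup.mem_inf.1 hzW).2).2
  -- the 2-local `N_G(⟨z⟩)` contains `T`
  have hzp : IsPGroup 2 (Subgroup.zpowers z) := by
    apply IsPGroup.of_card (n := 1)
    rw [Nat.card_zpowers, hzo, pow_one]
  have hz1 : Subgroup.zpowers z ≠ ⊥ := by
    rw [Ne, Subgroup.zpowers_eq_bot]
    intro h
    rw [h, orderOf_one] at hzo
    exact absurd hzo (by decide)
  have hTN : (T : Subgroup G) ≤ Subgroup.normalizer ((Subgroup.zpowers z : Subgroup G) : Set G) := by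
    intro t ht
    apply (Subgroup.centralizer_le_normalizer _)
    rw [Subgroup.mem_centralizer_iff]
    intro y hy
    obtain ⟨k, rfl⟩ := Subgroup.mem_zpowers_iff.1 hy
    have h1 : z * t = t * z := Subgroup.mem_centralizer_iff.1 hzT t ht |>.symm
    exact ((Commute.zpow_left (show Commute z t from h1) k).eq)
  have h2loc : Cfsg.IsTwoLocal (Subgroup.normalizer ((Subgroup.zpowers z : Subgroup G) : Set G)) :=
    ⟨Subgroup.zpowers z, hzp, hz1, rfl⟩
  have hchar := hQ.2.2 _ h2loc ⟨T, hTN⟩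
  have hD : Cfsg.Agent.Lib.Helper7.CharPIn 2
      (Subgroup.normalizer ((Subgroup.zpowers z : Subgroup G) : Set G)) :=
    (Cfsg.Agent.Lib.Helper7.charPIn_iff 2 _).2 hchar
  have hzU' : Subgroup.zpowers z ≤ U := by rw [Subgroup.zpowers_le]; exact hzU
  have hfin := Cfsg.Agent.Lib.Helper8.charPIn_normalizer_of_le 2 hU _ (Subgroup.zpowers z) hzU' rfl hD
  exact (Cfsg.Agent.Lib.Helper8.charPIn_iff_gfs 2 _).1 hfin

end Cfsg.Agent.S1850
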