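import Cfsg.Statements.S1851
import Cfsg.Agent.Lib.Helper2.QTZ

set_option autoImplicit false
open Cfsg

namespace Cfsg.Agent.S1851

/-- Let G be a non-abelian finite simple QTKE-group and T a Sylow 2-subgroup of G, and let L be a member of ℒ_f(G, T) (a member of ℒ(G, T) that lies in 𝒳 — L ≠ 1, L = O²(L), F*(L) = O₂(L) — and acts nontrivially on Ω₁(Z(O₂(L)))). Then (1) every member K of ℒ(G, T) containing L is again in ℒ_f(G, T) (a sharper form of (1) also compares the modules [Ω₁(Z(R)), L] and [Ω₁(Z(R')), K] for suitable 2-subgroups R, R'; that comparison is not included); and (2) if L is maximal under inclusion among the members of ℒ_f(G, T), then L is a maximal member of ℒ(G, T), hence a member of ℒ_f*(G, T). -/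
theorem result {G : Type*} [Group G] [Finite G] [IsSimpleGroup G]
    (hG : ¬ IsMulCommutative G) (hQ : Cfsg.IsQTKE G) (T : Sylow 2 G) (L : Subgroup G)
    (hL : L ∈ Cfsg.calLf (T : Subgroup G)) :
    (∀ K ∈ Cfsg.calL (T : Subgroup G), L ≤ K → K ∈ Cfsg.calLf (T : Subgroup G)) ∧
    ((∀ K ∈ Cfsg.calLf (T : Subgroup G), L ≤ K → K = L) → L ∈ Cfsg.calLfMax (T : Subgroup G)) := by
  haveI : Fact (Nat.Prime 2) := ⟨Nat.prime_two⟩
  obtain ⟨-, -, hE⟩ := hQ
  obtain ⟨hLL, hLX, hLV⟩ := hL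
  have part1 : ∀ K ∈ Cfsg.calL (T : Subgroup G), L ≤ K → K ∈ Cfsg.calLf (T : Subgroup G) := by
    intro K hK hLK
    have hK0 := hK
    obtain ⟨hKC, ⟨PK, hPK⟩, hKO⟩ := hK
    obtain ⟨hLC, -, hLO⟩ := hLL
    obtain ⟨hKne, hKperf', hKsub, -⟩ := hKC
    obtain ⟨-, hLperf', hLsub, -⟩ := hLC
    have hKle : K ≤ K ⊔ (T : Subgroup G) := le_sup_left
    have hLle : L ≤ L ⊔ (T : Subgroup G) := le_sup_left
    have hKperf : ⁅K, K⁆ = K := by
      have := congrArg (Subgroup.map (K ⊔ (T : Subgroup G)).subtype) hKperf'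
      rwa [Subgroup.map_commutator, Subgroup.map_subgroupOf_eq_of_le hKle] at this
    have hLperf : ⁅L, L⁆ = L := by
      have := congrArg (Subgroup.map (L ⊔ (T : Subgroup G)).subtype) hLperf'
      rwa [Subgroup.map_commutator, Subgroup.map_subgroupOf_eq_of_le hLle] at this
    have hcK : Cfsg.Agent.Lib.Helper7.CharPIn 2 (K ⊔ (T : Subgroup G)) :=
      Cfsg.Agent.Lib.Helper2.QT.charPIn_of_evenChar hE T le_sup_right
        (fun h => hKO ((Subgroup.map_eq_bot_iff_of_injective _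
          (K ⊔ (T : Subgroup G)).subtype_injective).1 h))
    have hcL : Cfsg.Agent.Lib.Helper7.CharPIn 2 (L ⊔ (T : Subgroup G)) :=
      Cfsg.Agent.Lib.Helper2.QT.charPIn_of_evenChar hE T le_sup_right
        (fun h => hLO ((Subgroup.map_eq_bot_iff_of_injective _
          (L ⊔ (T : Subgroup G)).subtype_injective).1 h))
    have hLH : L ⊔ (T : Subgroup G) ≤ K ⊔ (T : Subgroup G) :=
      sup_le (hLK.trans le_sup_left) le_sup_right
    refine ⟨hK0, ⟨?_, ?_, ?_⟩, ?_⟩
    · intro h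
      apply hKne
      rw [h]
      exact Subgroup.bot_subgroupOf _
    · exact Cfsg.Agent.Lib.Helper2.QT.oddGenerated_eq_of_perfect hKperf
    · exact (Cfsg.Agent.Lib.Helper8.charPIn_iff_gfs 2 K).1
        (Cfsg.Agent.Lib.Helper2.QT.charPIn_of_subgroupOf_isSubnormal hKle hcK hKsub)
    · intro hV
      apply hLV
      rw [Cfsg.Agent.Lib.Helper2.QT.moduleV_eq] at hV ⊢
      have h1 := Cfsg.Agent.Lib.Helper2.QT.commutator_zOmega_eq_bot hKle hKsub hKperf hV
      have hQT : Cfsg.Agent.Lib.Helper7.pCoreIn 2 (K ⊔ (T : Subgroup G)) ≤ (T : Subgroup G) := by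
        have h := Cfsg.Agent.Lib.Helper7.pCoreIn_le_sylow (p := 2) (N := K ⊔ (T : Subgroup G)) PK
        rw [hPK, Subgroup.map_subgroupOf_eq_of_le le_sup_right] at h
        exact h
      have h2 := Cfsg.Agent.Lib.Helper2.QT.zOmega_mono hLH (hQT.trans le_sup_right) hcK
      have h3 : ⁅Cfsg.Agent.Lib.Helper2.QT.zOmega (L ⊔ (T : Subgroup G)), L⁆ = ⊥ := by
        rw [eq_bot_iff, ← h1]
        exact Subgroup.commutator_mono h2 hLK
      exact Cfsg.Agent.Lib.Helper2.QT.commutator_zOmega_self_eq_bot hLle hLsub hLperf hcL h3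
  refine ⟨part1, ?_⟩
  intro hmax
  refine ⟨⟨hLL, ?_⟩, ⟨hLX, hLV⟩⟩
  intro K hK hLK
  exact hmax K (part1 K hK hLK) hLK

end Cfsg.Agent.S1851
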