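import Cfsg.Statements.S1892
import Mathlib
import Cfsg.Agent.S4218
import Cfsg.Agent.Lib.Helper1.ThreeSubgroups
import Cfsg.Agent.Lib.Helper1.Coprime
import Cfsg.Agent.Lib.Helper7.PCore

set_option autoImplicit false
open Cfsg

namespace Cfsg.Agent.S1892

/-- Let S be a finite p-solvable group with no nontrivial normal subgroup of order prime to p, A a p-subgroup of S, and Q a nontrivial A-invariant subgroup of order prime to p with [A, Q] = Q. Then the commutator [O_p(S), A, Q] is nontrivial. -/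
theorem result {S : Type*} [Group S] [Finite S] {p : ℕ} [Fact p.Prime]
    (hS : Cfsg.IsPSolvable p S) (hred : Cfsg.pPrimeCore p S = ⊥)
    (A Q : Subgroup S) (hA : IsPGroup p A) (hQ : ¬ p ∣ Nat.card Q) (hQ1 : Q ≠ ⊥)
    (hinv : ∀ a ∈ A, ∀ x ∈ Q, a * x * a⁻¹ ∈ Q) (hAQ : ⁅A, Q⁆ = Q) :
    ⁅⁅Cfsg.pCore p S, A⁆, Q⁆ ≠ ⊥ := by
  intro h
  set P := Cfsg.pCore p S with hP
  haveI hPn : P.Normal := Cfsg.Agent.Lib.Helper7.pCore_normal p S
  have hPp : IsPGroup p ↥P := Cfsg.Agent.Lib.Helper7.pCore_isPGroup p S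
  set N := ⁅P, A⁆ with hN
  have hNP : N ≤ P := Subgroup.commutator_le_left P A
  -- `Q` centralizes `N`
  have hQN : Q ≤ Subgroup.centralizer (N : Set S) := by
    rw [Subgroup.commutator_comm, Subgroup.commutator_eq_bot_iff_le_centralizer] at h
    exact h
  have hQnorm : Q ≤ Subgroup.normalizer (N : Set S) := hQN.trans (Subgroup.centralizer_le_normalizer _)
  have hPnorm : P ≤ Subgroup.normalizer (N : Set S) := Subgroup.normalizer_commutator_ge_left P A
  have hAnorm : A ≤ Subgroup.normalizer (N : Set S) := Subgroup.normalizer_commutator_ge_right P A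
  have h1 : ⁅⁅Q, P⁆, A⁆ ≤ N :=
    Subgroup.commutator_mono (Subgroup.commutator_le_right Q P) le_rfl
  have h2 : ⁅⁅P, A⁆, Q⁆ ≤ N := by rw [h]; exact bot_le
  have h3 := Cfsg.Agent.Lib.Helper1.commutator_commutator_le_of_rotate N Q P A hQnorm hPnorm hAnorm
    h1 h2
  rw [hAQ] at h3
  have h4 : ⁅P, Q⁆ ≤ N := by rw [Subgroup.commutator_comm]; exact h3
  have h5 : ⁅⁅P, Q⁆, Q⁆ = ⊥ := by
    rw [eq_bot_iff, ← h]
    exact Subgroup.commutator_mono h4 le_rfl
  have hQP : Q ≤ Subgroup.normalizer (P : Set S) := by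
    rw [Subgroup.normalizer_eq_top_iff.2 hPn]; exact le_top
  have hcop : (Nat.card ↥Q).Coprime (Nat.card ↥P) := by
    obtain ⟨k, hk⟩ := hPp.exists_card_eq
    rw [hk]
    apply Nat.Coprime.pow_right
    exact ((Nat.Prime.coprime_iff_not_dvd Fact.out).2 hQ).symm
  have hsolv : Group.IsSolvable ↥P := by
    haveI := hPp.isNilpotent
    infer_instance
  have h6 := Cfsg.Agent.Lib.Helper1.coprime_commutator_commutator Q P hQP hcop (Or.inr hsolv)
  rw [h5] at h6
  -- `Q` centralizes `P`, so `Q ≤ P`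
  have hQle : Q ≤ P := by
    intro q hq
    apply Cfsg.Agent.S4218.HH p hS hred q
    intro y hy
    have hc := Subgroup.commutator_mem_commutator (H₁ := P) (H₂ := Q) hy hq
    rw [← h6, Subgroup.mem_bot, commutatorElement_def] at hc
    have hyq : q * y = y * q := by
      calc q * y = (y * q * y⁻¹ * q⁻¹)⁻¹ * (y * q) := by group
        _ = y * q := by rw [hc, inv_one, one_mul]
    have : q * y * q⁻¹ * y⁻¹ = 1 := by rw [hyq]; group
    rw [this]
    exact Subgroup.one_mem _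
  apply hQ1
  rw [eq_bot_iff]
  intro q hq
  rw [Subgroup.mem_bot]
  have hqP := hQle hq
  obtain ⟨k, hk⟩ := hPp ⟨q, hqP⟩
  have hk' : q ^ (p ^ k) = 1 := by
    have := congrArg Subtype.val hk
    rwa [Subgroup.coe_pow, Subgroup.coe_one] at this
  have hq2 : q ^ Nat.card ↥Q = 1 := by
    have h3 : (⟨q, hq⟩ : ↥Q) ^ Nat.card ↥Q = 1 := pow_card_eq_one'
    have h4 := congrArg Subtype.val h3
    rwa [Subgroup.coe_pow, Subgroup.coe_one] at h4
  have hc2 : (p ^ k).Coprime (Nat.card ↥Q) :=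
    Nat.Coprime.pow_left k ((Nat.Prime.coprime_iff_not_dvd Fact.out).2 hQ)
  have := Nat.Coprime.eq_one_of_dvd ((Nat.Coprime.coprime_dvd_left (orderOf_dvd_of_pow_eq_one hk') hc2))
    (orderOf_dvd_of_pow_eq_one hq2)
  exact orderOf_eq_one_iff.1 this

end Cfsg.Agent.S1892
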