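import Cfsg.Statements.S1894
import Cfsg.Agent.Lib.Helper7.KSeq2

set_option autoImplicit false
open Cfsg

namespace Cfsg.Agent.S1894

open Cfsg.Agent.Lib.Helper7

/-- Let P be a finite p-group, A a normal subgroup of P and B an abelian subgroup of A that is normal in P. Then some subgroup C of A containing B is normal in P and is self-centralizing and normal in A (C ∈ SCN(A)). -/
theorem result {P : Type*} [Group P] [Finite P] {p : ℕ} [Fact p.Prime] (hP : IsPGroup p P)
    (A : Subgroup P) [A.Normal] (B : Subgroup P) [B.Normal] (hBA : B ≤ A) (hB : IsMulCommutative B) :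
    ∃ C : Subgroup P, C.Normal ∧ B ≤ C ∧ Cfsg.IsSCN A C := by
  classical
  haveI : Group.IsNilpotent P := hP.isNilpotent
  have hBc : B ≤ Subgroup.centralizer (B : Set P) := le_centralizer_of_comm B hB
  set 𝒜 : Set (Subgroup P) := {C | C.Normal ∧ C ≤ Subgroup.centralizer (C : Set P) ∧ B ≤ C ∧ C ≤ A}
    with h𝒜
  obtain ⟨C, hC⟩ := Set.Finite.exists_maximal (Set.toFinite 𝒜) ⟨B, inferInstance, hBc, le_rfl, hBA⟩
  obtain ⟨⟨hCn, hCc, hBC, hCA⟩, hCmax⟩ := hC
  refine ⟨C, hCn, hBC, hCA, ?_, ?_⟩
  · rw [Subgroup.normalizer_eq_top_iff.mpr hCn]; exact le_top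
  · apply le_antisymm _ (le_inf hCA hCc)
    by_contra hcon
    set D : Subgroup P := A ⊓ Subgroup.centralizer (C : Set P) with hD
    have hDn : D.Normal := by
      haveI := hCn
      exact Subgroup.normal_inf_normal A _
    have hQD : (⊤ : Subgroup P) ≤ Subgroup.normalizer (D : Set P) := by
      rw [Subgroup.normalizer_eq_top_iff.mpr hDn]
    obtain ⟨x, hxD, hxC, hxQ⟩ := exists_mem_commutator_le D ⊤ C hQD hcon
    have hxcent : x ∈ Subgroup.centralizer (C : Set P) := (Subgroup.mem_inf.mp hxD).2
    have hC2 : C ∈ classTwoSubgroups P := mem_classTwoSubgroups_of_comm C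
      ⟨⟨fun a b => Subtype.ext ((Subgroup.mem_centralizer_iff.mp (hCc b.2) a a.2))⟩⟩
    obtain ⟨-, hZ, hX⟩ := extend_classTwo hC2 hxcent
    set C' : Subgroup P := C ⊔ Subgroup.zpowers x with hC'
    have hC'c : C' ≤ Subgroup.centralizer (C' : Set P) := by
      apply sup_le
      · exact ((le_inf le_rfl hCc).trans hZ).trans inf_le_right
      · exact hX.trans inf_le_right
    have hC'n : C'.Normal := by
      rw [← Subgroup.normalizer_eq_top_iff, eq_top_iff]
      apply Subgroup.le_normalizer_iff_commutator_le_left.mpr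
      apply commutator_sup_le_of_le_normalizer
      · haveI := hCn
        exact (Subgroup.commutator_le_left C ⊤).trans le_sup_left
      · exact hxQ.trans le_sup_left
      · exact le_sup_left.trans Subgroup.le_normalizer
      · exact le_sup_right.trans Subgroup.le_normalizer
    have hC'A : C' ≤ A := sup_le hCA (by rw [Subgroup.zpowers_le]; exact (Subgroup.mem_inf.mp hxD).1)
    have hmem : C' ∈ 𝒜 := ⟨hC'n, hC'c, hBC.trans le_sup_left, hC'A⟩
    have hle : C' ≤ C := hCmax hmem le_sup_left
    exact hxC (hle ((le_sup_right : Subgroup.zpowers x ≤ C') (Subgroup.mem_zpowers x)))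


end Cfsg.Agent.S1894
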