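import Cfsg.Statements.S1898
import Mathlib.Tactic

set_option autoImplicit false
open Cfsg

namespace Cfsg.Agent.S1898

theorem result {X : Type*} [Group X] [Finite X] (hX : IsPGroup 2 X)
    (hel : Cfsg.IsElementaryAbelian 2 (commutator X)) (hcen : commutator X ≤ Subgroup.center X) :
    (∀ x ∈ Subgroup.closure {g : X | g ^ 4 = 1}, x ^ 4 = 1) ∧
      ∀ φ : MulAut X, (∀ g : X, g ^ 4 = 1 → φ g = g) → ∃ k : ℕ, φ ^ (2 ^ k) = 1 := by
  classical
  -- commutators
  have hcm : ∀ x y : X, x⁻¹ * y⁻¹ * x * y ∈ commutator X := by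
    intro x y
    have := Subgroup.commutator_mem_commutator (Subgroup.mem_top x⁻¹) (Subgroup.mem_top y⁻¹)
    rw [commutatorElement_def, inv_inv, inv_inv] at this
    exact this
  have hcc : ∀ x y z : X, (x⁻¹ * y⁻¹ * x * y) * z = z * (x⁻¹ * y⁻¹ * x * y) := by
    intro x y z
    exact (Subgroup.mem_center_iff.mp (hcen (hcm x y)) z).symm
  have hc2 : ∀ x y : X, (x⁻¹ * y⁻¹ * x * y) * (x⁻¹ * y⁻¹ * x * y) = 1 := by
    intro x y
    have := hel.2 _ (hcm x y)
    rwa [pow_two] at this
  have L1 : ∀ x y : X, x * y = y * x * (x⁻¹ * y⁻¹ * x * y) := by intro x y; group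
  -- squares are central
  have L3 : ∀ x y : X, x * x * y = y * (x * x) := by
    intro x y
    calc x * x * y = x * (x * y) := by group
      _ = x * (y * x * (x⁻¹ * y⁻¹ * x * y)) := by rw [← L1]
      _ = (x * y) * x * (x⁻¹ * y⁻¹ * x * y) := by group
      _ = (y * x * (x⁻¹ * y⁻¹ * x * y)) * x * (x⁻¹ * y⁻¹ * x * y) := by rw [← L1]
      _ = y * x * ((x⁻¹ * y⁻¹ * x * y) * x) * (x⁻¹ * y⁻¹ * x * y) := by group
      _ = y * x * (x * (x⁻¹ * y⁻¹ * x * y)) * (x⁻¹ * y⁻¹ * x * y) := by rw [hcc]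
      _ = y * (x * x) * ((x⁻¹ * y⁻¹ * x * y) * (x⁻¹ * y⁻¹ * x * y)) := by group
      _ = y * (x * x) := by rw [hc2, mul_one]
  have L4 : ∀ x y : X, (x * y) * (x * y) = (x * x) * (y * y) * (y⁻¹ * x⁻¹ * y * x) := by
    intro x y
    calc (x * y) * (x * y) = x * (y * x) * y := by group
      _ = x * (x * y * (y⁻¹ * x⁻¹ * y * x)) * y := by rw [← L1]
      _ = x * x * y * ((y⁻¹ * x⁻¹ * y * x) * y) := by group
      _ = x * x * y * (y * (y⁻¹ * x⁻¹ * y * x)) := by rw [hcc]
      _ = (x * x) * (y * y) * (y⁻¹ * x⁻¹ * y * x) := by group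
  have L5 : ∀ x y : X, (x * y) ^ 4 = x ^ 4 * y ^ 4 := by
    intro x y
    have h4 : ∀ z : X, z ^ 4 = (z * z) * (z * z) := by intro z; rw [show 4 = 2 + 2 from rfl, pow_add, pow_two]
    rw [h4, h4 x, h4 y, L4 x y]
    set c := y⁻¹ * x⁻¹ * y * x with hc
    have hcz : ∀ z, c * z = z * c := fun z => hcc y x z
    calc (x * x) * (y * y) * c * ((x * x) * (y * y) * c)
        = (x * x) * (y * y) * (c * ((x * x) * (y * y))) * c := by group
      _ = (x * x) * (y * y) * (((x * x) * (y * y)) * c) * c := by rw [hcz]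
      _ = (x * x) * ((y * y) * (x * x)) * (y * y) * (c * c) := by group
      _ = (x * x) * ((x * x) * (y * y)) * (y * y) * (c * c) := by rw [L3 y (x * x)]
      _ = x * x * (x * x) * (y * y * (y * y)) := by rw [hc2, mul_one]; group
  refine ⟨?_, ?_⟩
  · intro x hx
    induction hx using Subgroup.closure_induction with
    | mem x hx => exact hx
    | one => exact one_pow 4
    | mul x y _ _ hx hy => rw [L5, hx, hy, one_mul]
    | inv x _ hx => rw [inv_pow, hx, inv_one]
  · intro φ hφ
    have hord : 0 < orderOf φ := orderOf_pos φ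
    obtain ⟨a, m, hm, ham⟩ := Nat.exists_eq_two_pow_mul_odd hord.ne'
    refine ⟨a, ?_⟩
    set ψ := φ ^ (2 ^ a) with hψ
    have hψm : ψ ^ m = 1 := by
      rw [hψ, ← pow_mul, ← ham, pow_orderOf_eq_one]
    have hψfix : ∀ g : X, g ^ 4 = 1 → ψ g = g := by
      intro g hg
      have : ∀ j : ℕ, (φ ^ j) g = g := by
        intro j
        induction j with
        | zero => simp
        | succ j ih => rw [pow_succ, MulAut.mul_apply, hφ g hg, ih]
      exact this _
    -- induction on the order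
    have key : ∀ k : ℕ, ∀ x : X, x ^ (2 ^ k) = 1 → ψ x = x := by
      intro k
      induction k with
      | zero => intro x hx; rw [pow_zero, pow_one] at hx; rw [hx, map_one]
      | succ k ih =>
        intro x hx
        have hx2 : ψ (x * x) = x * x := by
          apply ih
          rw [← pow_two, ← pow_mul, ← pow_succ']; exact hx
        rw [map_mul] at hx2
        set b := ψ x with hb
        -- y = x⁻¹ b
        have hy2 : (x⁻¹ * b) * (x⁻¹ * b) = (b⁻¹ * x⁻¹⁻¹ * b * x⁻¹) := by
          rw [L4, hx2]; group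
        have hy4 : (x⁻¹ * b) ^ 4 = 1 := by
          have h4 : ∀ z : X, z ^ 4 = (z * z) * (z * z) := by intro z; rw [show 4 = 2 + 2 from rfl, pow_add, pow_two]
          rw [h4, hy2]
          exact hc2 b x⁻¹
        have hyfix : ψ (x⁻¹ * b) = x⁻¹ * b := hψfix _ hy4
        have hpow : ∀ j : ℕ, (ψ ^ j) x = x * (x⁻¹ * b) ^ j := by
          intro j
          induction j with
          | zero => simp
          | succ j ihj =>
            rw [pow_succ', MulAut.mul_apply, ihj, map_mul, map_pow, hyfix, ← hb, pow_succ', ← mul_assoc,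
              mul_inv_cancel_left]
        have h1 := hpow m
        rw [hψm, MulAut.one_apply] at h1
        have h2 : (x⁻¹ * b) ^ m = 1 := by
          have := mul_left_cancel (a := x) (b := 1) (c := (x⁻¹ * b) ^ m) (by rw [mul_one]; exact h1)
          exact this.symm
        have h3 : orderOf (x⁻¹ * b) ∣ Nat.gcd m 4 :=
          Nat.dvd_gcd (orderOf_dvd_of_pow_eq_one h2) (orderOf_dvd_of_pow_eq_one hy4)
        have h4 : Nat.gcd m 4 = 1 := by
          have : Nat.Coprime m (2 ^ 2) := Nat.Coprime.pow_right 2 (Nat.coprime_two_right.mpr hm)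
          exact this
        rw [h4, Nat.dvd_one, orderOf_eq_one_iff, inv_mul_eq_one] at h3
        exact h3.symm
    ext x
    obtain ⟨k, hk⟩ := (IsPGroup.iff_orderOf.mp hX) x
    rw [MulAut.one_apply]
    apply key k
    rw [← hk, pow_orderOf_eq_one]

end Cfsg.Agent.S1898
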