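import Cfsg.Statements.S1899
import Mathlib.Tactic

set_option autoImplicit false
open Cfsg

namespace Cfsg.Agent.S1899

/-- two subgroups of a commutative group with trivial intersection: product of orders ≤ order -/
theorem card_mul_le {A : Type*} [CommGroup A] [Finite A] (H K : Subgroup A) (h : H ⊓ K = ⊥) :
    Nat.card H * Nat.card K ≤ Nat.card A := by
  rw [← Nat.card_prod]
  apply Nat.card_le_card_of_injective (fun p : H × K => (p.1 : A) * (p.2 : A))
  rintro ⟨⟨a, ha⟩, ⟨b, hb⟩⟩ ⟨⟨a', ha'⟩, ⟨b', hb'⟩⟩ hab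
  simp only at hab
  have h1 : a'⁻¹ * a = b' * b⁻¹ := by
    rw [inv_mul_eq_iff_eq_mul, ← mul_assoc, eq_mul_inv_iff_mul_eq]; exact hab
  have h2 : a'⁻¹ * a ∈ H ⊓ K := by
    refine Subgroup.mem_inf.mpr ⟨H.mul_mem (H.inv_mem ha') ha, ?_⟩
    rw [h1]; exact K.mul_mem hb' (K.inv_mem hb)
  rw [h, Subgroup.mem_bot] at h2
  have h3 : a = a' := by rw [inv_mul_eq_one] at h2; exact h2.symm
  subst h3
  have h4 : b = b' := mul_left_cancel hab
  subst h4
  rfl

theorem sup_eq_top_of_card {A : Type*} [CommGroup A] [Finite A] (H K : Subgroup A) (h : H ⊓ K = ⊥)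
    (hc : Nat.card A ≤ Nat.card H * Nat.card K) : H ⊔ K = ⊤ := by
  have h1 := card_mul_le (A := ↥(H ⊔ K)) (H.subgroupOf (H ⊔ K)) (K.subgroupOf (H ⊔ K)) (by
    rw [eq_bot_iff]
    rintro ⟨x, hx⟩ hmem
    obtain ⟨h1, h2⟩ := Subgroup.mem_inf.mp hmem
    rw [Subgroup.mem_subgroupOf] at h1 h2
    have : x ∈ H ⊓ K := Subgroup.mem_inf.mpr ⟨h1, h2⟩
    rw [h, Subgroup.mem_bot] at this
    rw [Subgroup.mem_bot]
    exact Subtype.ext this)
  rw [Nat.card_congr (Subgroup.subgroupOfEquivOfLe (le_sup_left : H ≤ H ⊔ K)).toEquiv,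
    Nat.card_congr (Subgroup.subgroupOfEquivOfLe (le_sup_right : K ≤ H ⊔ K)).toEquiv] at h1
  exact Subgroup.eq_top_of_le_card _ (hc.trans h1)

theorem result {A : Type*} [CommGroup A] [Finite A] (hA : IsPGroup 2 A)
    {n : ℕ} (hn : Odd n) (hn1 : 1 < n) (d t : MulAut A) (hd : d ^ n = 1) (ht : t ^ 2 = 1) (hdt : t * d * t⁻¹ = d⁻¹)
    (hfix : ∀ a : A, d a = a → a = 1) :
    (MulEquiv.toMonoidHom t).eqLocus (MonoidHom.id A) ⊓ ((MulEquiv.toMonoidHom t).eqLocus (MonoidHom.id A)).map d.toMonoidHom = ⊥ ∧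
      (MulEquiv.toMonoidHom t).eqLocus (MonoidHom.id A) ⊔ ((MulEquiv.toMonoidHom t).eqLocus (MonoidHom.id A)).map d.toMonoidHom = ⊤ := by
  classical
  obtain ⟨k, hk⟩ := hn
  -- d² fixes only 1
  have hd2 : ∀ a, d (d a) = a → a = 1 := by
    intro a ha
    apply hfix
    have h1 : (d ^ 2) ^ (k + 1) = d := by
      rw [← pow_mul, show 2 * (k + 1) = n + 1 by omega, pow_succ, hd, one_mul]
    have h2 : ∀ m : ℕ, ((d ^ 2) ^ m) a = a := by
      intro m
      induction m with
      | zero => simp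
      | succ m ih =>
        rw [pow_succ, MulAut.mul_apply]
        have : (d ^ 2) a = a := by rw [pow_two, MulAut.mul_apply]; exact ha
        rw [this, ih]
    have := h2 (k + 1)
    rwa [h1] at this
  -- t is an involution
  have htt : ∀ a, t (t a) = a := by
    intro a
    have : (t ^ 2) a = a := by rw [ht]; rfl
    rwa [pow_two, MulAut.mul_apply] at this
  -- t d = d⁻¹ t
  have htd : ∀ a, t (d a) = d⁻¹ (t a) := by
    intro a
    have h1 : t * d = d⁻¹ * t := by
      rw [← hdt]; group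
    have := congrArg (fun f : MulAut A => f a) h1
    simpa [MulAut.mul_apply] using this
  have hdd : ∀ a, d (d⁻¹ a) = a := fun a => by
    rw [← MulAut.mul_apply, mul_inv_cancel]; rfl
  have hdd' : ∀ a, d⁻¹ (d a) = a := fun a => by
    rw [← MulAut.mul_apply, inv_mul_cancel]; rfl
  have htinv : ∀ a b, t a = b → t (d⁻¹ a) = d b := by
    intro a b hab
    have := htd (d⁻¹ a)
    rw [hdd, hab] at this
    rw [this, hdd]
  set C := (MulEquiv.toMonoidHom t).eqLocus (MonoidHom.id A) with hC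
  have memC : ∀ a, a ∈ C ↔ t a = a := fun a => Iff.rfl
  have memdC : ∀ a, a ∈ C.map d.toMonoidHom ↔ t (d⁻¹ a) = d⁻¹ a := by
    intro a
    rw [Subgroup.mem_map]
    constructor
    · rintro ⟨c, hc, rfl⟩
      show t (d⁻¹ (d c)) = d⁻¹ (d c)
      rw [hdd']; exact hc
    · intro h
      exact ⟨d⁻¹ a, h, hdd a⟩
  -- inverted subgroups
  let I : Subgroup A :=
    { carrier := {a | t a = a⁻¹}
      one_mem' := by simp
      mul_mem' := by
        intro a b ha hb
        simp only [Set.mem_ofPred_eq] at *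
        rw [map_mul, ha, hb, mul_inv]
      inv_mem' := by
        intro a ha
        simp only [Set.mem_ofPred_eq] at *
        rw [map_inv, ha] }
  have memI : ∀ a, a ∈ I ↔ t a = a⁻¹ := fun a => Iff.rfl
  have memdI : ∀ a, a ∈ I.map d.toMonoidHom ↔ t (d⁻¹ a) = (d⁻¹ a)⁻¹ := by
    intro a
    rw [Subgroup.mem_map]
    constructor
    · rintro ⟨c, hc, rfl⟩
      show t (d⁻¹ (d c)) = (d⁻¹ (d c))⁻¹
      rw [hdd']; exact hc
    · intro h
      exact ⟨d⁻¹ a, h, hdd a⟩
  have hCi : C ⊓ C.map d.toMonoidHom = ⊥ := by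
    rw [eq_bot_iff]
    intro a ha
    obtain ⟨h1, h2⟩ := Subgroup.mem_inf.mp ha
    rw [memC] at h1
    rw [memdC] at h2
    rw [Subgroup.mem_bot]
    -- t (d⁻¹ a) = d (t a) = d a
    have h3 : t (d⁻¹ a) = d a := htinv a a h1
    rw [h3] at h2
    apply hd2
    rw [h2, hdd]
  have hIi : I ⊓ I.map d.toMonoidHom = ⊥ := by
    rw [eq_bot_iff]
    intro a ha
    obtain ⟨h1, h2⟩ := Subgroup.mem_inf.mp ha
    rw [memI] at h1
    rw [memdI] at h2
    rw [Subgroup.mem_bot]
    have h3 : t (d⁻¹ a) = d a⁻¹ := htinv a _ h1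
    rw [h3, map_inv, inv_inj] at h2
    apply hd2
    rw [h2, hdd]
  have cardmap : ∀ H : Subgroup A, Nat.card (H.map d.toMonoidHom) = Nat.card H := by
    intro H
    exact Subgroup.card_map_of_injective d.injective
  have h1 := card_mul_le C _ hCi
  have h2 := card_mul_le I _ hIi
  rw [cardmap] at h1 h2
  -- norm map
  let f : A →* A :=
    { toFun := fun a => a * t a
      map_one' := by simp
      map_mul' := by
        intro a b
        simp only [map_mul]
        exact mul_mul_mul_comm a b (t a) (t b) }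
  have hker : f.ker ≤ I := by
    intro a ha
    rw [MonoidHom.mem_ker] at ha
    rw [memI]
    exact (eq_inv_of_mul_eq_one_right ha)
  have hrange : f.range ≤ C := by
    rintro _ ⟨a, rfl⟩
    rw [memC]
    show t (a * t a) = a * t a
    rw [map_mul, htt, mul_comm]
  have h3 : Nat.card A = Nat.card f.ker * Nat.card f.range := by
    rw [← Subgroup.index_ker, Subgroup.card_mul_index]
  have h4 : Nat.card A ≤ Nat.card I * Nat.card C := by
    rw [h3]
    exact Nat.mul_le_mul (Subgroup.card_le_of_le hker) (Subgroup.card_le_of_le hrange)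
  refine ⟨hCi, sup_eq_top_of_card _ _ hCi ?_⟩
  rw [cardmap]
  have hpos : 0 < Nat.card A := Nat.card_pos
  nlinarith

end Cfsg.Agent.S1899
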