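import Cfsg.Statements.S1900
import Mathlib
import Cfsg.Agent.Lib.Helper8.TwoCent

set_option autoImplicit false
open Cfsg

namespace Cfsg.Agent.S1900

theorem exists_gen {S : Type*} [Group S] [Finite S] {q : ℕ} [hq : Fact q.Prime] (Q X : Subgroup S)
    (hQe : ∀ a ∈ Q, a ^ q = 1) (hXQ : X ≤ Q) (hc : Nat.card X = q) :
    ∃ x ∈ Q, Subgroup.zpowers x = X := by
  have hne : X ≠ ⊥ := by
    intro h
    rw [h, Subgroup.card_bot] at hc
    exact hq.out.one_lt.ne hc
  obtain ⟨⟨x, hxX⟩, hx1⟩ := (Subgroup.ne_bot_iff_exists_ne_one).1 hne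
  have hx1' : x ≠ 1 := fun h => hx1 (Subtype.ext h)
  refine ⟨x, hXQ hxX, ?_⟩
  apply Subgroup.eq_of_le_of_card_ge (Subgroup.zpowers_le.2 hxX)
  rw [hc, Nat.card_zpowers, orderOf_eq_prime (hQe x (hXQ hxX)) hx1']

/-- Let S = PQ be a finite group with P a normal Sylow p-subgroup and Q elementary abelian of order q², q a prime different from p. If exactly two subgroups X₁, X₂ of order q in Q have a nontrivial centralizer in P, then P is the internal direct product of C_P(X₁) and C_P(X₂): they commute elementwise, meet trivially and generate P. -/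
theorem result {S : Type*} [Group S] [Finite S] {p q : ℕ} [Fact p.Prime] [Fact q.Prime] (hpq : p ≠ q)
    (P : Sylow p S) [(P : Subgroup S).Normal] (Q : Subgroup S) (hQ : Cfsg.IsElementaryAbelian q Q) (hQc : Nat.card Q = q ^ 2)
    (hS : (P : Subgroup S) ⊔ Q = ⊤)
    (X₁ X₂ : Subgroup S) (h₁ : X₁ ≤ Q) (h₂ : X₂ ≤ Q) (h₁₂ : X₁ ≠ X₂) (hc₁ : Nat.card X₁ = q) (hc₂ : Nat.card X₂ = q)
    (hf₁ : (P : Subgroup S) ⊓ Subgroup.centralizer (X₁ : Set S) ≠ ⊥)
    (hf₂ : (P : Subgroup S) ⊓ Subgroup.centralizer (X₂ : Set S) ≠ ⊥)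
    (honly : ∀ X : Subgroup S, X ≤ Q → Nat.card X = q →
      (P : Subgroup S) ⊓ Subgroup.centralizer (X : Set S) ≠ ⊥ → X = X₁ ∨ X = X₂) :
    ⁅(P : Subgroup S) ⊓ Subgroup.centralizer (X₁ : Set S), (P : Subgroup S) ⊓ Subgroup.centralizer (X₂ : Set S)⁆ = ⊥ ∧
      ((P : Subgroup S) ⊓ Subgroup.centralizer (X₁ : Set S)) ⊓ ((P : Subgroup S) ⊓ Subgroup.centralizer (X₂ : Set S)) = ⊥ ∧
      ((P : Subgroup S) ⊓ Subgroup.centralizer (X₁ : Set S)) ⊔ ((P : Subgroup S) ⊓ Subgroup.centralizer (X₂ : Set S)) = P := by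
  classical
  obtain ⟨x₁, hx₁Q, hX₁⟩ := exists_gen Q X₁ hQ.2 h₁ hc₁
  obtain ⟨x₂, hx₂Q, hX₂⟩ := exists_gen Q X₂ hQ.2 h₂ hc₂
  have hC₁ : Subgroup.centralizer (X₁ : Set S) = Subgroup.centralizer {x₁} := by
    rw [← hX₁, Subgroup.zpowers_eq_closure, Subgroup.centralizer_closure]
  have hC₂ : Subgroup.centralizer (X₂ : Set S) = Subgroup.centralizer {x₂} := by
    rw [← hX₂, Subgroup.zpowers_eq_closure, Subgroup.centralizer_closure]
  have hctx : Helper8.TwoCent.Ctx p q (P : Subgroup S) Q x₁ x₂ :=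
    { hP := P.2
      hPn := inferInstance
      hpq := hpq
      hS := hS
      hQc := hQ.1
      hQe := hQ.2
      hQ2 := by rw [hQc]
      hx₁ := hx₁Q
      hx₂ := hx₂Q
      h12 := by
        intro hm
        apply h₁₂
        apply Subgroup.eq_of_le_of_card_ge
        · rw [← hX₁, ← hX₂]
          exact Subgroup.zpowers_le.2 hm
        · rw [hc₁, hc₂]
      h21 := by
        intro hm
        apply h₁₂
        symm
        apply Subgroup.eq_of_le_of_card_ge
        · rw [← hX₁, ← hX₂]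
          exact Subgroup.zpowers_le.2 hm
        · rw [hc₁, hc₂]
      hfree := by
        intro a ha h1 h2
        by_contra hne
        have ha1 : a ≠ 1 := by
          rintro rfl
          exact h1 (Subgroup.one_mem _)
        have hcard : Nat.card (Subgroup.zpowers a) = q := by
          rw [Nat.card_zpowers, orderOf_eq_prime (hQ.2 a ha) ha1]
        have hC : Subgroup.centralizer ((Subgroup.zpowers a : Subgroup S) : Set S) =
            Subgroup.centralizer {a} := by
          rw [Subgroup.zpowers_eq_closure, Subgroup.centralizer_closure]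
        rcases honly (Subgroup.zpowers a) (Subgroup.zpowers_le.2 ha) hcard (by rw [hC]; exact hne)
          with h | h
        · apply h1
          rw [hX₁, ← h]
          exact Subgroup.mem_zpowers a
        · apply h2
          rw [hX₂, ← h]
          exact Subgroup.mem_zpowers a }
  rw [hC₁, hC₂]
  exact ⟨hctx.commutator_eq_bot, hctx.inter, hctx.sup_eq⟩

end Cfsg.Agent.S1900
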