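import Cfsg.Statements.S1904
import Cfsg.Agent.Lib.Helper8.NG5Basic
import Cfsg.Agent.Lib.Helper8.NG5U19
import Cfsg.Agent.Lib.Helper8.NG5U24
import Cfsg.Agent.Lib.Helper8.NG5U25b
import Cfsg.Agent.Lib.Helper9.NG5U14
import Cfsg.Agent.Lib.Helper9.NG5U17
import Cfsg.Agent.Lib.Helper5.NG5U16V
import Cfsg.Agent.Lib.Helper5.NG5U18
import Cfsg.Agent.Lib.Helper6.NG5U20
import Cfsg.Agent.Lib.Helper4.NG5U23
import Cfsg.Agent.Lib.Helper3.NG5U26
import Cfsg.Agent.Lib.Helper3.NG5U27
import Cfsg.Agent.Lib.Helper3.NG5U29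
import Cfsg.Agent.Lib.Helper1.NG5U28

set_option autoImplicit false
open Cfsg

namespace Cfsg.Agent.S1904

/-- Let X be a finite nonabelian 2-group with no normal abelian subgroup that is self-centralizing and contains an elementary abelian subgroup of order 8. Suppose a group A of automorphisms of X of odd order satisfies [X, A] = X. Then X is the quaternion group of order 8, or X is special of order 64 with exactly three involutions, all central, or X is extraspecial of order 32 with exactly eleven involutions (the central product of a quaternion group and a dihedral group of order 8). -/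
theorem result {X : Type*} [Group X] [Finite X] (hX : IsPGroup 2 X) (hna : ¬ IsMulCommutative X)
    (hscn : ¬ ∃ A : Subgroup X, A.Normal ∧ Subgroup.centralizer (A : Set X) = A ∧
      ∃ E : Subgroup X, E ≤ A ∧ Cfsg.IsElementaryAbelian 2 E ∧ Nat.card E = 8)
    (A : Subgroup (MulAut X)) (hA : Odd (Nat.card A))
    (hXA : Subgroup.closure {g : X | ∃ φ ∈ A, ∃ x : X, g = x⁻¹ * φ x} = ⊤) :
    Nonempty (X ≃* QuaternionGroup 2) ∨
      (Cfsg.IsSpecial 2 X ∧ Nat.card X = 64 ∧ Nat.card {x : X // orderOf x = 2} = 3 ∧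
        ∀ x : X, orderOf x = 2 → x ∈ Subgroup.center X) ∨
      (Cfsg.IsExtraspecial 2 X ∧ Nat.card X = 32 ∧ Nat.card {x : X // orderOf x = 2} = 11) := by
  have h : Cfsg.Agent.Lib.Helper8.NG5.Hyp X A :=
    Cfsg.Agent.Lib.Helper8.NG5Basic.hyp_of hX hna hscn A hA hXA
  by_cases hchar : ∀ H : Subgroup X, H.Characteristic → IsMulCommutative H →
      ∀ a ∈ A, ∀ x ∈ H, a x = x
  · obtain ⟨b, hc | hc⟩ := Cfsg.Agent.Lib.Helper9.NG5U14.b1_of h hchar
    · rcases Cfsg.Agent.Lib.Helper5.NG5U16V.b1a h b hc with hq | he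
      · exact Or.inl hq
      · exact Or.inr (Or.inr he)
    · exact Or.inr (Or.inl (Cfsg.Agent.Lib.Helper5.NG5U18.b1b_of h b hc
        (Cfsg.Agent.Lib.Helper9.NG5U17.b1b_even h b hc)))
  · obtain ⟨W, w⟩ := Cfsg.Agent.Lib.Helper8.NG5U19.b2_of h hchar
    obtain ⟨Y, hY⟩ := Cfsg.Agent.Lib.Helper6.NG5U20.exists_Y h w
    rcases Cfsg.Agent.Lib.Helper4.NG5U23.card_Y h w hY with h16 | h64
    · exfalso
      obtain ⟨N, n⟩ := Cfsg.Agent.Lib.Helper8.NG5U25b.exists_N h w hY h16
      have hself := Cfsg.Agent.Lib.Helper3.NG5U26.N_selfc h w hY h16 n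
      obtain ⟨a, ha⟩ := Cfsg.Agent.Lib.Helper3.NG5U27.A_order3 h w hY h16 n hself
      by_cases hT : ∃ x : X, x ∉ N ∧ ∀ y ∈ Y, x * y = y * x
      · exact Cfsg.Agent.Lib.Helper1.NG5U28.case_T_big h w hY h16 n hself a ha hT
      · apply Cfsg.Agent.Lib.Helper3.NG5U29.case_T_small h w hY h16 n hself a ha
        intro x hx
        by_contra hxN
        exact hT ⟨x, hxN, hx⟩
    · exact Or.inr (Or.inl (Cfsg.Agent.Lib.Helper8.NG5U24.b2_s4 h w hY h64))

end Cfsg.Agent.S1904
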