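import Cfsg.Statements.S1905
import Mathlib
import Cfsg.Agent.Lib.Lead.SETrans

set_option autoImplicit false
open Cfsg

namespace Cfsg.Agent.S1905


open Cfsg Cfsg.Agent.Lib.Lead Cfsg.Agent.Lib.Lead.SE


theorem part1 {S : Type*} [Group S] [Finite S] (M : Subgroup S) (hM : Even (Nat.card M))
    (hC : ∀ i ∈ M, orderOf i = 2 → Subgroup.centralizer ({i} : Set S) ≤ M)
    (hcore : Odd (Nat.card M.normalCore)) :
    (∃ u : S, orderOf u = 2 ∧ u ∉ M) ∧
      (∀ x y : S, orderOf x = 2 → orderOf y = 2 → IsConj x y) := by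
  obtain ⟨i, hiM, hi⟩ := exists_invol_of_even M hM
  have hout : ∃ u : S, orderOf u = 2 ∧ u ∉ M := by
    by_contra hcon
    push Not at hcon
    have : i ∈ M.normalCore := by
      intro g
      exact hcon _ (by rw [orderOf_conj_eq, hi])
    have := even_card_of_invol_mem _ i hi this
    exact (Nat.not_even_iff_odd.2 hcore) this
  have key : ∀ a b : S, orderOf a = 2 → orderOf b = 2 → a ∉ M → b ∈ M → IsConj a b := by
    intro a b ha hb haM hbM
    rcases Nat.even_or_odd (orderOf (a * b)) with he | ho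
    · exfalso
      obtain ⟨w, hw, hwa, hwb⟩ := exists_central_invol ha hb he (orderOf_pos _)
      have hwM : w ∈ M := by
        apply hC b hbM hb
        rw [Subgroup.mem_centralizer_singleton_iff]
        exact hwb
      apply haM
      apply hC w hwM hw
      rw [Subgroup.mem_centralizer_singleton_iff]
      exact hwa.symm
    · obtain ⟨c, _, hc⟩ := exists_invol_conj ha hb ho
      exact isConj_iff.2 ⟨c, hc⟩
  refine ⟨hout, ?_⟩
  obtain ⟨u, hu, huM⟩ := hout
  intro x y hx hy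
  by_cases hxM : x ∈ M
  · by_cases hyM : y ∈ M
    · exact (key u x hu hx huM hxM).symm.trans (key u y hu hy huM hyM)
    · exact (key y x hy hx hyM hxM).symm
  · by_cases hyM : y ∈ M
    · exact key x y hx hy hxM hyM
    · exact (key x i hx hi hxM hiM).trans (key y i hy hi hyM hiM).symm



/-- F1: an involution of `M` is `M`-conjugate into the Sylow subgroup `X`. -/
theorem exists_conj_mem_sylow {M : Type*} [Group M] [Finite M] (X : Sylow 2 M) (s : M)
    (hs : orderOf s = 2) : ∃ m : M, m⁻¹ * s * m ∈ X := by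
  haveI : Fact (Nat.Prime 2) := ⟨Nat.prime_two⟩
  have h2 : IsPGroup 2 (Subgroup.zpowers s) := by
    apply IsPGroup.of_card (n := 1)
    rw [Nat.card_zpowers, hs, pow_one]
  obtain ⟨Y, hY⟩ := h2.exists_le_sylow
  obtain ⟨m, hm⟩ := MulAction.exists_smul_eq M X Y
  refine ⟨m, ?_⟩
  have h1 : s ∈ (Y : Subgroup M) := hY (Subgroup.mem_zpowers s)
  rw [← hm, Sylow.coe_subgroup_smul, Subgroup.mem_pointwise_smul_iff_inv_smul_mem] at h1
  simp only [MulAut.smul_def, map_inv, MulAut.inv_apply, MulAut.conj_symm_apply] at h1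
  exact h1

/-- F3: a conjugate of `X` inside `M` is an `M`-conjugate of `X`. -/
theorem exists_conj_eq {M : Type*} [Group M] [Finite M] (X : Sylow 2 M) (Y : Subgroup M)
    (hcard : Nat.card Y = Nat.card X) : ∃ m : M, ∀ y : M, y ∈ Y ↔ m⁻¹ * y * m ∈ X := by
  haveI : Fact (Nat.Prime 2) := ⟨Nat.prime_two⟩
  have hc : Nat.card Y = 2 ^ (Nat.card M).factorization 2 := by
    rw [hcard, Sylow.card_eq_multiplicity]
  obtain ⟨m, hm⟩ := MulAction.exists_smul_eq M X (Sylow.ofCard Y hc)
  refine ⟨m, fun y => ?_⟩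
  have h1 : y ∈ Y ↔ y ∈ ((Sylow.ofCard Y hc : Sylow 2 M) : Subgroup M) := by
    rw [Sylow.coe_ofCard]
  rw [h1, ← hm, Sylow.coe_subgroup_smul, Subgroup.mem_pointwise_smul_iff_inv_smul_mem]
  simp only [MulAut.smul_def, map_inv, MulAut.inv_apply, MulAut.conj_symm_apply]
  exact Iff.rfl

theorem se_of {S : Type*} [Group S] [Finite S] (M : Subgroup S) (hMtop : M ≠ ⊤)
    (hM : Even (Nat.card M))
    (hC : ∀ i ∈ M, orderOf i = 2 → Subgroup.centralizer ({i} : Set S) ≤ M)
    (X : Sylow 2 M) (I : M)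
    (hI : I ∈ (Subgroup.center ↥(X : Subgroup ↥M)).map (X : Subgroup ↥M).subtype)
    (hI2 : orderOf I = 2)
    (hN : Subgroup.normalizer (((X : Subgroup M).map M.subtype : Subgroup S) : Set S) ≤ M) :
    IsStronglyEmbedded M := by
  rw [stronglyEmbedded_iff M hMtop hM]
  intro g hg s hs hsM hs'M
  set X₀ : Subgroup S := (X : Subgroup M).map M.subtype with hX₀
  have hX₀M : X₀ ≤ M := Subgroup.map_subtype_le _
  have hmemX₀ : ∀ a : M, (a : S) ∈ X₀ ↔ a ∈ X := by
    intro a
    rw [hX₀, Subgroup.mem_map]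
    constructor
    · rintro ⟨b, hb, hba⟩
      have : b = a := Subtype.ext hba
      rwa [← this]
    · intro ha
      exact ⟨a, ha, rfl⟩
  -- z central in X₀
  have hzcomm : ∀ a ∈ X₀, a * (I : S) = (I : S) * a := by
    intro a ha
    obtain ⟨c, hc, hcI⟩ := Subgroup.mem_map.1 hI
    have haM : a ∈ M := hX₀M ha
    have haX : (⟨a, haM⟩ : M) ∈ X := (hmemX₀ ⟨a, haM⟩).1 ha
    have := Subgroup.mem_center_iff.1 hc ⟨⟨a, haM⟩, haX⟩
    have h2 := congrArg (fun t : ↥(X : Subgroup M) => ((t : M) : S)) this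
    simp only [Subgroup.coe_mul] at h2
    rw [← hcI]
    exact h2
  have hz2 : orderOf (I : S) = 2 := by rw [Subgroup.orderOf_coe, hI2]
  -- s' conjugate into X₀
  have hs'2 : orderOf (⟨g⁻¹ * s * g, hs'M⟩ : M) = 2 := by
    rw [Subgroup.orderOf_mk, orderOf_conj_eq', hs]
  obtain ⟨m₂, hm₂⟩ := exists_conj_mem_sylow X _ hs'2
  have hm₂' : (m₂ : S)⁻¹ * (g⁻¹ * s * g) * m₂ ∈ X₀ := by
    have := (hmemX₀ _).2 hm₂
    simpa using this
  set h : S := g * m₂ with hh
  set w : S := h * I * h⁻¹ with hw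
  have hw2 : orderOf w = 2 := by rw [hw, orderOf_conj_eq, hz2]
  have hws : w * s = s * w := by
    have := hzcomm _ hm₂'
    rw [hw, hh]
    have e1 : s = g * m₂ * ((m₂ : S)⁻¹ * (g⁻¹ * s * g) * m₂) * (g * m₂)⁻¹ := by group
    rw [e1]
    set q := (m₂ : S)⁻¹ * (g⁻¹ * s * g) * m₂ with hq
    calc g * ↑m₂ * ↑I * (g * ↑m₂)⁻¹ * (g * ↑m₂ * q * (g * ↑m₂)⁻¹)
        = g * ↑m₂ * (↑I * q) * (g * ↑m₂)⁻¹ := by group
      _ = g * ↑m₂ * (q * ↑I) * (g * ↑m₂)⁻¹ := by rw [this]
      _ = _ := by group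
  have hwM : w ∈ M := by
    apply hC s hsM hs
    rw [Subgroup.mem_centralizer_singleton_iff]
    exact hws
  -- h X₀ h⁻¹ ≤ M
  have hconjM : ∀ a ∈ X₀, h * a * h⁻¹ ∈ M := by
    intro a ha
    apply hC w hwM hw2
    rw [Subgroup.mem_centralizer_singleton_iff, hw]
    have := hzcomm a ha
    calc h * a * h⁻¹ * (h * ↑I * h⁻¹) = h * (a * ↑I) * h⁻¹ := by group
      _ = h * (↑I * a) * h⁻¹ := by rw [this]
      _ = _ := by group
  -- the conjugate as a subgroup of M
  set Y₀ : Subgroup S := X₀.map (MulAut.conj h).toMonoidHom with hY₀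
  have hY₀M : Y₀ ≤ M := by
    rintro _ ⟨a, ha, rfl⟩
    exact hconjM a ha
  have hcardY : Nat.card (Y₀.subgroupOf M) = Nat.card X := by
    rw [Nat.card_congr (Subgroup.subgroupOfEquivOfLe hY₀M).toEquiv, hY₀,
      Subgroup.card_map_of_injective (MulAut.conj h).injective, hX₀,
      Subgroup.card_map_of_injective M.subtype_injective]
  obtain ⟨m, hm⟩ := exists_conj_eq X _ hcardY
  have hnorm : (m : S)⁻¹ * h ∈ Subgroup.normalizer (X₀ : Set S) := by
    rw [Subgroup.mem_normalizer_iff]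
    intro a
    have hconj : ∀ a : S, h * a * h⁻¹ ∈ Y₀ ↔ a ∈ X₀ := by
      intro a
      rw [hY₀, Subgroup.mem_map]
      constructor
      · rintro ⟨a', ha', hEq⟩
        have : a' = a := by
          have h3 : h * a' * h⁻¹ = h * a * h⁻¹ := hEq
          have := mul_left_cancel (mul_right_cancel h3)
          exact this
        rwa [← this]
      · intro ha
        exact ⟨a, ha, rfl⟩
    have hkey : ∀ b : S, b ∈ Y₀ ↔ (m : S)⁻¹ * b * m ∈ X₀ := by
      intro b
      constructor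
      · intro hb
        have := (hm ⟨b, hY₀M hb⟩).1 (Subgroup.mem_subgroupOf.2 hb)
        have h4 := (hmemX₀ _).2 this
        simpa using h4
      · intro hb
        have hbM : b ∈ M := by
          have h5 := hX₀M hb
          have h6 := M.mul_mem (M.mul_mem m.2 h5) (M.inv_mem m.2)
          have : (m : S) * ((m : S)⁻¹ * b * m) * (m : S)⁻¹ = b := by group
          rwa [this] at h6
        have h4 : m⁻¹ * (⟨b, hbM⟩ : M) * m ∈ X := by
          rw [← hmemX₀]
          simpa using hb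
        have := (hm ⟨b, hbM⟩).2 h4
        exact Subgroup.mem_subgroupOf.1 this
    rw [← hconj a, hkey]
    have : (m : S)⁻¹ * (h * a * h⁻¹) * m = (m : S)⁻¹ * h * a * ((m : S)⁻¹ * h)⁻¹ := by group
    rw [this]
  have h1 := hN hnorm
  have h2 : h ∈ M := by
    have := M.mul_mem m.2 h1
    simpa using this
  apply hg
  have := M.mul_mem h2 (M.inv_mem m₂.2)
  rw [hh] at this
  simpa using this


theorem result' {S : Type*} [Group S] [Finite S] (M : Subgroup S) (hM : Even (Nat.card M))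
    (hC : ∀ i ∈ M, orderOf i = 2 → Subgroup.centralizer ({i} : Set S) ≤ M) (hcore : Odd (Nat.card M.normalCore)) :
    (∀ x y : S, orderOf x = 2 → orderOf y = 2 → IsConj x y) ∧
      ∀ (X : Sylow 2 M) (I : M), I ∈ (Subgroup.center ↥(X : Subgroup ↥M)).map (X : Subgroup ↥M).subtype → orderOf I = 2 →
        Subgroup.normalizer (((X : Subgroup M).map M.subtype : Subgroup S) : Set S) ≤ M →
        (∀ x y : M, orderOf x = 2 → orderOf y = 2 → IsConj x y) ∧
          ∃ M₀ : Subgroup M, Odd (Nat.card M₀) ∧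
            ∀ m : M, ∃ a ∈ M₀, ∃ c ∈ Subgroup.centralizer ({I} : Set M), m = a * c := by
  obtain ⟨⟨u, hu, huM⟩, hconj⟩ := part1 M hM hC hcore
  refine ⟨hconj, ?_⟩
  intro X I hI hI2 hN
  have hMtop : M ≠ ⊤ := by
    intro h
    apply huM
    rw [h]
    exact Subgroup.mem_top u
  have hSE := se_of M hMtop hM hC X I hI hI2 hN
  set x₀ : S ⧸ M := ((1 : S) : S ⧸ M) with hx₀
  set y₀ : S ⧸ M := ((u : S) : S ⧸ M) with hy₀
  have hxy : x₀ ≠ y₀ := by
    intro h
    rw [hx₀, hy₀, QuotientGroup.eq] at h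
    apply huM
    simpa using h
  have hfix : ∀ t ∈ M, t • x₀ = x₀ := by
    intro t ht
    rw [hx₀, smul_mk_eq_iff]
    simpa using ht
  have hstab : ∀ d : S, d ∈ (MulAction.stabilizer S y₀ ⊓ MulAction.stabilizer S x₀ : Subgroup S) →
      d ∈ M ⊓ M.map (MulAut.conj u).toMonoidHom := by
    intro d hd
    rw [Subgroup.mem_inf, MulAction.mem_stabilizer_iff, MulAction.mem_stabilizer_iff] at hd
    obtain ⟨h1, h2⟩ := hd
    rw [Subgroup.mem_inf]
    constructor
    · rw [hx₀, smul_mk_eq_iff] at h2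
      simpa using h2
    · rw [hy₀, smul_mk_eq_iff] at h1
      rw [mem_map_conj]
      exact h1
  have htrans : ∀ s t : S, orderOf s = 2 → orderOf t = 2 → s ∈ M → t ∈ M →
      ∃ d ∈ M ⊓ M.map (MulAut.conj u).toMonoidHom, d * s * d⁻¹ = t := by
    intro s t hs ht hsM htM
    obtain ⟨d, hd, hdst⟩ := exists_conj_in_inf hSE hxy hs ht (hfix s hsM) (hfix t htM)
    exact ⟨d, hstab d hd, hdst⟩
  constructor
  · intro x y hx hy
    obtain ⟨d, hd, hdxy⟩ := htrans x y (by rw [Subgroup.orderOf_coe, hx])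
      (by rw [Subgroup.orderOf_coe, hy]) x.2 y.2
    rw [isConj_iff]
    exact ⟨⟨d, hd.1⟩, Subtype.ext hdxy⟩
  · refine ⟨(M ⊓ M.map (MulAut.conj u).toMonoidHom).subgroupOf M, ?_, ?_⟩
    · rw [Nat.card_congr (Subgroup.subgroupOfEquivOfLe inf_le_left).toEquiv]
      exact hSE.2.2 u huM
    · intro m
      have hI2' : orderOf (I : S) = 2 := by rw [Subgroup.orderOf_coe, hI2]
      obtain ⟨d, hd, hdI⟩ := htrans (I : S) ((m : S) * I * (m : S)⁻¹) hI2'
        (by rw [orderOf_conj_eq, hI2']) I.2 (M.mul_mem (M.mul_mem m.2 I.2) (M.inv_mem m.2))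
      refine ⟨⟨d, hd.1⟩, Subgroup.mem_subgroupOf.2 hd, (⟨d, hd.1⟩ : M)⁻¹ * m, ?_, by group⟩
      rw [Subgroup.mem_centralizer_singleton_iff]
      apply Subtype.ext
      simp only [Subgroup.coe_mul, Subgroup.coe_inv]
      have : (I : S) = d⁻¹ * ((m : S) * I * (m : S)⁻¹) * d := by rw [← hdI]; group
      calc d⁻¹ * ↑m * ↑I = d⁻¹ * (↑m * ↑I * (↑m : S)⁻¹) * d * (d⁻¹ * ↑m) := by group
        _ = ↑I * (d⁻¹ * ↑m) := by rw [← this]




/-- Let M be a subgroup of even order of a finite group S such that M contains the centralizer in S of each of its involutions and the normal core of M in S has odd order. Then all involutions of S are conjugate. If moreover N_S(X) ≤ M for a Sylow 2-subgroup X of M and I is an involution in the centre of X, then all involutions of M are conjugate in M and M = M₀ C_M(I) for some subgroup M₀ of M of odd order. -/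
theorem result {S : Type*} [Group S] [Finite S] (M : Subgroup S) (hM : Even (Nat.card M))
    (hC : ∀ i ∈ M, orderOf i = 2 → Subgroup.centralizer ({i} : Set S) ≤ M) (hcore : Odd (Nat.card M.normalCore)) :
    (∀ x y : S, orderOf x = 2 → orderOf y = 2 → IsConj x y) ∧
      ∀ (X : Sylow 2 M) (I : M), I ∈ (Subgroup.center ↥(X : Subgroup ↥M)).map (X : Subgroup ↥M).subtype → orderOf I = 2 →
        Subgroup.normalizer (((X : Subgroup M).map M.subtype : Subgroup S) : Set S) ≤ M →
        (∀ x y : M, orderOf x = 2 → orderOf y = 2 → IsConj x y) ∧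
          ∃ M₀ : Subgroup M, Odd (Nat.card M₀) ∧
            ∀ m : M, ∃ a ∈ M₀, ∃ c ∈ Subgroup.centralizer ({I} : Set M), m = a * c := by
  exact result' M hM hC hcore

end Cfsg.Agent.S1905
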