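import Cfsg.Statements.S1910
import Mathlib
import Cfsg.Agent.Lib.Helper1.GlaubermanRepl3

set_option autoImplicit false
open Cfsg

namespace Cfsg.Agent.S1910


open Cfsg

variable {G : Type*} [Group G]

/-- conjugate of a subgroup -/
abbrev cj (K : Subgroup G) (x : G) : Subgroup G := K.map (MulAut.conj x).toMonoidHom

theorem mem_cj (K : Subgroup G) (x y : G) : y ∈ cj K x ↔ x⁻¹ * y * x ∈ K := by
  rw [Subgroup.mem_map]
  constructor
  · rintro ⟨k, hk, rfl⟩
    have : x⁻¹ * ((MulAut.conj x).toMonoidHom k) * x = k := by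
      show x⁻¹ * (x * k * x⁻¹) * x = k
      group
    rwa [this]
  · intro h
    refine ⟨x⁻¹ * y * x, h, ?_⟩
    show x * (x⁻¹ * y * x) * x⁻¹ = y
    group

theorem cj_cj (K : Subgroup G) (x y : G) : cj (cj K x) y = cj K (y * x) := by
  ext z
  rw [mem_cj, mem_cj, mem_cj]
  have : (y * x)⁻¹ * z * (y * x) = x⁻¹ * (y⁻¹ * z * y) * x := by group
  rw [this]

theorem cj_one (K : Subgroup G) : cj K 1 = K := by
  ext z
  rw [mem_cj]
  simp

theorem card_cj [Finite G] (K : Subgroup G) (x : G) : Nat.card (cj K x) = Nat.card K :=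
  Subgroup.card_map_of_injective (MulAut.conj x).injective

theorem cj_eq_iff_mem_normalizer (K : Subgroup G) (x : G) :
    cj K x = K ↔ x ∈ Subgroup.normalizer (K : Set G) :=
  Subgroup.mem_normalizer_iff_map_conj_eq.symm

theorem cj_inf (K L : Subgroup G) (x : G) : cj (K ⊓ L) x = cj K x ⊓ cj L x :=
  Subgroup.map_inf_eq K L _ (MulAut.conj x).injective

theorem normalizer_cj (K : Subgroup G) (x n : G) :
    n ∈ Subgroup.normalizer ((cj K x : Subgroup G) : Set G) ↔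
      x⁻¹ * n * x ∈ Subgroup.normalizer (K : Set G) := by
  rw [← cj_eq_iff_mem_normalizer, ← cj_eq_iff_mem_normalizer, cj_cj]
  constructor
  · intro h
    have := congrArg (fun L => cj L x⁻¹) h
    simp only [cj_cj] at this
    have e1 : x⁻¹ * (n * x) = x⁻¹ * n * x := by group
    have e2 : x⁻¹ * x = 1 := by group
    rw [e1, e2, cj_one] at this
    exact this
  · intro h
    have := congrArg (fun L => cj L x) h
    simp only [cj_cj] at this
    have e1 : x * (x⁻¹ * n * x) = n * x := by group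
    rw [e1] at this
    exact this

/-- a 2-group inside a group of odd order is trivial -/
theorem eq_bot_of_two_group_of_odd [Finite G] {X A : Subgroup G} (hX : IsPGroup 2 X) (hXA : X ≤ A)
    (hA : Odd (Nat.card A)) : X = ⊥ := by
  haveI : Fact (Nat.Prime 2) := ⟨Nat.prime_two⟩
  obtain ⟨n, hn⟩ := IsPGroup.iff_card.1 hX
  have hdvd : Nat.card X ∣ Nat.card A := Subgroup.card_dvd_of_le hXA
  rw [← Subgroup.card_eq_one, hn]
  rcases Nat.eq_zero_or_pos n with h0 | hpos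
  · rw [h0, pow_zero]
  · exfalso
    have h2 : 2 ∣ Nat.card A := by
      rw [hn] at hdvd
      exact (dvd_pow_self 2 hpos.ne').trans hdvd
    exact (Nat.not_even_iff_odd.2 hA) (even_iff_two_dvd.2 h2)

/-- a conjugation-closed family of subgroups meeting pairwise in odd order -/
structure Fam (𝒦 : Set (Subgroup G)) : Prop where
  conj : ∀ K ∈ 𝒦, ∀ x : G, cj K x ∈ 𝒦
  odd : ∀ K₁ ∈ 𝒦, ∀ K₂ ∈ 𝒦, K₁ ≠ K₂ → Odd (Nat.card ↥(K₁ ⊓ K₂))
  trans : ∀ K₁ ∈ 𝒦, ∀ K₂ ∈ 𝒦, ∃ x : G, K₂ = cj K₁ x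

theorem fam_of_tight [Finite G] (Q : Subgroup G) (hQ : IsTightlyEmbedded Q) :
    Fam {K : Subgroup G | ∃ x : G, K = cj Q x} := by
  refine ⟨?_, ?_, ?_⟩
  · rintro K ⟨a, rfl⟩ x
    exact ⟨x * a, cj_cj Q a x⟩
  · rintro K₁ ⟨a, rfl⟩ K₂ ⟨b, rfl⟩ hne
    have hnot : a⁻¹ * b ∉ Subgroup.normalizer (Q : Set G) := by
      intro h
      apply hne
      rw [← cj_eq_iff_mem_normalizer] at h
      have := congrArg (fun L => cj L a) h
      simp only [cj_cj] at this
      have e : a * (a⁻¹ * b) = b := by group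
      rw [e] at this
      exact this.symm
    have h1 := hQ.2 (a⁻¹ * b) hnot
    have h2 : cj Q a ⊓ cj Q b = cj (Q ⊓ cj Q (a⁻¹ * b)) a := by
      rw [cj_inf, cj_cj]
      have e : a * (a⁻¹ * b) = b := by group
      rw [e]
    rw [h2, card_cj]
    exact h1
  · rintro K₁ ⟨a, rfl⟩ K₂ ⟨b, rfl⟩
    refine ⟨b * a⁻¹, ?_⟩
    rw [cj_cj]
    have e : b * a⁻¹ * a = b := by group
    rw [e]

/-- P2: normalizers of nontrivial 2-subgroups of a member normalize the member -/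
theorem Fam.normalizer_le [Finite G] {𝒦 : Set (Subgroup G)} (h : Fam 𝒦) {K : Subgroup G}
    (hK : K ∈ 𝒦) {X : Subgroup G} (hXK : X ≤ K) (hX2 : IsPGroup 2 X) (hXne : X ≠ ⊥) :
    Subgroup.normalizer (X : Set G) ≤ Subgroup.normalizer (K : Set G) := by
  intro n hn
  rw [← cj_eq_iff_mem_normalizer]
  by_contra hne
  apply hXne
  apply eq_bot_of_two_group_of_odd hX2 ?_ (h.odd _ hK _ (h.conj K hK n) (Ne.symm hne))
  intro x hx
  rw [Subgroup.mem_inf]
  refine ⟨hXK hx, ?_⟩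
  rw [mem_cj]
  apply hXK
  have hn' : n⁻¹ ∈ Subgroup.normalizer (X : Set G) := Subgroup.inv_mem _ hn
  have := (Subgroup.mem_normalizer_iff.1 hn' x).1 hx
  rwa [inv_inv] at this

/-- normalizers grow in 2-groups -/
theorem exists_mem_normalizer_not_mem [Finite G] {S A : Subgroup G} (hS : IsPGroup 2 S)
    (hAS : A ≤ S) (hne : A ≠ S) :
    ∃ s ∈ S, s ∉ A ∧ s ∈ Subgroup.normalizer (A : Set G) := by
  haveI : Fact (Nat.Prime 2) := ⟨Nat.prime_two⟩
  haveI : Group.IsNilpotent S := hS.isNilpotent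
  have hnc : NormalizerCondition S := Group.normalizerCondition_of_isNilpotent
  have hlt : A.subgroupOf S < ⊤ := by
    rw [lt_top_iff_ne_top]
    intro h
    apply hne
    rw [Subgroup.subgroupOf_eq_top] at h
    exact le_antisymm hAS h
  have h1 := hnc _ hlt
  obtain ⟨s, hsN, hsA⟩ := SetLike.exists_of_lt h1
  refine ⟨s.1, s.2, ?_, ?_⟩
  · intro h
    exact hsA (Subgroup.mem_subgroupOf.2 h)
  · rw [Subgroup.mem_normalizer_iff]
    intro a
    rw [Subgroup.mem_normalizer_iff] at hsN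
    constructor
    · intro ha
      have := (hsN ⟨a, hAS ha⟩).1 (Subgroup.mem_subgroupOf.2 ha)
      rw [Subgroup.mem_subgroupOf] at this
      simpa using this
    · intro ha
      have haS : a ∈ S := by
        have h2 := S.mul_mem (S.mul_mem (S.inv_mem s.2) (hAS ha)) s.2
        have e : (s : G)⁻¹ * (↑s * a * (↑s)⁻¹) * ↑s = a := by group
        rwa [e] at h2
      have := (hsN ⟨a, haS⟩).2 (by
        rw [Subgroup.mem_subgroupOf]
        simpa using ha)
      exact Subgroup.mem_subgroupOf.1 this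


theorem card_eq_mul_relIndex {T X : Subgroup G} (hTX : T ≤ X) :
    Nat.card X = Nat.card T * T.relIndex X := by
  have := Subgroup.relIndex_mul_relIndex ⊥ T X (bot_le : (⊥ : Subgroup G) ≤ T) hTX
  rw [Subgroup.relIndex_bot_left, Subgroup.relIndex_bot_left] at this
  exact this.symm

theorem two_group_card_dvd [Finite G] {T' : Subgroup G} (hT' : IsPGroup 2 T') {m r : ℕ}
    (h : Nat.card T' ∣ m * r) (hr : ¬ 2 ∣ r) : Nat.card T' ∣ m := by
  haveI : Fact (Nat.Prime 2) := ⟨Nat.prime_two⟩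
  obtain ⟨n, hn⟩ := IsPGroup.iff_card.1 hT'
  rw [hn] at h ⊢
  apply Nat.Coprime.dvd_of_dvd_mul_right _ h
  apply Nat.Coprime.pow_left
  exact (Nat.Prime.coprime_iff_not_dvd Nat.prime_two).2 hr

theorem sylowlike_card_dvd [Finite G] {T T' X : Subgroup G} (hTX : T ≤ X) (hT'X : T' ≤ X)
    (hT' : IsPGroup 2 T') (hodd : ¬ 2 ∣ T.relIndex X) : Nat.card T' ∣ Nat.card T := by
  have h1 : Nat.card T' ∣ Nat.card X := Subgroup.card_dvd_of_le hT'X
  rw [card_eq_mul_relIndex hTX] at h1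
  exact two_group_card_dvd hT' h1 hodd

theorem exists_sylowlike [Finite G] {A X : Subgroup G} (hAX : A ≤ X) (hA : IsPGroup 2 A) :
    ∃ B : Subgroup G, A ≤ B ∧ B ≤ X ∧ IsPGroup 2 B ∧ ¬ 2 ∣ B.relIndex X := by
  haveI : Fact (Nat.Prime 2) := ⟨Nat.prime_two⟩
  have hA' : IsPGroup 2 (A.subgroupOf X) :=
    hA.of_equiv (Subgroup.subgroupOfEquivOfLe hAX).symm
  obtain ⟨P, hP⟩ := hA'.exists_le_sylow
  refine ⟨(P : Subgroup X).map X.subtype, ?_, Subgroup.map_subtype_le _, ?_, ?_⟩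
  · intro a ha
    exact ⟨⟨a, hAX ha⟩, hP (Subgroup.mem_subgroupOf.2 ha), rfl⟩
  · exact P.2.map _
  · have : ((P : Subgroup X).map X.subtype).subgroupOf X = P := by
      ext x
      rw [Subgroup.mem_subgroupOf, Subgroup.mem_map]
      constructor
      · rintro ⟨y, hy, hyx⟩
        have : y = x := Subtype.ext hyx
        rwa [← this]
      · intro hx
        exact ⟨x, hx, rfl⟩
    rw [Subgroup.relIndex, this]
    exact P.not_dvd_index

/-- Sylow-like subgroups of `X` of the same order are conjugate in `X` -/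
theorem exists_cj_eq [Finite G] {X A B : Subgroup G} (hA : A ≤ X) (hB : B ≤ X)
    (hA2 : IsPGroup 2 A) (hoddA : ¬ 2 ∣ A.relIndex X) (hB2 : IsPGroup 2 B)
    (hcard : Nat.card A = Nat.card B) : ∃ k ∈ X, B = cj A k := by
  haveI : Fact (Nat.Prime 2) := ⟨Nat.prime_two⟩
  have hA' : IsPGroup 2 (A.subgroupOf X) :=
    hA2.of_equiv (Subgroup.subgroupOfEquivOfLe hA).symm
  have hB' : IsPGroup 2 (B.subgroupOf X) :=
    hB2.of_equiv (Subgroup.subgroupOfEquivOfLe hB).symm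
  have hoddB : ¬ 2 ∣ B.relIndex X := by
    have h1 := card_eq_mul_relIndex hA
    have h2 := card_eq_mul_relIndex hB
    rw [h1, hcard] at h2
    have hpos : 0 < Nat.card B := Nat.card_pos
    have := Nat.eq_of_mul_eq_mul_left hpos h2
    rw [← this]
    exact hoddA
  let PA : Sylow 2 X := hA'.toSylow hoddA
  let PB : Sylow 2 X := hB'.toSylow hoddB
  obtain ⟨k, hk⟩ := MulAction.exists_smul_eq X PA PB
  refine ⟨k.1, k.2, ?_⟩
  ext y
  rw [mem_cj]
  constructor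
  · intro hy
    have h1 : (⟨y, hB hy⟩ : X) ∈ (PB : Subgroup X) := by
      show (⟨y, hB hy⟩ : X) ∈ B.subgroupOf X
      exact Subgroup.mem_subgroupOf.2 hy
    rw [← hk, Sylow.coe_subgroup_smul, Subgroup.mem_pointwise_smul_iff_inv_smul_mem] at h1
    simp only [MulAut.smul_def, MulAut.inv_apply, MulAut.conj_symm_apply] at h1
    have h2 : k⁻¹ * (⟨y, hB hy⟩ : X) * k ∈ A.subgroupOf X := h1
    rw [Subgroup.mem_subgroupOf] at h2
    simpa using h2
  · intro hy
    have hyX : y ∈ X := by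
      have h1 := X.mul_mem (X.mul_mem k.2 (hA hy)) (X.inv_mem k.2)
      have e : (k : G) * ((k : G)⁻¹ * y * k) * (k : G)⁻¹ = y := by group
      rwa [e] at h1
    have h1 : (⟨y, hyX⟩ : X) ∈ (PB : Subgroup X) := by
      rw [← hk, Sylow.coe_subgroup_smul, Subgroup.mem_pointwise_smul_iff_inv_smul_mem]
      simp only [MulAut.smul_def, MulAut.inv_apply, MulAut.conj_symm_apply]
      show k⁻¹ * (⟨y, hyX⟩ : X) * k ∈ A.subgroupOf X
      rw [Subgroup.mem_subgroupOf]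
      simpa using hy
    have h2 : (⟨y, hyX⟩ : X) ∈ B.subgroupOf X := h1
    exact Subgroup.mem_subgroupOf.1 h2


/-- configuration for the key lemma -/
structure Cfg (𝒦 : Set (Subgroup G)) (K K' T S : Subgroup G) : Prop where
  fam : Fam 𝒦
  hK : K ∈ 𝒦
  hK' : K' ∈ 𝒦
  hne : K ≠ K'
  hT2 : IsPGroup 2 T
  hTne : T ≠ ⊥
  hTK' : T ≤ K'
  hTN : T ≤ Subgroup.normalizer (K : Set G)
  hS2 : IsPGroup 2 S
  hTS : T ≤ S
  hSKT : S ≤ K ⊔ T

namespace Cfg

variable [Finite G] {𝒦 : Set (Subgroup G)} {K K' T S : Subgroup G}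

/-- the subgroup `W = N_S(T) ∩ K` -/
abbrev W (K T S : Subgroup G) : Subgroup G := S ⊓ Subgroup.normalizer (T : Set G) ⊓ K

theorem W_two (c : Cfg 𝒦 K K' T S) : IsPGroup 2 (W K T S) :=
  c.hS2.to_le (inf_le_left.trans inf_le_left)

theorem T_inf_K (c : Cfg 𝒦 K K' T S) : T ⊓ K = ⊥ := by
  apply eq_bot_of_two_group_of_odd (c.hT2.to_le inf_le_left) ?_
    (c.fam.odd _ c.hK' _ c.hK (Ne.symm c.hne))
  exact inf_le_inf_right _ c.hTK'

theorem S_le_normalizer (c : Cfg 𝒦 K K' T S) : S ≤ Subgroup.normalizer (K : Set G) :=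
  c.hSKT.trans (sup_le Subgroup.le_normalizer c.hTN)

theorem comm (c : Cfg 𝒦 K K' T S) {t w : G} (ht : t ∈ T) (hw : w ∈ W K T S) : t * w = w * t := by
  have hwK : w ∈ K := hw.2
  have hwN : w ∈ Subgroup.normalizer (T : Set G) := hw.1.2
  have h1 : t * w * t⁻¹ * w⁻¹ ∈ K := by
    have := (Subgroup.mem_normalizer_iff.1 (c.hTN ht) w).1 hwK
    exact K.mul_mem this (K.inv_mem hwK)
  have h2 : t * w * t⁻¹ * w⁻¹ ∈ T := by
    have := (Subgroup.mem_normalizer_iff.1 hwN t⁻¹).1 (T.inv_mem ht)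
    have h3 := T.mul_mem ht this
    have e : t * (w * t⁻¹ * w⁻¹) = t * w * t⁻¹ * w⁻¹ := by group
    rwa [e] at h3
  have h3 : t * w * t⁻¹ * w⁻¹ ∈ T ⊓ K := ⟨h2, h1⟩
  rw [c.T_inf_K, Subgroup.mem_bot] at h3
  have : t * w = (t * w * t⁻¹ * w⁻¹) * (w * t) := by group
  rw [this, h3, one_mul]

theorem centralizer_T_le (c : Cfg 𝒦 K K' T S) {w : G} (hw : ∀ t ∈ T, t * w = w * t) :
    w ∈ Subgroup.normalizer (K' : Set G) := by
  apply c.fam.normalizer_le c.hK' c.hTK' c.hT2 c.hTne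
  rw [Subgroup.mem_normalizer_iff]
  intro t
  constructor
  · intro ht
    have : w * t * w⁻¹ = t := by rw [← hw t ht]; group
    rwa [this]
  · intro ht
    have h1 := hw _ ht
    have : t = w * t * w⁻¹ := by
      have e : w * t * w⁻¹ * w = w * (w * t * w⁻¹) := by rw [h1]
      have e2 : w * t * w⁻¹ * w = w * t := by group
      rw [e2] at e
      exact mul_left_cancel e
    rw [this]; exact ht

theorem W_le_normalizer_K' (c : Cfg 𝒦 K K' T S) : W K T S ≤ Subgroup.normalizer (K' : Set G) :=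
  fun _ hw => c.centralizer_T_le (fun _ ht => c.comm ht hw)

theorem decomp (c : Cfg 𝒦 K K' T S) {x : G}
    (hx : x ∈ S ⊓ Subgroup.normalizer (T : Set G)) : ∃ w ∈ W K T S, ∃ t ∈ T, x = w * t := by
  have hxKT : x ∈ K ⊔ T := c.hSKT hx.1
  have hset := Subgroup.coe_mul_of_right_le_normalizer_left K T c.hTN
  have hx' : x ∈ ((K ⊔ T : Subgroup G) : Set G) := hxKT
  rw [hset, Set.mem_mul] at hx'
  obtain ⟨k, hk, t, ht, rfl⟩ := hx'
  refine ⟨k, ⟨⟨?_, ?_⟩, hk⟩, t, ht, rfl⟩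
  · have := S.mul_mem hx.1 (S.inv_mem (c.hTS ht))
    simpa using this
  · have h1 : t ∈ Subgroup.normalizer (T : Set G) := Subgroup.le_normalizer ht
    have := Subgroup.mul_mem _ hx.2 (Subgroup.inv_mem _ h1)
    simpa using this

theorem NT_le (c : Cfg 𝒦 K K' T S) :
    S ⊓ Subgroup.normalizer (T : Set G) ≤ Subgroup.normalizer (K' : Set G) := by
  intro x hx
  obtain ⟨w, hw, t, ht, rfl⟩ := c.decomp hx
  exact Subgroup.mul_mem _ (c.W_le_normalizer_K' hw) (Subgroup.le_normalizer (c.hTK' ht))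

theorem W_inf_K' (c : Cfg 𝒦 K K' T S) : W K T S ⊓ K' = ⊥ := by
  apply eq_bot_of_two_group_of_odd (c.W_two.to_le inf_le_left) ?_
    (c.fam.odd _ c.hK _ c.hK' c.hne)
  exact inf_le_inf_right _ inf_le_right

theorem K'_inf_NT (c : Cfg 𝒦 K K' T S) :
    K' ⊓ (S ⊓ Subgroup.normalizer (T : Set G)) ≤ T := by
  intro x hx
  obtain ⟨w, hw, t, ht, rfl⟩ := c.decomp hx.2
  have hwK' : w ∈ K' := by
    have := K'.mul_mem hx.1 (K'.inv_mem (c.hTK' ht))
    simpa using this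
  have : w ∈ W K T S ⊓ K' := ⟨hw, hwK'⟩
  rw [c.W_inf_K', Subgroup.mem_bot] at this
  rw [this, one_mul]
  exact ht

theorem T_le_NT (c : Cfg 𝒦 K K' T S) : T ≤ S ⊓ Subgroup.normalizer (T : Set G) :=
  le_inf c.hTS Subgroup.le_normalizer

end Cfg

/-- the quotient argument: `A` and `W` both embed in `N(T)/T`, the image of `A` inside that of `W` -/
theorem quot_arg [Finite G] {T W A : Subgroup G} (hW : W ≤ Subgroup.normalizer (T : Set G))
    (hA : A ≤ Subgroup.normalizer (T : Set G)) (hWT : W ⊓ T = ⊥) (hAT : A ⊓ T = ⊥)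
    (hAWT : ∀ a ∈ A, ∃ w ∈ W, ∃ t ∈ T, a = w * t) :
    Nat.card A ≤ Nat.card W ∧ (Nat.card A = Nat.card W → Nonempty (W ≃* A)) := by
  set N : Subgroup G := Subgroup.normalizer (T : Set G) with hN
  haveI : (T.subgroupOf N).Normal := Subgroup.normal_subgroupOf_of_le_normalizer le_rfl
  let q : N →* N ⧸ T.subgroupOf N := QuotientGroup.mk' _
  let fW : W →* N ⧸ T.subgroupOf N := q.comp (Subgroup.inclusion hW)
  let fA : A →* N ⧸ T.subgroupOf N := q.comp (Subgroup.inclusion hA)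
  have hinj : ∀ {B : Subgroup G} (hB : B ≤ N) (hBT : B ⊓ T = ⊥),
      Function.Injective (q.comp (Subgroup.inclusion hB)) := by
    intro B hB hBT
    rw [injective_iff_map_eq_one]
    intro b hb
    have h1 : (Subgroup.inclusion hB b) ∈ T.subgroupOf N := by
      rw [← QuotientGroup.eq_one_iff]
      exact hb
    rw [Subgroup.mem_subgroupOf] at h1
    have h2 : (b : G) ∈ B ⊓ T := ⟨b.2, h1⟩
    rw [hBT, Subgroup.mem_bot] at h2
    exact Subtype.ext h2
  have hWinj : Function.Injective fW := hinj hW hWT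
  have hAinj : Function.Injective fA := hinj hA hAT
  have hle : fA.range ≤ fW.range := by
    rintro _ ⟨a, rfl⟩
    obtain ⟨w, hw, t, ht, hawt⟩ := hAWT a.1 a.2
    refine ⟨⟨w, hw⟩, ?_⟩
    show q (Subgroup.inclusion hW ⟨w, hw⟩) = q (Subgroup.inclusion hA a)
    rw [eq_comm]
    show (QuotientGroup.mk (Subgroup.inclusion hA a) : N ⧸ T.subgroupOf N) =
      QuotientGroup.mk (Subgroup.inclusion hW ⟨w, hw⟩)
    rw [QuotientGroup.eq, Subgroup.mem_subgroupOf]
    have : (((Subgroup.inclusion hA a)⁻¹ * (Subgroup.inclusion hW ⟨w, hw⟩) : N) : G) =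
        (a : G)⁻¹ * w := rfl
    rw [this, hawt]
    have e : (w * t)⁻¹ * w = t⁻¹ := by group
    rw [e]
    exact T.inv_mem ht
  have hcA : Nat.card fA.range = Nat.card A :=
    (Nat.card_congr (MonoidHom.ofInjective hAinj).toEquiv).symm
  have hcW : Nat.card fW.range = Nat.card W :=
    (Nat.card_congr (MonoidHom.ofInjective hWinj).toEquiv).symm
  refine ⟨?_, ?_⟩
  · rw [← hcA, ← hcW]
    exact Subgroup.card_le_of_le hle
  · intro hcard
    have heq : fA.range = fW.range := by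
      apply Subgroup.eq_of_le_of_card_ge hle
      rw [hcA, hcW, hcard]
    exact ⟨(MonoidHom.ofInjective hWinj).trans
      ((MulEquiv.subgroupCongr heq.symm).trans (MonoidHom.ofInjective hAinj).symm)⟩

namespace Cfg

variable [Finite G] {𝒦 : Set (Subgroup G)} {K K' T S : Subgroup G}

theorem W_inf_T (c : Cfg 𝒦 K K' T S) : W K T S ⊓ T = ⊥ := by
  rw [eq_bot_iff, ← c.T_inf_K]
  intro x hx
  exact ⟨hx.2, hx.1.2⟩

theorem case_two (c : Cfg 𝒦 K K' T S) (hnot : ¬ S ≤ Subgroup.normalizer (T : Set G)) :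
    Nat.card T ≤ Nat.card (W K T S) ∧
      (Nat.card T = Nat.card (W K T S) → Nonempty (W K T S ≃* T)) := by
  set NT : Subgroup G := S ⊓ Subgroup.normalizer (T : Set G) with hNT
  have hNTS : NT ≤ S := inf_le_left
  have hNTne : NT ≠ S := by
    intro h
    apply hnot
    rw [← h]
    exact inf_le_right
  obtain ⟨s, hsS, hsNT, hsN⟩ := exists_mem_normalizer_not_mem c.hS2 hNTS hNTne
  have hsN' : s⁻¹ ∈ Subgroup.normalizer (NT : Set G) := Subgroup.inv_mem _ hsN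
  set T'' : Subgroup G := cj T s with hT''
  have hT''NT : T'' ≤ NT := by
    intro y hy
    rw [hT'', mem_cj] at hy
    have := (Subgroup.mem_normalizer_iff.1 hsN _).1 (c.T_le_NT hy)
    have e : s * (s⁻¹ * y * s) * s⁻¹ = y := by group
    rwa [e] at this
  have hK''ne : cj K' s ≠ K' := by
    intro h
    apply hsNT
    refine ⟨hsS, ?_⟩
    show s ∈ Subgroup.normalizer (T : Set G)
    rw [← cj_eq_iff_mem_normalizer]
    apply Subgroup.eq_of_le_of_card_ge
    · intro y hy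
      apply c.K'_inf_NT
      refine ⟨?_, hT''NT hy⟩
      rw [← h]
      exact Subgroup.map_mono c.hTK' hy
    · rw [card_cj]
  have hT''T : T'' ⊓ T = ⊥ := by
    apply eq_bot_of_two_group_of_odd (c.hT2.to_le inf_le_right) ?_
      (c.fam.odd _ (c.fam.conj K' c.hK' s) _ c.hK' hK''ne)
    exact inf_le_inf (Subgroup.map_mono c.hTK') c.hTK'
  have h1 := quot_arg (T := T) (W := W K T S) (A := T'') (inf_le_left.trans inf_le_right)
    (hT''NT.trans inf_le_right) c.W_inf_T hT''T (fun a ha => c.decomp (hT''NT ha))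
  have hcard : Nat.card T'' = Nat.card T := card_cj T s
  have hiso : T ≃* T'' := (MulAut.conj s).subgroupMap T
  rw [hcard] at h1
  refine ⟨h1.1, fun h => ?_⟩
  obtain ⟨e⟩ := h1.2 h
  exact ⟨e.trans hiso.symm⟩

end Cfg

namespace Cfg

variable [Finite G] {𝒦 : Set (Subgroup G)} {K K' T S : Subgroup G}

theorem sup_eq (c : Cfg 𝒦 K K' T S) : T ⊔ (S ⊓ K) = S := by
  apply le_antisymm (sup_le c.hTS inf_le_left)
  intro x hx
  have hxKT : x ∈ K ⊔ T := c.hSKT hx
  have hset := Subgroup.coe_mul_of_right_le_normalizer_left K T c.hTN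
  have hx' : x ∈ ((K ⊔ T : Subgroup G) : Set G) := hxKT
  rw [hset, Set.mem_mul] at hx'
  obtain ⟨k, hk, t, ht, rfl⟩ := hx'
  have hkS : k ∈ S := by
    have := S.mul_mem hx (S.inv_mem (c.hTS ht))
    simpa using this
  exact (T ⊔ (S ⊓ K)).mul_mem (Subgroup.mem_sup_right ⟨hkS, hk⟩) (Subgroup.mem_sup_left ht)

theorem odd_relIndex (c : Cfg 𝒦 K K' T S) (hodd : ¬ 2 ∣ S.relIndex (K ⊔ T)) :
    ¬ 2 ∣ (S ⊓ K).relIndex K := by
  have h1 := Cfsg.Agent.Lib.Helper1.GlaubermanRepl.card_sup_mul_card_inf_of_le_normalizer T K c.hTN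
  rw [c.T_inf_K, Subgroup.card_bot, mul_one] at h1
  have hTN2 : T ≤ Subgroup.normalizer ((S ⊓ K : Subgroup G) : Set G) :=
    (le_inf (c.hTS.trans Subgroup.le_normalizer) c.hTN).trans
      Subgroup.inf_normalizer_le_normalizer_inf
  have h2 := Cfsg.Agent.Lib.Helper1.GlaubermanRepl.card_sup_mul_card_inf_of_le_normalizer T (S ⊓ K)
    hTN2
  have hbot : T ⊓ (S ⊓ K) = ⊥ := by
    rw [eq_bot_iff, ← c.T_inf_K]
    exact inf_le_inf_left _ inf_le_right
  rw [hbot, Subgroup.card_bot, mul_one, c.sup_eq] at h2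
  have h3 := card_eq_mul_relIndex c.hSKT
  have h4 := card_eq_mul_relIndex (inf_le_right : S ⊓ K ≤ K)
  rw [sup_comm, h1, h2, h4] at h3
  have hpos : 0 < Nat.card T * Nat.card (S ⊓ K : Subgroup G) :=
    Nat.mul_pos Nat.card_pos Nat.card_pos
  have h5 : (S ⊓ K).relIndex K = S.relIndex (K ⊔ T) := by
    apply Nat.eq_of_mul_eq_mul_left hpos
    rw [sup_comm K T, ← h3]; ring
  rw [h5]
  exact hodd

theorem card_K_eq (c : Cfg 𝒦 K K' T S) : Nat.card K' = Nat.card K := by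
  obtain ⟨x, hx⟩ := c.fam.trans K c.hK K' c.hK'
  rw [hx, card_cj]

theorem W_eq_of_le (c : Cfg 𝒦 K K' T S) (hN : S ≤ Subgroup.normalizer (T : Set G)) :
    W K T S = S ⊓ K := by
  show S ⊓ Subgroup.normalizer (T : Set G) ⊓ K = S ⊓ K
  rw [inf_eq_left.2 hN]

theorem card_dvd_case_one (c : Cfg 𝒦 K K' T S) (hodd : ¬ 2 ∣ S.relIndex (K ⊔ T)) :
    Nat.card T ∣ Nat.card (S ⊓ K : Subgroup G) := by
  have h1 : Nat.card T ∣ Nat.card K' := Subgroup.card_dvd_of_le c.hTK'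
  rw [c.card_K_eq, card_eq_mul_relIndex (inf_le_right : S ⊓ K ≤ K)] at h1
  exact two_group_card_dvd c.hT2 h1 (c.odd_relIndex hodd)

theorem card_le (c : Cfg 𝒦 K K' T S) (hodd : ¬ 2 ∣ S.relIndex (K ⊔ T)) :
    Nat.card T ≤ Nat.card (W K T S) := by
  by_cases hN : S ≤ Subgroup.normalizer (T : Set G)
  · rw [c.W_eq_of_le hN]
    exact Nat.le_of_dvd Nat.card_pos (c.card_dvd_case_one hodd)
  · exact (c.case_two hN).1

end Cfg

namespace Cfg

variable [Finite G] {𝒦 : Set (Subgroup G)} {K K' T S : Subgroup G}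

theorem card_W_le (c : Cfg 𝒦 K K' T S) (hodd : ¬ 2 ∣ S.relIndex (K ⊔ T))
    (hTsyl : ¬ 2 ∣ T.relIndex (K' ⊓ Subgroup.normalizer (K : Set G))) :
    Nat.card (W K T S) ≤ Nat.card T := by
  have hWne : W K T S ≠ ⊥ := by
    intro h
    have h1 := c.card_le hodd
    rw [h, Subgroup.card_bot] at h1
    apply c.hTne
    rw [← Subgroup.card_eq_one]
    have : 0 < Nat.card T := Nat.card_pos
    omega
  have hWle : W K T S ≤ K ⊓ Subgroup.normalizer (K' : Set G) :=
    le_inf inf_le_right c.W_le_normalizer_K'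
  obtain ⟨W₁, hWW₁, hW₁le, hW₁2, hW₁odd⟩ := exists_sylowlike hWle c.W_two
  have hW₁ne : W₁ ≠ ⊥ := by
    intro h
    apply hWne
    rw [eq_bot_iff, ← h]
    exact hWW₁
  obtain ⟨S₁, hW₁S₁, hS₁le, hS₁2, hS₁odd⟩ :=
    exists_sylowlike (le_sup_right : W₁ ≤ K' ⊔ W₁) hW₁2
  have c' : Cfg 𝒦 K' K W₁ S₁ :=
    { fam := c.fam
      hK := c.hK'
      hK' := c.hK
      hne := c.hne.symm
      hT2 := hW₁2
      hTne := hW₁ne
      hTK' := hW₁le.trans inf_le_left
      hTN := hW₁le.trans inf_le_right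
      hS2 := hS₁2
      hTS := hW₁S₁
      hSKT := hS₁le }
  have h1 := c'.card_le hS₁odd
  have h2 : W K' W₁ S₁ ≤ K' ⊓ Subgroup.normalizer (K : Set G) := by
    refine le_inf inf_le_right ?_
    refine (inf_le_left.trans inf_le_right).trans ?_
    exact c.fam.normalizer_le c.hK (hW₁le.trans inf_le_left) hW₁2 hW₁ne
  have h3 := sylowlike_card_dvd (le_inf c.hTK' c.hTN) h2 c'.W_two hTsyl
  have h4 : Nat.card (W K T S) ≤ Nat.card W₁ := Subgroup.card_le_of_le hWW₁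
  have h5 := Nat.le_of_dvd Nat.card_pos h3
  omega

end Cfg

theorem result' [Finite G] (Q : Subgroup G) (hQ : Cfsg.IsTightlyEmbedded Q)
    (g : G) (hg : g ∉ Subgroup.normalizer (Q : Set G))
    (T : Subgroup G) (hT1 : T ≠ ⊥) (hT : T ≤ Q.map (MulAut.conj g).toMonoidHom ⊓ Subgroup.normalizer (Q : Set G))
    (hTsyl : IsPGroup 2 T ∧ ¬ 2 ∣ T.relIndex (Q.map (MulAut.conj g).toMonoidHom ⊓ Subgroup.normalizer (Q : Set G)))
    (S : Subgroup G) (hTS : T ≤ S) (hS : S ≤ Q ⊔ T) (hSsyl : IsPGroup 2 S ∧ ¬ 2 ∣ S.relIndex (Q ⊔ T)) :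
    T ⊓ Q = ⊥ ∧
      T ⊓ (S ⊓ Subgroup.normalizer (T : Set G) ⊓ Q) = ⊥ ∧
      ⁅T, S ⊓ Subgroup.normalizer (T : Set G) ⊓ Q⁆ = ⊥ ∧
      T ⊔ (S ⊓ Subgroup.normalizer (T : Set G) ⊓ Q) = S ⊓ Subgroup.normalizer (T : Set G) ∧
      Nonempty (↥(S ⊓ Subgroup.normalizer (T : Set G) ⊓ Q) ≃* T) := by
  set 𝒦 : Set (Subgroup G) := {K : Subgroup G | ∃ x : G, K = cj Q x} with h𝒦
  have fam : Fam 𝒦 := fam_of_tight Q hQ
  have hne : Q ≠ cj Q g := by
    intro h
    apply hg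
    rw [← cj_eq_iff_mem_normalizer]
    exact h.symm
  have c : Cfg 𝒦 Q (cj Q g) T S :=
    { fam := fam
      hK := ⟨1, (cj_one Q).symm⟩
      hK' := ⟨g, rfl⟩
      hne := hne
      hT2 := hTsyl.1
      hTne := hT1
      hTK' := hT.trans inf_le_left
      hTN := hT.trans inf_le_right
      hS2 := hSsyl.1
      hTS := hTS
      hSKT := hS }
  refine ⟨c.T_inf_K, ?_, ?_, ?_, ?_⟩
  · rw [inf_comm]
    exact c.W_inf_T
  · rw [Subgroup.commutator_eq_bot_iff_le_centralizer]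
    intro t ht
    rw [Subgroup.mem_centralizer_iff]
    intro w hw
    exact (c.comm ht hw).symm
  · apply le_antisymm
    · exact sup_le c.T_le_NT inf_le_left
    · intro x hx
      obtain ⟨w, hw, t, ht, rfl⟩ := c.decomp hx
      exact Subgroup.mul_mem _ (Subgroup.mem_sup_right hw) (Subgroup.mem_sup_left ht)
  · have hcard : Nat.card T = Nat.card (Cfg.W Q T S) :=
      le_antisymm (c.card_le hSsyl.2) (c.card_W_le hSsyl.2 hTsyl.2)
    by_cases hN : S ≤ Subgroup.normalizer (T : Set G)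
    · -- T is normal in S
      have hWeq := c.W_eq_of_le hN
      have hWodd : ¬ 2 ∣ (Cfg.W Q T S).relIndex Q := by
        rw [hWeq]; exact c.odd_relIndex hSsyl.2
      have hW'odd : ¬ 2 ∣ (cj (Cfg.W Q T S) g).relIndex (cj Q g) := by
        rw [Subgroup.relIndex_map_map_of_injective _ _ (MulAut.conj g).injective]
        exact hWodd
      have hW'le : cj (Cfg.W Q T S) g ≤ cj Q g := Subgroup.map_mono inf_le_right
      obtain ⟨k, -, hk⟩ := exists_cj_eq hW'le c.hTK' (c.W_two.map _) hW'odd c.hT2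
        (by rw [card_cj, hcard])
      have e1 : Cfg.W Q T S ≃* cj (Cfg.W Q T S) g := (MulAut.conj g).subgroupMap _
      have e2 : cj (Cfg.W Q T S) g ≃* cj (cj (Cfg.W Q T S) g) k := (MulAut.conj k).subgroupMap _
      exact ⟨e1.trans (e2.trans (MulEquiv.subgroupCongr hk.symm))⟩
    · exact (c.case_two hN).2 hcard




/-- Let Q be a tightly embedded subgroup of a finite group G, g an element outside N_G(Q), T a nontrivial Sylow 2-subgroup of Q^g ∩ N_G(Q), and S a Sylow 2-subgroup of QT containing T. Then T ∩ Q = 1, and N_S(T) is the direct product of T and N_S(T) ∩ Q, with N_S(T) ∩ Q isomorphic to T. -/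
theorem result {G : Type*} [Group G] [Finite G] (Q : Subgroup G) (hQ : Cfsg.IsTightlyEmbedded Q)
    (g : G) (hg : g ∉ Subgroup.normalizer (Q : Set G))
    (T : Subgroup G) (hT1 : T ≠ ⊥) (hT : T ≤ Q.map (MulAut.conj g).toMonoidHom ⊓ Subgroup.normalizer (Q : Set G))
    (hTsyl : IsPGroup 2 T ∧ ¬ 2 ∣ T.relIndex (Q.map (MulAut.conj g).toMonoidHom ⊓ Subgroup.normalizer (Q : Set G)))
    (S : Subgroup G) (hTS : T ≤ S) (hS : S ≤ Q ⊔ T) (hSsyl : IsPGroup 2 S ∧ ¬ 2 ∣ S.relIndex (Q ⊔ T)) :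
    T ⊓ Q = ⊥ ∧
      T ⊓ (S ⊓ Subgroup.normalizer (T : Set G) ⊓ Q) = ⊥ ∧
      ⁅T, S ⊓ Subgroup.normalizer (T : Set G) ⊓ Q⁆ = ⊥ ∧
      T ⊔ (S ⊓ Subgroup.normalizer (T : Set G) ⊓ Q) = S ⊓ Subgroup.normalizer (T : Set G) ∧
      Nonempty (↥(S ⊓ Subgroup.normalizer (T : Set G) ⊓ Q) ≃* T) := by
  exact result' Q hQ g hg T hT1 hT hTsyl S hTS hS hSsyl

end Cfsg.Agent.S1910
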