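import Cfsg.Statements.S1921
import Mathlib
import Cfsg.Agent.Lib.Helper2.Components2
import Cfsg.Agent.Lib.Helper8.SigFun

set_option autoImplicit false
open Cfsg

namespace Cfsg.Agent.S1921

/-- Let a be an involution of a finite group H and L a component of H with a L a⁻¹ ≠ L; put M = ⟨L, aLa⁻¹⟩ and let J be the subgroup generated by the elements x · a x a⁻¹ with x ∈ L (the diagonal). Then every element of M outside J·Z(M) generates M together with J. -/
theorem result {H : Type*} [Group H] [Finite H] (a : H) (ha : orderOf a = 2) (L : Subgroup H) (hL : Cfsg.IsComponent L)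
    (hLa : L.map (MulAut.conj a).toMonoidHom ≠ L) (x : H) (hxM : x ∈ L ⊔ L.map (MulAut.conj a).toMonoidHom)
    (hxJ : x ∉ Subgroup.closure {y : H | ∃ l ∈ L, y = l * (a * l * a⁻¹)} ⊔
      ((L ⊔ L.map (MulAut.conj a).toMonoidHom) ⊓ Subgroup.centralizer ((L ⊔ L.map (MulAut.conj a).toMonoidHom : Subgroup H) : Set H))) :
    Subgroup.closure {y : H | ∃ l ∈ L, y = l * (a * l * a⁻¹)} ⊔ Subgroup.zpowers x = L ⊔ L.map (MulAut.conj a).toMonoidHom := by
  set La := L.map (MulAut.conj a).toMonoidHom with hLa'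
  set M := L ⊔ La with hM
  set J := Subgroup.closure {y : H | ∃ l ∈ L, y = l * (a * l * a⁻¹)} with hJ
  have hLac : Cfsg.IsComponent La := Cfsg.Agent.Lib.Helper2.isComponent_conj a hL
  have hcomm : ⁅L, La⁆ = ⊥ :=
    (Cfsg.Agent.Lib.Helper2.isComponent_eq_or_commutator_eq_bot hL hLac).resolve_left
      (fun h => hLa h.symm)
  have hLaC : La ≤ Subgroup.centralizer (L : Set H) := by
    rw [Subgroup.commutator_comm, Subgroup.commutator_eq_bot_iff_le_centralizer] at hcomm
    exact hcomm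
  have hc : ∀ l ∈ L, ∀ m ∈ La, l * m = m * l := by
    intro l hl m hm
    exact Subgroup.mem_centralizer_iff.1 (hLaC hm) l hl
  have hconj : ∀ l ∈ L, a * l * a⁻¹ ∈ La := by
    intro l hl
    exact ⟨l, hl, by rw [MulEquiv.coe_toMonoidHom, MulAut.conj_apply]⟩
  have hjmem : ∀ l ∈ L, l * (a * l * a⁻¹) ∈ J := by
    intro l hl
    exact Subgroup.subset_closure ⟨l, hl, rfl⟩
  have hJM : J ≤ M := by
    rw [hJ, Subgroup.closure_le]
    rintro _ ⟨l, hl, rfl⟩
    exact Subgroup.mul_mem _ (le_sup_left (a := L) hl) (le_sup_right (b := La) (hconj l hl))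
  apply le_antisymm
  · exact sup_le hJM ((Subgroup.zpowers_le).2 hxM)
  · set K := J ⊔ Subgroup.zpowers x with hK
    have hJK : J ≤ K := le_sup_left
    have hxK : x ∈ K := le_sup_right (a := J) (Subgroup.mem_zpowers x)
    -- decompose `x`
    have hLaN : La ≤ Subgroup.normalizer (L : Set H) := hLaC.trans (Subgroup.centralizer_le_normalizer _)
    obtain ⟨l₁, hl₁, m₂, hm₂, hx⟩ :=
      (Cfsg.Agent.Lib.Helper8.SigFun.mem_sup_iff_of_le_normalizer hLaN).1 hxM
    obtain ⟨l₂, hl₂, rfl⟩ := hm₂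
    rw [MulEquiv.coe_toMonoidHom, MulAut.conj_apply] at hx
    set l := l₁ * l₂⁻¹ with hl
    have hlL : l ∈ L := L.mul_mem hl₁ (L.inv_mem hl₂)
    have hxl : x = l * (l₂ * (a * l₂ * a⁻¹)) := by rw [hx, hl]; group
    have hlK : l ∈ K := by
      have : l = x * (l₂ * (a * l₂ * a⁻¹))⁻¹ := by rw [hxl]; group
      rw [this]
      exact K.mul_mem hxK (K.inv_mem (hJK (hjmem l₂ hl₂)))
    -- `l` is not central in `L`
    have hlnc : ¬ ∀ k ∈ L, k * l = l * k := by
      intro hcen
      apply hxJ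
      rw [hxl, sup_comm]
      apply Subgroup.mul_mem_sup _ (hjmem l₂ hl₂)
      refine ⟨le_sup_left (a := L) hlL, ?_⟩
      show l ∈ Subgroup.centralizer (M : Set H)
      rw [Subgroup.mem_centralizer_iff]
      intro m hm
      have hm' : m ∈ L ⊔ La := hm
      obtain ⟨k, hk, n, hn, rfl⟩ :=
        (Cfsg.Agent.Lib.Helper8.SigFun.mem_sup_iff_of_le_normalizer hLaN).1 hm'
      calc k * n * l = k * (n * l) := by group
        _ = k * (l * n) := by rw [hc l hlL n hn]
        _ = (k * l) * n := by group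
        _ = (l * k) * n := by rw [hcen k hk]
        _ = l * (k * n) := by group
    -- `K ⊓ L` is normalized by `L`
    have hNn : L ≤ Subgroup.normalizer ((K ⊓ L : Subgroup H) : Set H) := by
      have key : ∀ k ∈ L, ∀ n ∈ K ⊓ L, k * n * k⁻¹ ∈ K ⊓ L := by
        intro k hk n hn
        refine ⟨?_, L.mul_mem (L.mul_mem hk hn.2) (L.inv_mem hk)⟩
        have h1 : (a * k * a⁻¹) * n = n * (a * k * a⁻¹) := (hc n hn.2 _ (hconj k hk)).symm
        have e : k * n * k⁻¹ = (k * (a * k * a⁻¹)) * n * (k * (a * k * a⁻¹))⁻¹ := by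
          calc k * n * k⁻¹ = k * (n * (a * k * a⁻¹)) * (a * k * a⁻¹)⁻¹ * k⁻¹ := by group
            _ = k * ((a * k * a⁻¹) * n) * (a * k * a⁻¹)⁻¹ * k⁻¹ := by rw [h1]
            _ = _ := by group
        rw [e]
        exact K.mul_mem (K.mul_mem (hJK (hjmem k hk)) hn.1) (K.inv_mem (hJK (hjmem k hk)))
      intro k hk
      rw [Subgroup.mem_normalizer_iff]
      intro n
      constructor
      · exact key k hk n
      · intro h
        have := key k⁻¹ (L.inv_mem hk) _ h
        have e : k⁻¹ * (k * n * k⁻¹) * k⁻¹⁻¹ = n := by group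
        rwa [e] at this
    haveI hnorm : ((K ⊓ L).subgroupOf L).Normal :=
      (Subgroup.normal_subgroupOf_iff_le_normalizer inf_le_right).2 hNn
    have hLK : L ≤ K := by
      rcases Cfsg.Agent.Lib.Helper2.isQuasisimple_normal_eq_top_or_le_center hL.2
        ((K ⊓ L).subgroupOf L) with h | h
      · rw [Subgroup.subgroupOf_eq_top] at h
        exact h.trans inf_le_left
      · exfalso
        apply hlnc
        intro k hk
        have hmem : (⟨l, hlL⟩ : ↥L) ∈ (K ⊓ L).subgroupOf L := by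
          rw [Subgroup.mem_subgroupOf]
          exact ⟨hlK, hlL⟩
        have h2 := Subgroup.mem_center_iff.1 (h hmem) ⟨k, hk⟩
        exact congrArg Subtype.val h2
    apply sup_le hLK
    rintro _ ⟨k, hk, rfl⟩
    rw [MulEquiv.coe_toMonoidHom, MulAut.conj_apply]
    have e : a * k * a⁻¹ = k⁻¹ * (k * (a * k * a⁻¹)) := by group
    rw [e]
    exact K.mul_mem (K.inv_mem (hLK hk)) (hJK (hjmem k hk))

end Cfsg.Agent.S1921
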