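import Cfsg.Statements.S1922
import Mathlib
import Cfsg.Agent.Lib.Lead.SETrans

set_option autoImplicit false
open Cfsg

namespace Cfsg.Agent.S1922


open Cfsg Cfsg.Agent.Lib.Lead Cfsg.Agent.Lib.Lead.SE

/-- an involutive self-map of a finite type with exactly one fixed point: the type has odd size -/
theorem odd_card_of_invol {α : Type*} [Finite α] (f : α → α) (hf : ∀ a, f (f a) = a) (a₀ : α)
    (h0 : f a₀ = a₀) (huniq : ∀ a, f a = a → a = a₀) : Odd (Nat.card α) := by
  classical
  haveI : Fintype α := Fintype.ofFinite α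
  haveI : Fact (Nat.Prime 2) := ⟨Nat.prime_two⟩
  let F : Function.End α := f
  have hF : F ^ 2 ^ 1 = 1 := by
    rw [pow_one, pow_two]
    funext a
    exact hf a
  have h1 := Equiv.Perm.card_fixedPoints_modEq (α := α) (f := F) (p := 2) (n := 1) hF
  have h2 : Fintype.card (Function.fixedPoints F) = 1 := by
    rw [Fintype.card_eq_one_iff]
    refine ⟨⟨a₀, h0⟩, ?_⟩
    rintro ⟨a, ha⟩
    exact Subtype.ext (huniq a ha)
  rw [h2] at h1
  rw [Nat.card_eq_fintype_card, Nat.odd_iff]
  exact h1


/-- hypotheses on a conjugation-closed set of "isolated" involutions -/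
structure IsoClass {G : Type*} [Group G] (Ω : Type*) [MulAction G Ω] (C : Set G) : Prop where
  conj : ∀ c ∈ C, ∀ g : G, g * c * g⁻¹ ∈ C
  invol : ∀ c ∈ C, orderOf c = 2
  uniq : ∀ c ∈ C, ∀ p q : Ω, c • p = p → c • q = q → p = q
  ex : ∀ p : Ω, ∃ c ∈ C, c • p = p
  fixc : ∀ c ∈ C, ∃ p : Ω, c • p = p
  prod : ∀ c ∈ C, ∀ d ∈ C, c ≠ d → c * d = d * c →
    ∀ p q : Ω, (c * d) • p = p → (c * d) • q = q → p = q

section
variable {G : Type*} [Group G] {Ω : Type*} [MulAction G Ω] {C : Set G}

theorem rot_conj_y {x y : G} (hx : orderOf x = 2) (hy : orderOf y = 2) (k : ℤ) :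
    (x * y) ^ k * y * ((x * y) ^ k)⁻¹ = (x * y) ^ (2 * k) * y := by
  have h := rot_conj_x hy hx (-k)
  have e : y * x = (x * y)⁻¹ := by
    rw [mul_inv_rev, invol_inv hx, invol_inv hy]
  rw [e] at h
  simp only [inv_zpow', neg_neg, mul_neg] at h
  exact h

theorem IsoClass.commute_fix (h : IsoClass Ω C) {c w : G} (hc : c ∈ C) (hcw : c * w = w * c)
    {p : Ω} (hp : c • p = p) : w • p = p := by
  apply h.uniq c hc _ _ ?_ hp
  rw [← mul_smul, hcw, mul_smul, hp]

theorem IsoClass.odd_mul [Finite G] (h : IsoClass Ω C) {c d : G} (hc : c ∈ C) (hd : d ∈ C)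
    {p q : Ω} (hp : c • p = p) (hq : d • q = q) (hpq : p ≠ q) : Odd (orderOf (c * d)) := by
  rw [← Nat.not_even_iff_odd]
  intro he
  have hc2 := h.invol c hc
  have hd2 := h.invol d hd
  obtain ⟨k, hk⟩ := he
  have hpos : 0 < orderOf (c * d) := orderOf_pos _
  have hkpos : 0 < k := by omega
  set r := c * d with hr
  set w := r ^ (k : ℤ) with hw
  have hw1 : w ≠ 1 := by
    rw [hw, zpow_natCast]
    intro h1
    have := orderOf_dvd_of_pow_eq_one h1
    have := Nat.le_of_dvd hkpos this
    omega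
  have hww : w * w = 1 := by
    rw [hw, ← zpow_add]
    rw [show (k : ℤ) + k = ((k + k : ℕ) : ℤ) by push_cast; ring, zpow_natCast, ← hk, pow_orderOf_eq_one]
  have hwinv : w⁻¹ = w := inv_eq_of_mul_eq_one_right hww
  have hcwc : c * w * c = w := by
    rw [hw, invol_mul_zpow_mul hc2 hd2, zpow_neg, ← hw, hwinv]
  have hcw : c * w = w * c := by
    have : c * w = c * w * c * c := by rw [mul_assoc (c * w), invol_mul_self hc2, mul_one]
    rw [this, hcwc]
  have hdwd : d * w * d = w := by
    have e : c * d = (d * c)⁻¹ := by rw [mul_inv_rev, invol_inv hc2, invol_inv hd2]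
    have h1 := invol_mul_zpow_mul hd2 hc2 (-(k : ℤ))
    have : (d * c) ^ (-(k : ℤ)) = w := by
      rw [hw, hr, e, inv_zpow', ]
    rw [this, neg_neg] at h1
    rw [h1]
    have : (d * c) ^ (k : ℤ) = w⁻¹ := by
      rw [hw, hr, e, inv_zpow', zpow_neg, inv_inv]
    rw [this, hwinv]
  have hdw : d * w = w * d := by
    have : d * w = d * w * d * d := by rw [mul_assoc (d * w), invol_mul_self hd2, mul_one]
    rw [this, hdwd]
  -- w * c ∈ C
  have hwcC : w * c ∈ C := by
    rcases Int.even_or_odd' (k : ℤ) with ⟨j, hj | hj⟩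
    · have := rot_conj_x hc2 hd2 j
      rw [← hj] at this
      rw [hw, ← this]
      exact h.conj c hc _
    · have := rot_conj_y hc2 hd2 (j + 1)
      have e : c = r * d := by rw [hr, mul_assoc, invol_mul_self hd2, mul_one]
      have e2 : w * c = r ^ (2 * (j + 1)) * d := by
        rw [hw, hj]
        conv_lhs => rw [e]
        rw [← mul_assoc, ← zpow_add_one]
        congr 2
        ring
      rw [e2, ← this]
      exact h.conj d hd _
  have hne : w * c ≠ c := by
    intro h1
    apply hw1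
    have := mul_right_cancel (h1.trans (one_mul c).symm)
    exact this
  have hcomm : (w * c) * c = c * (w * c) := by
    rw [← mul_assoc, hcw]
  have hprod : (w * c) * c = w := by rw [mul_assoc, invol_mul_self hc2, mul_one]
  have h1 := h.prod (w * c) hwcC c hc hne hcomm p q
  rw [hprod] at h1
  exact hpq (h1 (h.commute_fix hc hcw hp) (h.commute_fix hd hdw hq))

theorem IsoClass.exists_swap [Finite G] (h : IsoClass Ω C) {a d : G} (ha : a ∈ C) (hd : d ∈ C)
    {p q : Ω} (hp : a • p = p) (hq : d • q = q) (hpq : p ≠ q) :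
    ∃ e ∈ C, e * a * e⁻¹ = d ∧ e • p = q := by
  have ha2 := h.invol a ha
  have hd2 := h.invol d hd
  obtain ⟨k, hk⟩ := h.odd_mul ha hd hp hq hpq
  set r := a * d with hr
  set j : ℤ := (k : ℤ) ^ 2 + k with hj
  set e := r ^ j * a * (r ^ j)⁻¹ with he
  have heC : e ∈ C := h.conj a ha _
  have he2 := h.invol e heC
  have he' : e = r ^ (2 * j) * a := rot_conj_x ha2 hd2 j
  have hr1 : r ^ (4 * j) = r⁻¹ := by
    have h1 : r ^ (4 * j + 1) = 1 := by
      have : 4 * j + 1 = ((orderOf r : ℕ) : ℤ) * (2 * k + 1) := by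
        rw [hk, hj]; push_cast; ring
      rw [this, zpow_mul, zpow_natCast, pow_orderOf_eq_one, one_zpow]
    rw [zpow_add_one] at h1
    exact eq_inv_of_mul_eq_one_left h1
  have hconj : e * a * e⁻¹ = d := by
    rw [invol_inv he2, he']
    calc r ^ (2 * j) * a * a * (r ^ (2 * j) * a)
        = r ^ (2 * j) * (a * a) * (r ^ (2 * j) * a) := by group
      _ = r ^ (2 * j) * r ^ (2 * j) * a := by rw [invol_mul_self ha2, mul_one, mul_assoc]
      _ = r ^ (4 * j) * a := by rw [← zpow_add]; congr 2; ring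
      _ = d := by
        rw [hr1, hr, mul_inv_rev, invol_inv ha2, invol_inv hd2, mul_assoc, invol_mul_self ha2,
          mul_one]
  refine ⟨e, heC, hconj, ?_⟩
  apply h.uniq d hd _ _ ?_ hq
  have : d * e = e * a := by rw [← hconj]; group
  rw [← mul_smul, this, mul_smul, hp]

theorem IsoClass.smul_swap (h : IsoClass Ω C) {e : G} (he : e ∈ C) {p q : Ω} (hpq : e • p = q) :
    e • q = p := by
  rw [← hpq, ← mul_smul, invol_mul_self (h.invol e he), one_smul]

theorem IsoClass.card_fix_le_card_swap [Finite G] (h : IsoClass Ω C) {p q : Ω} (hpq : p ≠ q) :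
    Nat.card {c : G // c ∈ C ∧ c • q = q} ≤ Nat.card {e : G // e ∈ C ∧ e • p = q} := by
  obtain ⟨a, ha, hap⟩ := h.ex p
  have key : ∀ d : {c : G // c ∈ C ∧ c • q = q}, ∃ e ∈ C, e * a * e⁻¹ = d.1 ∧ e • p = q :=
    fun d => h.exists_swap ha d.2.1 hap d.2.2 hpq
  choose e heC hconj hepq using key
  apply Nat.card_le_card_of_injective
    (fun d => (⟨e d, heC d, hepq d⟩ : {e : G // e ∈ C ∧ e • p = q}))
  intro d1 d2 h12
  have h' : e d1 = e d2 := congrArg Subtype.val h12
  apply Subtype.ext
  rw [← hconj d1, ← hconj d2, h']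

theorem IsoClass.odd_card_swap [Finite G] (h : IsoClass Ω C) {p q : Ω} (hpq : p ≠ q) :
    Odd (Nat.card {e : G // e ∈ C ∧ e • p = q}) := by
  obtain ⟨a, ha, hap⟩ := h.ex p
  obtain ⟨d, hd, hdq⟩ := h.ex q
  obtain ⟨e₀, he₀C, -, he₀⟩ := h.exists_swap ha hd hap hdq hpq
  have he₀2 := h.invol e₀ he₀C
  have he₀' : e₀ • q = p := h.smul_swap he₀C he₀
  refine odd_card_of_invol
    (fun e : {e : G // e ∈ C ∧ e • p = q} => ⟨e₀ * e.1 * e₀⁻¹, h.conj e.1 e.2.1 e₀, ?_⟩) ?_
    ⟨e₀, he₀C, he₀⟩ ?_ ?_
  · rw [mul_smul, mul_smul, invol_inv he₀2, he₀, h.smul_swap e.2.1 e.2.2, he₀]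
  · rintro ⟨e, he⟩
    apply Subtype.ext
    show e₀ * (e₀ * e * e₀⁻¹) * e₀⁻¹ = e
    rw [invol_inv he₀2]
    calc e₀ * (e₀ * e * e₀) * e₀ = (e₀ * e₀) * e * (e₀ * e₀) := by group
      _ = e := by rw [invol_mul_self he₀2, one_mul, mul_one]
  · apply Subtype.ext
    show e₀ * e₀ * e₀⁻¹ = e₀
    group
  · rintro ⟨e, heC, hepq⟩ hfix
    have hfix' : e₀ * e * e₀⁻¹ = e := congrArg Subtype.val hfix
    apply Subtype.ext
    show e = e₀
    by_contra hne
    have hcomm : e * e₀ = e₀ * e := by
      have : e₀ * e = (e₀ * e * e₀⁻¹) * e₀ := by group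
      rw [this, hfix']
    have h1 := h.prod e heC e₀ he₀C hne hcomm p q
    apply hpq
    apply h1
    · rw [mul_smul, he₀, h.smul_swap heC hepq]
    · rw [mul_smul, he₀', hepq]

open Classical in
theorem card_filter_eq_natCard' {α : Type*} [Fintype α] (P : α → Prop) :
    (Finset.univ.filter P).card = Nat.card {i : α // P i} := by
  rw [Nat.card_eq_fintype_card, Fintype.card_subtype]

theorem IsoClass.card_swap_eq [Finite G] [Finite Ω] (h : IsoClass Ω C) {p q : Ω} (hpq : p ≠ q) :
    Nat.card {e : G // e ∈ C ∧ e • p = q} = Nat.card {c : G // c ∈ C ∧ c • q = q} := by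
  classical
  haveI : Fintype G := Fintype.ofFinite G
  haveI : Fintype Ω := Fintype.ofFinite Ω
  set 𝒞' : Finset G := Finset.univ.filter (fun e => e ∈ C ∧ e • p ≠ p) with h𝒞'
  -- by image of p
  have h1 := Finset.card_eq_sum_card_fiberwise (f := fun e : G => e • p)
    (s := 𝒞') (t := Finset.univ.erase p)
    (fun e he => by
      simp only [h𝒞', Finset.coe_filter, Set.mem_setOf_eq, Finset.mem_univ, true_and] at he
      simpa using he.2)
  have h2 : ∀ z ∈ Finset.univ.erase p,
      (𝒞'.filter (fun e : G => e • p = z)).card = Nat.card {e : G // e ∈ C ∧ e • p = z} := by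
    intro z hz
    have hzp : z ≠ p := (Finset.mem_erase.mp hz).1
    rw [← card_filter_eq_natCard']
    congr 1
    ext e
    simp only [h𝒞', Finset.mem_filter, Finset.mem_univ, true_and]
    constructor
    · rintro ⟨⟨h1, -⟩, h2⟩; exact ⟨h1, h2⟩
    · rintro ⟨h1, h2⟩; exact ⟨⟨h1, by rw [h2]; exact hzp⟩, h2⟩
  rw [Finset.sum_congr rfl h2] at h1
  -- by fixed point
  have h3 := Finset.sum_card_bipartiteAbove_eq_sum_card_bipartiteBelow
    (s := 𝒞') (t := (Finset.univ.erase p : Finset Ω)) (fun (e : G) (a : Ω) => e • a = a)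
  have h4 : ∀ e ∈ 𝒞', (Finset.bipartiteAbove (fun (e : G) (a : Ω) => e • a = a)
      (Finset.univ.erase p : Finset Ω) e).card = 1 := by
    intro e he
    simp only [h𝒞', Finset.mem_filter, Finset.mem_univ, true_and] at he
    obtain ⟨a, ha⟩ := h.fixc e he.1
    rw [Finset.card_eq_one]
    refine ⟨a, ?_⟩
    ext b
    simp only [Finset.bipartiteAbove, Finset.mem_filter, Finset.mem_erase, Finset.mem_univ,
      and_true, Finset.mem_singleton]
    constructor
    · rintro ⟨-, hb⟩; exact h.uniq e he.1 _ _ hb ha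
    · rintro rfl
      refine ⟨?_, ha⟩
      rintro rfl
      exact he.2 ha
  have h5 : ∀ a ∈ (Finset.univ.erase p : Finset Ω),
      (Finset.bipartiteBelow (fun (e : G) (a : Ω) => e • a = a) 𝒞' a).card =
        Nat.card {c : G // c ∈ C ∧ c • a = a} := by
    intro a ha
    have hap : a ≠ p := (Finset.mem_erase.mp ha).1
    rw [← card_filter_eq_natCard']
    congr 1
    ext e
    simp only [Finset.bipartiteBelow, h𝒞', Finset.mem_filter, Finset.mem_univ, true_and]
    constructor
    · rintro ⟨⟨h1, -⟩, h2⟩; exact ⟨h1, h2⟩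
    · rintro ⟨h1, h2⟩
      refine ⟨⟨h1, fun h3 => hap (h.uniq e h1 _ _ h2 h3)⟩, h2⟩
  rw [Finset.sum_congr rfl h4, Finset.sum_congr rfl h5] at h3
  simp only [Finset.sum_const, smul_eq_mul, mul_one] at h3
  -- compare
  have h6 : ∀ z ∈ Finset.univ.erase p, Nat.card {c : G // c ∈ C ∧ c • z = z} ≤
      Nat.card {e : G // e ∈ C ∧ e • p = z} :=
    fun z hz => h.card_fix_le_card_swap (Finset.mem_erase.mp hz).1.symm
  have h7 : ∑ z ∈ Finset.univ.erase p, Nat.card {c : G // c ∈ C ∧ c • z = z} =
      ∑ z ∈ Finset.univ.erase p, Nat.card {e : G // e ∈ C ∧ e • p = z} := by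
    rw [← h1, ← h3]
  exact ((Finset.sum_eq_sum_iff_of_le h6).mp h7 q
    (Finset.mem_erase.mpr ⟨hpq.symm, Finset.mem_univ q⟩)).symm

theorem IsoClass.odd_card [Finite G] [Finite Ω] (h : IsoClass Ω C) (hΩ : ∃ p q : Ω, p ≠ q) :
    Odd (Nat.card {c : G // c ∈ C}) := by
  classical
  haveI : Fintype G := Fintype.ofFinite G
  haveI : Fintype Ω := Fintype.ofFinite Ω
  obtain ⟨p₀, q₀, hpq₀⟩ := hΩ
  have hodd : ∀ q : Ω, Odd (Nat.card {c : G // c ∈ C ∧ c • q = q}) := by
    intro q
    obtain ⟨p, hp⟩ : ∃ p : Ω, p ≠ q := by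
      by_cases hq : q = p₀
      · exact ⟨q₀, by rw [hq]; exact hpq₀.symm⟩
      · exact ⟨p₀, fun h => hq h.symm⟩
    rw [← h.card_swap_eq hp]
    exact h.odd_card_swap hp
  have hΩodd : Odd (Fintype.card Ω) := by
    obtain ⟨c, hc, hcp⟩ := h.ex p₀
    have := odd_card_of_invol (fun a : Ω => c • a)
      (fun a => by
        show c • c • a = a
        rw [← mul_smul, invol_mul_self (h.invol c hc), one_smul])
      p₀ hcp (fun a ha => h.uniq c hc _ _ ha hcp)
    rwa [Nat.card_eq_fintype_card] at this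
  set 𝒞 : Finset G := Finset.univ.filter (fun e => e ∈ C) with h𝒞
  have h3 := Finset.sum_card_bipartiteAbove_eq_sum_card_bipartiteBelow
    (s := 𝒞) (t := (Finset.univ : Finset Ω)) (fun (e : G) (a : Ω) => e • a = a)
  have h4 : ∀ e ∈ 𝒞, (Finset.bipartiteAbove (fun (e : G) (a : Ω) => e • a = a)
      (Finset.univ : Finset Ω) e).card = 1 := by
    intro e he
    simp only [h𝒞, Finset.mem_filter, Finset.mem_univ, true_and] at he
    obtain ⟨a, ha⟩ := h.fixc e he
    rw [Finset.card_eq_one]
    refine ⟨a, ?_⟩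
    ext b
    simp only [Finset.bipartiteAbove, Finset.mem_filter, Finset.mem_univ, true_and,
      Finset.mem_singleton]
    exact ⟨fun hb => h.uniq e he _ _ hb ha, fun hb => hb ▸ ha⟩
  have h5 : ∀ a ∈ (Finset.univ : Finset Ω),
      (Finset.bipartiteBelow (fun (e : G) (a : Ω) => e • a = a) 𝒞 a).card =
        Nat.card {c : G // c ∈ C ∧ c • a = a} := by
    intro a _
    rw [← card_filter_eq_natCard']
    congr 1
    ext e
    simp [Finset.bipartiteBelow, h𝒞]
  rw [Finset.sum_congr rfl h4, Finset.sum_congr rfl h5] at h3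
  simp only [Finset.sum_const, smul_eq_mul, mul_one] at h3
  have h6 : Nat.card {c : G // c ∈ C} = 𝒞.card := by
    rw [h𝒞, card_filter_eq_natCard']
  rw [h6, h3, Finset.odd_sum_iff_odd_card_odd]
  have : (Finset.univ.filter (fun q : Ω => Odd (Nat.card {c : G // c ∈ C ∧ c • q = q}))) =
      Finset.univ := by
    ext q
    simp only [Finset.mem_filter, Finset.mem_univ, true_and, iff_true]
    exact hodd q
  rw [this, Finset.card_univ]
  exact hΩodd

end


theorem exists_conj_mem_sylow {M : Type*} [Group M] [Finite M] (X : Sylow 2 M) (s : M)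
    (hs : orderOf s = 2) : ∃ m : M, m⁻¹ * s * m ∈ X := by
  haveI : Fact (Nat.Prime 2) := ⟨Nat.prime_two⟩
  have h2 : IsPGroup 2 (Subgroup.zpowers s) := by
    apply IsPGroup.of_card (n := 1)
    rw [Nat.card_zpowers, hs, pow_one]
  obtain ⟨Y, hY⟩ := h2.exists_le_sylow
  obtain ⟨m, hm⟩ := MulAction.exists_smul_eq M X Y
  refine ⟨m, ?_⟩
  have h1 : s ∈ (Y : Subgroup M) := hY (Subgroup.mem_zpowers s)
  rw [← hm, Sylow.coe_subgroup_smul, Subgroup.mem_pointwise_smul_iff_inv_smul_mem] at h1
  simp only [MulAut.smul_def, MulAut.inv_apply, MulAut.conj_symm_apply] at h1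
  exact h1

/-- an involution whose class has odd size is central in a Sylow 2-subgroup -/
theorem two_central_of_odd {G : Type*} [Group G] [Finite G] (z : G) (hz : orderOf z = 2)
    (hodd : Odd (Nat.card {c : G // IsConj z c})) :
    ∃ P : Sylow 2 G, z ∈ (Subgroup.center ↥(P : Subgroup G)).map (P : Subgroup G).subtype := by
  haveI : Fact (Nat.Prime 2) := ⟨Nat.prime_two⟩
  set Cz : Subgroup G := Subgroup.centralizer ({z} : Set G) with hCz
  have hcard : Nat.card {c : G // IsConj z c} * Nat.card Cz = Nat.card G := by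
    have h1 := card_conjOrbit_mul (⊤ : Subgroup G) z
    rw [inf_top_eq, Subgroup.card_top] at h1
    rw [← h1]
    congr 1
    apply Nat.card_congr
    refine Equiv.subtypeEquivRight fun c => ?_
    rw [isConj_iff]
    constructor
    · rintro ⟨d, hd⟩; exact ⟨d, Subgroup.mem_top d, hd⟩
    · rintro ⟨d, -, hd⟩; exact ⟨d, hd⟩
  have hzC : z ∈ Cz := by
    rw [hCz, Subgroup.mem_centralizer_singleton_iff]
  have h2 : IsPGroup 2 (Subgroup.zpowers (⟨z, hzC⟩ : Cz)) := by
    apply IsPGroup.of_card (n := 1)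
    rw [Nat.card_zpowers, Subgroup.orderOf_mk, hz, pow_one]
  obtain ⟨Q, hQ⟩ := h2.exists_le_sylow
  set P₀ : Subgroup G := (Q : Subgroup Cz).map Cz.subtype with hP₀
  have hfac : (Nat.card G).factorization 2 = (Nat.card Cz).factorization 2 := by
    haveI : Nonempty {c : G // IsConj z c} := ⟨⟨z, IsConj.refl z⟩⟩
    rw [← hcard, Nat.factorization_mul (Nat.card_pos).ne' (Nat.card_pos).ne']
    have : (Nat.card {c : G // IsConj z c}).factorization 2 = 0 := by
      apply Nat.factorization_eq_zero_of_not_dvd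
      rw [← even_iff_two_dvd, Nat.not_even_iff_odd]
      exact hodd
    rw [Finsupp.add_apply, this, zero_add]
  have hcardP : Nat.card P₀ = 2 ^ (Nat.card G).factorization 2 := by
    rw [hP₀, Subgroup.card_map_of_injective Cz.subtype_injective, hfac, Sylow.card_eq_multiplicity]
  refine ⟨Sylow.ofCard P₀ hcardP, ?_⟩
  have hzP : z ∈ P₀ := by
    rw [hP₀, Subgroup.mem_map]
    exact ⟨⟨z, hzC⟩, hQ (Subgroup.mem_zpowers _), rfl⟩
  rw [Subgroup.mem_map]
  refine ⟨⟨z, hzP⟩, ?_, rfl⟩
  rw [Subgroup.mem_center_iff]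
  rintro ⟨g, hg⟩
  apply Subtype.ext
  have hgC : g ∈ Cz := by
    have hg' : g ∈ P₀ := hg
    rw [hP₀, Subgroup.mem_map] at hg'
    obtain ⟨c, -, rfl⟩ := hg'
    exact c.2
  rw [hCz, Subgroup.mem_centralizer_singleton_iff] at hgC
  exact hgC


theorem result' {G : Type*} [Group G] [Finite G] (z : G) (hz : orderOf z = 2) (H : Subgroup G) (hH : H ≠ ⊤)
    (h0 : ∀ g : G, z ∈ H.map (MulAut.conj g).toMonoidHom ↔ g ∈ H) :
    (∀ t : G, IsConj z t → t ≠ z → t * z = z * t → ∀ g : G, z * t ∈ H.map (MulAut.conj g).toMonoidHom ↔ g ∈ H) ↔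
      ((∃ P : Sylow 2 G, z ∈ (Subgroup.center ↥(P : Subgroup G)).map (P : Subgroup G).subtype) ∧
        ∀ t : G, IsConj z t → t ≠ z → t * z = z * t → Subgroup.centralizer ({z * t} : Set G) ≤ H) := by
  have h0' : ∀ g : G, g⁻¹ * z * g ∈ H ↔ g ∈ H := by
    intro g
    rw [← mem_map_conj]
    exact h0 g
  have hzH : z ∈ H := by
    have := (h0' 1).2 H.one_mem
    simpa using this
  have hCz : ∀ c : G, c * z = z * c → c ∈ H := by
    intro c hc
    apply (h0' c).1
    have : c⁻¹ * z * c = z := by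
      rw [mul_assoc, ← hc, ← mul_assoc, inv_mul_cancel, one_mul]
    rw [this]
    exact hzH
  constructor
  · -- (1) ⇒ (2)
    intro h1
    have h1' : ∀ t : G, IsConj z t → t ≠ z → t * z = z * t → ∀ g : G,
        g⁻¹ * (z * t) * g ∈ H ↔ g ∈ H := by
      intro t ht htz hcomm g
      rw [← mem_map_conj]
      exact h1 t ht htz hcomm g
    constructor
    · apply two_central_of_odd z hz
      -- the class of z is an isolated class
      have hfix : ∀ (x : G) (g : G), (x * z * x⁻¹) • ((g : G) : G ⧸ H) = ((g : G) : G ⧸ H) ↔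
          ((g : G) : G ⧸ H) = ((x : G) : G ⧸ H) := by
        intro x g
        rw [smul_mk_eq_iff]
        have : g⁻¹ * (x * z * x⁻¹) * g = (x⁻¹ * g)⁻¹ * z * (x⁻¹ * g) := by group
        rw [this, h0', QuotientGroup.eq, ← H.inv_mem_iff]
        have : (x⁻¹ * g)⁻¹ = g⁻¹ * x := by group
        rw [this]
      have hiso : IsoClass (G ⧸ H) {c : G | IsConj z c} := by
        refine ⟨?_, ?_, ?_, ?_, ?_, ?_⟩
        · intro c hc g
          exact hc.trans (isConj_iff.2 ⟨g, rfl⟩)
        · intro c hc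
          obtain ⟨x, rfl⟩ := isConj_iff.1 hc
          rw [orderOf_conj_eq, hz]
        · intro c hc p q hp hq
          obtain ⟨x, rfl⟩ := isConj_iff.1 hc
          induction p using QuotientGroup.induction_on with
          | H g₁ =>
          induction q using QuotientGroup.induction_on with
          | H g₂ =>
          rw [(hfix x g₁).1 hp, (hfix x g₂).1 hq]
        · intro p
          induction p using QuotientGroup.induction_on with
          | H g =>
          exact ⟨g * z * g⁻¹, isConj_iff.2 ⟨g, rfl⟩, (hfix g g).2 rfl⟩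
        · intro c hc
          obtain ⟨x, rfl⟩ := isConj_iff.1 hc
          exact ⟨((x : G) : G ⧸ H), (hfix x x).2 rfl⟩
        · intro c hc d hd hne hcomm p q hp hq
          obtain ⟨x, rfl⟩ := isConj_iff.1 hc
          set t := x⁻¹ * d * x with ht
          have hdt : d = x * t * x⁻¹ := by rw [ht]; group
          have htconj : IsConj z t := hd.trans (isConj_iff.2 ⟨x⁻¹, by rw [ht, inv_inv]⟩)
          have htz : t ≠ z := by
            intro h
            apply hne
            rw [hdt, h]
          have htcomm : t * z = z * t := by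
            rw [hdt] at hcomm
            have : x * z * x⁻¹ * (x * t * x⁻¹) = x * (z * t) * x⁻¹ := by group
            rw [this] at hcomm
            have h2 : x * t * x⁻¹ * (x * z * x⁻¹) = x * (t * z) * x⁻¹ := by group
            rw [h2] at hcomm
            exact (mul_left_cancel (mul_right_cancel hcomm)).symm
          have hprod : x * z * x⁻¹ * d = x * (z * t) * x⁻¹ := by rw [hdt]; group
          rw [hprod] at hp hq
          have hfix2 : ∀ g : G, (x * (z * t) * x⁻¹) • ((g : G) : G ⧸ H) = ((g : G) : G ⧸ H) →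
              ((g : G) : G ⧸ H) = ((x : G) : G ⧸ H) := by
            intro g hg
            rw [smul_mk_eq_iff] at hg
            have : g⁻¹ * (x * (z * t) * x⁻¹) * g = (x⁻¹ * g)⁻¹ * (z * t) * (x⁻¹ * g) := by group
            rw [this, h1' t htconj htz htcomm] at hg
            rw [QuotientGroup.eq, ← H.inv_mem_iff]
            have : (g⁻¹ * x)⁻¹ = x⁻¹ * g := by group
            rw [this]
            exact hg
          induction p using QuotientGroup.induction_on with
          | H g₁ =>
          induction q using QuotientGroup.induction_on with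
          | H g₂ =>
          rw [hfix2 g₁ hp, hfix2 g₂ hq]
      have hΩ : ∃ p q : G ⧸ H, p ≠ q := by
        obtain ⟨g, hg⟩ : ∃ g : G, g ∉ H := by
          by_contra hcon
          push Not at hcon
          exact hH (Subgroup.eq_top_iff' H |>.2 hcon)
        refine ⟨((1 : G) : G ⧸ H), ((g : G) : G ⧸ H), ?_⟩
        intro h
        rw [QuotientGroup.eq] at h
        apply hg
        simpa using h
      exact hiso.odd_card hΩ
    · intro t ht htz hcomm c hc
      rw [Subgroup.mem_centralizer_singleton_iff] at hc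
      apply (h1' t ht htz hcomm c).1
      have : c⁻¹ * (z * t) * c = z * t := by
        rw [mul_assoc, ← hc, ← mul_assoc, inv_mul_cancel, one_mul]
      rw [this]
      have := (h1' t ht htz hcomm 1).2 H.one_mem
      simpa using this
  · -- (2) ⇒ (1)
    rintro ⟨⟨P, hP⟩, h2⟩ t ht htz hcomm g
    rw [mem_map_conj]
    haveI : Fact (Nat.Prime 2) := ⟨Nat.prime_two⟩
    obtain ⟨c, hc, hcz⟩ := Subgroup.mem_map.1 hP
    have hzP : z ∈ (P : Subgroup G) := by rw [← hcz]; exact c.2
    have hPz : ∀ a ∈ (P : Subgroup G), a * z = z * a := by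
      intro a ha
      have := Subgroup.mem_center_iff.1 hc ⟨a, ha⟩
      have h3 := congrArg (fun u : ↥(P : Subgroup G) => (u : G)) this
      simp only [Subgroup.coe_mul] at h3
      rw [← hcz]
      exact h3
    have hPH : (P : Subgroup G) ≤ H := fun a ha => hCz a (hPz a ha)
    have htH : t ∈ H := hCz t hcomm
    have hztH : z * t ∈ H := H.mul_mem hzH htH
    constructor
    · intro hx
      have ht2 : orderOf t = 2 := by
        obtain ⟨x, rfl⟩ := isConj_iff.1 ht
        rw [orderOf_conj_eq, hz]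
      have hzt2 : orderOf (z * t) = 2 := by
        apply invol_of_mul_self
        · intro h
          apply htz
          have : t = z⁻¹ := eq_inv_of_mul_eq_one_right h
          rw [this, invol_inv hz]
        · calc z * t * (z * t) = z * (t * z) * t := by group
            _ = z * (z * t) * t := by rw [hcomm]
            _ = (z * z) * (t * t) := by group
            _ = 1 := by rw [invol_mul_self hz, invol_mul_self ht2, one_mul]
      have hx2 : orderOf (⟨g⁻¹ * (z * t) * g, hx⟩ : H) = 2 := by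
        rw [Subgroup.orderOf_mk, orderOf_conj_eq', hzt2]
      obtain ⟨m, hm⟩ := exists_conj_mem_sylow (P.subtype hPH) _ hx2
      have hm' : (m : G)⁻¹ * (g⁻¹ * (z * t) * g) * m ∈ (P : Subgroup G) := by
        have : m⁻¹ * (⟨g⁻¹ * (z * t) * g, hx⟩ : H) * m ∈ ((P : Subgroup G).subgroupOf H) := hm
        rw [Subgroup.mem_subgroupOf] at this
        simpa using this
      set y := g * m with hy
      have hyP : y⁻¹ * (z * t) * y ∈ (P : Subgroup G) := by
        have : y⁻¹ * (z * t) * y = (m : G)⁻¹ * (g⁻¹ * (z * t) * g) * m := by rw [hy]; group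
        rw [this]; exact hm'
      have h3 := hPz _ hyP
      have h4 : y * z * y⁻¹ ∈ Subgroup.centralizer ({z * t} : Set G) := by
        rw [Subgroup.mem_centralizer_singleton_iff]
        calc y * z * y⁻¹ * (z * t) = y * (z * (y⁻¹ * (z * t) * y)) * y⁻¹ := by group
          _ = y * ((y⁻¹ * (z * t) * y) * z) * y⁻¹ := by rw [h3]
          _ = z * t * (y * z * y⁻¹) := by group
      have h5 := h2 t ht htz hcomm h4
      have h6 : y⁻¹ ∈ H := by
        apply (h0' y⁻¹).1
        rw [inv_inv]
        exact h5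
      have h7 : y ∈ H := by
        have := H.inv_mem h6
        rwa [inv_inv] at this
      have : g = y * (m : G)⁻¹ := by rw [hy]; group
      rw [this]
      exact H.mul_mem h7 (H.inv_mem m.2)
    · intro hg
      exact H.mul_mem (H.mul_mem (H.inv_mem hg) hztH) hg




/-- Let z be an involution of a finite group G and H a proper subgroup such that z lies in gHg⁻¹ exactly when g ∈ H. Then the following are equivalent: (1) for every conjugate t ≠ z of z commuting with z, the product zt lies in gHg⁻¹ exactly when g ∈ H; (2) z lies in the centre of some Sylow 2-subgroup of G, and for every conjugate t ≠ z of z commuting with z, the centralizer of zt is contained in H. -/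
theorem result {G : Type*} [Group G] [Finite G] (z : G) (hz : orderOf z = 2) (H : Subgroup G) (hH : H ≠ ⊤)
    (h0 : ∀ g : G, z ∈ H.map (MulAut.conj g).toMonoidHom ↔ g ∈ H) :
    (∀ t : G, IsConj z t → t ≠ z → t * z = z * t → ∀ g : G, z * t ∈ H.map (MulAut.conj g).toMonoidHom ↔ g ∈ H) ↔
      ((∃ P : Sylow 2 G, z ∈ (Subgroup.center ↥(P : Subgroup G)).map (P : Subgroup G).subtype) ∧
        ∀ t : G, IsConj z t → t ≠ z → t * z = z * t → Subgroup.centralizer ({z * t} : Set G) ≤ H) := by
  exact result' z hz H hH h0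

end Cfsg.Agent.S1922
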