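import Cfsg.Statements.S1924
import Cfsg.Agent.Lib.Helper3.ThT1
import Cfsg.Agent.Lib.Helper3.ThT2

set_option maxHeartbeats 4000000
set_option linter.unusedVariables false

set_option autoImplicit false
open Cfsg

namespace Cfsg.Agent.S1924

/-- A consequence of Thompson's transfer lemma. Let G be a finite group, L a subgroup with O²(L) = L, T a Sylow 2-subgroup of L and S a Sylow 2-subgroup of G containing T. Suppose D ≤ S is a dihedral subgroup of order at least 4 (the four-group counts) with D ∩ T = 1 and S = TD as a set of products (so |S| = |T|·|D|), and C ≤ D is cyclic of index 2 in D. If no involution of D outside C is G-conjugate to an involution of the subgroup generated by T and C, and the involution of C is not G-conjugate to any involution of T, then G has a normal subgroup K, containing every Sylow 2-subgroup of L as a Sylow 2-subgroup, with G = KD. -/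
theorem result {G : Type*} [Group G] [Finite G] (L T S D C : Subgroup G) (hL : Cfsg.pResidual 2 ↥L = ⊤)
    (hTL : T ≤ L) (hT2 : IsPGroup 2 T) (hTsyl : ¬ 2 ∣ T.relIndex L)
    (hS2 : IsPGroup 2 S) (hSsyl : ¬ 2 ∣ S.index) (hTS : T ≤ S)
    (hDS : D ≤ S) (hDih : ∃ n : ℕ, 2 ≤ n ∧ Nonempty (↥D ≃* DihedralGroup n)) (hDT : D ⊓ T = ⊥) (hTD : T ⊔ D = S) (hTDc : Nat.card T * Nat.card D = Nat.card S)
    (hCD : C ≤ D) (hC : IsCyclic ↥C) (hCi : C.relIndex D = 2)
    (h1 : ∀ x ∈ D, x ∉ C → orderOf x = 2 → ∀ g : G, g * x * g⁻¹ ∈ T ⊔ C → False)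
    (h2 : ∀ c ∈ C, orderOf c = 2 → ∀ g : G, g * c * g⁻¹ ∈ T → False) :
    ∃ K : Subgroup G, K.Normal ∧ K ⊔ D = ⊤ ∧
      ∀ T' : Subgroup G, T' ≤ L → IsPGroup 2 T' → ¬ 2 ∣ T'.relIndex L → T' ≤ K ∧ ¬ 2 ∣ T'.relIndex K := by
  classical
  obtain ⟨n, hn, ⟨e⟩⟩ := hDih
  have hinv : ∀ y ∈ D, y ∉ C → orderOf y = 2 := fun y hyD hyC =>
    Cfsg.Agent.Lib.Helper3.ThT.dihedral_sub_outside D C n hn e hCD hC hCi y hyD hyC
  haveI hKn : (Cfsg.pResidual 2 G).Normal := Cfsg.Agent.Lib.Helper3.ThT.pResidual_normal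
  have hLK : L ≤ Cfsg.pResidual 2 G := Cfsg.Agent.Lib.Helper3.ThT.le_pResidual_of_eq_top L hL
  have hTK : T ≤ Cfsg.pResidual 2 G := hTL.trans hLK
  have hCS : C ≤ S := hCD.trans hDS
  -- cardinalities
  have hcardD : Nat.card D = Nat.card C * 2 := by
    have h := Subgroup.relIndex_mul_relIndex ⊥ C D bot_le hCD
    rw [Subgroup.relIndex_bot_left, Subgroup.relIndex_bot_left, hCi] at h
    exact h.symm
  obtain ⟨k, hk⟩ : ∃ k, Nat.card C = 2 ^ k := IsPGroup.iff_card.1 (hS2.to_le hCS)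
  have hm : Odd S.index := Nat.odd_iff.2 (Nat.two_dvd_ne_zero.1 hSsyl)
  have hcardG : Nat.card S * S.index = Nat.card G := Subgroup.card_mul_index S
  have hTC : T ⊓ C = ⊥ := by
    apply le_antisymm _ bot_le
    rw [← hDT]
    exact le_inf (inf_le_right.trans hCD) inf_le_left
  have hMS : T ⊔ C ≤ S := sup_le hTS hCS
  -- an element of D outside C
  obtain ⟨y, hyD, hyC⟩ : ∃ y ∈ D, y ∉ C := by
    by_contra hcon
    push Not at hcon
    have : D ≤ C := fun y hy => hcon y hy
    have := Subgroup.relIndex_eq_one.2 this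
    omega
  have hoy : orderOf y = 2 := hinv y hyD hyC
  have hyM : y ∉ T ⊔ C := by
    intro h
    apply h1 y hyD hyC hoy 1
    simpa using h
  -- |T ⊔ C| * 2 = |S|
  have hcardM : Nat.card ↥(T ⊔ C) * 2 = Nat.card S := by
    have hlow : Nat.card T * Nat.card C ≤ Nat.card ↥(T ⊔ C) := by
      have h1' : T.relIndex C = Nat.card C := by
        rw [← Subgroup.inf_relIndex_right, hTC, Subgroup.relIndex_bot_left]
      have h2' : T.relIndex C ≤ T.relIndex (T ⊔ C) :=
        Subgroup.relIndex_le_of_le_right le_sup_right Subgroup.index_ne_zero_of_finite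
      have h3' := Subgroup.relIndex_mul_relIndex ⊥ T (T ⊔ C) bot_le le_sup_left
      rw [Subgroup.relIndex_bot_left, Subgroup.relIndex_bot_left] at h3'
      rw [← h3', ← h1']
      exact Nat.mul_le_mul_left _ h2'
    obtain ⟨a, ha⟩ := IsPGroup.iff_card.1 (hS2.to_le hMS)
    obtain ⟨b, hb⟩ := IsPGroup.iff_card.1 hS2
    have hdvd : Nat.card ↥(T ⊔ C) ∣ Nat.card S := Subgroup.card_dvd_of_le hMS
    have hne : Nat.card ↥(T ⊔ C) ≠ Nat.card S := by
      intro heq
      have : T ⊔ C = S := Subgroup.eq_of_le_of_card_ge hMS heq.ge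
      exact hyM (this ▸ hDS hyD)
    rw [ha, hb] at hdvd hne
    have hab : a ≤ b := (Nat.pow_dvd_pow_iff_le_right (by norm_num)).1 hdvd
    have hab' : a ≠ b := fun h => hne (by rw [h])
    have hlt : 2 ^ a * 2 ≤ 2 ^ b := by
      rw [← pow_succ]; exact Nat.pow_le_pow_right (by norm_num) (by omega)
    have hS' : Nat.card S = Nat.card T * Nat.card C * 2 := by
      rw [← hTDc, hcardD]; ring
    rw [ha] at hlow ⊢
    rw [hb] at hS' ⊢
    nlinarith
  have hMidx : (T ⊔ C).index = 2 ^ 1 * S.index := by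
    have h1' := Subgroup.relIndex_mul_index hMS
    have h2' := Subgroup.relIndex_mul_relIndex ⊥ (T ⊔ C) S bot_le hMS
    rw [Subgroup.relIndex_bot_left, Subgroup.relIndex_bot_left, ← hcardM] at h2'
    have hpos : 0 < Nat.card ↥(T ⊔ C) := Nat.card_pos
    have h3' : (T ⊔ C).relIndex S = 2 := Nat.eq_of_mul_eq_mul_left hpos h2'
    rw [← h1', h3', pow_one]
  -- the first sign homomorphism
  have hφ : ∀ z ∈ D, z ∉ C → Cfsg.Agent.Lib.Helper3.ThT.signHom (T ⊔ C) z = -1 := by
    intro z hzD hzC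
    have hoz := hinv z hzD hzC
    apply Cfsg.Agent.Lib.Helper3.ThT.signHom_eq_neg_one (T ⊔ C) z 1 S.index le_rfl hm hMidx
    · rw [pow_one, ← hoz]; exact pow_orderOf_eq_one z
    · intro g hmem
      apply h1 z hzD hzC hoz g⁻¹
      simpa using hmem
  obtain ⟨gC, hgC⟩ := hC.exists_generator
  have hrC : (gC : G) ∈ C := gC.2
  have hφy := hφ y hyD hyC
  have hyr : Cfsg.Agent.Lib.Helper3.ThT.signHom (T ⊔ C) (y * (gC : G)) = -1 := by
    apply hφ _ (D.mul_mem hyD (hCD hrC))
    intro h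
    apply hyC
    have := C.mul_mem h (C.inv_mem hrC)
    simpa using this
  have hφr : Cfsg.Agent.Lib.Helper3.ThT.signHom (T ⊔ C) (gC : G) = 1 := by
    rw [map_mul, hφy] at hyr
    have := congrArg (fun u => (-1 : ℤˣ) * u) hyr
    simpa using this
  -- the kernel
  have hodd : ∀ g : G, Nat.Coprime (orderOf g) 2 →
      g ∈ (Cfsg.Agent.Lib.Helper3.ThT.signHom (T ⊔ C)).ker := fun g hg =>
    MonoidHom.mem_ker.2 (Cfsg.Agent.Lib.Helper3.ThT.hom_odd_eq_one _ g hg)
  have hidx2 := Cfsg.Agent.Lib.Helper3.ThT.index_ker_eq_two _ y hφy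
  have hmap := Cfsg.Agent.Lib.Helper3.ThT.pResidual_map_subtype _ hodd
  have hTN : T ≤ (Cfsg.Agent.Lib.Helper3.ThT.signHom (T ⊔ C)).ker :=
    hTK.trans (Cfsg.Agent.Lib.Helper3.ThT.pResidual_le_ker _)
  have hrN : (gC : G) ∈ (Cfsg.Agent.Lib.Helper3.ThT.signHom (T ⊔ C)).ker := MonoidHom.mem_ker.2 hφr
  have hor : orderOf (gC : G) = 2 ^ k := by
    rw [Subgroup.orderOf_coe, orderOf_eq_card_of_forall_mem_zpowers hgC, hk]
  have hTrelS : T.relIndex S = Nat.card D := by
    have h2' := Subgroup.relIndex_mul_relIndex ⊥ T S bot_le hTS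
    rw [Subgroup.relIndex_bot_left, Subgroup.relIndex_bot_left, ← hTDc] at h2'
    exact Nat.eq_of_mul_eq_mul_left Nat.card_pos h2'
  have key := Cfsg.Agent.Lib.Helper3.ThT.tt_main k ↥(Cfsg.Agent.Lib.Helper3.ThT.signHom (T ⊔ C)).ker
    (T.subgroupOf (Cfsg.Agent.Lib.Helper3.ThT.signHom (T ⊔ C)).ker) ⟨(gC : G), hrN⟩ S.index hm ?_ ?_ ?_ ?_
  · -- conclusion
    have hc1 : Nat.card (Cfsg.pResidual 2 ↥(Cfsg.Agent.Lib.Helper3.ThT.signHom (T ⊔ C)).ker)
        = Nat.card (Cfsg.pResidual 2 G) := by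
      rw [← hmap]
      exact (Subgroup.card_map_of_injective (Subgroup.subtype_injective _)).symm
    have hc2 : Nat.card (Cfsg.Agent.Lib.Helper3.ThT.signHom (T ⊔ C)).ker * 2 = Nat.card G := by
      rw [← hidx2]; exact Subgroup.card_mul_index _
    rw [hc1] at key
    have hdvd : Nat.card D * Nat.card (Cfsg.pResidual 2 G) ∣ Nat.card G := by
      obtain ⟨t, ht⟩ := key
      refine ⟨t, ?_⟩
      rw [← hc2, ht, hcardD, hk]; ring
    refine ⟨Cfsg.pResidual 2 G, hKn, ?_, ?_⟩
    · -- K ⊔ D = ⊤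
      have hS_le : S ≤ Cfsg.pResidual 2 G ⊔ D := by
        rw [← hTD]; exact sup_le (hTK.trans le_sup_left) le_sup_right
      have hle : Cfsg.pResidual 2 G ⊔ S ≤ Cfsg.pResidual 2 G ⊔ D := sup_le le_sup_left hS_le
      have htop : Cfsg.pResidual 2 G ⊔ S = ⊤ := by
        rw [← Subgroup.index_eq_one]
        obtain ⟨n', hn'⟩ := Cfsg.Agent.Lib.Helper3.ThT.pResidual_index_pow (G := G)
        have d1 : (Cfsg.pResidual 2 G ⊔ S).index ∣ 2 ^ n' := by
          rw [← hn']; exact Subgroup.index_dvd_of_le le_sup_left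
        have d2 : (Cfsg.pResidual 2 G ⊔ S).index ∣ S.index := Subgroup.index_dvd_of_le le_sup_right
        have hcop : Nat.Coprime (2 ^ n') S.index :=
          Nat.Coprime.pow_left n' (Nat.coprime_two_left.2 hm)
        exact Nat.eq_one_of_dvd_coprimes hcop d1 d2
      exact top_le_iff.1 (htop ▸ hle)
    · intro T' hT'L hT'2 hT'syl
      refine ⟨hT'L.trans hLK, ?_⟩
      have hT'K : T' ≤ Cfsg.pResidual 2 G := hT'L.trans hLK
      -- |T'| = |T|
      have e1 := Subgroup.relIndex_mul_relIndex ⊥ T L bot_le hTL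
      have e2 := Subgroup.relIndex_mul_relIndex ⊥ T' L bot_le hT'L
      rw [Subgroup.relIndex_bot_left, Subgroup.relIndex_bot_left] at e1 e2
      obtain ⟨a, ha⟩ := IsPGroup.iff_card.1 hT2
      obtain ⟨b, hb⟩ := IsPGroup.iff_card.1 hT'2
      have ho1 : Nat.Coprime 2 (T.relIndex L) := (Nat.Prime.coprime_iff_not_dvd Nat.prime_two).2 hTsyl
      have ho2 : Nat.Coprime 2 (T'.relIndex L) := (Nat.Prime.coprime_iff_not_dvd Nat.prime_two).2 hT'syl
      have hcardT' : Nat.card T' = Nat.card T := by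
        rw [ha, hb]
        have hab : a ≤ b := by
          have : 2 ^ a ∣ 2 ^ b * T'.relIndex L := by
            rw [← hb, e2, ← e1, ha]; exact dvd_mul_right _ _
          have := (Nat.Coprime.pow_left a ho2).dvd_of_dvd_mul_right this
          exact (Nat.pow_dvd_pow_iff_le_right (by norm_num)).1 this
        have hba : b ≤ a := by
          have : 2 ^ b ∣ 2 ^ a * T.relIndex L := by
            rw [← ha, e1, ← e2, hb]; exact dvd_mul_right _ _
          have := (Nat.Coprime.pow_left b ho1).dvd_of_dvd_mul_right this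
          exact (Nat.pow_dvd_pow_iff_le_right (by norm_num)).1 this
        rw [le_antisymm hab hba]
      have e3 := Subgroup.relIndex_mul_relIndex ⊥ T' (Cfsg.pResidual 2 G) bot_le hT'K
      rw [Subgroup.relIndex_bot_left, Subgroup.relIndex_bot_left, hcardT'] at e3
      -- |K| ∣ |T| * m
      have hKd : Nat.card (Cfsg.pResidual 2 G) ∣ Nat.card T * S.index := by
        have : Nat.card D * Nat.card (Cfsg.pResidual 2 G) ∣ Nat.card D * (Nat.card T * S.index) := by
          have hG' : Nat.card G = Nat.card D * (Nat.card T * S.index) := by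
            rw [← hcardG, ← hTDc]; ring
          rw [← hG']; exact hdvd
        exact Nat.dvd_of_mul_dvd_mul_left Nat.card_pos this
      rw [← e3] at hKd
      have hrel : T'.relIndex (Cfsg.pResidual 2 G) ∣ S.index :=
        Nat.dvd_of_mul_dvd_mul_left Nat.card_pos hKd
      intro h2d
      exact hSsyl (h2d.trans hrel)
  · -- index
    show T.relIndex (Cfsg.Agent.Lib.Helper3.ThT.signHom (T ⊔ C)).ker = 2 ^ k * S.index
    have h := Subgroup.relIndex_mul_index hTN
    have h' := Subgroup.relIndex_mul_index hTS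
    rw [hidx2, ← h', hTrelS, hcardD, hk] at h
    have : T.relIndex (Cfsg.Agent.Lib.Helper3.ThT.signHom (T ⊔ C)).ker * 2 = (2 ^ k * S.index) * 2 := by
      rw [h]; ring
    exact Nat.eq_of_mul_eq_mul_right (by norm_num) this
  · -- power
    apply Subtype.ext
    rw [Subgroup.coe_pow]
    show (gC : G) ^ (2 ^ k) = 1
    rw [← hor]; exact pow_orderOf_eq_one _
  · -- fixed point free
    intro hk1 g hmem
    rw [Subgroup.mem_subgroupOf] at hmem
    have hc : (gC : G) ^ (2 ^ (k - 1)) ∈ C := C.pow_mem hrC _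
    have hoc : orderOf ((gC : G) ^ (2 ^ (k - 1))) = 2 := by
      rw [orderOf_pow_of_dvd (by positivity) (by rw [hor]; exact pow_dvd_pow 2 (by omega)), hor,
        Nat.pow_div (by omega) (by norm_num)]
      have : k - (k - 1) = 1 := by omega
      rw [this, pow_one]
    apply h2 _ hc hoc (g : G)⁻¹
    have e' : ((g⁻¹ * (⟨(gC : G), hrN⟩ : (Cfsg.Agent.Lib.Helper3.ThT.signHom (T ⊔ C)).ker) ^ (2 ^ (k - 1)) * g :
        (Cfsg.Agent.Lib.Helper3.ThT.signHom (T ⊔ C)).ker) : G)
        = (g : G)⁻¹ * (gC : G) ^ (2 ^ (k - 1)) * (g : G)⁻¹⁻¹ := by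
      rw [Subgroup.coe_mul, Subgroup.coe_mul, Subgroup.coe_inv, Subgroup.coe_pow, inv_inv]
    rw [← e']; exact hmem
  · -- T ≤ residual
    intro t ht
    rw [Subgroup.mem_subgroupOf] at ht
    have h1' : (t : G) ∈ Cfsg.pResidual 2 G := hTK ht
    rw [← hmap] at h1'
    obtain ⟨u, hu, hut⟩ := h1'
    have : u = t := Subtype.ext hut
    rw [← this]; exact hu

end Cfsg.Agent.S1924
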