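import Cfsg.Statements.S1939
import Cfsg.Agent.Lib.Helper7.SylowAux

set_option autoImplicit false
open Cfsg

namespace Cfsg.Agent.S1939

open Cfsg.Agent.Lib.Helper7

/-- Let S be a Sylow p-subgroup of the finite group G and a an element of S that is the only G-conjugate of a lying in S. Then every power of a has the same property: for every n, the only G-conjugate of a^n lying in S is a^n. -/
theorem result {G : Type*} [Group G] [Finite G] {p : ℕ} [Fact p.Prime] (S : Sylow p G) (a : G)
    (haS : a ∈ (S : Subgroup G)) (hwc : ∀ g : G, g * a * g⁻¹ ∈ (S : Subgroup G) → g * a * g⁻¹ = a) (n : ℕ) :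
    ∀ g : G, g * a ^ n * g⁻¹ ∈ (S : Subgroup G) → g * a ^ n * g⁻¹ = a ^ n := by
  intro g hg
  set y := g * a ^ n * g⁻¹ with hy
  set b := g * a * g⁻¹ with hb
  have hbn : b ^ n = y := by rw [hb, conj_pow]
  -- a is central in S
  have hcent : ∀ s ∈ (S : Subgroup G), s * a = a * s := by
    intro s hs
    have h1 := hwc s ((S : Subgroup G).mul_mem ((S : Subgroup G).mul_mem hs haS) ((S : Subgroup G).inv_mem hs))
    calc s * a = (s * a * s⁻¹) * s := by group
      _ = a * s := by rw [h1]
  set C : Subgroup G := Subgroup.centralizer ({y} : Set G) with hC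
  have haC : a ∈ C := by
    rw [hC, Subgroup.mem_centralizer_singleton_iff]
    exact (hcent y hg).symm
  have hbC : b ∈ C := by
    rw [hC, Subgroup.mem_centralizer_singleton_iff, ← hbn, ← pow_succ, ← pow_succ']
  have hza : IsPGroup p (Subgroup.zpowers a) :=
    S.isPGroup'.to_le (by rw [Subgroup.zpowers_le]; exact haS)
  have hzb : IsPGroup p (Subgroup.zpowers b) := by
    have : Subgroup.zpowers b = (Subgroup.zpowers a).map (MulAut.conj g).toMonoidHom := by
      rw [MonoidHom.map_zpowers]; rfl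
    rw [this]
    exact hza.map _
  obtain ⟨c, hcC, R, hRp, -, haR, hbR⟩ := exists_conj_le_common_pSubgroup C
    (Subgroup.zpowers a) (Subgroup.zpowers b) hza hzb
    (by rw [Subgroup.zpowers_le]; exact haC) (by rw [Subgroup.zpowers_le]; exact hbC)
  obtain ⟨P', hP'⟩ := hRp.exists_le_sylow
  obtain ⟨h, hh⟩ := MulAction.exists_smul_eq G S P'
  have hmem : ∀ x ∈ R, h⁻¹ * x * h ∈ (S : Subgroup G) := by
    intro x hx
    have := hP' hx
    rw [← hh, Sylow.coe_subgroup_smul, Subgroup.mem_pointwise_smul_iff_inv_smul_mem] at this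
    simpa [MulAut.smul_def, MulAut.conj_apply] using this
  have h1 : h⁻¹ * a * h = a := by
    have := hwc h⁻¹ (by simpa using hmem a (haR (Subgroup.mem_zpowers a)))
    simpa using this
  have hcb : c * b * c⁻¹ ∈ R := hbR ⟨b, Subgroup.mem_zpowers b, rfl⟩
  have h2 : h⁻¹ * (c * b * c⁻¹) * h = a := by
    have e : h⁻¹ * (c * b * c⁻¹) * h = (h⁻¹ * c * g) * a * (h⁻¹ * c * g)⁻¹ := by
      rw [hb]; group
    have := hmem _ hcb
    rw [e] at this ⊢
    exact hwc _ this
  have h3 : c * b * c⁻¹ = a := by
    have : c * b * c⁻¹ = h * (h⁻¹ * (c * b * c⁻¹) * h) * h⁻¹ := by group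
    rw [this, h2]
    have : a = h * (h⁻¹ * a * h) * h⁻¹ := by group
    rw [h1] at this
    exact this.symm
  have h4 : c * y * c⁻¹ = y := by
    have := Subgroup.mem_centralizer_singleton_iff.mp hcC
    rw [this]; group
  rw [← h4, ← hbn, ← conj_pow, h3]


end Cfsg.Agent.S1939
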