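import Cfsg.Statements.S1940

set_option autoImplicit false
open Cfsg

namespace Cfsg.Agent.S1940


/-- Let the finite group L act by automorphisms on the finite abelian group M, and let N be an L-invariant subgroup of M such that M/N is a p-group on which L acts trivially (every l • m lies in the coset mN). If every element of M is a product of an element of N and an element fixed by a Sylow p-subgroup T of L, then every element of M is a product of an element of N and an element fixed by all of L. -/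
theorem result {L : Type*} [Group L] [Finite L] {M : Type*} [CommGroup M] [Finite M] [MulDistribMulAction L M]
    {p : ℕ} [Fact p.Prime] (N : Subgroup M) (hN : ∀ (l : L) (m : M), m ∈ N → l • m ∈ N)
    (hquot : IsPGroup p (M ⧸ N)) (htriv : ∀ (l : L) (m : M), (l • m) * m⁻¹ ∈ N) (T : Sylow p L)
    (hT : ∀ m : M, ∃ n ∈ N, ∃ c : M, (∀ t ∈ (T : Subgroup L), t • c = c) ∧ m = n * c) :
    ∀ m : M, ∃ n ∈ N, ∃ c : M, (∀ l : L, l • c = c) ∧ m = n * c := by
  classical
  have hp : p.Prime := Fact.out
  let _ : Fintype (L ⧸ (T : Subgroup L)) := Fintype.ofFinite _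
  intro m
  obtain ⟨n, hn, c, hc, rfl⟩ := hT m
  -- the averaged element
  set f : L ⧸ (T : Subgroup L) → M := fun q => q.out • c with hf
  have hfmk : ∀ l : L, f (QuotientGroup.mk l) = l • c := by
    intro l
    obtain ⟨t, ht⟩ := QuotientGroup.mk_out_eq_mul (T : Subgroup L) l
    show (QuotientGroup.mk l : L ⧸ (T : Subgroup L)).out • c = l • c
    rw [ht, mul_smul, hc t t.2]
  set c' : M := ∏ q, f q with hc'
  have hc'fix : ∀ l : L, l • c' = c' := by
    intro l
    rw [hc', Finset.smul_prod']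
    have h1 : ∀ q : L ⧸ (T : Subgroup L), l • f q = f (l • q) := by
      intro q
      have : l • q = QuotientGroup.mk (l * q.out) := by
        conv_lhs => rw [← QuotientGroup.out_eq' q]
        rfl
      rw [this, hfmk, mul_smul]
    simp_rw [h1]
    exact Equiv.prod_comp (MulAction.toPerm l) f
  set k := Fintype.card (L ⧸ (T : Subgroup L)) with hk
  have hkidx : k = (T : Subgroup L).index := by
    rw [hk, Subgroup.index, Nat.card_eq_fintype_card]
  have hkp : ¬ p ∣ k := by rw [hkidx]; exact T.not_dvd_index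
  -- c' ≡ c^k mod N
  have hmodN : c' * (c ^ k)⁻¹ ∈ N := by
    have : c' * (c ^ k)⁻¹ = ∏ q : L ⧸ (T : Subgroup L), (f q * c⁻¹) := by
      rw [Finset.prod_mul_distrib, Finset.prod_const, Finset.card_univ, inv_pow]
    rw [this]
    apply Subgroup.prod_mem
    intro q _
    exact htriv q.out c
  -- c^(p^j) ∈ N
  obtain ⟨j, hj⟩ := hquot (QuotientGroup.mk c)
  have hcpj : c ^ (p ^ j) ∈ N := by
    rw [← QuotientGroup.mk_pow] at hj
    exact (QuotientGroup.eq_one_iff _).mp hj
  have hcop : Nat.Coprime k (p ^ j) :=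
    Nat.Coprime.pow_right j ((Nat.Prime.coprime_iff_not_dvd hp).mpr hkp).symm
  have hbez := Nat.gcd_eq_gcd_ab k (p ^ j)
  rw [hcop.gcd_eq_one] at hbez
  set α := Nat.gcdA k (p ^ j) with hα
  set β := Nat.gcdB k (p ^ j) with hβ
  set d : M := c' ^ α with hd
  have hdfix : ∀ l : L, l • d = d := by
    intro l
    rw [hd, smul_zpow', hc'fix]
  have hcd : c * d⁻¹ ∈ N := by
    -- c = (c^k)^α * (c^(p^j))^β
    have h1 : c = (c ^ k) ^ α * (c ^ (p ^ j)) ^ β := by
      rw [← zpow_natCast, ← zpow_natCast, ← zpow_mul, ← zpow_mul, ← zpow_add]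
      have : ((k : ℕ) : ℤ) * α + ((p ^ j : ℕ) : ℤ) * β = 1 := by
        rw [← hbez]; simp
      rw [this, zpow_one]
    have h2 : c * d⁻¹ = ((c' * (c ^ k)⁻¹) ^ α)⁻¹ * (c ^ (p ^ j)) ^ β := by
      rw [hd, mul_zpow, inv_zpow]
      conv_lhs => rw [h1]
      simp only [mul_inv_rev, inv_inv]
      rw [mul_right_comm]
    rw [h2]
    exact N.mul_mem (N.inv_mem (N.zpow_mem hmodN α)) (N.zpow_mem hcpj β)
  refine ⟨n * (c * d⁻¹), N.mul_mem hn hcd, d, hdfix, ?_⟩
  rw [mul_assoc, mul_assoc, inv_mul_cancel, mul_one]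


end Cfsg.Agent.S1940
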