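import Cfsg.Statements.S1941
import Mathlib
import Cfsg.Agent.Lib.Helper8.CocycleSylow
import Cfsg.Agent.Lib.Helper8.FStar
import Cfsg.Agent.Lib.Helper7.PCore
import Cfsg.Agent.Lib.Helper1.FittingCentralizer

set_option autoImplicit false
open Cfsg

namespace Cfsg.Agent.S1941

/-- Let G be a finite group with no nontrivial normal subgroup of order prime to p, T a Sylow p-subgroup of G and E(G) the layer of G (the subgroup generated by its components). An automorphism of G of p-power order that fixes T and E(G) elementwise is inner. -/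
theorem result {G : Type*} [Group G] [Finite G] {p : ℕ} [Fact p.Prime] (hcore : Cfsg.pPrimeCore p G = ⊥)
    (T : Sylow p G) (α : MulAut G) (hα : ∃ j : ℕ, orderOf α = p ^ j) (hfixT : ∀ x ∈ (T : Subgroup G), α x = x)
    (hfixE : ∀ x ∈ Cfsg.layer G, α x = x) : ∃ g : G, ∀ x : G, α x = g * x * g⁻¹ := by
  classical
  set F := Cfsg.generalizedFittingSubgroup G with hF
  haveI hFn : F.Normal := Cfsg.Agent.Lib.Helper8.generalizedFittingSubgroup_normal
  set C := Subgroup.centralizer (F : Set G) with hC
  haveI hCn : C.Normal := Subgroup.normal_centralizer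
  set Z := C ⊓ F with hZ
  haveI hZn : Z.Normal := inferInstance
  have hfit : Cfsg.fittingSubgroup G = Cfsg.pCore p G :=
    Cfsg.Agent.Lib.Helper1.fittingSubgroup_eq_pCore_of_pPrimeCore_eq_bot p hcore
  have hfixF : ∀ x ∈ F, α x = x := by
    have hle : F ≤ MonoidHom.eqLocus α.toMonoidHom (MonoidHom.id G) := by
      rw [hF]
      unfold Cfsg.generalizedFittingSubgroup
      apply sup_le
      · intro x hx
        exact hfixE x hx
      · rw [hfit]
        intro x hx
        exact hfixT x (Cfsg.Agent.Lib.Helper7.pCore_le_sylow T hx)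
    intro x hx
    exact hle hx
  have hZc : ∀ a ∈ Z, ∀ b ∈ Z, a * b = b * a :=
    fun a ha b hb => (Subgroup.mem_centralizer_iff.1 ha.1 b hb.2).symm
  have hZle : Z ≤ Cfsg.pCore p G := by
    rw [← hfit]
    unfold Cfsg.fittingSubgroup
    apply le_sSup
    refine ⟨inferInstance, ?_⟩
    letI : CommGroup ↥Z :=
      { (inferInstance : Group ↥Z) with
        mul_comm := fun a b => Subtype.ext (hZc a a.2 b b.2) }
    infer_instance
  have hZp : IsPGroup p Z := (Cfsg.Agent.Lib.Helper7.pCore_isPGroup p G).to_le hZle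
  have hf : ∀ g, α g * g⁻¹ ∈ Z := by
    intro g
    have h1 : α g * g⁻¹ ∈ C := by
      rw [hC, Subgroup.mem_centralizer_iff]
      intro x hx
      have h2 : g⁻¹ * x * g ∈ F := by simpa using hFn.conj_mem x hx g⁻¹
      have h3 := hfixF _ h2
      rw [map_mul, map_mul, map_inv, hfixF x hx] at h3
      calc x * (α g * g⁻¹) = α g * ((α g)⁻¹ * x * α g) * g⁻¹ := by group
        _ = α g * (g⁻¹ * x * g) * g⁻¹ := by rw [h3]
        _ = α g * g⁻¹ * x := by group
    exact ⟨h1, Cfsg.Agent.Lib.Helper8.centralizer_generalizedFittingSubgroup_le h1⟩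
  obtain ⟨u, _, hu⟩ := Helper8.CocycleSylow.inner_of_fix T α Z hZc hZp hfixT hf
  exact ⟨u, hu⟩

end Cfsg.Agent.S1941
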