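import Cfsg.Statements.S1947
import Cfsg.Agent.Lib.Helper4.Huppert
import Cfsg.Agent.Lib.Helper2.Hypercenter

set_option autoImplicit false
open Cfsg

namespace Cfsg.Agent.S1947

open Cfsg.Agent.Lib.Helper4.Huppert

theorem result {G : Type*} [Group G] [Finite G] {p : ℕ} [Fact p.Prime] (n : ℕ)
    (h : ∀ a : G, (a ^ p = 1 ∨ (p = 2 ∧ a ^ 4 = 1)) → a ∈ Subgroup.upperCentralSeries G n) : Cfsg.HasNormalPComplement p G := by
  apply hasNormalPComplement_of_omega
  intro Q hQ g _ hgo a ha hap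
  have hnil := Cfsg.Agent.Lib.Helper2.nilPair_of_mem_upperCentralSeries n G a (h a hap)
  apply Cfsg.Agent.Lib.Helper2.NilPair.commute_of_coprime hnil
  obtain ⟨k, hk⟩ := (IsPGroup.iff_orderOf.mp hQ) ⟨a, ha⟩
  rw [Subgroup.orderOf_mk] at hk
  rw [hk]
  exact Nat.Coprime.pow_right k hgo

end Cfsg.Agent.S1947
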