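import Cfsg.Statements.S1952
import Mathlib

set_option autoImplicit false
open Cfsg

namespace Cfsg.Agent.S1952


open Polynomial in
section
open Polynomial




/-- polynomial identity `∑_{i<p} X^i = (X-1)^(p-1)` over `ZMod p`. -/
theorem geom_eq_pow (p : ℕ) [hp : Fact p.Prime] :
    (∑ i ∈ Finset.range p, (X : (ZMod p)[X]) ^ i) = (X - 1) ^ (p - 1) := by
  have h1 : (∑ i ∈ Finset.range p, (X : (ZMod p)[X]) ^ i) * (X - 1) = X ^ p - 1 := geom_sum_mul X p
  have h2 : ((X : (ZMod p)[X]) - 1) ^ p = X ^ p - 1 := by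
    rw [sub_pow_char, one_pow]
  have h3 : ((X : (ZMod p)[X]) - 1) ^ (p - 1) * (X - 1) = X ^ p - 1 := by
    rw [← pow_succ, Nat.sub_add_cancel hp.out.one_le, h2]
  have hne : ((X : (ZMod p)[X]) - 1) ≠ 0 := by
    have := X_sub_C_ne_zero (1 : ZMod p)
    simpa using this
  exact mul_right_cancel₀ hne (h1.trans h3.symm)


theorem card_bound (p : ℕ) [hp : Fact p.Prime] {V : Type*} [AddCommGroup V] [Module (ZMod p) V]
    [Finite V] (τ : V →ₗ[ZMod p] V) (hτ : τ ^ p = 1) (x : V) (lam : V →ₗ[ZMod p] ZMod p)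
    (hlam : lam ((∑ i ∈ Finset.range p, τ ^ i) x) ≠ 0) (W : Submodule (ZMod p) V)
    (hW1 : W ≤ LinearMap.ker lam) (hW2 : W ≤ W.comap τ) :
    p ^ p * Nat.card W ≤ Nat.card V := by
  set D : Module.End (ZMod p) V := τ - 1 with hD
  have hsum : (∑ i ∈ Finset.range p, τ ^ i) = D ^ (p - 1) := by
    have := congrArg (aeval τ) (geom_eq_pow p)
    simpa [map_sum, map_pow, map_sub] using this
  have hDp : D ^ p = 0 := by
    have h2 : ((X : (ZMod p)[X]) - 1) ^ p = X ^ p - 1 := by
      rw [sub_pow_char, one_pow]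
    have := congrArg (aeval τ) h2
    simp only [map_pow, map_sub, aeval_X, map_one] at this
    rw [hD, this, hτ, sub_self]
  have hDW : W ≤ W.comap D := by
    intro w hw
    rw [Submodule.mem_comap, hD, LinearMap.sub_apply]
    exact W.sub_mem (hW2 hw) (by simpa using hw)
  set Db : Module.End (ZMod p) (V ⧸ W) := W.mapQ W D hDW with hDb
  have hDbpow : ∀ k, Db ^ k = W.mapQ W (D ^ k) (W.le_comap_pow_of_le_comap hDW k) := fun k =>
    (Submodule.mapQ_pow W hDW k).symm
  have hnil : IsNilpotent Db := by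
    refine ⟨p, ?_⟩
    rw [hDbpow]
    ext v
    simp [hDp]
  set n := Module.finrank (ZMod p) (V ⧸ W) with hn
  have hDbn : Db ^ n = 0 := by
    have h1 := IsNilpotent.charpoly_eq_X_pow_finrank hnil
    have h2 := LinearMap.aeval_self_charpoly Db
    rw [h1, map_pow, aeval_X] at h2
    exact h2
  have hne : (Db ^ (p - 1)) (Submodule.Quotient.mk x) ≠ 0 := by
    rw [hDbpow, Submodule.mapQ_apply]
    intro h
    rw [Submodule.Quotient.mk_eq_zero] at h
    have := hW1 h
    rw [LinearMap.mem_ker, ← hsum] at this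
    exact hlam this
  have hnp : p ≤ n := by
    by_contra hlt
    push Not at hlt
    apply hne
    have : p - 1 = n + (p - 1 - n) := by omega
    rw [this, pow_add, hDbn, zero_mul, LinearMap.zero_apply]
  have hcardQ : Nat.card (V ⧸ W) = p ^ n := by
    rw [Module.natCard_eq_pow_finrank (K := ZMod p), Nat.card_zmod]
  have hmul := Submodule.card_eq_card_quotient_mul_card W
  rw [hmul, hcardQ]
  have : p ^ p ≤ p ^ n := Nat.pow_le_pow_right hp.out.pos hnp
  calc p ^ p * Nat.card W ≤ p ^ n * Nat.card W := Nat.mul_le_mul_right _ this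
    _ = Nat.card W * p ^ n := Nat.mul_comm _ _



/-- M1 (additive form). -/
theorem exists_hyperplane_add (p : ℕ) [hp : Fact p.Prime] {V : Type*} [AddCommGroup V]
    [Module (ZMod p) V] [Finite V] (t : V →+ V) (ht : ∀ v : V, t^[p] v = v) (x : V)
    (hx : ∑ i ∈ Finset.range p, t^[i] x ≠ 0) :
    ∃ K : AddSubgroup V, K.index = p ∧ ∀ C : AddSubgroup V, C ≤ K → (∀ c ∈ C, t c ∈ C) →
      p ^ p * Nat.card C ≤ Nat.card V := by
  set τ : V →ₗ[ZMod p] V := t.toZModLinearMap p with hτdef
  have hτapp : ∀ (i : ℕ) (v : V), (τ ^ i) v = t^[i] v := by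
    intro i
    induction i with
    | zero => intro v; simp
    | succ i ih =>
      intro v
      rw [pow_succ', Module.End.mul_apply, ih, Function.iterate_succ_apply']
      rfl
  have hτp : τ ^ p = 1 := by
    ext v
    rw [hτapp, ht]
    rfl
  have hsum : (∑ i ∈ Finset.range p, τ ^ i) x = ∑ i ∈ Finset.range p, t^[i] x := by
    rw [LinearMap.sum_apply]
    refine Finset.sum_congr rfl fun i _ => ?_
    rw [hτapp]
  have hsumne : (∑ i ∈ Finset.range p, τ ^ i) x ≠ 0 := by
    rw [hsum]
    exact hx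
  obtain ⟨lam, hlam⟩ : ∃ lam : Module.Dual (ZMod p) V,
      lam ((∑ i ∈ Finset.range p, τ ^ i) x) ≠ 0 := by
    by_contra hcon
    push Not at hcon
    exact hsumne ((Module.forall_dual_apply_eq_zero_iff (ZMod p) _).1 hcon)
  have hsurj : Function.Surjective lam := by
    intro c
    set v₀ := (∑ i ∈ Finset.range p, τ ^ i) x with hv₀
    refine ⟨(c / lam v₀) • v₀, ?_⟩
    rw [map_smul, smul_eq_mul, div_mul_cancel₀ _ hlam]
  refine ⟨lam.toAddMonoidHom.ker, ?_, ?_⟩
  · rw [AddSubgroup.index_ker, AddMonoidHom.range_eq_top.2 hsurj, AddSubgroup.card_top,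
      Nat.card_zmod]
  · intro C hCK hCt
    set W : Submodule (ZMod p) V := AddSubgroup.toZModSubmodule p C with hW
    have hmemW : ∀ v : V, v ∈ W ↔ v ∈ C := fun v => Iff.rfl
    have hW1 : W ≤ LinearMap.ker lam := by
      intro v hv
      have h1 := hCK ((hmemW v).1 hv)
      rw [AddMonoidHom.mem_ker] at h1
      rw [LinearMap.mem_ker]
      exact h1
    have hW2 : W ≤ W.comap τ := by
      intro v hv
      rw [Submodule.mem_comap, hmemW]
      exact hCt _ ((hmemW v).1 hv)
    have := card_bound p τ hτp x lam hlam W hW1 hW2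
    have e1 : Nat.card W = Nat.card C := Nat.card_congr
      ⟨fun w => ⟨w.1, (hmemW _).1 w.2⟩, fun c => ⟨c.1, (hmemW _).2 c.2⟩,
        fun _ => rfl, fun _ => rfl⟩
    rwa [e1] at this

/-- M1: the abstract module-theoretic core, stated for commutative groups. -/
theorem exists_hyperplane {B : Type*} [CommGroup B] [Finite B] (p : ℕ) [hp : Fact p.Prime]
    (hexp : ∀ b : B, b ^ p = 1) (t : B →* B) (ht : ∀ b : B, t^[p] b = b) (x : B)
    (hx : ∏ i ∈ Finset.range p, t^[i] x ≠ 1) :
    ∃ K : Subgroup B, K.index = p ∧ ∀ C : Subgroup B, C ≤ K → (∀ c ∈ C, t c ∈ C) →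
      p ^ p * Nat.card C ≤ Nat.card B := by
  have hh : ∀ v : Additive B, p • v = 0 := by
    intro v
    show Additive.ofMul (v.toMul ^ p) = 0
    rw [hexp]; rfl
  have hiter : ∀ (i : ℕ) (v : Additive B),
      (MonoidHom.toAdditive t)^[i] v = Additive.ofMul (t^[i] v.toMul) := by
    intro i
    induction i with
    | zero => intro v; rfl
    | succ i ih =>
      intro v
      rw [Function.iterate_succ_apply', ih, Function.iterate_succ_apply']
      rfl
  obtain ⟨K, hK, hKC⟩ := @exists_hyperplane_add p hp (Additive B) _ (AddCommGroup.zmodModule hh) _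
    (MonoidHom.toAdditive t) (by
      intro v
      rw [hiter, ht]; rfl) (Additive.ofMul x) (by
      intro h
      apply hx
      apply Additive.ofMul.injective
      rw [ofMul_prod]
      refine Eq.trans ?_ h
      refine Finset.sum_congr rfl fun i _ => ?_
      rw [hiter]; rfl)
  refine ⟨AddSubgroup.toSubgroup' K, ?_, ?_⟩
  · rw [← hK]
    exact (Subgroup.index_toAddSubgroup (H := AddSubgroup.toSubgroup' K)).symm
  · intro C hCK hCt
    have := hKC (Subgroup.toAddSubgroup C) (fun v hv => hCK hv) (fun c hc => hCt _ hc)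
    have e1 : Nat.card (Subgroup.toAddSubgroup C) = Nat.card C := Nat.card_congr
      ⟨fun w => ⟨w.1.toMul, w.2⟩, fun c => ⟨Additive.ofMul c.1, c.2⟩,
        fun _ => rfl, fun _ => rfl⟩
    have e2 : Nat.card (Additive B) = Nat.card B := Nat.card_congr Additive.toMul
    rwa [e1, e2] at this


end


theorem card_sylow_perm (p : ℕ) [hp : Fact p.Prime] (Q : Sylow p (Equiv.Perm (Fin (p ^ 2)))) :
    Nat.card Q = p ^ (p + 1) := by
  rw [Sylow.card_eq_multiplicity, Nat.card_perm, Nat.card_eq_fintype_card, Fintype.card_fin,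
    Nat.factorization_def _ hp.out, pow_two, padicValNat_factorial_mul]
  congr 1
  have : padicValNat p (p * 1).factorial = padicValNat p (1).factorial + 1 :=
    padicValNat_factorial_mul 1
  rw [mul_one] at this
  rw [this]
  simp [Nat.add_comm]

/-- A permutation representation of a `p`-group on `p^2` points whose kernel has index at least
`p^(p+1)` surjects onto a Sylow subgroup. -/
theorem exists_sylow_surj {P : Type*} [Group P] [Finite P] {p : ℕ} [hp : Fact p.Prime]
    (hP : IsPGroup p P) {Ω : Type*} [MulAction P Ω] (hΩ : Nat.card Ω = p ^ 2)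
    (hker : p ^ (p + 1) ≤ (MulAction.toPermHom P Ω).ker.index) :
    ∃ (Q : Sylow p (Equiv.Perm (Fin (p ^ 2))))
      (f : P →* ↥(Q : Subgroup (Equiv.Perm (Fin (p ^ 2))))), Function.Surjective f := by
  haveI : Finite Ω := Nat.finite_of_card_ne_zero (by rw [hΩ]; exact pow_ne_zero _ hp.out.ne_zero)
  let e : Ω ≃ Fin (p ^ 2) := Finite.equivFinOfCardEq hΩ
  let ρ : P →* Equiv.Perm (Fin (p ^ 2)) :=
    (e.permCongrHom.toMonoidHom).comp (MulAction.toPermHom P Ω)
  have hkerρ : ρ.ker = (MulAction.toPermHom P Ω).ker := by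
    ext g
    simp only [MonoidHom.mem_ker]
    constructor
    · intro h
      apply e.permCongrHom.injective
      rw [map_one]
      exact h
    · intro h
      show e.permCongrHom ((MulAction.toPermHom P Ω) g) = 1
      rw [h, map_one]
  have hpg : IsPGroup p ρ.range :=
    hP.of_surjective ρ.rangeRestrict ρ.rangeRestrict_surjective
  obtain ⟨Q, hQ⟩ := hpg.exists_le_sylow
  have hcard : Nat.card (Q : Subgroup (Equiv.Perm (Fin (p ^ 2)))) ≤ Nat.card ρ.range := by
    rw [card_sylow_perm, ← Subgroup.index_ker, hkerρ]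
    exact hker
  have heq : ρ.range = (Q : Subgroup (Equiv.Perm (Fin (p ^ 2)))) :=
    Subgroup.eq_of_le_of_card_ge hQ hcard
  refine ⟨Q, ρ.codRestrict _ (fun g => hQ ⟨g, rfl⟩), ?_⟩
  rintro ⟨q, hq⟩
  rw [← heq] at hq
  obtain ⟨g, rfl⟩ := hq
  exact ⟨g, rfl⟩


theorem result' {P : Type*} [Group P] [Finite P] {p : ℕ} [hp : Fact p.Prime] (hP : IsPGroup p P)
    (A : Subgroup P) [hAn : A.Normal]
    (hA : IsMulCommutative A ∧ ∀ a ∈ A, a ^ p = 1) (hidx : A.index = p) (x y : P) (hx : x ∈ A)
    (hy : y ∉ A)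
    (hprod : ((List.range p).map (fun i => (y ^ i)⁻¹ * x * y ^ i)).prod ≠ 1) :
    ∃ (Q : Sylow p (Equiv.Perm (Fin (p ^ 2))))
      (f : P →* ↥(Q : Subgroup (Equiv.Perm (Fin (p ^ 2))))), Function.Surjective f := by
  letI : CommGroup ↥A := @CommGroup.mk ↥A inferInstance (fun a b => hA.1.is_comm.comm a b)
  -- the conjugation map
  let t : ↥A →* ↥A := (MulAut.conjNormal (H := A) y⁻¹).toMonoidHom
  have htapp : ∀ a : ↥A, ((t a : ↥A) : P) = y⁻¹ * a * y := by
    intro a
    show ((MulAut.conjNormal (H := A) y⁻¹ a : ↥A) : P) = _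
    rw [MulAut.conjNormal_apply, inv_inv]
  have hiter : ∀ (i : ℕ) (a : ↥A), ((t^[i] a : ↥A) : P) = (y ^ i)⁻¹ * a * y ^ i := by
    intro i
    induction i with
    | zero => intro a; simp
    | succ i ih =>
      intro a
      rw [Function.iterate_succ_apply', htapp, ih, pow_succ]
      group
  have hyp : y ^ p ∈ A := by
    have h1 : ((y : P ⧸ A)) ^ Nat.card (P ⧸ A) = 1 := pow_card_eq_one'
    rw [← Subgroup.index_eq_card, hidx] at h1
    rw [← QuotientGroup.eq_one_iff]
    exact h1
  have htp : ∀ a : ↥A, t^[p] a = a := by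
    intro a
    apply Subtype.ext
    rw [hiter]
    have := hA.1.is_comm.comm (⟨y ^ p, hyp⟩ : ↥A) a
    have h2 := congrArg (Subtype.val) this
    simp only [Subgroup.coe_mul] at h2
    rw [mul_assoc, ← h2]
    group
  have hprod' : ∏ i ∈ Finset.range p, t^[i] ⟨x, hx⟩ ≠ 1 := by
    intro h
    apply hprod
    rw [← List.toFinset_range, List.prod_toFinset _ (List.nodup_range)] at h
    have h1 := congrArg (A.subtype) h
    rw [map_list_prod, map_one, List.map_map] at h1
    rw [← h1]
    congr 1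
    apply List.map_congr_left
    intro i _
    rw [Function.comp_apply, Subgroup.subtype_apply, hiter]
  obtain ⟨K, hKidx, hK⟩ := exists_hyperplane p (fun b => Subtype.ext (hA.2 b.1 b.2)) t htp
    ⟨x, hx⟩ hprod'
  -- the point stabilizer
  set A₁ : Subgroup P := K.map A.subtype with hA₁
  have hA₁idx : A₁.index = p ^ 2 := by
    rw [hA₁, Subgroup.index_map_subtype, hKidx, hidx, pow_two]
  have hΩ : Nat.card (P ⧸ A₁) = p ^ 2 := by
    rw [← Subgroup.index_eq_card, hA₁idx]
  refine exists_sylow_surj hP hΩ ?_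
  rw [← Subgroup.normalCore_eq_ker]
  set C : Subgroup P := A₁.normalCore with hC
  have hCA₁ : C ≤ A₁ := Subgroup.normalCore_le A₁
  have hA₁A : A₁ ≤ A := by
    rw [hA₁]
    exact Subgroup.map_subtype_le K
  have hCA : C ≤ A := hCA₁.trans hA₁A
  have hCK : C.subgroupOf A ≤ K := by
    intro c hc
    rw [Subgroup.mem_subgroupOf] at hc
    have := hCA₁ hc
    rw [hA₁, Subgroup.mem_map] at this
    obtain ⟨k, hk, hkc⟩ := this
    have : k = c := Subtype.ext hkc
    rwa [← this]
  have hCt : ∀ c ∈ C.subgroupOf A, t c ∈ C.subgroupOf A := by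
    intro c hc
    rw [Subgroup.mem_subgroupOf] at hc ⊢
    rw [htapp]
    have hn : C.Normal := Subgroup.normalCore_normal A₁
    have := hn.conj_mem _ hc y⁻¹
    rwa [inv_inv] at this
  have hb := hK _ hCK hCt
  rw [Nat.card_congr (Subgroup.subgroupOfEquivOfLe hCA).toEquiv] at hb
  have hPA : Nat.card P = Nat.card A * p := by
    rw [← hidx, Subgroup.card_mul_index]
  have hPC : Nat.card P = Nat.card C * C.index := (Subgroup.card_mul_index C).symm
  have hCpos : 0 < Nat.card C := Nat.card_pos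
  have : Nat.card C * p ^ (p + 1) ≤ Nat.card C * C.index := by
    rw [← hPC, hPA, pow_succ]
    calc Nat.card C * (p ^ p * p) = (p ^ p * Nat.card C) * p := by ring
      _ ≤ Nat.card A * p := Nat.mul_le_mul_right _ hb
  exact Nat.le_of_mul_le_mul_left this hCpos




/-- Let P be a finite p-group with a normal elementary abelian subgroup A of index p, and let x ∈ A and y ∈ P with y outside A. If the product of the p conjugates y^(-i) x y^i (i = 0, …, p−1) is not the identity, then the wreath product Z_p ≀ Z_p, realised as a Sylow p-subgroup of the symmetric group of degree p², is a homomorphic image of P. -/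
theorem result {P : Type*} [Group P] [Finite P] {p : ℕ} [Fact p.Prime] (hP : IsPGroup p P) (A : Subgroup P) [A.Normal]
    (hA : Cfsg.IsElementaryAbelian p A) (hidx : A.index = p) (x y : P) (hx : x ∈ A) (hy : y ∉ A)
    (hprod : ((List.range p).map (fun i => (y ^ i)⁻¹ * x * y ^ i)).prod ≠ 1) :
    ∃ (Q : Sylow p (Equiv.Perm (Fin (p ^ 2)))) (f : P →* ↥(Q : Subgroup (Equiv.Perm (Fin (p ^ 2))))), Function.Surjective f := by
  exact result' hP A hA hidx x y hx hy hprod

end Cfsg.Agent.S1952
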