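import Cfsg.Statements.S1956
import Cfsg.Agent.Lib.Helper7.SylowAux

set_option autoImplicit false
open Cfsg

namespace Cfsg.Agent.S1956

open Cfsg.Agent.Lib.Helper7

/-- Let P be a Sylow p-subgroup of the finite group G such that every element of P of order dividing p (dividing 4 when p = 2) is central in P. Then the fusion of these elements is controlled by N_G(P): if such an element a of P has g a g⁻¹ in P, then g = n c with n normalizing P and c commuting with a. -/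
theorem result {G : Type*} [Group G] [Finite G] {p : ℕ} [Fact p.Prime] (P : Sylow p G)
    (hcen : ∀ a ∈ (P : Subgroup G), (a ^ p = 1 ∨ (p = 2 ∧ a ^ 4 = 1)) → ∀ y ∈ (P : Subgroup G), a * y = y * a) :
    ∀ a ∈ (P : Subgroup G), (a ^ p = 1 ∨ (p = 2 ∧ a ^ 4 = 1)) → ∀ g : G, g * a * g⁻¹ ∈ (P : Subgroup G) →
      ∃ n ∈ Subgroup.normalizer ((P : Subgroup G) : Set G), ∃ c : G, c * a = a * c ∧ g = n * c := by
  intro a haP ha g hg
  set b := g * a * g⁻¹ with hb
  have hbcond : b ^ p = 1 ∨ (p = 2 ∧ b ^ 4 = 1) := by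
    rcases ha with h | ⟨h2, h4⟩
    · left; rw [hb, conj_pow, h]; group
    · right; refine ⟨h2, ?_⟩; rw [hb, conj_pow, h4]; group
  set K : Subgroup G := Subgroup.centralizer ({b} : Set G) with hK
  have hPK : (P : Subgroup G) ≤ K := by
    intro y hy
    rw [hK, Subgroup.mem_centralizer_singleton_iff]
    exact (hcen b hg hbcond y hy).symm
  set P' : Subgroup G := (P : Subgroup G).map (MulAut.conj g).toMonoidHom with hP'
  have hP'K : P' ≤ K := by
    rintro _ ⟨y, hy, rfl⟩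
    rw [hK, Subgroup.mem_centralizer_singleton_iff]
    simp only [MulEquiv.coe_toMonoidHom, MulAut.conj_apply]
    have := hcen a haP ha y hy
    rw [hb]
    calc g * y * g⁻¹ * (g * a * g⁻¹) = g * (y * a) * g⁻¹ := by group
      _ = g * (a * y) * g⁻¹ := by rw [this]
      _ = g * a * g⁻¹ * (g * y * g⁻¹) := by group
  obtain ⟨c', hc'K, R, hRp, -, hPR, hP'R⟩ := exists_conj_le_common_pSubgroup K
    (P : Subgroup G) P' P.isPGroup' (P.isPGroup'.map _) hPK hP'K
  have hRP : R = P := sylow_eq_of_le_isPGroup P hRp hPR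
  have hn : c' * g ∈ Subgroup.normalizer ((P : Subgroup G) : Set G) := by
    apply mem_normalizer_of_map_conj_le
    rintro _ ⟨y, hy, rfl⟩
    have h1 : c' * (g * y * g⁻¹) * c'⁻¹ ∈ R := hP'R ⟨g * y * g⁻¹, ⟨y, hy, rfl⟩, rfl⟩
    rw [hRP] at h1
    simp only [MulEquiv.coe_toMonoidHom, MulAut.conj_apply]
    have e : c' * g * y * (c' * g)⁻¹ = c' * (g * y * g⁻¹) * c'⁻¹ := by group
    rw [e]; exact h1
  have hc'b : c' * b = b * c' := Subgroup.mem_centralizer_singleton_iff.mp hc'K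
  refine ⟨c' * g, hn, (c' * g)⁻¹ * c'⁻¹ * (c' * g), ?_, by group⟩
  have e1 : (c' * g)⁻¹ * c'⁻¹ * (c' * g) = g⁻¹ * c'⁻¹ * g := by group
  rw [e1]
  have ha' : a = g⁻¹ * b * g := by rw [hb]; group
  have hc'b' : c'⁻¹ * b = b * c'⁻¹ := by
    have : c'⁻¹ * b = c'⁻¹ * (b * c') * c'⁻¹ := by group
    rw [this, ← hc'b]; group
  rw [ha']
  calc g⁻¹ * c'⁻¹ * g * (g⁻¹ * b * g) = g⁻¹ * (c'⁻¹ * b) * g := by group
    _ = g⁻¹ * (b * c'⁻¹) * g := by rw [hc'b']
    _ = g⁻¹ * b * g * (g⁻¹ * c'⁻¹ * g) := by group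


end Cfsg.Agent.S1956
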