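import Cfsg.Statements.S1962
import Cfsg.Agent.Lib.Helper7.ConjFunctor2

set_option autoImplicit false
open Cfsg

namespace Cfsg.Agent.S1962

open Cfsg.Agent.Lib.Helper7
open scoped commutatorElement

/-- Local-to-global control of transfer through well-placed subgroups. Let p be a prime, G a finite group with Sylow p-subgroup S, and W a conjugacy functor for p on G. If W controls transfer in N_G(T) for every nonidentity subgroup T of S that is well placed in S with respect to W, then W controls transfer in G: S ∩ G' = S ∩ (N_G(W(S)))'. -/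
theorem result {G : Type*} [Group G] [Finite G] {p : ℕ} [Fact p.Prime] (S : Sylow p G) (W : Subgroup G → Subgroup G) (hW : Cfsg.IsConjugacyFunctor p W) (hloc : ∀ T : Subgroup G, T ≠ ⊥ → Cfsg.IsWellPlaced p W (S : Subgroup G) T → Cfsg.ControlsTransferIn p W (Subgroup.normalizer ((T : Subgroup G) : Set G))) : Cfsg.ControlsTransferIn p W ⊤ := by
  refine ⟨(S : Subgroup G), le_top, S.isPGroup', ?_, ?_⟩
  · rw [Subgroup.relIndex_top_right]; exact S.not_dvd_index
  apply le_antisymm
  · set 𝓕 : Set (Subgroup G) := {T : Subgroup G | Cfsg.IsWellPlaced p W (S : Subgroup G) T} with h𝓕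
    have hfam : ∀ T : Subgroup G, T ≤ (S : Subgroup G) → ∃ U ∈ 𝓕,
        (∃ g : G, T.map (MulAut.conj g).toMonoidHom = U) ∧
        ¬ p ∣ ((S : Subgroup G) ⊓ Subgroup.normalizer ((U : Subgroup G) : Set G)).relIndex
          (Subgroup.normalizer ((U : Subgroup G) : Set G)) := by
      intro T hT
      obtain ⟨g, hg⟩ := exists_wellPlaced_conj S hW T hT
      exact ⟨_, hg, ⟨g, rfl⟩, hg.2 0⟩
    have h1 : (S : Subgroup G) ⊓ ⁅(⊤ : Subgroup G), ⊤⁆ = (S : Subgroup G).focalSubgroup := by
      rw [← Subgroup.commutator_inf_eq_focalSubgroup S, inf_comm, commutator_def]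
    rw [h1, Subgroup.focalSubgroup_def, Subgroup.closure_le]
    rintro z ⟨hzS, x, hxS, u, rfl⟩
    refine Subgroup.mem_inf.mpr ⟨hzS, ?_⟩
    rw [top_inf_eq]
    set A : Set G := {x⁻¹} with hA
    have hAS : A ⊆ (S : Subgroup G) := by
      rintro _ rfl; exact Subgroup.inv_mem _ hxS
    have hconj : u * x⁻¹ * u⁻¹ ∈ (S : Subgroup G) := by
      have e : u * x⁻¹ * u⁻¹ = x⁻¹ * ⁅x, u⁆ := by rw [commutatorElement_def]; group
      rw [e]; exact Subgroup.mul_mem _ (Subgroup.inv_mem _ hxS) hzS
    set TA : Subgroup G := Subgroup.closure A with hTA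
    have hTAS : TA ≤ (S : Subgroup G) := (Subgroup.closure_le _).mpr hAS
    have hTAg : cr u⁻¹ (TA : Set G) ⊆ (S : Subgroup G) := by
      rw [cr_coe_eq_map, hTA, MonoidHom.map_closure, SetLike.coe_subset_coe, Subgroup.closure_le]
      rintro _ ⟨a, rfl, rfl⟩
      simp only [MulEquiv.coe_toMonoidHom, MulAut.conj_apply, inv_inv]
      exact hconj
    have hch := fchain_of_fully_normalized S 𝓕 (fun U hU => hU.1) hfam _ TA hTAS rfl u⁻¹ hTAg
    have hch' := hch.mono (Subgroup.subset_closure : A ⊆ (TA : Set G))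
    have := hch'.inv_mul_conj_mem S hW hloc x⁻¹ rfl
    have e : ⁅x, u⁆ = (x⁻¹)⁻¹ * ((u⁻¹)⁻¹ * x⁻¹ * u⁻¹) := by rw [commutatorElement_def]; group
    rw [e]; exact this
  · exact inf_le_inf_left _ (Subgroup.commutator_mono inf_le_left inf_le_left)

end Cfsg.Agent.S1962
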