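import Cfsg.Statements.S1966
import Cfsg.Agent.Lib.Helper7.PCore

set_option autoImplicit false
open Cfsg

namespace Cfsg.Agent.S1966

open Cfsg.Agent.Lib.Helper7

/-- Let p be a prime, G a finite group with Sylow p-subgroup S and 𝓕 a conjugation family for S in G. Then the members of 𝓕 containing O_p(G) still form a conjugation family for S in G. -/
theorem result {G : Type*} [Group G] [Finite G] {p : ℕ} [Fact p.Prime] (S : Sylow p G) (𝓕 : Set (Subgroup G)) (h : Cfsg.IsConjugationFamily 𝓕 (S : Subgroup G)) : Cfsg.IsConjugationFamily {T : Subgroup G | T ∈ 𝓕 ∧ Cfsg.pCore p G ≤ T} (S : Subgroup G) := by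
  obtain ⟨h1, h2⟩ := h
  set R := pCore p G with hR
  have hRn : R.Normal := pCore_normal p G
  have hRS : R ≤ (S : Subgroup G) := pCore_le_sylow S
  refine ⟨fun T hT => h1 T hT.1, ?_⟩
  intro A g hAne hAS hAg
  set A' : Set G := A ∪ (R : Set G) with hA'
  have hA'ne : A'.Nonempty := hAne.mono Set.subset_union_left
  have hA'S : A' ⊆ (S : Subgroup G) := Set.union_subset hAS hRS
  have hconjR : ∀ y : G, ∀ a ∈ (R : Set G), y⁻¹ * a * y ∈ (R : Set G) := by
    intro y a ha
    have := hRn.conj_mem a ha y⁻¹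
    simpa using this
  have hA'g : (fun a => g⁻¹ * a * g) '' A' ⊆ (S : Subgroup G) := by
    rintro _ ⟨a, ha, rfl⟩
    rcases ha with ha | ha
    · exact hAg ⟨a, ha, rfl⟩
    · exact hRS (hconjR g a ha)
  obtain ⟨n, T, x, hprod, hT𝓕, hxN, hT0, hTi⟩ := h2 A' g hA'ne hA'S hA'g
  refine ⟨n, T, x, hprod, ?_, hxN, ?_, ?_⟩
  · intro i
    refine ⟨hT𝓕 i, ?_⟩
    obtain ⟨i, hi⟩ := i
    cases i with
    | zero =>
      intro a ha
      exact hT0 hi (Set.subset_union_right ha)
    | succ j =>
      intro a ha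
      have := hTi ⟨j, by omega⟩ hi
      apply this
      set y := ((List.ofFn x).take (j + 1)).prod with hy
      refine ⟨y * a * y⁻¹, Set.subset_union_right ?_, by group⟩
      exact hRn.conj_mem a ha y
  · intro h0
    exact Set.subset_union_left.trans (hT0 h0)
  · intro i hi
    refine subset_trans ?_ (hTi i hi)
    exact Set.image_mono Set.subset_union_left


end Cfsg.Agent.S1966
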