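import Cfsg.Statements.S1967
import Cfsg.Agent.Lib.Helper7.StronglyEmbedded

set_option autoImplicit false
open Cfsg

namespace Cfsg.Agent.S1967

open Cfsg.Agent.Lib.Helper7

/-- Let p be a prime, G a finite group with Sylow p-subgroup S and W a conjugacy functor for p on G. Then W controls strong fusion in G if and only if, whenever T ≤ S and g ∈ G satisfy gTg⁻¹ ≤ S, one can write g = n c with n ∈ N_G(W(S)) and c ∈ C_G(T). -/
theorem result {G : Type*} [Group G] [Finite G] {p : ℕ} [Fact p.Prime] (S : Sylow p G) (W : Subgroup G → Subgroup G) (hW : Cfsg.IsConjugacyFunctor p W) : Cfsg.ControlsStrongFusionIn p W ⊤ ↔ ∀ (T : Subgroup G) (g : G), T ≤ (S : Subgroup G) → T.map (MulAut.conj g).toMonoidHom ≤ (S : Subgroup G) → ∃ n ∈ Subgroup.normalizer ((W (S : Subgroup G) : Subgroup G) : Set G), ∃ c ∈ Subgroup.centralizer (T : Set G), g = n * c := by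
  constructor
  · rintro ⟨T₀, -, hT₀p, hidx, hctl⟩ T g hTS hTg
    have hidx' : ¬ p ∣ T₀.index := by rwa [Subgroup.relIndex_top_right] at hidx
    set Q : Sylow p G := hT₀p.toSylow hidx' with hQ
    have hQc : (Q : Subgroup G) = T₀ := IsPGroup.toSylow_coe hT₀p hidx'
    obtain ⟨k, hk⟩ := MulAction.exists_smul_eq G S Q
    have hT₀S : T₀ = (S : Subgroup G).map (MulAut.conj k).toMonoidHom := by
      rw [← hQc, ← hk, sylow_smul_coe_eq_map]
    set T' : Subgroup G := T.map (MulAut.conj k).toMonoidHom with hT'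
    have hT'T₀ : (T' : Set G) ⊆ T₀ := by
      rw [hT₀S]; exact Subgroup.map_mono hTS
    have himg : (fun a => (k * g * k⁻¹) * a * (k * g * k⁻¹)⁻¹) '' (T' : Set G) ⊆ T₀ := by
      rintro _ ⟨_, ⟨t, ht, rfl⟩, rfl⟩
      rw [hT₀S]
      refine ⟨g * t * g⁻¹, hTg ⟨t, ht, rfl⟩, ?_⟩
      simp only [MulEquiv.coe_toMonoidHom, MulAut.conj_apply]
      group
    obtain ⟨x, hx, hxa⟩ := hctl (T' : Set G) (k * g * k⁻¹) (Subgroup.mem_top _) hT'T₀ himg
    have hxN : x ∈ Subgroup.normalizer ((W T₀ : Subgroup G) : Set G) := (Subgroup.mem_inf.mp hx).2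
    have hWT₀ : W T₀ = (W (S : Subgroup G)).map (MulAut.conj k).toMonoidHom := by
      rw [hT₀S]; exact (hW _ S.isPGroup').2.2 k
    rw [hWT₀, normalizer_map_conj, mem_map_conj_iff] at hxN
    refine ⟨k⁻¹ * x * k, hxN, (k⁻¹ * x * k)⁻¹ * g, ?_, by group⟩
    rw [Subgroup.mem_centralizer_iff]
    intro t ht
    have h1 := hxa (k * t * k⁻¹) ⟨t, ht, rfl⟩
    have h2 : (k⁻¹ * x * k) * t * (k⁻¹ * x * k)⁻¹ = g * t * g⁻¹ := by
      have e1 : (k⁻¹ * x * k) * t * (k⁻¹ * x * k)⁻¹ = k⁻¹ * (x * (k * t * k⁻¹) * x⁻¹) * k := by group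
      rw [e1, h1]; group
    have h3 : t = (k⁻¹ * x * k)⁻¹ * (g * t * g⁻¹) * (k⁻¹ * x * k) := by rw [← h2]; group
    calc t * ((k⁻¹ * x * k)⁻¹ * g) = ((k⁻¹ * x * k)⁻¹ * (g * t * g⁻¹) * (k⁻¹ * x * k)) * ((k⁻¹ * x * k)⁻¹ * g) := by
          rw [← h3]
      _ = (k⁻¹ * x * k)⁻¹ * g * t := by group
  · intro h
    refine ⟨(S : Subgroup G), le_top, S.isPGroup', ?_, ?_⟩
    · rw [Subgroup.relIndex_top_right]; exact S.not_dvd_index
    · intro A g _ hAS hAg
      set T : Subgroup G := Subgroup.closure A with hT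
      have hTS : T ≤ (S : Subgroup G) := (Subgroup.closure_le _).mpr hAS
      have hTg : T.map (MulAut.conj g).toMonoidHom ≤ (S : Subgroup G) := by
        rw [hT, MonoidHom.map_closure, Subgroup.closure_le]
        rintro _ ⟨a, ha, rfl⟩
        exact hAg ⟨a, ha, rfl⟩
      obtain ⟨n, hn, c, hc, rfl⟩ := h T g hTS hTg
      refine ⟨n, Subgroup.mem_inf.mpr ⟨Subgroup.mem_top _, hn⟩, ?_⟩
      intro a ha
      have := Subgroup.mem_centralizer_iff.mp hc a (Subgroup.subset_closure ha)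
      calc n * a * n⁻¹ = n * (a * c) * c⁻¹ * n⁻¹ := by group
        _ = n * (c * a) * c⁻¹ * n⁻¹ := by rw [this]
        _ = n * c * a * (n * c)⁻¹ := by group


end Cfsg.Agent.S1967
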