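import Cfsg.Statements.S1968
import Cfsg.Agent.Lib.Helper7.WellPlacedWitness
import Cfsg.Agent.Lib.Helper7.CharP

set_option autoImplicit false
open Cfsg

namespace Cfsg.Agent.S1968

open Cfsg.Agent.Lib.Helper7

/-- Let p be a prime, G a finite group with Sylow p-subgroup S and W a conjugacy functor for p on G with Z(P) ≤ W(P) for every p-subgroup P. Let A be a subgroup of Z(S) normalized by N_G(W(S)) that is not weakly closed in S with respect to G. Then there is a subgroup T of S, well placed in S with respect to W, such that: A ≤ T; N_G(W(N_S(T))) normalizes A; N_S(T) is a Sylow p-subgroup of N_G(T); A ≤ Z(N_S(T)); and A is not weakly closed in N_S(T) with respect to N_G(T), that is, some N_G(T)-conjugate of A other than A lies in N_S(T). -/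
theorem result {G : Type*} [Group G] [Finite G] {p : ℕ} [Fact p.Prime] (S : Sylow p G) (W : Subgroup G → Subgroup G) (hW : Cfsg.IsConjugacyFunctor p W) (hWZ : ∀ P : Subgroup G, IsPGroup p ↥P → P ⊓ Subgroup.centralizer (P : Set G) ≤ W P) (A : Subgroup G) (hAZ : A ≤ (S : Subgroup G) ⊓ Subgroup.centralizer ((S : Subgroup G) : Set G)) (hAN : Subgroup.normalizer ((W (S : Subgroup G) : Subgroup G) : Set G) ≤ Subgroup.normalizer ((A : Subgroup G) : Set G)) (hnwc : ¬ Cfsg.IsWeaklyClosed A (S : Subgroup G)) : ∃ T : Subgroup G, Cfsg.IsWellPlaced p W (S : Subgroup G) T ∧ A ≤ T ∧ Subgroup.normalizer ((W ((S : Subgroup G) ⊓ Subgroup.normalizer ((T : Subgroup G) : Set G)) : Subgroup G) : Set G) ≤ Subgroup.normalizer ((A : Subgroup G) : Set G) ∧ ¬ p ∣ ((S : Subgroup G) ⊓ Subgroup.normalizer ((T : Subgroup G) : Set G)).relIndex (Subgroup.normalizer ((T : Subgroup G) : Set G)) ∧ A ≤ Subgroup.centralizer (((S : Subgroup G) ⊓ Subgroup.normalizer ((T : Subgroup G) :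 Set G) : Subgroup G) : Set G) ∧ ∃ g ∈ Subgroup.normalizer ((T : Subgroup G) : Set G), A.map (MulAut.conj g).toMonoidHom ≤ (S : Subgroup G) ⊓ Subgroup.normalizer ((T : Subgroup G) : Set G) ∧ A.map (MulAut.conj g).toMonoidHom ≠ A := by

  have hSp : IsPGroup p ↥(S : Subgroup G) := S.isPGroup'
  have hAS : A ≤ (S : Subgroup G) := hAZ.trans inf_le_left
  have hAC : A ≤ Subgroup.centralizer ((S : Subgroup G) : Set G) := hAZ.trans inf_le_right
  -- a conjugate of A in S different from A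
  obtain ⟨g₀, hg₀S, hg₀ne⟩ : ∃ g₀ : G, A.map (MulAut.conj g₀).toMonoidHom ≤ (S : Subgroup G) ∧
      A.map (MulAut.conj g₀).toMonoidHom ≠ A := by
    by_contra hcon
    push Not at hcon
    exact hnwc ⟨hAS, hcon⟩
  -- candidates
  set 𝒯 : Set (Subgroup G) := {T | Cfsg.IsWellPlaced p W (S : Subgroup G) T ∧ A ≤ T ∧
    ∃ g ∈ Subgroup.normalizer ((T : Subgroup G) : Set G),
      A.map (MulAut.conj g).toMonoidHom ≤ (S : Subgroup G) ⊓ Subgroup.normalizer ((T : Subgroup G) : Set G) ∧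
      A.map (MulAut.conj g).toMonoidHom ≠ A} with h𝒯
  have hne : 𝒯.Nonempty := by
    set 𝓕 : Set (Subgroup G) := {T : Subgroup G | Cfsg.IsWellPlaced p W (S : Subgroup G) T} with h𝓕
    have hfam : ∀ T : Subgroup G, T ≤ (S : Subgroup G) → ∃ U ∈ 𝓕,
        (∃ g : G, T.map (MulAut.conj g).toMonoidHom = U) ∧
        ¬ p ∣ ((S : Subgroup G) ⊓ Subgroup.normalizer ((U : Subgroup G) : Set G)).relIndex
          (Subgroup.normalizer ((U : Subgroup G) : Set G)) := by
      intro T hT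
      obtain ⟨g, hg⟩ := exists_wellPlaced_conj S hW T hT
      exact ⟨_, hg, ⟨g, rfl⟩, hg.2 0⟩
    have hcr : cr g₀⁻¹ (A : Set G) = ((A.map (MulAut.conj g₀).toMonoidHom : Subgroup G) : Set G) := by
      rw [cr_coe_eq_map, inv_inv]
    have hAg : cr g₀⁻¹ (A : Set G) ⊆ (S : Subgroup G) := by
      rw [hcr]; exact SetLike.coe_subset_coe.mpr hg₀S
    have hch := fchain_of_fully_normalized S 𝓕 (fun U hU => hU.1) hfam _ A hAS rfl g₀⁻¹ hAg
    have hmove : cr g₀⁻¹ (A : Set G) ≠ A := by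
      rw [hcr]
      intro h
      exact hg₀ne (SetLike.coe_set_eq.mp h)
    obtain ⟨T, hT, hAT, x, hx, hxA⟩ := hch.exists_step_ne hmove
    refine ⟨T, hT, SetLike.coe_subset_coe.mp hAT, x⁻¹, Subgroup.inv_mem _ hx, ?_, ?_⟩
    · have h1 : cr x (A : Set G) ⊆ T := cr_subset_of_mem_normalizer hx hAT
      rw [cr_coe_eq_map] at h1
      exact (SetLike.coe_subset_coe.mp h1).trans (le_inf hT.1 Subgroup.le_normalizer)
    · intro h
      apply hxA
      rw [cr_coe_eq_map, h]
  obtain ⟨T, hT𝒯, hmax⟩ := Set.exists_max_image 𝒯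
    (fun T => Nat.card ↥((S : Subgroup G) ⊓ Subgroup.normalizer ((T : Subgroup G) : Set G) : Subgroup G))
    (Set.toFinite _) hne
  obtain ⟨hwp, hAT, g, hgN, hgS, hgne⟩ := hT𝒯
  set S₁ : Subgroup G := (S : Subgroup G) ⊓ Subgroup.normalizer ((T : Subgroup G) : Set G) with hS₁
  have hS₁p : IsPGroup p ↥S₁ := hSp.to_le inf_le_left
  have hTS₁ : T ≤ S₁ := le_inf hwp.1 Subgroup.le_normalizer
  have hAS₁ : A ≤ S₁ := hAT.trans hTS₁
  have hAC₁ : A ≤ Subgroup.centralizer ((S₁ : Subgroup G) : Set G) :=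
    hAC.trans (Subgroup.centralizer_le (SetLike.coe_subset_coe.mpr inf_le_left))
  refine ⟨T, hwp, hAT, ?_, hwp.2 0, hAC₁, g, hgN, hgS, hgne⟩
  by_cases hS₁S : S₁ = (S : Subgroup G)
  · show Subgroup.normalizer ((W S₁ : Subgroup G) : Set G) ≤ _
    rw [hS₁S]; exact hAN
  · show Subgroup.normalizer ((W S₁ : Subgroup G) : Set G) ≤ _
    set U : Subgroup G := W S₁ with hU
    have hUwp : Cfsg.IsWellPlaced p W (S : Subgroup G) U := isWellPlaced_shift hW hSp hwp
    have hAU : A ≤ U := (le_inf hAS₁ hAC₁).trans (hWZ S₁ hS₁p)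
    have hgrow := card_lt_card_inf_normalizer_functor S hW (S₁ := S₁) inf_le_left hS₁S
    intro y hy
    by_contra hyA
    have hyne : A.map (MulAut.conj y).toMonoidHom ≠ A := by
      intro h
      exact hyA ((map_conj_eq_self_iff A y).mp h)
    have hyU : A.map (MulAut.conj y).toMonoidHom ≤
        (S : Subgroup G) ⊓ Subgroup.normalizer ((U : Subgroup G) : Set G) := by
      have h1 : A.map (MulAut.conj y).toMonoidHom ≤ U.map (MulAut.conj y).toMonoidHom :=
        Subgroup.map_mono hAU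
      rw [map_conj_eq_of_mem_normalizer hy] at h1
      exact h1.trans (le_inf hUwp.1 Subgroup.le_normalizer)
    have hU𝒯 : U ∈ 𝒯 := ⟨hUwp, hAU, y, hy, hyU, hyne⟩
    have := hmax U hU𝒯
    have h2 : Nat.card ↥((S : Subgroup G) ⊓ Subgroup.normalizer ((U : Subgroup G) : Set G) : Subgroup G) ≤
        Nat.card ↥S₁ := this
    exact absurd hgrow (not_lt.mpr h2)


end Cfsg.Agent.S1968
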