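import Cfsg.Statements.S1982
import Cfsg.Agent.Lib.Helper6.KInfK8

set_option autoImplicit false
universe u
open Cfsg

namespace Cfsg.Agent.S1982

open Cfsg.Agent.Lib.Helper7

/-- Let p be a prime, G a finite group with Sylow p-subgroup S, T = O_p(G), and A a characteristic subgroup of T with A/Z(A) elementary abelian, [T, A] ≤ Z(A), C_T(A) = Z(A), and such that every automorphism of T of order prime to p fixing A elementwise is trivial (a critical subgroup of T). Suppose that the lower or the upper K-infinity subgroup of S is not normal in G. Then there is an element g of S outside T with [A, g, g, g] ≤ Z(A) and [Z(A), g, g] = 1, and such that if moreover C_G(T) ≤ T then some chief factor X/Y of G with X ≤ A satisfies [X, g, g] ≤ Y but [X, g] ≰ Y. -/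
theorem result {G : Type u} [Group G] [Finite G] {p : ℕ} [Fact p.Prime] (S : Sylow p G) (A : Subgroup G) (hAT : A ≤ (Cfsg.pCore p G)) (hAchar : (A.subgroupOf (Cfsg.pCore p G)).Characteristic) (hA1 : ∀ a ∈ A, a ^ p ∈ A ⊓ Subgroup.centralizer ((A : Subgroup G) : Set G)) (hA2 : ⁅A, A⁆ ≤ Subgroup.centralizer ((A : Subgroup G) : Set G)) (hA3 : ⁅(Cfsg.pCore p G), A⁆ ≤ A ⊓ Subgroup.centralizer ((A : Subgroup G) : Set G)) (hA4 : (Cfsg.pCore p G) ⊓ Subgroup.centralizer ((A : Subgroup G) : Set G) = A ⊓ Subgroup.centralizer ((A : Subgroup G) : Set G)) (hA5 : ∀ φ : MulAut ↥(Cfsg.pCore p G), (orderOf φ).Coprime p → (∀ a : ↥(Cfsg.pCore p G), (a : G) ∈ A → φ a = a) → φ = 1) (hK : ¬ (Cfsg.inducedFunctor Cfsg.kInfLower (S : Subgroup G)).Normal ∨ ¬ (Cfsg.inducedFunctor Cfsg.kInfUpper (S : Subgroup G)).Normal) : ∃ g : G, g ∈ (S : Subgroup G) ∧ g ∉ (Cfsg.pCore p G) ∧ Cfsg.iterCommutator A (Subgroup.zpowers g) 3 ≤ A ⊓ Subgroup.centralizer ((A : Subgroup G) : Set G) ∧ ⁅⁅A ⊓ Subgroup.centralizer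 ((A : Subgroup G) : Set G), (Subgroup.zpowers g)⁆, (Subgroup.zpowers g)⁆ = ⊥ ∧ (Subgroup.centralizer (((Cfsg.pCore p G) : Subgroup G) : Set G) ≤ (Cfsg.pCore p G) → ∃ U V : Subgroup G, Cfsg.IsChiefFactor U V ∧ U ≤ A ∧ ⁅⁅U, (Subgroup.zpowers g)⁆, (Subgroup.zpowers g)⁆ ≤ V ∧ ¬ ⁅U, (Subgroup.zpowers g)⁆ ≤ V) := by
  classical
  by_contra hcon
  set T : Subgroup G := pCore p G with hT
  set ZA : Subgroup G := A ⊓ Subgroup.centralizer ((A : Subgroup G) : Set G) with hZA
  haveI hAn : A.Normal := by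
    have h := ConjAct.normal_of_characteristic_of_normal (H := T) (K := A.subgroupOf T)
    rwa [Subgroup.map_subgroupOf_eq_of_le hAT] at h
  haveI hZAn : ZA.Normal := inferInstance
  have hTp : IsPGroup p ↥T := pCore_isPGroup p G
  -- the working form of the negated conclusion
  have key : ∀ g ∈ (S : Subgroup G), g ∉ T → iterCommutator A (Subgroup.zpowers g) 3 = ⊥ →
      ⁅⁅ZA, Subgroup.zpowers g⁆, Subgroup.zpowers g⁆ = ⊥ →
      Subgroup.centralizer ((T : Subgroup G) : Set G) ≤ T ∧
        ∀ U V : Subgroup G, IsChiefFactor U V → U ≤ A →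
          ⁅⁅U, Subgroup.zpowers g⁆, Subgroup.zpowers g⁆ ≤ V → ⁅U, Subgroup.zpowers g⁆ ≤ V := by
    intro g hgS hgT h3 h2
    have hCT : Subgroup.centralizer ((T : Subgroup G) : Set G) ≤ T := by
      by_contra hCT
      exact hcon ⟨g, hgS, hgT, by rw [h3]; exact bot_le, h2, fun h => absurd h hCT⟩
    refine ⟨hCT, ?_⟩
    intro U V hch hUA hq
    by_contra hn
    exact hcon ⟨g, hgS, hgT, by rw [h3]; exact bot_le, h2, fun _ => ⟨U, V, hch, hUA, hq, hn⟩⟩
  -- consequences of `C_G(T) ≤ T`
  have hCAle : Subgroup.centralizer ((T : Subgroup G) : Set G) ≤ T →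
      Subgroup.centralizer ((A : Subgroup G) : Set G) ≤ ZA := fun hCT =>
    Cfsg.Agent.Lib.Helper2.KInfK2.centralizer_le_of_critical A hAn hAT hA4 hA5 hCT
  have hCAp : Subgroup.centralizer ((T : Subgroup G) : Set G) ≤ T →
      IsPGroup p (Subgroup.centralizer ((A : Subgroup G) : Set G)) := fun hCT =>
    hTp.to_le ((hCAle hCT).trans (inf_le_left.trans hAT))
  -- a quadratic element outside T gives a contradiction
  have quadKill : ∀ g ∈ (S : Subgroup G), g ∉ T →
      iterCommutator A (Subgroup.zpowers g) 2 = ⊥ → False := by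
    intro g hgS hgT h2
    have h3 : iterCommutator A (Subgroup.zpowers g) 3 = ⊥ := by
      show ⁅iterCommutator A (Subgroup.zpowers g) 2, Subgroup.zpowers g⁆ = ⊥
      rw [h2, Subgroup.commutator_bot_left]
    have h2' : ⁅⁅ZA, Subgroup.zpowers g⁆, Subgroup.zpowers g⁆ = ⊥ := by
      rw [eq_bot_iff, ← h2]
      exact iterCommutator_mono inf_le_left _ 2
    obtain ⟨hCT, hno⟩ := key g hgS hgT h3 h2'
    have hgB : ¬ Subgroup.zpowers g ≤ T := fun h => hgT (h (Subgroup.mem_zpowers g))
    obtain ⟨X, Y, hch, hXA, -, hnot, -, -⟩ :=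
      Cfsg.Agent.Lib.Helper6.KInfK3.exists_min_chief (p := p) A (Subgroup.zpowers g) ⊥ hAn hAT (hCAp hCT)
        Subgroup.normal_bot bot_le hgB
    apply hnot
    apply hno X Y hch hXA
    have : ⁅⁅X, Subgroup.zpowers g⁆, Subgroup.zpowers g⁆ ≤ iterCommutator A (Subgroup.zpowers g) 2 :=
      iterCommutator_mono hXA _ 2
    rw [h2] at this
    exact this.trans bot_le
  have hK2 : Cfsg.Agent.Lib.Helper6.KInfDefs.KHyp2 p (S : Subgroup G) A := by
    refine ⟨hAT, pCore_le_sylow S, ?_, ?_, ?_, ?_⟩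
    · -- upper_le
      intro Q B hAQ hBS hB
      by_contra hBT
      obtain ⟨g, hgB, hgT⟩ := SetLike.not_le_iff_exists.mp hBT
      have h2 : iterCommutator A B 2 = ⊥ := by
        apply iterCommutator_two_eq_bot_of_le_centralizer
        rw [Subgroup.commutator_comm]
        exact (Subgroup.commutator_mono le_rfl hAQ).trans (hB.2.trans inf_le_right)
      apply quadKill g (hBS hgB) hgT
      rw [eq_bot_iff, ← h2]
      exact Cfsg.Agent.Lib.Helper6.KInfK8.iter_zpowers_le hgB 2
    · -- lower_le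
      intro Q B hAQ hBS hB
      by_contra hBT
      obtain ⟨hB2, hQB, hcond⟩ := hB
      have hZZ : ⁅ZA, ZA⁆ = ⊥ :=
        Subgroup.commutator_eq_bot_iff_le_centralizer.mpr
          (inf_le_right.trans (Subgroup.centralizer_le (by exact_mod_cast (inf_le_left : ZA ≤ A))))
      have hB3 : iterCommutator A B 3 = ⊥ :=
        iterCommutator_three_eq_bot_of_classTwo hB2 (hAQ.trans hQB)
      have hBq : ⁅⁅ZA, B⁆, B⁆ = ⊥ := by
        apply iterCommutator_two_eq_bot_of_le_centralizer
        rw [Subgroup.commutator_comm]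
        refine (hcond ZA ?_ (inf_le_left.trans hAQ) ?_ ?_ ?_).trans inf_le_right
        · show ⁅ZA, ZA⁆ ≤ _
          rw [hZZ]; exact bot_le
        · rw [Subgroup.normalizer_eq_top]; exact le_top
        · rw [hZZ, Subgroup.commutator_bot_right]
        · rw [eq_bot_iff, ← hZZ]
          exact Subgroup.commutator_mono (Subgroup.commutator_le_right _ _) le_rfl
      have cubicOf : ∀ g ∈ B, iterCommutator A (Subgroup.zpowers g) 3 = ⊥ := by
        intro g hg
        rw [eq_bot_iff, ← hB3]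
        exact Cfsg.Agent.Lib.Helper6.KInfK8.iter_zpowers_le hg 3
      have quadOf : ∀ g ∈ B, ⁅⁅ZA, Subgroup.zpowers g⁆, Subgroup.zpowers g⁆ = ⊥ := by
        intro g hg
        rw [eq_bot_iff, ← hBq]
        exact Cfsg.Agent.Lib.Helper6.KInfK8.iter_zpowers_le (A := ZA) hg 2
      by_cases hZB : B ⊓ Subgroup.centralizer ((B : Subgroup G) : Set G) ≤ T
      · obtain ⟨g₀, hg₀B, hg₀T⟩ := SetLike.not_le_iff_exists.mp hBT
        obtain ⟨hCT, -⟩ := key g₀ (hBS hg₀B) hg₀T (cubicOf g₀ hg₀B) (quadOf g₀ hg₀B)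
        obtain ⟨X, Y, hch, hXA, hq, hnot⟩ :=
          Cfsg.Agent.Lib.Helper6.KInfK7.lower_case (p := p) A B Q hAn hAT hA2 hA3 (hCAp hCT) hAQ ⟨hB2, hQB, hcond⟩ hBT hZB
        obtain ⟨g, hgB, hgn⟩ := Cfsg.Agent.Lib.Helper6.KInfK8.exists_zpowers_not_le hnot
        have hgT : g ∉ T := by
          intro hgT
          apply hgn
          haveI : T.Normal := pCore_normal p G
          exact (Subgroup.commutator_mono le_rfl ((Subgroup.zpowers_le).mpr hgT)).trans
            (chief_commutator_le T X Y hTp (hXA.trans hAT) hch)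
        obtain ⟨-, hno⟩ := key g (hBS hgB) hgT (cubicOf g hgB) (quadOf g hgB)
        apply hgn
        apply hno X Y hch hXA
        exact (Cfsg.Agent.Lib.Helper6.KInfK8.iter_zpowers_le (A := X) hgB 2).trans hq
      · obtain ⟨g, hg, hgT⟩ := SetLike.not_le_iff_exists.mp hZB
        obtain ⟨hgB, hgC⟩ := hg
        apply quadKill g (hBS hgB) hgT
        have h1 : ⁅A, Subgroup.zpowers g⁆ ≤ B := by
          refine (Subgroup.commutator_mono le_rfl ((Subgroup.zpowers_le).mpr hgB)).trans ?_
          rw [Subgroup.commutator_comm]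
          exact Subgroup.le_normalizer_iff_commutator_le_left.mp (hAQ.trans hQB)
        show ⁅⁅A, Subgroup.zpowers g⁆, Subgroup.zpowers g⁆ = ⊥
        rw [eq_bot_iff]
        refine (Subgroup.commutator_mono h1 le_rfl).trans ?_
        rw [Subgroup.commutator_eq_bot_iff_le_centralizer.mpr]
        rw [Subgroup.le_centralizer_iff, Subgroup.zpowers_le]
        exact hgC
    · -- mem_lower
      refine ⟨hA2, ?_, ?_⟩
      · rw [Subgroup.normalizer_eq_top]; exact le_top
      · intro A₁ hA₁2 hA₁S hAN hcomm hquad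
        have hle : A₁ ≤ T := by
          by_contra hA₁T
          obtain ⟨g, hgA₁, hgT⟩ := SetLike.not_le_iff_exists.mp hA₁T
          have h3 : iterCommutator A A₁ 3 = ⊥ :=
            iterCommutator_three_eq_bot_of_classTwo hA₁2 hAN
          have hg3 : iterCommutator A (Subgroup.zpowers g) 3 = ⊥ := by
            rw [eq_bot_iff, ← h3]
            exact Cfsg.Agent.Lib.Helper6.KInfK8.iter_zpowers_le hgA₁ 3
          have hg2 : ⁅⁅ZA, Subgroup.zpowers g⁆, Subgroup.zpowers g⁆ = ⊥ := by
            rw [eq_bot_iff, ← hquad]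
            exact Cfsg.Agent.Lib.Helper6.KInfK8.iter_zpowers_le (A := ZA) hgA₁ 2
          obtain ⟨hCT, hno⟩ := key g (hA₁S hgA₁) hgT hg3 hg2
          have hgB : ¬ Subgroup.zpowers g ≤ T := fun h => hgT (h (Subgroup.mem_zpowers g))
          obtain ⟨X, Y, hch, hXA, hor, hnot, -, -⟩ :=
            Cfsg.Agent.Lib.Helper6.KInfK3.exists_min_chief (p := p) A (Subgroup.zpowers g) ZA hAn hAT (hCAp hCT)
              hZAn inf_le_left hgB
          apply hnot
          apply hno X Y hch hXA
          rcases hor with hXZ | hZY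
          · have : ⁅⁅X, Subgroup.zpowers g⁆, Subgroup.zpowers g⁆ ≤
                ⁅⁅ZA, Subgroup.zpowers g⁆, Subgroup.zpowers g⁆ :=
              iterCommutator_mono hXZ _ 2
            rw [hg2] at this
            exact this.trans bot_le
          · have h1 : ⁅A, A₁⁆ ≤ A₁ := by
              rw [Subgroup.commutator_comm]
              exact Subgroup.le_normalizer_iff_commutator_le_left.mp hAN
            have h2 : ⁅A₁, A₁⁆ ≤ Subgroup.centralizer ((A : Subgroup G) : Set G) := by
              rw [← Subgroup.commutator_eq_bot_iff_le_centralizer, Subgroup.commutator_comm]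
              exact hcomm
            have h3' : ⁅⁅X, Subgroup.zpowers g⁆, Subgroup.zpowers g⁆ ≤ ⁅⁅A, A₁⁆, A₁⁆ :=
              (iterCommutator_mono hXA _ 2).trans (Cfsg.Agent.Lib.Helper6.KInfK8.iter_zpowers_le hgA₁ 2)
            exact h3'.trans ((Subgroup.commutator_mono h1 le_rfl).trans
              (h2.trans ((hCAle hCT).trans hZY)))
        rw [Subgroup.commutator_comm]
        exact (Subgroup.commutator_mono hle le_rfl).trans hA3
    · -- mem_upper
      intro Q hQ
      refine ⟨hA2, ?_⟩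
      rw [Subgroup.commutator_comm]
      exact (Subgroup.commutator_mono hQ le_rfl).trans hA3
  obtain ⟨h1, h2⟩ := Cfsg.Agent.Lib.Helper6.KInfK1.kInf_normal hK2 S.isPGroup'
  rcases hK with h | h
  · exact h h1
  · exact h h2

end Cfsg.Agent.S1982
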