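import Cfsg.Statements.S1983
import Cfsg.Agent.S1982
import Cfsg.Agent.Lib.Helper2.KInfK9c
import Cfsg.Agent.Lib.Helper6.KInfK9a

set_option autoImplicit false
universe u
open Cfsg

namespace Cfsg.Agent.S1983

open Cfsg.Agent.Lib.Helper7

/-- Let p be a prime, G a finite group with Sylow p-subgroup S and T = O_p(G). Suppose that the lower or the upper K-infinity subgroup of S is not normal in G. Then there is an element g of S outside T such that [X, g, g, g, g] ≤ Y for every chief factor X/Y of G with X ≤ T, and [Z(T), g, g] = 1; and if moreover C_G(T) ≤ T then some quotient group of G is not p-stable (in the normalizer form: some quadratically acting element of a normalizer fails to map into O_p of the automizer). -/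
theorem result {G : Type u} [Group G] [Finite G] {p : ℕ} [Fact p.Prime] (S : Sylow p G) (hK : ¬ (Cfsg.inducedFunctor Cfsg.kInfLower (S : Subgroup G)).Normal ∨ ¬ (Cfsg.inducedFunctor Cfsg.kInfUpper (S : Subgroup G)).Normal) : ∃ g : G, g ∈ (S : Subgroup G) ∧ g ∉ (Cfsg.pCore p G) ∧ (∀ U V : Subgroup G, Cfsg.IsChiefFactor U V → U ≤ (Cfsg.pCore p G) → Cfsg.iterCommutator U (Subgroup.zpowers g) 4 ≤ V) ∧ ⁅⁅((Cfsg.pCore p G) ⊓ Subgroup.centralizer (((Cfsg.pCore p G) : Subgroup G) : Set G)), (Subgroup.zpowers g)⁆, (Subgroup.zpowers g)⁆ = ⊥ ∧ (Subgroup.centralizer (((Cfsg.pCore p G) : Subgroup G) : Set G) ≤ (Cfsg.pCore p G) → ∃ (N : Subgroup G) (_ : N.Normal), ¬ Cfsg.IsNormalizerPStable p (G ⧸ N)) := by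
  classical
  set T : Subgroup G := pCore p G with hT
  obtain ⟨A, hAT, hAchar, hA1, hA2, hA3, hA4, hA5⟩ :=
    Cfsg.Agent.Lib.Helper2.KInfK9c.exists_critical_full (G := G) (p := p)
  obtain ⟨g, hgS, hgT, h3, h2, h5⟩ :=
    Cfsg.Agent.S1982.result S A hAT hAchar hA1 hA2 hA3 hA4 hA5 hK
  set ZA : Subgroup G := A ⊓ Subgroup.centralizer ((A : Subgroup G) : Set G) with hZA
  haveI hAn : A.Normal := by
    have h := ConjAct.normal_of_characteristic_of_normal (H := T) (K := A.subgroupOf T)
    rwa [Subgroup.map_subgroupOf_eq_of_le hAT] at h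
  haveI hZAn : ZA.Normal := inferInstance
  haveI hTn : T.Normal := pCore_normal p G
  have hTp : IsPGroup p ↥T := pCore_isPGroup p G
  have hq2 : iterCommutator ZA (Subgroup.zpowers g) 2 = ⊥ := h2
  refine ⟨g, hgS, hgT, ?_, ?_, ?_⟩
  · -- clause 1
    have hZj : ∀ U V : Subgroup G, IsChiefFactor U V → U ≤ ZA →
        iterCommutator U (Subgroup.zpowers g) 2 ≤ V := by
      intro U V _ hUZ
      refine (iterCommutator_mono hUZ _ 2).trans ?_
      rw [hq2]; exact bot_le
    have hQi : ∀ U V : Subgroup G, IsChiefFactor U V → U ≤ A →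
        iterCommutator U (Subgroup.zpowers g) 3 ≤ V := by
      intro U V hch hUA
      obtain ⟨hVU, hUn, hVn, hmin⟩ := id hch
      haveI := hUn
      haveI := hVn
      have hgU : Subgroup.zpowers g ≤ Subgroup.normalizer ((U : Subgroup G) : Set G) := by
        rw [Subgroup.normalizer_eq_top]; exact le_top
      have h3U : iterCommutator U (Subgroup.zpowers g) 3 ≤ U :=
        iterCommutator_antitone hgU (Nat.zero_le 3)
      have h3Z : iterCommutator U (Subgroup.zpowers g) 3 ≤ ZA :=
        (iterCommutator_mono hUA _ 3).trans h3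
      set W : Subgroup G := U ⊓ ZA with hW
      haveI hWn : W.Normal := inferInstance
      have hWVn : (W ⊔ V).Normal := inferInstance
      rcases hmin (W ⊔ V) hWVn le_sup_right (sup_le inf_le_left hVU.le) with h | h
      · exact (le_inf h3U h3Z).trans (le_sup_left.trans h.le)
      · have h2U : iterCommutator U (Subgroup.zpowers g) 2 ≤ V := by
          rw [← h]
          refine (iterCommutator_sup_le W (Subgroup.zpowers g) V 2).trans ?_
          refine sup_le ?_ le_rfl
          refine (iterCommutator_mono inf_le_right _ 2).trans ?_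
          rw [hq2]; exact bot_le
        show ⁅iterCommutator U (Subgroup.zpowers g) 2, Subgroup.zpowers g⁆ ≤ V
        exact (Subgroup.commutator_mono h2U le_rfl).trans (Subgroup.commutator_le_left V _)
    have := engel_bound_of_critical T A hTp hAT hA3 (hA4.le.trans inf_le_left) g 3 2
      (by norm_num) (by norm_num) hQi hZj
    exact this
  · -- clause 2
    have hle : T ⊓ Subgroup.centralizer ((T : Subgroup G) : Set G) ≤ ZA := by
      intro z hz
      have hzC : z ∈ Subgroup.centralizer ((A : Subgroup G) : Set G) :=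
        Subgroup.centralizer_le (by exact_mod_cast hAT) hz.2
      have : z ∈ T ⊓ Subgroup.centralizer ((A : Subgroup G) : Set G) := ⟨hz.1, hzC⟩
      rw [hA4] at this
      exact this
    rw [eq_bot_iff, ← h2]
    exact iterCommutator_mono hle _ 2
  · -- clause 3
    intro hCT
    obtain ⟨U, V, hch, hUA, hq, hn⟩ := h5 hCT
    exact Cfsg.Agent.Lib.Helper6.KInfK9a.not_pstable_of_chief U V hch (hUA.trans hAT) g hq hn

end Cfsg.Agent.S1983
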