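import Cfsg.Statements.S1985
import Cfsg.Agent.Lib.Helper7.KInfWeak

set_option autoImplicit false
universe u
open Cfsg

namespace Cfsg.Agent.S1985

open Cfsg.Agent.Lib.Helper7

/-- Let p be an odd prime and G a finite group. Then the lower K-infinity subgroup controls weak closure of elements in G: the lower K-infinity subgroup of every p-subgroup P of G contains Z(P), and for some (equivalently, every) Sylow p-subgroup S of G, with K the lower K-infinity subgroup of S, every element of S commuting with all of N_G(K) is weakly closed in S with respect to G (every G-conjugate of it lying in S equals it). -/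
theorem result {G : Type u} [Group G] [Finite G] {p : ℕ} [Fact p.Prime] (hp : p ≠ 2) : Cfsg.ControlsWeakClosureOfElementsIn p (Cfsg.inducedFunctor (G := G) Cfsg.kInfLower) ⊤ := by

  have hW := isCharPFunctor_kInfLower.{u} p
  have hWc : IsConjugacyFunctor p (inducedFunctor (G := G) kInfLower) :=
    isConjugacyFunctor_inducedFunctor hW
  have hWZ : ∀ P : Subgroup G, IsPGroup p ↥P →
      P ⊓ Subgroup.centralizer ((P : Subgroup G) : Set G) ≤ inducedFunctor (G := G) kInfLower P :=
    fun P hP => (center_le_inducedFunctor_kInf P hP).1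
  refine ⟨hWZ, ?_⟩
  have hbot : IsPGroup p ↥(⊥ : Subgroup G) := IsPGroup.of_bot
  obtain ⟨T, -, hT⟩ := exists_isSylowIn_ge (bot_le : (⊥ : Subgroup G) ≤ ⊤) hbot
  refine ⟨T, hT.1, hT.2.1, hT.2.2, ?_⟩
  intro x hx h hh hhT
  refine weakClosure_of_engel _ hWc hWZ
    (fun H T hTH hTp hTidx hnot => kInf_engel_local hp kInfLower hW (Or.inl rfl) H T hTH hTp hTidx hnot)
    _ ⊤ rfl T hT x hx.1 ?_ h hh hhT
  intro y hy
  have h1 := Subgroup.mem_centralizer_iff.mp hx.2 y hy
  rw [h1, mul_inv_cancel_right]


end Cfsg.Agent.S1985
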