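import Cfsg.Statements.S1988
import Cfsg.Agent.Lib.Helper7.KStable7

set_option autoImplicit false
universe u
open Cfsg

namespace Cfsg.Agent.S1988

open Cfsg.Agent.Lib.Helper7

theorem pc_map_conj_h7 {X : Type*} [Group X] {p : ℕ} {Y : Type*} [Group Y] (f : Y →* X)
    (hf : Function.Injective f) (M U : Subgroup Y) (h : PC p M U) : PC p (M.map f) (U.map f) := by
  rintro _ ⟨a, ha, rfl⟩ hao
  rw [orderOf_injective f hf] at hao
  have h1 := h a ha hao
  rw [Subgroup.mem_centralizer_iff] at h1 ⊢
  rintro _ ⟨u, hu, rfl⟩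
  rw [← map_mul, ← map_mul, h1 u hu]


/-- Let p be an odd prime, G a finite group with Sylow p-subgroup S and K the lower K-infinity subgroup of S. If N_G(K) has a normal p-complement, or if N_G(K)/C_G(K) is a p-group (every element of N_G(K) of order prime to p centralizes K), then G has a normal p-complement. -/
theorem result {G : Type u} [Group G] [Finite G] {p : ℕ} [Fact p.Prime] (hp : p ≠ 2) (S : Sylow p G) (h : Cfsg.HasNormalPComplement p ↥(Subgroup.normalizer ((Cfsg.inducedFunctor Cfsg.kInfLower (S : Subgroup G) : Subgroup G) : Set G)) ∨ ∀ g ∈ Subgroup.normalizer ((Cfsg.inducedFunctor Cfsg.kInfLower (S : Subgroup G) : Subgroup G) : Set G), (orderOf g).Coprime p → g ∈ Subgroup.centralizer ((Cfsg.inducedFunctor Cfsg.kInfLower (S : Subgroup G) : Subgroup G) : Set G)) : Cfsg.HasNormalPComplement p G := by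

  have hW := isCharPFunctor_kInfLower.{u} p
  have hWc : IsConjugacyFunctor p (inducedFunctor (G := G) kInfLower) :=
    isConjugacyFunctor_inducedFunctor hW
  have hyp : SectionProp (MaxSylowFaithful kInfLower p) G :=
    fun K R hR => (maxSylowFaithful_kInf hp _).1
  have hUp : IsPGroup p ↥(inducedFunctor (G := G) kInfLower (S : Subgroup G)) :=
    S.isPGroup'.to_le (hWc _ S.isPGroup').1
  have h0 : PC p (Subgroup.normalizer
      ((inducedFunctor (G := G) kInfLower (S : Subgroup G) : Subgroup G) : Set G))
      (inducedFunctor (G := G) kInfLower (S : Subgroup G)) := by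
    rcases h with h | h
    · exact pc_of_pn ((pn_iff _).mpr h) Subgroup.le_normalizer hUp le_rfl
    · exact h
  have ha : ∀ S' : Sylow p G, PC p (Subgroup.normalizer
      ((inducedFunctor (G := G) kInfLower (S' : Subgroup G) : Subgroup G) : Set G))
      (inducedFunctor (G := G) kInfLower (S' : Subgroup G)) := by
    intro S'
    obtain ⟨g, rfl⟩ := MulAction.exists_smul_eq G S S'
    rw [sylow_smul_coe_eq_map, (hWc _ S.isPGroup').2.2 g, ← Subgroup.map_equiv_normalizer_eq]
    exact pc_map_conj_h7 _ (MulAut.conj g).injective _ _ h0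
  exact pn_top_iff.mp (pn_top_of_maxSylowFaithful hW (Nat.card G) G rfl hyp ha)


end Cfsg.Agent.S1988
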