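import Cfsg.Statements.S1992
import Cfsg.Agent.Lib.Helper7.SelfNormSylow
import Cfsg.Agent.S0144

set_option autoImplicit false
open Cfsg

namespace Cfsg.Agent.S1992

open Cfsg.Agent.Lib.Helper7

/-- Let G be a finite group in which, for every prime q dividing the order of G, every Sylow q-subgroup is its own normalizer. Then the order of G is a power of a single prime (G is a q-group for some prime q; for G trivial any prime works). -/
theorem result {G : Type*} [Group G] [Finite G] (h : ∀ q : ℕ, q.Prime → q ∣ Nat.card G → ∀ Q : Sylow q G, Subgroup.normalizer ((Q : Subgroup G) : Set G) = Q) : ∃ q : ℕ, q.Prime ∧ IsPGroup q G := by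

  by_cases hnt : Nontrivial G
  swap
  · rw [not_nontrivial_iff_subsingleton] at hnt
    refine ⟨2, Nat.prime_two, ?_⟩
    apply IsPGroup.of_card (n := 0)
    rw [pow_zero]
    exact Nat.card_eq_one_iff_unique.mpr ⟨hnt, ⟨1⟩⟩
  by_cases hbig : ∃ p : ℕ, p.Prime ∧ 5 ≤ p ∧ p ∣ Nat.card G
  · obtain ⟨p, hp, hp5, hpd⟩ := hbig
    haveI : Fact p.Prime := ⟨hp⟩
    obtain ⟨S⟩ : Nonempty (Sylow p G) := inferInstance
    refine ⟨p, hp, isPGroup_of_hasIndexP_of_selfNormalizing h p
      (hasIndexP_of_five_le hp5 S (S.ne_bot_of_dvd_card hpd) ?_)⟩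
    intro g hg hcop
    rw [h p hp hpd S] at hg
    obtain ⟨k, hk⟩ := (IsPGroup.iff_orderOf.mp S.isPGroup') ⟨g, hg⟩
    rw [Subgroup.orderOf_mk] at hk
    have hg1 : g = 1 := by
      rw [hk] at hcop
      rcases Nat.eq_zero_or_pos k with h0 | h0
      · rw [h0, pow_zero] at hk; exact orderOf_eq_one_iff.mp hk
      · exfalso
        have h1 := Nat.Coprime.eq_one_of_dvd hcop.symm (dvd_pow_self p h0.ne')
        exact hp.one_lt.ne' h1
    rw [hg1]; exact Subgroup.one_mem _
  · push Not at hbig
    obtain ⟨a, b, hab⟩ := eq_two_pow_mul_three_pow (n := Nat.card G) Nat.card_pos.ne'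
      (fun q hq hqd => by
        by_contra hc
        push Not at hc
        exact hbig q hq hc hqd)
    haveI := Cfsg.Agent.S0144.result (G := G) 2 3 a b Nat.prime_two Nat.prime_three hab
    obtain ⟨r, hr, hM⟩ := exists_hasIndexP_of_solvable (G := G)
    haveI : Fact r.Prime := ⟨hr⟩
    exact ⟨r, hr, isPGroup_of_hasIndexP_of_selfNormalizing h r hM⟩


end Cfsg.Agent.S1992
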