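import Cfsg.Statements.S1993
import Cfsg.Agent.Lib.Helper7.KStable6
import Cfsg.Agent.Lib.Helper7.IndexPKInf2

set_option autoImplicit false
universe u
open Cfsg

namespace Cfsg.Agent.S1993

open Cfsg.Agent.Lib.Helper7

/-- Let p be a prime, G a finite group with Sylow p-subgroup S, and K the upper K-infinity subgroup of S. If p ≥ 5 then S ∩ G' = S ∩ (N_G(K))'; and if p is odd and every section of G is p-stable in the normalizer form, then K controls strong fusion in G. -/
theorem result {G : Type u} [Group G] [Finite G] {p : ℕ} [Fact p.Prime] (S : Sylow p G) : (5 ≤ p → (S : Subgroup G) ⊓ commutator G = (S : Subgroup G) ⊓ ⁅Subgroup.normalizer ((Cfsg.inducedFunctor Cfsg.kInfUpper (S : Subgroup G) : Subgroup G) : Set G), Subgroup.normalizer ((Cfsg.inducedFunctor Cfsg.kInfUpper (S : Subgroup G) : Subgroup G) : Set G)⁆) ∧ (p ≠ 2 → (∀ (K R : Subgroup G) [hR : (R.subgroupOf K).Normal], Cfsg.IsNormalizerPStable p (↥K ⧸ R.subgroupOf K)) → Cfsg.ControlsStrongFusion p (Cfsg.inducedFunctor Cfsg.kInfUpper (S : Subgroup G))) := by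

  have hW := isCharPFunctor_kInfUpper.{u} p
  constructor
  · intro hp
    have hctl := (controlsTransfer_kInf hp G).2
    have htr := transferAt_of_controlsTransferIn (isConjugacyFunctor_inducedFunctor (X := G) hW)
      hctl (isSylowIn_of_sylow S le_top)
    unfold TransferAt at htr
    rw [top_inf_eq] at htr
    rw [commutator_def]
    exact htr
  · intro hp hst
    have hS := sectionStable_of_isNormalizerPStable hst
    exact controlsStrongFusion_of_normal_in_constrained_sections kInfUpper
      hW (normalInConstrained_kInf hS).2 S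


end Cfsg.Agent.S1993
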