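import Cfsg.Statements.S1997
import Cfsg.Agent.Lib.Helper7.TripleFactorization3
import Cfsg.Agent.Lib.Helper7.SingleFunctorSections
import Cfsg.Agent.S1996

set_option autoImplicit false
universe u
open Cfsg

namespace Cfsg.Agent.S1997

open Cfsg.Agent.Lib.Helper7

/-- Let p be a prime, G a finite group with Sylow p-subgroup S, and W₁, W₂ two isomorphism-invariant p-group functors (W assigns to every group Q a subgroup W(Q), nontrivial whenever Q is a nontrivial finite p-group, and every isomorphism from a finite p-group Q onto a group R carries W(Q) onto W(R)). Suppose that G* = C_{G*}(Ω₁Z(S*)) N_{G*}(W₁(S*)) = C_{G*}(Ω₁Z(S*)) N_{G*}(W₂(S*)) = N_{G*}(W₁(S*)) N_{G*}(W₂(S*)) whenever G* = K/R is a section of G with C_{G*}(O_p(G*)) ≤ O_p(G*) and S* is a Sylow p-subgroup of G*, where Ω₁Z denotes the subgroup generated by the elements of order dividing p in the centre. Suppose also Ω₁Z(S) ≤ W₁(S) ∩ W₂(S), and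 let A be the normal closure of Ω₁Z(S) in N_G(W₁(S)). Then A is an elementary abelian subgroup of S, strongly closed in S with respect to G, and A controls strong fusion in G. -/
theorem result {G : Type u} [Group G] [Finite G] {p : ℕ} [Fact p.Prime] (S : Sylow p G) (W₁ W₂ : ∀ (Q : Type u) [Group Q], Subgroup Q) (hW₁ : Cfsg.IsCharPFunctor.{u} p W₁) (hW₂ : Cfsg.IsCharPFunctor.{u} p W₂) (hfac : ∀ (K R : Subgroup G) [hR : (R.subgroupOf K).Normal], Subgroup.centralizer ((Cfsg.pCore p (↥K ⧸ R.subgroupOf K) : Subgroup (↥K ⧸ R.subgroupOf K)) : Set (↥K ⧸ R.subgroupOf K)) ≤ Cfsg.pCore p (↥K ⧸ R.subgroupOf K) → ∀ T : Sylow p (↥K ⧸ R.subgroupOf K), (∀ x : (↥K ⧸ R.subgroupOf K), ∃ a ∈ Subgroup.centralizer ((Cfsg.omegaOne p ((T : Subgroup (↥K ⧸ R.subgroupOf K)) ⊓ Subgroup.centralizer (((T : Subgroup (↥K ⧸ R.subgroupOf K)) : Subgroup (↥K ⧸ R.subgroupOf K)) : Set (↥K ⧸ R.subgroupOf K))) : Subgroup (↥K ⧸ R.subgroupOf K))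 : Set (↥K ⧸ R.subgroupOf K)), ∃ b ∈ Subgroup.normalizer ((Cfsg.inducedFunctor (G := (↥K ⧸ R.subgroupOf K)) W₁ (T : Subgroup (↥K ⧸ R.subgroupOf K)) : Subgroup (↥K ⧸ R.subgroupOf K)) : Set (↥K ⧸ R.subgroupOf K)), x = a * b) ∧ (∀ x : (↥K ⧸ R.subgroupOf K), ∃ a ∈ Subgroup.centralizer ((Cfsg.omegaOne p ((T : Subgroup (↥K ⧸ R.subgroupOf K)) ⊓ Subgroup.centralizer (((T : Subgroup (↥K ⧸ R.subgroupOf K)) : Subgroup (↥K ⧸ R.subgroupOf K)) : Set (↥K ⧸ R.subgroupOf K))) : Subgroup (↥K ⧸ R.subgroupOf K)) : Set (↥K ⧸ R.subgroupOf K)), ∃ b ∈ Subgroup.normalizer ((Cfsg.inducedFunctor (G := (↥K ⧸ R.subgroupOf K)) W₂ (T : Subgroup (↥K ⧸ R.subgroupOf K)) : Subgroup (↥K ⧸ R.subgroupOf K)) : Set (↥K ⧸ R.subgroupOf K)), x = a * b) ∧ (∀ x : (↥K ⧸ R.subgroupOf K), ∃ a ∈ Subgroup.normalizer ((Cfsg.inducedFunctor (G := (↥K ⧸ R.subgroupOf K)) W₁ (T : Subgroup (↥K ⧸ R.subgroupOf K)) : Subgroup (↥K ⧸ R.subgroupOf K)) : Set (↥K ⧸ R.subgroupOf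 K)), ∃ b ∈ Subgroup.normalizer ((Cfsg.inducedFunctor (G := (↥K ⧸ R.subgroupOf K)) W₂ (T : Subgroup (↥K ⧸ R.subgroupOf K)) : Subgroup (↥K ⧸ R.subgroupOf K)) : Set (↥K ⧸ R.subgroupOf K)), x = a * b)) (hZ : Cfsg.omegaOne p ((S : Subgroup G) ⊓ Subgroup.centralizer (((S : Subgroup G) : Subgroup G) : Set G)) ≤ Cfsg.inducedFunctor (G := G) W₁ (S : Subgroup G) ⊓ Cfsg.inducedFunctor (G := G) W₂ (S : Subgroup G)) (N₁ : Subgroup G) (hN₁ : N₁ = Subgroup.normalizer ((Cfsg.inducedFunctor (G := G) W₁ (S : Subgroup G) : Subgroup G) : Set G)) (A : Subgroup G) (hA : A = (Subgroup.normalClosure (((Cfsg.omegaOne p ((S : Subgroup G) ⊓ Subgroup.centralizer (((S : Subgroup G) : Subgroup G) : Set G))).subgroupOf N₁ : Subgroup ↥N₁) : Set ↥N₁)).map N₁.subtype) : A ≤ (S : Subgroup G) ∧ Cfsg.IsElementaryAbelian p A ∧ Cfsg.IsStronglyClosed A (S : Subgroup G) ∧ Cfsg.ControlsStrongFusion p A := by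

  subst hN₁
  set Z : Subgroup G := Cfsg.omegaOne p ((S : Subgroup G) ⊓ Subgroup.centralizer (((S : Subgroup G) : Subgroup G) : Set G)) with hZdef
  have hZoc : omegaCenter p (S : Subgroup G) = Z := rfl
  set U₁ : Subgroup G := Cfsg.inducedFunctor (G := G) W₁ (S : Subgroup G) with hU₁
  set U₂ : Subgroup G := Cfsg.inducedFunctor (G := G) W₂ (S : Subgroup G) with hU₂
  set N₁ : Subgroup G := Subgroup.normalizer (U₁ : Set G) with hN₁
  set N₂ : Subgroup G := Subgroup.normalizer (U₂ : Set G) with hN₂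
  have hSp : IsPGroup p ↥(S : Subgroup G) := S.isPGroup'
  have hc1 : IsConjugacyFunctor p (inducedFunctor (G := G) W₁) := isConjugacyFunctor_inducedFunctor hW₁
  have hc2 : IsConjugacyFunctor p (inducedFunctor (G := G) W₂) := isConjugacyFunctor_inducedFunctor hW₂
  have hZ1 : Z ≤ U₁ := hZ.trans inf_le_left
  have hZ2 : Z ≤ U₂ := hZ.trans inf_le_right
  have hU₁S : U₁ ≤ (S : Subgroup G) := inducedFunctor_le W₁ _
  have hSN₁ : (S : Subgroup G) ≤ N₁ :=
    Subgroup.le_normalizer.trans (normalizer_le_normalizer_functor hc1 hSp)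
  have hyp1 : SectionProp (FacCN W₁ p) G := by
    intro K R hR hfin hcon T hTp hTidx x
    have := (hfac K R hcon (hTp.toSylow hTidx)).1 x
    rw [IsPGroup.toSylow_coe] at this
    exact this
  have hyp2 : SectionProp (FacCN W₂ p) G := by
    intro K R hR hfin hcon T hTp hTidx x
    have := (hfac K R hcon (hTp.toSylow hTidx)).2.1 x
    rw [IsPGroup.toSylow_coe] at this
    exact this
  have h12 : cc N₂ Z ≤ cc N₁ Z := cc_normalizer_le hW₁ hW₂ (Nat.card G) G rfl hyp1 S hZ1 hZ2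
  have h21 : cc N₁ Z ≤ cc N₂ Z := cc_normalizer_le hW₂ hW₁ (Nat.card G) G rfl hyp2 S hZ2 hZ1
  have hZN₁ : Z ≤ N₁ := (hZ1.trans hU₁S).trans hSN₁
  have hAeq : A = cc N₁ Z := by rw [hA, normalClosure_map_eq_cc hZN₁]
  have hA2 : A = cc N₂ Z := hAeq.trans (le_antisymm h21 h12)
  have hN₁A : N₁ ≤ Subgroup.normalizer (A : Set G) := by rw [hAeq]; exact le_normalizer_cc N₁ Z
  have hN₂A : N₂ ≤ Subgroup.normalizer (A : Set G) := by rw [hA2]; exact le_normalizer_cc N₂ Z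
  have hAU : A ≤ U₁ := by rw [hAeq]; exact cc_le hZ1 (le_refl N₁)
  have hAS : A ≤ (S : Subgroup G) := hAU.trans hU₁S
  -- the generators are central in `U₁` and of order dividing `p`
  have hZS : Z ≤ (S : Subgroup G) ⊓ Subgroup.centralizer ((S : Subgroup G) : Set G) := omegaCenter_le p _
  have hZcomm : ∀ z ∈ Z, ∀ w ∈ Z, z * w = w * z := by
    intro z hz w hw
    exact (Subgroup.mem_centralizer_iff.mp (hZS hw).2 z (hZS hz).1)
  have hZp : ∀ z ∈ Z, z ^ p = 1 := by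
    intro z hz
    rw [hZdef] at hz
    unfold Cfsg.omegaOne at hz
    induction hz using Subgroup.closure_induction with
    | mem y hy => exact hy.2
    | one => exact one_pow p
    | mul a b ha hb iha ihb =>
      have hab : Commute a b := hZcomm a ha b hb
      rw [hab.mul_pow, iha, ihb, one_mul]
    | inv a _ iha => rw [inv_pow, iha, inv_one]
  have hAC : A ≤ Subgroup.centralizer (U₁ : Set G) := by
    rw [hAeq]
    unfold cc
    rw [Subgroup.closure_le]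
    rintro _ ⟨n, hn, z, hz, rfl⟩
    rw [SetLike.mem_coe, Subgroup.mem_centralizer_iff]
    intro u hu
    have hu' : n⁻¹ * u * n ∈ U₁ := by
      have := (Subgroup.mem_normalizer_iff.mp (N₁.inv_mem hn) u).mp hu
      simpa using this
    have h1 := Subgroup.mem_centralizer_iff.mp (hZS hz).2 (n⁻¹ * u * n) (hU₁S hu')
    calc u * (n * z * n⁻¹) = n * ((n⁻¹ * u * n) * z) * n⁻¹ := by group
      _ = n * (z * (n⁻¹ * u * n)) * n⁻¹ := by rw [h1]
      _ = n * z * n⁻¹ * u := by group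
  have hAcomm : ∀ a ∈ A, ∀ b ∈ A, a * b = b * a := by
    intro a ha b hb
    exact (Subgroup.mem_centralizer_iff.mp (hAC hb) a (hAU ha))
  have hAp : ∀ a ∈ A, a ^ p = 1 := by
    intro a ha
    rw [hAeq] at ha
    unfold cc at ha
    induction ha using Subgroup.closure_induction with
    | mem y hy =>
      obtain ⟨n, hn, z, hz, rfl⟩ := hy
      rw [conj_pow, hZp z hz]; group
    | one => exact one_pow p
    | mul a b ha hb iha ihb =>
      have ha' : a ∈ A := by rw [hAeq]; exact ha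
      have hb' : b ∈ A := by rw [hAeq]; exact hb
      have hab : Commute a b := hAcomm a ha' b hb'
      rw [hab.mul_pow, iha, ihb, one_mul]
    | inv a _ iha => rw [inv_pow, iha, inv_one]
  -- control of strong fusion by the pair
  have hP12 := Cfsg.Agent.S1996.result W₁ W₂ hW₁ hW₂ (fun K R hR hcon T => (hfac K R hcon T).2.2)
  have h𝓦c : ∀ W ∈ ({Cfsg.inducedFunctor (G := G) W₁, Cfsg.inducedFunctor (G := G) W₂} :
      Set (Subgroup G → Subgroup G)), IsConjugacyFunctor p W := by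
    intro W hW
    rcases hW with rfl | rfl
    · exact hc1
    · exact hc2
  have hreach : ∀ (𝒜 : Set G) (x : G), 𝒜 ⊆ (S : Subgroup G) → cr x 𝒜 ⊆ (S : Subgroup G) →
      ∃ g' ∈ Subgroup.normalizer (A : Set G), ∀ a ∈ 𝒜, g'⁻¹ * a * g' = x⁻¹ * a * x := by
    intro 𝒜 x h𝒜 h𝒜x
    obtain ⟨g', hch, hag⟩ := wReach_of_familyControls h𝓦c hP12 (isSylowIn_of_sylow S le_top) 𝒜 x
      (Subgroup.mem_top x) h𝒜 h𝒜x
    refine ⟨g', ?_, hag⟩
    apply SChain.mem_of_steps (Subgroup.normalizer (A : Set G)) _ hch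
    rintro B y ⟨⟨W, hW, hy⟩, _, _⟩
    rcases hW with rfl | rfl
    · exact hN₁A hy.2
    · exact hN₂A hy.2
  refine ⟨hAS, ⟨⟨⟨fun a b => Subtype.ext (hAcomm a a.2 b b.2)⟩⟩, hAp⟩, ⟨hAS, ?_⟩, ⟨S, hAS, ?_⟩⟩
  · intro a ha g hg
    obtain ⟨g', hg', hag⟩ := hreach {a} g⁻¹ (Set.singleton_subset_iff.mpr (hAS ha)) (by
      rintro _ ⟨b, hb, rfl⟩
      rw [Set.mem_singleton_iff] at hb
      rw [hb]
      show g⁻¹⁻¹ * a * g⁻¹ ∈ (S : Subgroup G)
      rw [inv_inv]
      exact hg)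
    have h1 := hag a rfl
    have h2 : g'⁻¹ * a * g'⁻¹⁻¹ ∈ A :=
      (Subgroup.mem_normalizer_iff.mp (Subgroup.inv_mem _ hg') a).mp ha
    rw [inv_inv] at h1 h2
    rw [← h1]; exact h2
  · intro 𝒜 h𝒜
    refine ⟨h𝒜, ?_⟩
    intro g hg
    obtain ⟨g', hg', hag⟩ := hreach 𝒜 g⁻¹ h𝒜 (by
      rintro _ ⟨b, hb, rfl⟩
      have h3 : g * b * g⁻¹ ∈ (S : Subgroup G) := hg ⟨b, hb, rfl⟩
      show g⁻¹⁻¹ * b * g⁻¹ ∈ (S : Subgroup G)
      rw [inv_inv]
      exact h3)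
    refine ⟨g'⁻¹, Subgroup.inv_mem _ hg', ?_⟩
    intro a ha
    have := hag a ha
    rw [inv_inv] at this ⊢
    exact this.symm


end Cfsg.Agent.S1997
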