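import Cfsg.Statements.S2001
import Cfsg.Agent.Lib.Helper7.PairTransfer
import Cfsg.Agent.Lib.Helper7.CharP

set_option autoImplicit false
open Cfsg

namespace Cfsg.Agent.S2001

open Cfsg.Agent.Lib.Helper7
open scoped Pointwise

/-- Let p be a prime dividing the order of the finite group G, P a Sylow p-subgroup, W a conjugacy functor for p on G with Z(H) ≤ W(H) for every nontrivial p-subgroup H, and V a central functor: a conjugacy functor with V(H) ≤ Z(H), and V(H) ≤ V(K) whenever Z(H) ≤ Z(K), for nontrivial p-subgroups H, K. Say that W with V controls transfer in a subgroup L when some Sylow p-subgroup Q of L satisfies Q ∩ L' = (Q ∩ (N_L(W(Q)))')·(Q ∩ (C_L(V(Q)))') as a product of two subgroups. If W with V controls transfer in N_G(H) for every subgroup H with Z(P) ≤ H ≤ P, then W with V controls transfer in G. -/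
theorem result {G : Type*} [Group G] [Finite G] {p : ℕ} [Fact p.Prime] (hdiv : p ∣ Nat.card G) (P : Sylow p G) (W V : Subgroup G → Subgroup G) (hW : Cfsg.IsConjugacyFunctor p W) (hV : Cfsg.IsConjugacyFunctor p V) (hWZ : ∀ H : Subgroup G, IsPGroup p ↥H → H ⊓ Subgroup.centralizer ((H : Subgroup G) : Set G) ≤ W H) (hVZ : ∀ H : Subgroup G, IsPGroup p ↥H → V H ≤ H ⊓ Subgroup.centralizer ((H : Subgroup G) : Set G)) (hVmono : ∀ H K : Subgroup G, IsPGroup p ↥H → IsPGroup p ↥K → H ≠ ⊥ → K ≠ ⊥ → H ⊓ Subgroup.centralizer ((H : Subgroup G) : Set G) ≤ K ⊓ Subgroup.centralizer ((K : Subgroup G) : Set G) → V H ≤ V K) (hloc : ∀ H : Subgroup G, (P : Subgroup G) ⊓ Subgroup.centralizer (((P : Subgroup G) : Subgroup G) : Set G) ≤ H → H ≤ (P : Subgroup G) → ∃ Q : Subgroup G, Q ≤ Subgroup.normalizer ((H : Subgroup G) : Set G) ∧ IsPGroup p ↥Q ∧ ¬ p ∣ (Q).relIndex (Subgroup.normalizer ((H : Subgroup G) : Set G)) ∧ ∀ x : G, x ∈ Q ⊓ ⁅Subgroup.normalizer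 ((H : Subgroup G) : Set G), Subgroup.normalizer ((H : Subgroup G) : Set G)⁆ ↔ ∃ a ∈ Q ⊓ ⁅Subgroup.normalizer ((H : Subgroup G) : Set G) ⊓ Subgroup.normalizer ((W Q : Subgroup G) : Set G), Subgroup.normalizer ((H : Subgroup G) : Set G) ⊓ Subgroup.normalizer ((W Q : Subgroup G) : Set G)⁆, ∃ b ∈ Q ⊓ ⁅Subgroup.normalizer ((H : Subgroup G) : Set G) ⊓ Subgroup.centralizer ((V Q : Subgroup G) : Set G), Subgroup.normalizer ((H : Subgroup G) : Set G) ⊓ Subgroup.centralizer ((V Q : Subgroup G) : Set G)⁆, x = a * b) : ∃ Q : Subgroup G, IsPGroup p ↥Q ∧ ¬ p ∣ Q.index ∧ ∀ x : G, x ∈ Q ⊓ commutator G ↔ ∃ a ∈ Q ⊓ ⁅Subgroup.normalizer ((W Q : Subgroup G) : Set G), Subgroup.normalizer ((W Q : Subgroup G) : Set G)⁆, ∃ b ∈ Q ⊓ ⁅Subgroup.centralizer ((V Q : Subgroup G) : Set G), Subgroup.centralizer ((V Q : Subgroup G) : Set G)⁆, x = a * b := by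

  have hPp : IsPGroup p ↥(P : Subgroup G) := P.isPGroup'
  have hPne : (P : Subgroup G) ≠ ⊥ := P.ne_bot_of_dvd_card hdiv
  refine ⟨(P : Subgroup G), hPp, P.not_dvd_index, ?_⟩
  have hle := pTransferAt_top_of_local P hPne hW hV hWZ hVZ hVmono (by
    intro H hZ hHP
    obtain ⟨Q, hQN, hQp, hQidx, hiff⟩ := hloc H hZ hHP
    refine ⟨Q, ⟨hQN, hQp, hQidx⟩, ?_⟩
    intro x hx
    obtain ⟨a, ha, b, hb, rfl⟩ := (hiff x).mp hx
    exact Subgroup.mul_mem_sup ha hb)
  set A₁ : Subgroup G := (P : Subgroup G) ⊓ ⁅Subgroup.normalizer ((W (P : Subgroup G) : Subgroup G) : Set G),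
    Subgroup.normalizer ((W (P : Subgroup G) : Subgroup G) : Set G)⁆ with hA₁
  set A₂ : Subgroup G := (P : Subgroup G) ⊓ ⁅Subgroup.centralizer ((V (P : Subgroup G) : Subgroup G) : Set G),
    Subgroup.centralizer ((V (P : Subgroup G) : Subgroup G) : Set G)⁆ with hA₂
  have hPC : (P : Subgroup G) ≤ Subgroup.normalizer
      ((Subgroup.centralizer ((V (P : Subgroup G) : Subgroup G) : Set G) : Subgroup G) : Set G) :=
    (Subgroup.le_normalizer.trans (normalizer_le_normalizer_functor hV hPp)).trans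
      (normalizer_le_normalizer_centralizer _)
  have hnorm : A₁ ≤ Subgroup.normalizer ((A₂ : Subgroup G) : Set G) := by
    refine (inf_le_left : A₁ ≤ (P : Subgroup G)).trans ?_
    exact Cfsg.Agent.Lib.Helper1.le_normalizer_inf Subgroup.le_normalizer
      (le_normalizer_commutator hPC hPC)
  intro x
  constructor
  · intro hx
    have hx' : x ∈ (P : Subgroup G) ⊓ ⁅(⊤ : Subgroup G), ⊤⁆ := by
      rw [← commutator_def]; exact hx
    have h1 : x ∈ ((A₁ ⊔ A₂ : Subgroup G) : Set G) := hle hx'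
    rw [Subgroup.coe_mul_of_left_le_normalizer_right A₁ A₂ hnorm, Set.mem_mul] at h1
    obtain ⟨a, ha, b, hb, rfl⟩ := h1
    exact ⟨a, ha, b, hb, rfl⟩
  · rintro ⟨a, ha, b, hb, rfl⟩
    refine Subgroup.mem_inf.mpr ⟨Subgroup.mul_mem _ (Subgroup.mem_inf.mp ha).1 (Subgroup.mem_inf.mp hb).1, ?_⟩
    rw [commutator_def]
    exact Subgroup.mul_mem _
      (Subgroup.commutator_mono le_top le_top (Subgroup.mem_inf.mp ha).2)
      (Subgroup.commutator_mono le_top le_top (Subgroup.mem_inf.mp hb).2)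


end Cfsg.Agent.S2001
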