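import Cfsg.Statements.S2002
import Cfsg.Agent.Lib.Helper7.PairFunctor2

set_option autoImplicit false
open Cfsg

namespace Cfsg.Agent.S2002

open Cfsg.Agent.Lib.Helper7

/-- Let p be a prime dividing the order of the finite group G, P a Sylow p-subgroup, W a conjugacy functor for p on G with Z(H) ≤ W(H) for every nontrivial p-subgroup H, and V a central functor (a conjugacy functor with V(H) ≤ Z(H), and V(H) ≤ V(K) whenever Z(H) ≤ Z(K)). Say that W with V controls strong fusion in a subgroup L when some Sylow p-subgroup Q of L has the property: whenever X ⊆ Q and a ∈ L with a⁻¹Xa ⊆ Q, then a = c b with c ∈ C_L(X) and b = b₁ ⋯ bₙ a product of elements each in N_L(W(Q)) or in C_L(V(Q)) such that every partial conjugate (b₁ ⋯ bₖ)⁻¹ X (b₁ ⋯ bₖ) lies in Q. If W with V controls strong fusion in N_G(H) for every subgroup H with Z(P) ≤ H ≤ P, then W with V controls strong fusion in G. -/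
theorem result {G : Type*} [Group G] [Finite G] {p : ℕ} [Fact p.Prime] (hdiv : p ∣ Nat.card G) (P : Sylow p G) (W V : Subgroup G → Subgroup G) (hW : Cfsg.IsConjugacyFunctor p W) (hV : Cfsg.IsConjugacyFunctor p V) (hWZ : ∀ H : Subgroup G, IsPGroup p ↥H → H ⊓ Subgroup.centralizer ((H : Subgroup G) : Set G) ≤ W H) (hVZ : ∀ H : Subgroup G, IsPGroup p ↥H → V H ≤ H ⊓ Subgroup.centralizer ((H : Subgroup G) : Set G)) (hVmono : ∀ H K : Subgroup G, IsPGroup p ↥H → IsPGroup p ↥K → H ≠ ⊥ → K ≠ ⊥ → H ⊓ Subgroup.centralizer ((H : Subgroup G) : Set G) ≤ K ⊓ Subgroup.centralizer ((K : Subgroup G) : Set G) → V H ≤ V K) (hloc : ∀ H : Subgroup G, (P : Subgroup G) ⊓ Subgroup.centralizer (((P : Subgroup G) : Subgroup G) : Set G) ≤ H → H ≤ (P : Subgroup G) → ∃ Q : Subgroup G, Q ≤ Subgroup.normalizer ((H : Subgroup G) : Set G) ∧ IsPGroup p ↥Q ∧ ¬ p ∣ (Q).relIndex (Subgroup.normalizer ((H : Subgroup G) : Set G)) ∧ ∀ (X : Set G) (a : G), X ⊆ Q → a ∈ Subgroup.normalizer ((H : Subgroup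 G) : Set G) → (fun x => a⁻¹ * x * a) '' X ⊆ Q → ∃ c ∈ Subgroup.normalizer ((H : Subgroup G) : Set G) ⊓ Subgroup.centralizer X, ∃ (n : ℕ) (b : Fin n → G), (∀ i, b i ∈ Subgroup.normalizer ((H : Subgroup G) : Set G) ⊓ Subgroup.normalizer ((W Q : Subgroup G) : Set G) ∨ b i ∈ Subgroup.normalizer ((H : Subgroup G) : Set G) ⊓ Subgroup.centralizer ((V Q : Subgroup G) : Set G)) ∧ a = c * (List.ofFn b).prod ∧ ∀ k : ℕ, k ≤ n → (fun x => (((List.ofFn b).take k).prod)⁻¹ * x * ((List.ofFn b).take k).prod) '' ((fun x => c⁻¹ * x * c) '' X) ⊆ Q) : ∃ Q : Subgroup G, IsPGroup p ↥Q ∧ ¬ p ∣ Q.index ∧ ∀ (X : Set G) (a : G), X ⊆ Q → (fun x => a⁻¹ * x * a) '' X ⊆ Q → ∃ c ∈ Subgroup.centralizer X, ∃ (n : ℕ) (b : Fin n → G), (∀ i, b i ∈ ⊤ ⊓ Subgroup.normalizer ((W Q : Subgroup G) : Set G) ∨ b i ∈ ⊤ ⊓ Subgroup.centralizer ((V Q : Subgroup G) : Set G)) ∧ a = c * (List.ofFn b).prod ∧ ∀ k : ℕ, k ≤ n → (fun x => (((List.ofFn b).take k).prod)⁻¹ * x * ((List.ofFn b).take k).prod) '' ((fun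 x => c⁻¹ * x * c) '' X) ⊆ Q := by

  have hPp : IsPGroup p ↥(P : Subgroup G) := P.isPGroup'
  have hPne : (P : Subgroup G) ≠ ⊥ := P.ne_bot_of_dvd_card hdiv
  refine ⟨(P : Subgroup G), hPp, P.not_dvd_index, ?_⟩
  have hRel := PStep.fusionRel W V (⊤ : Subgroup G) (P : Subgroup G)
  have hmain : ∀ (A : Set G) (g : G), A ⊆ (P : Subgroup G) → cr g A ⊆ (P : Subgroup G) →
      SReach (PStep W V (⊤ : Subgroup G) (P : Subgroup G)) A g := by
    apply FusionRel.pair_local_to_global P hPne hW hWZ hVmono hRel SReach.congr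
    · intro y hy B hB hBy
      exact SReach.single ⟨Or.inl (Subgroup.mem_inf.mpr ⟨Subgroup.mem_top y, hy⟩), hB, hBy⟩
    · intro y hy B hB hBy
      exact SReach.single ⟨Or.inr (Subgroup.mem_inf.mpr ⟨Subgroup.mem_top y, hy⟩), hB, hBy⟩
    · intro T hTS hfn ⟨k, hZk, hkS⟩ hstepsW hstepsV x hx A hA hAx
      set H : Subgroup G := T.map (MulAut.conj k).toMonoidHom with hH
      obtain ⟨Q₀, hQ₀N, hQ₀p, hQ₀idx, hctl⟩ := hloc H hZk hkS
      -- local control in list form gives PCtl
      have hPC : PCtl W V (Subgroup.normalizer ((H : Subgroup G) : Set G)) Q₀ := by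
        intro A' x' hx' hA' hA'x'
        obtain ⟨c, hc, n, b, hb, hprod, hsub⟩ := hctl A' x' hA' hx' hA'x'
        have hcC : c ∈ Subgroup.centralizer A' := (Subgroup.mem_inf.mp hc).2
        have hcA : cr c A' = A' := cr_eq_self_of_mem_centralizer hcC
        have hch : SChain (PStep W V (Subgroup.normalizer ((H : Subgroup G) : Set G)) Q₀) A'
            (List.ofFn b).prod := by
          apply sChain_pStep_of_list
          · intro y hy
            rw [List.mem_ofFn'] at hy
            obtain ⟨i, rfl⟩ := hy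
            exact hb i
          · intro j hj
            rw [List.length_ofFn] at hj
            have := hsub j hj
            have e : (fun x => c⁻¹ * x * c) '' A' = A' := hcA
            rw [e] at this
            exact this
        refine ⟨_, hch, ?_⟩
        intro a ha
        rw [hprod]
        have h1 := Subgroup.mem_centralizer_iff.mp hcC a ha
        have h2 : c⁻¹ * a * c = a := by rw [mul_assoc, h1]; group
        calc ((List.ofFn b).prod)⁻¹ * a * (List.ofFn b).prod
            = ((List.ofFn b).prod)⁻¹ * (c⁻¹ * a * c) * (List.ofFn b).prod := by rw [h2]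
          _ = (c * (List.ofFn b).prod)⁻¹ * a * (c * (List.ofFn b).prod) := by group
      -- transport to `T` and `P ∩ N(T)`
      have hPC1 := hPC.conj hW hV hQ₀p k⁻¹
      have hNk : (Subgroup.normalizer ((H : Subgroup G) : Set G)).map (MulAut.conj k⁻¹).toMonoidHom =
          Subgroup.normalizer ((T : Subgroup G) : Set G) := by
        rw [hH, normalizer_map_conj, map_conj_map_conj, inv_mul_cancel, map_conj_one]
      rw [hNk] at hPC1
      have hsyl1 : IsSylowIn p (Q₀.map (MulAut.conj k⁻¹).toMonoidHom)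
          (Subgroup.normalizer ((T : Subgroup G) : Set G)) := by
        have := (show IsSylowIn p Q₀ (Subgroup.normalizer ((H : Subgroup G) : Set G)) from
          ⟨hQ₀N, hQ₀p, hQ₀idx⟩).conj k⁻¹
        rwa [hNk] at this
      have hsyl2 : IsSylowIn p ((P : Subgroup G) ⊓ Subgroup.normalizer ((T : Subgroup G) : Set G))
          (Subgroup.normalizer ((T : Subgroup G) : Set G)) :=
        ⟨inf_le_right, hPp.to_le inf_le_left, hfn⟩
      obtain ⟨n₁, hn₁N, hn₁⟩ := exists_mem_map_conj_eq hsyl1 hsyl2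
      have hPC2 := hPC1.conj hW hV hsyl1.2.1 n₁
      rw [map_conj_eq_self_of_mem hn₁N, hn₁] at hPC2
      obtain ⟨g', hch, hag⟩ := hPC2 A x hx hA hAx
      apply SReach.congr A g' x _ hag
      apply hch.fusionRel hRel
      intro B y hy
      obtain ⟨h0, h1, h2⟩ := hy
      rcases h0 with h0 | h0
      · exact hstepsW y h0 B h1 h2
      · exact hstepsV y h0 B h1 h2
  intro X a hX hXa
  obtain ⟨g', hch, hag⟩ := hmain X a hX hXa
  obtain ⟨l, hprod, hall, hsub⟩ := hch.exists_list_pStep hX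
  have hcC : a * g'⁻¹ ∈ Subgroup.centralizer X := mul_inv_mem_centralizer_of_agree hag
  refine ⟨a * g'⁻¹, hcC, l.length, fun i => l.get i, ?_, ?_, ?_⟩
  · intro i
    exact hall _ (List.get_mem l i)
  · rw [List.ofFn_get, hprod]; group
  · intro k hk
    rw [List.ofFn_get]
    have hcA : (fun x => (a * g'⁻¹)⁻¹ * x * (a * g'⁻¹)) '' X = X := cr_eq_self_of_mem_centralizer hcC
    rw [hcA]
    exact hsub k hk


end Cfsg.Agent.S2002
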