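import Cfsg.Statements.S2007
import Cfsg.Agent.Lib.Helper7.PComplement
import Cfsg.Agent.Lib.Helper7.CharP

set_option autoImplicit false
open Cfsg

namespace Cfsg.Agent.S2007

open Cfsg.Agent.Lib.Helper7

/-- Let p be a prime, G a finite group with Sylow p-subgroup S, and T a normal subgroup of S containing C_S(T). If N_G(T)/C_G(T) is a p-group (every element of N_G(T) of order prime to p centralizes T), then N_G(T) has a normal p-complement. -/
theorem result {G : Type*} [Group G] [Finite G] {p : ℕ} [Fact p.Prime] (S : Sylow p G) (T : Subgroup G) (hTS : T ≤ (S : Subgroup G)) (hTn : (S : Subgroup G) ≤ Subgroup.normalizer ((T : Subgroup G) : Set G)) (hC : (S : Subgroup G) ⊓ Subgroup.centralizer ((T : Subgroup G) : Set G) ≤ T) (hN : ∀ g ∈ Subgroup.normalizer ((T : Subgroup G) : Set G), (orderOf g).Coprime p → g ∈ Subgroup.centralizer ((T : Subgroup G) : Set G)) : Cfsg.HasNormalPComplement p ↥(Subgroup.normalizer ((T : Subgroup G) : Set G)) := by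
  set N : Subgroup G := Subgroup.normalizer ((T : Subgroup G) : Set G) with hNdef
  apply hasNormalPComplement_of_card_pResidual_coprime
  have hcard : Nat.card (pResidual p ↥N) = Nat.card (pResidualIn p N) := by
    unfold pResidualIn
    rw [Subgroup.card_map_of_injective N.subtype_injective]
  rw [hcard]
  have hRC : pResidualIn p N ≤ Subgroup.centralizer ((T : Subgroup G) : Set G) := by
    rw [pResidualIn_eq_closure, Subgroup.closure_le]
    rintro g ⟨hgN, hg⟩
    exact hN g hgN hg
  apply card_coprime_of_generated_central (pResidualIn p N) {g : G | g ∈ N ∧ (orderOf g).Coprime p}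
    (fun x hx => hx.2) (pResidualIn_eq_closure p N)
  intro Y hYR hYp
  have hYN : Y ≤ N := hYR.trans (pResidualIn_le p N)
  obtain ⟨n, hnN, hn⟩ := Cfsg.Agent.Lib.Lead.BaerSuzuki.exists_cj_le_sylow N (S.subtype hTn) Y hYN hYp
  have hSmap : ((S.subtype hTn : Sylow p ↥N) : Subgroup ↥N).map N.subtype = (S : Subgroup G) := by
    rw [Sylow.coe_subtype, Subgroup.map_subgroupOf_eq_of_le hTn]
  rw [hSmap, Cfsg.Agent.Lib.Lead.BaerSuzuki.cj_le_iff] at hn
  have hYT : Y ≤ T := by
    intro y hy
    have h1 : n * y * n⁻¹ ∈ (S : Subgroup G) := hn y hy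
    have h2 : n * y * n⁻¹ ∈ Subgroup.centralizer ((T : Subgroup G) : Set G) := by
      have := normalizer_le_normalizer_centralizer T hnN
      exact (Subgroup.mem_normalizer_iff.mp this y).mp (hRC (hYR hy))
    have h3 : n * y * n⁻¹ ∈ T := hC (Subgroup.mem_inf.mpr ⟨h1, h2⟩)
    have h4 := (Subgroup.mem_normalizer_iff.mp (Subgroup.inv_mem _ hnN) _).mp h3
    have e : n⁻¹ * (n * y * n⁻¹) * n⁻¹⁻¹ = y := by group
    rwa [e] at h4
  exact hRC.trans (Subgroup.centralizer_le hYT)


end Cfsg.Agent.S2007
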