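import Cfsg.Statements.S2008
import Cfsg.Agent.Lib.Helper7.FPFInvolution

set_option autoImplicit false
open Cfsg

namespace Cfsg.Agent.S2008

open Cfsg.Agent.Lib.Helper7

/-- Let H be a finite group and z an involution such that every proper normal subgroup of H meets the centralizer of z trivially, and suppose z lies in a Klein four-subgroup E of H all three of whose involutions are conjugate to z in H. Then H has no non-trivial abelian normal subgroup. -/
theorem result {H : Type*} [Group H] [Finite H] (z : H) (hz : orderOf z = 2) (hN : ∀ N : Subgroup H, N.Normal → N ≠ ⊤ → N ⊓ Subgroup.centralizer ({z} : Set H) = ⊥) (E : Subgroup H) (hE : IsKleinFour ↥E) (hzE : z ∈ E) (hc : ∀ e ∈ E, e ≠ 1 → IsConj z e) (N : Subgroup H) [N.Normal] (hab : IsMulCommutative ↥N) : N = ⊥ := by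
  by_cases htop : N = ⊤
  · exfalso
    -- H abelian: conjugates of z equal z, but E has an element ≠ 1, z
    have hz1 : z ≠ 1 := by
      intro h
      rw [h, orderOf_one] at hz
      omega
    obtain ⟨e₁, he₁E, he₁1, he₁z⟩ : ∃ e₁ ∈ E, e₁ ≠ 1 ∧ e₁ ≠ z := by
      by_contra hcon
      push Not at hcon
      have hle : E ≤ Subgroup.zpowers z := by
        intro e he
        by_cases h1 : e = 1
        · rw [h1]; exact Subgroup.one_mem _
        · rw [hcon e he h1]; exact Subgroup.mem_zpowers z
      have h1 := Subgroup.card_le_of_le hle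
      rw [Nat.card_zpowers, hz, hE.card_four] at h1
      omega
    obtain ⟨h, hh⟩ := isConj_iff.mp (hc e₁ he₁E he₁1)
    apply he₁z
    rw [← hh]
    have hcomm : h * z = z * h := by
      have h1 : h ∈ N := by rw [htop]; trivial
      have h2 : z ∈ N := by rw [htop]; trivial
      exact setLike_mul_comm h1 h2
    rw [hcomm]; group
  · exact normal_eq_bot_of_fourGroup_conj z hz E hE hzE hc N (hN N inferInstance htop)


end Cfsg.Agent.S2008
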