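import Cfsg.Statements.S2011
import Cfsg.Agent.Lib.Helper7.Centric

set_option autoImplicit false
open Cfsg

namespace Cfsg.Agent.S2011

open Cfsg.Agent.Lib.Helper7

/-- Let G be a finite group with Sylow p-subgroup P and Q ≤ P. Then Q is centric in the fusion system of G on P (C_P(R) ≤ R for every G-conjugate R of Q lying in P) if and only if C_G(Q) is the internal direct product of Z(Q) = Q ∩ C_G(Q) and the largest normal subgroup of C_G(Q) of order prime to p. -/
theorem result {G : Type*} [Group G] [Finite G] (p : ℕ) [Fact p.Prime] (P : Sylow p G) (Q : Subgroup G) (hQ : Q ≤ P) : (Cfsg.groupFusionSystem (P : Subgroup G)).IsCentric Q ↔ Cfsg.IsInternalDirectProduct (Q ⊓ Subgroup.centralizer (Q : Set G)) ((Cfsg.pPrimeCore p ↥(Subgroup.centralizer (Q : Set G))).map (Subgroup.centralizer (Q : Set G)).subtype) (Subgroup.centralizer (Q : Set G)) := by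
  have hQp : IsPGroup p Q := P.2.to_le hQ
  show _ ↔ Cfsg.IsInternalDirectProduct (Q ⊓ Subgroup.centralizer (Q : Set G)) (centPPrimeCore p Q)
    (Subgroup.centralizer (Q : Set G))
  constructor
  · rintro ⟨_, hcen⟩
    apply isInternalDirectProduct_of_forall Q hQp
    intro Y hYp hYC
    have hYN : Y ≤ Subgroup.normalizer (Q : Set G) :=
      hYC.trans (Subgroup.centralizer_le_normalizer _)
    have hQY : IsPGroup p ↥(Q ⊔ Y) := IsPGroup.to_sup_of_normal_left' hQp hYp hYN
    obtain ⟨g, hg⟩ := exists_map_conj_le_sylow P hQY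
    have hconj : (Cfsg.groupFusionSystem (P : Subgroup G)).IsConj Q
        (Q.map (MulAut.conj g).toMonoidHom) := by
      refine ⟨Cfsg.conjHom Q g, ⟨hQ, ?_, g, fun x => rfl⟩, ?_⟩
      · intro x
        exact hg ⟨x, le_sup_left (a := Q) x.2, rfl⟩
      · unfold Cfsg.conjHom
        rw [MonoidHom.range_comp, Subgroup.range_subtype]
    have h1 := hcen _ hconj
    intro y hy
    have h2 : g * y * g⁻¹ ∈ Cfsg.FusionSystem.centralizerIn (P : Subgroup G)
        (Q.map (MulAut.conj g).toMonoidHom) := by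
      unfold Cfsg.FusionSystem.centralizerIn
      rw [Subgroup.mem_inf]
      refine ⟨hg ⟨y, le_sup_right (b := Y) hy, rfl⟩, ?_⟩
      rw [Subgroup.mem_centralizer_iff]
      intro z hz
      obtain ⟨q, hq, rfl⟩ := Subgroup.mem_map.mp hz
      have := (Subgroup.mem_centralizer_iff.mp (hYC hy)) q hq
      show (MulAut.conj g) q * (g * y * g⁻¹) = g * y * g⁻¹ * (MulAut.conj g) q
      simp only [MulAut.conj_apply]
      calc g * q * g⁻¹ * (g * y * g⁻¹) = g * (q * y) * g⁻¹ := by group
        _ = g * (y * q) * g⁻¹ := by rw [this]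
        _ = g * y * g⁻¹ * (g * q * g⁻¹) := by group
    obtain ⟨q, hq, hqe⟩ := h1 h2
    have : q = y := by
      have h3 : g * q * g⁻¹ = g * y * g⁻¹ := hqe
      exact mul_left_cancel (mul_right_cancel h3)
    rw [← this]; exact hq
  · intro h
    refine ⟨hQ, ?_⟩
    rintro R ⟨φ, ⟨_, hφP, g, hg⟩, rfl⟩
    intro x hx
    unfold Cfsg.FusionSystem.centralizerIn at hx
    rw [Subgroup.mem_inf] at hx
    obtain ⟨hxP, hxC⟩ := hx
    have hwC : g⁻¹ * x * g ∈ Subgroup.centralizer (Q : Set G) := by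
      rw [Subgroup.mem_centralizer_iff]
      intro q hq
      have h1 : g * q * g⁻¹ ∈ φ.range := ⟨⟨q, hq⟩, hg ⟨q, hq⟩⟩
      have h2 := (Subgroup.mem_centralizer_iff.mp hxC) _ h1
      calc q * (g⁻¹ * x * g) = g⁻¹ * (g * q * g⁻¹ * x) * g := by group
        _ = g⁻¹ * (x * (g * q * g⁻¹)) * g := by rw [h2]
        _ = g⁻¹ * x * g * q := by group
    have hwp : ∃ k : ℕ, (g⁻¹ * x * g) ^ (p ^ k) = 1 := by
      obtain ⟨k, hk⟩ := P.2 ⟨x, hxP⟩
      refine ⟨k, ?_⟩
      have hx : x ^ (p ^ k) = 1 := by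
        have := congrArg Subtype.val hk
        simpa using this
      have : g⁻¹ * x * g = g⁻¹ * x * g⁻¹⁻¹ := by rw [inv_inv]
      rw [this, conj_pow, hx]; group
    have hw := mem_of_isInternalDirectProduct Q hQp h _ hwC hwp
    refine ⟨⟨_, hw⟩, ?_⟩
    rw [hg]
    show g * (g⁻¹ * x * g) * g⁻¹ = x
    group

end Cfsg.Agent.S2011
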