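import Cfsg.Statements.S2014
import Cfsg.Agent.Lib.Helper7.CharPRes
import Cfsg.Agent.Lib.Helper7.WeaklyClosed
import Cfsg.Agent.Lib.Helper1.PResidual
import Cfsg.Agent.Lib.Lead.CjMore

set_option autoImplicit false
open Cfsg

namespace Cfsg.Agent.S2014

open Cfsg.Agent.Lib.Helper7
open scoped Pointwise

/-- Let P be a Sylow p-subgroup of a finite group G and A, C ≤ P subgroups conjugate in G, with C extremal: N_P(C) is a Sylow p-subgroup of N_G(C). Then there is g with gAg⁻¹ = C and g N_P(A) g⁻¹ ≤ N_P(C); moreover, given any h with hAh⁻¹ = C, g can be chosen so that h g⁻¹ lies in O^p(N_G(C)), the subgroup of N_G(C) generated by its elements of order prime to p. -/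
theorem result {G : Type*} [Group G] [Finite G] (p : ℕ) [Fact p.Prime] (P : Sylow p G) (A C : Subgroup G) (hA : A ≤ P) (hC : C ≤ P) (hext : ¬ p ∣ ((P : Subgroup G) ⊓ Subgroup.normalizer ((C : Subgroup G) : Set G)).relIndex (Subgroup.normalizer ((C : Subgroup G) : Set G))) (h : G) (hh : A.map (MulAut.conj h).toMonoidHom = C) : ∃ g : G, A.map (MulAut.conj g).toMonoidHom = C ∧ ((P : Subgroup G) ⊓ Subgroup.normalizer ((A : Subgroup G) : Set G)).map (MulAut.conj g).toMonoidHom ≤ (P : Subgroup G) ⊓ Subgroup.normalizer ((C : Subgroup G) : Set G) ∧ h * g⁻¹ ∈ (Cfsg.pResidual p ↥(Subgroup.normalizer ((C : Subgroup G) : Set G))).map (Subgroup.normalizer ((C : Subgroup G) : Set G)).subtype := by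
  classical
  set N : Subgroup G := Subgroup.normalizer ((C : Subgroup G) : Set G) with hNdef
  set PN : Subgroup G := (P : Subgroup G) ⊓ N with hPN
  have hPNp : IsPGroup p PN := P.isPGroup'.to_le inf_le_left
  -- the Sylow subgroup of N given by P ⊓ N
  have hp1 : IsPGroup p (PN.subgroupOf N) := hPNp.comap_subtype
  have hp2 : ¬ p ∣ (PN.subgroupOf N).index := hext
  set P₀ : Sylow p ↥N := hp1.toSylow hp2 with hP₀
  have hP₀map : (P₀ : Subgroup ↥N).map N.subtype = PN := by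
    rw [hP₀, IsPGroup.toSylow_coe, Subgroup.map_subgroupOf_eq_of_le inf_le_right]
  -- Y = h N_P(A) h⁻¹ ≤ N
  set NA : Subgroup G := (P : Subgroup G) ⊓ Subgroup.normalizer ((A : Subgroup G) : Set G) with hNA
  set Y : Subgroup G := NA.map (MulAut.conj h).toMonoidHom with hY
  have hYp : IsPGroup p Y := (P.isPGroup'.to_le inf_le_left).map _
  have hYN : Y ≤ N := by
    rw [hY, hNdef, ← hh, normalizer_map_conj]
    exact Subgroup.map_mono inf_le_right
  obtain ⟨n, hnN, hn⟩ := Cfsg.Agent.Lib.Lead.BaerSuzuki.exists_cj_le_sylow N P₀ Y hYN hYp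
  rw [hP₀map] at hn
  -- decompose n = s * r
  have hsup := Cfsg.Agent.Lib.Helper1.sylow_sup_pResidual_eq_top P₀
  have hRn : (pResidual p ↥N).Normal := pResidual_normal p ↥N
  have hmul : ((P₀ : Subgroup ↥N) : Set ↥N) * ((pResidual p ↥N : Subgroup ↥N) : Set ↥N) = Set.univ := by
    rw [← Subgroup.mul_normal, hsup]; rfl
  have hn₀ : (⟨n, hnN⟩ : ↥N) ∈ ((P₀ : Subgroup ↥N) : Set ↥N) * ((pResidual p ↥N : Subgroup ↥N) : Set ↥N) := by
    rw [hmul]; trivial
  obtain ⟨s₀, hs₀, r₀, hr₀, hsr⟩ := hn₀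
  have hsr' : (s₀ : G) * (r₀ : G) = n := congrArg Subtype.val hsr
  have hsPN : (s₀ : G) ∈ PN := by rw [← hP₀map]; exact ⟨s₀, hs₀, rfl⟩
  have hrR : (r₀ : G) ∈ (pResidual p ↥N).map N.subtype := ⟨r₀, hr₀, rfl⟩
  set r : G := (r₀ : G) with hr
  set s : G := (s₀ : G) with hs
  have hrN : r ∈ N := r₀.2
  -- r Y r⁻¹ ≤ PN
  have hrY : ∀ y ∈ Y, r * y * r⁻¹ ∈ PN := by
    intro y hy
    have h1 : n * y * n⁻¹ ∈ PN := (Cfsg.Agent.Lib.Lead.BaerSuzuki.cj_le_iff Y PN n).mp hn y hy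
    have h2 : s⁻¹ * (n * y * n⁻¹) * s ∈ PN := PN.mul_mem (PN.mul_mem (PN.inv_mem hsPN) h1) hsPN
    have e : s⁻¹ * (n * y * n⁻¹) * s = r * y * r⁻¹ := by rw [← hsr']; group
    rwa [e] at h2
  refine ⟨r * h, ?_, ?_, ?_⟩
  · -- (r h) A (r h)⁻¹ = r C r⁻¹ = C
    have e : A.map (MulAut.conj (r * h)).toMonoidHom = (A.map (MulAut.conj h).toMonoidHom).map (MulAut.conj r).toMonoidHom := by
      rw [map_conj_map_conj]
    rw [e, hh]
    exact map_conj_eq_of_mem_normalizer hrN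
  · rintro _ ⟨x, hx, rfl⟩
    have hy : h * x * h⁻¹ ∈ Y := ⟨x, hx, rfl⟩
    have := hrY _ hy
    simp only [MulEquiv.coe_toMonoidHom, MulAut.conj_apply]
    have e : r * h * x * (r * h)⁻¹ = r * (h * x * h⁻¹) * r⁻¹ := by group
    rw [e]; exact this
  · have e : h * (r * h)⁻¹ = r⁻¹ := by group
    rw [e]
    exact Subgroup.inv_mem _ hrR


end Cfsg.Agent.S2014
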