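import Cfsg.Statements.S2015
import Cfsg.Agent.Lib.Helper7.KInfEngel
import Cfsg.Agent.Lib.Helper7.ConjFunctor2
import Cfsg.Agent.Lib.Helper7.SylowIn

set_option autoImplicit false
universe u
open Cfsg

namespace Cfsg.Agent.S2015

open Cfsg.Agent.Lib.Helper7

/-- For p ≥ 5, every finite p-group P has a characteristic subgroup K containing Z(P), depending only on P, whose normalizer controls transfer wherever P is a Sylow subgroup: for every finite group G and every embedding ι of P onto a Sylow p-subgroup of G, the intersection of ι(P) with the derived subgroup of G equals its intersection with the derived subgroup of N_G(ι(K)). -/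
theorem result (p : ℕ) [Fact p.Prime] (hp : 5 ≤ p) (P : Type u) [Group P] [Finite P] (hP : IsPGroup p P) : ∃ K : Subgroup P, K.Characteristic ∧ Subgroup.center P ≤ K ∧ ∀ (G : Type u) [Group G] [Finite G] (ι : P →* G), Function.Injective ι → (∃ T : Sylow p G, (T : Subgroup G) = ι.range) → ι.range ⊓ commutator G = ι.range ⊓ (commutator ↥(Subgroup.normalizer ((K.map ι : Subgroup G) : Set G))).map (Subgroup.normalizer ((K.map ι : Subgroup G) : Set G)).subtype := by

  have hW := isCharPFunctor_kInfLower.{u} p
  haveI : Group.IsNilpotent P := hP.isNilpotent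
  refine ⟨kInfLower P, ?_, (center_le_kInf P).1, ?_⟩
  · rw [Subgroup.characteristic_iff_map_eq]
    intro φ
    exact map_kInfLower_mulEquiv φ
  · intro G _ _ ι hι ⟨T, hT⟩
    have hctl : ControlsTransferIn p (inducedFunctor (G := G) kInfLower) ⊤ := by
      have hyp : SectionProp (EngelHyp kInfLower p) G := fun K R hR => (engelHyp_kInf hp _).1
      have main := familyControlsTransfer_of_engelHyp hW _ G rfl hyp
      obtain ⟨T, hT1, hT2, hT3, heq⟩ := main
      refine ⟨T, hT1, hT2, hT3, ?_⟩
      unfold indFamily at heq
      rw [Set.image_singleton, iSup_singleton] at heq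
      exact heq
    have htr := transferAt_of_controlsTransferIn (isConjugacyFunctor_inducedFunctor (X := G) hW)
      hctl (isSylowIn_of_sylow T le_top)
    unfold TransferAt at htr
    have hK : (kInfLower P).map ι = inducedFunctor (G := G) kInfLower (T : Subgroup G) := by
      have h1 := inducedFunctor_map_of_injective hW ι hι (⊤ : Subgroup P) (hP.to_subgroup _)
      rw [← MonoidHom.range_eq_map, ← hT] at h1
      rw [← h1]
      congr 1
      unfold inducedFunctor
      have h2 := map_kInfLower_mulEquiv (Subgroup.topEquiv (G := P))
      rw [← h2]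
      rfl
    rw [Subgroup.map_subtype_commutator, hK, ← hT, commutator_def]
    rw [top_inf_eq] at htr
    exact htr


end Cfsg.Agent.S2015
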