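-- Statement S2035: the Schur multiplier of M12 is cyclic of order 2.
import Cfsg.Statements.S2035
import Cfsg.Agent.Lib.Helper4.M12pIso
import Cfsg.Agent.Lib.Helper4.C2M12Cover

set_option autoImplicit false
open Cfsg

namespace Cfsg.Agent.S2035

open Cfsg.Agent.Lib.Helper4 Cfsg.Agent.Lib.Helper4.TC Cfsg.Agent.Lib.Helper4.Stem

/-- The Schur multiplier of the Mathieu group M₁₂ (the stabiliser of a dodecad in the automorphism group of the length-24 binary code) is cyclic of order 2; here the Schur multiplier is described through stem extensions, as in the definitions: surjective homomorphisms onto the group from a finite group, whose kernel is central in that finite group and contained in that finite group's commutator subgroup. -/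
theorem result : Cfsg.HasCyclicSchurMultiplier ↥Cfsg.Spor.M12 2 := by
  obtain ⟨e⟩ := M12pIso.iso
  obtain ⟨fG, _, _⟩ := C2M12Main.order_aux
  have := fG
  let τ : PC2M12.P.Grp →* ↥Cfsg.Spor.M12 := e.toMonoidHom.comp C2M12Cover.π
  have hker : τ.ker = C2M12Cover.π.ker := by
    ext x
    rw [MonoidHom.mem_ker, MonoidHom.mem_ker]
    show e (C2M12Cover.π x) = 1 ↔ _
    exact EmbeddingLike.map_eq_one_iff
  have hτ : IsStemExtension τ := by
    refine ⟨?_, ?_, ?_⟩
    · exact e.surjective.comp C2M12Cover.isStem.1
    · rw [hker]
      exact C2M12Cover.isStem.2.1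
    · rw [hker]
      exact C2M12Cover.isStem.2.2
  obtain ⟨ek⟩ := C2M12Cover.ker_equiv
  have ek' : τ.ker ≃* Multiplicative (ZMod 2) := (MulEquiv.subgroupCongr hker).trans ek
  exact hasSchurMultiplier_of_cover PC2M12.P.Grp τ hτ ek' C2M12Cover.noStem

end Cfsg.Agent.S2035
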