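import Cfsg.Statements.S2037
import Cfsg.Agent.Lib.Helper4.M23pIso
import Cfsg.Agent.Lib.Helper4.M23pStem

set_option autoImplicit false
open Cfsg

namespace Cfsg.Agent.S2037

/-- The Schur multiplier of the Mathieu group M₂₃ (the stabiliser of a point in the automorphism group of the length-24 binary code) is trivial; here the Schur multiplier is described through stem extensions, as in the definitions: surjective homomorphisms onto the group from a finite group, whose kernel is central in that finite group and contained in that finite group's commutator subgroup. -/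
theorem result : Cfsg.HasCyclicSchurMultiplier ↥Cfsg.Spor.M23 1 := by
  obtain ⟨e⟩ := Cfsg.Agent.Lib.Helper4.M23pIso.iso
  obtain ⟨fG, _, _⟩ := Cfsg.Agent.Lib.Helper4.M23pMain.order_aux
  have := fG
  exact Cfsg.Agent.Lib.Helper4.Stem.trivialMultiplier_of_equiv Cfsg.Agent.Lib.Helper4.TC.PM23p.P.Grp e
    Cfsg.Agent.Lib.Helper4.M23pStem.noStem

end Cfsg.Agent.S2037
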