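import Cfsg.Statements.S2038
import Cfsg.Agent.Lib.Helper4.M24pIso
import Cfsg.Agent.Lib.Helper4.M24pStem

set_option autoImplicit false
open Cfsg

namespace Cfsg.Agent.S2038

/-- The Schur multiplier of the Mathieu group M₂₄ (the automorphism group of the length-24 binary code) is trivial; here the Schur multiplier is described through stem extensions, as in the definitions: surjective homomorphisms onto the group from a finite group, whose kernel is central in that finite group and contained in that finite group's commutator subgroup. -/
theorem result : Cfsg.HasCyclicSchurMultiplier ↥Cfsg.M24 1 := by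
  obtain ⟨e⟩ := Cfsg.Agent.Lib.Helper4.M24pIso.iso
  obtain ⟨fG, _, _⟩ := Cfsg.Agent.Lib.Helper4.M24pMain.order_aux
  have := fG
  exact Cfsg.Agent.Lib.Helper4.Stem.trivialMultiplier_of_equiv Cfsg.Agent.Lib.Helper4.TC.PM24p.P.Grp e
    Cfsg.Agent.Lib.Helper4.M24pStem.noStem

end Cfsg.Agent.S2038
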