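import Cfsg.Statements.S2070
import Cfsg.Agent.Lib.Helper9.Co2j

set_option autoImplicit false
open Cfsg

namespace Cfsg.Agent.S2070

/-- The outer automorphism group of the Conway group Co₂ (the stabiliser of a minimal vector of the rank-24 lattice) is trivial: every automorphism is inner. -/
theorem result : Nat.card (Cfsg.Out ↥Cfsg.Spor.Co2) = 1 := by
  obtain ⟨e⟩ := Cfsg.Agent.Lib.Helper9.Co2a.iso_K
  rw [Cfsg.Agent.Lib.Helper9.OutG.card_out_iso e]
  exact Cfsg.Agent.Lib.Helper9.Co2a.card_out_K

end Cfsg.Agent.S2070
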