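import Cfsg.Statements.S2129
import Cfsg.Agent.Lib.Helper7.TwOutE5
import Cfsg.Agent.Lib.Helper8.ChevOutA
import Cfsg.Agent.Lib.Helper5.TwAutInst
import Cfsg.Agent.Lib.Helper1.TwAutA2b
import Cfsg.Agent.Lib.Helper4.TwAutA2a
import Cfsg.Agent.Lib.Helper7.TwOutE6

set_option autoImplicit false
open Cfsg

namespace Cfsg.Agent.S2129

open Cfsg.Lie Cfsg.Agent.Lib.Helper5 Cfsg.Agent.Lib.Helper5.TwAut Cfsg.Agent.Lib.Helper5.Tw3D4
  Cfsg.Agent.Lib.Helper7.TwOut Cfsg.Agent.Lib.Helper5.ChevSym Cfsg.Agent.Lib.Helper5.ChevStruct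

/-- Outer automorphisms of the triality-twisted groups: for q = p^f (p prime), with the group realised over the field with q³ elements, the outer automorphism group of ³D₄(q) has order 3f (the field automorphisms of the cubic extension). -/
theorem result {K : Type*} [Field K] [Fintype K] (p f : ℕ) [Fact p.Prime] [CharP K p] (hK : Fintype.card K = p ^ (3 * f)) (hf : 1 ≤ f) : Nat.card (Cfsg.Out ↥(Cfsg.Lie.twistedD4 K (p ^ f))) = 3 * f := by
  have hpp : p.Prime := Fact.out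
  have hq : IsPrimePow (p ^ f) := hpp.isPrimePow.pow (by omega)
  have hK' : Fintype.card K = (p ^ f) ^ 3 := by rw [hK, ← pow_mul, mul_comm]
  obtain ⟨fr, hfr, hfm⟩ := FrobFix.exists_frob hq (by norm_num : 3 ≠ 0) hK'
  have hf3 : ∀ x, fr (fr (fr x)) = x := fun x => hfm x
  have hyp := TwAutInst.hyp4A hq hK' fr hfr hf3
  have hdiag := fun g hg => Cfsg.Agent.Lib.Helper1.TwAut.mem_diag_iff_of chevD4 hD4 gD4a
    chkGraphPerm_gD4a fr rho4 Cfsg.Agent.Lib.Helper5.Tw3D4.orbits (twistedD4 K (p ^ f)) 3 hyp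
    (fun g hg => Cfsg.Agent.Lib.Helper4.TwAut.mem_borel_iff chevD4 hD4 gD4a
      chkGraphPerm_gD4a fr rho4 Cfsg.Agent.Lib.Helper5.Tw3D4.orbits (twistedD4 K (p ^ f)) 3 hyp g hg)
    g hg
  have hstein := fun θ => Cfsg.Agent.Lib.Helper7.TwOut.tw_steinberg_h7 chevD4 hD4 gD4a
    chkGraphPerm_gD4a fr rho4 Cfsg.Agent.Lib.Helper5.Tw3D4.orbits (twistedD4 K (p ^ f)) 3 hyp
    (TwAutInst.exists_moved hq (by norm_num) hK' fr hfr) TwAutInst.rigid4 w0Js4 w0Js4_mem w0Js4_chk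
    TwAutInst.oppOK4 [0, 2, 3] (by decide) rfl TwAutInst.linked4 θ
  rw [card_out_D4 hq hK' fr hfr hf3 hyp hstein hdiag]
  exact Cfsg.Agent.Lib.Helper8.ChevOut.card_ringAut p (3 * f) hK

end Cfsg.Agent.S2129
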