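import Cfsg.Statements.S2130
import Cfsg.Agent.Lib.Helper7.TwOutE5
import Cfsg.Agent.Lib.Helper8.ChevOutA
import Cfsg.Agent.Lib.Helper5.TwAutInst
import Cfsg.Agent.Lib.Helper1.TwAutA2b
import Cfsg.Agent.Lib.Helper4.TwAutA2a
import Cfsg.Agent.Lib.Helper7.TwOutE6

set_option autoImplicit false
open Cfsg

namespace Cfsg.Agent.S2130

open Cfsg.Lie Cfsg.Agent.Lib.Helper5 Cfsg.Agent.Lib.Helper5.TwAut Cfsg.Agent.Lib.Helper5.Tw2E6
  Cfsg.Agent.Lib.Helper7.TwOut Cfsg.Agent.Lib.Helper5.ChevSym Cfsg.Agent.Lib.Helper5.ChevStruct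

/-- Outer automorphisms of the twisted groups of type ²E₆: for q = p^f (p prime), with the group realised over the field with q² elements, the outer automorphism group of ²E₆(q) has order 2 · gcd(3, q + 1) · f (diagonal automorphisms and the field automorphisms of the quadratic extension). -/
theorem result {K : Type*} [Field K] [Fintype K] (p f : ℕ) [Fact p.Prime] [CharP K p] (hK : Fintype.card K = p ^ (2 * f)) (hf : 1 ≤ f) : Nat.card (Cfsg.Out ↥(Cfsg.Lie.twistedE6 K (p ^ f))) = 2 * Nat.gcd 3 (p ^ f + 1) * f := by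
  have hpp : p.Prime := Fact.out
  have hq : IsPrimePow (p ^ f) := hpp.isPrimePow.pow (by omega)
  have hK' : Fintype.card K = (p ^ f) ^ 2 := by rw [hK, ← pow_mul, mul_comm]
  obtain ⟨fr, hfr, hfm⟩ := FrobFix.exists_frob hq (by norm_num : 2 ≠ 0) hK'
  have hf2 : ∀ x, fr (fr x) = x := fun x => hfm x
  have hyp := TwAutInst.hyp6A hq hK' fr hfr hf2
  have hdiag := fun g hg => Cfsg.Agent.Lib.Helper1.TwAut.mem_diag_iff_of chevE6 hE6 gE6
    chkGraphPerm_gE6 fr rho6 Cfsg.Agent.Lib.Helper5.Tw2E6.orbits (twistedE6 K (p ^ f)) 2 hyp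
    (fun g hg => Cfsg.Agent.Lib.Helper4.TwAut.mem_borel_iff chevE6 hE6 gE6
      chkGraphPerm_gE6 fr rho6 Cfsg.Agent.Lib.Helper5.Tw2E6.orbits (twistedE6 K (p ^ f)) 2 hyp g hg)
    g hg
  have hstein := fun θ => Cfsg.Agent.Lib.Helper7.TwOut.tw_steinberg_h7 chevE6 hE6 gE6
    chkGraphPerm_gE6 fr rho6 Cfsg.Agent.Lib.Helper5.Tw2E6.orbits (twistedE6 K (p ^ f)) 2 hyp
    (TwAutInst.exists_moved hq (by norm_num) hK' fr hfr) TwAutInst.rigid6 w0Js6 w0Js6_mem w0Js6_chk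
    TwAutInst.oppOK6 [0, 5] (by decide) rfl TwAutInst.linked6 θ
  rw [card_out_E6 hq hK' fr hfr hf2 hyp hstein hdiag,
    Cfsg.Agent.Lib.Helper8.ChevOut.card_ringAut p (2 * f) hK]
  ring

end Cfsg.Agent.S2130
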