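import Cfsg.Statements.S2136
import Cfsg.Agent.Lib.Helper9.Co2q

set_option autoImplicit false
open Cfsg

namespace Cfsg.Agent.S2136

open Cfsg.Agent.Lib.Helper9.Co2a Cfsg.Agent.Lib.Helper9.CentSp Cfsg.Agent.Lib.Helper9.Sp6F

/-- The Conway group Co₂ (the stabiliser of a minimal vector of the rank-24 lattice) has an involution whose centraliser C has largest normal 2-subgroup extraspecial of order 2^9 with quotient C / O₂(C) isomorphic to the symplectic group Sp(6, 2) (shape 2^{1+8}Sp(6, 2)). -/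
theorem result : ∃ t : ↥Cfsg.Spor.Co2, orderOf t = 2 ∧ Cfsg.IsExtraspecial 2 (Cfsg.pCore 2 ↥(Subgroup.centralizer ({t} : Set ↥Cfsg.Spor.Co2))) ∧ Nat.card (Cfsg.pCore 2 ↥(Subgroup.centralizer ({t} : Set ↥Cfsg.Spor.Co2))) = 2 ^ 9 ∧ Nonempty (↥(Subgroup.centralizer ({t} : Set ↥Cfsg.Spor.Co2)) ⧸ Cfsg.pCore 2 ↥(Subgroup.centralizer ({t} : Set ↥Cfsg.Spor.Co2)) ≃* Matrix.symplecticGroup (Fin 3) (ZMod 2)) := by
  obtain ⟨e⟩ := iso_K
  refine ⟨e.symm r0K, ?_, ?_⟩
  · rw [MulEquiv.orderOf_eq]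
    exact r0K_order
  · haveI : Finite Sp := Nat.finite_of_card_ne_zero (by rw [card_Sp]; norm_num)
    have ε : ↥(Subgroup.centralizer ({e.symm r0K} : Set ↥Cfsg.Spor.Co2)) ≃* ↥Cr :=
      centEquiv e (e.symm r0K) r0K (e.apply_symm_apply r0K)
    have h : (2 : ℕ) ^ 9 * Nat.card Sp = 743178240 := by
      rw [card_Sp]
      norm_num
    exact structure_of_reps' ε not_two_group Qc card_Qc (by rw [h]; exact card_Cr_le) blkAct rep
      rep_injective Qc_le_ker rep_range_le Qc_extraspecial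

end Cfsg.Agent.S2136
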