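import Cfsg.Statements.S2149
import Cfsg.Agent.Lib.Helper4.U35Min
import Cfsg.Agent.Lib.Helper4.U35Iso

set_option autoImplicit false
open Cfsg

namespace Cfsg.Agent.S2149

/-- Minimal index of a proper subgroup of PSU₃(5), realised over the field with 25 elements: every proper subgroup has index at least 50, and that index is attained. -/
theorem result {F : Type*} [Field F] [Fintype F] (hF : Fintype.card F = 25) : (∀ H : Subgroup (Cfsg.PSU 3 F 5), H ≠ ⊤ → 50 ≤ H.index) ∧ (∃ H : Subgroup (Cfsg.PSU 3 F 5), H.index = 50) := by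
  obtain ⟨e⟩ := Cfsg.Agent.Lib.Helper4.U35Iso.equiv_PSU hF
  constructor
  · intro H hH
    have h1 : (H.comap e.toMonoidHom).index = H.index :=
      Subgroup.index_comap_of_surjective H e.surjective
    rw [← h1]
    apply Cfsg.Agent.Lib.Helper4.U35Min.min_index
    intro h
    apply hH
    rw [eq_top_iff]
    intro x _
    have : e.symm x ∈ H.comap e.toMonoidHom := by rw [h]; trivial
    rw [Subgroup.mem_comap] at this
    simpa using this
  · obtain ⟨K, hK⟩ := Cfsg.Agent.Lib.Helper4.U35Min.exists_index
    refine ⟨K.map e.toMonoidHom, ?_⟩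
    rw [← hK]
    exact Subgroup.index_map_equiv K e

end Cfsg.Agent.S2149
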