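import Cfsg.Statements.S2163

set_option autoImplicit false
open Cfsg

namespace Cfsg.Agent.S2163

/-- the corner matrix -/
def cornerM (F : Type*) [Field F] (n ℓ : ℕ) : Matrix (Fin n) (Fin n) F :=
  Matrix.of (fun i j : Fin n => if j.val < ℓ ∧ i.val = j.val + (n - ℓ) then (1 : F) else 0)

theorem cornerM_sq {F : Type*} [Field F] (n ℓ : ℕ) (h2 : 2 * ℓ ≤ n) :
    cornerM F n ℓ * cornerM F n ℓ = 0 := by
  ext i k
  rw [Matrix.mul_apply]
  apply Finset.sum_eq_zero
  intro j _
  simp only [cornerM, Matrix.of_apply, Matrix.zero_apply]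
  by_cases h : j.val < ℓ ∧ i.val = j.val + (n - ℓ)
  · have : ¬ (k.val < ℓ ∧ j.val = k.val + (n - ℓ)) := by omega
    simp [this]
  · simp [h]

theorem cornerM_rank {F : Type*} [Field F] (n ℓ : ℕ) (h2 : 2 * ℓ ≤ n) :
    (cornerM F n ℓ).rank = ℓ := by
  have hℓn : ℓ ≤ n := by omega
  apply le_antisymm
  · -- factor through Fin ℓ
    let A : Matrix (Fin n) (Fin ℓ) F := Matrix.of (fun i j => if i.val = j.val + (n - ℓ) then 1 else 0)
    let B : Matrix (Fin ℓ) (Fin n) F := Matrix.of (fun j k => if j.val = k.val then 1 else 0)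
    have hAB : cornerM F n ℓ = A * B := by
      ext i k
      rw [Matrix.mul_apply]
      simp only [cornerM, Matrix.of_apply, A, B]
      by_cases hk : k.val < ℓ
      · rw [Finset.sum_eq_single (⟨k.val, hk⟩ : Fin ℓ)]
        · simp [hk]
        · intro j _ hne
          have : ¬ j.val = k.val := fun h => hne (Fin.ext h)
          simp [this]
        · intro h; exact absurd (Finset.mem_univ _) h
      · rw [Finset.sum_eq_zero]
        · simp [hk]
        · intro j _
          have : ¬ j.val = k.val := by have := j.2; omega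
          simp [this]
    rw [hAB]
    calc (A * B).rank ≤ A.rank := Matrix.rank_mul_le_left A B
      _ ≤ Fintype.card (Fin ℓ) := Matrix.rank_le_card_width A
      _ = ℓ := Fintype.card_fin ℓ
  · let B' : Matrix (Fin ℓ) (Fin n) F := Matrix.of (fun j i => if i.val = j.val + (n - ℓ) then 1 else 0)
    let A' : Matrix (Fin n) (Fin ℓ) F := Matrix.of (fun k j => if k.val = j.val then 1 else 0)
    have h1 : B' * (cornerM F n ℓ * A') = 1 := by
      ext j j'
      rw [Matrix.mul_apply]
      have hidx : j.val + (n - ℓ) < n := by have := j.2; omega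
      rw [Finset.sum_eq_single (⟨j.val + (n - ℓ), hidx⟩ : Fin n)]
      · simp only [B', Matrix.of_apply, if_true, one_mul]
        rw [Matrix.mul_apply]
        have hj' : j'.val < n := by have := j'.2; omega
        rw [Finset.sum_eq_single (⟨j'.val, hj'⟩ : Fin n)]
        · simp only [cornerM, A', Matrix.of_apply, if_true, mul_one, Matrix.one_apply]
          by_cases hjj : j = j'
          · subst hjj; simp
          · have : ¬ j.val = j'.val := fun h => hjj (Fin.ext h)
            simp [hjj, this]
        · intro k _ hne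
          have : ¬ k.val = j'.val := fun h => hne (Fin.ext h)
          simp [A', this]
        · intro h; exact absurd (Finset.mem_univ _) h
      · intro i _ hne
        have : ¬ i.val = j.val + (n - ℓ) := fun h => hne (Fin.ext h)
        simp [B', this]
      · intro h; exact absurd (Finset.mem_univ _) h
    have h2 : (1 : Matrix (Fin ℓ) (Fin ℓ) F).rank = ℓ := by
      rw [Matrix.rank_one, Fintype.card_fin]
    calc ℓ = (B' * (cornerM F n ℓ * A')).rank := by rw [h1, h2]
      _ ≤ (cornerM F n ℓ * A').rank := Matrix.rank_mul_le_right _ _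
      _ ≤ (cornerM F n ℓ).rank := Matrix.rank_mul_le_left _ _

theorem result {F : Type*} [Field F] [Fintype F] [CharP F 2] {n : ℕ} (hn : 3 ≤ n) (ℓ : ℕ) (h1 : 1 ≤ ℓ) (h2 : 2 * ℓ ≤ n) :
    ∃ a : Matrix.SpecialLinearGroup (Fin n) F, (a : Matrix (Fin n) (Fin n) F) = 1 + Matrix.of (fun i j : Fin n => if j.val < ℓ ∧ i.val = j.val + (n - ℓ) then (1 : F) else 0) ∧ orderOf a = 2 ∧ ((a : Matrix (Fin n) (Fin n) F) - 1).rank = ℓ := by
  have hdet : (1 + cornerM F n ℓ).det = 1 := by
    rw [Matrix.det_of_isLowerTriangular]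
    · apply Finset.prod_eq_one
      intro i _
      have : ¬ (i.val < ℓ ∧ i.val = i.val + (n - ℓ)) := by omega
      simp only [Matrix.add_apply, Matrix.one_apply_eq, cornerM, Matrix.of_apply, if_neg this,
        add_zero]
    · intro i j hij
      have hij' : i < j := hij
      have hne : i ≠ j := ne_of_lt hij'
      have hlt : i.val < j.val := hij'
      have : ¬ (j.val < ℓ ∧ i.val = j.val + (n - ℓ)) := by omega
      simp [cornerM, this, hne]
  let a : Matrix.SpecialLinearGroup (Fin n) F := ⟨1 + cornerM F n ℓ, hdet⟩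
  refine ⟨a, rfl, ?_, ?_⟩
  · apply orderOf_eq_prime
    · rw [pow_two]
      apply Subtype.ext
      change (1 + cornerM F n ℓ) * (1 + cornerM F n ℓ) = 1
      rw [mul_add, add_mul, add_mul, cornerM_sq n ℓ h2, one_mul, mul_one, one_mul, add_zero,
        add_assoc]
      have : cornerM F n ℓ + cornerM F n ℓ = 0 := by
        ext i j
        exact CharTwo.add_self_eq_zero _
      rw [this, add_zero]
    · intro h
      have h' : (1 + cornerM F n ℓ) = (1 : Matrix (Fin n) (Fin n) F) := congrArg Subtype.val h
      have h0 : cornerM F n ℓ = 0 := by simpa using h'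
      have hidx : n - ℓ < n := by omega
      have := congrFun (congrFun h0 ⟨n - ℓ, hidx⟩) ⟨0, by omega⟩
      simp [cornerM] at this
      omega
  · change ((1 + cornerM F n ℓ) - 1).rank = ℓ
    rw [add_sub_cancel_left]
    exact cornerM_rank n ℓ h2

end Cfsg.Agent.S2163
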