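import Cfsg.Statements.S2165

set_option autoImplicit false
open Cfsg

namespace Cfsg.Agent.S2165

/-- the swapping function -/
def swapF (n ℓ : ℕ) (h2 : 2 * ℓ ≤ n) (i : Fin n) : Fin n :=
  if h : i.val < ℓ then ⟨i.val + (n - ℓ), by omega⟩
  else if h' : n - ℓ ≤ i.val then ⟨i.val - (n - ℓ), by omega⟩ else i

theorem swapF_val (n ℓ : ℕ) (h2 : 2 * ℓ ≤ n) (i : Fin n) :
    (swapF n ℓ h2 i).val = if i.val < ℓ then i.val + (n - ℓ)
      else if n - ℓ ≤ i.val then i.val - (n - ℓ) else i.val := by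
  unfold swapF
  split_ifs <;> rfl

theorem swapF_invol (n ℓ : ℕ) (h2 : 2 * ℓ ≤ n) : Function.Involutive (swapF n ℓ h2) := by
  intro i
  apply Fin.ext
  rw [swapF_val, swapF_val]
  have := i.2
  split_ifs <;> omega

/-- the permutation-like matrix -/
def swapM (F : Type*) [Field F] (n ℓ : ℕ) : Matrix (Fin n) (Fin n) F :=
  Matrix.of (fun i j : Fin n => if (j.val < ℓ ∧ i.val = j.val + (n - ℓ)) ∨ (i.val < ℓ ∧ j.val = i.val + (n - ℓ)) ∨ (i = j ∧ ℓ ≤ i.val ∧ i.val < n - ℓ) then (1 : F) else 0)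

theorem swapM_apply {F : Type*} [Field F] (n ℓ : ℕ) (h2 : 2 * ℓ ≤ n) (i j : Fin n) :
    swapM F n ℓ i j = if j = swapF n ℓ h2 i then 1 else 0 := by
  simp only [swapM, Matrix.of_apply]
  congr 1
  rw [Fin.ext_iff (a := j), swapF_val, Fin.ext_iff]
  have := i.2
  have := j.2
  apply propext
  split_ifs <;> omega

theorem swapM_mulVec {F : Type*} [Field F] (n ℓ : ℕ) (h2 : 2 * ℓ ≤ n) (u : Fin n → F) :
    (swapM F n ℓ).mulVec u = fun i => u (swapF n ℓ h2 i) := by
  ext i
  simp only [Matrix.mulVec, dotProduct, swapM_apply n ℓ h2]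
  simp

theorem swapM_sq {F : Type*} [Field F] (n ℓ : ℕ) (h2 : 2 * ℓ ≤ n) :
    swapM F n ℓ * swapM F n ℓ = 1 := by
  ext i k
  rw [Matrix.mul_apply]
  simp only [swapM_apply n ℓ h2]
  rw [Finset.sum_eq_single (swapF n ℓ h2 i)]
  · rw [if_pos rfl, one_mul, swapF_invol n ℓ h2 i, Matrix.one_apply]
    by_cases h : i = k
    · simp [h]
    · have : ¬ k = i := fun h' => h h'.symm
      simp [h, this]
  · intro j _ hne
    simp [hne]
  · intro h; exact absurd (Finset.mem_univ _) h

/-- the corner matrix -/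
def cornerM (F : Type*) [Field F] (n ℓ : ℕ) : Matrix (Fin n) (Fin n) F :=
  Matrix.of (fun i j : Fin n => if j.val < ℓ ∧ i.val = j.val + (n - ℓ) then (1 : F) else 0)

theorem cornerM_sq {F : Type*} [Field F] (n ℓ : ℕ) (h2 : 2 * ℓ ≤ n) :
    cornerM F n ℓ * cornerM F n ℓ = 0 := by
  ext i k
  rw [Matrix.mul_apply]
  apply Finset.sum_eq_zero
  intro j _
  simp only [cornerM, Matrix.of_apply]
  by_cases h : j.val < ℓ ∧ i.val = j.val + (n - ℓ)
  · have : ¬ (k.val < ℓ ∧ j.val = k.val + (n - ℓ)) := by omega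
    simp [this]
  · simp [h]

theorem cornerM_mul {F : Type*} [Field F] (n ℓ : ℕ) (h2 : 2 * ℓ ≤ n) (X : Matrix (Fin n) (Fin n) F)
    (i k : Fin n) :
    (cornerM F n ℓ * X) i k =
      if h : n - ℓ ≤ i.val then X ⟨i.val - (n - ℓ), by omega⟩ k else 0 := by
  rw [Matrix.mul_apply]
  by_cases h : n - ℓ ≤ i.val
  · rw [dif_pos h]
    have hi := i.2
    rw [Finset.sum_eq_single (⟨i.val - (n - ℓ), by omega⟩ : Fin n)]
    · have : (i.val - (n - ℓ) < ℓ ∧ i.val = i.val - (n - ℓ) + (n - ℓ)) := by omega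
      simp only [cornerM, Matrix.of_apply]
      rw [if_pos this, one_mul]
    · intro j _ hne
      have : ¬ (j.val < ℓ ∧ i.val = j.val + (n - ℓ)) := by
        rintro ⟨_, h3⟩
        apply hne
        apply Fin.ext
        simp only []
        omega
      simp [cornerM, this]
    · intro h'; exact absurd (Finset.mem_univ _) h'
  · rw [dif_neg h]
    apply Finset.sum_eq_zero
    intro j _
    have : ¬ (j.val < ℓ ∧ i.val = j.val + (n - ℓ)) := by omega
    simp [cornerM, this]

theorem swapM_sub_one_rank {F : Type*} [Field F] [CharP F 2] (n ℓ : ℕ) (h2 : 2 * ℓ ≤ n) :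
    (swapM F n ℓ - 1).rank = ℓ := by
  set X : Matrix (Fin n) (Fin n) F := swapM F n ℓ - 1 with hX
  have hXapp : ∀ i k : Fin n, X i k = (if k = swapF n ℓ h2 i then 1 else 0) - (if i = k then 1 else 0) := by
    intro i k
    rw [hX, Matrix.sub_apply, swapM_apply n ℓ h2, Matrix.one_apply]
  apply le_antisymm
  · -- upper bound
    set a : Matrix (Fin n) (Fin n) F := 1 + cornerM F n ℓ with ha
    have haa : a * a = 1 := by
      rw [ha, mul_add, add_mul, add_mul, cornerM_sq n ℓ h2, one_mul, mul_one, one_mul, add_zero,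
        add_assoc]
      have : cornerM F n ℓ + cornerM F n ℓ = 0 := by
        ext i j
        exact CharTwo.add_self_eq_zero _
      rw [this, add_zero]
    have h1 : X = a * (a * X) := by rw [← mul_assoc, haa, one_mul]
    have h3 : (a * X).rank ≤ ℓ := by
      classical
      have hs : (Finset.univ.filter (fun i : Fin n => i.val < ℓ)).card = ℓ := by
        have hℓn : ℓ ≤ n := by omega
        rw [Fin.card_filter_val_lt, min_eq_right hℓn]
      rw [← hs]
      apply Matrix.rank_le_card_of_support_subset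
      intro i hi
      rw [Function.mem_support] at hi
      simp only [Finset.coe_filter, Finset.mem_univ, true_and, Set.mem_ofPred_eq]
      by_contra hlt
      apply hi
      ext k
      change (a * X) i k = 0
      rw [ha, add_mul, one_mul, Matrix.add_apply, cornerM_mul n ℓ h2]
      have hin := i.2
      have hkn := k.2
      by_cases h : n - ℓ ≤ i.val
      · rw [dif_pos h, hXapp, hXapp]
        simp only [Fin.ext_iff (a := k), swapF_val, Fin.ext_iff (a := i), Fin.ext_iff]
        split_ifs <;> first | omega | ring_nf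
      · rw [dif_neg h, hXapp]
        simp only [Fin.ext_iff (a := k), swapF_val, Fin.ext_iff (a := i)]
        split_ifs <;> first | omega | simp
    calc X.rank = (a * (a * X)).rank := by rw [← h1]
      _ ≤ (a * X).rank := Matrix.rank_mul_le_right _ _
      _ ≤ ℓ := h3
  · -- lower bound
    have hsub : X.submatrix (fun j : Fin ℓ => (⟨j.val, by have := j.2; omega⟩ : Fin n))
        (fun j : Fin ℓ => (⟨j.val + (n - ℓ), by have := j.2; omega⟩ : Fin n)) = 1 := by
      ext j j'
      rw [Matrix.submatrix_apply, hXapp, Matrix.one_apply]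
      have hj := j.2
      have hj' := j'.2
      simp only [Fin.ext_iff, swapF_val]
      split_ifs <;> first | omega | simp
    have h2' : (1 : Matrix (Fin ℓ) (Fin ℓ) F).rank = ℓ := by
      rw [Matrix.rank_one, Fintype.card_fin]
    calc ℓ = (X.submatrix (fun j : Fin ℓ => (⟨j.val, by have := j.2; omega⟩ : Fin n))
        (fun j : Fin ℓ => (⟨j.val + (n - ℓ), by have := j.2; omega⟩ : Fin n))).rank := by
          rw [hsub, h2']
      _ ≤ X.rank := Matrix.rank_submatrix_le _ _ _

theorem result {F : Type*} [Field F] [Fintype F] [CharP F 2] {n q : ℕ} (hF : Fintype.card F = q ^ 2) (hn : 3 ≤ n) (ℓ : ℕ) (h1 : 1 ≤ ℓ) (h2 : 2 * ℓ ≤ n) :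
    ∃ a : ↥(Cfsg.SU n F q), (((a : Matrix.SpecialLinearGroup (Fin n) F) : Matrix (Fin n) (Fin n) F) = Matrix.of (fun i j : Fin n => if (j.val < ℓ ∧ i.val = j.val + (n - ℓ)) ∨ (i.val < ℓ ∧ j.val = i.val + (n - ℓ)) ∨ (i = j ∧ ℓ ≤ i.val ∧ i.val < n - ℓ) then (1 : F) else 0)) ∧ orderOf a = 2 ∧ ((((a : Matrix.SpecialLinearGroup (Fin n) F) : Matrix (Fin n) (Fin n) F)) - 1).rank = ℓ := by
  have hdet : (swapM F n ℓ).det = 1 := by
    have h : (swapM F n ℓ).det * (swapM F n ℓ).det = 1 := by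
      rw [← Matrix.det_mul, swapM_sq n ℓ h2, Matrix.det_one]
    have h' : ((swapM F n ℓ).det - 1) ^ 2 = 0 := by
      have e : ((swapM F n ℓ).det - 1) ^ 2 = (swapM F n ℓ).det * (swapM F n ℓ).det - 2 * (swapM F n ℓ).det + 1 := by ring
      rw [e, h, CharTwo.two_eq_zero]; ring_nf
      exact CharTwo.two_eq_zero
    exact sub_eq_zero.mp (pow_eq_zero_iff (two_ne_zero) |>.mp h')
  let a0 : Matrix.SpecialLinearGroup (Fin n) F := ⟨swapM F n ℓ, hdet⟩
  have hmem : a0 ∈ Cfsg.SU n F q := by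
    intro u v
    change hermForm n F q ((swapM F n ℓ).mulVec u) ((swapM F n ℓ).mulVec v) = hermForm n F q u v
    rw [swapM_mulVec n ℓ h2, swapM_mulVec n ℓ h2]
    unfold hermForm
    exact Equiv.sum_comp (swapF_invol n ℓ h2).toPerm (fun i => u i * v i ^ q)
  refine ⟨⟨a0, hmem⟩, rfl, ?_, ?_⟩
  · apply orderOf_eq_prime
    · rw [pow_two]
      apply Subtype.ext
      apply Subtype.ext
      exact swapM_sq n ℓ h2
    · intro h
      have h' : swapM F n ℓ = 1 := congrArg (fun x : ↥(Cfsg.SU n F q) => ((x : Matrix.SpecialLinearGroup (Fin n) F) : Matrix (Fin n) (Fin n) F)) h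
      have := congrFun (congrFun h' ⟨0, by omega⟩) ⟨0, by omega⟩
      rw [swapM_apply n ℓ h2, Matrix.one_apply_eq] at this
      have h3 : ¬ (⟨0, by omega⟩ : Fin n) = swapF n ℓ h2 ⟨0, by omega⟩ := by
        rw [Fin.ext_iff, swapF_val]
        simp only []
        split_ifs <;> omega
      rw [if_neg h3] at this
      exact zero_ne_one this
  · exact swapM_sub_one_rank n ℓ h2

end Cfsg.Agent.S2165
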