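import Cfsg.Statements.S2174
import Cfsg.Agent.Lib.Helper6.F4EvA2
import Cfsg.Agent.Lib.Helper6.F4EvT
import Cfsg.Agent.Lib.Helper3.F4EvB
import Cfsg.Agent.Lib.Helper2.F4EvR3
import Cfsg.Agent.Lib.Helper7.F4EvR2
import Cfsg.Agent.Lib.Helper6.F4EvC
import Cfsg.Agent.Lib.Helper7.F4EvE
import Cfsg.Agent.Lib.Helper3.F4EvP

set_option autoImplicit false
open Cfsg

namespace Cfsg.Agent.S2174

open Cfsg.Lie Cfsg.Agent.Lib.Helper5.ChevSym Cfsg.Agent.Lib.Helper5.ChevStruct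
  Cfsg.Agent.Lib.Helper5.F4T Cfsg.Agent.Lib.Helper6.F4Ev

/-- every element of order two is conjugate to one of the four representatives -/
theorem exists_conj_yGL {F : Type*} [Field F] [Fintype F] [CharP F 2] (g : GL chevF4.Idx F)
    (hg : g ∈ chevF4.group F) (ho : orderOf g = 2) :
    ∃ k : Fin 4, ∃ h ∈ chevF4.group F, h * g * h⁻¹ = yGL F k := by
  have hg2 : g * g = 1 := by
    have := pow_orderOf_eq_one g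
    rwa [ho, pow_two] at this
  have hg1 : g ≠ 1 := by
    intro h
    rw [h, orderOf_one] at ho
    omega
  obtain ⟨a, ha, w, hw, hw2, hloc, c, hc, e⟩ :=
    invol_conj_cell chevF4 hF4 w0F checkW0_w0 T2_hypB g hg hg2
  obtain ⟨k, hk, hact⟩ := T1_locmax_cases w hw hloc
  obtain ⟨hwdk, -, -⟩ := lmImg_spec k hk
  have hwk : (wGL chevF4 hF4 w : GL chevF4.Idx F) = wGL chevF4 hF4 (lmF.getD k []) :=
    A1h_wGL_congr chevF4 hF4 w _ hw hwdk hact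
  have hsq : (wGL chevF4 hF4 w * c) * (wGL chevF4 hF4 w * c) = 1 := by
    rw [← e]
    have : a * g * a⁻¹ * (a * g * a⁻¹) = a * (g * g) * a⁻¹ := by group
    rw [this, hg2]; group
  have hk1 : 1 ≤ k := by
    by_contra hk0
    have hk0' : k = 0 := by omega
    subst hk0'
    have h1 : (wGL chevF4 hF4 w : GL chevF4.Idx F) = 1 := by
      rw [hwk]
      have : lmF.getD 0 [] = [] := rfl
      rw [this, wGL_nil]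
    rw [h1, one_mul] at hsq e
    have hc1 := Cfsg.Agent.Lib.Helper3.F4Ev.h3_B1_diag_invol chevF4 hF4 c hc hsq
    rw [hc1] at e
    apply hg1
    have : g = a⁻¹ * (a * g * a⁻¹) * a := by group
    rw [this, e]; group
  obtain ⟨d, hd, e2⟩ :=
    Cfsg.Agent.Lib.Helper3.F4Ev.h3_B2_invol_lift chevF4 hF4 w hw hw2 c hc hsq
  obtain ⟨u, hu, j, hj, e3⟩ := C_lm_conj_rep (F := F) k hk1 hk
  obtain ⟨h, hh, l, e4⟩ := Cfsg.Agent.Lib.Helper7.F4Ev.h7_E_rep_fuse (K := F) j hj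
  have hdG : d ∈ chevF4.group F :=
    borel_le_group chevF4 hF4 (diagonal_le_borel chevF4 hd)
  have huG : (wGL chevF4 hF4 u : GL chevF4.Idx F) ∈ chevF4.group F :=
    wGL_mem_group_of chevF4 hF4 u hu
  refine ⟨l, h * wGL chevF4 hF4 u * d * a, mul_mem (mul_mem (mul_mem hh huG) hdG) ha, ?_⟩
  rw [← e4, ← e3, ← hwk, ← e2, ← e]
  group

theorem result {F : Type*} [Field F] [Fintype F] [CharP F 2] :
    (∀ y : GL Cfsg.Lie.chevF4.Idx F, ((y : GL Cfsg.Lie.chevF4.Idx F) : Matrix Cfsg.Lie.chevF4.Idx Cfsg.Lie.chevF4.Idx F) ∈ [Cfsg.Lie.chevF4.x F 47 1, Cfsg.Lie.chevF4.x F 44 1, Cfsg.Lie.chevF4.x F 47 1 * Cfsg.Lie.chevF4.x F 44 1, Cfsg.Lie.chevF4.x F 39 1 * Cfsg.Lie.chevF4.x F 45 1] → y ∈ Cfsg.Lie.chevF4.group F ∧ orderOf y = 2) ∧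
    (∀ g ∈ Cfsg.Lie.chevF4.group F, orderOf g = 2 → ∃ y ∈ Cfsg.Lie.chevF4.group F, ((y : GL Cfsg.Lie.chevF4.Idx F) : Matrix Cfsg.Lie.chevF4.Idx Cfsg.Lie.chevF4.Idx F) ∈ [Cfsg.Lie.chevF4.x F 47 1, Cfsg.Lie.chevF4.x F 44 1, Cfsg.Lie.chevF4.x F 47 1 * Cfsg.Lie.chevF4.x F 44 1, Cfsg.Lie.chevF4.x F 39 1 * Cfsg.Lie.chevF4.x F 45 1] ∧ ∃ h ∈ Cfsg.Lie.chevF4.group F, h * g * h⁻¹ = y) ∧
    (∀ y₁ ∈ Cfsg.Lie.chevF4.group F, ∀ y₂ ∈ Cfsg.Lie.chevF4.group F, ((y₁ : GL Cfsg.Lie.chevF4.Idx F) : Matrix Cfsg.Lie.chevF4.Idx Cfsg.Lie.chevF4.Idx F) ∈ [Cfsg.Lie.chevF4.x F 47 1, Cfsg.Lie.chevF4.x F 44 1, Cfsg.Lie.chevF4.x F 47 1 * Cfsg.Lie.chevF4.x F 44 1, Cfsg.Lie.chevF4.x F 39 1 * Cfsg.Lie.chevF4.x F 45 1] → ((y₂ : GL Cfsg.Lie.chevF4.Idx F) : Matrix Cfsg.Lie.chevF4.Idx Cfsg.Lie.chevF4.Idx F) ∈ [Cfsg.Lie.chevF4.x F 47 1, Cfsg.Lie.chevF4.x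 F 44 1, Cfsg.Lie.chevF4.x F 47 1 * Cfsg.Lie.chevF4.x F 44 1, Cfsg.Lie.chevF4.x F 39 1 * Cfsg.Lie.chevF4.x F 45 1] →
      (∃ h ∈ Cfsg.Lie.chevF4.group F, h * y₁ * h⁻¹ = y₂) → ((y₁ : GL Cfsg.Lie.chevF4.Idx F) : Matrix Cfsg.Lie.chevF4.Idx Cfsg.Lie.chevF4.Idx F) = ((y₂ : GL Cfsg.Lie.chevF4.Idx F) : Matrix Cfsg.Lie.chevF4.Idx Cfsg.Lie.chevF4.Idx F)) := by
  refine ⟨?_, ?_, ?_⟩
  · intro y hy
    obtain ⟨k, rfl⟩ := eq_yGL_of_mem_yList F y hy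
    exact ⟨yGL_mem_group F k, Cfsg.Agent.Lib.Helper3.F4Ev.h3_P_yGL_order k⟩
  · intro g hg ho
    obtain ⟨k, h, hh, e⟩ := exists_conj_yGL g hg ho
    exact ⟨yGL F k, yGL_mem_group F k, yGL_mem_yList F k, h, hh, e⟩
  · intro y₁ _ y₂ _ hy₁ hy₂ hconj
    obtain ⟨k, rfl⟩ := eq_yGL_of_mem_yList F y₁ hy₁
    obtain ⟨l, rfl⟩ := eq_yGL_of_mem_yList F y₂ hy₂
    obtain ⟨h, hh, e⟩ := hconj
    have hkl : k = l := Cfsg.Agent.Lib.Helper2.F4Ev.h2_R_not_conj_of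
      Cfsg.Agent.Lib.Helper7.F4Ev.h7_R2_rank_bounds k l h hh e
    rw [hkl]

end Cfsg.Agent.S2174
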