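import Cfsg.Statements.S2175
import Cfsg.Agent.Lib.Helper6.F4EvA2
import Cfsg.Agent.Lib.Helper6.E6EvT
import Cfsg.Agent.Lib.Helper7.InvGenHyp
import Cfsg.Agent.Lib.Helper3.F4EvB
import Cfsg.Agent.Lib.Helper6.E6EvE
import Cfsg.Agent.Lib.Helper2.E6EvR
import Cfsg.Agent.Lib.Helper3.E6EvP

set_option autoImplicit false
open Cfsg

namespace Cfsg.Agent.S2175

open Cfsg.Lie Cfsg.Agent.Lib.Helper5.ChevSym Cfsg.Agent.Lib.Helper5.ChevStruct
  Cfsg.Agent.Lib.Helper6.F4Ev Cfsg.Agent.Lib.Helper6.E6Ev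

/-- every element of order two is conjugate to one of the three representatives -/
theorem exists_conj_yGL6 {F : Type*} [Field F] [Fintype F] [CharP F 2] (g : GL chevE6.Idx F)
    (hg : g ∈ chevE6.group F) (ho : orderOf g = 2) :
    ∃ k : Fin 3, ∃ h ∈ chevE6.group F, h * g * h⁻¹ = yGL6 F k := by
  have hg2 : g * g = 1 := by
    have := pow_orderOf_eq_one g
    rwa [ho, pow_two] at this
  have hg1 : g ≠ 1 := by
    intro h
    rw [h, orderOf_one] at ho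
    omega
  obtain ⟨a, ha, w, hw, hw2, hloc, c, hc, e⟩ :=
    invol_conj_cell chevE6 memE6v w0E6 chkW0_w0E6
      (Cfsg.Agent.Lib.Helper7.InvGen.hypB_gen chevE6 memE6v w0E6 chkW0_w0E6) g hg hg2
  obtain ⟨k, hk, hwdk, hact⟩ := Cfsg.Agent.Lib.Helper6.E6Ev.T_locmax_cases6 w hw hw2 hloc
  have hwk : (wGL chevE6 memE6v w : GL chevE6.Idx F) = wGL chevE6 memE6v (lmE6.getD k []) :=
    A1h_wGL_congr chevE6 memE6v w _ hw hwdk hact
  have hsq : (wGL chevE6 memE6v w * c) * (wGL chevE6 memE6v w * c) = 1 := by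
    rw [← e]
    have : a * g * a⁻¹ * (a * g * a⁻¹) = a * (g * g) * a⁻¹ := by group
    rw [this, hg2]; group
  have hk5 : k < 5 := by
    by_contra hk0
    have hk0' : k = 5 := by omega
    subst hk0'
    have h1 : (wGL chevE6 memE6v w : GL chevE6.Idx F) = 1 := by
      rw [hwk]
      have : lmE6.getD 5 [] = [] := rfl
      rw [this, wGL_nil]
    rw [h1, one_mul] at hsq e
    have hc1 := Cfsg.Agent.Lib.Helper3.F4Ev.h3_B1_diag_invol chevE6 memE6v c hc hsq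
    rw [hc1] at e
    apply hg1
    have : g = a⁻¹ * (a * g * a⁻¹) * a := by group
    rw [this, e]; group
  obtain ⟨d, hd, e2⟩ :=
    Cfsg.Agent.Lib.Helper3.F4Ev.h3_B2_invol_lift chevE6 memE6v w hw hw2 c hc hsq
  obtain ⟨h, hh, l, e4⟩ := E_lm_fuse6 (K := F) k hk5
  have hdG : d ∈ chevE6.group F :=
    borel_le_group chevE6 memE6v (diagonal_le_borel chevE6 hd)
  refine ⟨l, h * d * a, mul_mem (mul_mem hh hdG) ha, ?_⟩
  rw [← e4, ← hwk, ← e2, ← e]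
  group


/-- Conjugacy classes of involutions in the Chevalley group of type E₆ over a finite field F of characteristic two (the matrix group generated by the root elements x_r(t)). In this problem's root numbering for type E₆ (the Chevalley data module; fundamental roots numbered so that p₁–p₃–p₄–p₅–p₆ is the long chain of the diagram and p₂ is joined to p₄; roots indexed by their coefficient vectors in increasing order) let r = 71 be the highest root (1,2,2,3,2,1), α = 68 = (1,1,2,2,1,1), β = 66 = (1,1,1,2,2,1), γ = 55 = (0,1,1,2,2,1), δ = 65 = (1,1,1,2,1,1), ε = 67 = (1,1,2,2,1,0) (α ⊥ β and γ, δ, ε pairwise orthogonal); consider x_r(1), x_α(1)x_β(1) and x_γ(1)x_δ(1)x_ε(1). Then: each invertible matrix equal to one of these three products lies in the group and has order 2; every element of order 2 of the group is conjugate in the group to one of them; and no two of them are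 conjugate in the group (so, the three matrices being distinct, the group has exactly three conjugacy classes of involutions). -/
theorem result {F : Type*} [Field F] [Fintype F] [CharP F 2] :
    (∀ y : GL Cfsg.Lie.chevE6.Idx F, ((y : GL Cfsg.Lie.chevE6.Idx F) : Matrix Cfsg.Lie.chevE6.Idx Cfsg.Lie.chevE6.Idx F) ∈ [Cfsg.Lie.chevE6.x F 71 1, Cfsg.Lie.chevE6.x F 68 1 * Cfsg.Lie.chevE6.x F 66 1, Cfsg.Lie.chevE6.x F 55 1 * Cfsg.Lie.chevE6.x F 65 1 * Cfsg.Lie.chevE6.x F 67 1] → y ∈ Cfsg.Lie.chevE6.group F ∧ orderOf y = 2) ∧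
    (∀ g ∈ Cfsg.Lie.chevE6.group F, orderOf g = 2 → ∃ y ∈ Cfsg.Lie.chevE6.group F, ((y : GL Cfsg.Lie.chevE6.Idx F) : Matrix Cfsg.Lie.chevE6.Idx Cfsg.Lie.chevE6.Idx F) ∈ [Cfsg.Lie.chevE6.x F 71 1, Cfsg.Lie.chevE6.x F 68 1 * Cfsg.Lie.chevE6.x F 66 1, Cfsg.Lie.chevE6.x F 55 1 * Cfsg.Lie.chevE6.x F 65 1 * Cfsg.Lie.chevE6.x F 67 1] ∧ ∃ h ∈ Cfsg.Lie.chevE6.group F, h * g * h⁻¹ = y) ∧
    (∀ y₁ ∈ Cfsg.Lie.chevE6.group F, ∀ y₂ ∈ Cfsg.Lie.chevE6.group F, ((y₁ : GL Cfsg.Lie.chevE6.Idx F) : Matrix Cfsg.Lie.chevE6.Idx Cfsg.Lie.chevE6.Idx F) ∈ [Cfsg.Lie.chevE6.x F 71 1, Cfsg.Lie.chevE6.x F 68 1 * Cfsg.Lie.chevE6.x F 66 1, Cfsg.Lie.chevE6.x F 55 1 * Cfsg.Lie.chevE6.x F 65 1 * Cfsg.Lie.chevE6.x F 67 1] → ((y₂ : GL Cfsg.Lie.chevE6.Idx F) : Matrix Cfsg.Lie.chevE6.Idx Cfsg.Lie.chevE6.Idx F) ∈ [Cfsg.Lie.chevE6.x F 71 1, Cfsg.Lie.chevE6.x F 68 1 * Cfsg.Lie.chevE6.x F 66 1, Cfsg.Lie.chevE6.x F 55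 1 * Cfsg.Lie.chevE6.x F 65 1 * Cfsg.Lie.chevE6.x F 67 1] →
      (∃ h ∈ Cfsg.Lie.chevE6.group F, h * y₁ * h⁻¹ = y₂) → ((y₁ : GL Cfsg.Lie.chevE6.Idx F) : Matrix Cfsg.Lie.chevE6.Idx Cfsg.Lie.chevE6.Idx F) = ((y₂ : GL Cfsg.Lie.chevE6.Idx F) : Matrix Cfsg.Lie.chevE6.Idx Cfsg.Lie.chevE6.Idx F)) := by
  refine ⟨?_, ?_, ?_⟩
  · intro y hy
    obtain ⟨k, rfl⟩ := eq_yGL6_of_mem_yList6 F y hy
    exact ⟨yGL6_mem_group F k, Cfsg.Agent.Lib.Helper3.E6Ev.h3_P_yGL6_order k⟩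
  · intro g hg ho
    obtain ⟨k, h, hh, e⟩ := exists_conj_yGL6 g hg ho
    exact ⟨yGL6 F k, yGL6_mem_group F k, yGL6_mem_yList6 F k, h, hh, e⟩
  · intro y₁ _ y₂ _ hy₁ hy₂ hconj
    obtain ⟨k, rfl⟩ := eq_yGL6_of_mem_yList6 F y₁ hy₁
    obtain ⟨l, rfl⟩ := eq_yGL6_of_mem_yList6 F y₂ hy₂
    obtain ⟨h, -, e⟩ := hconj
    have hkl : k = l := Cfsg.Agent.Lib.Helper2.E6Ev.h2_R_not_conj6 k l h e
    rw [hkl]

end Cfsg.Agent.S2175
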