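import Mathlib
import Cfsg.Statements.S2177
import Cfsg.Agent.Lib.Helper5.G2Cent.Invol3

set_option autoImplicit false
open Cfsg

namespace Cfsg.Agent.S2177

/-- Conjugacy classes of involutions in the Chevalley group of type G₂ over a finite field F of characteristic two with at least four elements (the matrix group generated by the root elements x_r(t)). In this problem's root numbering for type G₂ (the Chevalley data module; p₁ = a short, p₂ = b long; roots indexed by coefficient vectors in increasing order) let 11 be the highest root 3a + 2b (long) and 9 the short root 2a + b; consider x_{3a+2b}(1) and x_{2a+b}(1). Then: each invertible matrix equal to one of these two products lies in the group and has order 2; every element of order 2 of the group is conjugate in the group to one of them; and no two of them are conjugate in the group (so, the two matrices being distinct, the group has exactly two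 conjugacy classes of involutions). -/
theorem result {F : Type*} [Field F] [Fintype F] [CharP F 2] (hF : 4 ≤ Fintype.card F) :
    (∀ y : GL Cfsg.Lie.chevG2.Idx F, ((y : GL Cfsg.Lie.chevG2.Idx F) : Matrix Cfsg.Lie.chevG2.Idx Cfsg.Lie.chevG2.Idx F) ∈ [Cfsg.Lie.chevG2.x F 11 1, Cfsg.Lie.chevG2.x F 9 1] → y ∈ Cfsg.Lie.chevG2.group F ∧ orderOf y = 2) ∧
    (∀ g ∈ Cfsg.Lie.chevG2.group F, orderOf g = 2 → ∃ y ∈ Cfsg.Lie.chevG2.group F, ((y : GL Cfsg.Lie.chevG2.Idx F) : Matrix Cfsg.Lie.chevG2.Idx Cfsg.Lie.chevG2.Idx F) ∈ [Cfsg.Lie.chevG2.x F 11 1, Cfsg.Lie.chevG2.x F 9 1] ∧ ∃ h ∈ Cfsg.Lie.chevG2.group F, h * g * h⁻¹ = y) ∧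
    (∀ y₁ ∈ Cfsg.Lie.chevG2.group F, ∀ y₂ ∈ Cfsg.Lie.chevG2.group F, ((y₁ : GL Cfsg.Lie.chevG2.Idx F) : Matrix Cfsg.Lie.chevG2.Idx Cfsg.Lie.chevG2.Idx F) ∈ [Cfsg.Lie.chevG2.x F 11 1, Cfsg.Lie.chevG2.x F 9 1] → ((y₂ : GL Cfsg.Lie.chevG2.Idx F) : Matrix Cfsg.Lie.chevG2.Idx Cfsg.Lie.chevG2.Idx F) ∈ [Cfsg.Lie.chevG2.x F 11 1, Cfsg.Lie.chevG2.x F 9 1] →
      (∃ h ∈ Cfsg.Lie.chevG2.group F, h * y₁ * h⁻¹ = y₂) → ((y₁ : GL Cfsg.Lie.chevG2.Idx F) : Matrix Cfsg.Lie.chevG2.Idx Cfsg.Lie.chevG2.Idx F) = ((y₂ : GL Cfsg.Lie.chevG2.Idx F) : Matrix Cfsg.Lie.chevG2.Idx Cfsg.Lie.chevG2.Idx F)) := by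
  have hmem : ∀ y : GL Cfsg.Lie.chevG2.Idx F,
      ((y : GL Cfsg.Lie.chevG2.Idx F) : Matrix Cfsg.Lie.chevG2.Idx Cfsg.Lie.chevG2.Idx F)
        ∈ [Cfsg.Lie.chevG2.x F 11 1, Cfsg.Lie.chevG2.x F 9 1] →
      y = Cfsg.Agent.Lib.Helper5.ChevStruct.xGL Cfsg.Lie.chevG2 Cfsg.Agent.Lib.Helper5.G2Cent.memG2 11 1 ∨
      y = Cfsg.Agent.Lib.Helper5.ChevStruct.xGL Cfsg.Lie.chevG2 Cfsg.Agent.Lib.Helper5.G2Cent.memG2 9 1 := by
    intro y hy
    simp only [List.mem_cons, List.not_mem_nil, or_false] at hy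
    rcases hy with hy | hy
    · exact Or.inl (Units.ext hy)
    · exact Or.inr (Units.ext hy)
  refine ⟨?_, ?_, ?_⟩
  · intro y hy
    have key : ∀ r < Cfsg.Lie.chevG2.nroots,
        Cfsg.Agent.Lib.Helper5.ChevStruct.xGL Cfsg.Lie.chevG2 Cfsg.Agent.Lib.Helper5.G2Cent.memG2 r (1 : F)
          ∈ Cfsg.Lie.chevG2.group F ∧
        orderOf (Cfsg.Agent.Lib.Helper5.ChevStruct.xGL Cfsg.Lie.chevG2
          Cfsg.Agent.Lib.Helper5.G2Cent.memG2 r (1 : F)) = 2 := by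
      intro r hr
      refine ⟨Cfsg.Agent.Lib.Helper5.ChevStruct.xGL_mem_group _ _ r 1, ?_⟩
      haveI : Fact (Nat.Prime 2) := ⟨Nat.prime_two⟩
      apply orderOf_eq_prime
      · rw [pow_two]
        exact Cfsg.Agent.Lib.Helper5.G2Cent.xGL_sq r 1
      · intro h1
        exact one_ne_zero (Cfsg.Agent.Lib.Helper5.G2Cent.xGL_eq_one r hr (1 : F) h1)
    rcases hmem y hy with rfl | rfl
    · exact key 11 (by decide)
    · exact key 9 (by decide)
  · intro g hg hord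
    rcases Cfsg.Agent.Lib.Helper5.G2Cent.invol_isRootInv g hg hord with ⟨h, hh, e⟩ | ⟨h, hh, e⟩
    · exact ⟨_, Cfsg.Agent.Lib.Helper5.ChevStruct.xGL_mem_group _ _ 11 1,
        by rw [Cfsg.Agent.Lib.Helper5.ChevStruct.xGL_val]; simp, h, hh, e⟩
    · exact ⟨_, Cfsg.Agent.Lib.Helper5.ChevStruct.xGL_mem_group _ _ 9 1,
        by rw [Cfsg.Agent.Lib.Helper5.ChevStruct.xGL_val]; simp, h, hh, e⟩
  · rintro y₁ - y₂ - h1 h2 ⟨h, hh, e⟩
    rcases hmem y₁ h1 with rfl | rfl <;> rcases hmem y₂ h2 with rfl | rfl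
    · rfl
    · exact (Cfsg.Agent.Lib.Helper5.G2Cent.not_conj_11_9 h hh e).elim
    · exfalso
      apply Cfsg.Agent.Lib.Helper5.G2Cent.not_conj_11_9 h⁻¹ (inv_mem hh)
      rw [← e]
      group
    · rfl

end Cfsg.Agent.S2177
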