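import Mathlib
import Cfsg.Statements.S2178
import Cfsg.Agent.Lib.Helper5.RootCent.Check

set_option autoImplicit false
open Cfsg

namespace Cfsg.Agent.S2178

/-- the subgroup generated by `U` and three root subgroups, in the two shapes -/
theorem sup_list3 {F : Type*} [Field F] (D : Cfsg.Lie.ChevalleyDatum) (a b c : ℕ) :
    D.posUnipotent F ⊔ Subgroup.closure {g : GL D.Idx F | ∃ s ∈ [a, b, c], ∃ t : F,
      (g : Matrix D.Idx D.Idx F) = D.x F s t}
      = D.posUnipotent F ⊔ D.rootSubgroup F a ⊔ D.rootSubgroup F b ⊔ D.rootSubgroup F c := by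
  apply le_antisymm
  · apply sup_le
    · exact le_sup_of_le_left (le_sup_of_le_left le_sup_left)
    · rw [Subgroup.closure_le]
      rintro g ⟨s, hs, t, hg⟩
      simp only [List.mem_cons, List.not_mem_nil, or_false] at hs
      rcases hs with rfl | rfl | rfl
      · exact Subgroup.mem_sup_left (Subgroup.mem_sup_left (Subgroup.mem_sup_right
          (Subgroup.subset_closure ⟨t, hg⟩)))
      · exact Subgroup.mem_sup_left (Subgroup.mem_sup_right (Subgroup.subset_closure ⟨t, hg⟩))
      · exact Subgroup.mem_sup_right (Subgroup.subset_closure ⟨t, hg⟩)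
  · have h : ∀ s ∈ [a, b, c], D.rootSubgroup F s ≤ D.posUnipotent F ⊔ Subgroup.closure
        {g : GL D.Idx F | ∃ s ∈ [a, b, c], ∃ t : F, (g : Matrix D.Idx D.Idx F) = D.x F s t} := by
      intro s hs
      apply le_sup_of_le_right
      unfold Cfsg.Lie.ChevalleyDatum.rootSubgroup
      apply Subgroup.closure_mono
      rintro g ⟨t, hg⟩
      exact ⟨s, hs, t, hg⟩
    exact sup_le (sup_le (sup_le le_sup_left (h a (by simp))) (h b (by simp))) (h c (by simp))

/-- Centralizers of the long and the short root involutions in the Chevalley group G of type F₄ over a finite field F of characteristic two (this problem's root numbering for type F₄, from the Chevalley data module: fundamental roots p₁, p₂ short, p₃, p₄ long, with indices 33, 27, 25, 24, their negatives 14, 20, 22, 23; highest root 47, highest short root 44; U the subgroup generated by the positive root subgroups). For an element t of G with matrix x_47(1): the centralizer of t in G is the subgroup generated by U and the root subgroups X_{−p₁}, X_{−p₂}, X_{−p₃} (the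 unipotent radical of the maximal parabolic subgroup whose Levi factor has fundamental roots p₁, p₂, p₃, together with that Levi factor's root subgroups; the Levi factor is of type C₃). For an element u of G with matrix x_44(1): the centralizer of u in G is generated by U and X_{−p₂}, X_{−p₃}, X_{−p₄} (the same construction for the Levi factor with fundamental roots p₂, p₃, p₄, of type B₃). -/
theorem result {F : Type*} [Field F] [Fintype F] [CharP F 2] (t u : GL Cfsg.Lie.chevF4.Idx F) (ht : (t : Matrix Cfsg.Lie.chevF4.Idx Cfsg.Lie.chevF4.Idx F) = Cfsg.Lie.chevF4.x F 47 1) (hu : (u : Matrix Cfsg.Lie.chevF4.Idx Cfsg.Lie.chevF4.Idx F) = Cfsg.Lie.chevF4.x F 44 1) :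
    Cfsg.Lie.chevF4.group F ⊓ Subgroup.centralizer {t} = Cfsg.Lie.chevF4.posUnipotent F ⊔ Cfsg.Lie.chevF4.rootSubgroup F 14 ⊔ Cfsg.Lie.chevF4.rootSubgroup F 20 ⊔ Cfsg.Lie.chevF4.rootSubgroup F 22 ∧
    Cfsg.Lie.chevF4.group F ⊓ Subgroup.centralizer {u} = Cfsg.Lie.chevF4.posUnipotent F ⊔ Cfsg.Lie.chevF4.rootSubgroup F 20 ⊔ Cfsg.Lie.chevF4.rootSubgroup F 22 ⊔ Cfsg.Lie.chevF4.rootSubgroup F 23 := by
  constructor
  · rw [← sup_list3]
    exact Cfsg.Agent.Lib.Helper5.RootCent.cent_eq Cfsg.Lie.chevF4 (by simp) 47 3 _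
      (Cfsg.Agent.Lib.Helper5.RootCent.centHyp_of_check Cfsg.Lie.chevF4 2 47 3 _
        (by decide +kernel)) t ht
  · rw [← sup_list3]
    exact Cfsg.Agent.Lib.Helper5.RootCent.cent_eq Cfsg.Lie.chevF4 (by simp) 44 0 _
      (Cfsg.Agent.Lib.Helper5.RootCent.centHyp_of_check Cfsg.Lie.chevF4 2 44 0 _
        (by decide +kernel)) u hu

end Cfsg.Agent.S2178
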