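import Cfsg.Statements.S2181
import Cfsg.Agent.Lib.Helper9.E7EvZ

set_option autoImplicit false
open Cfsg

namespace Cfsg.Agent.S2181

open Cfsg.Agent.Lib.Helper9.E7Ev

/-- The Chevalley group of type E₇ over a finite field of characteristic two (the matrix group generated by the root elements) has exactly five conjugacy classes of elements of order 2. -/
theorem result {F : Type*} [Field F] [Fintype F] [CharP F 2] :
    (ConjClasses.mk '' {g : ↥(Cfsg.Lie.chevE7.group F) | orderOf g = 2}).ncard = 5 := by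
  classical
  have hmem : ∀ k : Fin 5, yGL7 F k.1 ∈ Cfsg.Lie.chevE7.group F := fun k => yGL7_mem_group F k.1
  let y' : Fin 5 → ↥(Cfsg.Lie.chevE7.group F) := fun k => ⟨yGL7 F k.1, hmem k⟩
  have hord : ∀ k : Fin 5, orderOf (y' k) = 2 := by
    intro k
    rw [← Subgroup.orderOf_coe]
    exact P_order7 k.1 k.2
  have hset : ConjClasses.mk '' {g : ↥(Cfsg.Lie.chevE7.group F) | orderOf g = 2}
      = Set.range fun k : Fin 5 => ConjClasses.mk (y' k) := by
    ext x
    constructor
    · rintro ⟨g, hg, rfl⟩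
      have ho : orderOf (g : GL Cfsg.Lie.chevE7.Idx F) = 2 := by
        rw [Subgroup.orderOf_coe]
        exact hg
      obtain ⟨k, hk, h, hh, e⟩ := exists_conj_yGL7 (g : GL Cfsg.Lie.chevE7.Idx F) g.2 ho
      refine ⟨⟨k, hk⟩, ?_⟩
      rw [ConjClasses.mk_eq_mk_iff_isConj, isConj_comm, isConj_iff]
      exact ⟨⟨h, hh⟩, Subtype.ext e⟩
    · rintro ⟨k, rfl⟩
      exact ⟨y' k, hord k, rfl⟩
  have hinj : Function.Injective fun k : Fin 5 => ConjClasses.mk (y' k) := by
    intro k l hkl
    have hkl' : ConjClasses.mk (y' k) = ConjClasses.mk (y' l) := hkl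
    rw [ConjClasses.mk_eq_mk_iff_isConj, isConj_iff] at hkl'
    obtain ⟨c, hc⟩ := hkl'
    have e : (c : GL Cfsg.Lie.chevE7.Idx F) * yGL7 F k.1 * (c : GL Cfsg.Lie.chevE7.Idx F)⁻¹
        = yGL7 F l.1 := by
      have := congrArg Subtype.val hc
      simpa [y'] using this
    exact Fin.ext (R_not_conj7 k.1 l.1 k.2 l.2 _ e)
  rw [hset, ← Set.image_univ, Set.ncard_image_of_injective _ hinj, Set.ncard_univ, Nat.card_fin]

end Cfsg.Agent.S2181
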