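import Cfsg.Statements.S2182
import Cfsg.Agent.Lib.Helper5.FrobFix
import Cfsg.Agent.Lib.Helper5.Tw6Ev.Tbl
import Cfsg.Agent.Lib.Helper7.Tw6EvA
import Cfsg.Agent.Lib.Helper1.Tw6EvF
import Cfsg.Agent.Lib.Helper4.Tw6EvB
import Cfsg.Agent.Lib.Helper4.Tw6EvC
import Cfsg.Agent.Lib.Helper7.Tw6EvE
import Cfsg.Agent.Lib.Helper3.Tw6EvP
import Cfsg.Agent.Lib.Helper1.Tw6EvR

set_option autoImplicit false
open Cfsg

namespace Cfsg.Agent.S2182

open Cfsg.Lie Cfsg.Agent.Lib.Helper5.ChevSym Cfsg.Agent.Lib.Helper5.ChevStruct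
  Cfsg.Agent.Lib.Helper5.Tw2E6 Cfsg.Agent.Lib.Helper5.Tw6Ev

section

variable {K : Type*} [Field K] [Fintype K] [CharP K 2] {q : ℕ}

/-- every involution of `²E₆(q)` is conjugate to one of the three representatives -/
theorem exists_conj_yE (hq : IsPrimePow q) (hK : Fintype.card K = q ^ 2) (f : K →+* K)
    (hf : ∀ x, f x = x ^ q) (hf2 : ∀ x, f (f x) = x)
    (t : GL chevE6.Idx K) (ht : t ∈ twistedE6 K q) (ht2 : t * t = 1) (ht1 : t ≠ 1) :
    ∃ k : Fin 4, k ≠ 2 ∧ ∃ g ∈ twistedE6 K q, g * t * g⁻¹ = yE K k := by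
  obtain ⟨g1, hg1, hN⟩ := Cfsg.Agent.Lib.Helper7.Tw6Ev.h7_A_conj_N hq hK f hf hf2 t ht ht2
  have hnG : g1 * t * g1⁻¹ ∈ twistedE6 K q := mul_mem (mul_mem hg1 ht) (inv_mem hg1)
  have hn2 : g1 * t * g1⁻¹ * (g1 * t * g1⁻¹) = 1 := by
    have : g1 * t * g1⁻¹ * (g1 * t * g1⁻¹) = g1 * (t * t) * g1⁻¹ := by group
    rw [this, ht2]; group
  obtain ⟨k2, hk2, Js, hJs, e2, hact⟩ := Cfsg.Agent.Lib.Helper4.Tw6Ev.B_N_invol hq hK f hf hf2 _ hN hnG hn2
  have hne : (wGL chevE6 hE6 Js.flatten : GL chevE6.Idx K) ≠ 1 := by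
    intro h
    apply ht1
    rw [h] at e2
    have : t = (k2 * g1)⁻¹ * (k2 * (g1 * t * g1⁻¹) * k2⁻¹) * (k2 * g1) := by group
    rw [this, e2]; group
  obtain ⟨g3, hg3, j, hj, e3⟩ := Cfsg.Agent.Lib.Helper4.Tw6Ev.C_conj_rep_of (q := q) f hf
    (fun Js hJs h2 hne => T_reps Js hJs h2 hne) Js hJs hact hne
  obtain ⟨g4, hg4, k, e4⟩ := Cfsg.Agent.Lib.Helper7.Tw6Ev.h7_E_fuse (q := q) f hf hf2 j hj
  have hall : g4 * g3 * k2 * g1 ∈ twistedE6 K q := mul_mem (mul_mem (mul_mem hg4 hg3) hk2) hg1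
  have eall : (g4 * g3 * k2 * g1) * t * (g4 * g3 * k2 * g1)⁻¹ = yE K k := by
    rw [← e4, ← e3, ← e2]; group
  by_cases hk : k = 2
  · obtain ⟨g5, hg5, e5⟩ := Cfsg.Agent.Lib.Helper1.Tw6Ev.F_trace_fuse hK f hf hf2
    refine ⟨1, by decide, g5⁻¹ * (g4 * g3 * k2 * g1), mul_mem (inv_mem hg5) hall, ?_⟩
    rw [hk] at eall
    have : g5⁻¹ * (g4 * g3 * k2 * g1) * t * (g5⁻¹ * (g4 * g3 * k2 * g1))⁻¹
        = g5⁻¹ * ((g4 * g3 * k2 * g1) * t * (g4 * g3 * k2 * g1)⁻¹) * g5 := by group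
    rw [this, eall, ← e5]; group
  · exact ⟨k, hk, _, hall, eall⟩

end

/-- The twisted group ²E₆(q), q even, realised inside the Chevalley group of type E₆ over the field K with q² elements, has exactly three conjugacy classes of elements of order 2. -/
theorem result {K : Type*} [Field K] [Fintype K] [CharP K 2] (q : ℕ) (hK : Fintype.card K = q ^ 2) :
    (ConjClasses.mk '' {g : ↥(Cfsg.Lie.twistedE6 K q) | orderOf g = 2}).ncard = 3 := by
  classical
  have hq : IsPrimePow q := by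
    obtain ⟨n, -, hn⟩ := FiniteField.card K 2
    have h1 : q ^ 2 = 2 ^ (n : ℕ) := by rw [← hK, hn]
    have h2 : q ∣ 2 ^ (n : ℕ) := by
      rw [← h1]
      exact dvd_pow_self q (by norm_num)
    obtain ⟨j, -, rfl⟩ := (Nat.dvd_prime_pow Nat.prime_two).1 h2
    have hj0 : j ≠ 0 := by
      rintro rfl
      rw [pow_zero, one_pow] at h1
      have : 2 ≤ 2 ^ (n : ℕ) := by
        calc 2 = 2 ^ 1 := by norm_num
          _ ≤ 2 ^ (n : ℕ) := Nat.pow_le_pow_right (by norm_num) n.pos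
      omega
    exact (Nat.prime_two.isPrimePow).pow hj0
  obtain ⟨f, hf, hfm⟩ := Cfsg.Agent.Lib.Helper5.FrobFix.exists_frob hq (by norm_num : 2 ≠ 0) hK
  have hf2 : ∀ x, f (f x) = x := fun x => hfm x
  have hmem : ∀ k : Fin 4, yE K k ∈ twistedE6 K q := fun k => Cfsg.Agent.Lib.Helper3.Tw6Ev.h3_P_mem f hf hf2 k
  have hord : ∀ k : Fin 4, orderOf (yE K k) = 2 := fun k => Cfsg.Agent.Lib.Helper3.Tw6Ev.h3_P_order k
  let Y : Fin 4 → ↥(twistedE6 K q) := fun k => ⟨yE K k, hmem k⟩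
  have hordY : ∀ k, orderOf (Y k) = 2 := fun k => by
    rw [← hord k]
    exact (Subgroup.orderOf_coe (Y k)).symm
  have hnc : ∀ k l : Fin 4, k ≠ 2 → l ≠ 2 → ConjClasses.mk (Y k) = ConjClasses.mk (Y l) → k = l := by
    intro k l hk hl h
    obtain ⟨c, hc⟩ := isConj_iff.1 (ConjClasses.mk_eq_mk_iff_isConj.1 h)
    have := congrArg Subtype.val hc
    exact Cfsg.Agent.Lib.Helper1.Tw6Ev.R_not_conj k l hk hl (c : GL chevE6.Idx K) this
  have hset : ConjClasses.mk '' {g : ↥(twistedE6 K q) | orderOf g = 2}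
      = {ConjClasses.mk (Y 0), ConjClasses.mk (Y 1), ConjClasses.mk (Y 3)} := by
    ext c
    constructor
    · rintro ⟨t, ht, rfl⟩
      have ht' : orderOf t = 2 := ht
      have ht2 : t * t = 1 := by
        rw [← sq, ← ht']
        exact pow_orderOf_eq_one t
      have ht1 : t ≠ 1 := by
        rintro rfl
        rw [orderOf_one] at ht'
        omega
      have ht2' : (t : GL chevE6.Idx K) * t = 1 := by
        have := congrArg Subtype.val ht2
        exact this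
      have ht1' : (t : GL chevE6.Idx K) ≠ 1 := fun h => ht1 (Subtype.ext h)
      obtain ⟨k, hk, g, hg, e⟩ := exists_conj_yE hq hK f hf hf2 t t.2 ht2' ht1'
      have hconj : ConjClasses.mk t = ConjClasses.mk (Y k) := by
        apply ConjClasses.mk_eq_mk_iff_isConj.2
        exact isConj_iff.2 ⟨⟨g, hg⟩, Subtype.ext e⟩
      rw [hconj]
      fin_cases k
      · simp
      · simp
      · exact absurd rfl hk
      · simp
    · rintro (rfl | rfl | rfl)
      · exact ⟨Y 0, hordY 0, rfl⟩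
      · exact ⟨Y 1, hordY 1, rfl⟩
      · exact ⟨Y 3, hordY 3, rfl⟩
  rw [hset, Set.ncard_eq_three]
  refine ⟨_, _, _, ?_, ?_, ?_, rfl⟩
  · intro h
    exact absurd (hnc 0 1 (by decide) (by decide) h) (by decide)
  · intro h
    exact absurd (hnc 0 3 (by decide) (by decide) h) (by decide)
  · intro h
    exact absurd (hnc 1 3 (by decide) (by decide) h) (by decide)

end Cfsg.Agent.S2182
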