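import Cfsg.Statements.S2183
import Cfsg.Agent.Lib.Helper2.D4InvA
import Cfsg.Agent.Lib.Helper2.D4InvC5
import Cfsg.Agent.Lib.Helper4.D4InvA2
import Cfsg.Agent.Lib.Helper5.D4InvC1
import Cfsg.Agent.Lib.Helper5.D4InvC4a
import Cfsg.Agent.Lib.Helper6.D4InvC2
import Cfsg.Agent.Lib.Helper7.D4InvC4b
import Cfsg.Agent.Lib.Helper5.FrobFix

set_option autoImplicit false
open Cfsg

namespace Cfsg.Agent.S2183

open Cfsg.Lie Cfsg.Agent.Lib.Helper5 Cfsg.Agent.Lib.Helper4.BNPair Cfsg.Agent.Lib.Helper2.D4Inv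

/-- The twisted group ³D₄(q), q even, realised inside the Chevalley group of type D₄ over the field K with q³ elements, has exactly two conjugacy classes of elements of order 2. -/
theorem result {K : Type*} [Field K] [Fintype K] [CharP K 2] (q : ℕ) (hK : Fintype.card K = q ^ 3) :
    (ConjClasses.mk '' {g : ↥(Cfsg.Lie.twistedD4 K q) | orderOf g = 2}).ncard = 2 := by
  classical
  have hq : IsPrimePow q := by
    obtain ⟨n, -, hn⟩ := FiniteField.card K 2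
    have h1 : q ^ 3 = 2 ^ (n : ℕ) := by rw [← hK, hn]
    have h2 : q ∣ 2 ^ (n : ℕ) := by
      rw [← h1]
      exact dvd_pow_self q (by norm_num)
    obtain ⟨j, -, rfl⟩ := (Nat.dvd_prime_pow Nat.prime_two).1 h2
    have hj0 : j ≠ 0 := by
      rintro rfl
      rw [pow_zero, one_pow] at h1
      have : 2 ≤ 2 ^ (n : ℕ) := by
        calc 2 = 2 ^ 1 := by norm_num
          _ ≤ 2 ^ (n : ℕ) := Nat.pow_le_pow_right (by norm_num) n.pos
      omega
    exact (Nat.prime_two.isPrimePow).pow hj0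
  obtain ⟨fr, hfr, hfm⟩ := FrobFix.exists_frob hq (by norm_num : 3 ≠ 0) hK
  have hf3 : ∀ x, fr (fr (fr x)) = x := fun x => hfm x
  have hS := Cfsg.Agent.Lib.Helper5.D4Inv.P4_S hq hK fr hfr hf3
  have hord := Cfsg.Agent.Lib.Helper5.D4Inv.P4_ord hq hK fr hfr hf3
  have hconjN := invol_conj_mem_N (P4 hq hK fr hfr hf3) (a4 fr hfr) (b4 fr hfr) hS hord
    (Cfsg.Agent.Lib.Helper6.D4Inv.P4_opp hq hK fr hfr hf3)
    (Cfsg.Agent.Lib.Helper6.D4Inv.P4_W1 hq hK fr hfr hf3)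
    (Cfsg.Agent.Lib.Helper6.D4Inv.P4_W2 hq hK fr hfr hf3)
  have ha2 : a4 fr hfr * a4 fr hfr = 1 := Cfsg.Agent.Lib.Helper5.D4Inv.a4_sq fr hfr
  have hb2 : b4 fr hfr * b4 fr hfr = 1 := Cfsg.Agent.Lib.Helper5.D4Inv.b4_sq fr hfr
  obtain ⟨g0, hg0⟩ := Cfsg.Agent.Lib.Helper7.D4Inv.fusion fr hfr
  have h02 : (a4 fr hfr * b4 fr hfr) ^ 3 * (a4 fr hfr * b4 fr hfr) ^ 3 = 1 := by
    rw [← hg0]
    calc g0 * a4 fr hfr * g0⁻¹ * (g0 * a4 fr hfr * g0⁻¹)
        = g0 * (a4 fr hfr * a4 fr hfr) * g0⁻¹ := by group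
      _ = 1 := by rw [ha2, mul_one, mul_inv_cancel]
  have h3 := Cfsg.Agent.Lib.Helper4.D4Inv.invol_three_classes (P4 hq hK fr hfr hf3) (a4 fr hfr)
    (b4 fr hfr) hS hord hconjN (Cfsg.Agent.Lib.Helper5.D4Inv.P4_H_comm hq hK fr hfr hf3)
    (Cfsg.Agent.Lib.Helper5.D4Inv.P4_H_odd hq hK fr hfr hf3) ha2 hb2 h02
  have haS : a4 fr hfr ∈ (P4 hq hK fr hfr hf3).S := by rw [hS]; simp
  have hbS : b4 fr hfr ∈ (P4 hq hK fr hfr hf3).S := by rw [hS]; simp
  have ha1 : a4 fr hfr ≠ 1 := by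
    intro h
    exact S_not_mem_B haS (h ▸ one_mem _)
  have hb1 : b4 fr hfr ≠ 1 := by
    intro h
    exact S_not_mem_B hbS (h ▸ one_mem _)
  have hfus : IsConj (a4 fr hfr) ((a4 fr hfr * b4 fr hfr) ^ 3) := isConj_iff.2 ⟨g0, hg0⟩
  have hset : ConjClasses.mk '' {g : ↥(twistedD4 K q) | orderOf g = 2}
      = {ConjClasses.mk (a4 fr hfr), ConjClasses.mk (b4 fr hfr)} := by
    ext c
    constructor
    · rintro ⟨t, ht, rfl⟩
      have ht' : orderOf t = 2 := ht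
      have ht2 : t * t = 1 := by
        rw [← sq, ← ht']
        exact pow_orderOf_eq_one t
      have ht1 : t ≠ 1 := by
        rintro rfl
        rw [orderOf_one] at ht'
        omega
      rcases h3 t ht2 ht1 with h | h | h
      · left
        exact ConjClasses.mk_eq_mk_iff_isConj.2 h
      · right
        exact ConjClasses.mk_eq_mk_iff_isConj.2 h
      · left
        exact ConjClasses.mk_eq_mk_iff_isConj.2 (h.trans hfus.symm)
    · rintro (rfl | rfl)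
      · refine ⟨a4 fr hfr, ?_, rfl⟩
        exact orderOf_eq_prime (by rw [sq]; exact ha2) ha1
      · refine ⟨b4 fr hfr, ?_, rfl⟩
        exact orderOf_eq_prime (by rw [sq]; exact hb2) hb1
  rw [hset, Set.ncard_pair]
  intro h
  exact not_conj fr hfr (ConjClasses.mk_eq_mk_iff_isConj.1 h)

end Cfsg.Agent.S2183
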