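import Cfsg.Statements.S2202
import Cfsg.Agent.Lib.Helper9.AbCw
import Cfsg.Agent.Lib.Helper3.AbCZ2
import Cfsg.Agent.Lib.Helper1.AbCZ2

set_option autoImplicit false
open Cfsg
open Cfsg.Agent.Lib.Lead Cfsg.Agent.Lib.Lead.SE Cfsg.Agent.Lib.Helper9.AbC

namespace Cfsg.Agent.S2202

/-- Finite groups in which the centralizer of every involution is abelian. Let G be a finite group of even order in which the centralizer of every element of order 2 is abelian. Then the Sylow 2-subgroups of G are cyclic, or a Sylow 2-subgroup of G is normal, or G is isomorphic to the direct product of SL₂(F) for a finite field F of characteristic two and an abelian group of odd order. -/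
theorem result {G : Type*} [Group G] [Finite G] (heven : Even (Nat.card G)) (h : ∀ t : G, orderOf t = 2 → IsMulCommutative ↥(Subgroup.centralizer ({t} : Set G))) :
    (∀ P : Sylow 2 G, IsCyclic ↥P) ∨ (∀ P : Sylow 2 G, (P : Subgroup G).Normal) ∨
    (∃ (F : Type) (_ : Field F) (_ : Fintype F) (A : Type) (_ : CommGroup A) (_ : Finite A), CharP F 2 ∧ Odd (Nat.card A) ∧ Nonempty (G ≃* Matrix.SpecialLinearGroup (Fin 2) F × A)) := by
  have : Fact (Nat.Prime 2) := ⟨Nat.prime_two⟩
  obtain ⟨T⟩ : Nonempty (Sylow 2 G) := inferInstance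
  by_cases hcyc : IsCyclic (T : Subgroup G)
  · left
    intro P
    obtain ⟨g, rfl⟩ := MulAction.exists_smul_eq G T P
    exact (T.equivSMul g).isCyclic.mp hcyc
  by_cases hnorm : (T : Subgroup G).Normal
  · right; left
    intro P
    obtain ⟨g, rfl⟩ := MulAction.exists_smul_eq G T P
    have := hnorm
    rw [Sylow.smul_eq_of_normal]
    exact hnorm
  right; right
  have hyp : Hyp T := by
    refine ⟨hcyc, hnorm, ?_⟩
    intro t ht a b ha hb
    have hmem : ∀ x : G, x * t = t * x → x ∈ Subgroup.centralizer ({t} : Set G) := by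
      intro x hx
      rw [Subgroup.mem_centralizer_iff]
      intro y hy
      rw [Set.mem_singleton_iff] at hy; subst hy; exact hx.symm
    have hcm := isMulCommutative_iff.mp (h t ht)
    have := hcm (⟨a, hmem a ha⟩ : Subgroup.centralizer ({t} : Set G)) ⟨b, hmem b hb⟩
    exact congrArg Subtype.val this
  have hc := Cfsg.Agent.Lib.Helper9.AbC.main T hyp
  obtain ⟨hcen, L, hTL, hinf, hsup, hLn⟩ := Cfsg.Agent.Lib.Helper3.AbCZ.exists_complement hyp hc
  exact Cfsg.Agent.Lib.Helper1.AbCZ2.final_of_complement hyp hc _ L hcen (fun n hn => hyp.core_odd hn) hc.core hTL hinf hsup hLn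

end Cfsg.Agent.S2202
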