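import Cfsg.Statements.S2231
import Cfsg.Agent.Lib.Helper4.AbelianP
import Cfsg.Agent.Lib.Helper4.SL2Gauss

set_option autoImplicit false
open Cfsg

namespace Cfsg.Agent.S2231

open Cfsg.Agent.Lib.Helper4 Matrix

/-- `SL₂` over a finite field of characteristic `p` has abelian `p`-subgroups -/
theorem abP_SL2 {p : ℕ} [Fact p.Prime] {K : Type*} [Field K] [Fintype K] [CharP K p] :
    AbP p (Matrix.SpecialLinearGroup (Fin 2) K) := by
  classical
  obtain ⟨n, hp, hn⟩ := FiniteField.card K p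
  let U : Subgroup (Matrix.SpecialLinearGroup (Fin 2) K) := (unipHom K).range
  have hinj : Function.Injective (unipHom K) := by
    intro a b hab
    exact Multiplicative.toAdd.injective (upperU_injective hab)
  have hcardU : Nat.card U = Fintype.card K := by
    have e : Multiplicative K ≃* U := MonoidHom.ofInjective hinj
    rw [← Nat.card_congr e.toEquiv, Nat.card_eq_fintype_card]
    exact Fintype.card_congr Multiplicative.toAdd
  have hUp : IsPGroup p U := IsPGroup.of_card (n := n) (by rw [hcardU, hn])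
  have hidx : ¬ p ∣ U.index := by
    intro hdvd
    have h1 := U.card_mul_index
    rw [hcardU, card_SL2] at h1
    have hq : 0 < Fintype.card K := Fintype.card_pos
    have h2 : U.index = Fintype.card K ^ 2 - 1 := Nat.eq_of_mul_eq_mul_left hq h1
    rw [h2] at hdvd
    have h3 : p ∣ Fintype.card K ^ 2 := by
      rw [hn]
      exact dvd_pow (dvd_pow_self p n.ne_zero) (by norm_num)
    have h4 : 1 ≤ Fintype.card K ^ 2 := Nat.one_le_pow _ _ hq
    have h5 : p ∣ 1 := by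
      have := (Nat.dvd_sub h3 hdvd)
      rwa [Nat.sub_sub_self h4] at this
    exact hp.one_lt.ne' (Nat.dvd_one.mp h5)
  apply AbP.of_sylow (hUp.toSylow hidx)
  rintro x ⟨a, rfl⟩ y ⟨b, rfl⟩
  rw [← map_mul, ← map_mul, mul_comm]


/-- upper unitriangular 3×3 matrices -/
def ut3 (R : Type*) [CommRing R] : Subgroup (Matrix.SpecialLinearGroup (Fin 3) R) where
  carrier := {M | (M : Matrix (Fin 3) (Fin 3) R) 1 0 = 0 ∧ (M : Matrix (Fin 3) (Fin 3) R) 2 0 = 0 ∧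
    (M : Matrix (Fin 3) (Fin 3) R) 2 1 = 0 ∧ (M : Matrix (Fin 3) (Fin 3) R) 0 0 = 1 ∧
    (M : Matrix (Fin 3) (Fin 3) R) 1 1 = 1 ∧ (M : Matrix (Fin 3) (Fin 3) R) 2 2 = 1}
  mul_mem' := by
    rintro a b ⟨a1, a2, a3, a4, a5, a6⟩ ⟨b1, b2, b3, b4, b5, b6⟩
    simp only [Set.mem_ofPred_eq, Matrix.SpecialLinearGroup.coe_mul, Matrix.mul_apply,
      Fin.sum_univ_three]
    simp [a1, a2, a3, a4, a5, a6, b1, b2, b3, b4, b5, b6]
  one_mem' := by simp
  inv_mem' := by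
    rintro a ⟨a1, a2, a3, a4, a5, a6⟩
    simp only [Set.mem_ofPred_eq, Matrix.SpecialLinearGroup.coe_inv, Matrix.adjugate_fin_three]
    simp [a1, a2, a3, a4, a5, a6]

theorem ut3_pow {p : ℕ} [Fact p.Prime] (g : Matrix.SpecialLinearGroup (Fin 3) (ZMod p))
    (hg : g ∈ ut3 (ZMod p)) : g ^ (p ^ 2) = 1 := by
  obtain ⟨a1, a2, a3, a4, a5, a6⟩ := hg
  set M : Matrix (Fin 3) (Fin 3) (ZMod p) := (g : Matrix (Fin 3) (Fin 3) (ZMod p)) with hM
  have h3 : (M - 1) ^ 3 = 0 := by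
    ext i j
    fin_cases i <;> fin_cases j <;>
    simp [pow_succ, Matrix.mul_apply, Fin.sum_univ_three, a1, a2, a3, a4, a5, a6]
  have hp : 2 ≤ p := (Fact.out : p.Prime).two_le
  have hp2 : 3 ≤ p ^ 2 := by nlinarith
  have h4 : (M - 1) ^ (p ^ 2) = 0 := by
    obtain ⟨k, hk⟩ := Nat.exists_eq_add_of_le hp2
    rw [hk, pow_add, h3, zero_mul]
  have h5 : M ^ (p ^ 2) = 1 := by
    have hc : Commute M 1 := Commute.one_right M
    have := sub_pow_char_pow_of_commute (p := p) (n := 2) hc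
    rw [h4, one_pow] at this
    exact (sub_eq_zero.mp this.symm)
  apply Subtype.ext
  rw [Matrix.SpecialLinearGroup.coe_pow, ← hM, h5]
  rfl

theorem ut3_isPGroup {p : ℕ} [Fact p.Prime] : IsPGroup p (ut3 (ZMod p)) := by
  intro g
  refine ⟨2, ?_⟩
  ext : 1
  rw [Subgroup.coe_pow, ut3_pow g.1 g.2]
  rfl

/-- the elementary matrix `1 + E₀₁` -/
def xMat (R : Type*) [CommRing R] : Matrix.SpecialLinearGroup (Fin 3) R :=
  ⟨!![1, 1, 0; 0, 1, 0; 0, 0, 1], by simp [Matrix.det_fin_three]⟩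

/-- the elementary matrix `1 + E₁₂` -/
def yMat (R : Type*) [CommRing R] : Matrix.SpecialLinearGroup (Fin 3) R :=
  ⟨!![1, 0, 0; 0, 1, 1; 0, 0, 1], by simp [Matrix.det_fin_three]⟩

theorem xMat_coe (R : Type*) [CommRing R] :
    (xMat R : Matrix (Fin 3) (Fin 3) R) = !![1, 1, 0; 0, 1, 0; 0, 0, 1] := rfl

theorem yMat_coe (R : Type*) [CommRing R] :
    (yMat R : Matrix (Fin 3) (Fin 3) R) = !![1, 0, 0; 0, 1, 1; 0, 0, 1] := rfl

theorem not_abP_qd {p : ℕ} [Fact p.Prime] : ¬ AbP p ↥(Cfsg.qd p) := by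
  intro h
  have hx : xMat (ZMod p) ∈ Cfsg.qd p := Subgroup.subset_closure (by
    change (xMat (ZMod p) : Matrix (Fin 3) (Fin 3) (ZMod p)) 2 0 = 0 ∧
      (xMat (ZMod p) : Matrix (Fin 3) (Fin 3) (ZMod p)) 2 1 = 0 ∧
      (xMat (ZMod p) : Matrix (Fin 3) (Fin 3) (ZMod p)) 2 2 = 1
    simp [xMat_coe])
  have hy : yMat (ZMod p) ∈ Cfsg.qd p := Subgroup.subset_closure (by
    change (yMat (ZMod p) : Matrix (Fin 3) (Fin 3) (ZMod p)) 2 0 = 0 ∧
      (yMat (ZMod p) : Matrix (Fin 3) (Fin 3) (ZMod p)) 2 1 = 0 ∧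
      (yMat (ZMod p) : Matrix (Fin 3) (Fin 3) (ZMod p)) 2 2 = 1
    simp [yMat_coe])
  have hP : IsPGroup p ((ut3 (ZMod p)).subgroupOf (Cfsg.qd p)) := ut3_isPGroup.comap_subtype
  have hxu : (⟨xMat (ZMod p), hx⟩ : Cfsg.qd p) ∈ (ut3 (ZMod p)).subgroupOf (Cfsg.qd p) := by
    rw [Subgroup.mem_subgroupOf]
    change (xMat (ZMod p) : Matrix (Fin 3) (Fin 3) (ZMod p)) 1 0 = 0 ∧
      (xMat (ZMod p) : Matrix (Fin 3) (Fin 3) (ZMod p)) 2 0 = 0 ∧
      (xMat (ZMod p) : Matrix (Fin 3) (Fin 3) (ZMod p)) 2 1 = 0 ∧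
      (xMat (ZMod p) : Matrix (Fin 3) (Fin 3) (ZMod p)) 0 0 = 1 ∧
      (xMat (ZMod p) : Matrix (Fin 3) (Fin 3) (ZMod p)) 1 1 = 1 ∧
      (xMat (ZMod p) : Matrix (Fin 3) (Fin 3) (ZMod p)) 2 2 = 1
    simp [xMat_coe]
  have hyu : (⟨yMat (ZMod p), hy⟩ : Cfsg.qd p) ∈ (ut3 (ZMod p)).subgroupOf (Cfsg.qd p) := by
    rw [Subgroup.mem_subgroupOf]
    change (yMat (ZMod p) : Matrix (Fin 3) (Fin 3) (ZMod p)) 1 0 = 0 ∧
      (yMat (ZMod p) : Matrix (Fin 3) (Fin 3) (ZMod p)) 2 0 = 0 ∧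
      (yMat (ZMod p) : Matrix (Fin 3) (Fin 3) (ZMod p)) 2 1 = 0 ∧
      (yMat (ZMod p) : Matrix (Fin 3) (Fin 3) (ZMod p)) 0 0 = 1 ∧
      (yMat (ZMod p) : Matrix (Fin 3) (Fin 3) (ZMod p)) 1 1 = 1 ∧
      (yMat (ZMod p) : Matrix (Fin 3) (Fin 3) (ZMod p)) 2 2 = 1
    simp [yMat_coe]
  have hc := h _ hP _ hxu _ hyu
  have hc' : xMat (ZMod p) * yMat (ZMod p) = yMat (ZMod p) * xMat (ZMod p) :=
    congrArg Subtype.val hc
  have h02 := congrArg (fun M : Matrix.SpecialLinearGroup (Fin 3) (ZMod p) =>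
    (M : Matrix (Fin 3) (Fin 3) (ZMod p)) 0 2) hc'
  simp only [Matrix.SpecialLinearGroup.coe_mul, xMat_coe, yMat_coe] at h02
  simp [Matrix.mul_apply, Fin.sum_univ_three] at h02

theorem main {p : ℕ} [Fact p.Prime] {K : Type*} [Field K] [Fintype K] [CharP K p] :
    ¬ Cfsg.Involves ↥(Cfsg.qd p) (Matrix.ProjectiveSpecialLinearGroup (Fin 2) K) := by
  classical
  rintro ⟨H, R, hN, ⟨e⟩⟩
  have h1 : AbP p (Matrix.SpecialLinearGroup (Fin 2) K) := abP_SL2
  have h2 : AbP p (Matrix.ProjectiveSpecialLinearGroup (Fin 2) K) :=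
    AbP.of_surjective (QuotientGroup.mk' _) (QuotientGroup.mk'_surjective _) h1
  have : Finite (Matrix.ProjectiveSpecialLinearGroup (Fin 2) K) :=
    Finite.of_surjective _ (QuotientGroup.mk'_surjective
      (Subgroup.center (Matrix.SpecialLinearGroup (Fin 2) K)))
  have h3 : AbP p H := AbP.subgroup H h2
  have h4 : AbP p (H ⧸ R.subgroupOf H) :=
    AbP.of_surjective (QuotientGroup.mk' _) (QuotientGroup.mk'_surjective _) h3
  have h5 : AbP p ↥(Cfsg.qd p) := AbP.of_surjective e.toMonoidHom e.surjective h4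
  exact not_abP_qd h5

/-- Let p be an odd prime and K a finite field of characteristic p. Then Qd(p) (the natural semidirect product of an elementary abelian group of order p² by SL₂(p)) is not involved in the projective special linear group PSL₂(K). -/
theorem result {p : ℕ} [Fact p.Prime] (hp : p ≠ 2) {K : Type*} [Field K] [Fintype K] [CharP K p] : ¬ Cfsg.Involves ↥(Cfsg.qd p) (Matrix.ProjectiveSpecialLinearGroup (Fin 2) K) := by
  exact main

end Cfsg.Agent.S2231
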