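import Cfsg.Statements.S2239
import Cfsg.Agent.Lib.Helper4.Suz38

set_option autoImplicit false
open Cfsg

namespace Cfsg.Agent.S2239

open Cfsg.Agent.Lib.Helper4.Suz

/-- Subfield subgroups of the Suzuki group: let q = 2^(2m+1) and s = 2^(2k+1) with m, k ≥ 1 and 2k+1 dividing 2m+1 (so q is a power of s), both groups realised as stabilisers in SL₄ of the Suzuki–Tits ovoid. Then Sz(q) has a subgroup isomorphic to Sz(s), and any two subgroups of Sz(q) isomorphic to Sz(s) are conjugate. -/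
theorem result {F : Type*} [Field F] [Fintype F] {m : ℕ} (hm : 1 ≤ m) (hF : Fintype.card F = 2 ^ (2 * m + 1)) {K : Type*} [Field K] [Fintype K] {k : ℕ} (hk : 1 ≤ k) (hK : Fintype.card K = 2 ^ (2 * k + 1)) (hdiv : 2 * k + 1 ∣ 2 * m + 1) :
    (∃ S : Subgroup ↥(Cfsg.Sz F m), Nonempty (↥S ≃* ↥(Cfsg.Sz K k))) ∧
    ∀ S₁ S₂ : Subgroup ↥(Cfsg.Sz F m), Nonempty (↥S₁ ≃* ↥(Cfsg.Sz K k)) → Nonempty (↥S₂ ≃* ↥(Cfsg.Sz K k)) →
      ∃ g : ↥(Cfsg.Sz F m), S₂ = S₁.map (MulAut.conj g).toMonoidHom := by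
  constructor
  · obtain ⟨ι⟩ := exists_ringHom_of_dvd hF hK hdiv
    have hth := th_compat (F := F) (m := m) hK hdiv ι
    exact ⟨(subHom hF hK hk ι hth).range,
      ⟨(MonoidHom.ofInjective (subHom_injective hF hK hk ι hth)).symm⟩⟩
  · rintro S₁ S₂ ⟨e₁⟩ ⟨e₂⟩
    obtain ⟨T₁, c₁, hT₁, hS₁⟩ := conj_to_standard hF hm hK hk S₁ e₁
    obtain ⟨T₂, c₂, hT₂, hS₂⟩ := conj_to_standard hF hm hK hk S₂ e₂
    have hTT : T₁ = T₂ := subfield_eq_of_card_eq hF T₁ T₂ (by rw [hT₁, hT₂])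
    have heq : S₁.map (MulAut.conj c₁).toMonoidHom = S₂.map (MulAut.conj c₂).toMonoidHom := by
      apply SetLike.coe_injective
      rw [hS₁, hS₂, hTT]
    refine ⟨c₂⁻¹ * c₁, ?_⟩
    rw [← map_conj_map_conj, heq, map_conj_map_conj, inv_mul_cancel, map_conj_one]

end Cfsg.Agent.S2239
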