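import Mathlib
import Cfsg.Statements.S2241
import Cfsg.Agent.Lib.Helper4.Suz10

set_option autoImplicit false
set_option linter.unusedSimpArgs false
open Cfsg

namespace Cfsg.Agent.S2241

open Cfsg.Agent.Lib.Helper4.Suz MulAction

/-- A translation with `a ≠ 0` is not conjugate to its inverse. -/
theorem not_conj_inv {F : Type*} [Field F] [Fintype F] {m : ℕ} (hm : 1 ≤ m)
    (hF : Fintype.card F = 2 ^ (2 * m + 1)) {a b : F} (ha : a ≠ 0)
    (x : Cfsg.Sz F m) (hx : x * uZ hF a b * x⁻¹ = (uZ hF a b)⁻¹) : False := by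
  have h2 := two_eq_zero hF
  have hta : th m a ≠ 0 := th_ne_zero ha
  -- x fixes ∞
  have hxinf : x • oInf F m = oInf F m := by
    rcases ovoid_cases (x • oInf F m) with h | ⟨x0, y0, h⟩
    · exact h
    · exfalso
      have h1 : (uZ hF a b)⁻¹ • (x • oInf F m) = x • oInf F m := by
        rw [← hx, mul_smul, mul_smul, inv_smul_smul, uZ_smul_oInf]
      rw [h, uZ_inv, uZ_smul_oPt] at h1
      obtain ⟨h3, -⟩ := oPt_inj h1
      have : x0 + a = x0 + 0 := by rw [h3, add_zero]
      exact ha (add_left_cancel this)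
  obtain ⟨c, d, z, rfl⟩ := fix_oInf hF hm x hxinf
  have e1 : (uZ hF c d * hZ hF z) * uZ hF a b * (uZ hF c d * hZ hF z)⁻¹ =
      uZ hF c d * (hZ hF z * uZ hF a b * (hZ hF z)⁻¹) * (uZ hF c d)⁻¹ := by group
  rw [e1, hZ_uZ_hZ, uZ_inv, uZ_inv, uZ_mul, uZ_mul] at hx
  obtain ⟨hx1, hx2⟩ := uZ_injective hF hx
  have hz : th m (z : F) = 1 := by
    have : th m (z : F) * a = 1 * a := by
      have e : th m (z : F) * a = (c + th m (z : F) * a + c) - c * 2 := by ring
      rw [e, hx1, m2 h2, sub_zero, one_mul]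
    exact mul_right_cancel₀ ha this
  have hz1 : (z : F) = 1 := th_eq_one hF hz
  rw [hz, hz1, th_add hF] at hx2
  simp only [one_mul, one_pow, mul_one] at hx2
  -- th c * a + th a * c = a * th a
  have h3 : th m c * a + th m a * c = a * th m a := by
    have e : th m c * a + th m a * c =
        (d + b + th m c * a + (d + c * th m c) + (th m c + th m a) * c) - b - d * 2 -
          (c * th m c) * 2 := by ring
    rw [e, hx2, m2 h2, m2 h2]; ring
  set t := c / a with ht
  have h4 : th m t + t = 1 := by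
    rw [ht, th_div]
    field_simp
    linear_combination h3
  have h5 : t ^ 2 + th m t = 1 := by
    have := congrArg (th m) h4
    rw [th_add hF, th_th hF, th_one] at this
    exact this
  have h6 : t * (t + 1) = 0 := by
    have : t * (t + 1) = (t ^ 2 + th m t) - (th m t + t) + t * 2 := by ring
    rw [this, h4, h5, m2 h2]; ring
  rcases mul_eq_zero.mp h6 with h7 | h7
  · rw [h7, th_zero, add_zero] at h4
    exact zero_ne_one h4
  · have : t = 1 := eq_of_add_eq_zero h2 h7
    rw [this, th_one, add_self' h2] at h4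
    exact zero_ne_one h4

/-- Real 2-elements of the Suzuki group: with q = 2^(2m+1), m ≥ 1, and the group realised as the stabiliser in SL₄ of the Suzuki–Tits ovoid, a non-identity element of a Sylow 2-subgroup is conjugate to its inverse if and only if it is an involution; in particular no element of order 4 is conjugate to its inverse. -/
theorem result {F : Type*} [Field F] [Fintype F] {m : ℕ} (hm : 1 ≤ m) (hF : Fintype.card F = 2 ^ (2 * m + 1)) (P : Sylow 2 ↥(Cfsg.Sz F m)) (g : ↥(Cfsg.Sz F m)) (hg : g ∈ (P : Subgroup ↥(Cfsg.Sz F m))) (h1 : g ≠ 1) :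
    IsConj g g⁻¹ ↔ orderOf g = 2 := by
  have h2 := two_eq_zero hF
  constructor
  · intro hconj
    obtain ⟨c, hc⟩ := sylow_eq_map hF hm P
    rw [hc, Subgroup.mem_map] at hg
    obtain ⟨u, hu, hug⟩ := hg
    obtain ⟨a, b, rfl⟩ := hu
    have hug' : c * uZ hF a b * c⁻¹ = g := hug
    rw [isConj_iff] at hconj
    obtain ⟨x, hx⟩ := hconj
    have ha : a = 0 := by
      by_contra ha
      apply not_conj_inv hm hF ha (c⁻¹ * x * c)
      have e : (c⁻¹ * x * c) * uZ hF a b * (c⁻¹ * x * c)⁻¹ =
          c⁻¹ * (x * (c * uZ hF a b * c⁻¹) * x⁻¹) * c := by group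
      rw [e, hug', hx, ← hug']
      group
    subst ha
    have hu2 : uZ hF 0 b ^ 2 = 1 := by
      rw [sq, uZ_mul, th_zero, zero_mul, add_zero, add_zero, add_self' h2, uZ_zero]
    haveI : Fact (Nat.Prime 2) := ⟨Nat.prime_two⟩
    apply orderOf_eq_prime
    · rw [← hug']
      have e : (c * uZ hF 0 b * c⁻¹) ^ 2 = c * (uZ hF 0 b) ^ 2 * c⁻¹ := by
        rw [sq, sq]; group
      rw [e, hu2]; group
    · exact h1
  · intro h
    have hg2 : g ^ 2 = 1 := by rw [← h]; exact pow_orderOf_eq_one g
    have : g⁻¹ = g := by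
      rw [inv_eq_iff_mul_eq_one, ← sq, hg2]
    rw [this]

end Cfsg.Agent.S2241
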