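import Cfsg.Statements.S2249
import Mathlib
import Cfsg.Agent.Lib.Helper6.NRk5
import Cfsg.Agent.Lib.Helper4.OddChar

set_option autoImplicit false
open Cfsg

namespace Cfsg.Agent.S2249

/-- The normal 2-rank of the general linear group over a finite field of odd order q: for n ≥ 1 and S a Sylow 2-subgroup of GL_n(F), the largest rank of an elementary abelian subgroup of S that is normal in S equals n when q ≡ 1 (mod 4) and ⌊(n + 1)/2⌋ when q ≡ 3 (mod 4). -/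
theorem result {F : Type*} [Field F] [Fintype F] {q : ℕ} (hF : Fintype.card F = q) (hodd : Odd q) (n : ℕ) (hn : 1 ≤ n) (S : Sylow 2 (Matrix.GeneralLinearGroup (Fin n) F)) :
    (q % 4 = 1 → ((∃ E : Subgroup ↥(S : Subgroup (Matrix.GeneralLinearGroup (Fin n) F)), E.Normal ∧ Cfsg.IsElementaryAbelian 2 E ∧ 2 ^ (n) ≤ Nat.card ↥E) ∧
      ∀ E : Subgroup ↥(S : Subgroup (Matrix.GeneralLinearGroup (Fin n) F)), E.Normal → Cfsg.IsElementaryAbelian 2 E → Nat.card ↥E ≤ 2 ^ (n))) ∧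
    (q % 4 = 3 → ((∃ E : Subgroup ↥(S : Subgroup (Matrix.GeneralLinearGroup (Fin n) F)), E.Normal ∧ Cfsg.IsElementaryAbelian 2 E ∧ 2 ^ ((n + 1) / 2) ≤ Nat.card ↥E) ∧
      ∀ E : Subgroup ↥(S : Subgroup (Matrix.GeneralLinearGroup (Fin n) F)), E.Normal → Cfsg.IsElementaryAbelian 2 E → Nat.card ↥E ≤ 2 ^ ((n + 1) / 2))) := by
  subst hF
  have h2 : (2 : F) ≠ 0 := Cfsg.Agent.Lib.Helper4.OddChar.two_ne_zero hodd
  constructor
  · intro h1
    have hq : 4 ∣ Fintype.card F - 1 := Nat.dvd_of_mod_eq_zero (by omega)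
    exact ⟨Cfsg.Agent.Lib.Helper6.NRk.hasNE_one hq h2 n S, fun E hE hEA =>
      Cfsg.Agent.Lib.Helper6.NRk.card_le_of_elementary_gl h2 n _ E hEA⟩
  · intro h3
    have hq : 4 ∣ Fintype.card F + 1 := Nat.dvd_of_mod_eq_zero (by omega)
    rcases Nat.even_or_odd' n with ⟨m, rfl | rfl⟩
    · have e : (2 * m + 1) / 2 = m := by omega
      rw [e]
      obtain ⟨h, hb⟩ := Cfsg.Agent.Lib.Helper6.NRk.even_three hq h2 m S
      exact ⟨h, fun E hE hEA => hb E hE hEA.2⟩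
    · have e : (2 * m + 1 + 1) / 2 = m + 1 := by omega
      rw [e]
      obtain ⟨h, hb⟩ := Cfsg.Agent.Lib.Helper6.NRk.odd_three hq h2 m S
      exact ⟨h, fun E hE hEA => hb E hE hEA.2⟩


end Cfsg.Agent.S2249
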