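import Cfsg.Statements.S2251
import Cfsg.Agent.Lib.Helper4.Suz37

set_option autoImplicit false
open Cfsg

namespace Cfsg.Agent.S2251

open Cfsg.Agent.Lib.Helper4.Suz

/-- The subgroups of the Suzuki group: with q = 2^(2m+1), m ≥ 1, r = 2^m and the group realised as the stabiliser in SL₄ of the Suzuki–Tits ovoid, every proper subgroup is contained in the normalizer of a Sylow 2-subgroup, or in the normalizer of a cyclic subgroup of order q − 1, q + 2r + 1 or q − 2r + 1, or in a subgroup isomorphic to a smaller Suzuki group Sz(s) with s = 2^(2k+1) ≥ 8 and 2k+1 a proper divisor of 2m+1. -/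
theorem result {F : Type*} [Field F] [Fintype F] {m : ℕ} (hm : 1 ≤ m) (hF : Fintype.card F = 2 ^ (2 * m + 1)) (M : Subgroup ↥(Cfsg.Sz F m)) (hM : M ≠ ⊤) :
    (∃ P : Sylow 2 ↥(Cfsg.Sz F m), M ≤ Subgroup.normalizer ((P : Subgroup ↥(Cfsg.Sz F m)) : Set ↥(Cfsg.Sz F m))) ∨
    (∃ U : Subgroup ↥(Cfsg.Sz F m), IsCyclic ↥U ∧ Nat.card ↥U ∈ ({2 ^ (2 * m + 1) - 1, 2 ^ (2 * m + 1) + 2 ^ (m + 1) + 1, 2 ^ (2 * m + 1) - 2 ^ (m + 1) + 1} : Set ℕ) ∧
      M ≤ Subgroup.normalizer (U : Set ↥(Cfsg.Sz F m))) ∨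
    (∃ (K : Type) (_ : Field K) (_ : Fintype K) (k : ℕ), 1 ≤ k ∧ k < m ∧ Fintype.card K = 2 ^ (2 * k + 1) ∧ 2 * k + 1 ∣ 2 * m + 1 ∧
      ∃ S : Subgroup ↥(Cfsg.Sz F m), Nonempty (↥S ≃* ↥(Cfsg.Sz K k)) ∧ M ≤ S) := by
  haveI : Fact (Nat.Prime 2) := ⟨Nat.prime_two⟩
  rcases subgroup_theorem hF hm M with ⟨P, hP⟩ | ⟨⟨U, hU, hMU⟩, -⟩ | ⟨S, c, ⟨l, hlS, hl0, hl1⟩, hS⟩
  · left
    obtain ⟨Q, hQ⟩ := exists_sylow_Uat hF hm P
    refine ⟨Q, ?_⟩
    rw [hQ]
    intro g hg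
    exact mem_normalizer_Uat hF hm (hP g hg)
  · right; left
    exact ⟨U, hU.1, hU.2, hMU⟩
  · right; right
    obtain ⟨k', hk1, hdiv, hcard, hΨ⟩ := exists_subHom.{0, _} hF S hlS hl0 hl1
    letI : Fintype (GaloisField 2 (2 * k' + 1)) := Fintype.ofFinite _
    have hK : Fintype.card (GaloisField 2 (2 * k' + 1)) = 2 ^ (2 * k' + 1) := by
      rw [← Nat.card_eq_fintype_card, GaloisField.card 2 (2 * k' + 1) (by omega)]
    obtain ⟨Ψ, hinj, hrange⟩ := hΨ (GaloisField 2 (2 * k' + 1)) hK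
    have hkm : k' < m := by
      have hle : 2 * k' + 1 ≤ 2 * m + 1 := Nat.le_of_dvd (by omega) hdiv
      by_contra hlt
      have hkm : k' = m := by omega
      rw [hkm] at hcard
      have hall := subfield_eq_top_of_card hF S hcard
      rw [SSet_univ hF hm _ hall] at hS
      apply hM
      rw [eq_top_iff]
      intro g _
      have h1 : c * g * c⁻¹ ∈ ((M.map (MulAut.conj c).toMonoidHom : Subgroup (Cfsg.Sz F m)) :
          Set (Cfsg.Sz F m)) := by rw [hS]; exact Set.mem_univ _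
      rw [SetLike.mem_coe, Subgroup.mem_map] at h1
      obtain ⟨a, ha, hae⟩ := h1
      simp only [MulEquiv.coe_toMonoidHom, MulAut.conj_apply] at hae
      have : g = a := by
        have e : g = c⁻¹ * (c * g * c⁻¹) * c := by group
        rw [e, ← hae]; group
      rw [this]; exact ha
    refine ⟨GaloisField 2 (2 * k' + 1), inferInstance, inferInstance, k', hk1, hkm, hK, hdiv,
      Ψ.range.map (MulAut.conj c⁻¹).toMonoidHom, ?_, ?_⟩
    · exact ⟨((MulAut.conj c⁻¹).subgroupMap Ψ.range).symm.trans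
        (MonoidHom.ofInjective hinj).symm⟩
    · intro g hg
      have h1 : c * g * c⁻¹ ∈ ((M.map (MulAut.conj c).toMonoidHom : Subgroup (Cfsg.Sz F m)) :
          Set (Cfsg.Sz F m)) := conj_mem_map hg c
      rw [hS, ← hrange, SetLike.mem_coe] at h1
      rw [Subgroup.mem_map]
      refine ⟨_, h1, ?_⟩
      simp only [MulEquiv.coe_toMonoidHom, MulAut.conj_apply]
      group

end Cfsg.Agent.S2251
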