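import Mathlib
import Cfsg.Statements.S2257
import Cfsg.Agent.Lib.Helper5.PSL2Solv.Transfer

set_option autoImplicit false
open Cfsg

namespace Cfsg.Agent.S2257

/-- Let G = PSL_2(F) with F a field of order q = 2^p, p prime, and for x ∈ G call the solubilizer of x the set of y ∈ G such that x and y generate a solvable subgroup. Then the solubilizer of an involution has 3q(q − 1) elements; that of a non-identity element of order dividing q − 1 has 2q(q − 1) elements; and that of a non-identity element of order dividing q + 1 has 2(q + 1) elements. -/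
theorem result (p : ℕ) (hp : p.Prime) {F : Type*} [Field F] [Fintype F]
    (hF : Fintype.card F = 2 ^ p) (x : Matrix.ProjectiveSpecialLinearGroup (Fin 2) F) :
    (orderOf x = 2 → Nat.card {y : Matrix.ProjectiveSpecialLinearGroup (Fin 2) F // Group.IsSolvable ↥(Subgroup.closure ({x, y} : Set (Matrix.ProjectiveSpecialLinearGroup (Fin 2) F)))} = 3 * 2 ^ p * (2 ^ p - 1)) ∧
    (x ≠ 1 → orderOf x ∣ 2 ^ p - 1 → Nat.card {y : Matrix.ProjectiveSpecialLinearGroup (Fin 2) F // Group.IsSolvable ↥(Subgroup.closure ({x, y} : Set (Matrix.ProjectiveSpecialLinearGroup (Fin 2) F)))} = 2 * 2 ^ p * (2 ^ p - 1)) ∧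
    (x ≠ 1 → orderOf x ∣ 2 ^ p + 1 → Nat.card {y : Matrix.ProjectiveSpecialLinearGroup (Fin 2) F // Group.IsSolvable ↥(Subgroup.closure ({x, y} : Set (Matrix.ProjectiveSpecialLinearGroup (Fin 2) F)))} = 2 * (2 ^ p + 1)) := by
  classical
  have hC : CharP F 2 := Cfsg.Agent.Lib.Helper5.PSL2Solv.charP_two_of_card hF
  have hp1 : 1 ≤ p := hp.one_lt.le
  have hq : Even (Fintype.card F) := by
    rw [hF]
    exact (Nat.even_pow.2 ⟨even_two, by omega⟩)
  set e := Cfsg.Agent.Lib.Helper5.PSL2Solv.slEquivPsl F with he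
  have hx0 : x ≠ 1 → e.symm x ≠ 1 := by
    intro h h1
    apply h
    have := congrArg e h1
    rwa [MulEquiv.apply_symm_apply, map_one] at this
  have hord : orderOf (e.symm x) = orderOf x := MulEquiv.orderOf_eq e.symm x
  rw [Cfsg.Agent.Lib.Helper5.PSL2Solv.psl_count_transfer x]
  refine ⟨?_, ?_, ?_⟩
  · intro h2
    have hx1 : x ≠ 1 := by
      rintro rfl
      rw [orderOf_one] at h2
      omega
    have hsq : e.symm x * e.symm x = 1 := by
      have h3 : e.symm x ^ orderOf (e.symm x) = 1 := pow_orderOf_eq_one _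
      rw [hord, h2, sq] at h3
      exact h3
    rw [Cfsg.Agent.Lib.Helper5.PSL2Solv.count_invol _ (hx0 hx1) hsq, hF]
  · intro hx1 hdvd
    have hpow : e.symm x ^ (Fintype.card F - 1) = 1 := by
      rw [hF, ← orderOf_dvd_iff_pow_eq_one, hord]
      exact hdvd
    rw [Cfsg.Agent.Lib.Helper5.PSL2Solv.count_split hq _ (hx0 hx1) hpow, hF]
  · intro hx1 hdvd
    have hpow : e.symm x ^ (Fintype.card F + 1) = 1 := by
      rw [hF, ← orderOf_dvd_iff_pow_eq_one, hord]
      exact hdvd
    rw [Cfsg.Agent.Lib.Helper5.PSL2Solv.count_nonsplit hq _ (hx0 hx1) hpow, hF]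

end Cfsg.Agent.S2257
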