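import Mathlib
import Cfsg.Statements.S2258
import Cfsg.Agent.Lib.Helper5.PSL2Solv3.Final3

set_option autoImplicit false
open Cfsg
open Cfsg.Agent.Lib.Helper5.PSL2Solv3 Cfsg.Agent.Lib.Helper5.PSL2Solv Cfsg.Agent.Lib.Helper5.AutPSL2

namespace Cfsg.Agent.S2258

/-- Let G = PSL_2(F) with F a field of order q = 3^p, p an odd prime, and for x ∈ G call the solubilizer of x the set of y ∈ G such that x and y generate a solvable subgroup. Then the solubilizer of an involution has q(q + 1) elements; that of an element of order 3 has q(q + 5)/2 elements; that of an element of order neither 1 nor 2 dividing q − 1 has q(q − 1) elements; and that of an element of order neither 1 nor 2 dividing q + 1 has q + 1 elements. -/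
theorem result (p : ℕ) (hp : p.Prime) (hodd : Odd p) {F : Type*} [Field F] [Fintype F]
    (hF : Fintype.card F = 3 ^ p) (x : Matrix.ProjectiveSpecialLinearGroup (Fin 2) F) :
    (orderOf x = 2 → Nat.card {y : Matrix.ProjectiveSpecialLinearGroup (Fin 2) F // Group.IsSolvable ↥(Subgroup.closure ({x, y} : Set (Matrix.ProjectiveSpecialLinearGroup (Fin 2) F)))} = 3 ^ p * (3 ^ p + 1)) ∧
    (orderOf x = 3 → 2 * Nat.card {y : Matrix.ProjectiveSpecialLinearGroup (Fin 2) F // Group.IsSolvable ↥(Subgroup.closure ({x, y} : Set (Matrix.ProjectiveSpecialLinearGroup (Fin 2) F)))} = 3 ^ p * (3 ^ p + 5)) ∧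
    (x ≠ 1 → orderOf x ≠ 2 → orderOf x ∣ 3 ^ p - 1 → Nat.card {y : Matrix.ProjectiveSpecialLinearGroup (Fin 2) F // Group.IsSolvable ↥(Subgroup.closure ({x, y} : Set (Matrix.ProjectiveSpecialLinearGroup (Fin 2) F)))} = 3 ^ p * (3 ^ p - 1)) ∧
    (x ≠ 1 → orderOf x ≠ 2 → orderOf x ∣ 3 ^ p + 1 → Nat.card {y : Matrix.ProjectiveSpecialLinearGroup (Fin 2) F // Group.IsSolvable ↥(Subgroup.closure ({x, y} : Set (Matrix.ProjectiveSpecialLinearGroup (Fin 2) F)))} = 3 ^ p + 1) := by
  classical
  have : Fact (Nat.Prime 3) := ⟨Nat.prime_three⟩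
  have : CharP F 3 :=
    charP_of_card_pow 3 p (by rw [Nat.card_eq_fintype_card, hF])
  have h3 : (3 : F) = 0 := three_eq_zero_of_charP
  obtain ⟨hns, hodd'⟩ := field_facts p hodd hF
  have h2 : (2 : F) ≠ 0 := two_ne_zero_of_hns hns
  have hq3 : 3 ∣ 3 ^ p := dvd_pow_self 3 hp.ne_zero
  have hq1 : 1 ≤ 3 ^ p := Nat.one_le_pow _ _ (by norm_num)
  -- auxiliary: an element whose order divides `q - 1` and `q + 1`
  have hboth : ∀ y : Matrix.ProjectiveSpecialLinearGroup (Fin 2) F, y ≠ 1 → orderOf y ≠ 2 →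
      orderOf y ∣ 3 ^ p - 1 → orderOf y ∣ 3 ^ p + 1 → False := by
    intro y hy1 hy2 hd1 hd2
    have hd : orderOf y ∣ 2 := by
      have := Nat.dvd_sub hd2 hd1
      have e : 3 ^ p + 1 - (3 ^ p - 1) = 2 := by omega
      rwa [e] at this
    have hy : y ^ 2 = 1 := orderOf_dvd_iff_pow_eq_one.1 hd
    have : Fact (Nat.Prime 2) := ⟨Nat.prime_two⟩
    exact hy2 (orderOf_eq_prime hy hy1)
  -- auxiliary: an element of order dividing three
  have hcube : ∀ y : Matrix.ProjectiveSpecialLinearGroup (Fin 2) F, y ≠ 1 → y ^ 3 = 1 →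
      ∀ m : ℕ, orderOf y ∣ m → ¬ 3 ∣ m → False := by
    intro y hy1 hy3 m hm h3m
    have := orderOf_eq_prime hy3 hy1
    rw [this] at hm
    exact h3m hm
  -- transport of powers along `cG`
  have hpow : ∀ (y : Matrix.ProjectiveSpecialLinearGroup (Fin 2) F) (A : GL (Fin 2) F)
      (g : Matrix.SpecialLinearGroup (Fin 2) F) (n : ℕ), cG F A y = pr F g → g ^ n = 1 →
      orderOf y ∣ n := by
    intro y A g n hA hg
    rw [orderOf_dvd_iff_pow_eq_one]
    apply (cG F A).injective
    rw [map_pow, hA, ← map_pow, hg, map_one, map_one]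
  refine ⟨?_, ?_, ?_, ?_⟩
  · intro hx
    obtain ⟨A, hA⟩ := order2_norm hns x hx
    have := two_mul_card_sol h2 x A _ hA
    rw [wE3_count hodd' h3 hns, hF] at this
    exact Nat.eq_of_mul_eq_mul_left (by norm_num) this
  · intro hx
    have hx3 : x ^ 3 = 1 := by
      have := pow_orderOf_eq_one x
      rwa [hx] at this
    have hx1 : x ≠ 1 := by
      intro h1
      rw [h1, orderOf_one] at hx
      norm_num at hx
    obtain ⟨A, hA⟩ := exists_cG_to_uu_one 3 x hx3 hx1
    have := two_mul_card_sol h2 x A _ hA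
    rw [unip3_count hns, hF] at this
    exact this
  · intro hx1 hx2 hdvd
    obtain ⟨g, rfl⟩ := pr_surjective x
    obtain ⟨a, b, c, d, h, rfl⟩ := exists_mk2 g
    by_cases hΔ : (a + d) * (a + d) = 4
    · exfalso
      apply hcube _ hx1 (cube_of_disc_zero h3 h hΔ) _ hdvd
      omega
    · rcases normal_form hns h hΔ with ⟨l, u, hx, hl, A, hA⟩ | ⟨α, β, hr, hβ, hα, A, hA⟩
      · have := two_mul_card_sol h2 _ A _ hA
        rw [split3_count h3 hns hx hl, hF] at this
        exact Nat.eq_of_mul_eq_mul_left (by norm_num) this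
      · exfalso
        apply hboth _ hx1 hx2 hdvd
        have := hpow _ A _ _ hA (rot_pow_card hodd' hns hr)
        rwa [hF] at this
  · intro hx1 hx2 hdvd
    obtain ⟨g, rfl⟩ := pr_surjective x
    obtain ⟨a, b, c, d, h, rfl⟩ := exists_mk2 g
    by_cases hΔ : (a + d) * (a + d) = 4
    · exfalso
      apply hcube _ hx1 (cube_of_disc_zero h3 h hΔ) _ hdvd
      omega
    · rcases normal_form hns h hΔ with ⟨l, u, hx, hl, A, hA⟩ | ⟨α, β, hr, hβ, hα, A, hA⟩
      · exfalso
        apply hboth _ hx1 hx2 _ hdvd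
        have := hpow _ A _ _ hA (diag_pow_card hx)
        rwa [hF] at this
      · have hα0 : α ≠ 0 := by
          intro h0
          have ht := hα h0
          -- then `x ^ 2 = 1`
          apply hx2
          have : Fact (Nat.Prime 2) := ⟨Nat.prime_two⟩
          apply orderOf_eq_prime _ hx1
          rw [← map_pow, pr_eq_one_iff, pow_two, mk2_mul]
          right
          rw [negOne, mk2_inj]
          have hd : d = -a := by linear_combination ht
          subst hd
          refine ⟨by linear_combination (-1 : F) * h, by ring, by ring,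
            by linear_combination (-1 : F) * h⟩
        have := two_mul_card_sol h2 _ A _ hA
        rw [rot3_count hodd' h3 hns hr hα0 hβ, hF] at this
        exact Nat.eq_of_mul_eq_mul_left (by norm_num) this

end Cfsg.Agent.S2258
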