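import Cfsg.Statements.S2260

set_option autoImplicit false
open Cfsg

namespace Cfsg.Agent.S2260

theorem nilp_pow_card {F : Type*} [Field F] {d : ℕ} (N : Matrix (Fin d) (Fin d) F)
    (hN : IsNilpotent N) : N ^ d = 0 := by
  have h1 : N.charpoly = Polynomial.X ^ d := by
    have := Matrix.isNilpotent_charpoly_sub_pow_of_isNilpotent hN
    have h2 := this.eq_zero
    rw [Fintype.card_fin] at h2
    exact sub_eq_zero.mp h2
  have h3 := Matrix.aeval_self_charpoly N
  rw [h1] at h3
  simpa using h3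

theorem pow_char_pow {F : Type*} [Field F] (p : ℕ) [Fact p.Prime] [CharP F p] {d : ℕ}
    (N : Matrix (Fin d) (Fin d) F) (k : ℕ) : (1 + N) ^ p ^ k = 1 + N ^ p ^ k := by
  obtain ⟨r, hr⟩ := (Commute.one_left N).exists_add_pow_prime_pow_eq (Fact.out : p.Prime) k
  rw [hr]
  have hp : ((p : ℕ) : Matrix (Fin d) (Fin d) F) = 0 := by
    ext i j
    by_cases hij : i = j
    · subst hij
      simp [Matrix.natCast_apply, CharP.cast_eq_zero]
    · simp [Matrix.natCast_apply, hij]
  simp [hp]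

theorem result {F : Type*} [Field F] [Finite F] (p : ℕ) [Fact p.Prime] [CharP F p] (d : ℕ)
    (u : GL (Fin d) F) (hu : IsNilpotent ((u : Matrix (Fin d) (Fin d) F) - 1)) :
    orderOf u ≤ p ^ Nat.clog p d ∧
    (((u : Matrix (Fin d) (Fin d) F) - 1) ^ (d - 1) ≠ 0 → orderOf u = p ^ Nat.clog p d) := by
  have hp : p.Prime := Fact.out
  set N : Matrix (Fin d) (Fin d) F := (u : Matrix (Fin d) (Fin d) F) - 1 with hN
  have hu1 : (u : Matrix (Fin d) (Fin d) F) = 1 + N := by rw [hN]; abel
  have hNd : N ^ d = 0 := nilp_pow_card N hu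
  have hpow : ∀ k : ℕ, ((u ^ p ^ k : GL (Fin d) F) : Matrix (Fin d) (Fin d) F) = 1 + N ^ p ^ k := by
    intro k
    rw [Units.val_pow_eq_pow_val, hu1, pow_char_pow]
  have hle : d ≤ p ^ Nat.clog p d := Nat.le_pow_clog hp.one_lt d
  have hone : u ^ p ^ Nat.clog p d = 1 := by
    apply Units.ext
    rw [hpow, pow_eq_zero_of_le hle hNd]
    simp
  have hdvd : orderOf u ∣ p ^ Nat.clog p d := orderOf_dvd_of_pow_eq_one hone
  refine ⟨Nat.le_of_dvd (pow_pos hp.pos _) hdvd, ?_⟩
  intro hne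
  obtain ⟨j, hj, hjo⟩ := (Nat.dvd_prime_pow hp).mp hdvd
  rcases Nat.lt_or_ge j (Nat.clog p d) with hlt | hge
  · exfalso
    have hpj : p ^ j < d := by
      by_contra hcon
      rw [not_lt] at hcon
      have := (Nat.clog_le_iff_le_pow hp.one_lt).mpr hcon
      omega
    have h1 : u ^ p ^ j = 1 := by rw [← hjo]; exact pow_orderOf_eq_one u
    have h2 : N ^ p ^ j = 0 := by
      have := hpow j
      rw [h1] at this
      simpa using this.symm
    exact hne (pow_eq_zero_of_le (by omega) h2)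
  · rw [hjo]
    have : j = Nat.clog p d := le_antisymm hj hge
    rw [this]

end Cfsg.Agent.S2260
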