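import Cfsg.Statements.S2268

set_option autoImplicit false
open Cfsg

namespace Cfsg.Agent.S2268

open Subgroup in
theorem frattini {G : Type*} [Group G] [Finite G] {p : ℕ} [Fact p.Prime]
    (P : Sylow p G) (hP : IsMulCommutative (P : Subgroup G)) (Q : Subgroup G) (hQ : Q ≤ (P : Subgroup G)) :
    Subgroup.normalizer (Q : Set G) =
      (Subgroup.normalizer (Q : Set G) ⊓ Subgroup.normalizer ((P : Subgroup G) : Set G)) ⊔ Subgroup.centralizer (Q : Set G) := by
  apply le_antisymm
  · intro g hg
    have hPC : (P : Subgroup G) ≤ centralizer (Q : Set G) := by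
      intro x hx
      rw [mem_centralizer_iff]
      intro q hq
      have := hP.is_comm.comm ⟨q, hQ hq⟩ ⟨x, hx⟩
      exact congrArg Subtype.val this
    have hgPC : ((g • P : Sylow p G) : Subgroup G) ≤ centralizer (Q : Set G) := by
      rintro - ⟨x, hx, rfl⟩
      rw [mem_centralizer_iff]
      intro q hq
      have hq' : g⁻¹ * q * g ∈ Q := by
        have := (mem_normalizer_iff'.mp (inv_mem hg) q)
        have h2 : g⁻¹ * q * g⁻¹⁻¹ ∈ Q := ((mem_normalizer_iff.mp (inv_mem hg)) q).mp hq
        simpa using h2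
      have hcomm := (mem_centralizer_iff.mp (hPC hx)) _ hq'
      change q * (g * x * g⁻¹) = g * x * g⁻¹ * q
      calc q * (g * x * g⁻¹) = g * ((g⁻¹ * q * g) * x) * g⁻¹ := by group
        _ = g * (x * (g⁻¹ * q * g)) * g⁻¹ := by rw [hcomm]
        _ = g * x * g⁻¹ * q := by group
    obtain ⟨h, hh⟩ :=
      MulAction.exists_smul_eq (centralizer (Q : Set G)) ((g • P).subtype hgPC) (P.subtype hPC)
    simp_rw [Sylow.smul_subtype, Subgroup.smul_def, smul_smul] at hh
    have hn : (h : G) * g ∈ normalizer ((P : Subgroup G) : Set G) :=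
      Sylow.smul_eq_iff_mem_normalizer.mp (Sylow.subtype_injective hh)
    have hcn : centralizer (Q : Set G) ≤ normalizer (Q : Set G) := by
      intro c hc
      rw [mem_normalizer_iff]
      intro q
      constructor
      · intro hq
        have := (mem_centralizer_iff.mp hc) q hq
        have e : c * q * c⁻¹ = q := by rw [← this]; group
        rwa [e]
      · intro hq
        have h1 := (mem_centralizer_iff.mp hc) _ hq
        have e : c * q * c⁻¹ = q := by
          have : c * (c * q * c⁻¹) = c * q := by rw [← h1]; group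
          exact mul_left_cancel this
        rwa [e] at hq
    have hg' : g = (h : G)⁻¹ * ((h : G) * g) := by group
    rw [hg']
    rw [sup_comm]
    apply Subgroup.mul_mem_sup (inv_mem h.2)
    refine ⟨?_, hn⟩
    exact mul_mem (hcn h.2) hg
  · apply sup_le inf_le_left
    intro c hc
    rw [mem_normalizer_iff]
    intro q
    constructor
    · intro hq
      have := (mem_centralizer_iff.mp hc) q hq
      have e : c * q * c⁻¹ = q := by rw [← this]; group
      rwa [e]
    · intro hq
      have h1 := (mem_centralizer_iff.mp hc) _ hq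
      have e : c * q * c⁻¹ = q := by
        have : c * (c * q * c⁻¹) = c * q := by rw [← h1]; group
        exact mul_left_cancel this
      rwa [e] at hq

theorem result {G : Type*} [Group G] [Finite G] {p : ℕ} [Fact p.Prime]
    (P : Sylow p G) (hP : IsMulCommutative (P : Subgroup G)) (Q : Subgroup G) (hQ : Q ≤ (P : Subgroup G)) :
    Subgroup.normalizer (Q : Set G) =
      (Subgroup.normalizer (Q : Set G) ⊓ Subgroup.normalizer ((P : Subgroup G) : Set G)) ⊔ Subgroup.centralizer (Q : Set G) ∧
    ((Subgroup.centralizer (Q : Set G)).subgroupOf (Subgroup.normalizer (Q : Set G))).index ∣ ((Subgroup.centralizer ((P : Subgroup G) : Set G)).subgroupOf (Subgroup.normalizer ((P : Subgroup G) : Set G))).index := by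
  have h1 := frattini P hP Q hQ
  refine ⟨h1, ?_⟩
  set NQ := Subgroup.normalizer (Q : Set G) with hNQ
  set NP := Subgroup.normalizer ((P : Subgroup G) : Set G) with hNP
  set CQ := Subgroup.centralizer (Q : Set G) with hCQ
  set CP := Subgroup.centralizer ((P : Subgroup G) : Set G) with hCP
  set A := NQ ⊓ NP with hA
  have hCQN : CQ ≤ NQ := by rw [h1]; exact le_sup_right
  have hANQ : A ≤ NQ := inf_le_left
  have hANP : A ≤ NP := inf_le_right
  have hCPCQ : CP ≤ CQ := Subgroup.centralizer_le hQ
  have hCPNP : CP ≤ NP := by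
    intro c hc
    rw [Subgroup.mem_normalizer_iff]
    intro q
    constructor
    · intro hq
      have := (Subgroup.mem_centralizer_iff.mp hc) q hq
      have e : c * q * c⁻¹ = q := by rw [← this]; group
      rwa [e]
    · intro hq
      have h1 := (Subgroup.mem_centralizer_iff.mp hc) _ hq
      have e : c * q * c⁻¹ = q := by
        have : c * (c * q * c⁻¹) = c * q := by rw [← h1]; group
        exact mul_left_cancel this
      rwa [e] at hq
  have hCPA : CP ≤ A := le_inf (hCPCQ.trans hCQN) hCPNP
  -- index computations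
  change CQ.relIndex NQ ∣ CP.relIndex NP
  have hnorm : (CQ.subgroupOf NQ).Normal := by
    refine ⟨?_⟩
    rintro ⟨c, hcN⟩ hc ⟨g, hg⟩
    rw [Subgroup.mem_subgroupOf] at hc ⊢
    simp only [Subgroup.coe_mul, Subgroup.coe_inv]
    rw [Subgroup.mem_centralizer_iff] at hc ⊢
    intro q hq
    have hq' : g⁻¹ * q * g ∈ Q := by
      have h2 : g⁻¹ * q * g⁻¹⁻¹ ∈ Q := ((Subgroup.mem_normalizer_iff.mp (inv_mem hg)) q).mp hq
      simpa using h2
    have hcomm := hc _ hq'
    calc q * (g * c * g⁻¹) = g * ((g⁻¹ * q * g) * c) * g⁻¹ := by group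
      _ = g * (c * (g⁻¹ * q * g)) * g⁻¹ := by rw [hcomm]
      _ = g * c * g⁻¹ * q := by group
  have e1 : CQ.relIndex NQ = CQ.relIndex A := by
    have htop : A.subgroupOf NQ ⊔ CQ.subgroupOf NQ = ⊤ := by
      rw [← Subgroup.subgroupOf_sup hANQ hCQN, ← h1, Subgroup.subgroupOf_self]
    have := Subgroup.relIndex_sup_right (A.subgroupOf NQ) (CQ.subgroupOf NQ)
    rw [htop, Subgroup.relIndex_top_right] at this
    rw [Subgroup.relIndex, this, Subgroup.relIndex_subgroupOf hANQ]
  rw [e1]
  have e2 : CQ.relIndex A ∣ CP.relIndex A := Subgroup.relIndex_dvd_of_le_left A hCPCQ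
  have e3 : CP.relIndex A * A.relIndex NP = CP.relIndex NP := Subgroup.relIndex_mul_relIndex _ _ _ hCPA hANP
  exact e2.trans (Dvd.intro _ e3)

end Cfsg.Agent.S2268
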