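import Cfsg.Statements.S2270

set_option autoImplicit false
open Cfsg

namespace Cfsg.Agent.S2270

theorem conj_pow_aux {G : Type*} [Group G] (x n : G) (hnx : x⁻¹ = n⁻¹ * x * n) (j : ℕ) :
    (n ^ j)⁻¹ * x * n ^ j = if Even j then x else x⁻¹ := by
  induction j with
  | zero => simp
  | succ j ih =>
    have e : (n ^ (j + 1))⁻¹ * x * n ^ (j + 1) = n⁻¹ * ((n ^ j)⁻¹ * x * n ^ j) * n := by
      rw [pow_succ]; group
    rw [e, ih]
    by_cases hj : Even j
    · have : ¬ Even (j + 1) := by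
        rw [Nat.even_add_one]; exact not_not.mpr hj
      rw [if_pos hj, if_neg this, hnx]
    · have : Even (j + 1) := by
        rw [Nat.even_add_one]; exact hj
      rw [if_neg hj, if_pos this]
      have : n⁻¹ * x⁻¹ * n = (n⁻¹ * x * n)⁻¹ := by group
      rw [this, ← hnx, inv_inv]

/-- general statement: abelian Sylow `p`-subgroup, `p` odd, a nontrivial element conjugate to its
inverse, then the automizer has even order. -/
theorem even_automizer {G : Type*} [Group G] [Finite G] {p : ℕ} [Fact p.Prime] (hp : p ≠ 2)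
    (P : Sylow p G) (hP : IsMulCommutative (P : Subgroup G))
    (x : G) (hx : x ∈ (P : Subgroup G)) (hx1 : x ≠ 1) (hconj : IsConj x x⁻¹) :
    2 ∣ ((Subgroup.centralizer ((P : Subgroup G) : Set G)).subgroupOf
      (Subgroup.normalizer ((P : Subgroup G) : Set G))).index := by
  have hpp : p.Prime := Fact.out
  obtain ⟨c, hc⟩ := isConj_iff.mp hconj
  have hy : (c⁻¹)⁻¹ * x * c⁻¹ ∈ (P : Subgroup G) := by
    rw [inv_inv, hc]; exact inv_mem hx
  obtain ⟨n, hn, hnx⟩ := Sylow.conj_eq_normalizer_conj_of_mem P x c⁻¹ hx hy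
  rw [inv_inv, hc] at hnx
  -- hnx : x⁻¹ = n⁻¹ * x * n
  have hxne : x ≠ x⁻¹ := by
    intro h
    have h2 : x ^ 2 = 1 := by
      rw [pow_two]
      nth_rewrite 2 [h]
      exact mul_inv_cancel x
    have hdvd : orderOf x ∣ 2 := orderOf_dvd_of_pow_eq_one h2
    have hpd : p ∣ orderOf x := by
      have h3 : (⟨x, hx⟩ : (P : Subgroup G)) ≠ 1 := by
        intro h4; exact hx1 (congrArg Subtype.val h4)
      have := P.isPGroup'.dvd_orderOf h3
      rwa [← Subgroup.orderOf_coe] at this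
    have hp2 : p ∣ 2 := hpd.trans hdvd
    exact hp ((Nat.prime_dvd_prime_iff_eq hpp Nat.prime_two).mp hp2)
  set N := Subgroup.normalizer ((P : Subgroup G) : Set G) with hN
  set C := Subgroup.centralizer ((P : Subgroup G) : Set G) with hC
  have hnorm : (C.subgroupOf N).Normal := by
    refine ⟨?_⟩
    rintro ⟨c, hcN⟩ hc ⟨g, hg⟩
    rw [Subgroup.mem_subgroupOf] at hc ⊢
    simp only [Subgroup.coe_mul, Subgroup.coe_inv]
    rw [Subgroup.mem_centralizer_iff] at hc ⊢
    intro q hq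
    have hq' : g⁻¹ * q * g ∈ (P : Subgroup G) := by
      have h2 : g⁻¹ * q * g⁻¹⁻¹ ∈ (P : Subgroup G) :=
        ((Subgroup.mem_normalizer_iff.mp (inv_mem hg)) q).mp hq
      simpa using h2
    have hcomm := hc _ hq'
    calc q * (g * c * g⁻¹) = g * ((g⁻¹ * q * g) * c) * g⁻¹ := by group
      _ = g * (c * (g⁻¹ * q * g)) * g⁻¹ := by rw [hcomm]
      _ = g * c * g⁻¹ * q := by group
  set nb : N ⧸ C.subgroupOf N := QuotientGroup.mk ⟨n, hn⟩ with hnb
  have hdvd : orderOf nb ∣ (C.subgroupOf N).index := by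
    rw [Subgroup.index_eq_card]; exact orderOf_dvd_natCard _
  refine Dvd.dvd.trans ?_ hdvd
  by_contra hodd
  have hodd' : ¬ Even (orderOf nb) := fun h => hodd (even_iff_two_dvd.mp h)
  have h1 : nb ^ orderOf nb = 1 := pow_orderOf_eq_one nb
  have h2 : (⟨n, hn⟩ : N) ^ orderOf nb ∈ C.subgroupOf N := by
    rw [← QuotientGroup.eq_one_iff, QuotientGroup.mk_pow]; exact h1
  rw [Subgroup.mem_subgroupOf] at h2
  simp only [Subgroup.coe_pow] at h2
  have h3 := (Subgroup.mem_centralizer_iff.mp h2) x hx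
  have h4 := conj_pow_aux x n hnx (orderOf nb)
  rw [if_neg hodd'] at h4
  apply hxne
  rw [← h4, mul_assoc, h3]
  group

theorem result (n : ℕ) (hn : 3 ≤ n) {p : ℕ} [Fact p.Prime] (hp : p ≠ 2) (hpn : p ≤ n)
    (P : Sylow p (Equiv.Perm (Fin n))) (hP : IsMulCommutative (P : Subgroup (Equiv.Perm (Fin n)))) :
    2 ∣ ((Subgroup.centralizer ((P : Subgroup (Equiv.Perm (Fin n))) : Set (Equiv.Perm (Fin n)))).subgroupOf (Subgroup.normalizer ((P : Subgroup (Equiv.Perm (Fin n))) : Set (Equiv.Perm (Fin n))))).index := by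
  have hpp : p.Prime := Fact.out
  have hcard : p ∣ Nat.card (Equiv.Perm (Fin n)) := by
    rw [Nat.card_eq_fintype_card, Fintype.card_perm, Fintype.card_fin]
    exact (Nat.Prime.dvd_factorial hpp).mpr hpn
  have hne : (P : Subgroup (Equiv.Perm (Fin n))) ≠ ⊥ := P.ne_bot_of_dvd_card hcard
  obtain ⟨x, hx⟩ := (Subgroup.ne_bot_iff_exists_ne_one.mp hne)
  have hx1' : (x : Equiv.Perm (Fin n)) ≠ 1 := fun h => hx (Subtype.ext h)
  apply even_automizer hp P hP x x.2 hx1'
  rw [Equiv.Perm.isConj_iff_cycleType_eq, Equiv.Perm.cycleType_inv]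

end Cfsg.Agent.S2270
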