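import Cfsg.Statements.S2298
import Cfsg.Agent.Lib.Helper4.GL2Table

set_option autoImplicit false
open Cfsg

namespace Cfsg.Agent.S2298

open Cfsg.Agent.Lib.Helper4 Cfsg.Agent.Lib.Helper6
open scoped MatrixGroups

variable {F : Type*} [Field F] [Fintype F]

theorem cast_ne_aux (q : ℕ) (hq : 3 ≤ q) :
    ((q : ℂ) ≠ 1) ∧ ((q : ℂ) + 1 ≠ 1) ∧ ((q : ℂ) - 1 ≠ 1) ∧ ((q : ℂ) + 1 ≠ q) ∧ ((q : ℂ) - 1 ≠ q) ∧
    ((q : ℂ) - 1 ≠ q + 1) := by
  have h1 : ((q - 1 : ℕ) : ℂ) = (q : ℂ) - 1 := by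
    rw [Nat.cast_sub (by omega)]; simp
  refine ⟨?_, ?_, ?_, ?_, ?_, ?_⟩
  · intro h
    have : q = 1 := by exact_mod_cast h
    omega
  · intro h
    have : q + 1 = 1 := by exact_mod_cast h
    omega
  · rw [← h1]
    intro h
    have : q - 1 = 1 := by exact_mod_cast h
    omega
  · intro h
    have : q + 1 = q := by exact_mod_cast h
    omega
  · rw [← h1]
    intro h
    have : q - 1 = q := by exact_mod_cast h
    omega
  · rw [← h1]
    intro h
    have : q - 1 = q + 1 := by exact_mod_cast h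
    omega

theorem result {F : Type*} [Field F] [Fintype F] :
    (∀ χ : Matrix.GeneralLinearGroup (Fin 2) F → ℂ, Cfsg.IsIrrCharacter (Matrix.GeneralLinearGroup (Fin 2) F) χ →
      χ 1 = 1 ∨ χ 1 = (Fintype.card F : ℂ) - 1 ∨ χ 1 = (Fintype.card F : ℂ) ∨ χ 1 = (Fintype.card F : ℂ) + 1) ∧
    (3 ≤ Fintype.card F →
      Nat.card {χ : Cfsg.IrrCharacter (Matrix.GeneralLinearGroup (Fin 2) F) // (χ : Matrix.GeneralLinearGroup (Fin 2) F → ℂ) 1 = 1} = Fintype.card F - 1 ∧
      Nat.card {χ : Cfsg.IrrCharacter (Matrix.GeneralLinearGroup (Fin 2) F) // (χ : Matrix.GeneralLinearGroup (Fin 2) F → ℂ) 1 = (Fintype.card F : ℂ)} = Fintype.card F - 1 ∧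
      Nat.card {χ : Cfsg.IrrCharacter (Matrix.GeneralLinearGroup (Fin 2) F) // (χ : Matrix.GeneralLinearGroup (Fin 2) F → ℂ) 1 = (Fintype.card F : ℂ) + 1} = (Fintype.card F - 1) * (Fintype.card F - 2) / 2 ∧
      Nat.card {χ : Cfsg.IrrCharacter (Matrix.GeneralLinearGroup (Fin 2) F) // (χ : Matrix.GeneralLinearGroup (Fin 2) F → ℂ) 1 = (Fintype.card F : ℂ) - 1} = Fintype.card F * (Fintype.card F - 1) / 2) := by
  classical
  have instG : Fintype (GL (Fin 2) F) := Fintype.ofFinite _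
  obtain ⟨hcusp, hcard⟩ := cusp_main (F := F)
  constructor
  · intro χ hχ
    rcases irr_cases χ hχ with ⟨α, rfl⟩ | ⟨α, rfl⟩ | ⟨α, β, -, rfl⟩ | h
    · left; exact lamGL2_one α
    · right; right; left; exact stGL2_one α
    · right; right; right; exact psGL2_one α β
    · right; left; exact (hcusp ⟨χ, hχ⟩ h).1
  · intro hq
    obtain ⟨n1, n2, n3, n4, n5, n6⟩ := cast_ne_aux (Fintype.card F) hq
    refine ⟨?_, ?_, ?_, ?_⟩
    · rw [← card_mulChar (F := F)]
      symm
      apply Nat.card_congr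
      refine Equiv.ofBijective (fun α => ⟨⟨lamGL2 α, isIrr_lamGL2 α⟩, lamGL2_one α⟩) ⟨?_, ?_⟩
      · intro α β h
        have := congrArg (fun x => (x.1 : GL (Fin 2) F → ℂ)) h
        exact lamGL2_injective α β this
      · rintro ⟨⟨χ, hχ⟩, h1⟩
        simp only at h1
        rcases irr_cases χ hχ with ⟨α, rfl⟩ | ⟨α, rfl⟩ | ⟨α, β, -, rfl⟩ | h
        · exact ⟨α, rfl⟩
        · rw [stGL2_one] at h1; exact absurd h1 n1
        · rw [psGL2_one] at h1; exact absurd h1 n2
        · have h2 := (hcusp ⟨χ, hχ⟩ h).1; simp only at h2; rw [h2] at h1; exact absurd h1 n3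
    · rw [← card_mulChar (F := F)]
      symm
      apply Nat.card_congr
      refine Equiv.ofBijective (fun α => ⟨⟨stGL2 α, isIrr_stGL2 α⟩, stGL2_one α⟩) ⟨?_, ?_⟩
      · intro α β h
        have := congrArg (fun x => (x.1 : GL (Fin 2) F → ℂ)) h
        exact stGL2_injective α β this
      · rintro ⟨⟨χ, hχ⟩, h1⟩
        simp only at h1
        rcases irr_cases χ hχ with ⟨α, rfl⟩ | ⟨α, rfl⟩ | ⟨α, β, -, rfl⟩ | h
        · rw [lamGL2_one] at h1; exact absurd h1.symm n1
        · exact ⟨α, rfl⟩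
        · rw [psGL2_one] at h1; exact absurd h1 n4
        · have h2 := (hcusp ⟨χ, hχ⟩ h).1; simp only at h2; rw [h2] at h1; exact absurd h1 n5
    · have instM : Fintype (MulChar F ℂ) := Fintype.ofFinite _
      have hc : Nat.card {z : Sym2 (MulChar F ℂ) // ¬ z.IsDiag} =
          (Fintype.card F - 1) * (Fintype.card F - 2) / 2 := by
        rw [Nat.card_eq_fintype_card, Sym2.card_subtype_not_diag, ← Nat.card_eq_fintype_card,
          card_mulChar, Nat.choose_two_right]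
        rfl
      rw [← hc]
      symm
      apply Nat.card_congr
      refine Equiv.ofBijective (fun z => ⟨⟨psSym z.1, isIrr_psSym z.1 z.2⟩, psSym_one z.1⟩) ⟨?_, ?_⟩
      · intro z z' h
        have := congrArg (fun x => (x.1 : GL (Fin 2) F → ℂ)) h
        exact Subtype.ext (psSym_injective z.1 z'.1 this)
      · rintro ⟨⟨χ, hχ⟩, h1⟩
        simp only at h1
        rcases irr_cases χ hχ with ⟨α, rfl⟩ | ⟨α, rfl⟩ | ⟨α, β, hab, rfl⟩ | h
        · rw [lamGL2_one] at h1; exact absurd h1.symm n2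
        · rw [stGL2_one] at h1; exact absurd h1.symm n4
        · exact ⟨⟨s(α, β), by rw [Sym2.mk_isDiag_iff]; exact hab⟩, rfl⟩
        · have h2 := (hcusp ⟨χ, hχ⟩ h).1; simp only at h2; rw [h2] at h1; exact absurd h1 n6
    · have hiff : ∀ χ : Cfsg.IrrCharacter (GL (Fin 2) F),
          (χ : GL (Fin 2) F → ℂ) 1 = (Fintype.card F : ℂ) - 1 ↔ NonPS (χ : GL (Fin 2) F → ℂ) := by
        rintro ⟨χ, hχ⟩
        constructor
        · intro h1
          simp only at h1
          rcases irr_cases χ hχ with ⟨α, rfl⟩ | ⟨α, rfl⟩ | ⟨α, β, hab, rfl⟩ | h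
          · rw [lamGL2_one] at h1; exact absurd h1.symm n3
          · rw [stGL2_one] at h1; exact absurd h1.symm n5
          · rw [psGL2_one] at h1; exact absurd h1.symm n6
          · exact h
        · intro h
          exact (hcusp ⟨χ, hχ⟩ h).1
      rw [Nat.card_congr (Equiv.subtypeEquivRight hiff)]
      omega

end Cfsg.Agent.S2298
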