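import Cfsg.Statements.S2301
import Cfsg.Agent.Lib.Helper4.SL2Unip
import Cfsg.Agent.Lib.Helper4.SLCard
import Cfsg.Agent.Lib.Helper4.ConjClass

set_option autoImplicit false
open Cfsg

namespace Cfsg.Agent.S2301

open Cfsg.Agent.Lib.Helper4

theorem sq_eq_one_card {F : Type*} [Field F] (h2 : (2 : F) ≠ 0) :
    Nat.card {a : F // a ^ 2 = 1} = 2 := by
  rw [Nat.card_eq_two_iff]
  refine ⟨⟨1, one_pow 2⟩, ⟨-1, by ring⟩, ?_, ?_⟩
  · intro h
    have h1 : (1 : F) = -1 := congrArg Subtype.val h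
    apply h2
    linear_combination h1
  · ext ⟨a, ha⟩
    simp only [Set.mem_insert_iff, Set.mem_singleton_iff, Subtype.mk.injEq, Set.mem_univ, iff_true]
    have : (a - 1) * (a + 1) = 0 := by linear_combination ha
    rcases mul_eq_zero.mp this with h | h
    · left; linear_combination h
    · right; linear_combination h

theorem isSquare_mul_of_not {F : Type*} [Field F] [Fintype F] {a b : F} (ha : ¬ IsSquare a) (hb : ¬ IsSquare b) :
    IsSquare (a * b) := by
  classical
  have ha0 : a ≠ 0 := by rintro rfl; exact ha (IsSquare.zero)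
  have hb0 : b ≠ 0 := by rintro rfl; exact hb (IsSquare.zero)
  rw [← quadraticChar_one_iff_isSquare (mul_ne_zero ha0 hb0), map_mul,
    quadraticChar_neg_one_iff_not_isSquare.mpr ha, quadraticChar_neg_one_iff_not_isSquare.mpr hb]
  norm_num

theorem result {F : Type*} [Field F] [Fintype F] (p : ℕ) [Fact p.Prime] [CharP F p] (hp : p ≠ 2) :
    Nat.card {C : ConjClasses (Matrix.SpecialLinearGroup (Fin 2) F) // ∃ g : Matrix.SpecialLinearGroup (Fin 2) F, orderOf g = p ∧ ConjClasses.mk g = C} = 2 ∧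
    (∀ g : Matrix.SpecialLinearGroup (Fin 2) F, orderOf g = p → Nat.card (ConjClasses.mk g).carrier = (Fintype.card F ^ 2 - 1) / 2) ∧
    ∀ g h : Matrix.SpecialLinearGroup (Fin 2) F, (g : Matrix (Fin 2) (Fin 2) F) 0 0 = 1 → (g : Matrix (Fin 2) (Fin 2) F) 1 1 = 1 → (g : Matrix (Fin 2) (Fin 2) F) 1 0 = 0 → (g : Matrix (Fin 2) (Fin 2) F) 0 1 ≠ 0 →
      (h : Matrix (Fin 2) (Fin 2) F) 0 0 = 1 → (h : Matrix (Fin 2) (Fin 2) F) 1 1 = 1 → (h : Matrix (Fin 2) (Fin 2) F) 1 0 = 0 → (h : Matrix (Fin 2) (Fin 2) F) 0 1 ≠ 0 →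
      (IsConj g h ↔ IsSquare ((g : Matrix (Fin 2) (Fin 2) F) 0 1 * (h : Matrix (Fin 2) (Fin 2) F) 0 1)) := by
  have hpp : p.Prime := Fact.out
  have hchar : ringChar F ≠ 2 := by rw [ringChar.eq F p]; exact hp
  have h2 : (2 : F) ≠ 0 := Ring.two_ne_zero hchar
  obtain ⟨ν, hν⟩ := FiniteField.exists_nonsquare hchar
  have hν0 : ν ≠ 0 := by rintro rfl; exact hν IsSquare.zero
  refine ⟨?_, ?_, ?_⟩
  · rw [Nat.card_eq_two_iff]
    refine ⟨⟨ConjClasses.mk (upperU 1), upperU 1, orderOf_upperU p 1 one_ne_zero, rfl⟩,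
      ⟨ConjClasses.mk (upperU ν), upperU ν, orderOf_upperU p ν hν0, rfl⟩, ?_, ?_⟩
    · intro h
      have h1 : ConjClasses.mk (upperU (1 : F)) = ConjClasses.mk (upperU ν) := congrArg Subtype.val h
      rw [ConjClasses.mk_eq_mk_iff_isConj, upperU_isConj_iff 1 ν one_ne_zero hν0, one_mul] at h1
      exact hν h1
    · ext ⟨C, g, hg, hC⟩
      simp only [Set.mem_insert_iff, Set.mem_singleton_iff, Subtype.mk.injEq, Set.mem_univ, iff_true]
      obtain ⟨b, hb0, hb⟩ := exists_isConj_upperU p g hg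
      subst hC
      by_cases hsq : IsSquare b
      · left
        rw [ConjClasses.mk_eq_mk_iff_isConj]
        apply hb.trans
        rw [upperU_isConj_iff b 1 hb0 one_ne_zero, mul_one]
        exact hsq
      · right
        rw [ConjClasses.mk_eq_mk_iff_isConj]
        apply hb.trans
        rw [upperU_isConj_iff b ν hb0 hν0]
        exact isSquare_mul_of_not hsq hν
  · intro g hg
    obtain ⟨b, hb0, hb⟩ := exists_isConj_upperU p g hg
    have h1 := card_carrier_mul_card_centralizer g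
    rw [card_centralizer_eq_of_isConj hb, card_centralizer_upperU b hb0, sq_eq_one_card h2,
      card_SL2] at h1
    have hq : 0 < Fintype.card F := Fintype.card_pos
    have h3 : Nat.card (ConjClasses.mk g).carrier * 2 = Fintype.card F ^ 2 - 1 := by
      apply Nat.eq_of_mul_eq_mul_right hq
      rw [mul_comm (Fintype.card F ^ 2 - 1), ← h1]; ring
    omega
  · intro g h g00 g11 g10 g01 h00 h11 h10 h01
    rw [eq_upperU_of_entries g g00 g11 g10, eq_upperU_of_entries h h00 h11 h10]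
    exact upperU_isConj_iff _ _ g01 h01

end Cfsg.Agent.S2301
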