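import Cfsg.Statements.S2302
import Cfsg.Agent.Lib.Helper4.GL2Unip
import Cfsg.Agent.Lib.Helper4.SL2
import Cfsg.Agent.Lib.Helper4.SLCard
import Cfsg.Agent.Lib.Helper4.ConjClass

set_option autoImplicit false
open Cfsg

namespace Cfsg.Agent.S2302

open Cfsg.Agent.Lib.Helper4

theorem orderOf_upperU_one {F : Type*} [Field F] [CharP F 2] :
    orderOf (upperU (1 : F)) = 2 := by
  apply orderOf_eq_prime
  · rw [sl2_ext_iff]
    simp only [pow_two, Matrix.SpecialLinearGroup.coe_mul, upperU_coe, Matrix.mul_apply,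
      Fin.sum_univ_two, Matrix.of_apply, Matrix.cons_val', Matrix.cons_val_zero,
      Matrix.cons_val_one, Matrix.cons_val_fin_one, Matrix.SpecialLinearGroup.coe_one,
      Matrix.one_apply_eq]
    refine ⟨by simp, ?_, by simp, by simp⟩
    have : (1 : F) + 1 = 0 := CharTwo.add_self_eq_zero 1
    simp [this]
  · intro h
    have := (sl2_ext_iff _ _).mp h
    have h2 := this.2.1
    simp [upperU_coe] at h2

theorem sq_eq_one_card {F : Type*} [Field F] [CharP F 2] :
    Nat.card {a : F // a ^ 2 = 1} = 1 := by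
  rw [Nat.card_eq_one_iff_unique]
  refine ⟨⟨?_⟩, ⟨⟨1, one_pow 2⟩⟩⟩
  rintro ⟨a, ha⟩ ⟨b, hb⟩
  apply Subtype.ext
  haveI : Fact (Nat.Prime 2) := ⟨Nat.prime_two⟩
  have h1 : (a - b) ^ 2 = 0 := by
    rw [sub_pow_char (p := 2) a b, ha, hb, sub_self]
  exact sub_eq_zero.mp (pow_eq_zero_iff (two_ne_zero) |>.mp h1)

theorem result {F : Type*} [Field F] [Fintype F] [CharP F 2] (g h : Matrix.SpecialLinearGroup (Fin 2) F) (hg : orderOf g = 2) (hh : orderOf h = 2) :
    IsConj g h ∧ Nat.card (ConjClasses.mk g).carrier = Fintype.card F ^ 2 - 1 := by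
  haveI : Fact (Nat.Prime 2) := ⟨Nat.prime_two⟩
  have hsq : ∀ x : F, IsSquare x := FiniteField.isSquare_of_char_two (ringChar.eq F 2)
  have conj : ∀ a b : Matrix.SpecialLinearGroup (Fin 2) F, orderOf a = 2 → orderOf b = 2 →
      IsConj a b := by
    intro a b ha hb
    apply sl2_isConj_of_gl_isConj_of_sq hsq
    apply gl2_isConj_of_orderOf_eq_char 2
    · rw [orderOf_injective _ Matrix.SpecialLinearGroup.toGL_injective, ha]
    · rw [orderOf_injective _ Matrix.SpecialLinearGroup.toGL_injective, hb]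
  refine ⟨conj g h hg hh, ?_⟩
  have h1 := card_carrier_mul_card_centralizer g
  rw [card_centralizer_eq_of_isConj (conj g _ hg orderOf_upperU_one),
    card_centralizer_upperU 1 one_ne_zero, sq_eq_one_card, one_mul, card_SL2] at h1
  have hq : 0 < Fintype.card F := Fintype.card_pos
  apply Nat.eq_of_mul_eq_mul_right hq
  rw [h1, mul_comm]

end Cfsg.Agent.S2302
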