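import Cfsg.Statements.S2303
import Cfsg.Agent.Lib.Helper4.GL2

set_option autoImplicit false
open Cfsg

namespace Cfsg.Agent.S2303

open Cfsg.Agent.Lib.Helper4 Matrix

variable {F : Type*} [Field F]

theorem gl2_ext_iff (x y : GL (Fin 2) F) :
    x = y ↔ (x : Matrix (Fin 2) (Fin 2) F) 0 0 = (y : Matrix (Fin 2) (Fin 2) F) 0 0 ∧
      (x : Matrix (Fin 2) (Fin 2) F) 0 1 = (y : Matrix (Fin 2) (Fin 2) F) 0 1 ∧
      (x : Matrix (Fin 2) (Fin 2) F) 1 0 = (y : Matrix (Fin 2) (Fin 2) F) 1 0 ∧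
      (x : Matrix (Fin 2) (Fin 2) F) 1 1 = (y : Matrix (Fin 2) (Fin 2) F) 1 1 := by
  constructor
  · rintro rfl; exact ⟨rfl, rfl, rfl, rfl⟩
  · rintro ⟨h1, h2, h3, h4⟩
    apply Units.ext
    ext i j
    fin_cases i <;> fin_cases j <;> assumption

theorem mem_centralizer_iff_entries (g x : GL (Fin 2) F) :
    x ∈ Subgroup.centralizer ({g} : Set (GL (Fin 2) F)) ↔
      (x : Matrix (Fin 2) (Fin 2) F) * (g : Matrix (Fin 2) (Fin 2) F) =
        (g : Matrix (Fin 2) (Fin 2) F) * (x : Matrix (Fin 2) (Fin 2) F) := by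
  rw [Subgroup.mem_centralizer_singleton_iff]
  constructor
  · intro h; exact congrArg Units.val h
  · intro h; exact Units.ext h

/-- diagonal unit -/
def diagU (u v : Fˣ) : GL (Fin 2) F :=
  Matrix.GeneralLinearGroup.mkOfDetNeZero !![(u : F), 0; 0, (v : F)] (by
    rw [Matrix.det_fin_two_of]; simp)

theorem part1 [Fintype F] (g : GL (Fin 2) F)
    (h01 : (g : Matrix (Fin 2) (Fin 2) F) 0 1 = 0) (h10 : (g : Matrix (Fin 2) (Fin 2) F) 1 0 = 0)
    (hne : (g : Matrix (Fin 2) (Fin 2) F) 0 0 ≠ (g : Matrix (Fin 2) (Fin 2) F) 1 1) :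
    Nat.card (Subgroup.centralizer ({g} : Set (GL (Fin 2) F))) = (Fintype.card F - 1) ^ 2 := by
  have key : ∀ x : GL (Fin 2) F, x ∈ Subgroup.centralizer ({g} : Set (GL (Fin 2) F)) ↔
      (x : Matrix (Fin 2) (Fin 2) F) 0 1 = 0 ∧ (x : Matrix (Fin 2) (Fin 2) F) 1 0 = 0 := by
    intro x
    rw [mem_centralizer_iff_entries]
    constructor
    · intro h
      have e1 := congrFun (congrFun h 0) 1
      have e2 := congrFun (congrFun h 1) 0
      simp only [Matrix.mul_apply, Fin.sum_univ_two, h01, h10, mul_zero, zero_mul, add_zero, zero_add] at e1 e2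
      have hd : (g : Matrix (Fin 2) (Fin 2) F) 0 0 - (g : Matrix (Fin 2) (Fin 2) F) 1 1 ≠ 0 := sub_ne_zero.mpr hne
      constructor
      · have : (x : Matrix (Fin 2) (Fin 2) F) 0 1 * ((g : Matrix (Fin 2) (Fin 2) F) 0 0 - (g : Matrix (Fin 2) (Fin 2) F) 1 1) = 0 := by
          linear_combination -e1
        rcases mul_eq_zero.mp this with h | h
        · exact h
        · exact absurd h hd
      · have : (x : Matrix (Fin 2) (Fin 2) F) 1 0 * ((g : Matrix (Fin 2) (Fin 2) F) 0 0 - (g : Matrix (Fin 2) (Fin 2) F) 1 1) = 0 := by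
          linear_combination e2
        rcases mul_eq_zero.mp this with h | h
        · exact h
        · exact absurd h hd
    · rintro ⟨e1, e2⟩
      ext i j
      fin_cases i <;> fin_cases j <;>
        simp [Matrix.mul_apply, Fin.sum_univ_two, h01, h10, e1, e2, mul_comm]
  have hunit : ∀ x : GL (Fin 2) F, (x : Matrix (Fin 2) (Fin 2) F) 0 1 = 0 →
      (x : Matrix (Fin 2) (Fin 2) F) 0 0 ≠ 0 ∧ (x : Matrix (Fin 2) (Fin 2) F) 1 1 ≠ 0 := by
    intro x e1
    have hdet : (x : Matrix (Fin 2) (Fin 2) F).det ≠ 0 :=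
      ((Matrix.isUnit_iff_isUnit_det _).mp x.isUnit).ne_zero
    rw [Matrix.det_fin_two, e1, zero_mul, sub_zero] at hdet
    exact ⟨left_ne_zero_of_mul hdet, right_ne_zero_of_mul hdet⟩
  let φ : Fˣ × Fˣ → Subgroup.centralizer ({g} : Set (GL (Fin 2) F)) := fun p =>
    ⟨diagU p.1 p.2, by rw [key]; constructor <;> rfl⟩
  have hφ : Function.Bijective φ := by
    constructor
    · rintro ⟨u, v⟩ ⟨u', v'⟩ h
      have h' := congrArg Subtype.val h
      rw [gl2_ext_iff] at h'
      obtain ⟨a1, -, -, a4⟩ := h'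
      ext
      · exact a1
      · exact a4
    · rintro ⟨x, hx⟩
      obtain ⟨e1, e2⟩ := (key x).mp hx
      obtain ⟨n1, n2⟩ := hunit x e1
      refine ⟨⟨Units.mk0 _ n1, Units.mk0 _ n2⟩, ?_⟩
      apply Subtype.ext
      rw [gl2_ext_iff]
      exact ⟨rfl, e1.symm, e2.symm, rfl⟩
  rw [← Nat.card_congr (Equiv.ofBijective φ hφ), Nat.card_prod, Nat.card_units, pow_two,
    Nat.card_eq_fintype_card]

theorem card_ne_zero_pair [Fintype F] :
    Nat.card {p : F × F // p ≠ 0} = Fintype.card F ^ 2 - 1 := by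
  classical
  rw [Nat.card_eq_fintype_card, Fintype.card_subtype_compl, Fintype.card_prod,
    Fintype.card_subtype_eq, pow_two]

theorem part2 [Fintype F] (g : GL (Fin 2) F)
    (hne : ∀ (c : F) (v : Fin 2 → F), v ≠ 0 → (g : Matrix (Fin 2) (Fin 2) F).mulVec v ≠ c • v) :
    Nat.card (Subgroup.centralizer ({g} : Set (GL (Fin 2) F))) = Fintype.card F ^ 2 - 1 := by
  set G : Matrix (Fin 2) (Fin 2) F := (g : Matrix (Fin 2) (Fin 2) F) with hG
  have hc : G 1 0 ≠ 0 := by
    intro h0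
    apply hne (G 0 0) ![1, 0]
    · intro h
      have := congrFun h 0
      simp at this
    · ext i
      fin_cases i <;> simp [Matrix.mulVec, dotProduct, Fin.sum_univ_two, h0]
  have hdet : ∀ p : F × F, p ≠ 0 → (p.1 • (1 : Matrix (Fin 2) (Fin 2) F) + p.2 • G).det ≠ 0 := by
    rintro ⟨α, β⟩ hp hd
    obtain ⟨v, hv, hv0⟩ := Matrix.exists_mulVec_eq_zero_iff.mpr hd
    rw [Matrix.add_mulVec, Matrix.smul_mulVec, Matrix.smul_mulVec, Matrix.one_mulVec] at hv0
    by_cases hβ : β = 0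
    · simp only [hβ, zero_smul, add_zero] at hv0
      rcases smul_eq_zero.mp hv0 with h | h
      · apply hp; simp [h, hβ]
      · exact hv h
    · apply hne (-α / β) v hv
      have : β • (G *ᵥ v) = -(α • v) := by
        rw [eq_neg_iff_add_eq_zero, add_comm]; exact hv0
      calc G *ᵥ v = β⁻¹ • (β • (G *ᵥ v)) := by rw [smul_smul, inv_mul_cancel₀ hβ, one_smul]
        _ = β⁻¹ • (-(α • v)) := by rw [this]
        _ = (-α / β) • v := by rw [smul_neg, smul_smul, ← neg_smul]; congr 1; field_simp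
  have hcomm : ∀ p : F × F, (p.1 • (1 : Matrix (Fin 2) (Fin 2) F) + p.2 • G) * G =
      G * (p.1 • (1 : Matrix (Fin 2) (Fin 2) F) + p.2 • G) := by
    intro p
    rw [Matrix.add_mul, Matrix.mul_add, Matrix.smul_mul, Matrix.smul_mul, Matrix.mul_smul,
      Matrix.mul_smul, Matrix.one_mul, Matrix.mul_one]
  let ψ : {p : F × F // p ≠ 0} → Subgroup.centralizer ({g} : Set (GL (Fin 2) F)) := fun p =>
    ⟨Matrix.GeneralLinearGroup.mkOfDetNeZero _ (hdet p.1 p.2), by
      rw [mem_centralizer_iff_entries]; exact hcomm p.1⟩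
  have hψ : Function.Bijective ψ := by
    constructor
    · rintro ⟨⟨α, β⟩, hp⟩ ⟨⟨α', β'⟩, hp'⟩ h
      have h' := congrArg Subtype.val h
      rw [gl2_ext_iff] at h'
      obtain ⟨a1, -, a3, -⟩ := h'
      change (α • (1 : Matrix (Fin 2) (Fin 2) F) + β • G) 0 0 = (α' • (1 : Matrix (Fin 2) (Fin 2) F) + β' • G) 0 0 at a1
      change (α • (1 : Matrix (Fin 2) (Fin 2) F) + β • G) 1 0 = (α' • (1 : Matrix (Fin 2) (Fin 2) F) + β' • G) 1 0 at a3
      simp only [Matrix.add_apply, Matrix.smul_apply, Matrix.one_apply_eq, smul_eq_mul, mul_one,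
        Matrix.one_apply_ne (show (1 : Fin 2) ≠ 0 by decide), mul_zero, zero_add] at a1 a3
      have hβ : β = β' := mul_right_cancel₀ hc a3
      subst hβ
      have hα : α = α' := by linear_combination a1
      subst hα
      rfl
    · rintro ⟨x, hx⟩
      rw [mem_centralizer_iff_entries] at hx
      set X : Matrix (Fin 2) (Fin 2) F := (x : Matrix (Fin 2) (Fin 2) F) with hX
      have e00 := congrFun (congrFun hx 0) 0
      have e10 := congrFun (congrFun hx 1) 0
      simp only [Matrix.mul_apply, Fin.sum_univ_two] at e00 e10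
      set β := X 1 0 / G 1 0 with hβ
      set α := X 0 0 - β * G 0 0 with hα
      have hX01 : X 0 1 = β * G 0 1 := by
        rw [hβ]; field_simp; linear_combination e00
      have hX11 : X 1 1 = α + β * G 1 1 := by
        rw [hα, hβ]; field_simp; linear_combination e10
      have hX10 : X 1 0 = β * G 1 0 := by
        rw [hβ]; field_simp
      have hX00 : X 0 0 = α + β * G 0 0 := by rw [hα]; ring
      have hp : ((α, β) : F × F) ≠ 0 := by
        intro h
        have hα0 : α = 0 := congrArg Prod.fst h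
        have hβ0 : β = 0 := congrArg Prod.snd h
        have hdx : X.det ≠ 0 := ((Matrix.isUnit_iff_isUnit_det _).mp x.isUnit).ne_zero
        apply hdx
        rw [Matrix.det_fin_two, hX00, hX01, hX10, hX11, hα0, hβ0]; ring
      refine ⟨⟨(α, β), hp⟩, ?_⟩
      apply Subtype.ext
      rw [gl2_ext_iff]
      change (α • (1 : Matrix (Fin 2) (Fin 2) F) + β • G) 0 0 = X 0 0 ∧
        (α • (1 : Matrix (Fin 2) (Fin 2) F) + β • G) 0 1 = X 0 1 ∧
        (α • (1 : Matrix (Fin 2) (Fin 2) F) + β • G) 1 0 = X 1 0 ∧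
        (α • (1 : Matrix (Fin 2) (Fin 2) F) + β • G) 1 1 = X 1 1
      simp only [Matrix.add_apply, Matrix.smul_apply, Matrix.one_apply_eq, smul_eq_mul, mul_one,
        Matrix.one_apply_ne (show (1 : Fin 2) ≠ 0 by decide),
        Matrix.one_apply_ne (show (0 : Fin 2) ≠ 1 by decide), mul_zero, zero_add]
      exact ⟨hX00.symm, hX01.symm, hX10.symm, hX11.symm⟩
  rw [← Nat.card_congr (Equiv.ofBijective ψ hψ), card_ne_zero_pair]

theorem result {F : Type*} [Field F] [Fintype F] (g : Matrix.GeneralLinearGroup (Fin 2) F) :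
    ((g : Matrix (Fin 2) (Fin 2) F) 0 1 = 0 → (g : Matrix (Fin 2) (Fin 2) F) 1 0 = 0 → (g : Matrix (Fin 2) (Fin 2) F) 0 0 ≠ (g : Matrix (Fin 2) (Fin 2) F) 1 1 →
      Nat.card (Subgroup.centralizer ({g} : Set (Matrix.GeneralLinearGroup (Fin 2) F))) = (Fintype.card F - 1) ^ 2) ∧
    ((∀ (c : F) (v : Fin 2 → F), v ≠ 0 → (g : Matrix (Fin 2) (Fin 2) F).mulVec v ≠ c • v) →
      Nat.card (Subgroup.centralizer ({g} : Set (Matrix.GeneralLinearGroup (Fin 2) F))) = Fintype.card F ^ 2 - 1) := by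
  exact ⟨part1 g, part2 g⟩

end Cfsg.Agent.S2303
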