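import Cfsg.Statements.S2307
import Cfsg.Agent.Lib.Helper4.SL2Mackey

set_option autoImplicit false
open Cfsg

namespace Cfsg.Agent.S2307

open Cfsg.Agent.Lib.Helper4 Cfsg.Agent.Lib.Helper6 Matrix

/-- Over a finite field F with q elements, q odd, let α be the multiplicative character of F of order 2. The character of SL₂ induced from the linear character b ↦ α(b₁₁) of the upper triangular subgroup is the sum of two distinct irreducible characters, each of degree (q + 1)/2, which are conjugate under GL₂: some fixed element of GL₂ conjugates the one into the other. -/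
theorem result {F : Type*} [Field F] [Fintype F] [DecidableEq F] (hodd : Odd (Fintype.card F)) (α : MulChar F ℂ)
    (hα : α ^ 2 = 1) (hα1 : α ≠ 1) :
    ∃ χ₁ χ₂ : Matrix.SpecialLinearGroup (Fin 2) F → ℂ, Cfsg.IsIrrCharacter (Matrix.SpecialLinearGroup (Fin 2) F) χ₁ ∧ Cfsg.IsIrrCharacter (Matrix.SpecialLinearGroup (Fin 2) F) χ₂ ∧ χ₁ ≠ χ₂ ∧
      Cfsg.indFun ((Cfsg.upperTriangularGL 2 F).comap Matrix.SpecialLinearGroup.toGL) (fun b => α (((b : Matrix.SpecialLinearGroup (Fin 2) F) : Matrix (Fin 2) (Fin 2) F) 0 0)) = χ₁ + χ₂ ∧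
      χ₁ 1 = (((Fintype.card F + 1) / 2 : ℕ) : ℂ) ∧ χ₂ 1 = (((Fintype.card F + 1) / 2 : ℕ) : ℂ) ∧
      ∃ x : Matrix.GeneralLinearGroup (Fin 2) F, ∀ g h : Matrix.SpecialLinearGroup (Fin 2) F,
        Matrix.SpecialLinearGroup.toGL h = x * Matrix.SpecialLinearGroup.toGL g * x⁻¹ → χ₂ h = χ₁ g := by
  have instG : Fintype (GL (Fin 2) F) := Fintype.ofFinite _
  obtain ⟨k, hk⟩ := hodd
  have hfix : lamGL2 α * psGL2 α 1 = psGL2 α 1 := by
    rw [lam_mul_ps, mul_one, ← sq, hα, Cfsg.Agent.S2305.psGL2_swap]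
  rcases resSL_cases (Cfsg.Agent.S2304.isIrr_psGL2 α 1 hα1) with ⟨-, h⟩ |
    ⟨-, -, -, -, ψ₁, ψ₂, hψ₁, hψ₂, hne, hsum, hc1, hc2⟩
  · exact absurd (h α hfix) hα1
  · have hd1 : 2 * ψ₁ 1 = (Fintype.card F : ℂ) + 1 := by
      rw [half_degree hsum hc1, psGL2_one]
    have hd2 : 2 * ψ₂ 1 = (Fintype.card F : ℂ) + 1 := by
      rw [half_degree (by rw [hsum, add_comm]) hc2, psGL2_one]
    have hcast : (((Fintype.card F + 1) / 2 : ℕ) : ℂ) = ((Fintype.card F : ℂ) + 1) / 2 := by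
      have : (Fintype.card F + 1) / 2 = k + 1 := by omega
      rw [this, hk]
      push_cast
      ring
    refine ⟨ψ₁, ψ₂, hψ₁, hψ₂, hne, ?_, ?_, ?_, hc1⟩
    · have h5 := resSL_ps_eq_psSL2 (F := F) α
      unfold psSL2 at h5
      rw [← h5, hsum]
    · rw [hcast]
      linear_combination (1 / 2 : ℂ) * hd1
    · rw [hcast]
      linear_combination (1 / 2 : ℂ) * hd2

end Cfsg.Agent.S2307
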