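import Cfsg.Statements.S2309
import Cfsg.Agent.Lib.Helper4.GL2Values

set_option autoImplicit false
open Cfsg

namespace Cfsg.Agent.S2309

open Cfsg.Agent.Lib.Helper4 Cfsg.Agent.Lib.Helper6
open scoped MatrixGroups

theorem result {F : Type*} [Field F] [Fintype F] (χ : Matrix.GeneralLinearGroup (Fin 2) F → ℂ) (hχ : Cfsg.IsIrrCharacter (Matrix.GeneralLinearGroup (Fin 2) F) χ) (g : Matrix.GeneralLinearGroup (Fin 2) F) :
    (χ 1 = (Fintype.card F : ℂ) - 1 → (g : Matrix (Fin 2) (Fin 2) F) 0 1 = 0 → (g : Matrix (Fin 2) (Fin 2) F) 1 0 = 0 → (g : Matrix (Fin 2) (Fin 2) F) 0 0 ≠ (g : Matrix (Fin 2) (Fin 2) F) 1 1 → χ g = 0) ∧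
    (χ 1 = (Fintype.card F : ℂ) + 1 → (∀ (c : F) (v : Fin 2 → F), v ≠ 0 → (g : Matrix (Fin 2) (Fin 2) F).mulVec v ≠ c • v) → χ g = 0) := by
  classical
  have instG : Fintype (GL (Fin 2) F) := Fintype.ofFinite _
  obtain ⟨hcusp, -⟩ := cusp_main (F := F)
  have hq2 : 2 ≤ Fintype.card F := Fintype.one_lt_card
  have hqc : ((Fintype.card F - 1 : ℕ) : ℂ) = (Fintype.card F : ℂ) - 1 := by
    rw [Nat.cast_sub (by omega)]; simp
  constructor
  · intro h1 h01 h10 hne
    obtain ⟨a, d, rfl, ha, hd⟩ := eq_mkGL_of_diag g h01 h10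
    have had : a ≠ d := by
      rintro rfl
      exact hne (ha.symm.trans hd)
    -- then `q ≥ 3`
    have hq3 : 3 ≤ Fintype.card F := by
      by_contra hlt
      have hq : Fintype.card F = 2 := by omega
      have : Fintype.card Fˣ = 1 := by rw [Fintype.card_units, hq]
      have hsub : Subsingleton Fˣ := Fintype.card_le_one_iff_subsingleton.mp this.le
      exact had (Subsingleton.elim a d)
    have hn : ((Fintype.card F : ℂ) - 1 ≠ 1) ∧ ((Fintype.card F : ℂ) - 1 ≠ (Fintype.card F : ℂ)) ∧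
        ((Fintype.card F : ℂ) - 1 ≠ (Fintype.card F : ℂ) + 1) := by
      rw [← hqc]
      refine ⟨?_, ?_, ?_⟩
      · intro h
        have : Fintype.card F - 1 = 1 := by exact_mod_cast h
        omega
      · intro h
        have : Fintype.card F - 1 = Fintype.card F := by exact_mod_cast h
        omega
      · intro h
        have : Fintype.card F - 1 = Fintype.card F + 1 := by exact_mod_cast h
        omega
    rcases irr_cases χ hχ with ⟨α, rfl⟩ | ⟨α, rfl⟩ | ⟨α, β, -, rfl⟩ | h
    · rw [lamGL2_one] at h1; exact absurd h1.symm hn.1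
    · rw [stGL2_one] at h1; exact absurd h1.symm hn.2.1
    · rw [psGL2_one] at h1; exact absurd h1.symm hn.2.2
    · exact nonPS_diag_eq_zero χ (IsIrrCharacter.isClassFunction hχ) h a d had
  · intro h1 hell
    have hn : ((Fintype.card F : ℂ) + 1 ≠ 1) ∧ ((Fintype.card F : ℂ) + 1 ≠ (Fintype.card F : ℂ)) ∧
        ((Fintype.card F : ℂ) - 1 ≠ (Fintype.card F : ℂ) + 1) := by
      refine ⟨?_, ?_, ?_⟩
      · intro h
        have : Fintype.card F + 1 = 1 := by exact_mod_cast h
        omega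
      · intro h
        have : Fintype.card F + 1 = Fintype.card F := by exact_mod_cast h
        omega
      · rw [← hqc]
        intro h
        have : Fintype.card F - 1 = Fintype.card F + 1 := by exact_mod_cast h
        omega
    rcases irr_cases χ hχ with ⟨α, rfl⟩ | ⟨α, rfl⟩ | ⟨α, β, -, rfl⟩ | h
    · rw [lamGL2_one] at h1; exact absurd h1.symm hn.1
    · rw [stGL2_one] at h1; exact absurd h1.symm hn.2.1
    · exact psGL2_elliptic α β g hell
    · have h2 := (hcusp ⟨χ, hχ⟩ h).1
      simp only at h2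
      rw [h2] at h1
      exact absurd h1 hn.2.2

end Cfsg.Agent.S2309
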