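import Cfsg.Statements.S2310
import Cfsg.Agent.Lib.Helper4.GL2Values
import Cfsg.Agent.S2298

set_option autoImplicit false
open Cfsg

namespace Cfsg.Agent.S2310

open Cfsg.Agent.Lib.Helper4 Cfsg.Agent.Lib.Helper6
open scoped MatrixGroups

theorem result {F : Type*} [Field F] [Fintype F] (hq : 3 ≤ Fintype.card F) (χ : Matrix.GeneralLinearGroup (Fin 2) F → ℂ) (hχ : Cfsg.IsIrrCharacter (Matrix.GeneralLinearGroup (Fin 2) F) χ)
    (u : Matrix.GeneralLinearGroup (Fin 2) F) (hu : (u : Matrix (Fin 2) (Fin 2) F) = !![1, 1; 0, 1]) :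
    (χ 1 = 1 → χ u = 1) ∧ (χ 1 = (Fintype.card F : ℂ) + 1 → χ u = 1) ∧
    (χ 1 = (Fintype.card F : ℂ) - 1 → χ u = -1) ∧ (χ 1 = (Fintype.card F : ℂ) → χ u = 0) := by
  classical
  have instG : Fintype (GL (Fin 2) F) := Fintype.ofFinite _
  obtain ⟨hcusp, -⟩ := cusp_main (F := F)
  obtain ⟨n1, n2, n3, n4, n5, n6⟩ := Cfsg.Agent.S2298.cast_ne_aux (Fintype.card F) hq
  have hu' : u = mkGL 1 1 1 := by
    rw [gl2_ext_iff, hu, mkGL_coe]
    simp
  subst hu'
  rcases irr_cases χ hχ with ⟨α, rfl⟩ | ⟨α, rfl⟩ | ⟨α, β, -, rfl⟩ | h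
  · refine ⟨?_, ?_, ?_, ?_⟩
    · intro _
      rw [lamGL2_mkGL]; simp
    · intro h1; rw [lamGL2_one] at h1; exact absurd h1.symm n2
    · intro h1; rw [lamGL2_one] at h1; exact absurd h1.symm n3
    · intro h1; rw [lamGL2_one] at h1; exact absurd h1.symm n1
  · refine ⟨?_, ?_, ?_, ?_⟩
    · intro h1; rw [stGL2_one] at h1; exact absurd h1 n1
    · intro h1; rw [stGL2_one] at h1; exact absurd h1.symm n4
    · intro h1; rw [stGL2_one] at h1; exact absurd h1.symm n5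
    · intro _; exact stGL2_unip α
  · refine ⟨?_, ?_, ?_, ?_⟩
    · intro h1; rw [psGL2_one] at h1; exact absurd h1 n2
    · intro _; exact psGL2_unip α β
    · intro h1; rw [psGL2_one] at h1; exact absurd h1.symm n6
    · intro h1; rw [psGL2_one] at h1; exact absurd h1 n4
  · have h2 := hcusp ⟨χ, hχ⟩ h
    simp only at h2
    refine ⟨?_, ?_, ?_, ?_⟩
    · intro h1; rw [h2.1] at h1; exact absurd h1 n3
    · intro h1; rw [h2.1] at h1; exact absurd h1 n6
    · intro _; exact h2.2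
    · intro h1; rw [h2.1] at h1; exact absurd h1 n5

end Cfsg.Agent.S2310
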