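import Cfsg.Statements.S2316
import Cfsg.Agent.Lib.Helper2.SpUSum
import Cfsg.Agent.Lib.Helper4.SpUG2c
import Cfsg.Agent.Lib.Helper5.SpUG1
import Cfsg.Agent.Lib.Helper7.SpUP5
import Cfsg.Agent.Lib.Helper6.SpUG4
import Cfsg.Agent.Lib.Helper6.SpUP4
import Cfsg.Agent.Lib.Helper9.SpUL2
import Cfsg.Agent.Lib.Helper3.SpUnipAlg
import Cfsg.Agent.Lib.Helper4.SpUnip5
import Cfsg.Agent.Lib.Helper4.UnipCount3
import Cfsg.Agent.Lib.Helper5.SympCard

set_option autoImplicit false
set_option linter.style.haveILetI false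
open Cfsg

namespace Cfsg.Agent.S2316

open Matrix Cfsg.Agent.Lib.Helper2.SpU Cfsg.Agent.Lib.Helper2.SpUSum
  Cfsg.Agent.Lib.Helper7.SpUP5 Cfsg.Agent.Lib.Helper6.SpUG4 Cfsg.Agent.Lib.Helper6.SpUP4
  Cfsg.Agent.Lib.Helper9.SpUL2 Cfsg.Agent.Lib.Helper3.SpUnipAlg

theorem even_nd {F : Type*} [Field F] (D : FitData F) (m : ℕ) (A : Mat F m) (hA : A ∈ D.X m) :
    ∃ k : ℕ, k ≤ m ∧ nd (D.φ m A) = 2 * k :=
  Cfsg.Agent.Lib.Helper4.SpUG2c.even_nd
    (fun A C hC hadj => Cfsg.Agent.Lib.Helper5.SpUG1.fitSp_even A C hC hadj) D m A hA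

theorem card_fit {F : Type*} [Field F] [Fintype F] (D : FitData F) (k l : ℕ) :
    Nat.card {A : Mat F (k + l) // A ∈ D.X (k + l) ∧ nd (D.φ (k + l) A) = 2 * k} *
        (Nat.card (Sp F k) * Nat.card (Sp F l)) =
      Nat.card (Sp F (k + l)) *
        (Nat.card {A : Mat F k // A ∈ D.X k ∧ IsNilpotent (D.φ k A)} *
          Nat.card {A : Mat F l // A ∈ D.X l ∧ IsUnit (D.φ l A)}) :=
  Cfsg.Agent.Lib.Helper4.SpUG2c.card_fit
    (fun k l A C hC hadj hnd => Cfsg.Agent.Lib.Helper5.SpUG1.fitSp_block k l A C hC hadj hnd) D k l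

theorem gl_eq {F : Type*} [Field F] [Fintype F] (n : ℕ) :
    Nat.card (GL (Fin n) F) = gl (Fintype.card F) n := by
  rw [Matrix.card_GL_field]
  unfold gl
  rw [Finset.prod_range]

theorem nil_eq {F : Type*} [Field F] [Fintype F] (n : ℕ) :
    Nat.card {N : Matrix (Fin n) (Fin n) F // IsNilpotent N} = nil (Fintype.card F) n := by
  rw [Cfsg.Agent.Lib.Helper4.UnipCount.card_nilpotent]
  unfold nil
  congr 1
  rcases n with _ | n
  · rfl
  · rw [Nat.add_sub_cancel, pow_two, ← Nat.mul_sub_one, Nat.add_sub_cancel]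

theorem sp_eq {F : Type*} [Field F] [Fintype F] (n : ℕ) :
    Nat.card (Sp F n) = sp (Fintype.card F) n :=
  Cfsg.Agent.Lib.Helper5.SympCard.card_symplecticGroup n

/-- Steinberg's count of unipotent elements for the symplectic group: over a finite field with q elements of characteristic p, the number of elements of Sp_{2m} of p-power order is q^(2m²). -/
theorem result {F : Type*} [Field F] [Fintype F] (p : ℕ) [Fact p.Prime] [CharP F p] (m : ℕ) :
    Nat.card {g : ↥(Matrix.symplecticGroup (Fin m) F) // ∃ k : ℕ, orderOf g = p ^ k} = Fintype.card F ^ (2 * m ^ 2) := by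
  classical
  have hq : 2 ≤ Fintype.card F := Fintype.one_lt_card
  have hspos : ∀ n : ℕ, (0 : ℚ) < (Nat.card (Sp F n) : ℚ) := by
    intro n
    exact_mod_cast Nat.card_pos
  have hgpos : ∀ n : ℕ, (0 : ℚ) < (Nat.card (GL (Fin n) F) : ℚ) := by
    intro n
    exact_mod_cast Nat.card_pos
  have h1 : ∀ m, ∑ kl ∈ Finset.HasAntidiagonal.antidiagonal m,
      ((aN (spData F) kl.1 : ℚ) / sp (Fintype.card F) kl.1) *
        ((bN (spData F) kl.2 : ℚ) / sp (Fintype.card F) kl.2) = 1 := by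
    intro m
    have h := ratio_sum (spData F) (even_nd (spData F)) (card_fit (spData F)) m
    simp only [sp_eq] at h
    rw [← h]
    have hc : Nat.card {A : Mat F m // A ∈ (spData F).X m} = sp (Fintype.card F) m := by
      rw [← sp_eq]
      rfl
    rw [hc]
    have := hspos m
    rw [sp_eq] at this
    exact div_self this.ne'
  have h2 : ∀ m, ∑ kl ∈ Finset.HasAntidiagonal.antidiagonal m,
      ((nil (Fintype.card F) kl.1 : ℚ) / gl (Fintype.card F) kl.1) *
        ((bN (spData F) kl.2 : ℚ) / sp (Fintype.card F) kl.2) =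
          ((Fintype.card F : ℕ) : ℚ) ^ (2 * m ^ 2 + m) / sp (Fintype.card F) m := by
    intro m
    have h := ratio_sum (affData F) (even_nd (affData F)) (card_fit (affData F)) m
    simp only [sp_eq] at h
    have hc : Nat.card {A : Mat F m // A ∈ (affData F).X m} =
        Fintype.card F ^ (2 * m ^ 2 + m) := card_Aff m
    rw [hc, Nat.cast_pow] at h
    rw [h]
    apply Finset.sum_congr rfl
    intro kl _
    have hb : bN (affData F) kl.2 = bN (spData F) kl.2 := (card_cayley kl.2).symm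
    rw [hb]
    congr 1
    have ha := card_nilAff (F := F) kl.1
    rw [gl_eq, nil_eq, sp_eq] at ha
    have ha' : (aN (affData F) kl.1 : ℚ) * (gl (Fintype.card F) kl.1 : ℚ) =
        (sp (Fintype.card F) kl.1 : ℚ) * (nil (Fintype.card F) kl.1 : ℚ) := by
      exact_mod_cast ha
    have hs := hspos kl.1
    have hg := hgpos kl.1
    rw [sp_eq] at hs
    rw [gl_eq] at hg
    rw [div_eq_div_iff hg.ne' hs.ne']
    linear_combination -ha'
  have hu := unip_eq (Fintype.card F) hq (aN (spData F)) (bN (spData F)) h1 h2 m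
  rw [Cfsg.Agent.Lib.Helper4.SpUnip5.card_sp_ppow p, ← hu]
  exact Nat.card_congr (Equiv.subtypeSubtypeEquivSubtypeInter
    (fun A : Mat F m => A ∈ Matrix.symplecticGroup (Fin m) F) (fun A => IsNilpotent (A - 1)))

end Cfsg.Agent.S2316
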