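import Cfsg.Statements.S2318
import Cfsg.Agent.Lib.Helper9.ChFin
import Cfsg.Agent.Lib.Helper9.ChC2
import Cfsg.Agent.Lib.Helper7.ChR4
import Cfsg.Agent.Lib.Helper7.ChR5
import Cfsg.Agent.Lib.Helper1.ChevHyp
import Cfsg.Agent.Lib.Helper8.ChevRootChar2

set_option autoImplicit false
open Cfsg

namespace Cfsg.Agent.S2318

open Cfsg.Lie Cfsg.Agent.Lib.Helper5.ChevStruct Cfsg.Agent.Lib.Helper5.ChevSym
  Cfsg.Agent.Lib.Helper5.UniTri Cfsg.Agent.Lib.Helper7.ChR1
  Cfsg.Agent.Lib.Helper7.ChR2 Cfsg.Agent.Lib.Helper7.ChR4 Cfsg.Agent.Lib.Helper1.GGCore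
  Cfsg.Agent.Lib.Helper1.ChevHyp

/-- `H` itself is an extended torus. -/
theorem extTorus_diag {F : Type*} [Field F] (D : ChevalleyDatum) (hD : D ∈ Seven) :
    ExtTorus (F := F) D hD (D.diagonalSubgroup F) where
  hH := le_refl _
  hdiag := diagonalSubgroup_le_diagSub D hD
  hroot := fun a ha r t => diagonal_conj_xGL D hD a ha r t
  hn := fun i hi a ha =>
    conj_n_diag_mem D hD _ _ ((checkRows_spec D (checkRows_all D hD) i hi).2.1)
      (nGL_val D hD i) a ha

/-- Part III input: `GGCore.Hyp` on `↥(D.group F)` itself (transport of helper1's `hyp_Gam` for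
`T = H` along `D.group F ⊔ H = D.group F`). -/
theorem exists_hyp_group {F : Type*} [Field F] [Fintype F] (D : ChevalleyDatum) (hD : D ∈ Seven)
    [Fintype ↥(D.group F)] :
    ∃ ψ : ↥((D.posUnipotent F).subgroupOf (D.group F)) →* ℂˣ,
      Hyp ((D.borelSubgroup F).subgroupOf (D.group F))
        ((D.posUnipotent F).subgroupOf (D.group F)) ψ := by
  obtain ⟨ψ0, hψ0⟩ := Cfsg.Agent.Lib.Helper8.ChevPsi.exists_addChar_ne_one (F := F)
  have hTH := extTorus_diag (F := F) D hD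
  have hP : ∀ (K : Subgroup (GL D.Idx F)), Gam D (D.diagonalSubgroup F) = K →
      ∀ [Fintype ↥K], ∃ ψ : ↥((D.posUnipotent F).subgroupOf K) →* ℂˣ,
        Hyp ((D.borelSubgroup F).subgroupOf K) ((D.posUnipotent F).subgroupOf K) ψ := by
    intro K hK
    subst hK
    intro inst
    exact ⟨psiG D hD (D.diagonalSubgroup F) ψ0, hyp_Gam hTH ψ0 hψ0⟩
  exact hP (D.group F) (sup_eq_left.mpr (diagonal_le_group D hD))


/-- In a Chevalley group of type G₂, B₂, D₄, F₄, E₆, E₇ or E₈ over a finite field of characteristic p (for types G₂ and B₂ the field is assumed to have at least 3 elements, so that the group is perfect), the Steinberg character is the only irreducible complex character whose degree is divisible by the full power of p dividing the group order (the only irreducible character of p-defect zero). -/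
theorem result {F : Type*} [Field F] [Fintype F] (p : ℕ) [Fact p.Prime] [CharP F p] (D : Cfsg.Lie.ChevalleyDatum) (hD : D ∈ [Cfsg.Lie.chevG2, Cfsg.Lie.chevB2, Cfsg.Lie.chevD4, Cfsg.Lie.chevF4, Cfsg.Lie.chevE6, Cfsg.Lie.chevE7, Cfsg.Lie.chevE8]) (hq : (D = Cfsg.Lie.chevG2 ∨ D = Cfsg.Lie.chevB2) → 3 ≤ Fintype.card F)
    (χ : ↥(D.group F) → ℂ) (hχ : Cfsg.IsIrrCharacter ↥(D.group F) χ)
    (hdeg : ∃ d : ℕ, χ 1 = (d : ℂ) ∧ p ^ (Nat.card ↥(D.group F)).factorization p ∣ d) :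
    χ = D.steinbergCharacter F := by
  classical
  have hfinGL : Finite (GL D.Idx F) := Cfsg.Agent.Lib.Helper7.ChR5.finite_GL D
  have : Fintype ↥(Gam D (That D F)) := Fintype.ofFinite _
  have : Fintype ↥(D.group F) := Fintype.ofFinite _
  have : Fintype ↥((D.borelSubgroup F).subgroupOf (D.group F)) := Fintype.ofFinite _
  have : Fintype ↥((D.posUnipotent F).subgroupOf (D.group F)) := Fintype.ofFinite _
  have : Fintype ↥(Cfsg.Agent.Lib.Helper7.ChR1.Bhat D (That D F)) := Fintype.ofFinite _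
  have : Fintype ↥((Cfsg.Agent.Lib.Helper7.ChR1.Bhat D (That D F)).subgroupOf
      (Gam D (That D F))) := Fintype.ofFinite _
  have : Fintype ↥((D.posUnipotent F).subgroupOf (Gam D (That D F))) := Fintype.ofFinite _
  have hT := extTorus_That (F := F) D hD
  have hPΓ : ∀ i, i < D.rank → Phat D hD (That D F) i ≤ Gam D (That D F) :=
    fun i _ => Phat_le_sup D hD _ i
  have hBΓ : Cfsg.Agent.Lib.Helper7.ChR1.Bhat D (That D F) ≤ Gam D (That D F) :=
    Bhat_le_sup D hD _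
  have hnorm : ∀ g ∈ Gam D (That D F), ∀ x ∈ D.group F, g * x * g⁻¹ ∈ D.group F :=
    Cfsg.Agent.Lib.Helper7.ChR5.sup_That_conj_group D hD
  obtain ⟨ψ0, hψ0⟩ := Cfsg.Agent.Lib.Helper8.ChevPsi.exists_addChar_ne_one (F := F)
  have Ih := hyp_Gam hT ψ0 hψ0
  obtain ⟨ψ, IG⟩ := exists_hyp_group (F := F) D hD
  have hm2 := Cfsg.Agent.Lib.Helper8.ChevRootChar.hm2 (F := F) D hD
  have hvan : ∀ χ' : IrrCharacter ↥(Gam D (That D F)),
      Nat.card ↥(D.posUnipotent F) ∣ charDegree χ'.1 →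
      ∀ u ∈ (D.posUnipotent F).subgroupOf (Gam D (That D F)), u ≠ 1 → χ'.1 u = 0 :=
    fun χ' hd => Cfsg.Agent.Lib.Helper9.ChC2.vanish_Gam p hT χ' hd
  exact Cfsg.Agent.Lib.Helper9.ChFin.s2318_core p D hD (Gam D (That D F))
    (Cfsg.Agent.Lib.Helper7.ChR1.Bhat D (That D F)) le_sup_left hnorm hT.borel_le_Bhat hBΓ
    (fun χ' hd => part_one_of D hD (Gam D (That D F)) hPΓ hBΓ Ih hm2 χ' (hvan χ' hd))
    ψ IG χ hχ hdeg

end Cfsg.Agent.S2318
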