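import Cfsg.Statements.S2320
import Cfsg.Agent.Lib.Helper4.GL2Values

set_option autoImplicit false
open Cfsg

namespace Cfsg.Agent.S2320

open Cfsg.Agent.Lib.Helper4 Cfsg.Agent.Lib.Helper6
open scoped MatrixGroups

theorem mulChar_unit_norm {F : Type*} [Field F] [Fintype F] (α : MulChar F ℂ) (a : Fˣ) :
    ‖α (a : F)‖ = 1 := by
  refine (pow_eq_one_iff_of_nonneg (norm_nonneg _) (Nat.card_pos (α := Fˣ)).ne').mp ?_
  rw [← norm_pow, ← map_pow, ← Units.val_pow_eq_pow_val, pow_card_eq_one', Units.val_one, map_one,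
    norm_one]

theorem result {F : Type*} [Field F] [Fintype F] (χ : Matrix.GeneralLinearGroup (Fin 2) F → ℂ) (hχ : Cfsg.IsIrrCharacter (Matrix.GeneralLinearGroup (Fin 2) F) χ) (hdeg : χ 1 = (Fintype.card F : ℂ)) (g : Matrix.GeneralLinearGroup (Fin 2) F) :
    ((g : Matrix (Fin 2) (Fin 2) F) 0 1 = 0 → (g : Matrix (Fin 2) (Fin 2) F) 1 0 = 0 → (g : Matrix (Fin 2) (Fin 2) F) 0 0 ≠ (g : Matrix (Fin 2) (Fin 2) F) 1 1 → ‖χ g‖ = 1) ∧
    ((∀ (c : F) (v : Fin 2 → F), v ≠ 0 → (g : Matrix (Fin 2) (Fin 2) F).mulVec v ≠ c • v) → ‖χ g‖ = 1) := by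
  classical
  have instG : Fintype (GL (Fin 2) F) := Fintype.ofFinite _
  obtain ⟨hcusp, -⟩ := cusp_main (F := F)
  have hq2 : 2 ≤ Fintype.card F := Fintype.one_lt_card
  have hqc : ((Fintype.card F - 1 : ℕ) : ℂ) = (Fintype.card F : ℂ) - 1 := by
    rw [Nat.cast_sub (by omega)]; simp
  have hn : ((Fintype.card F : ℂ) ≠ 1) ∧ ((Fintype.card F : ℂ) + 1 ≠ (Fintype.card F : ℂ)) ∧
      ((Fintype.card F : ℂ) - 1 ≠ (Fintype.card F : ℂ)) := by
    refine ⟨?_, ?_, ?_⟩
    · intro h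
      have : Fintype.card F = 1 := by exact_mod_cast h
      omega
    · intro h
      have : Fintype.card F + 1 = Fintype.card F := by exact_mod_cast h
      omega
    · rw [← hqc]
      intro h
      have : Fintype.card F - 1 = Fintype.card F := by exact_mod_cast h
      omega
  have hst : ∃ α : MulChar F ℂ, χ = stGL2 α := by
    rcases irr_cases χ hχ with ⟨α, rfl⟩ | ⟨α, rfl⟩ | ⟨α, β, -, rfl⟩ | h
    · rw [lamGL2_one] at hdeg; exact absurd hdeg.symm hn.1
    · exact ⟨α, rfl⟩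
    · rw [psGL2_one] at hdeg; exact absurd hdeg hn.2.1
    · have h2 := (hcusp ⟨χ, hχ⟩ h).1
      simp only at h2
      rw [h2] at hdeg
      exact absurd hdeg hn.2.2
  obtain ⟨α, rfl⟩ := hst
  constructor
  · intro h01 h10 hne
    obtain ⟨a, d, rfl, ha, hd⟩ := eq_mkGL_of_diag g h01 h10
    have had : a ≠ d := by
      rintro rfl
      exact hne (ha.symm.trans hd)
    rw [stGL2_diag α a d had, norm_mul, mulChar_unit_norm, mulChar_unit_norm, one_mul]
  · intro hell
    rw [stGL2_elliptic α g hell, norm_neg]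
    unfold lamGL2
    have hdet : IsUnit (g : Matrix (Fin 2) (Fin 2) F).det :=
      (Matrix.isUnit_iff_isUnit_det _).mp g.isUnit
    have := mulChar_unit_norm α hdet.unit
    rwa [IsUnit.unit_spec] at this

end Cfsg.Agent.S2320
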