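import Cfsg.Statements.S2322
import Cfsg.Agent.Lib.Helper4.SL2Q3

set_option autoImplicit false
open Cfsg

namespace Cfsg.Agent.S2322

open Cfsg.Agent.Lib.Helper4 Cfsg.Agent.Lib.Helper6 Matrix

theorem two_ne_zero_of_odd {F : Type*} [Field F] [Fintype F] (hodd : Odd (Fintype.card F)) :
    (2 : F) ≠ 0 := by
  have hchar : ringChar F ≠ 2 := by
    intro h
    have : Fintype.card F % 2 = 0 := FiniteField.even_card_iff_char_two.mp h
    have h2 := Nat.odd_iff.mp hodd
    omega
  exact Ring.two_ne_zero hchar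

/-- Over a finite field F with q elements, q odd: every irreducible complex character of SL₂ of degree q − 1 or (q − 1)/2 vanishes at every diagonal matrix whose diagonal entry a has a² ≠ 1, and every irreducible complex character of degree q + 1 or (q + 1)/2 vanishes at every element with no eigenvector in F². -/
theorem result {F : Type*} [Field F] [Fintype F] (hodd : Odd (Fintype.card F)) (χ : Matrix.SpecialLinearGroup (Fin 2) F → ℂ) (hχ : Cfsg.IsIrrCharacter (Matrix.SpecialLinearGroup (Fin 2) F) χ) (g : Matrix.SpecialLinearGroup (Fin 2) F) :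
    ((χ 1 = (Fintype.card F : ℂ) - 1 ∨ χ 1 = (((Fintype.card F - 1) / 2 : ℕ) : ℂ)) →
      (g : Matrix (Fin 2) (Fin 2) F) 0 1 = 0 → (g : Matrix (Fin 2) (Fin 2) F) 1 0 = 0 → (g : Matrix (Fin 2) (Fin 2) F) 0 0 ^ 2 ≠ 1 → χ g = 0) ∧
    ((χ 1 = (Fintype.card F : ℂ) + 1 ∨ χ 1 = (((Fintype.card F + 1) / 2 : ℕ) : ℂ)) →
      (∀ (c : F) (v : Fin 2 → F), v ≠ 0 → (g : Matrix (Fin 2) (Fin 2) F).mulVec v ≠ c • v) → χ g = 0) := by
  classical
  have instG : Fintype (GL (Fin 2) F) := Fintype.ofFinite _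
  have instS : Fintype (Matrix.SpecialLinearGroup (Fin 2) F) := Fintype.ofFinite _
  have hq1 : 1 ≤ Fintype.card F := Fintype.card_pos
  have hq2 : 1 < Fintype.card F := Fintype.one_lt_card
  have h2 : (2 : F) ≠ 0 := two_ne_zero_of_odd hodd
  obtain ⟨k, hk⟩ := hodd
  have hk1 : 1 ≤ k := by omega
  set ψ : Cfsg.IrrCharacter (Matrix.SpecialLinearGroup (Fin 2) F) := ⟨χ, hχ⟩ with hψ
  have hψχ : (ψ : Matrix.SpecialLinearGroup (Fin 2) F → ℂ) = χ := rfl
  constructor
  · intro hdeg h01 h10 hsq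
    -- `q ≥ 5`
    have hk2 : 2 ≤ k := by
      by_contra hlt
      have hk' : k = 1 := by omega
      apply hsq
      have hdet := g.2
      rw [Matrix.det_fin_two, h01, zero_mul, sub_zero] at hdet
      have hne : (g : Matrix (Fin 2) (Fin 2) F) 0 0 ≠ 0 := left_ne_zero_of_mul_eq_one hdet
      have := FiniteField.pow_card_sub_one_eq_one _ hne
      rw [hk, hk'] at this
      exact this
    have hd : degN ψ = 2 * k ∨ degN ψ = k := by
      rcases hdeg with h | h
      · left
        rw [degN_eq_iff, hψχ, h, hk]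
        push_cast
        ring
      · right
        rw [degN_eq_iff, hψχ, h]
        congr 1
        omega
    obtain ⟨a, d, hg, ha, -, had⟩ := toGL_eq_mkGL_of_diag g h01 h10
    have hne : a ≠ d := by
      rintro rfl
      apply hsq
      rw [← ha, sq, ← Units.val_mul, had, Units.val_one]
    rcases sl2_types_degN ψ with ⟨-, h⟩ | ⟨-, h⟩ | ⟨δ, -, -, h⟩ | ⟨χ', hχ', hns, hres, h⟩ |
      ⟨α₀, ψ', -, -, -, -, -, -, -, h⟩ |
      ⟨χ', α₀, ψ', hχ', hns, -, -, -, hψ', -, hsum, hc, -, h⟩
    · omega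
    · omega
    · omega
    · rw [← hψχ, hres, resSL_apply, hg]
      exact nonPS_diag_eq_zero χ' (IsIrrCharacter.isClassFunction hχ') hns a d hne
    · omega
    · have hv := half_value ⟨k, hk⟩ (IsIrrCharacter.isClassFunction hψ') hsum hc g
        (trace_sq_ne_four_of_diag g h01 hsq)
      rw [hg, nonPS_diag_eq_zero χ' (IsIrrCharacter.isClassFunction hχ') hns a d hne] at hv
      rw [hψχ] at hv
      have : (2 : ℂ) ≠ 0 := two_ne_zero
      exact (mul_eq_zero.mp hv).resolve_left this
  · intro hdeg hell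
    have hd : degN ψ = 2 * k + 2 ∨ degN ψ = k + 1 := by
      rcases hdeg with h | h
      · left
        rw [degN_eq_iff, hψχ, h, hk]
        push_cast
        ring
      · right
        rw [degN_eq_iff, hψχ, h]
        congr 1
        omega
    rcases sl2_types_degN ψ with ⟨-, h⟩ | ⟨-, h⟩ | ⟨δ, -, hres, h⟩ | ⟨χ', hχ', hns, hres, h⟩ |
      ⟨α₀, ψ', -, -, hψ', -, hsum, hc, -, h⟩ |
      ⟨χ', α₀, ψ', -, -, -, -, -, -, -, -, -, -, h⟩
    · omega
    · omega
    · rw [← hψχ, hres, resSL_apply]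
      exact psGL2_elliptic 1 δ _ hell
    · have hk' : k = 1 := by omega
      have h3 : Fintype.card F = 3 := by omega
      rw [← hψχ, hres]
      apply q3_cusp_vanish h3 hχ' hns _ g hell
      rw [← hres]
      exact hχ
    · have hv := half_value ⟨k, hk⟩ (IsIrrCharacter.isClassFunction hψ') hsum hc g
        (trace_sq_ne_four_of_elliptic h2 g hell)
      rw [psGL2_elliptic 1 α₀ _ hell] at hv
      rw [hψχ] at hv
      have : (2 : ℂ) ≠ 0 := two_ne_zero
      exact (mul_eq_zero.mp hv).resolve_left this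
    · omega

end Cfsg.Agent.S2322
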