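import Cfsg.Statements.S2323
import Cfsg.Agent.Lib.Helper4.SL2Values

set_option autoImplicit false
open Cfsg

namespace Cfsg.Agent.S2323

open Cfsg.Agent.Lib.Helper4 Cfsg.Agent.Lib.Helper6 Matrix

theorem natCast_eq_aux (q k : ℕ) (h : (q : ℂ) = (k : ℂ)) : q = k := by exact_mod_cast h

theorem natCast_add_ne_aux (q k : ℕ) (hk : 0 < k) (h : (q : ℂ) + (k : ℂ) = 0) : False := by
  have h3 : ((q + k : ℕ) : ℂ) = 0 := by
    push_cast
    exact h
  have : q + k = 0 := by exact_mod_cast h3
  omega

/-- Over a finite field F with q ≥ 4 elements, let u be the upper unitriangular matrix of SL₂ with off-diagonal entry 1. An irreducible complex character of SL₂ takes at u the value 1 if its degree is q + 1 and the value −1 if its degree is q − 1. -/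
theorem result {F : Type*} [Field F] [Fintype F] (hq : 4 ≤ Fintype.card F) (χ : Matrix.SpecialLinearGroup (Fin 2) F → ℂ) (hχ : Cfsg.IsIrrCharacter (Matrix.SpecialLinearGroup (Fin 2) F) χ)
    (u : Matrix.SpecialLinearGroup (Fin 2) F) (hu : (u : Matrix (Fin 2) (Fin 2) F) = !![1, 1; 0, 1]) :
    (χ 1 = (Fintype.card F : ℂ) + 1 → χ u = 1) ∧ (χ 1 = (Fintype.card F : ℂ) - 1 → χ u = -1) := by
  classical
  have instG : Fintype (GL (Fin 2) F) := Fintype.ofFinite _
  have htu := toGL_transvection u hu
  rcases sl2_irr_types χ hχ with h | h | ⟨δ, -, h⟩ | ⟨χ', hχ', hns, h⟩ |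
    ⟨α₀, ψ', -, -, -, -, hsum, hc, -⟩ | ⟨χ', α₀, ψ', hχ', hns, -, -, -, -, -, hsum, hc, -⟩
  · constructor
    · intro hdeg
      exfalso
      rw [h] at hdeg
      have : Fintype.card F = 0 := natCast_eq_aux _ 0 (by push_cast; linear_combination -hdeg)
      omega
    · intro hdeg
      exfalso
      rw [h] at hdeg
      have : Fintype.card F = 2 := natCast_eq_aux _ 2 (by push_cast; linear_combination -hdeg)
      omega
  · constructor
    · intro hdeg
      exfalso
      rw [h, resSL_one, stGL2_one] at hdeg
      have : (1 : ℂ) = 0 := by linear_combination -hdeg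
      exact one_ne_zero this
    · intro hdeg
      exfalso
      rw [h, resSL_one, stGL2_one] at hdeg
      have : (1 : ℂ) = 0 := by linear_combination hdeg
      exact one_ne_zero this
  · constructor
    · intro _
      rw [h, resSL_apply, htu, psGL2_unip]
    · intro hdeg
      exfalso
      rw [h, resSL_one, psGL2_one] at hdeg
      have : (2 : ℂ) = 0 := by linear_combination hdeg
      norm_num at this
  · constructor
    · intro hdeg
      exfalso
      rw [h, resSL_one, (nonPS_values hχ' hns).1] at hdeg
      have : (2 : ℂ) = 0 := by linear_combination -hdeg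
      norm_num at this
    · intro _
      rw [h, resSL_apply, htu, (nonPS_values hχ' hns).2]
  · have h2 := half_degree hsum hc
    rw [psGL2_one] at h2
    constructor
    · intro hdeg
      exfalso
      rw [hdeg] at h2
      exact natCast_add_ne_aux (Fintype.card F) 1 (by norm_num) (by push_cast; linear_combination h2)
    · intro hdeg
      exfalso
      rw [hdeg] at h2
      have : Fintype.card F = 3 := natCast_eq_aux _ 3 (by push_cast; linear_combination h2)
      omega
  · have h2 := half_degree hsum hc
    rw [(nonPS_values hχ' hns).1] at h2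
    constructor
    · intro hdeg
      exfalso
      rw [hdeg] at h2
      exact natCast_add_ne_aux (Fintype.card F) 3 (by norm_num) (by push_cast; linear_combination h2)
    · intro hdeg
      exfalso
      rw [hdeg] at h2
      have : Fintype.card F = 1 := natCast_eq_aux _ 1 (by push_cast; linear_combination h2)
      omega

end Cfsg.Agent.S2323
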