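import Cfsg.Statements.S2324
import Cfsg.Agent.Lib.Helper4.SL2Gauss
import Cfsg.Agent.S2299

set_option autoImplicit false
open Cfsg

namespace Cfsg.Agent.S2324

open Cfsg.Agent.Lib.Helper4 Cfsg.Agent.Lib.Helper6 Matrix

theorem eq_of_card_two {α : Type*} (p : α → Prop) (h : Nat.card {x : α // p x} = 2) (a b c : α)
    (ha : p a) (hb : p b) (hc : p c) (hab : a ≠ b) (hca : c ≠ a) : c = b := by
  obtain ⟨x, y, hxy, huniv⟩ := Nat.card_eq_two_iff.mp h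
  have hmem : ∀ z : {x : α // p x}, z = x ∨ z = y := by
    intro z
    have : z ∈ ({x, y} : Set {x : α // p x}) := by rw [huniv]; exact Set.mem_univ z
    simpa using this
  have ha' := hmem ⟨a, ha⟩
  have hb' := hmem ⟨b, hb⟩
  have hc' := hmem ⟨c, hc⟩
  have hab' : (⟨a, ha⟩ : {x : α // p x}) ≠ ⟨b, hb⟩ := fun h => hab (congrArg Subtype.val h)
  have hca' : (⟨c, hc⟩ : {x : α // p x}) ≠ ⟨a, ha⟩ := fun h => hca (congrArg Subtype.val h)
  have : (⟨c, hc⟩ : {x : α // p x}) = ⟨b, hb⟩ := by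
    rcases ha' with ha' | ha' <;> rcases hb' with hb' | hb' <;> rcases hc' with hc' | hc'
    all_goals first
      | exact absurd (ha'.trans hb'.symm) hab'
      | exact absurd (hc'.trans ha'.symm) hca'
      | exact hc'.trans hb'.symm
  exact congrArg Subtype.val this

/-- Over a finite field F with q elements, q odd and q ≥ 5, let u be the upper unitriangular matrix of SL₂ with off-diagonal entry 1 and let δ = (−1)^((q−1)/2). Every irreducible complex character χ of SL₂ of degree (q + 1)/2 satisfies (2χ(u) − 1)² = δq, and every irreducible complex character χ of degree (q − 1)/2 satisfies (2χ(u) + 1)² = δq; that is, χ(u) = (1 ± √(δq))/2 in the first case and χ(u) = (−1 ± √(δq))/2 in the second. Moreover two different irreducible characters of degree (q + 1)/2 take the two different values (their values at u add up to 1), and likewise for degree (q − 1)/2 (values adding up to −1).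 -/
theorem result {F : Type*} [Field F] [Fintype F] (hodd : Odd (Fintype.card F)) (hq : 5 ≤ Fintype.card F)
    (u : Matrix.SpecialLinearGroup (Fin 2) F) (hu : (u : Matrix (Fin 2) (Fin 2) F) = !![1, 1; 0, 1]) :
    (∀ χ : Matrix.SpecialLinearGroup (Fin 2) F → ℂ, Cfsg.IsIrrCharacter (Matrix.SpecialLinearGroup (Fin 2) F) χ → χ 1 = (((Fintype.card F + 1) / 2 : ℕ) : ℂ) → (2 * χ u - 1) ^ 2 = (-1 : ℂ) ^ ((Fintype.card F - 1) / 2) * (Fintype.card F : ℂ)) ∧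
    (∀ χ : Matrix.SpecialLinearGroup (Fin 2) F → ℂ, Cfsg.IsIrrCharacter (Matrix.SpecialLinearGroup (Fin 2) F) χ → χ 1 = (((Fintype.card F - 1) / 2 : ℕ) : ℂ) → (2 * χ u + 1) ^ 2 = (-1 : ℂ) ^ ((Fintype.card F - 1) / 2) * (Fintype.card F : ℂ)) ∧
    (∀ χ₁ χ₂ : Matrix.SpecialLinearGroup (Fin 2) F → ℂ, Cfsg.IsIrrCharacter (Matrix.SpecialLinearGroup (Fin 2) F) χ₁ → Cfsg.IsIrrCharacter (Matrix.SpecialLinearGroup (Fin 2) F) χ₂ → χ₁ ≠ χ₂ →
      χ₁ 1 = (((Fintype.card F + 1) / 2 : ℕ) : ℂ) → χ₂ 1 = (((Fintype.card F + 1) / 2 : ℕ) : ℂ) → χ₁ u + χ₂ u = 1) ∧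
    (∀ χ₁ χ₂ : Matrix.SpecialLinearGroup (Fin 2) F → ℂ, Cfsg.IsIrrCharacter (Matrix.SpecialLinearGroup (Fin 2) F) χ₁ → Cfsg.IsIrrCharacter (Matrix.SpecialLinearGroup (Fin 2) F) χ₂ → χ₁ ≠ χ₂ →
      χ₁ 1 = (((Fintype.card F - 1) / 2 : ℕ) : ℂ) → χ₂ 1 = (((Fintype.card F - 1) / 2 : ℕ) : ℂ) → χ₁ u + χ₂ u = -1) := by
  classical
  have instG : Fintype (GL (Fin 2) F) := Fintype.ofFinite _
  have hq1 : 1 ≤ Fintype.card F := Fintype.card_pos
  have hchar : ringChar F ≠ 2 := by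
    intro h
    have : Fintype.card F % 2 = 0 := FiniteField.even_card_iff_char_two.mp h
    have h2 := Nat.odd_iff.mp hodd
    omega
  obtain ⟨-, hcounts⟩ := Cfsg.Agent.S2299.result hodd
  obtain ⟨-, -, -, -, hNp, hNm⟩ := hcounts hq
  obtain ⟨k, hk⟩ := hodd
  have hk2 : 2 ≤ k := by omega
  have huU : u = upperU 1 := by
    apply Subtype.ext
    rw [hu, upperU_coe]
  have htu : Matrix.SpecialLinearGroup.toGL u = mkGL 1 1 1 := toGL_transvection u hu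
  -- the structure of the characters of degree (q+1)/2
  have hplus : ∀ χ : Matrix.SpecialLinearGroup (Fin 2) F → ℂ,
      Cfsg.IsIrrCharacter (Matrix.SpecialLinearGroup (Fin 2) F) χ →
      χ 1 = (((Fintype.card F + 1) / 2 : ℕ) : ℂ) →
      ∃ (α₀ : MulChar F ℂ) (ψ' : Matrix.SpecialLinearGroup (Fin 2) F → ℂ), α₀ ≠ 1 ∧
        Cfsg.IsIrrCharacter (Matrix.SpecialLinearGroup (Fin 2) F) ψ' ∧ χ ≠ ψ' ∧
        resSL (psGL2 1 α₀) = χ + ψ' ∧ GLConj χ ψ' := by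
    intro χ hχ hdeg
    set ψ : Cfsg.IrrCharacter (Matrix.SpecialLinearGroup (Fin 2) F) := ⟨χ, hχ⟩ with hψ
    have hd : degN ψ = (Fintype.card F + 1) / 2 := by rw [degN_eq_iff]; exact hdeg
    rcases sl2_types_degN ψ with ⟨-, h⟩ | ⟨-, h⟩ | ⟨δ, -, -, h⟩ | ⟨χ', -, -, -, h⟩ |
      ⟨α₀, ψ', h1, -, hψ', hne, hsum, hc, -, -⟩ |
      ⟨χ', α₀, ψ', -, -, -, -, -, -, -, -, -, -, h⟩
    · omega
    · omega
    · omega
    · omega
    · exact ⟨α₀, ψ', h1, hψ', hne, hsum, hc⟩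
    · omega
  have hminus : ∀ χ : Matrix.SpecialLinearGroup (Fin 2) F → ℂ,
      Cfsg.IsIrrCharacter (Matrix.SpecialLinearGroup (Fin 2) F) χ →
      χ 1 = (((Fintype.card F - 1) / 2 : ℕ) : ℂ) →
      ∃ (χ' : GL (Fin 2) F → ℂ) (ψ' : Matrix.SpecialLinearGroup (Fin 2) F → ℂ),
        Cfsg.IsIrrCharacter (GL (Fin 2) F) χ' ∧ NonPS χ' ∧
        Cfsg.IsIrrCharacter (Matrix.SpecialLinearGroup (Fin 2) F) ψ' ∧ χ ≠ ψ' ∧
        resSL χ' = χ + ψ' ∧ GLConj χ ψ' := by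
    intro χ hχ hdeg
    set ψ : Cfsg.IrrCharacter (Matrix.SpecialLinearGroup (Fin 2) F) := ⟨χ, hχ⟩ with hψ
    have hd : degN ψ = (Fintype.card F - 1) / 2 := by rw [degN_eq_iff]; exact hdeg
    rcases sl2_types_degN ψ with ⟨-, h⟩ | ⟨-, h⟩ | ⟨δ, -, -, h⟩ | ⟨χ', -, -, -, h⟩ |
      ⟨α₀, ψ', -, -, -, -, -, -, -, h⟩ |
      ⟨χ', α₀, ψ', hχ', hns, -, -, -, hψ', hne, hsum, hc, -, -⟩
    · omega
    · omega
    · omega
    · omega
    · omega
    · exact ⟨χ', ψ', hχ', hns, hψ', hne, hsum, hc⟩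
  refine ⟨?_, ?_, ?_, ?_⟩
  · intro χ hχ hdeg
    obtain ⟨α₀, ψ', h1, hψ', hne, hsum, hc⟩ := hplus χ hχ hdeg
    rw [huU]
    exact half_transvection hchar (IsIrrCharacter.isClassFunction
      (Cfsg.Agent.S2304.isIrr_psGL2 1 α₀ (Ne.symm h1))) hχ hψ' hsum hc
      ((Fintype.card F : ℂ) + 1) 1 (psGL2_one 1 α₀) (psGL2_unip 1 α₀) (by ring)
  · intro χ hχ hdeg
    obtain ⟨χ', ψ', hχ', hns, hψ', hne, hsum, hc⟩ := hminus χ hχ hdeg
    rw [huU]
    have := half_transvection hchar (IsIrrCharacter.isClassFunction hχ') hχ hψ' hsum hc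
      ((Fintype.card F : ℂ) - 1) (-1) (nonPS_values hχ' hns).1 (nonPS_values hχ' hns).2 (by ring)
    rw [← this]
    ring
  · intro χ₁ χ₂ hχ₁ hχ₂ hne12 hd1 hd2
    obtain ⟨α₀, ψ', h1, hψ', hne, hsum, hc⟩ := hplus χ₁ hχ₁ hd1
    have hdψ' : ψ' 1 = (((Fintype.card F + 1) / 2 : ℕ) : ℂ) := by rw [hc.apply_one, hd1]
    have heq := eq_of_card_two _ hNp (⟨χ₁, hχ₁⟩ : Cfsg.IrrCharacter _) ⟨ψ', hψ'⟩ ⟨χ₂, hχ₂⟩
      hd1 hdψ' hd2 (fun h => hne (congrArg Subtype.val h))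
      (fun h => hne12 (congrArg Subtype.val h).symm)
    have heq' : χ₂ = ψ' := congrArg Subtype.val heq
    have h2 := congrFun hsum u
    rw [resSL_apply, htu, psGL2_unip, Pi.add_apply] at h2
    rw [heq', ← h2]
  · intro χ₁ χ₂ hχ₁ hχ₂ hne12 hd1 hd2
    obtain ⟨χ', ψ', hχ', hns, hψ', hne, hsum, hc⟩ := hminus χ₁ hχ₁ hd1
    have hdψ' : ψ' 1 = (((Fintype.card F - 1) / 2 : ℕ) : ℂ) := by rw [hc.apply_one, hd1]
    have heq := eq_of_card_two _ hNm (⟨χ₁, hχ₁⟩ : Cfsg.IrrCharacter _) ⟨ψ', hψ'⟩ ⟨χ₂, hχ₂⟩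
      hd1 hdψ' hd2 (fun h => hne (congrArg Subtype.val h))
      (fun h => hne12 (congrArg Subtype.val h).symm)
    have heq' : χ₂ = ψ' := congrArg Subtype.val heq
    have h2 := congrFun hsum u
    rw [resSL_apply, htu, (nonPS_values hχ' hns).2, Pi.add_apply] at h2
    rw [heq', ← h2]

end Cfsg.Agent.S2324
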