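import Cfsg.Statements.S2330
import Cfsg.Agent.Lib.Helper4.GL2Classes

set_option autoImplicit false
open Cfsg

namespace Cfsg.Agent.S2330

open Cfsg.Agent.Lib.Helper4

theorem result {F : Type*} [Field F] [Fintype F] :
    Nat.card (ConjClasses (Matrix.GeneralLinearGroup (Fin 2) F)) = Fintype.card F ^ 2 - 1 := by
  classical
  rw [Nat.card_congr gl2ClassesEquiv, Nat.card_sum, Nat.card_prod, Nat.card_units,
    Nat.card_eq_fintype_card]
  have hq : 1 ≤ Fintype.card F := Fintype.card_pos
  obtain ⟨k, hk⟩ : ∃ k, Fintype.card F = k + 1 := ⟨Fintype.card F - 1, by omega⟩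
  rw [hk]
  simp only [Nat.add_sub_cancel]
  have : (k + 1) ^ 2 - 1 = k + (k + 1) * k := by
    have : (k + 1) ^ 2 = k + (k + 1) * k + 1 := by ring
    omega
  rw [this]

end Cfsg.Agent.S2330
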