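import Cfsg.Statements.S2331
import Cfsg.Agent.Lib.Helper4.SL2Classes

set_option autoImplicit false
open Cfsg

namespace Cfsg.Agent.S2331

open Cfsg.Agent.Lib.Helper4

variable {F : Type*} [Field F]

theorem eq_one_of_scalar [CharP F 2] (g : Matrix.SpecialLinearGroup (Fin 2) F)
    (hs : IsScalar2 (g : Matrix (Fin 2) (Fin 2) F)) : g = 1 := by
  have hd := sl2_det g
  obtain ⟨h1, h2, h3⟩ := hs
  rw [h1, zero_mul, sub_zero, ← h3] at hd
  have h00 : g 0 0 = 1 := by
    have : (g 0 0 - 1) ^ 2 = 0 := by
      have e : (g 0 0 - 1) ^ 2 = g 0 0 * g 0 0 - 2 * g 0 0 + 1 := by ring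
      rw [e, hd, CharTwo.two_eq_zero]; ring_nf
      exact CharTwo.two_eq_zero
    exact sub_eq_zero.mp (pow_eq_zero_iff (two_ne_zero) |>.mp this)
  rw [sl2_ext_iff]
  refine ⟨?_, ?_, ?_, ?_⟩
  · rw [h00]; simp
  · rw [h1]; simp
  · rw [h2]; simp
  · rw [← h3, h00]; simp

/-- the invariant -/
noncomputable def inv2 (g : Matrix.SpecialLinearGroup (Fin 2) F) : Option F := by
  classical
  exact if g = 1 then none else some (g : Matrix (Fin 2) (Fin 2) F).trace

theorem inv2_eq_iff [Fintype F] [CharP F 2] (g h : Matrix.SpecialLinearGroup (Fin 2) F) :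
    inv2 g = inv2 h ↔ IsConj g h := by
  classical
  have hsq : ∀ x : F, IsSquare x := FiniteField.isSquare_of_char_two (ringChar.eq F 2)
  constructor
  · intro e
    unfold inv2 at e
    by_cases hg : g = 1
    · rw [if_pos hg] at e
      by_cases hh : h = 1
      · rw [hg, hh]
      · rw [if_neg hh] at e; exact absurd e (by simp)
    · rw [if_neg hg] at e
      by_cases hh : h = 1
      · rw [if_pos hh] at e; exact absurd e (by simp)
      · rw [if_neg hh] at e
        have ht := Option.some.inj e
        apply sl2_isConj_of_gl_isConj_of_sq hsq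
        exact toGL_isConj_of_trace_eq g h (fun hs => hg (eq_one_of_scalar g hs))
          (fun hs => hh (eq_one_of_scalar h hs)) ht
  · intro hc
    obtain ⟨c, rfl⟩ := isConj_iff.mp hc
    unfold inv2
    by_cases hg : g = 1
    · subst hg
      simp
    · have : ¬ c * g * c⁻¹ = 1 := by
        intro h1
        apply hg
        have : g = c⁻¹ * (c * g * c⁻¹) * c := by group
        rw [this, h1]; group
      rw [if_neg hg, if_neg this, sl2_trace_conj]

theorem inv2_surjective : Function.Surjective (inv2 : Matrix.SpecialLinearGroup (Fin 2) F → Option F) := by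
  classical
  intro x
  cases x with
  | none => exact ⟨1, by simp [inv2]⟩
  | some t =>
    refine ⟨compSL t, ?_⟩
    unfold inv2
    rw [if_neg, compSL_trace]
    intro h1
    have := ((sl2_ext_iff _ _).mp h1).2.2.1
    rw [compSL_coe] at this
    simp at this

theorem result {F : Type*} [Field F] [Fintype F] [CharP F 2] :
    Nat.card (ConjClasses (Matrix.SpecialLinearGroup (Fin 2) F)) = Fintype.card F + 1 := by
  classical
  have e : ConjClasses (Matrix.SpecialLinearGroup (Fin 2) F) ≃ Option F :=
    Equiv.ofBijective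
      (Quotient.lift inv2 (fun g h (hgh : IsConj g h) => (inv2_eq_iff g h).mpr hgh))
      ⟨by
        rintro ⟨g⟩ ⟨h⟩ e
        exact Quotient.sound ((inv2_eq_iff g h).mp e),
       by
        intro x
        obtain ⟨g, hg⟩ := inv2_surjective x
        exact ⟨Quotient.mk _ g, hg⟩⟩
  rw [Nat.card_congr e, Nat.card_eq_fintype_card, Fintype.card_option]

end Cfsg.Agent.S2331
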