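import Cfsg.Statements.S2337
import Cfsg.Agent.Lib.Helper4.Suz24
import Cfsg.Agent.Lib.Helper4.SzB5
import Cfsg.Agent.Lib.Helper6.Kernel

set_option autoImplicit false
open Cfsg

namespace Cfsg.Agent.S2337

theorem result {F : Type*} [Field F] [Fintype F] (m : ℕ) (hm : 1 ≤ m) (hF : Fintype.card F = 2 ^ (2 * m + 1)) :
    (∀ (k : ℕ) (ρ : Representation ℂ (Cfsg.Lie.Sz F (2 ^ (m + 1))) (Fin k → ℂ)), ρ.IsIrreducible → 2 ≤ k → 2 ^ m * (2 ^ (2 * m + 1) - 1) ≤ k) := by
  intro k ρ hirr hk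
  classical
  have e := Cfsg.Agent.Lib.Helper4.Suz.szEquiv hF hm
  haveI : IsSimpleGroup (Cfsg.Sz F m) := Cfsg.Agent.Lib.Helper4.Suz.simple hF hm
  haveI : Nontrivial (Cfsg.Lie.Sz F (2 ^ (m + 1))) := e.symm.toEquiv.nontrivial
  haveI : IsSimpleGroup (Cfsg.Lie.Sz F (2 ^ (m + 1))) :=
    IsSimpleGroup.isSimpleGroup_of_surjective e.toMonoidHom e.surjective
  haveI : Fintype (Cfsg.Lie.Sz F (2 ^ (m + 1))) := Fintype.ofFinite _
  haveI : ρ.IsIrreducible := hirr
  have hinj : Function.Injective ρ := by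
    apply Cfsg.Agent.Lib.Helper6.injective_of_isSimpleGroup ρ
    intro h
    have h1 := congrFun h 1
    rw [Representation.char_one, Module.finrank_fin_fun] at h1
    have : k = 1 := by exact_mod_cast h1
    omega
  have hinj' : Function.Injective ((ρ : _ →* _).comp e.toMonoidHom :
      Representation ℂ (Cfsg.Sz F m) (Fin k → ℂ)) := by
    intro x y hxy
    exact e.injective (hinj hxy)
  have := Cfsg.Agent.Lib.Helper4.Suz.min_degree hF hm _ hinj'
  rw [Module.finrank_fin_fun] at this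
  exact this

end Cfsg.Agent.S2337
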