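import Cfsg.Statements.S2341
import Cfsg.Agent.S1066
import Cfsg.Agent.Lib.Helper5.E6M2ConcG
import Cfsg.Agent.Lib.Helper3.E6M2Faith
import Cfsg.Agent.Lib.Helper8.E6M2RelC
import Cfsg.Agent.Lib.Helper8.E6M2ASMC

set_option autoImplicit false
open Cfsg

namespace Cfsg.Agent.S2341

open Cfsg.Agent.Lib.Helper5.E6M2K in
/-- For the twisted group ²E₆(q), realised over the field with q² elements (q a prime power), every irreducible complex representation of degree at least 2 has degree at least q(q⁶ − q³ + 1)(q⁴ + 1). -/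
theorem result {K : Type*} [Field K] [Fintype K] (q : ℕ) (hq : IsPrimePow q) (hK : Fintype.card K = q ^ 2) :
    (∀ (k : ℕ) (ρ : Representation ℂ (Cfsg.Lie.twistedE6 K q) (Fin k → ℂ)), ρ.IsIrreducible → 2 ≤ k → q * (q ^ 6 - q ^ 3 + 1) * (q ^ 4 + 1) ≤ k) := by
  intro k ρ hirr hk
  classical
  obtain ⟨f, hf, hfm⟩ := Cfsg.Agent.Lib.Helper5.FrobFix.exists_frob hq (by norm_num : 2 ≠ 0) hK
  have hf2 : ∀ x, f (f x) = x := fun x => hfm x
  have hT := Cfsg.Agent.Lib.Helper8.E6M2.hT_conc f q hq hK hf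
  have hD : Cfsg.Agent.Lib.Helper2.E6M2B.Rel (D2 f hf hf2 hT) 10 :=
    Cfsg.Agent.Lib.Helper8.E6M2.rel_conc f q hq hK hf hf2 (D2 f hf hf2 hT) rfl rfl rfl rfl rfl
      (D2_qlaw f hf hf2 hT) (D2_conj f hf hf2 hT) (D2_n1_z f hf hf2 hT) (D2_n1_x f hf hf2 hT)
      (D2_h_z f hf hf2 hT)
  haveI : Finite ↥(Cfsg.Lie.twistedE6 K q) := Subtype.finite
  have h := Cfsg.Agent.Lib.Helper8.E6M2.e6m2_bound_conc f q hq hK hf hT (D2 f hf hf2 hT) hD
    rfl rfl rfl rfl ρ hirr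
    (fun h1 => Cfsg.Agent.Lib.Helper3.E6M2Faith.faith_tw hq hK ρ hirr
      ((D2 f hf hf2 hT).Psi 1 0) (D2_Psi_one_ne f hf hf2 hT) (h1 1))
    (Cfsg.Agent.S1066.result hq hK)
    (by rw [Module.finrank_fin_fun]; exact hk)
  rw [Module.finrank_fin_fun] at h
  exact h

end Cfsg.Agent.S2341
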