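import Cfsg.Statements.S2345
import Cfsg.Agent.Lib.Helper8.OMPZ
import Cfsg.Agent.Lib.Helper5.OMPN
import Cfsg.Agent.Lib.Helper5.OMPI3

set_option autoImplicit false
open Cfsg

namespace Cfsg.Agent.S2345

/-- For a finite field F with q > 3 elements and n ≥ 4, every irreducible complex representation of degree at least 2 of Ω⁺_{2n}(F) (the commutator subgroup of the isometry group of the hyperbolic quadratic form x₁y₁ + ⋯ + x_ny_n) has degree at least (q^n − 1)(q^{n−1} + q)/(q² − 1). -/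
theorem result {F : Type*} [Field F] [Fintype F] (n : ℕ) (hn : 4 ≤ n) (h3 : 3 < Fintype.card F) :
    (∀ (k : ℕ) (ρ : Representation ℂ (Cfsg.Omega F (Cfsg.quadFormPlus n F)) (Fin k → ℂ)), ρ.IsIrreducible → 2 ≤ k → (Fintype.card F ^ n - 1) * (Fintype.card F ^ (n - 1) + Fintype.card F) / (Fintype.card F ^ 2 - 1) ≤ k) := by
  classical
  obtain ⟨m, rfl⟩ : ∃ m, n = m + 3 := ⟨n - 3, by omega⟩
  intro k ρ hρ hk
  have h := Cfsg.Agent.Lib.Helper8.OMPZ.omp_bound_of (F := F) (m := m) (by omega) (by omega) k ρ hρ hk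
    (fun ψ hψ ρ' hρ' => Cfsg.Agent.Lib.Helper5.OMP.exists_mB_ne_zero ψ hψ ρ' hρ' hk)
    (Cfsg.Agent.Lib.Helper5.OMP.card_Tall (by omega))
  have e : m + 3 - 1 = m + 2 := by omega
  rw [e]
  exact h

end Cfsg.Agent.S2345
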