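import Cfsg.Statements.S2352
-- import your own Cfsg.Agent.* helpers here

set_option autoImplicit false
open Cfsg

namespace Cfsg.Agent.S2352

theorem exists_perm_of_partial {α : Type*} [Fintype α] [DecidableEq α] (r : α → α → Prop)
    (h1 : ∀ a b b', r a b → r a b' → b = b') (h2 : ∀ a a' b, r a b → r a' b → a = a') :
    ∃ σ : Equiv.Perm α, ∀ a b, r a b → σ a = b := by
  classical
  let p : α → Prop := fun a => ∃ b, r a b
  let q : α → Prop := fun b => ∃ a, r a b
  let f : {a // p a} → {b // q b} := fun a => ⟨Classical.choose a.2, a.1, Classical.choose_spec a.2⟩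
  have hf : Function.Bijective f := by
    constructor
    · intro a a' haa'
      have h := congrArg Subtype.val haa'
      have ha := Classical.choose_spec a.2
      have ha' := Classical.choose_spec a'.2
      change Classical.choose a.2 = Classical.choose a'.2 at h
      rw [h] at ha
      exact Subtype.ext (h2 _ _ _ ha ha')
    · rintro ⟨b, a, hab⟩
      refine ⟨⟨a, b, hab⟩, ?_⟩
      apply Subtype.ext
      exact h1 _ _ _ (Classical.choose_spec (⟨b, hab⟩ : p a)) hab
  let e : {a // p a} ≃ {b // q b} := Equiv.ofBijective f hf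
  refine ⟨e.extendSubtype, ?_⟩
  intro a b hab
  rw [Equiv.extendSubtype_apply_of_mem e a ⟨b, hab⟩]
  exact h1 _ _ _ (Classical.choose_spec (⟨b, hab⟩ : p a)) hab

theorem freeGroup_exists_perm {ι : Type*} [DecidableEq ι] (w : FreeGroup ι) (hw : w ≠ 1) :
    ∃ (m : ℕ) (σ : ι → Equiv.Perm (Fin m)), FreeGroup.lift σ w ≠ 1 := by
  classical
  set L := w.toWord with hL
  set ℓ := L.length with hℓ
  have hred : FreeGroup.IsReduced L := FreeGroup.isReduced_toWord
  have hne : L ≠ [] := by
    intro h
    exact hw (FreeGroup.toWord_eq_nil_iff.mp h)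
  have hpos : 0 < ℓ := List.length_pos_iff.mpr hne
  have hchain := List.isChain_iff_getElem.mp hred
  let r : ι → Fin (ℓ + 1) → Fin (ℓ + 1) → Prop := fun x a b =>
    ∃ j, ∃ hj : j < ℓ, (L[j] = (x, true) ∧ a.val = j + 1 ∧ b.val = j) ∨
      (L[j] = (x, false) ∧ a.val = j ∧ b.val = j + 1)
  have key : ∀ x, ∃ σ : Equiv.Perm (Fin (ℓ + 1)), ∀ a b, r x a b → σ a = b := by
    intro x
    apply exists_perm_of_partial
    · rintro a b b' ⟨j, hj, h | h⟩ ⟨j', hj', h' | h'⟩
      · apply Fin.ext; omega
      · exfalso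
        have hjj : j' = j + 1 := by omega
        subst hjj
        have := hchain j hj'
        rw [h.1, h'.1] at this
        simpa using this rfl
      · exfalso
        have hjj : j = j' + 1 := by omega
        subst hjj
        have := hchain j' hj
        rw [h.1, h'.1] at this
        simpa using this rfl
      · apply Fin.ext; omega
    · rintro a a' b ⟨j, hj, h | h⟩ ⟨j', hj', h' | h'⟩
      · apply Fin.ext; omega
      · exfalso
        have hjj : j = j' + 1 := by omega
        subst hjj
        have := hchain j' hj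
        rw [h.1, h'.1] at this
        simpa using this rfl
      · exfalso
        have hjj : j' = j + 1 := by omega
        subst hjj
        have := hchain j hj'
        rw [h.1, h'.1] at this
        simpa using this rfl
      · apply Fin.ext; omega
  choose σ hσ using key
  refine ⟨ℓ + 1, σ, ?_⟩
  let g : ι × Bool → Equiv.Perm (Fin (ℓ + 1)) := fun x => cond x.2 (σ x.1) (σ x.1)⁻¹
  have hg : ∀ j (hj : j < ℓ), g L[j] ⟨j + 1, by omega⟩ = ⟨j, by omega⟩ := by
    intro j hj
    rcases hx : L[j] with ⟨x, b⟩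
    cases b
    · -- false
      change (σ x)⁻¹ _ = _
      rw [Equiv.Perm.inv_eq_iff_eq]
      symm
      apply hσ
      exact ⟨j, hj, Or.inr ⟨hx, rfl, rfl⟩⟩
    · change (σ x) _ = _
      apply hσ
      exact ⟨j, hj, Or.inl ⟨hx, rfl, rfl⟩⟩
  have path : ∀ d k (hk : k + d = ℓ), ((L.drop k).map g).prod ⟨ℓ, by omega⟩ = ⟨k, by omega⟩ := by
    intro d
    induction d with
    | zero =>
      intro k hk
      have : k = ℓ := by omega
      subst this
      simp [hℓ]
    | succ d ih =>
      intro k hk
      have hk' : k < L.length := by omega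
      rw [List.drop_eq_getElem_cons hk', List.map_cons, List.prod_cons, Equiv.Perm.mul_apply,
        ih (k + 1) (by omega)]
      exact hg k hk'
  have h0 := path ℓ 0 (by omega)
  rw [List.drop_zero] at h0
  intro h1
  have : FreeGroup.lift σ w = (L.map g).prod := by
    conv_lhs => rw [← FreeGroup.mk_toWord (x := w)]
    rw [FreeGroup.lift_mk]
  rw [this] at h1
  rw [h1] at h0
  have := congrArg Fin.val h0
  simp at this
  omega

/-- double embedding of `Perm α` into the even permutations of a bigger type -/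
noncomputable def dblHom {α γ : Type*} [DecidableEq α] [Fintype α] [DecidableEq γ] [Fintype γ]
    {β : Type*} [DecidableEq β] [Fintype β]
    (e : (α ⊕ α) ⊕ γ ≃ β) : Equiv.Perm α →* Equiv.Perm β :=
  e.permCongrHom.toMonoidHom.comp
    ((Equiv.Perm.sumCongrHom (α ⊕ α) γ).comp
      (((Equiv.Perm.sumCongrHom α α).comp
        ((MonoidHom.id _).prod (MonoidHom.id _))).prod 1))

theorem dblHom_injective {α γ : Type*} [DecidableEq α] [Fintype α] [DecidableEq γ] [Fintype γ]
    {β : Type*} [DecidableEq β] [Fintype β]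
    (e : (α ⊕ α) ⊕ γ ≃ β) : Function.Injective (dblHom e) := by
  intro a b hab
  have h1 := e.permCongrHom.injective hab
  have h2 := Equiv.Perm.sumCongrHom_injective h1
  have h3 := congrArg Prod.fst h2
  have h4 := Equiv.Perm.sumCongrHom_injective h3
  exact congrArg Prod.fst h4

theorem dblHom_sign {α γ : Type*} [DecidableEq α] [Fintype α] [DecidableEq γ] [Fintype γ]
    {β : Type*} [DecidableEq β] [Fintype β]
    (e : (α ⊕ α) ⊕ γ ≃ β) (σ : Equiv.Perm α) : Equiv.Perm.sign (dblHom e σ) = 1 := by
  change Equiv.Perm.sign (e.permCongr (Equiv.sumCongr (Equiv.sumCongr σ σ) (1 : Equiv.Perm γ))) = 1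
  rw [Equiv.Perm.sign_permCongr, Equiv.Perm.sign_sumCongr, Equiv.Perm.sign_sumCongr]
  simp

theorem lift_comp_hom {ι G H : Type*} [Group G] [Group H] (φ : G →* H) (f : ι → G)
    (w : FreeGroup ι) : φ (FreeGroup.lift f w) = FreeGroup.lift (fun i => φ (f i)) w := by
  apply FreeGroup.lift_unique (φ.comp (FreeGroup.lift f))
  intro x
  simp

/-- A nontrivial word is a law in only finitely many alternating groups A_n. -/
theorem result (w : FreeGroup ℕ) (hw : w ≠ 1) :
    ∃ N : ℕ, ∀ n : ℕ, N ≤ n → ∃ f : ℕ → alternatingGroup (Fin n), FreeGroup.lift f w ≠ 1 := by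
  obtain ⟨m, σ, hσ⟩ := freeGroup_exists_perm w hw
  refine ⟨m + m, ?_⟩
  intro n hn
  obtain ⟨k, rfl⟩ := Nat.exists_eq_add_of_le hn
  let e : (Fin m ⊕ Fin m) ⊕ Fin k ≃ Fin (m + m + k) :=
    (Equiv.sumCongr finSumFinEquiv (Equiv.refl (Fin k))).trans finSumFinEquiv
  let f : ℕ → alternatingGroup (Fin (m + m + k)) := fun i =>
    ⟨dblHom e (σ i), Equiv.Perm.mem_alternatingGroup.mpr (dblHom_sign e (σ i))⟩
  refine ⟨f, ?_⟩
  intro h
  have h1 := lift_comp_hom (alternatingGroup (Fin (m + m + k))).subtype f w
  rw [h, map_one] at h1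
  have h2 := lift_comp_hom (dblHom e) σ w
  have h3 : (fun i => (alternatingGroup (Fin (m + m + k))).subtype (f i)) =
      fun i => dblHom e (σ i) := rfl
  rw [h3, ← h2] at h1
  apply hσ
  apply dblHom_injective e
  rw [← h1, map_one]

end Cfsg.Agent.S2352
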