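import Cfsg.Statements.S2353
import Cfsg.Agent.Lib.Helper4.FreeSL2
import Cfsg.Agent.S2352

set_option autoImplicit false
open Cfsg

namespace Cfsg.Agent.S2353

open Cfsg.Agent.Lib.Helper4.PP Polynomial Matrix

/-- A nontrivial word is a law in PSL2(F) for only finitely many finite fields F. -/
theorem result (w : FreeGroup ℕ) (hw : w ≠ 1) :
    ∃ N : ℕ, ∀ (F : Type*) [Field F] [Fintype F], N ≤ Fintype.card F →
      ∃ f : ℕ → Matrix.ProjectiveSpecialLinearGroup (Fin 2) F, FreeGroup.lift f w ≠ 1 := by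
  classical
  refine ⟨(w.toWord.map fun x => 2 * (x.1 + 1)).sum + 1, ?_⟩
  intro F _ _ hN
  obtain ⟨i, j, hij, hne⟩ := exists_offdiag (F := F) w hw
  set P := FreeGroup.lift (genN F) w with hP
  have hdeg : ((P : Matrix (Fin 2) (Fin 2) F[X]) i j).natDegree <
      Fintype.card F := by
    have h1 := degLE_prod (F := F) w.toWord i j
    rw [← lift_genN_eq, ← hP] at h1
    omega
  -- a point where the entry does not vanish
  have hτ : ∃ τ : F, ((P : Matrix (Fin 2) (Fin 2) F[X]) i j).eval τ ≠ 0 := by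
    by_contra hcon
    push Not at hcon
    exact hne (Polynomial.eq_zero_of_natDegree_lt_card_of_eval_eq_zero _
      (f := (id : F → F)) Function.injective_id hcon hdeg)
  obtain ⟨τ, hτ⟩ := hτ
  let φ : Matrix.SpecialLinearGroup (Fin 2) F[X] →* Matrix.SpecialLinearGroup (Fin 2) F :=
    Matrix.SpecialLinearGroup.map (Polynomial.evalRingHom τ)
  let π : Matrix.SpecialLinearGroup (Fin 2) F →* Matrix.ProjectiveSpecialLinearGroup (Fin 2) F :=
    QuotientGroup.mk' _
  refine ⟨fun k => π (φ (genN F k)), ?_⟩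
  intro h
  have h1 := Cfsg.Agent.S2352.lift_comp_hom (π.comp φ) (genN F) w
  have h1' : π (φ P) = 1 := h1.trans h
  have h2 : φ P ∈ Subgroup.center (Matrix.SpecialLinearGroup (Fin 2) F) :=
    (QuotientGroup.eq_one_iff _).mp h1'
  obtain ⟨r, -, hr⟩ := Matrix.SpecialLinearGroup.mem_center_iff.mp h2
  have h3 := congrFun (congrFun hr i) j
  rw [Matrix.scalar_apply, Matrix.diagonal_apply_ne _ hij] at h3
  apply hτ
  rw [h3]
  rfl

end Cfsg.Agent.S2353
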