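import Cfsg.Statements.S2355
import Cfsg.Agent.Lib.Helper1.Lw5

set_option autoImplicit false
open Cfsg

namespace Cfsg.Agent.S2355

/-- A non-trivial law is satisfied by only finitely many finite simple groups that are alternating or classical, up to isomorphism: for every non-trivial element w of the free group on countably many generators there is a bound N such that every alternating group of degree ≥ 5 and every simple classical group (linear, symplectic, unitary or orthogonal, in this problem's sense) in which w is a law has order at most N. -/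
theorem result (w : FreeGroup ℕ) (hw : w ≠ 1) :
    ∃ N : ℕ, ∀ (G : Type*) [Group G] [Finite G],
      (Cfsg.IsAlternating G ∨ Cfsg.IsPSL G ∨ Cfsg.IsPSp G ∨ Cfsg.IsPSU G ∨ Cfsg.IsPOmegaOdd G ∨
          Cfsg.IsPOmegaPlus G ∨ Cfsg.IsPOmegaMinus G) →
      (∀ f : ℕ → G, FreeGroup.lift f w = 1) → Nat.card G ≤ N := by
  classical
  obtain ⟨D, n₀, hsl, hperm, halt⟩ := Cfsg.Agent.Lib.Helper1.Lw.exists_bounds w hw
  have hB : 1 ≤ (D + 1) ^ 2 := Nat.one_le_pow _ _ (by omega)
  have hDB : D ≤ (D + 1) ^ 2 := by nlinarith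
  refine ⟨max (2 * n₀).factorial (((D + 1) ^ 2) ^ ((2 * n₀ + 2) * (2 * n₀ + 2))), ?_⟩
  intro G _ _ hfam hlaw
  rcases hfam with h | h | h | h | h | h | h
  · -- alternating
    obtain ⟨n, hn, ⟨e⟩⟩ := h
    have h1 := Cfsg.Agent.Lib.Helper1.Lw.law_congr e hlaw
    have h2 : Cfsg.Agent.Lib.Helper1.Lw.LawPQ w (alternatingGroup (Fin n)) :=
      Cfsg.Agent.Lib.Helper1.Lw.lawPQ_of_law h1
    have h3 : n < 2 * n₀ := by
      by_contra hcon
      push_neg at hcon
      exact halt (Fin n) (by simpa using hcon) h2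
    have h4 : Nat.card G = Nat.card (alternatingGroup (Fin n)) := Nat.card_congr e.toEquiv
    have h5 : Nat.card (alternatingGroup (Fin n)) ≤ Nat.card (Equiv.Perm (Fin n)) :=
      Cfsg.Agent.Lib.Helper1.Lw.card_subgroup_le _
    have h6 : Nat.card (Equiv.Perm (Fin n)) = n.factorial := by
      rw [Nat.card_eq_fintype_card, Fintype.card_perm, Fintype.card_fin]
    have h7 : n.factorial ≤ (2 * n₀).factorial := Nat.factorial_le h3.le
    rw [h4]
    exact le_trans (le_trans h5 (h6 ▸ h7)) (le_max_left _ _)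
  · -- PSL
    obtain ⟨F, _, _, n, hn, hn2, ⟨e⟩⟩ := h
    have h1 := Cfsg.Agent.Lib.Helper1.Lw.law_congr e hlaw
    have h2 : Cfsg.Agent.Lib.Helper1.Lw.LawPQ w (Matrix.SpecialLinearGroup (Fin n) F) :=
      Cfsg.Agent.Lib.Helper1.Lw.lawPQ_of_law_quot _ le_rfl h1
    have h3 : Fintype.card F ≤ D := by
      by_contra hcon
      push_neg at hcon
      exact hsl F hcon (Cfsg.Agent.Lib.Helper1.Lw.lawPQ_sl2_of_sl hn h2)
    have h4 : n < 2 * n₀ := by
      by_contra hcon
      push_neg at hcon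
      exact halt (Fin n) (by simpa using hcon) (Cfsg.Agent.Lib.Helper1.Lw.lawPQ_alt_of_sl h2)
    have h5 : Nat.card G = Nat.card (Matrix.ProjectiveSpecialLinearGroup (Fin n) F) :=
      Nat.card_congr e.toEquiv
    have h6 : Nat.card (Matrix.ProjectiveSpecialLinearGroup (Fin n) F) ≤
        Nat.card (Matrix.SpecialLinearGroup (Fin n) F) :=
      Cfsg.Agent.Lib.Helper1.Lw.card_quot_le _
    have h7 := Cfsg.Agent.Lib.Helper1.Lw.card_sl_le (ι := Fin n) (F := F)
    have h8 : Nat.card F ^ (Fintype.card (Fin n) * Fintype.card (Fin n)) ≤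
        ((D + 1) ^ 2) ^ ((2 * n₀ + 2) * (2 * n₀ + 2)) := by
      apply Cfsg.Agent.Lib.Helper1.Lw.pow_bound _ _ hB
      · rw [Nat.card_eq_fintype_card]; omega
      · rw [Fintype.card_fin]; omega
    rw [h5]
    exact le_trans (le_trans h6 (le_trans h7 h8)) (le_max_right _ _)
  · -- PSp
    obtain ⟨F, _, _, m, hm, hm2, ⟨e⟩⟩ := h
    have h1 := Cfsg.Agent.Lib.Helper1.Lw.law_congr e hlaw
    have h2 : Cfsg.Agent.Lib.Helper1.Lw.LawPQ w ↥(Matrix.symplecticGroup (Fin m) F) :=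
      Cfsg.Agent.Lib.Helper1.Lw.lawPQ_of_law_quot _ le_rfl h1
    have h2' := Cfsg.Agent.Lib.Helper1.Lw.lawPQ_gl_of_sp h2
    have h3 : Fintype.card F ≤ D := by
      by_contra hcon
      push_neg at hcon
      exact hsl F hcon (Cfsg.Agent.Lib.Helper1.Lw.lawPQ_sl2_of_gl hm h2')
    have h4 : m < n₀ := by
      by_contra hcon
      push_neg at hcon
      exact hperm (Fin m) (by simpa using hcon) (Cfsg.Agent.Lib.Helper1.Lw.lawPQ_perm_of_gl h2')
    have h5 : Nat.card G = Nat.card (PSp m F) := Nat.card_congr e.toEquiv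
    have h6 : Nat.card (PSp m F) ≤ Nat.card ↥(Matrix.symplecticGroup (Fin m) F) :=
      Cfsg.Agent.Lib.Helper1.Lw.card_quot_le _
    have h7 : Nat.card ↥(Matrix.symplecticGroup (Fin m) F) ≤
        Nat.card F ^ (Fintype.card (Fin m ⊕ Fin m) * Fintype.card (Fin m ⊕ Fin m)) := by
      rw [← Cfsg.Agent.Lib.Helper1.Lw.card_matrix]
      exact Nat.card_le_card_of_injective Subtype.val Subtype.val_injective
    have h8 : Nat.card F ^ (Fintype.card (Fin m ⊕ Fin m) * Fintype.card (Fin m ⊕ Fin m)) ≤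
        ((D + 1) ^ 2) ^ ((2 * n₀ + 2) * (2 * n₀ + 2)) := by
      apply Cfsg.Agent.Lib.Helper1.Lw.pow_bound _ _ hB
      · rw [Nat.card_eq_fintype_card]; omega
      · rw [Fintype.card_sum, Fintype.card_fin]; omega
    rw [h5]
    exact le_trans (le_trans h6 (le_trans h7 h8)) (le_max_right _ _)
  · -- PSU
    obtain ⟨F, _, _, n, q, hF, hn, hnq, ⟨e⟩⟩ := h
    have h1 := Cfsg.Agent.Lib.Helper1.Lw.law_congr e hlaw
    have h2 : Cfsg.Agent.Lib.Helper1.Lw.LawPQ w ↥(SU n F q) :=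
      Cfsg.Agent.Lib.Helper1.Lw.lawPQ_of_law_quot _ le_rfl h1
    have h3 : q ≤ D := by
      by_contra hcon
      push_neg at hcon
      haveI : Fintype ↥(Cfsg.Agent.Lib.Helper1.Lw.fixF hF) := Fintype.ofFinite _
      have hc := Cfsg.Agent.Lib.Helper1.Lw.q_le_card_fixF hF
      rw [Nat.card_eq_fintype_card] at hc
      exact hsl ↥(Cfsg.Agent.Lib.Helper1.Lw.fixF hF) (by omega)
        (Cfsg.Agent.Lib.Helper1.Lw.lawPQ_sl2_of_su hF (by omega) h2)
    have h4 : n < 2 * n₀ := by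
      by_contra hcon
      push_neg at hcon
      exact halt (Fin n) (by simpa using hcon) (Cfsg.Agent.Lib.Helper1.Lw.lawPQ_alt_of_su n h2)
    have h5 : Nat.card G = Nat.card (PSU n F q) := Nat.card_congr e.toEquiv
    have h6 : Nat.card (PSU n F q) ≤ Nat.card ↥(SU n F q) :=
      Cfsg.Agent.Lib.Helper1.Lw.card_quot_le _
    have h6' : Nat.card ↥(SU n F q) ≤ Nat.card (Matrix.SpecialLinearGroup (Fin n) F) :=
      Cfsg.Agent.Lib.Helper1.Lw.card_subgroup_le _
    have h7 := Cfsg.Agent.Lib.Helper1.Lw.card_sl_le (ι := Fin n) (F := F)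
    have h8 : Nat.card F ^ (Fintype.card (Fin n) * Fintype.card (Fin n)) ≤
        ((D + 1) ^ 2) ^ ((2 * n₀ + 2) * (2 * n₀ + 2)) := by
      apply Cfsg.Agent.Lib.Helper1.Lw.pow_bound _ _ hB
      · rw [Nat.card_eq_fintype_card, hF]
        exact Nat.pow_le_pow_left (by omega) 2
      · rw [Fintype.card_fin]; omega
    rw [h5]
    exact le_trans (le_trans h6 (le_trans h6' (le_trans h7 h8))) (le_max_right _ _)
  · -- POmega odd
    obtain ⟨F, _, _, m, hm, hodd, ⟨e⟩⟩ := h
    have h1 := Cfsg.Agent.Lib.Helper1.Lw.law_congr e hlaw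
    have h2 : Cfsg.Agent.Lib.Helper1.Lw.LawPQ w ↥(isometryGroup F (quadFormOdd m F)) :=
      Cfsg.Agent.Lib.Helper1.Lw.lawPQ_of_law_pomega h1
    have h2' := Cfsg.Agent.Lib.Helper1.Lw.lawPQ_gl_of_odd h2
    have h3 : Fintype.card F ≤ D := by
      by_contra hcon
      push_neg at hcon
      exact hsl F hcon (Cfsg.Agent.Lib.Helper1.Lw.lawPQ_sl2_of_gl (by omega) h2')
    have h4 : m < n₀ := by
      by_contra hcon
      push_neg at hcon
      exact hperm (Fin m) (by simpa using hcon) (Cfsg.Agent.Lib.Helper1.Lw.lawPQ_perm_of_gl h2')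
    have h5 : Nat.card G = Nat.card (POmega F (quadFormOdd m F)) := Nat.card_congr e.toEquiv
    have h7 := Cfsg.Agent.Lib.Helper1.Lw.card_pomega_le (F := F) (quadFormOdd m F)
    have h8 : Nat.card F ^ (Fintype.card (Unit ⊕ (Fin m ⊕ Fin m)) *
        Fintype.card (Unit ⊕ (Fin m ⊕ Fin m))) ≤
        ((D + 1) ^ 2) ^ ((2 * n₀ + 2) * (2 * n₀ + 2)) := by
      apply Cfsg.Agent.Lib.Helper1.Lw.pow_bound _ _ hB
      · rw [Nat.card_eq_fintype_card]; omega
      · rw [Fintype.card_sum, Fintype.card_sum, Fintype.card_fin, Fintype.card_unit]; omega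
    rw [h5]
    exact le_trans (le_trans h7 h8) (le_max_right _ _)
  · -- POmega plus
    obtain ⟨F, _, _, m, hm, ⟨e⟩⟩ := h
    have h1 := Cfsg.Agent.Lib.Helper1.Lw.law_congr e hlaw
    have h2 : Cfsg.Agent.Lib.Helper1.Lw.LawPQ w ↥(isometryGroup F (quadFormPlus m F)) :=
      Cfsg.Agent.Lib.Helper1.Lw.lawPQ_of_law_pomega h1
    have h2' := Cfsg.Agent.Lib.Helper1.Lw.lawPQ_gl_of_plus h2
    have h3 : Fintype.card F ≤ D := by
      by_contra hcon
      push_neg at hcon
      exact hsl F hcon (Cfsg.Agent.Lib.Helper1.Lw.lawPQ_sl2_of_gl (by omega) h2')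
    have h4 : m < n₀ := by
      by_contra hcon
      push_neg at hcon
      exact hperm (Fin m) (by simpa using hcon) (Cfsg.Agent.Lib.Helper1.Lw.lawPQ_perm_of_gl h2')
    have h5 : Nat.card G = Nat.card (POmega F (quadFormPlus m F)) := Nat.card_congr e.toEquiv
    have h7 := Cfsg.Agent.Lib.Helper1.Lw.card_pomega_le (F := F) (quadFormPlus m F)
    have h8 : Nat.card F ^ (Fintype.card (Fin m ⊕ Fin m) * Fintype.card (Fin m ⊕ Fin m)) ≤
        ((D + 1) ^ 2) ^ ((2 * n₀ + 2) * (2 * n₀ + 2)) := by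
      apply Cfsg.Agent.Lib.Helper1.Lw.pow_bound _ _ hB
      · rw [Nat.card_eq_fintype_card]; omega
      · rw [Fintype.card_sum, Fintype.card_fin]; omega
    rw [h5]
    exact le_trans (le_trans h7 h8) (le_max_right _ _)
  · -- POmega minus
    obtain ⟨F, _, _, m, a, b, hm, haniso, ⟨e⟩⟩ := h
    have h1 := Cfsg.Agent.Lib.Helper1.Lw.law_congr e hlaw
    have h2 : Cfsg.Agent.Lib.Helper1.Lw.LawPQ w
        ↥(isometryGroup F (quadFormMinus (m - 1) F a b)) :=
      Cfsg.Agent.Lib.Helper1.Lw.lawPQ_of_law_pomega h1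
    have h2' := Cfsg.Agent.Lib.Helper1.Lw.lawPQ_gl_of_minus a b h2
    have h3 : Fintype.card F ≤ D := by
      by_contra hcon
      push_neg at hcon
      exact hsl F hcon (Cfsg.Agent.Lib.Helper1.Lw.lawPQ_sl2_of_gl (by omega) h2')
    have h4 : m - 1 < n₀ := by
      by_contra hcon
      push_neg at hcon
      exact hperm (Fin (m - 1)) (by simpa using hcon)
        (Cfsg.Agent.Lib.Helper1.Lw.lawPQ_perm_of_gl h2')
    have h5 : Nat.card G = Nat.card (POmega F (quadFormMinus (m - 1) F a b)) :=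
      Nat.card_congr e.toEquiv
    have h7 := Cfsg.Agent.Lib.Helper1.Lw.card_pomega_le (F := F) (quadFormMinus (m - 1) F a b)
    have h8 : Nat.card F ^ (Fintype.card ((Fin (m - 1) ⊕ Fin (m - 1)) ⊕ Fin 2) *
        Fintype.card ((Fin (m - 1) ⊕ Fin (m - 1)) ⊕ Fin 2)) ≤
        ((D + 1) ^ 2) ^ ((2 * n₀ + 2) * (2 * n₀ + 2)) := by
      apply Cfsg.Agent.Lib.Helper1.Lw.pow_bound _ _ hB
      · rw [Nat.card_eq_fintype_card]; omega
      · rw [Fintype.card_sum, Fintype.card_sum, Fintype.card_fin, Fintype.card_fin]; omega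
    rw [h5]
    exact le_trans (le_trans h7 h8) (le_max_right _ _)

end Cfsg.Agent.S2355
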