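import Mathlib
import Cfsg.Statements.S2363
import Cfsg.Agent.Lib.Helper5.LieOrd.Classical
import Cfsg.Agent.Lib.Helper5.LieOrd.Exceptional

set_option autoImplicit false
open Cfsg

namespace Cfsg.Agent.S2363

/-- Let G be a finite simple group of Lie type in characteristic p and let p^k be the exact power of p dividing the order of G. Then the order of G is less than p^(3k); and unless G is isomorphic to PSL(2, F) for the field F with p^k elements, the cube of the order of G is less than p^(8k) (that is, the order is below p^(8k/3)). -/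
theorem result {G : Type*} [Group G] [Finite G] (p : ℕ) (hp : p.Prime) (hG : Cfsg.IsLieTypeChar p G) :
    Nat.card G < p ^ (3 * (Nat.card G).factorization p) ∧
      ((¬ ∃ (F : Type) (_ : Field F) (_ : Fintype F), Fintype.card F = p ^ (Nat.card G).factorization p ∧
          Nonempty (G ≃* Matrix.ProjectiveSpecialLinearGroup (Fin 2) F)) →
        Nat.card G ^ 3 < p ^ (8 * (Nat.card G).factorization p)) := by
  have tr : ∀ {H : Type} [Group H], (G ≃* H) → Nat.card G = Nat.card H :=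
    fun e => Nat.card_congr e.toEquiv
  rcases hG with h | h | h | h | h | h | h | h | h | h | h
  · obtain ⟨F, _, _, _, n, hn, -, ⟨e⟩⟩ := h
    rw [tr e]
    obtain ⟨b1, b2, b3⟩ := Cfsg.Agent.Lib.Helper5.LieOrd.psl_bounds hp F n hn
    refine ⟨b1, fun hne => ?_⟩
    rcases Nat.lt_or_ge n 3 with h3 | h3
    · obtain rfl : n = 2 := by omega
      exact absurd ⟨F, _, _, b3 rfl, ⟨e⟩⟩ hne
    · exact b2 h3
  · obtain ⟨F, _, _, _, m, hm, -, ⟨e⟩⟩ := h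
    rw [tr e]
    obtain ⟨b1, b2⟩ := Cfsg.Agent.Lib.Helper5.LieOrd.psp_bounds hp F m hm
    exact ⟨b1, fun _ => b2⟩
  · obtain ⟨F, _, _, _, n, q, hF, hn, -, ⟨e⟩⟩ := h
    rw [tr e]
    obtain ⟨b1, b2⟩ := Cfsg.Agent.Lib.Helper5.LieOrd.psu_bounds hp F n q hF hn
    exact ⟨b1, fun _ => b2⟩
  · obtain ⟨F, _, _, _, m, hm, hodd, ⟨e⟩⟩ := h
    rw [tr e]
    obtain ⟨b1, b2⟩ := Cfsg.Agent.Lib.Helper5.LieOrd.podd_bounds hp F m hm hodd
    exact ⟨b1, fun _ => b2⟩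
  · obtain ⟨F, _, _, _, m, hm, ⟨e⟩⟩ := h
    rw [tr e]
    obtain ⟨b1, b2⟩ := Cfsg.Agent.Lib.Helper5.LieOrd.pplus_bounds hp F m hm
    exact ⟨b1, fun _ => b2⟩
  · obtain ⟨F, _, _, _, m, a, b, hm, hab, ⟨e⟩⟩ := h
    rw [tr e]
    obtain ⟨b1, b2⟩ := Cfsg.Agent.Lib.Helper5.LieOrd.pminus_bounds hp F m hm a b hab
    exact ⟨b1, fun _ => b2⟩
  · obtain ⟨F, _, _, _, h⟩ := h
    rcases h with ⟨-, ⟨e⟩⟩ | ⟨⟨e⟩⟩ | ⟨⟨e⟩⟩ | ⟨⟨e⟩⟩ | ⟨⟨e⟩⟩
    · rw [tr e]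
      obtain ⟨b1, b2⟩ := Cfsg.Agent.Lib.Helper5.LieOrd.g2_bounds hp F
      exact ⟨b1, fun _ => b2⟩
    · rw [tr e]
      obtain ⟨b1, b2⟩ := Cfsg.Agent.Lib.Helper5.LieOrd.f4_bounds hp F
      exact ⟨b1, fun _ => b2⟩
    · rw [tr e]
      obtain ⟨b1, b2⟩ := Cfsg.Agent.Lib.Helper5.LieOrd.e6_bounds hp F
      exact ⟨b1, fun _ => b2⟩
    · rw [tr e]
      obtain ⟨b1, b2⟩ := Cfsg.Agent.Lib.Helper5.LieOrd.e7_bounds hp F
      exact ⟨b1, fun _ => b2⟩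
    · rw [tr e]
      obtain ⟨b1, b2⟩ := Cfsg.Agent.Lib.Helper5.LieOrd.e8_bounds hp F
      exact ⟨b1, fun _ => b2⟩
  · obtain ⟨K, _, _, _, q, hq, h⟩ := h
    rcases h with ⟨hK, ⟨e⟩⟩ | ⟨hK, ⟨e⟩⟩
    · rw [tr e]
      obtain ⟨b1, b2⟩ := Cfsg.Agent.Lib.Helper5.LieOrd.twE6_bounds hp K q hq hK
      exact ⟨b1, fun _ => b2⟩
    · rw [tr e]
      obtain ⟨b1, b2⟩ := Cfsg.Agent.Lib.Helper5.LieOrd.twD4_bounds hp K q hq hK
      exact ⟨b1, fun _ => b2⟩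
  · obtain ⟨rfl, F, _, _, m, hm, hF, ⟨e⟩⟩ := h
    rw [tr e]
    obtain ⟨b1, b2⟩ := Cfsg.Agent.Lib.Helper5.LieOrd.sz_bounds F m hm hF
    exact ⟨b1, fun _ => b2⟩
  · obtain ⟨rfl, K, _, _, m, -, hK, ⟨e⟩⟩ := h
    rw [tr e]
    obtain ⟨b1, b2⟩ := Cfsg.Agent.Lib.Helper5.LieOrd.twF4_bounds K m hK
    exact ⟨b1, fun _ => b2⟩
  · obtain ⟨rfl, K, _, _, m, -, hK, ⟨e⟩⟩ := h
    rw [tr e]
    obtain ⟨b1, b2⟩ := Cfsg.Agent.Lib.Helper5.LieOrd.twG2_bounds K m hK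
    exact ⟨b1, fun _ => b2⟩

end Cfsg.Agent.S2363
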