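import Cfsg.Statements.S2368
import Cfsg.Agent.S2260

set_option autoImplicit false
open Cfsg

namespace Cfsg.Agent.S2368

/-- the shift matrix -/
def shiftM (F : Type*) [Field F] (m : ℕ) : Matrix (Fin m) (Fin m) F :=
  Matrix.of (fun i j : Fin m => if j.val = i.val + 1 then (1 : F) else 0)

theorem shiftM_pow {F : Type*} [Field F] (m k : ℕ) (i j : Fin m) :
    (shiftM F m ^ k) i j = if j.val = i.val + k then (1 : F) else 0 := by
  induction k generalizing i j with
  | zero =>
    simp only [pow_zero, add_zero, Matrix.one_apply]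
    by_cases h : i = j
    · simp [h]
    · have : ¬ j.val = i.val := fun h' => h (Fin.ext h'.symm)
      simp [h, this]
  | succ k ih =>
    rw [pow_succ, Matrix.mul_apply]
    by_cases h : j.val = i.val + (k + 1)
    · rw [if_pos h]
      have hl : i.val + k < m := by have := j.2; omega
      rw [Finset.sum_eq_single (⟨i.val + k, hl⟩ : Fin m)]
      · rw [ih]
        simp only [shiftM, Matrix.of_apply]
        simp [h, add_assoc]
      · intro l _ hne
        rw [ih]
        have : ¬ l.val = i.val + k := fun h' => hne (Fin.ext h')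
        simp [this]
      · intro h'; exact absurd (Finset.mem_univ _) h'
    · rw [if_neg h]
      apply Finset.sum_eq_zero
      intro l _
      rw [ih]
      simp only [shiftM, Matrix.of_apply]
      by_cases h1 : l.val = i.val + k
      · have : ¬ j.val = l.val + 1 := by omega
        simp [this]
      · simp [h1]

theorem result {F : Type*} [Field F] [Fintype F] (p : ℕ) [Fact p.Prime] [CharP F p] (m : ℕ) (hm : 1 ≤ m) :
    (∀ g : Matrix.GeneralLinearGroup (Fin m) F, (∃ j : ℕ, orderOf g = p ^ j) → orderOf g < p * m) ∧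
      ∃ g : Matrix.GeneralLinearGroup (Fin m) F, (∃ j : ℕ, orderOf g = p ^ j) ∧ m ≤ orderOf g := by
  have hpp : p.Prime := Fact.out
  have hclog : p ^ Nat.clog p m < p * m := by
    rcases Nat.lt_or_ge 1 m with h1 | h1
    · have h2 : p ^ (Nat.clog p m - 1) < m := Nat.pow_pred_clog_lt_self hpp.one_lt h1
      have h3 : 0 < Nat.clog p m := Nat.clog_pos hpp.one_lt h1
      have : p ^ Nat.clog p m = p * p ^ (Nat.clog p m - 1) := by
        rw [← pow_succ']; congr 1; omega
      rw [this]
      exact Nat.mul_lt_mul_of_pos_left h2 hpp.pos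
    · have : m = 1 := le_antisymm h1 hm
      subst this
      simp [hpp.one_lt]
  constructor
  · rintro g ⟨j, hj⟩
    have hnil : IsNilpotent ((g : Matrix (Fin m) (Fin m) F) - 1) := by
      refine ⟨p ^ j, ?_⟩
      have : Nonempty (Fin m) := ⟨⟨0, hm⟩⟩
      rw [sub_pow_char_pow_of_commute _ _ (Commute.one_right _), one_pow, ← Units.val_pow_eq_pow_val,
        ← hj, pow_orderOf_eq_one, Units.val_one, sub_self]
    exact lt_of_le_of_lt (Cfsg.Agent.S2260.result p m g hnil).1 hclog
  · have hN : IsNilpotent (shiftM F m) := by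
      refine ⟨m, ?_⟩
      ext i j
      rw [shiftM_pow]
      have : ¬ j.val = i.val + m := by have := j.2; omega
      simp [this]
    have hu : IsUnit (1 + shiftM F m) := hN.isUnit_one_add
    refine ⟨hu.unit, ?_⟩
    have hnil' : IsNilpotent (((hu.unit : GL (Fin m) F) : Matrix (Fin m) (Fin m) F) - 1) := by
      rw [IsUnit.unit_spec]; simpa using hN
    have hne : (((hu.unit : GL (Fin m) F) : Matrix (Fin m) (Fin m) F) - 1) ^ (m - 1) ≠ 0 := by
      rw [IsUnit.unit_spec]
      simp only [add_sub_cancel_left]
      intro h0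
      have := congrFun (congrFun h0 ⟨0, hm⟩) ⟨m - 1, by omega⟩
      rw [shiftM_pow] at this
      simp at this
    have := (Cfsg.Agent.S2260.result p m hu.unit hnil').2 hne
    refine ⟨⟨_, this⟩, ?_⟩
    rw [this]
    exact Nat.le_pow_clog hpp.one_lt m

end Cfsg.Agent.S2368
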