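import Cfsg.Statements.S2369
import Cfsg.Agent.Lib.Helper3.BT2Main
import Cfsg.Agent.Lib.Helper2.BT2N

set_option autoImplicit false
open Cfsg

namespace Cfsg.Agent.S2369

/-- Let q = 2^(2m+1) with m ≥ 1 and let a, b be commuting elements of the large Ree group ²F₄(q) with a an involution. Then every prime divisor of the order of b divides q(q⁴ − 1). -/
theorem result {K : Type*} [Field K] [Fintype K] (m : ℕ) (hm : 1 ≤ m) (hK : Fintype.card K = 2 ^ (2 * m + 1))
    (a b : ↥(Cfsg.Lie.twistedF4 K (2 ^ m))) (ha : orderOf a = 2) (hab : Commute a b) :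
    (orderOf b).primeFactors ⊆ (2 ^ (2 * m + 1) * ((2 ^ (2 * m + 1)) ^ 4 - 1)).primeFactors := by
  have : CharP K 2 := Cfsg.Agent.Lib.Helper5.F4T.charP_of_card hK
  have hq : ∀ x : K, x ^ 2 ^ (2 * m + 1) = x := by
    intro x
    rw [← hK]
    exact FiniteField.pow_card x
  exact Cfsg.Agent.Lib.Helper3.BT2.main_of_eq m hq hK
    (fun s hs p hp hdvd => Cfsg.Agent.Lib.Helper2.BT2.N_parabolic_primes m hq hK s hs p hp hdvd)
    (Cfsg.Lie.twistedF4 K (2 ^ m)) (Cfsg.Agent.Lib.Helper5.F4T.twisted_eq_fixG m hK hq) a b ha hab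

end Cfsg.Agent.S2369
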