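import Mathlib
import Cfsg.Statements.S2391

set_option autoImplicit false
open Cfsg

namespace Cfsg.Agent.S2391

open Matrix

section key
variable {F : Type*} [Field F] (p : ℕ) [Fact p.Prime] [CharP F p]
  {G : Type*} [Group G] {V : Type*} [AddCommGroup V] [Module F V] [Finite V]

lemma key (hG : IsPGroup p G) (ρ : Representation F G V) (S : Submodule F V)
    (hS : ∀ g, S ≤ S.comap (ρ g)) (hne : S ≠ ⊤) : ∃ v, v ∉ S ∧ ∀ g, ρ g v - v ∈ S := by
  classical
  let ρ' := ρ.quotient S hS
  let _ : MulAction G (V ⧸ S) := MulAction.compHom (V ⧸ S) (ρ' : G →* Module.End F (V ⧸ S))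
  have hsmul : ∀ (g : G) (x : V ⧸ S), g • x = ρ' g x := fun _ _ => rfl
  have : Nontrivial (V ⧸ S) :=
    Submodule.Quotient.nontrivial_iff.mpr hne
  have : Finite (V ⧸ S) := Finite.of_surjective _ (Submodule.Quotient.mk_surjective S)
  have hp : p ∣ Nat.card (V ⧸ S) := by
    obtain ⟨x, hx⟩ := exists_ne (0 : V ⧸ S)
    have h1 : p • x = 0 := by
      rw [← Nat.cast_smul_eq_nsmul F, CharP.cast_eq_zero, zero_smul]
    have h2 : addOrderOf x ∣ p := addOrderOf_dvd_of_nsmul_eq_zero h1
    have h3 : addOrderOf x = p := by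
      rcases (Nat.dvd_prime Fact.out).mp h2 with h | h
      · exact absurd (AddMonoid.addOrderOf_eq_one_iff.mp h) hx
      · exact h
    rw [← h3]
    exact addOrderOf_dvd_natCard x
  have h0 : (0 : V ⧸ S) ∈ MulAction.fixedPoints G (V ⧸ S) := by
    intro g
    rw [hsmul, map_zero]
  obtain ⟨b, hb, hb0⟩ := hG.exists_fixed_point_of_prime_dvd_card_of_fixed_point (V ⧸ S) hp h0
  obtain ⟨v, rfl⟩ := Submodule.Quotient.mk_surjective S b
  refine ⟨v, ?_, ?_⟩
  · intro hv
    apply hb0
    exact ((Submodule.Quotient.mk_eq_zero S).mpr hv).symm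
  · intro g
    have := hb g
    rw [hsmul] at this
    rw [Representation.quotient_apply, Submodule.mapQ_apply] at this
    exact (Submodule.Quotient.eq S).mp this

end key

section main
variable {F : Type*} [Field F] {n : ℕ} (U : Subgroup (Matrix.SpecialLinearGroup (Fin n) F))

/-- the linear map of a group element -/
abbrev L (g : Matrix.SpecialLinearGroup (Fin n) F) : (Fin n → F) →ₗ[F] (Fin n → F) :=
  Matrix.mulVecLin (g : Matrix (Fin n) (Fin n) F)

lemma L_one : L (1 : Matrix.SpecialLinearGroup (Fin n) F) = LinearMap.id := by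
  simp [L]

lemma L_mul (g h : Matrix.SpecialLinearGroup (Fin n) F) : L (g * h) = (L g).comp (L h) := by
  simp [L, Matrix.mulVecLin_mul]

lemma L_mul_apply (g h : Matrix.SpecialLinearGroup (Fin n) F) (v : Fin n → F) :
    L (g * h) v = L g (L h v) := by
  rw [L_mul]; rfl

lemma L_inv_apply (g : Matrix.SpecialLinearGroup (Fin n) F) (v : Fin n → F) :
    L g⁻¹ (L g v) = v := by
  rw [← L_mul_apply, inv_mul_cancel, L_one]; rfl

lemma L_apply_inv (g : Matrix.SpecialLinearGroup (Fin n) F) (v : Fin n → F) :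
    L g (L g⁻¹ v) = v := by
  rw [← L_mul_apply, mul_inv_cancel, L_one]; rfl

/-- the ascending fixed point series -/
def W : ℕ → Submodule F (Fin n → F)
  | 0 => ⊥
  | (i + 1) => ⨅ u : U, (W i).comap (L (u : Matrix.SpecialLinearGroup (Fin n) F) - LinearMap.id)

lemma W_zero : W U 0 = ⊥ := rfl

lemma mem_W_succ (i : ℕ) (v : Fin n → F) :
    v ∈ W U (i + 1) ↔ ∀ u ∈ U, L u v - v ∈ W U i := by
  simp only [W, Submodule.mem_iInf, Submodule.mem_comap, LinearMap.sub_apply, LinearMap.id_apply,
    Subtype.forall]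

lemma W_mono_succ (i : ℕ) : W U i ≤ W U (i + 1) := by
  induction i with
  | zero => rw [W_zero]; exact bot_le
  | succ i ih =>
    intro v hv
    rw [mem_W_succ] at hv ⊢
    intro u hu
    exact ih (hv u hu)

lemma W_invariant (i : ℕ) (u : Matrix.SpecialLinearGroup (Fin n) F) (hu : u ∈ U)
    (v : Fin n → F) (hv : v ∈ W U i) : L u v ∈ W U i := by
  cases i with
  | zero =>
    rw [W_zero, Submodule.mem_bot] at hv ⊢
    rw [hv, map_zero]
  | succ i =>
    have h1 : L u v - v ∈ W U i := (mem_W_succ U i v).mp hv u hu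
    have h2 : L u v = v + (L u v - v) := by abel
    rw [h2]
    exact Submodule.add_mem _ hv (W_mono_succ U i h1)

lemma W_normalizer_le (i : ℕ) (g : Matrix.SpecialLinearGroup (Fin n) F)
    (hg : g ∈ Subgroup.normalizer (U : Set (Matrix.SpecialLinearGroup (Fin n) F)))
    (v : Fin n → F) (hv : v ∈ W U i) : L g v ∈ W U i := by
  induction i generalizing v with
  | zero =>
    rw [W_zero, Submodule.mem_bot] at hv ⊢
    rw [hv, map_zero]
  | succ i ih =>
    rw [mem_W_succ] at hv ⊢
    intro u hu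
    have hu' : g⁻¹ * u * g ∈ U := (Subgroup.mem_normalizer_iff''.mp hg u).mp hu
    have h1 := ih _ (hv _ hu')
    have h2 : L g (L (g⁻¹ * u * g) v - v) = L u (L g v) - L g v := by
      rw [map_sub, L_mul_apply, L_mul_apply, L_apply_inv]
    rw [← h2]
    exact h1

lemma W_normalizer_map (i : ℕ) (g : Matrix.SpecialLinearGroup (Fin n) F)
    (hg : g ∈ Subgroup.normalizer (U : Set (Matrix.SpecialLinearGroup (Fin n) F))) :
    (W U i).map (L g) = W U i := by
  apply le_antisymm
  · rintro _ ⟨v, hv, rfl⟩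
    exact W_normalizer_le U i g hg v hv
  · intro v hv
    refine ⟨L g⁻¹ v, W_normalizer_le U i g⁻¹ (Subgroup.inv_mem _ hg) v hv, L_apply_inv g v⟩

end main

section finite
variable {F : Type*} [Field F] [Fintype F] (p : ℕ) [Fact p.Prime] [CharP F p] {n : ℕ}
  (U : Subgroup (Matrix.SpecialLinearGroup (Fin n) F))

lemma W_strict (hU : IsPGroup p ↥U) (i : ℕ) (hi : W U i ≠ ⊤) : W U i < W U (i + 1) := by
  let ρ : Representation F U (Fin n → F) :=
    { toFun := fun u => L (u : Matrix.SpecialLinearGroup (Fin n) F)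
      map_one' := L_one
      map_mul' := fun a b => by
        show L ((a * b : U) : Matrix.SpecialLinearGroup (Fin n) F) = _
        rw [Subgroup.coe_mul, L_mul]
        rfl }
  have hS : ∀ g : U, W U i ≤ (W U i).comap (ρ g) := fun g v hv => W_invariant U i g g.2 v hv
  obtain ⟨v, hv, hv'⟩ := key p hU ρ (W U i) hS hi
  refine lt_of_le_of_ne (W_mono_succ U i) ?_
  intro heq
  apply hv
  rw [heq, mem_W_succ]
  intro u hu
  exact hv' ⟨u, hu⟩

lemma W_top_or (hU : IsPGroup p ↥U) (i : ℕ) :
    W U i = ⊤ ∨ i ≤ Module.finrank F (W U i) := by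
  induction i with
  | zero => right; exact Nat.zero_le _
  | succ i ih =>
    by_cases hi : W U i = ⊤
    · left
      exact top_le_iff.mp (hi ▸ W_mono_succ U i)
    · right
      have h1 := ih.resolve_left hi
      have h2 := Submodule.finrank_lt_finrank_of_lt (W_strict p U hU i hi)
      omega

lemma W_eventually_top (hU : IsPGroup p ↥U) : ∃ K, W U K = ⊤ := by
  refine ⟨n, ?_⟩
  rcases W_top_or p U hU n with h | h
  · exact h
  · apply Submodule.eq_top_of_finrank_eq
    have h1 := Submodule.finrank_le (W U n)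
    rw [Module.finrank_fin_fun] at h1 ⊢
    omega

end finite

theorem result {F : Type*} [Field F] [Fintype F] (p : ℕ) [Fact p.Prime] [CharP F p] (n : ℕ)
    (U : Subgroup (Matrix.SpecialLinearGroup (Fin n) F)) (hU : IsPGroup p ↥U) (hne : U ≠ ⊥) :
    ∃ (k : ℕ) (V : Fin (k + 2) → Submodule F (Fin n → F)), 1 ≤ k ∧ StrictMono V ∧ V 0 = ⊥ ∧ V (Fin.last (k + 1)) = ⊤ ∧
      (∀ g ∈ Subgroup.normalizer (U : Set (Matrix.SpecialLinearGroup (Fin n) F)), ∀ i, (V i).map (Matrix.mulVecLin (g : Matrix (Fin n) (Fin n) F)) = V i) ∧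
      (∀ u ∈ U, ∀ i : Fin (k + 1), ∀ v ∈ V i.succ, (u : Matrix (Fin n) (Fin n) F).mulVec v - v ∈ V (Fin.castSucc i)) := by
  classical
  have hex := W_eventually_top p U hU
  -- W 1 ≠ ⊤
  have hW1 : W U 1 ≠ ⊤ := by
    intro h1
    apply hne
    rw [Subgroup.eq_bot_iff_forall]
    intro u hu
    apply Subtype.ext
    apply Matrix.toLin'.injective
    refine LinearMap.ext fun v => ?_
    have hv : v ∈ W U 1 := h1 ▸ Submodule.mem_top
    have := (mem_W_succ U 0 v).mp hv u hu
    rw [W_zero, Submodule.mem_bot, sub_eq_zero] at this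
    simp only [Matrix.toLin'_apply, Matrix.SpecialLinearGroup.coe_one, Matrix.one_mulVec]
    exact this
  have hW0 : W U 0 ≠ ⊤ := by
    intro h0
    apply hW1
    exact top_le_iff.mp (h0 ▸ W_mono_succ U 0)
  set K := Nat.find hex with hK
  have hKtop : W U K = ⊤ := Nat.find_spec hex
  have hKmin : ∀ i < K, W U i ≠ ⊤ := fun i hi => Nat.find_min hex hi
  have hK2 : 2 ≤ K := by
    by_contra hlt
    push Not at hlt
    interval_cases K
    · exact hW0 hKtop
    · exact hW1 hKtop
  obtain ⟨k, hk⟩ : ∃ k, K = k + 1 := ⟨K - 1, by omega⟩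
  refine ⟨k, fun i => W U i.val, by omega, ?_, rfl, ?_, ?_, ?_⟩
  · rw [Fin.strictMono_iff_lt_succ]
    intro i
    apply W_strict p U hU
    apply hKmin
    have := i.isLt
    simp only [Fin.val_castSucc]
    omega
  · simp only [Fin.val_last]
    rw [← hk]
    exact hKtop
  · intro g hg i
    exact W_normalizer_map U i.val g hg
  · intro u hu i v hv
    simp only [Fin.val_succ] at hv
    exact (mem_W_succ U i.val v).mp hv u hu

end Cfsg.Agent.S2391
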