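import Mathlib
import Cfsg.Statements.S2393
import Cfsg.Agent.Lib.Lead.LS4

set_option autoImplicit false

open Cfsg

namespace Cfsg.Agent.S2393

theorem result {F : Type*} [Field F] [Fintype F] {q : ℕ} (hq : Fintype.card F = q) (hodd : Odd q) (n : ℕ) (hn : 2 ≤ n)
    {K : Type*} [Field K] (hK : ringChar K ≠ ringChar F) {d : ℕ}
    (ρ : ↥(Matrix.symplecticGroup (Fin n) F) →* GL (Fin d) K) (hker : ρ.ker ≤ Subgroup.center ↥(Matrix.symplecticGroup (Fin n) F)) :
    q ^ (n - 1) * (q - 1) / 2 ≤ d := by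
  subst hq
  exact Cfsg.Agent.Lib.Lead.LS4.main_sp_final hK hodd (by omega) ρ hker

end Cfsg.Agent.S2393
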