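import Cfsg.Statements.S2394
import Mathlib
import Cfsg.Agent.S0245
import Cfsg.Agent.S2904

set_option autoImplicit false
open scoped MatrixGroups
open Cfsg

namespace Cfsg.Agent.S2394

/-- The smallest degree of a faithful representation of the symplectic group `Sp_{2n}(q)` over its own field `F_q` is `2n`: every injective homomorphism from `Sp_{2n}(F)` to `GL_d(F)`, `F` the field with `q` elements, has `d ≥ 2n`. -/
theorem result {F : Type*} [Field F] [Fintype F] (n : ℕ) {d : ℕ}
    (ρ : ↥(Matrix.symplecticGroup (Fin n) F) →* GL (Fin d) F) (hρ : Function.Injective ρ) : 2 * n ≤ d := by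
  classical
  by_contra hlt
  push Not at hlt
  have hq : 1 < Fintype.card F := Fintype.one_lt_card
  obtain ⟨q, hqF⟩ : ∃ q, Fintype.card F = q := ⟨_, rfl⟩
  rw [hqF] at hq
  -- the order of the symplectic group divides the order of GL_d
  have hdvd : Nat.card (Matrix.symplecticGroup (Fin n) F) ∣ Nat.card (GL (Fin d) F) := by
    rw [Nat.card_congr (MonoidHom.ofInjective hρ).toEquiv]
    exact Subgroup.card_subgroup_dvd_card _
  rw [Cfsg.Agent.S0245.result hqF n, Matrix.card_GL_field, hqF] at hdvd
  rcases Nat.lt_or_ge n 2 with hn | hn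
  · -- n = 1 (n = 0 is impossible)
    have hn1 : n = 1 := by omega
    subst hn1
    have hd : d ≤ 1 := by omega
    -- GL_d is commutative
    have hcomm : ∀ a b : GL (Fin d) F, a * b = b * a := by
      intro a b
      apply Units.ext
      rw [Units.val_mul, Units.val_mul]
      ext i j
      have hi : ∀ k : Fin d, k = i := fun k => Fin.ext (by omega)
      simp only [Matrix.mul_apply]
      apply Finset.sum_congr rfl
      intro k _
      rw [hi k, ← hi j, mul_comm]
    -- two noncommuting elements of Sp_2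
    let A : Matrix (Fin 1 ⊕ Fin 1) (Fin 1 ⊕ Fin 1) F := Matrix.fromBlocks 1 1 0 1
    let B : Matrix (Fin 1 ⊕ Fin 1) (Fin 1 ⊕ Fin 1) F := Matrix.fromBlocks 1 0 1 1
    have hA : A ∈ Matrix.symplecticGroup (Fin 1) F := by
      rw [SymplecticGroup.mem_iff]
      simp [A, Matrix.J, Matrix.fromBlocks_multiply, Matrix.fromBlocks_transpose]
    have hB : B ∈ Matrix.symplecticGroup (Fin 1) F := by
      rw [SymplecticGroup.mem_iff]
      simp [B, Matrix.J, Matrix.fromBlocks_multiply, Matrix.fromBlocks_transpose]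
    have h1 := hcomm (ρ ⟨A, hA⟩) (ρ ⟨B, hB⟩)
    rw [← map_mul, ← map_mul] at h1
    have h2 := congrArg Subtype.val (hρ h1)
    have h3 : A * B = B * A := h2
    simp only [A, B, Matrix.fromBlocks_multiply] at h3
    have h4 := congrFun (congrFun h3 (Sum.inl 0)) (Sum.inl 0)
    simp at h4
  · by_cases h6 : q = 2 ∧ 2 * n = 6
    · obtain ⟨rfl, hn3⟩ := h6
      have hn3' : n = 3 := by omega
      subst hn3'
      have hd : d < 6 := hlt
      interval_cases d <;> simp [Fin.prod_univ_succ, Finset.prod_range_succ] at hdvd <;> omega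
    · obtain ⟨r, hr, hrdvd, hprim⟩ := Cfsg.Agent.S2904.result q (2 * n) hq (by omega) h6
        (by rintro ⟨h, -⟩; omega)
      have hr1 : r ∣ q ^ (n ^ 2) * ∏ i ∈ Finset.range n, (q ^ (2 * (i + 1)) - 1) := by
        apply Dvd.dvd.mul_left
        apply dvd_trans _ (Finset.dvd_prod_of_mem _ (Finset.mem_range.mpr (show n - 1 < n by omega)))
        have : 2 * (n - 1 + 1) = 2 * n := by omega
        rw [this]
        exact hrdvd
      have hr2 := dvd_trans hr1 hdvd
      obtain ⟨i, -, hi⟩ := (Prime.dvd_finset_prod_iff hr.prime _).mp hr2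
      have hrq : ¬ r ∣ q := by
        intro h
        have h1 : r ∣ q ^ (2 * n) := dvd_pow h (by omega)
        have h2 : 1 ≤ q ^ (2 * n) := Nat.one_le_pow _ _ (by omega)
        have h3 : r ∣ q ^ (2 * n) - (q ^ (2 * n) - 1) := Nat.dvd_sub h1 hrdvd
        have h4 : q ^ (2 * n) - (q ^ (2 * n) - 1) = 1 := by omega
        rw [h4] at h3
        exact hr.one_lt.ne' (Nat.dvd_one.mp h3)
      have hfac : q ^ d - q ^ (i : ℕ) = q ^ (i : ℕ) * (q ^ (d - (i : ℕ)) - 1) := by
        have hi' : (i : ℕ) ≤ d := i.2.le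
        rw [Nat.mul_sub, mul_one, ← pow_add, Nat.add_sub_cancel' hi']
      rw [hfac] at hi
      rcases (Nat.Prime.dvd_mul hr).mp hi with h | h
      · exact hrq (hr.dvd_of_dvd_pow h)
      · have hk1 : 0 < d - (i : ℕ) := by have := i.2; omega
        have hk2 : d - (i : ℕ) < 2 * n := by omega
        exact hprim _ hk1 hk2 h

end Cfsg.Agent.S2394
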