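import Mathlib
import Cfsg.Statements.S2405
import Cfsg.Agent.Lib.Helper1.TGMainT
import Cfsg.Agent.Lib.Helper7.Ch2G5
import Cfsg.Agent.Lib.Helper9.Ch2GYB

set_option autoImplicit false
open Cfsg

namespace Cfsg.Agent.S2405

/-- Each Chevalley group of type G₂, B₂, D₄, F₄, E₆, E₇ or E₈ over a finite field is generated by two of its elements (types B₂ and G₂ over the field with two elements, where the group is not simple, excepted). -/
theorem result {F : Type*} [Field F] [Finite F] (D : Cfsg.Lie.ChevalleyDatum) (hD : D ∈ [Cfsg.Lie.chevG2, Cfsg.Lie.chevB2, Cfsg.Lie.chevD4, Cfsg.Lie.chevF4, Cfsg.Lie.chevE6, Cfsg.Lie.chevE7, Cfsg.Lie.chevE8])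
    (hF : D ∈ [Cfsg.Lie.chevB2, Cfsg.Lie.chevG2] → ∃ x : F, x ≠ 0 ∧ x ≠ 1) :
    ∃ a b : ↥(D.group F), Subgroup.closure ({a, b} : Set ↥(D.group F)) = ⊤ := by
  classical
  have := Fintype.ofFinite F
  have key : ∃ a b : GL D.Idx F, a ∈ D.group F ∧ b ∈ D.group F ∧
      D.group F ≤ Subgroup.closure {a, b} := by
    rcases Cfsg.Agent.Lib.Helper7.Ch2G.card_two_or_three_le F with h2 | h3
    · simp only [List.mem_cons, List.not_mem_nil, or_false] at hD hF
      rcases hD with rfl | rfl | rfl | rfl | rfl | rfl | rfl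
      · exfalso
        have := Cfsg.Agent.Lib.Helper7.Ch2G.three_le_card_of_exists F (hF (Or.inr rfl))
        omega
      · exfalso
        have := Cfsg.Agent.Lib.Helper7.Ch2G.three_le_card_of_exists F (hF (Or.inl rfl))
        omega
      · exact Cfsg.Agent.Lib.Helper9.Ch2GYA.twoGenY_D4 h2
      · exact Cfsg.Agent.Lib.Helper9.Ch2GYA.twoGenY_F4 h2
      · exact Cfsg.Agent.Lib.Helper9.Ch2GYA.twoGenY_E6 h2
      · exact Cfsg.Agent.Lib.Helper9.Ch2GYA.twoGenY_E7 h2
      · exact Cfsg.Agent.Lib.Helper9.Ch2GYA.twoGenY_E8 h2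
    · exact Cfsg.Agent.Lib.Helper1.TG.twoGenT_all D hD (by omega)
  obtain ⟨a, b, ha, hb, hle⟩ := key
  exact Cfsg.Agent.Lib.Helper7.Ch2G.two_gen_of_le (D.group F) a b ha hb hle

end Cfsg.Agent.S2405
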