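import Cfsg.Statements.S2412
import Cfsg.Agent.Lib.Helper1.Un4
import Cfsg.Agent.Lib.Helper1.Og3
import Cfsg.Agent.Lib.Helper1.Rt6

set_option autoImplicit false
open Cfsg

namespace Cfsg.Agent.S2412

/-- The projective special unitary group `PSU_n(q)` with `n ≥ 3`, realised over the field with `q²` elements, `(n, q) ≠ (3, 2)`, is generated by two of its elements. -/
theorem result {F : Type*} [Field F] [Fintype F] {q : ℕ} (hq : IsPrimePow q) (hF : Fintype.card F = q ^ 2) (n : ℕ) (hn : 3 ≤ n) (h32 : n = 3 → q ≠ 2) :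
    ∃ a b : Cfsg.PSU n F q, Subgroup.closure ({a, b} : Set (Cfsg.PSU n F q)) = ⊤ := by
  apply Cfsg.Agent.Lib.Helper1.Og.two_gen_quot
  by_cases h4 : 4 ≤ n
  · exact Cfsg.Agent.Lib.Helper1.Un.su_two_gen hF h4
  · have h3 : n = 3 := by omega
    subst h3
    have hq2 : 2 ≤ q := hq.two_le
    have hq3 : 3 ≤ q := by
      have := h32 rfl
      omega
    obtain ⟨u, g, -, h⟩ := Cfsg.Agent.Lib.Helper1.Rt.main2 hF hq3 rfl
    exact ⟨u, g * u * g⁻¹, h⟩

end Cfsg.Agent.S2412
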