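import Cfsg.Statements.S2413
import Cfsg.Agent.Lib.Helper1.Og6

set_option autoImplicit false
open Cfsg

namespace Cfsg.Agent.S2413

/-- The simple orthogonal group `PΩ_{2m+1}(q)` (commutator subgroup of the orthogonal group of `x₀² + Σ x_i y_i` modulo its centre) with `m ≥ 2` and `q` odd is generated by two of its elements. -/
theorem result {F : Type*} [Field F] [Fintype F] (hodd : Odd (Fintype.card F)) (m : ℕ) (hm : 2 ≤ m) :
    ∃ a b : Cfsg.POmega F (Cfsg.quadFormOdd m F), Subgroup.closure ({a, b} : Set (Cfsg.POmega F (Cfsg.quadFormOdd m F))) = ⊤ := by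
  obtain ⟨n, rfl⟩ : ∃ n, m = n + 1 := ⟨m - 1, by omega⟩
  have h2 : (2 : F) ≠ 0 := by
    intro h
    have hchar : ringChar F = 2 := by
      have := ringChar.dvd (R := F) (show ((2 : ℕ) : F) = 0 by exact_mod_cast h)
      have hp := CharP.char_is_prime F (ringChar F)
      exact ((Nat.prime_dvd_prime_iff_eq hp Nat.prime_two).mp this)
    have h0 := FiniteField.even_card_of_char_two hchar
    obtain ⟨r, hr⟩ := hodd
    omega
  have h := Cfsg.Agent.Lib.Helper1.Og.two_gen_odd (F := F) (n := n) (by omega) h2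
  rw [Cfsg.Agent.Lib.Helper5.SpinorHyp2.coe_oddForm] at h
  exact Cfsg.Agent.Lib.Helper1.Og.two_gen_quot _ h

end Cfsg.Agent.S2413
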