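import Mathlib
import Cfsg.Statements.S2427

set_option autoImplicit false
open Cfsg

namespace Cfsg.Agent.S2427

open Matrix

/-- the group -/
abbrev G := Matrix.SpecialLinearGroup (Fin 2) (ZMod 3)

/-- membership predicate of the quaternion subgroup -/
def inQ (g : G) : Prop := g = 1 ∨ g = -1 ∨ g.1.trace = 0

instance : DecidablePred inQ := fun g => by unfold inQ; infer_instance

set_option maxRecDepth 100000 in
theorem card_G : Fintype.card G = 24 := by decide

set_option maxRecDepth 100000 in
theorem card_center : Fintype.card (Subgroup.center G) = 2 := by decide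

set_option maxRecDepth 100000 in
theorem mem_center_iff' : ∀ z : G, z ∈ Subgroup.center G ↔ z = 1 ∨ z = -1 := by decide

set_option maxRecDepth 100000 in
theorem inQ_conj : ∀ g h : G, inQ h → inQ (g * h * g⁻¹) := by decide

set_option maxRecDepth 100000 in
theorem inQ_mul : ∀ g h : G, inQ g → inQ h → inQ (g * h) := by decide

set_option maxRecDepth 100000 in
theorem inQ_inv : ∀ g : G, inQ g → inQ g⁻¹ := by decide

set_option maxRecDepth 100000 in
theorem card_Q : Fintype.card {g : G // inQ g} = 8 := by decide

set_option maxRecDepth 100000 in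
theorem L1 : ∀ q q' : G, q.1.trace = 0 → q'.1.trace = 0 → ∃ g : G, g * q * g⁻¹ = q' := by
  decide

set_option maxRecDepth 100000 in
theorem L2 : ∀ q : G, q.1.trace = 0 → q * q = -1 := by decide

set_option maxRecDepth 100000 in
theorem L3 : ∀ g : G, ¬ inQ g → ∃ q : G, inQ q ∧ (g * q * g⁻¹ * q⁻¹).1.trace = 0 := by decide

set_option maxRecDepth 100000 in
theorem L5 : ∀ g h : G, inQ (g * h * g⁻¹ * h⁻¹) := by decide

set_option maxRecDepth 100000 in
theorem L6 : ∀ q : G, inQ q → ∃ g h : G, g * h * g⁻¹ * h⁻¹ = q := by decide

/-- generator of order 4 -/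
def I0 : G := ⟨!![0,1;-1,0], by decide⟩
/-- second generator of order 4 -/
def J0 : G := ⟨!![1,1;1,-1], by decide⟩

/-- the embedding of the quaternion group -/
def f : QuaternionGroup 2 → G
  | .a k => I0 ^ k.val
  | .xa k => J0 * I0 ^ k.val

set_option maxRecDepth 100000 in
theorem fmul : ∀ x y : QuaternionGroup 2, f (x * y) = f x * f y := by decide

set_option maxRecDepth 100000 in
theorem finj : ∀ x y : QuaternionGroup 2, f x = f y → x = y := by decide

set_option maxRecDepth 100000 in
theorem frange : ∀ g : G, inQ g ↔ ∃ x, f x = g := by decide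

/-- the quaternion subgroup -/
def Q : Subgroup G where
  carrier := {g | inQ g}
  mul_mem' := fun {a b} ha hb => inQ_mul a b ha hb
  one_mem' := Or.inl rfl
  inv_mem' := fun {a} ha => inQ_inv a ha

theorem mem_Q (g : G) : g ∈ Q ↔ inQ g := Iff.rfl

theorem commutator_eq_Q : commutator G = Q := by
  rw [commutator_def]
  apply le_antisymm
  · rw [Subgroup.commutator_le]
    intro g _ h _
    exact L5 g h
  · intro q hq
    obtain ⟨g, h, rfl⟩ := L6 q hq
    exact Subgroup.commutator_mem_commutator (Subgroup.mem_top g) (Subgroup.mem_top h)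

theorem card_Q' : Nat.card Q = 8 := by
  have : Nat.card Q = Nat.card {g : G // inQ g} := rfl
  rw [this, Nat.card_eq_fintype_card, card_Q]

/-- the embedding as a hom -/
def fHom : QuaternionGroup 2 →* G := MonoidHom.mk' f fmul

theorem fHom_injective : Function.Injective fHom := fun x y h => finj x y h

theorem range_fHom : fHom.range = Q := by
  ext g
  rw [mem_Q, frange]
  rfl

theorem normal_cases (N : Subgroup G) (hN : N.Normal) :
    N = ⊥ ∨ N = ⊤ ∨ N = Subgroup.center G ∨ N = Q := by
  have hcardG : Nat.card G = 24 := by rw [Nat.card_eq_fintype_card, card_G]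
  by_cases hA : ∃ q ∈ N, q.1.trace = 0
  · obtain ⟨q, hqN, hq⟩ := hA
    have hQN : Q ≤ N := by
      intro q' hq'
      rcases hq' with rfl | rfl | h
      · exact N.one_mem
      · rw [← L2 q hq]
        exact N.mul_mem hqN hqN
      · obtain ⟨g, rfl⟩ := L1 q q' hq h
        exact hN.conj_mem q hqN g
    have h1 : Nat.card Q ∣ Nat.card N := Subgroup.card_dvd_of_le hQN
    have h2 : Nat.card N ∣ Nat.card G := Subgroup.card_subgroup_dvd_card N
    rw [card_Q'] at h1
    rw [hcardG] at h2
    have hpos : 0 < Nat.card N := Nat.card_pos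
    have h3 : Nat.card N = 8 ∨ Nat.card N = 24 := by
      obtain ⟨a, ha⟩ := h1
      obtain ⟨b, hb⟩ := h2
      have : a * b = 3 := by
        rw [ha] at hb
        nlinarith
      have ha3 : a ∣ 3 := ⟨b, this.symm⟩
      have := (Nat.dvd_prime Nat.prime_three).mp ha3
      rcases this with rfl | rfl
      · left; omega
      · right; omega
    rcases h3 with h3 | h3
    · right; right; right
      symm
      apply Subgroup.eq_of_le_of_card_ge hQN
      rw [h3, card_Q']
    · right; left
      apply Subgroup.eq_top_of_card_eq
      rw [h3, hcardG]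
  · push Not at hA
    have hNQ : ∀ g ∈ N, g = 1 ∨ g = -1 := by
      intro g hg
      by_cases hgQ : inQ g
      · rcases hgQ with h | h | h
        · exact Or.inl h
        · exact Or.inr h
        · exact absurd h (hA g hg)
      · exfalso
        obtain ⟨q, _, hq⟩ := L3 g hgQ
        apply hA (g * q * g⁻¹ * q⁻¹) _ hq
        have : g * q * g⁻¹ * q⁻¹ = g * (q * g⁻¹ * q⁻¹) := by group
        rw [this]
        exact N.mul_mem hg (hN.conj_mem _ (N.inv_mem hg) q)
    by_cases hneg : (-1 : G) ∈ N
    · right; right; left
      ext z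
      rw [mem_center_iff']
      constructor
      · exact hNQ z
      · rintro (rfl | rfl)
        · exact N.one_mem
        · exact hneg
    · left
      rw [eq_bot_iff]
      intro g hg
      rcases hNQ g hg with h | h
      · rw [h]; exact Subgroup.mem_bot.mpr rfl
      · rw [h] at hg; exact absurd hg hneg


/-- The group SL₂ over the field with 3 elements has order 24 and centre of order 2; its commutator subgroup has order 8, is isomorphic to the quaternion group of order 8 and is complemented by every Sylow 3-subgroup (so the group is a semidirect product of a quaternion group of order 8 by a cyclic group of order 3); and its only normal subgroups besides the trivial subgroup and the whole group are the centre and the commutator subgroup. -/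
theorem result :
    Nat.card (Matrix.SpecialLinearGroup (Fin 2) (ZMod 3)) = 24 ∧
    Nat.card (Subgroup.center (Matrix.SpecialLinearGroup (Fin 2) (ZMod 3))) = 2 ∧
    Nat.card (commutator (Matrix.SpecialLinearGroup (Fin 2) (ZMod 3))) = 8 ∧
    Nonempty (commutator (Matrix.SpecialLinearGroup (Fin 2) (ZMod 3)) ≃* QuaternionGroup 2) ∧
    (∀ P : Sylow 3 (Matrix.SpecialLinearGroup (Fin 2) (ZMod 3)),
      Subgroup.IsComplement' (commutator (Matrix.SpecialLinearGroup (Fin 2) (ZMod 3)))
        (P : Subgroup (Matrix.SpecialLinearGroup (Fin 2) (ZMod 3)))) ∧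
    ∀ N : Subgroup (Matrix.SpecialLinearGroup (Fin 2) (ZMod 3)), N.Normal →
      N = ⊥ ∨ N = ⊤ ∨ N = Subgroup.center (Matrix.SpecialLinearGroup (Fin 2) (ZMod 3)) ∨
        N = commutator (Matrix.SpecialLinearGroup (Fin 2) (ZMod 3)) := by
  have hcardG : Nat.card G = 24 := by rw [Nat.card_eq_fintype_card, card_G]
  refine ⟨hcardG, ?_, ?_, ?_, ?_, ?_⟩
  · rw [Nat.card_eq_fintype_card, card_center]
  · rw [commutator_eq_Q, card_Q']
  · rw [commutator_eq_Q, ← range_fHom]
    exact ⟨(MonoidHom.ofInjective fHom_injective).symm⟩
  · intro P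
    rw [commutator_eq_Q]
    have hP : Nat.card (P : Subgroup G) = 3 := by
      have := P.card_eq_multiplicity
      rw [hcardG] at this
      have h24 : (24 : ℕ).factorization 3 = 1 := by
        have : (24 : ℕ) = 3 * 8 := by norm_num
        rw [this, Nat.factorization_mul (by norm_num) (by norm_num)]
        simp [Nat.Prime.factorization_self Nat.prime_three,
          Nat.factorization_eq_zero_of_not_dvd (show ¬ 3 ∣ 8 by norm_num)]
      rw [h24, pow_one] at this
      exact this
    apply Subgroup.isComplement'_of_coprime
    · rw [card_Q', hP, hcardG]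
    · rw [card_Q', hP]
      norm_num
  · intro N hN
    rw [commutator_eq_Q]
    exact normal_cases N hN

end Cfsg.Agent.S2427
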