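import Cfsg.Statements.S2434
import Mathlib
import Cfsg.Agent.Lib.Helper6.SL2CuspCount
import Cfsg.Agent.Lib.Helper6.SL2CuspQ3

set_option autoImplicit false
open Cfsg

namespace Cfsg.Agent.S2434

open Cfsg.Agent.Lib.Helper6 Cfsg.Agent.Lib.Helper6.SL2Cusp Cfsg.Agent.Lib.Helper4 Cfsg.Agent.Lib.Helper4.SL2Tr Cfsg.Agent.Lib.Helper4.SL2Ord

/-- Let F be a finite field with q elements, q odd, and C a cyclic subgroup of order q + 1 of SL₂ over F (a non-split torus; it contains the centre). For every homomorphism θ from C to the non-zero complex numbers with θ² ≠ 1 there is an irreducible complex character χ of degree q − 1 such that χ(c) = −θ(c) − θ(c)⁻¹ for every non-central c in C, χ(zg) = θ(z)χ(g) for central z in C, χ vanishes at diagonal elements with entry a, a² ≠ 1, and χ takes the value −1 at every upper unitriangular element other than 1. Conversely every irreducible character of degree q − 1 has, for some such θ, the values −θ(c) − θ(c)⁻¹ at the non-central elements c of C (for q ≥ 5 these are exactly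 the cuspidal characters of degree q − 1). -/
theorem result {F : Type*} [Field F] [Fintype F] (hodd : Odd (Fintype.card F))
    (C : Subgroup (Matrix.SpecialLinearGroup (Fin 2) F)) (hC : IsCyclic C) (hcard : Nat.card C = Fintype.card F + 1) :
    (∀ θ : C →* ℂˣ, (∃ c : C, θ c ^ 2 ≠ 1) →
      ∃ χ : Matrix.SpecialLinearGroup (Fin 2) F → ℂ, Cfsg.IsIrrCharacter (Matrix.SpecialLinearGroup (Fin 2) F) χ ∧ χ 1 = (Fintype.card F : ℂ) - 1 ∧
        (∀ c : C, (c : Matrix.SpecialLinearGroup (Fin 2) F) ∉ Subgroup.center (Matrix.SpecialLinearGroup (Fin 2) F) → χ c = -((θ c).val + (θ c)⁻¹.val)) ∧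
        (∀ c : C, (c : Matrix.SpecialLinearGroup (Fin 2) F) ∈ Subgroup.center (Matrix.SpecialLinearGroup (Fin 2) F) → ∀ g : Matrix.SpecialLinearGroup (Fin 2) F, χ ((c : Matrix.SpecialLinearGroup (Fin 2) F) * g) = (θ c).val * χ g) ∧
        (∀ g : Matrix.SpecialLinearGroup (Fin 2) F, (g : Matrix (Fin 2) (Fin 2) F) 0 1 = 0 → (g : Matrix (Fin 2) (Fin 2) F) 1 0 = 0 → (g : Matrix (Fin 2) (Fin 2) F) 0 0 ^ 2 ≠ 1 → χ g = 0) ∧
        (∀ g : Matrix.SpecialLinearGroup (Fin 2) F, (g : Matrix (Fin 2) (Fin 2) F) 1 0 = 0 → (g : Matrix (Fin 2) (Fin 2) F) 0 0 = 1 → (g : Matrix (Fin 2) (Fin 2) F) 1 1 = 1 → (g : Matrix (Fin 2) (Fin 2) F) 0 1 ≠ 0 → χ g = -1)) ∧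
    (∀ χ : Matrix.SpecialLinearGroup (Fin 2) F → ℂ, Cfsg.IsIrrCharacter (Matrix.SpecialLinearGroup (Fin 2) F) χ → χ 1 = (Fintype.card F : ℂ) - 1 →
      ∃ θ : C →* ℂˣ, (∃ c : C, θ c ^ 2 ≠ 1) ∧
        ∀ c : C, (c : Matrix.SpecialLinearGroup (Fin 2) F) ∉ Subgroup.center (Matrix.SpecialLinearGroup (Fin 2) F) → χ c = -((θ c).val + (θ c)⁻¹.val)) := by

  classical
  have hq3 : 3 ≤ Fintype.card F := card_ge_three hodd
  constructor
  · intro θ hθ
    have hirr := cuspChar_irr C hC hcard hodd θ hθ
    refine ⟨cuspChar C hcard hodd θ, hirr, cusp_one C hcard hodd _ θ, ?_, ?_, ?_, ?_⟩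
    · intro c hc
      exact cusp_noncentral C hC hcard hodd _ θ c hc
    · intro c hc g
      rw [mem_center_iff_sq hodd] at hc
      rcases eq_one_or_neg_of_sq hodd _ hc with h | h
      · have : c = 1 := Subtype.ext h
        rw [this, map_one, Units.val_one, one_mul]
        congr 1
        exact one_mul g
      · have hcn : c = negK C hcard hodd := Subtype.ext h
        rw [h]
        have hz : ∀ k : Matrix.SpecialLinearGroup (Fin 2) F, negOneSL F * k = k * negOneSL F :=
          fun k => (Subgroup.mem_center_iff.1 negOneSL_mem_center k).symm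
        rw [IsIrrCharacter.apply_central_mul hirr hz g]
        have h1 : cuspChar C hcard hodd θ (negOneSL F) =
            ((Fintype.card F : ℂ) - 1) * alphaOf C hcard hodd θ (-1) :=
          cusp_negOne C hcard hodd _ θ (alphaOf_spec C hcard hodd θ)
        have h2 : cuspChar C hcard hodd θ 1 = (Fintype.card F : ℂ) - 1 :=
          cusp_one C hcard hodd _ θ
        rw [h1, h2, alphaOf_spec C hcard hodd θ, hcn]
        have := card_sub_one_ne_zero (F := F)
        field_simp
    · intro g h01 h10 hne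
      exact cusp_diag C hC hcard hodd _ θ g h01 h10 hne
    · intro g h10 h00 h11 h01
      have := cusp_unip C hC hcard hodd (alphaOf C hcard hodd θ) θ g h10 (by rw [h00, h11]) h01
      rw [h00, map_one] at this
      exact this
  · intro χ hχ hχ1
    by_cases hq : 5 ≤ Fintype.card F
    · obtain ⟨θ, hθ, rfl⟩ := exists_eq_cuspChar C hC hcard hodd hq χ hχ hχ1
      exact ⟨θ, hθ, fun c hc => cusp_noncentral C hC hcard hodd _ θ c hc⟩
    · have hq' : Fintype.card F = 3 := by
        obtain ⟨k, hk⟩ := hodd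
        omega
      -- a character `θ` with `θ² ≠ 1`
      haveI := finite_hom C hC hcard
      have : Fintype (C →* ℂˣ) := Fintype.ofFinite _
      have hex : ∃ θ : C →* ℂˣ, ∃ c : C, θ c ^ 2 ≠ 1 := by
        by_contra hno
        push Not at hno
        have h1 := card_bad_le C hC hcard
        have h2 : Finset.univ.filter (fun θ : C →* ℂˣ => ∀ c : C, θ c ^ 2 = 1) = Finset.univ := by
          ext θ
          simp only [Finset.mem_filter, Finset.mem_univ, true_and, iff_true]
          exact hno θ
        rw [h2, Finset.card_univ, (Nat.card_eq_fintype_card (α := (C →* ℂˣ))).symm,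
          card_hom C hC hcard] at h1
        omega
      obtain ⟨θ, hθ⟩ := hex
      refine ⟨θ, hθ, ?_⟩
      intro c hc
      have hχ1' : χ 1 = 2 := by rw [hχ1, hq']; norm_num
      rw [q3_vanish C hC hcard hodd hq' χ hχ hχ1' c hc]
      have h3 := q3_vanish C hC hcard hodd hq' (cuspChar C hcard hodd θ)
        (cuspChar_irr C hC hcard hodd θ hθ)
        (by rw [show cuspChar C hcard hodd θ 1 = (Fintype.card F : ℂ) - 1 from
          cusp_one C hcard hodd _ θ, hq']; norm_num) c hc
      rw [show cuspChar C hcard hodd θ c = _ from cusp_noncentral C hC hcard hodd _ θ c hc] at h3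
      exact h3.symm


end Cfsg.Agent.S2434
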