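import Cfsg.Statements.S2435
import Mathlib
import Cfsg.Agent.Lib.Helper6.SL2CuspHalf
import Cfsg.Agent.Lib.Helper4.SL2Values
import Cfsg.Agent.Lib.Helper4.SL2Conj
import Cfsg.Agent.S2429

set_option autoImplicit false
open Cfsg

namespace Cfsg.Agent.S2435

open Cfsg.Agent.Lib.Helper6 Cfsg.Agent.Lib.Helper6.SL2Cusp Cfsg.Agent.Lib.Helper4 Cfsg.Agent.Lib.Helper4.SL2Tr Cfsg.Agent.Lib.Helper4.SL2Ord

/-- Let F be a finite field with q elements, q odd and q ≥ 5, and χ an irreducible complex character of SL₂ over F. If χ has degree (q + 1)/2, then at a diagonal element with entry a, a² ≠ 1, χ takes the value 1 when a is a square in F and −1 otherwise. If χ has degree (q − 1)/2, then at an element g with no eigenvector in F² (so g has order dividing q + 1), χ takes the value −1 when g raised to the power (q + 1)/2 is the identity and the value 1 otherwise. -/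
theorem result {F : Type*} [Field F] [Fintype F] (hodd : Odd (Fintype.card F)) (hq : 5 ≤ Fintype.card F)
    (χ : Matrix.SpecialLinearGroup (Fin 2) F → ℂ) (hχ : Cfsg.IsIrrCharacter (Matrix.SpecialLinearGroup (Fin 2) F) χ) (g : Matrix.SpecialLinearGroup (Fin 2) F) :
    (χ 1 = (((Fintype.card F + 1) / 2 : ℕ) : ℂ) → (g : Matrix (Fin 2) (Fin 2) F) 0 1 = 0 → (g : Matrix (Fin 2) (Fin 2) F) 1 0 = 0 → (g : Matrix (Fin 2) (Fin 2) F) 0 0 ^ 2 ≠ 1 →
      (IsSquare ((g : Matrix (Fin 2) (Fin 2) F) 0 0) → χ g = 1) ∧ (¬ IsSquare ((g : Matrix (Fin 2) (Fin 2) F) 0 0) → χ g = -1)) ∧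
    (χ 1 = (((Fintype.card F - 1) / 2 : ℕ) : ℂ) → (∀ (c : F) (v : Fin 2 → F), v ≠ 0 → (g : Matrix (Fin 2) (Fin 2) F).mulVec v ≠ c • v) →
      (((g ^ ((Fintype.card F + 1) / 2)) : Matrix (Fin 2) (Fin 2) F) = 1 → χ g = -1) ∧ (((g ^ ((Fintype.card F + 1) / 2)) : Matrix (Fin 2) (Fin 2) F) ≠ 1 → χ g = 1)) := by

  classical
  have h2F := two_ne_zero_of_odd hodd
  obtain ⟨k, hk⟩ := hodd.exists_bit1
  have hk2 : 2 ≤ k := by omega
  have hkp : (Fintype.card F + 1) / 2 = k + 1 := by omega
  have hkm : (Fintype.card F - 1) / 2 = k := by omega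
  set ψ : Cfsg.IrrCharacter (Matrix.SpecialLinearGroup (Fin 2) F) := ⟨χ, hχ⟩ with hψ
  constructor
  · intro hχ1 h01 h10 hne
    rw [hkp] at hχ1
    have hdN : degN ψ = k + 1 := (degN_eq_iff ψ (k + 1)).2 hχ1
    rcases sl2_types_degN ψ with ⟨-, hd⟩ | ⟨-, hd⟩ | ⟨δ, -, -, hd⟩ | ⟨χ', -, -, -, hd⟩ |
      ⟨α₀, ψ', hα1, hα2, hψ', -, hsum, hc, -, hd⟩ | ⟨χ', α₀, ψ', -, -, -, -, -, -, -, -, -, -, hd⟩
    · exfalso; omega
    · exfalso; omega
    · exfalso; omega
    · exfalso; omega
    · have ht := trace_sq_ne_four_of_diag g h01 hne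
      have hcf : Cfsg.IsClassFunction (Matrix.SpecialLinearGroup (Fin 2) F) ψ' :=
        IsCharacter.isClassFunction (IsIrrCharacter.isCharacter hψ')
      have hv := half_value hodd hcf hsum hc g ht
      obtain ⟨a, d, hg, ha, hd', had⟩ := toGL_eq_mkGL_of_diag g h01 h10
      have hane : a ≠ d := by
        rintro rfl
        apply hne
        rw [← ha, sq, ← Units.val_mul, had, Units.val_one]
      rw [hg, psGL2_diag _ _ a d hane, one_mulChar_unit, one_mulChar_unit, one_mul, one_mul] at hv
      have hda : α₀ (d : F) = α₀ (a : F) := by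
        have h1 : α₀ (a : F) * α₀ (d : F) = 1 := by
          rw [← map_mul, ← Units.val_mul, had, Units.val_one, map_one]
        have h3 : α₀ (a : F) * α₀ (a : F) = 1 := by
          have := MulChar.pow_apply_coe α₀ 2 a
          rw [hα2, MulChar.one_apply_coe] at this
          rw [← pow_two, ← this]
        have h4 : α₀ (a : F) ≠ 0 := by
          intro h0; rw [h0, zero_mul] at h3; exact zero_ne_one h3
        exact mul_left_cancel₀ h4 (h1.trans h3.symm)
      rw [hda, ha] at hv
      have hχg : χ g = α₀ ((g : Matrix (Fin 2) (Fin 2) F) 0 0) := by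
        have h5 : (2 : ℂ) ≠ 0 := two_ne_zero
        apply mul_left_cancel₀ h5
        rw [show (ψ : Matrix.SpecialLinearGroup (Fin 2) F → ℂ) g = χ g from rfl] at hv
        rw [hv]; ring
      have hg0 : (g : Matrix (Fin 2) (Fin 2) F) 0 0 ≠ 0 := by
        rw [← ha]; exact a.ne_zero
      obtain ⟨hs1, hs2⟩ := quad_mulChar_apply α₀ hα1 hα2 _ hg0
      exact ⟨fun h => by rw [hχg, hs1 h], fun h => by rw [hχg, hs2 h]⟩
    · exfalso; omega
  · intro hχ1 hell
    obtain ⟨K, hC, hcard, -, -, hconj, -⟩ := Cfsg.Agent.S2429.result (F := F) hodd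
    obtain ⟨η, hη2, hη1, hηv⟩ := exists_quadHom K hC hcard hodd
    obtain ⟨χ₂, hχ₂, hne, hχ₂1, hY⟩ := quad_cusp_decomp K hC hcard hodd hq η hη2 hη1 χ hχ hχ1
    rw [hkm] at hχ1 hχ₂1
    have hdN : degN ψ = k := (degN_eq_iff ψ k).2 hχ1
    have ht := trace_sq_ne_four_of_elliptic h2F g hell
    -- the two characters of degree `(q - 1)/2` agree at `g`
    have hsame : χ₂ g = χ g := by
      rcases sl2_types_degN ψ with ⟨-, hd⟩ | ⟨-, hd⟩ | ⟨δ, -, -, hd⟩ | ⟨χ', -, -, -, hd⟩ |
        ⟨α₀, ψ', -, -, -, -, -, -, -, hd⟩ |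
        ⟨χ', α₀, ψ', -, -, -, -, -, hψ', hψne, hsum, hc, -, hd⟩
      · exfalso; omega
      · exfalso; omega
      · exfalso; omega
      · exfalso; omega
      · exfalso; omega
      · have hcf : Cfsg.IsClassFunction (Matrix.SpecialLinearGroup (Fin 2) F) ψ' :=
          IsCharacter.isClassFunction (IsIrrCharacter.isCharacter hψ')
        have hv := half_value hodd hcf hsum hc g ht
        have hs := congrFun hsum g
        rw [resSL_apply, Pi.add_apply] at hs
        rw [hs, show (ψ : Matrix.SpecialLinearGroup (Fin 2) F → ℂ) g = χ g from rfl] at hv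
        have hψ'g : ψ' g = χ g := by linear_combination -hv
        -- `ψ'` is the other character of degree `(q - 1)/2`
        have hψ'1 : ψ' 1 = (k : ℂ) := by
          have h1 := congrFun hsum 1
          rw [Pi.add_apply, resSL_one] at h1
          have h2 := hc.apply_one
          rw [show (ψ : Matrix.SpecialLinearGroup (Fin 2) F → ℂ) 1 = χ 1 from rfl] at h2
          rw [h2, hχ1]
        have hcard2 := ((Cfsg.Agent.S2299.result hodd).2 hq).2.2.2.2.2
        rw [hkm] at hcard2
        obtain ⟨y, hy, huniq⟩ := (Nat.card_eq_two_iff' (⟨ψ, hχ1⟩ :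
          {φ : Cfsg.IrrCharacter (Matrix.SpecialLinearGroup (Fin 2) F) //
            (φ : Matrix.SpecialLinearGroup (Fin 2) F → ℂ) 1 = (k : ℂ)})).1 hcard2
        have e1 : (⟨⟨χ₂, hχ₂⟩, hχ₂1⟩ :
          {φ : Cfsg.IrrCharacter (Matrix.SpecialLinearGroup (Fin 2) F) //
            (φ : Matrix.SpecialLinearGroup (Fin 2) F → ℂ) 1 = (k : ℂ)}) = y := by
          apply huniq
          intro h
          apply hne
          exact congrArg (fun φ : {φ : Cfsg.IrrCharacter (Matrix.SpecialLinearGroup (Fin 2) F) //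
            (φ : Matrix.SpecialLinearGroup (Fin 2) F → ℂ) 1 = (k : ℂ)} =>
              ((φ : Cfsg.IrrCharacter (Matrix.SpecialLinearGroup (Fin 2) F)) :
                Matrix.SpecialLinearGroup (Fin 2) F → ℂ)) h
        have e2 : (⟨⟨ψ', hψ'⟩, hψ'1⟩ :
          {φ : Cfsg.IrrCharacter (Matrix.SpecialLinearGroup (Fin 2) F) //
            (φ : Matrix.SpecialLinearGroup (Fin 2) F → ℂ) 1 = (k : ℂ)}) = y := by
          apply huniq
          intro h
          apply hψne
          exact (congrArg (fun φ : {φ : Cfsg.IrrCharacter (Matrix.SpecialLinearGroup (Fin 2) F) //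
            (φ : Matrix.SpecialLinearGroup (Fin 2) F → ℂ) 1 = (k : ℂ)} =>
              ((φ : Cfsg.IrrCharacter (Matrix.SpecialLinearGroup (Fin 2) F)) :
                Matrix.SpecialLinearGroup (Fin 2) F → ℂ)) h).symm
        have e3 : χ₂ = ψ' := by
          have := e1.trans e2.symm
          exact congrArg (fun φ : {φ : Cfsg.IrrCharacter (Matrix.SpecialLinearGroup (Fin 2) F) //
            (φ : Matrix.SpecialLinearGroup (Fin 2) F → ℂ) 1 = (k : ℂ)} =>
              ((φ : Cfsg.IrrCharacter (Matrix.SpecialLinearGroup (Fin 2) F)) :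
                Matrix.SpecialLinearGroup (Fin 2) F → ℂ)) this
        rw [e3, hψ'g]
    -- conjugate `g` into `K`
    obtain ⟨h, hh⟩ := hconj g hell
    set c : K := ⟨h * g * h⁻¹, hh⟩ with hcdef
    have hcz : (c : Matrix.SpecialLinearGroup (Fin 2) F) ∉
        Subgroup.center (Matrix.SpecialLinearGroup (Fin 2) F) := by
      intro hz
      have hgz : g ∈ Subgroup.center (Matrix.SpecialLinearGroup (Fin 2) F) := by
        have h1 : g = h⁻¹ * (h * g * h⁻¹) * h⁻¹⁻¹ := by group
        rw [h1]
        exact (Subgroup.center (Matrix.SpecialLinearGroup (Fin 2) F)).normal_of_characteristic.conj_mem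
          _ hz h⁻¹
      rw [Matrix.SpecialLinearGroup.mem_center_iff] at hgz
      obtain ⟨r, -, hr⟩ := hgz
      apply hell r ![1, 0]
      · intro h0
        have := congrFun h0 0
        simp at this
      · rw [← hr]
        ext i
        fin_cases i <;> simp [Matrix.mulVec, dotProduct, Fin.sum_univ_two]
    have hYg : cuspChar K hcard hodd η g = cuspChar K hcard hodd η (c : Matrix.SpecialLinearGroup (Fin 2) F) :=
      (cusp_isClassFunction K _ η g h).symm
    have hYc := cusp_noncentral K hC hcard hodd (alphaOf K hcard hodd η) η c hcz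
    have hsum2 : 2 * χ g = -(((η c : ℂˣ) : ℂ) + (((η c)⁻¹ : ℂˣ) : ℂ)) := by
      have := congrFun hY g
      rw [hYg, show cuspChar K hcard hodd η (c : Matrix.SpecialLinearGroup (Fin 2) F) = _ from hYc,
        Pi.add_apply, hsame] at this
      rw [this]; ring
    have hpow : ∀ m : ℕ, ((g ^ m : Matrix.SpecialLinearGroup (Fin 2) F) : Matrix (Fin 2) (Fin 2) F) = 1 ↔
        c ^ m = 1 := by
      intro m
      have h1 : ((c ^ m : K) : Matrix.SpecialLinearGroup (Fin 2) F) = h * g ^ m * h⁻¹ := by
        rw [Subgroup.coe_pow, hcdef]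
        exact conj_pow
      constructor
      · intro hm
        have hm' : g ^ m = 1 := Subtype.ext hm
        apply Subtype.ext
        rw [h1, hm']
        simp
      · intro hm
        have h3 := congrArg (fun x : K => (x : Matrix.SpecialLinearGroup (Fin 2) F)) hm
        simp only [h1, Subgroup.coe_one] at h3
        have : g ^ m = 1 := by
          have h4 : g ^ m = h⁻¹ * (h * g ^ m * h⁻¹) * h := by group
          rw [h4, h3]; group
        rw [this]
        rfl
    have h5 : (2 : ℂ) ≠ 0 := two_ne_zero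
    obtain ⟨hcases, hiff⟩ := hηv c
    constructor
    · intro hm
      have h6 : η c = 1 := hiff.2 ((hpow _).1 hm)
      rw [h6, inv_one, Units.val_one] at hsum2
      apply mul_left_cancel₀ h5
      rw [hsum2]; ring
    · intro hm
      have h6 : η c = -1 := by
        rcases hcases with h7 | h7
        · exfalso
          exact hm ((hpow _).2 (hiff.1 h7))
        · exact h7
      rw [h6, inv_neg, inv_one, Units.val_neg, Units.val_one] at hsum2
      apply mul_left_cancel₀ h5
      rw [hsum2]; ring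


end Cfsg.Agent.S2435
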