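import Cfsg.Statements.S2436
import Mathlib
import Cfsg.Agent.S2430
import Cfsg.Agent.S2431
import Cfsg.Agent.Lib.Helper6.McKaySL2G
import Cfsg.Agent.Lib.Helper6.McKayBorel
import Cfsg.Agent.Lib.Helper6.McKayTorus
import Cfsg.Agent.Lib.Helper6.McKayQuat

set_option autoImplicit false
open Cfsg

namespace Cfsg.Agent.S2436

open Cfsg.Agent.Lib.Helper6 Cfsg.Agent.Lib.Helper6.McKay Cfsg.Agent.Lib.Helper4 Cfsg.Agent.Lib.Helper4.SL2Syl Cfsg.Agent.Lib.Helper4.QuatSyl

theorem card_not_dvd_of_eq_top {G : Type*} [Group G] [Finite G] (N : Subgroup G) (hN : N = ⊤)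
    (ℓ : ℕ) :
    Nat.card {χ : Cfsg.IrrCharacter G // ¬ ℓ ∣ Cfsg.charDegree (χ : G → ℂ)} =
      Nat.card {ψ : Cfsg.IrrCharacter N // ¬ ℓ ∣ Cfsg.charDegree (ψ : N → ℂ)} :=
  (card_not_dvd_congr ((MulEquiv.subgroupCongr hN).trans Subgroup.topEquiv) ℓ).symm


/-- Let F be a finite field with q elements, q odd, ℓ any prime and S a Sylow ℓ-subgroup of SL₂ over F with normaliser N. Then SL₂ and N have the same number of irreducible complex characters of degree not divisible by ℓ (the McKay equality holds for SL₂ over F at every prime). -/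
theorem result {F : Type*} [Field F] [Fintype F] (hodd : Odd (Fintype.card F)) (ℓ : ℕ) [Fact ℓ.Prime] (S : Sylow ℓ (Matrix.SpecialLinearGroup (Fin 2) F)) :
    Nat.card {χ : Cfsg.IrrCharacter (Matrix.SpecialLinearGroup (Fin 2) F) // ¬ ℓ ∣ Cfsg.charDegree (χ : Matrix.SpecialLinearGroup (Fin 2) F → ℂ)} =
      Nat.card {ψ : Cfsg.IrrCharacter (Subgroup.normalizer ((S : Subgroup (Matrix.SpecialLinearGroup (Fin 2) F)) : Set (Matrix.SpecialLinearGroup (Fin 2) F))) //
        ¬ ℓ ∣ Cfsg.charDegree (ψ : Subgroup.normalizer ((S : Subgroup (Matrix.SpecialLinearGroup (Fin 2) F)) : Set (Matrix.SpecialLinearGroup (Fin 2) F)) → ℂ)} := by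

  classical
  have hℓ : ℓ.Prime := Fact.out
  obtain ⟨p, hp⟩ := CharP.exists F
  haveI := hp
  haveI : Fact p.Prime := ⟨CharP.char_is_prime F p⟩
  obtain ⟨n, hpn, hcardF⟩ := FiniteField.card F p
  have hq2 : 2 ≤ Fintype.card F := Fintype.one_lt_card
  by_cases hℓp : ℓ = p
  · subst hℓp
    rw [nside_char hodd ℓ S,
      gside_char hodd ℓ hℓ (by rw [hcardF]; exact dvd_pow_self ℓ n.ne_zero)]
  · have hℓq : ¬ ℓ ∣ Fintype.card F := by
      intro h
      rw [hcardF] at h
      exact hℓp ((Nat.prime_dvd_prime_iff_eq hℓ hpn).1 (hℓ.dvd_of_dvd_pow h))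
    by_cases hℓ2 : ℓ = 2
    · subst hℓ2
      by_cases hq5 : 5 ≤ Fintype.card F
      · rw [gside_two hodd hq5, nside_two hodd S]
      · have hq3 : Fintype.card F = 3 := by
          obtain ⟨k, hk⟩ := hodd
          omega
        apply card_not_dvd_of_eq_top
        rw [← Subgroup.card_eq_iff_eq_top]
        have h1 := (Cfsg.Agent.S2431.result hodd S).2.2 (Or.inl (by rw [hq3]))
        have h2 : Nat.card (S : Subgroup (Matrix.SpecialLinearGroup (Fin 2) F)) = 8 := by
          rw [Sylow.card_eq_multiplicity, card_SL2_eq hq2, hq3]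
          have e : 3 * ((3 - 1) * (3 + 1)) = 2 ^ 3 * 3 := by norm_num
          rw [e, fact_two_pow_mul 3 3 (by norm_num)]
          norm_num
        have h3 : Nat.card S = 8 := h2
        rw [h1, h3, card_SL2_eq hq2, hq3]
    · by_cases h1 : ℓ ∣ Fintype.card F - 1
      · obtain ⟨hT, hC, hN⟩ := (Cfsg.Agent.S2430.result hodd ℓ hℓ2 S).1 h1
        have e1 := nside_torus hodd ℓ hℓ2 S (Fintype.card F - 1) (Or.inl rfl) h1 hT hC hN
        have e2 := gside_split hodd ℓ hℓ hℓ2 h1
        omega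
      · by_cases h2 : ℓ ∣ Fintype.card F + 1
        · obtain ⟨hT, hC, hN⟩ := (Cfsg.Agent.S2430.result hodd ℓ hℓ2 S).2 h2
          have e1 := nside_torus hodd ℓ hℓ2 S (Fintype.card F + 1) (Or.inr rfl) h2 hT hC hN
          have e2 := gside_nonsplit hodd ℓ hℓ hℓ2 h2
          omega
        · apply card_not_dvd_of_eq_top
          have hS : (S : Subgroup (Matrix.SpecialLinearGroup (Fin 2) F)) = ⊥ := by
            apply Subgroup.eq_bot_of_card_eq
            rw [Sylow.card_eq_multiplicity, Nat.factorization_eq_zero_of_not_dvd, pow_zero]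
            rw [card_SL2_eq hq2]
            intro h
            rcases (Nat.Prime.dvd_mul hℓ).1 h with h | h
            · exact hℓq h
            · rcases (Nat.Prime.dvd_mul hℓ).1 h with h | h
              · exact h1 h
              · exact h2 h
          rw [hS]
          exact Subgroup.normalizer_eq_top_iff.2 inferInstance


end Cfsg.Agent.S2436
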