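import Cfsg.Statements.S2438
import Cfsg.Agent.Lib.Helper4.SL2UnipSum

set_option autoImplicit false
open Cfsg

namespace Cfsg.Agent.S2438

open Cfsg.Agent.Lib.Helper4 Cfsg.Agent.Lib.Helper6 Matrix

/-- the sum over `U` of an irreducible character of `SL₂(q)`, `q ≥ 5` odd, by degree -/
theorem sum_by_degree {F : Type*} [Field F] [Fintype F] [DecidableEq F]
    (k : ℕ) (hk : Fintype.card F = 2 * k + 1) (hk2 : 2 ≤ k)
    (ψ : Cfsg.IrrCharacter (Matrix.SpecialLinearGroup (Fin 2) F)) :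
    (degN ψ = 2 * k + 2 → ∑ b : F, (ψ : Matrix.SpecialLinearGroup (Fin 2) F → ℂ) (upperU b) =
      2 * (Fintype.card F : ℂ)) ∧
    (degN ψ = 2 * k + 1 → ∑ b : F, (ψ : Matrix.SpecialLinearGroup (Fin 2) F → ℂ) (upperU b) =
      (Fintype.card F : ℂ)) ∧
    (degN ψ = 2 * k → ∑ b : F, (ψ : Matrix.SpecialLinearGroup (Fin 2) F → ℂ) (upperU b) = 0) ∧
    (degN ψ = k + 1 → ∑ b : F, (ψ : Matrix.SpecialLinearGroup (Fin 2) F → ℂ) (upperU b) =
      (Fintype.card F : ℂ)) ∧
    (degN ψ = k → ∑ b : F, (ψ : Matrix.SpecialLinearGroup (Fin 2) F → ℂ) (upperU b) = 0) := by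
  classical
  have instG : Fintype (GL (Fin 2) F) := Fintype.ofFinite _
  have two_ne : (2 : ℂ) ≠ 0 := two_ne_zero
  rcases sl2_types_degN ψ with ⟨-, h⟩ | ⟨hres, h⟩ | ⟨δ, hδ, hres, h⟩ | ⟨χ', hχ', hns, hres, h⟩ |
    ⟨α₀, ψ', hα1, -, hψ', -, hsum, hc, -, h⟩ |
    ⟨χ', α₀, ψ', hχ', hns, -, -, -, hψ', -, hsum, hc, -, h⟩
  · refine ⟨?_, ?_, ?_, ?_, ?_⟩ <;> intro hd <;> omega
  · have hval : ∑ b : F, (ψ : Matrix.SpecialLinearGroup (Fin 2) F → ℂ) (upperU b) =
        (Fintype.card F : ℂ) := by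
      rw [hres, sum_unip_resSL _ (IsIrrCharacter.isClassFunction (isIrr_stGL2 1)), stGL2_one,
        stGL2_unip, mul_zero, add_zero]
    refine ⟨?_, ?_, ?_, ?_, ?_⟩ <;> intro hd <;> first | exact hval | omega
  · have hval : ∑ b : F, (ψ : Matrix.SpecialLinearGroup (Fin 2) F → ℂ) (upperU b) =
        2 * (Fintype.card F : ℂ) := by
      have hne : (1 : MulChar F ℂ) ≠ δ := by
        rintro rfl
        exact hδ (one_pow 2)
      rw [hres, sum_unip_resSL _ (IsIrrCharacter.isClassFunction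
        (Cfsg.Agent.S2304.isIrr_psGL2 1 δ hne)), psGL2_one, psGL2_unip]
      ring
    refine ⟨?_, ?_, ?_, ?_, ?_⟩ <;> intro hd <;> first | exact hval | omega
  · have hval : ∑ b : F, (ψ : Matrix.SpecialLinearGroup (Fin 2) F → ℂ) (upperU b) = 0 := by
      rw [hres, sum_unip_resSL _ (IsIrrCharacter.isClassFunction hχ'), (nonPS_values hχ' hns).1,
        (nonPS_values hχ' hns).2]
      ring
    refine ⟨?_, ?_, ?_, ?_, ?_⟩ <;> intro hd <;> first | exact hval | omega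
  · have hval : ∑ b : F, (ψ : Matrix.SpecialLinearGroup (Fin 2) F → ℂ) (upperU b) =
        (Fintype.card F : ℂ) := by
      have h1 := sum_unip_glconj (IsIrrCharacter.isClassFunction hψ') hc
      have hne : (1 : MulChar F ℂ) ≠ α₀ := Ne.symm hα1
      have h2 := sum_unip_resSL _ (IsIrrCharacter.isClassFunction
        (Cfsg.Agent.S2304.isIrr_psGL2 1 α₀ hne))
      rw [hsum, psGL2_one, psGL2_unip] at h2
      simp only [Pi.add_apply] at h2
      rw [Finset.sum_add_distrib, h1] at h2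
      have h3 : 2 * ∑ b : F, (ψ : Matrix.SpecialLinearGroup (Fin 2) F → ℂ) (upperU b) =
          2 * (Fintype.card F : ℂ) := by linear_combination h2
      exact mul_left_cancel₀ two_ne h3
    refine ⟨?_, ?_, ?_, ?_, ?_⟩ <;> intro hd <;> first | exact hval | omega
  · have hval : ∑ b : F, (ψ : Matrix.SpecialLinearGroup (Fin 2) F → ℂ) (upperU b) = 0 := by
      have h1 := sum_unip_glconj (IsIrrCharacter.isClassFunction hψ') hc
      have h2 := sum_unip_resSL _ (IsIrrCharacter.isClassFunction hχ')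
      rw [hsum, (nonPS_values hχ' hns).1, (nonPS_values hχ' hns).2] at h2
      simp only [Pi.add_apply] at h2
      rw [Finset.sum_add_distrib, h1] at h2
      have h3 : 2 * ∑ b : F, (ψ : Matrix.SpecialLinearGroup (Fin 2) F → ℂ) (upperU b) =
          2 * 0 := by linear_combination h2
      exact mul_left_cancel₀ two_ne h3
    refine ⟨?_, ?_, ?_, ?_, ?_⟩ <;> intro hd <;> first | exact hval | omega

/-- Let F be a finite field with q elements, q odd, q ≥ 5, U the upper unitriangular subgroup of SL₂ over F, and χ an irreducible complex character. The sum of the values of χ over U equals 2q, q, 0, q, 0 according as the degree of χ is q + 1, q, q − 1, (q + 1)/2, (q − 1)/2; so among these five degrees the sum vanishes exactly for the degrees q − 1 and (q − 1)/2, i.e. the irreducible characters of those two degrees are the ones whose restriction to U does not contain the trivial character (the cuspidal characters), while those of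 degree q + 1, q and (q + 1)/2 are not cuspidal. -/
theorem result {F : Type*} [Field F] [Fintype F] [DecidableEq F] (hodd : Odd (Fintype.card F)) (hq : 5 ≤ Fintype.card F)
    (χ : Matrix.SpecialLinearGroup (Fin 2) F → ℂ) (hχ : Cfsg.IsIrrCharacter (Matrix.SpecialLinearGroup (Fin 2) F) χ) :
    (χ 1 = (Fintype.card F : ℂ) + 1 →
      (∑ g : Matrix.SpecialLinearGroup (Fin 2) F, if (g : Matrix (Fin 2) (Fin 2) F) 1 0 = 0 ∧ (g : Matrix (Fin 2) (Fin 2) F) 0 0 = 1 ∧ (g : Matrix (Fin 2) (Fin 2) F) 1 1 = 1 then χ g else 0) = 2 * (Fintype.card F : ℂ)) ∧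
    (χ 1 = (Fintype.card F : ℂ) →
      (∑ g : Matrix.SpecialLinearGroup (Fin 2) F, if (g : Matrix (Fin 2) (Fin 2) F) 1 0 = 0 ∧ (g : Matrix (Fin 2) (Fin 2) F) 0 0 = 1 ∧ (g : Matrix (Fin 2) (Fin 2) F) 1 1 = 1 then χ g else 0) = (Fintype.card F : ℂ)) ∧
    (χ 1 = (Fintype.card F : ℂ) - 1 →
      (∑ g : Matrix.SpecialLinearGroup (Fin 2) F, if (g : Matrix (Fin 2) (Fin 2) F) 1 0 = 0 ∧ (g : Matrix (Fin 2) (Fin 2) F) 0 0 = 1 ∧ (g : Matrix (Fin 2) (Fin 2) F) 1 1 = 1 then χ g else 0) = 0) ∧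
    (χ 1 = (((Fintype.card F + 1) / 2 : ℕ) : ℂ) →
      (∑ g : Matrix.SpecialLinearGroup (Fin 2) F, if (g : Matrix (Fin 2) (Fin 2) F) 1 0 = 0 ∧ (g : Matrix (Fin 2) (Fin 2) F) 0 0 = 1 ∧ (g : Matrix (Fin 2) (Fin 2) F) 1 1 = 1 then χ g else 0) = (Fintype.card F : ℂ)) ∧
    (χ 1 = (((Fintype.card F - 1) / 2 : ℕ) : ℂ) →
      (∑ g : Matrix.SpecialLinearGroup (Fin 2) F, if (g : Matrix (Fin 2) (Fin 2) F) 1 0 = 0 ∧ (g : Matrix (Fin 2) (Fin 2) F) 0 0 = 1 ∧ (g : Matrix (Fin 2) (Fin 2) F) 1 1 = 1 then χ g else 0) = 0) := by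
  obtain ⟨k, hk⟩ := hodd
  have hk2 : 2 ≤ k := by omega
  have hq1 : 1 ≤ Fintype.card F := Fintype.card_pos
  set ψ : Cfsg.IrrCharacter (Matrix.SpecialLinearGroup (Fin 2) F) := ⟨χ, hχ⟩ with hψ
  have hψχ : (ψ : Matrix.SpecialLinearGroup (Fin 2) F → ℂ) = χ := rfl
  obtain ⟨h1, h2, h3, h4, h5⟩ := sum_by_degree k hk hk2 ψ
  rw [sum_unip_eq]
  refine ⟨?_, ?_, ?_, ?_, ?_⟩
  · intro hd
    apply h1
    rw [degN_eq_iff, hψχ, hd, hk]
    push_cast
    ring
  · intro hd
    apply h2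
    rw [degN_eq_iff, hψχ, hd, hk]
  · intro hd
    apply h3
    rw [degN_eq_iff, hψχ, hd, hk]
    push_cast
    ring
  · intro hd
    apply h4
    rw [degN_eq_iff, hψχ, hd]
    congr 1
    omega
  · intro hd
    apply h5
    rw [degN_eq_iff, hψχ, hd]
    congr 1
    omega

end Cfsg.Agent.S2438
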