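import Cfsg.Statements.S2439
import Mathlib
import Cfsg.Agent.Lib.Helper6.SL2Blk3
import Cfsg.Agent.Lib.Helper6.SL2Blk4
import Cfsg.Agent.Lib.Helper4.PSL2Deg
import Cfsg.Agent.Lib.Helper4.SLCard
import Cfsg.Agent.Lib.Helper6.Mult
import Cfsg.Agent.Lib.Helper6.BlkCover3

set_option autoImplicit false
open Cfsg

namespace Cfsg.Agent.S2439

open Cfsg.Agent.Lib.Helper6 Cfsg.Agent.Lib.Helper4 Cfsg.Agent.Lib.Helper6.SL2Blk Cfsg.Agent.S2308 Matrix

/-- Let F be a finite field with q elements of odd characteristic p, and M a maximal ideal of the algebraic integers containing p. Then SL₂ over F has exactly three p-blocks relative to M: the irreducible character of degree q (the Steinberg character) alone; the other irreducible characters taking the same value at −1 as at 1 (the principal block); and the irreducible characters χ with χ(−1) = −χ(1). Every Sylow p-subgroup is a defect group of each of the last two blocks. -/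
theorem result {F : Type*} [Field F] [Fintype F] (p : ℕ) [Fact p.Prime] [CharP F p] (hp : p ≠ 2)
    (M : Ideal Cfsg.AlgInt) (hM : Cfsg.IsPModular p M) :
    (∀ B : Set (Cfsg.IrrCharacter (Matrix.SpecialLinearGroup (Fin 2) F)), Cfsg.IsPBlock M B ↔
      (B = {χ : Cfsg.IrrCharacter (Matrix.SpecialLinearGroup (Fin 2) F) | (χ : Matrix.SpecialLinearGroup (Fin 2) F → ℂ) 1 = (Fintype.card F : ℂ)} ∨
       B = {χ : Cfsg.IrrCharacter (Matrix.SpecialLinearGroup (Fin 2) F) | (χ : Matrix.SpecialLinearGroup (Fin 2) F → ℂ) (-1) = (χ : Matrix.SpecialLinearGroup (Fin 2) F → ℂ) 1 ∧ (χ : Matrix.SpecialLinearGroup (Fin 2) F → ℂ) 1 ≠ (Fintype.card F : ℂ)} ∨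
       B = {χ : Cfsg.IrrCharacter (Matrix.SpecialLinearGroup (Fin 2) F) | (χ : Matrix.SpecialLinearGroup (Fin 2) F → ℂ) (-1) = -(χ : Matrix.SpecialLinearGroup (Fin 2) F → ℂ) 1})) ∧
    Nat.card {B : Set (Cfsg.IrrCharacter (Matrix.SpecialLinearGroup (Fin 2) F)) // Cfsg.IsPBlock M B} = 3 ∧
    ∀ P : Sylow p (Matrix.SpecialLinearGroup (Fin 2) F),
      Cfsg.IsDefectGroup p M {χ : Cfsg.IrrCharacter (Matrix.SpecialLinearGroup (Fin 2) F) | (χ : Matrix.SpecialLinearGroup (Fin 2) F → ℂ) (-1) = (χ : Matrix.SpecialLinearGroup (Fin 2) F → ℂ) 1 ∧ (χ : Matrix.SpecialLinearGroup (Fin 2) F → ℂ) 1 ≠ (Fintype.card F : ℂ)} (P : Subgroup (Matrix.SpecialLinearGroup (Fin 2) F)) ∧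
      Cfsg.IsDefectGroup p M {χ : Cfsg.IrrCharacter (Matrix.SpecialLinearGroup (Fin 2) F) | (χ : Matrix.SpecialLinearGroup (Fin 2) F → ℂ) (-1) = -(χ : Matrix.SpecialLinearGroup (Fin 2) F → ℂ) 1} (P : Subgroup (Matrix.SpecialLinearGroup (Fin 2) F)) := by

  classical
  haveI instGL : Fintype (GL (Fin 2) F) := Fintype.ofFinite _
  have hpp : p.Prime := Fact.out
  have hq2 : 2 ≤ Fintype.card F := Fintype.one_lt_card
  -- the Steinberg character
  have hStirr := isIrr_resSL_st (F := F)
  obtain ⟨St, hStdef⟩ : ∃ St : Cfsg.IrrCharacter (Matrix.SpecialLinearGroup (Fin 2) F),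
      (St : Matrix.SpecialLinearGroup (Fin 2) F → ℂ) = resSL (stGL2 (1 : MulChar F ℂ)) :=
    ⟨⟨_, hStirr⟩, rfl⟩
  have hSt1 : (St : Matrix.SpecialLinearGroup (Fin 2) F → ℂ) 1 = (Fintype.card F : ℂ) := by
    rw [hStdef, resSL_one, stGL2_one]
  have hStuniq : ∀ ψ : Cfsg.IrrCharacter (Matrix.SpecialLinearGroup (Fin 2) F),
      (ψ : Matrix.SpecialLinearGroup (Fin 2) F → ℂ) 1 = (Fintype.card F : ℂ) → ψ = St := by
    intro ψ h
    apply Subtype.ext
    rw [hStdef]
    exact sl2_eq_st_of_degree hq2 ψ h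
  have hcen : (-1 : Matrix.SpecialLinearGroup (Fin 2) F) ∈
      Subgroup.center (Matrix.SpecialLinearGroup (Fin 2) F) :=
    Subgroup.mem_center_iff.mpr (fun g => (neg_one_central g).symm)
  have hStneg : (St : Matrix.SpecialLinearGroup (Fin 2) F → ℂ) (-1) =
      (St : Matrix.SpecialLinearGroup (Fin 2) F → ℂ) 1 := by
    rw [hStdef]
    exact resSL_st_center hcen
  -- the trivial character
  obtain ⟨T, hTdef⟩ : ∃ T : Cfsg.IrrCharacter (Matrix.SpecialLinearGroup (Fin 2) F),
      (T : Matrix.SpecialLinearGroup (Fin 2) F → ℂ) = fun _ => (1 : ℂ) :=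
    ⟨⟨_, isIrrCharacter_one⟩, rfl⟩
  have hT1 : ∀ g, (T : Matrix.SpecialLinearGroup (Fin 2) F → ℂ) g = 1 := fun g => by rw [hTdef]
  have hq1 : (Fintype.card F : ℂ) ≠ 1 := by
    intro h
    have : Fintype.card F = 1 := by exact_mod_cast h
    omega
  have hTd : ¬ p ∣ Cfsg.charDegree (T : Matrix.SpecialLinearGroup (Fin 2) F → ℂ) := by
    rcases degree_cases (p := p) T with h | h
    · exfalso; rw [hT1] at h; exact hq1 h.symm
    · exact h
  -- a character faithful on the centre
  obtain ⟨Xm, hXm⟩ := exists_neg_sign (F := F) (p := p) hp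
  have hq0 : (Fintype.card F : ℂ) ≠ 0 := by
    have : Fintype.card F ≠ 0 := by omega
    exact_mod_cast this
  have hXmd : ¬ p ∣ Cfsg.charDegree (Xm : Matrix.SpecialLinearGroup (Fin 2) F → ℂ) := by
    rcases degree_cases (p := p) Xm with h | h
    · exfalso
      have := hStuniq Xm h
      rw [this, hStneg, hSt1] at hXm
      have h2 : (2 : ℂ) * (Fintype.card F : ℂ) = 0 := by linear_combination hXm
      rcases mul_eq_zero.mp h2 with h3 | h3
      · norm_num at h3
      · exact hq0 h3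
    · exact h
  -- the defect zero block
  have hcardG : Nat.card (Matrix.SpecialLinearGroup (Fin 2) F) =
      Fintype.card F * (Fintype.card F ^ 2 - 1) := card_SL2
  obtain ⟨n, _, hqn⟩ := FiniteField.card F p
  have hpq : p ∣ Fintype.card F := by rw [hqn]; exact dvd_pow_self p n.ne_zero
  have hStdeg : Cfsg.charDegree (St : Matrix.SpecialLinearGroup (Fin 2) F → ℂ) = Fintype.card F := by
    have h1 := IsCharacter.apply_one_eq_charDegree (IsIrrCharacter.isCharacter St.2)
    rw [hSt1] at h1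
    exact_mod_cast h1.symm
  have hfac : (Nat.card (Matrix.SpecialLinearGroup (Fin 2) F)).factorization p ≤
      (Cfsg.charDegree (St : Matrix.SpecialLinearGroup (Fin 2) F → ℂ)).factorization p := by
    rw [hcardG, hStdeg]
    have hq0' : Fintype.card F ≠ 0 := by omega
    have hsq : 1 < Fintype.card F ^ 2 := by nlinarith
    have hne : Fintype.card F ^ 2 - 1 ≠ 0 := by omega
    rw [Nat.factorization_mul hq0' hne, Finsupp.add_apply]
    have hnd : ¬ p ∣ Fintype.card F ^ 2 - 1 := by
      intro hd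
      have h1 : p ∣ (Fintype.card F ^ 2 - 1) + 1 := by
        rw [Nat.sub_add_cancel hsq.le]
        exact Dvd.dvd.trans hpq (dvd_pow_self _ two_ne_zero)
      exact hpp.one_lt.ne' (Nat.dvd_one.mp ((Nat.dvd_add_right hd).mp h1))
    rw [Nat.factorization_eq_zero_of_not_dvd hnd]
    omega
  have hBSt : Cfsg.blockOf M (St : Matrix.SpecialLinearGroup (Fin 2) F → ℂ) =
      {χ : Cfsg.IrrCharacter (Matrix.SpecialLinearGroup (Fin 2) F) |
        (χ : Matrix.SpecialLinearGroup (Fin 2) F → ℂ) 1 = (Fintype.card F : ℂ)} := by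
    rw [blockOf_eq_singleton_of_defect_zero hM St hfac]
    ext χ
    simp only [Set.mem_singleton_iff, Set.mem_setOf_eq]
    constructor
    · intro h; rw [h]; exact hSt1
    · exact hStuniq χ
  have hStsingle : ∀ χ : Cfsg.IrrCharacter (Matrix.SpecialLinearGroup (Fin 2) F),
      Cfsg.SameBlock M (St : Matrix.SpecialLinearGroup (Fin 2) F → ℂ)
        (χ : Matrix.SpecialLinearGroup (Fin 2) F → ℂ) → χ = St := by
    intro χ h
    have h1 : χ ∈ Cfsg.blockOf M (St : Matrix.SpecialLinearGroup (Fin 2) F → ℂ) := h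
    rw [blockOf_eq_singleton_of_defect_zero hM St hfac] at h1
    exact h1
  -- the principal block
  have hB0 : Cfsg.blockOf M (T : Matrix.SpecialLinearGroup (Fin 2) F → ℂ) =
      {χ : Cfsg.IrrCharacter (Matrix.SpecialLinearGroup (Fin 2) F) |
        (χ : Matrix.SpecialLinearGroup (Fin 2) F → ℂ) (-1) =
          (χ : Matrix.SpecialLinearGroup (Fin 2) F → ℂ) 1 ∧
        (χ : Matrix.SpecialLinearGroup (Fin 2) F → ℂ) 1 ≠ (Fintype.card F : ℂ)} := by
    ext χ
    simp only [Set.mem_setOf_eq]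
    constructor
    · intro h
      have h1 : Cfsg.SameBlock M (T : Matrix.SpecialLinearGroup (Fin 2) F → ℂ)
          (χ : Matrix.SpecialLinearGroup (Fin 2) F → ℂ) := h
      have h2 := sign_of_sameBlock hM hp T χ h1
      rw [hT1, hT1] at h2
      refine ⟨by linear_combination -h2, ?_⟩
      intro hdeg
      have h3 := hStuniq χ hdeg
      rw [h3] at h1
      have h4 := hStsingle T (SameBlock.symm' h1)
      have h5 := hSt1
      rw [← h4, hT1] at h5
      exact hq1 h5.symm
    · rintro ⟨h1, h2⟩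
      have hd : ¬ p ∣ Cfsg.charDegree (χ : Matrix.SpecialLinearGroup (Fin 2) F → ℂ) := by
        rcases degree_cases (p := p) χ with h | h
        · exact absurd h h2
        · exact h
      apply sameBlock_of_sign hM T χ hTd hd
      rw [hT1, hT1, h1]
      ring
  -- the third block
  have hXm1 := IsIrrCharacter.apply_one_ne_zero Xm.2
  have hBm : Cfsg.blockOf M (Xm : Matrix.SpecialLinearGroup (Fin 2) F → ℂ) =
      {χ : Cfsg.IrrCharacter (Matrix.SpecialLinearGroup (Fin 2) F) |
        (χ : Matrix.SpecialLinearGroup (Fin 2) F → ℂ) (-1) =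
          -(χ : Matrix.SpecialLinearGroup (Fin 2) F → ℂ) 1} := by
    ext χ
    simp only [Set.mem_setOf_eq]
    constructor
    · intro h
      have h1 : Cfsg.SameBlock M (Xm : Matrix.SpecialLinearGroup (Fin 2) F → ℂ)
          (χ : Matrix.SpecialLinearGroup (Fin 2) F → ℂ) := h
      have h2 := sign_of_sameBlock hM hp Xm χ h1
      rw [hXm] at h2
      have h3 : (Xm : Matrix.SpecialLinearGroup (Fin 2) F → ℂ) 1 *
          ((χ : Matrix.SpecialLinearGroup (Fin 2) F → ℂ) (-1) +
            (χ : Matrix.SpecialLinearGroup (Fin 2) F → ℂ) 1) = 0 := by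
        linear_combination -h2
      rcases mul_eq_zero.mp h3 with h4 | h4
      · exact absurd h4 hXm1
      · linear_combination h4
    · intro h1
      have hd : ¬ p ∣ Cfsg.charDegree (χ : Matrix.SpecialLinearGroup (Fin 2) F → ℂ) := by
        rcases degree_cases (p := p) χ with h | h
        · exfalso
          have := hStuniq χ h
          rw [this, hStneg, hSt1] at h1
          have h2 : (2 : ℂ) * (Fintype.card F : ℂ) = 0 := by linear_combination h1
          rcases mul_eq_zero.mp h2 with h3 | h3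
          · norm_num at h3
          · exact hq0 h3
        · exact h
      apply sameBlock_of_sign hM Xm χ hXmd hd
      rw [hXm, h1]
      ring
  -- every block is one of the three
  have hall : ∀ χ : Cfsg.IrrCharacter (Matrix.SpecialLinearGroup (Fin 2) F),
      Cfsg.blockOf M (χ : Matrix.SpecialLinearGroup (Fin 2) F → ℂ) =
        Cfsg.blockOf M (St : Matrix.SpecialLinearGroup (Fin 2) F → ℂ) ∨
      Cfsg.blockOf M (χ : Matrix.SpecialLinearGroup (Fin 2) F → ℂ) =
        Cfsg.blockOf M (T : Matrix.SpecialLinearGroup (Fin 2) F → ℂ) ∨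
      Cfsg.blockOf M (χ : Matrix.SpecialLinearGroup (Fin 2) F → ℂ) =
        Cfsg.blockOf M (Xm : Matrix.SpecialLinearGroup (Fin 2) F → ℂ) := by
    intro χ
    by_cases hdeg : (χ : Matrix.SpecialLinearGroup (Fin 2) F → ℂ) 1 = (Fintype.card F : ℂ)
    · left
      rw [hStuniq χ hdeg]
    · rcases sign_cases χ with h | h
      · right; left
        have hmem : χ ∈ Cfsg.blockOf M (T : Matrix.SpecialLinearGroup (Fin 2) F → ℂ) := by
          rw [hB0]; exact ⟨h, hdeg⟩
        exact (blockOf_eq_of_mem hM hmem).symm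
      · right; right
        have hmem : χ ∈ Cfsg.blockOf M (Xm : Matrix.SpecialLinearGroup (Fin 2) F → ℂ) := by
          rw [hBm]; exact h
        exact (blockOf_eq_of_mem hM hmem).symm
  -- distinctness
  have hStmem : St ∈ Cfsg.blockOf M (St : Matrix.SpecialLinearGroup (Fin 2) F → ℂ) :=
    sameBlock_refl hM _
  have hTmem : T ∈ Cfsg.blockOf M (T : Matrix.SpecialLinearGroup (Fin 2) F → ℂ) :=
    sameBlock_refl hM _
  have hXmmem : Xm ∈ Cfsg.blockOf M (Xm : Matrix.SpecialLinearGroup (Fin 2) F → ℂ) :=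
    sameBlock_refl hM _
  have hne1 : Cfsg.blockOf M (St : Matrix.SpecialLinearGroup (Fin 2) F → ℂ) ≠
      Cfsg.blockOf M (T : Matrix.SpecialLinearGroup (Fin 2) F → ℂ) := by
    intro h
    rw [h, hB0] at hStmem
    exact hStmem.2 hSt1
  have hne2 : Cfsg.blockOf M (St : Matrix.SpecialLinearGroup (Fin 2) F → ℂ) ≠
      Cfsg.blockOf M (Xm : Matrix.SpecialLinearGroup (Fin 2) F → ℂ) := by
    intro h
    rw [h, hBm] at hStmem
    have h1 : (St : Matrix.SpecialLinearGroup (Fin 2) F → ℂ) (-1) =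
        -(St : Matrix.SpecialLinearGroup (Fin 2) F → ℂ) 1 := hStmem
    rw [hStneg, hSt1] at h1
    have h2 : (2 : ℂ) * (Fintype.card F : ℂ) = 0 := by linear_combination h1
    rcases mul_eq_zero.mp h2 with h3 | h3
    · norm_num at h3
    · exact hq0 h3
  have hne3 : Cfsg.blockOf M (T : Matrix.SpecialLinearGroup (Fin 2) F → ℂ) ≠
      Cfsg.blockOf M (Xm : Matrix.SpecialLinearGroup (Fin 2) F → ℂ) := by
    intro h
    rw [h, hBm] at hTmem
    have h1 : (T : Matrix.SpecialLinearGroup (Fin 2) F → ℂ) (-1) =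
        -(T : Matrix.SpecialLinearGroup (Fin 2) F → ℂ) 1 := hTmem
    rw [hT1, hT1] at h1
    norm_num at h1
  have hiff : ∀ B : Set (Cfsg.IrrCharacter (Matrix.SpecialLinearGroup (Fin 2) F)),
      Cfsg.IsPBlock M B ↔
      (B = Cfsg.blockOf M (St : Matrix.SpecialLinearGroup (Fin 2) F → ℂ) ∨
       B = Cfsg.blockOf M (T : Matrix.SpecialLinearGroup (Fin 2) F → ℂ) ∨
       B = Cfsg.blockOf M (Xm : Matrix.SpecialLinearGroup (Fin 2) F → ℂ)) := by
    intro B
    constructor
    · rintro ⟨χ, rfl⟩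
      exact hall χ
    · rintro (h | h | h)
      · exact ⟨St, h⟩
      · exact ⟨T, h⟩
      · exact ⟨Xm, h⟩
  refine ⟨?_, ?_, ?_⟩
  · intro B
    rw [hiff B, hBSt, hB0, hBm]
  · have hset : {B : Set (Cfsg.IrrCharacter (Matrix.SpecialLinearGroup (Fin 2) F)) |
        Cfsg.IsPBlock M B} =
        ({Cfsg.blockOf M (St : Matrix.SpecialLinearGroup (Fin 2) F → ℂ),
          Cfsg.blockOf M (T : Matrix.SpecialLinearGroup (Fin 2) F → ℂ),
          Cfsg.blockOf M (Xm : Matrix.SpecialLinearGroup (Fin 2) F → ℂ)} :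
          Set (Set (Cfsg.IrrCharacter (Matrix.SpecialLinearGroup (Fin 2) F)))) := by
      ext B
      simp only [Set.mem_setOf_eq, Set.mem_insert_iff, Set.mem_singleton_iff]
      exact hiff B
    have h1 : Nat.card {B : Set (Cfsg.IrrCharacter (Matrix.SpecialLinearGroup (Fin 2) F)) //
        Cfsg.IsPBlock M B} = Set.ncard {B : Set (Cfsg.IrrCharacter
          (Matrix.SpecialLinearGroup (Fin 2) F)) | Cfsg.IsPBlock M B} := rfl
    rw [h1, hset]
    exact Set.ncard_eq_three.mpr ⟨_, _, _, hne1, hne2, hne3, rfl⟩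
  · intro P
    constructor
    · rw [← hB0]
      exact isDefectGroup_sylow_of_pPrime_degree hM T hTd P
    · rw [← hBm]
      exact isDefectGroup_sylow_of_pPrime_degree hM Xm hXmd P


end Cfsg.Agent.S2439
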