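import Cfsg.Statements.S2441
import Cfsg.Agent.Lib.Helper9.ChTwoB
import Cfsg.Agent.Lib.Helper6.ChDich1
import Cfsg.Agent.Lib.Helper2.ChMain

set_option autoImplicit false
open Cfsg

namespace Cfsg.Agent.S2441

/-- For a prime p, the Chevalley groups of types G₂, F₄ and E₈ over the field with p elements (types for which the simply connected and adjoint groups coincide, so the group has trivial centre) each have exactly two p-blocks relative to any maximal ideal of the algebraic integers containing p (only the count is asserted; it arises as the defect-zero block of the Steinberg character plus a single block of maximal defect). -/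
theorem result (p : ℕ) [Fact p.Prime] (M : Ideal Cfsg.AlgInt) (hM : Cfsg.IsPModular p M) :
    Nat.card {B : Set (Cfsg.IrrCharacter (Cfsg.Lie.chevG2.group (ZMod p))) // Cfsg.IsPBlock M B} = 2 ∧
    Nat.card {B : Set (Cfsg.IrrCharacter (Cfsg.Lie.chevF4.group (ZMod p))) // Cfsg.IsPBlock M B} = 2 ∧
    Nat.card {B : Set (Cfsg.IrrCharacter (Cfsg.Lie.chevE8.group (ZMod p))) // Cfsg.IsPBlock M B} = 2 := by
  have hp : p.Prime := Fact.out
  have : NeZero p := ⟨hp.ne_zero⟩
  have memG2 : Cfsg.Lie.chevG2 ∈ Cfsg.Agent.Lib.Helper5.ChevStruct.Seven := by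
    simp [Cfsg.Agent.Lib.Helper5.ChevStruct.Seven]
  have memF4 : Cfsg.Lie.chevF4 ∈ Cfsg.Agent.Lib.Helper5.ChevStruct.Seven := by
    simp [Cfsg.Agent.Lib.Helper5.ChevStruct.Seven]
  have memE8 : Cfsg.Lie.chevE8 ∈ Cfsg.Agent.Lib.Helper5.ChevStruct.Seven := by
    simp [Cfsg.Agent.Lib.Helper5.ChevStruct.Seven]
  have key : ∀ D : Cfsg.Lie.ChevalleyDatum, D ∈ Cfsg.Agent.Lib.Helper5.ChevStruct.Seven →
      Nat.card {B : Set (Cfsg.IrrCharacter (D.group (ZMod p))) // Cfsg.IsPBlock M B} = 2 :=
    fun D hD => Cfsg.Agent.Lib.Helper9.ChTwo.two_blocks_of_dich (F := ZMod p) p D hD M hM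
      (Cfsg.Agent.Lib.Helper6.ChDich.dich_of_main (F := ZMod p) p D hD M hM
        (Cfsg.Agent.Lib.Helper2.ChMain.main_dich (F := ZMod p) p D hD))
  exact ⟨key _ memG2, key _ memF4, key _ memE8⟩

end Cfsg.Agent.S2441
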