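import Cfsg.Statements.S2455
import Cfsg.Agent.Lib.Helper4.SL2Cov3

set_option autoImplicit false
open Cfsg

namespace Cfsg.Agent.S2455

/-- A strong covering result in the direction of Thompson's conjecture (non-identity elements) for PSL(2,q), q odd: let F be a finite field of odd characteristic p with at least 5 elements and let x ∈ PSL(2,F) have order greater than 2 and not divisible by p (so x is not unipotent). Then every non-identity element of PSL(2,F) is a product of two conjugates of x. -/
theorem result {F : Type*} [Field F] [Fintype F] (p : ℕ) [Fact p.Prime] [CharP F p] (hp : p ≠ 2) (h5 : 5 ≤ Fintype.card F)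
    (x : Matrix.ProjectiveSpecialLinearGroup (Fin 2) F) (hx2 : 2 < orderOf x) (hxp : ¬ p ∣ orderOf x) : ∀ g : Matrix.ProjectiveSpecialLinearGroup (Fin 2) F, g ≠ 1 → ∃ u v : Matrix.ProjectiveSpecialLinearGroup (Fin 2) F, g = (u * x * u⁻¹) * (v * x * v⁻¹) := by
  classical
  have hpF : CharP F p := inferInstance
  have hodd : Odd (Fintype.card F) := by
    rw [← Nat.not_even_iff_odd]
    intro he
    haveI h2' : CharP F 2 := Cfsg.Agent.Lib.Helper4.SL2Tr.charP_two_of_dvd he.two_dvd
    exact hp (CharP.eq F hpF h2')
  intro g hg
  exact Cfsg.Agent.Lib.Helper4.SL2Cov.cover_odd_PSL hodd p x hx2 hxp g hg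

end Cfsg.Agent.S2455
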