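import Cfsg.Statements.S2459
import Cfsg.Agent.Lib.Helper2.P3TPartA
import Cfsg.Agent.Lib.Helper2.P3TPartB

set_option autoImplicit false
open Cfsg

namespace Cfsg.Agent.S2459

open Cfsg.Agent.Lib.Helper2.P3T

/-- A form of Thompson's conjecture for PSL(3,q), q > 2 (covering the non-identity elements), with a semisimple class: for F a finite field of characteristic p with more than 2 elements there is an element x of PSL(3,F) of order prime to p such that every non-identity element of PSL(3,F) is a product of two conjugates of x. -/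
theorem result {F : Type*} [Field F] [Fintype F] (p : ℕ) [Fact p.Prime] [CharP F p] (h3 : 3 ≤ Fintype.card F) :
    ∃ x : Matrix.ProjectiveSpecialLinearGroup (Fin 3) F, ¬ p ∣ orderOf x ∧ ∀ g : Matrix.ProjectiveSpecialLinearGroup (Fin 3) F, g ≠ 1 → ∃ u v : Matrix.ProjectiveSpecialLinearGroup (Fin 3) F, g = (u * x * u⁻¹) * (v * x * v⁻¹) := by
  classical
  have hp : p.Prime := Fact.out
  by_cases h4 : 4 ≤ Fintype.card F
  · obtain ⟨l, hl0, hl⟩ := exists_lam h4
    have hK : 4 ≤ Cardinal.mk F := by
      rw [Cardinal.mk_fintype]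
      exact_mod_cast h4
    refine ⟨QuotientGroup.mk (DSL l hl0), ?_, psl_of_twoConj _ (twoConj_D hK l hl0 hl)⟩
    exact not_dvd_orderOf_mk _ _ _ (DSL_pow_card l hl0) p hp (not_dvd_card_sub_one p)
  · have h3' : Fintype.card F = 3 := by omega
    let r : ZMod 3 ≃+* F := ZMod.ringEquivOfPrime F Nat.prime_three h3'
    let E := slEquiv (Fin 3) r
    refine ⟨QuotientGroup.mk (E X3SL), ?_, psl_of_twoConj _ (twoConj_transfer E _ twoConj_X3)⟩
    have hp3 : p = 3 := char_eq_three p h3'
    have hpow : (E X3SL) ^ 4 = 1 := by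
      rw [← map_pow, X3SL_pow, map_one]
    exact not_dvd_orderOf_mk _ _ 4 hpow p hp (by rw [hp3]; decide)

end Cfsg.Agent.S2459
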