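import Mathlib
import Cfsg.Statements.S2466
import Cfsg.Agent.Lib.Helper5.AltOrders
import Cfsg.Agent.Lib.Helper5.MultisetLcm

set_option autoImplicit false
open Cfsg

namespace Cfsg.Agent.S2466

open Cfsg.Agent.Lib.Helper5

theorem result (n r s : ℕ) (hr : r.Prime) (hs : s.Prime) (hr2 : r ≠ 2) (hs2 : s ≠ 2) (hrs : r ≠ s) (hrn : r ≤ n) (hsn : s ≤ n) :
    (r * s ∈ Set.range (orderOf : alternatingGroup (Fin n) → ℕ)) ↔ r + s ≤ n := by
  rw [mem_range_orderOf_alt_iff]
  have hcop : Nat.Coprime r s := (Nat.coprime_primes hr hs).mpr hrs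
  have hrodd : Odd r := hr.odd_of_ne_two hr2
  have hsodd : Odd s := hs.odd_of_ne_two hs2
  constructor
  · rintro ⟨m, h2, hsum, -, hlcm⟩
    obtain ⟨c₁, hc₁, hrc₁⟩ := exists_mem_dvd_of_prime_dvd_lcm hr m (hlcm ▸ dvd_mul_right r s)
    obtain ⟨c₂, hc₂, hsc₂⟩ := exists_mem_dvd_of_prime_dvd_lcm hs m (hlcm ▸ dvd_mul_left s r)
    have hc₁pos : 0 < c₁ := by have := h2 c₁ hc₁; omega
    have hc₂pos : 0 < c₂ := by have := h2 c₂ hc₂; omega
    by_cases hsc₁ : s ∣ c₁
    · have h1 : r * s ∣ c₁ := hcop.mul_dvd_of_dvd_of_dvd hrc₁ hsc₁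
      have h2' : r * s ≤ c₁ := Nat.le_of_dvd hc₁pos h1
      have h3 : c₁ ≤ m.sum := Multiset.le_sum_of_mem hc₁
      have h4 : r + s ≤ r * s := add_le_mul hr.two_le hs.two_le
      omega
    · have hne : c₂ ≠ c₁ := by
        rintro rfl
        exact hsc₁ hsc₂
      have h1 := add_le_sum_of_mem_of_ne m hc₁ hc₂ hne
      have h3 : r ≤ c₁ := Nat.le_of_dvd hc₁pos hrc₁
      have h4 : s ≤ c₂ := Nat.le_of_dvd hc₂pos hsc₂
      omega
  · intro h
    refine ⟨{r, s}, ?_, ?_, ?_, ?_⟩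
    · intro a ha
      simp only [Multiset.insert_eq_cons, Multiset.mem_cons, Multiset.mem_singleton] at ha
      rcases ha with rfl | rfl
      · exact hr.two_le
      · exact hs.two_le
    · simpa using h
    · simp only [Multiset.insert_eq_cons, Multiset.sum_cons, Multiset.sum_singleton,
        Multiset.card_cons, Multiset.card_singleton]
      obtain ⟨a, rfl⟩ := hrodd
      obtain ⟨b, rfl⟩ := hsodd
      exact ⟨a + b + 2, by ring⟩
    · simp only [Multiset.insert_eq_cons, Multiset.lcm_cons, Multiset.lcm_singleton,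
        normalize_eq]
      exact hcop.lcm_eq_mul

end Cfsg.Agent.S2466
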