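import Mathlib
import Cfsg.Statements.S2467
import Cfsg.Agent.Lib.Helper5.AltOrders
import Cfsg.Agent.Lib.Helper5.MultisetLcm

set_option autoImplicit false
open Cfsg

namespace Cfsg.Agent.S2467

open Cfsg.Agent.Lib.Helper5

theorem result (n r : ℕ) (hn : 4 ≤ n) (hr : r.Prime) (hr2 : r ≠ 2) (hrn : r ≤ n) :
    (2 * r ∈ Set.range (orderOf : alternatingGroup (Fin n) → ℕ)) ↔ r + 4 ≤ n := by
  rw [mem_range_orderOf_alt_iff]
  have hcop : Nat.Coprime 2 r := (Nat.coprime_primes Nat.prime_two hr).mpr (Ne.symm hr2)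
  have hrodd : Odd r := hr.odd_of_ne_two hr2
  have hr3 : 3 ≤ r := by
    have := hr.two_le
    omega
  constructor
  · rintro ⟨m, h2, hsum, hev, hlcm⟩
    have hpar := sum_add_card_mod_two m
    rw [Nat.even_iff.mp hev] at hpar
    obtain ⟨c₀, hc₀, h2c₀⟩ := exists_mem_dvd_of_prime_dvd_lcm Nat.prime_two m
      (hlcm ▸ dvd_mul_right 2 r)
    obtain ⟨c₁, hc₁, hrc₁⟩ := exists_mem_dvd_of_prime_dvd_lcm hr m (hlcm ▸ dvd_mul_left r 2)
    have hc₁pos : 0 < c₁ := by have := h2 c₁ hc₁; omega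
    have hc₀E : c₀ ∈ m.filter Even := Multiset.mem_filter.mpr ⟨hc₀, even_iff_two_dvd.mpr h2c₀⟩
    have hE1 : 1 ≤ Multiset.card (m.filter Even) := Multiset.card_pos_iff_exists_mem.mpr ⟨c₀, hc₀E⟩
    have hE2 : 2 ≤ Multiset.card (m.filter Even) := by omega
    have hsplit : m.sum = (m.filter Even).sum + (m.filter (fun a => ¬ Even a)).sum := by
      rw [← Multiset.sum_add, Multiset.filter_add_not]
    have hE2' : ∀ a ∈ m.filter Even, 2 ≤ a := fun a ha => h2 a (Multiset.mem_of_mem_filter ha)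
    by_cases hc₁ev : Even c₁
    · have hc₁E : c₁ ∈ m.filter Even := Multiset.mem_filter.mpr ⟨hc₁, hc₁ev⟩
      have h1 : 2 * r ∣ c₁ := hcop.mul_dvd_of_dvd_of_dvd (even_iff_two_dvd.mp hc₁ev) hrc₁
      have h3 : 2 * r ≤ c₁ := Nat.le_of_dvd hc₁pos h1
      have h4 : m.filter Even = c₁ ::ₘ (m.filter Even).erase c₁ := (Multiset.cons_erase hc₁E).symm
      have h5 : 1 ≤ Multiset.card ((m.filter Even).erase c₁) := by
        have := Multiset.card_erase_add_one hc₁E
        omega
      obtain ⟨c₂, hc₂⟩ := Multiset.card_pos_iff_exists_mem.mp h5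
      have h6 : 2 ≤ c₂ := hE2' c₂ (Multiset.mem_of_mem_erase hc₂)
      have h7 : c₂ ≤ ((m.filter Even).erase c₁).sum := Multiset.le_sum_of_mem hc₂
      have h8 : (m.filter Even).sum = c₁ + ((m.filter Even).erase c₁).sum := by
        conv_lhs => rw [h4, Multiset.sum_cons]
      omega
    · have hc₁O : c₁ ∈ m.filter (fun a => ¬ Even a) := Multiset.mem_filter.mpr ⟨hc₁, hc₁ev⟩
      have h3 : r ≤ c₁ := Nat.le_of_dvd hc₁pos hrc₁
      have h4 : c₁ ≤ (m.filter (fun a => ¬ Even a)).sum := Multiset.le_sum_of_mem hc₁O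
      have h5 : Multiset.card (m.filter Even) • 2 ≤ (m.filter Even).sum :=
        Multiset.card_nsmul_le_sum hE2'
      simp only [smul_eq_mul] at h5
      omega
  · intro h
    refine ⟨{r, 2, 2}, ?_, ?_, ?_, ?_⟩
    · intro a ha
      simp only [Multiset.insert_eq_cons, Multiset.mem_cons, Multiset.mem_singleton] at ha
      rcases ha with rfl | rfl | rfl
      · exact hr.two_le
      · exact le_rfl
      · exact le_rfl
    · simp only [Multiset.insert_eq_cons, Multiset.sum_cons, Multiset.sum_singleton]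
      omega
    · simp only [Multiset.insert_eq_cons, Multiset.sum_cons, Multiset.sum_singleton,
        Multiset.card_cons, Multiset.card_singleton]
      obtain ⟨a, rfl⟩ := hrodd
      exact ⟨a + 4, by ring⟩
    · simp only [Multiset.insert_eq_cons, Multiset.lcm_cons, Multiset.lcm_singleton,
        normalize_eq]
      show Nat.lcm r (Nat.lcm 2 2) = 2 * r
      rw [Nat.lcm_self, Nat.lcm_comm, hcop.lcm_eq_mul]

end Cfsg.Agent.S2467
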