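import Mathlib
import Cfsg.Statements.S2471

set_option autoImplicit false
open Cfsg

namespace Cfsg.Agent.S2471

open Matrix

section
variable {F : Type*} [Field F]

lemma ch2 (A : Matrix (Fin 2) (Fin 2) F) : A ^ 2 = A.trace • A - A.det • (1 : Matrix (Fin 2) (Fin 2) F) := by
  rw [Matrix.det_fin_two, Matrix.trace_fin_two]
  ext i j
  fin_cases i <;> fin_cases j <;>
    simp [pow_two, Matrix.mul_apply, Fin.sum_univ_two] <;> ring

lemma smul_one_eq_zero_iff (c : F) : c • (1 : Matrix (Fin 2) (Fin 2) F) = 0 ↔ c = 0 := by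
  constructor
  · intro h
    have := congrFun (congrFun h 0) 0
    simpa using this
  · rintro rfl; simp

lemma core (p : ℕ) [Fact p.Prime] [CharP F p] (hp : p ≠ 2)
    (A : Matrix (Fin 2) (Fin 2) F) (hdet : A.det = 1) (ε : F) (hε : ε ^ 2 = 1)
    (h : (A ^ 2) ^ p = ε • (1 : Matrix (Fin 2) (Fin 2) F)) :
    (∃ δ : F, δ ^ 2 = 1 ∧ A ^ p = δ • (1 : Matrix (Fin 2) (Fin 2) F)) ∨ A ^ 2 = -1 := by
  have hpp : p.Prime := Fact.out
  have hodd : Odd p := hpp.odd_of_ne_two hp
  have h2 : (2 : F) ≠ 0 := by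
    intro h2
    have : ((2 : ℕ) : F) = 0 := by exact_mod_cast h2
    rw [CharP.cast_eq_zero_iff F p] at this
    have := (Nat.prime_dvd_prime_iff_eq hpp Nat.prime_two).mp this
    exact hp this
  have hε0 : ε ≠ 0 := by
    rintro rfl
    norm_num at hε
  have hεp : ε ^ p = ε := by
    obtain ⟨k, hk⟩ := hodd
    rw [hk, pow_succ, pow_mul, hε, one_pow, one_mul]
  set t := A.trace with ht
  have hA2 : A ^ 2 = t • A - 1 := by
    rw [ch2 A, hdet, one_smul]
  set B := A ^ 2 with hB
  have hdetB : B.det = 1 := by rw [hB, Matrix.det_pow, hdet, one_pow]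
  set u := B.trace with hu
  have hB2 : B ^ 2 = u • B - 1 := by
    rw [ch2 B, hdetB, one_smul]
  have hut : u = t ^ 2 - 2 := by
    rw [hu, hA2, Matrix.trace_sub, Matrix.trace_smul, Matrix.trace_one, Fintype.card_fin, smul_eq_mul]
    push_cast
    ring
  -- M = B - ε
  have hcomm : Commute B (ε • (1 : Matrix (Fin 2) (Fin 2) F)) :=
    (Commute.one_right B).smul_right ε
  have hMp : (B - ε • (1 : Matrix (Fin 2) (Fin 2) F)) ^ p = 0 := by
    rw [sub_pow_char_of_commute p hcomm, h, smul_pow, one_pow, hεp, sub_self]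
  have hM2 : (B - ε • (1 : Matrix (Fin 2) (Fin 2) F)) ^ 2 = (u - 2 * ε) • B := by
    rw [pow_two, sub_mul, mul_sub, mul_sub, ← pow_two, hB2]
    simp only [smul_mul_assoc, mul_smul_comm, one_mul, mul_one, smul_smul]
    rw [← pow_two, hε]
    module
  have hkey : ((u - 2 * ε) ^ p * ε) • (1 : Matrix (Fin 2) (Fin 2) F) = 0 := by
    have h1 : ((B - ε • (1 : Matrix (Fin 2) (Fin 2) F)) ^ 2) ^ p = 0 := by
      rw [← pow_mul, mul_comm, pow_mul, hMp, zero_pow (by norm_num)]
    rw [hM2, smul_pow, h, smul_smul] at h1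
    exact h1
  rw [smul_one_eq_zero_iff] at hkey
  have hu2 : u = 2 * ε := by
    rcases mul_eq_zero.mp hkey with h1 | h1
    · exact sub_eq_zero.mp (pow_eq_zero_iff (hpp.ne_zero) |>.mp h1)
    · exact absurd h1 hε0
  have hεcases : ε = 1 ∨ ε = -1 := by
    have : (ε - 1) * (ε + 1) = 0 := by linear_combination hε
    rcases mul_eq_zero.mp this with h1 | h1
    · left; exact sub_eq_zero.mp h1
    · right; exact eq_neg_of_add_eq_zero_left h1
  rcases hεcases with rfl | rfl
  · left
    have ht4 : t ^ 2 = 4 := by linear_combination hu2 - hut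
    refine ⟨t / 2, ?_, ?_⟩
    · field_simp
      linear_combination ht4
    · set δ := t / 2 with hδ
      have hδ2 : δ ^ 2 = 1 := by
        rw [hδ]; field_simp; linear_combination ht4
      have htδ : t = 2 * δ := by rw [hδ]; field_simp
      have hδp : δ ^ p = δ := by
        obtain ⟨k, hk⟩ := hodd
        rw [hk, pow_succ, pow_mul, hδ2, one_pow, one_mul]
      have hN2 : (A - δ • (1 : Matrix (Fin 2) (Fin 2) F)) ^ 2 = 0 := by
        rw [pow_two, sub_mul, mul_sub, mul_sub, ← pow_two, ← hB, hA2]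
        simp only [smul_mul_assoc, mul_smul_comm, one_mul, mul_one, smul_smul]
        rw [← pow_two, hδ2, htδ]
        module
      have hNp : (A - δ • (1 : Matrix (Fin 2) (Fin 2) F)) ^ p = 0 := by
        have : p = 2 + (p - 2) := by have := hpp.two_le; omega
        rw [this, pow_add, hN2, zero_mul]
      have hcomm2 : Commute A (δ • (1 : Matrix (Fin 2) (Fin 2) F)) :=
        (Commute.one_right A).smul_right δ
      rw [sub_pow_char_of_commute p hcomm2, smul_pow, one_pow, hδp] at hNp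
      exact sub_eq_zero.mp hNp
  · right
    have ht0 : t ^ 2 = 0 := by linear_combination hu2 - hut
    have ht0' : t = 0 := pow_eq_zero_iff (two_ne_zero) |>.mp ht0
    rw [hA2, ht0', zero_smul, zero_sub]

end

theorem result {F : Type*} [Field F] [Fintype F] (p : ℕ) [Fact p.Prime] [CharP F p] (hp : p ≠ 2) (h5 : 5 ≤ Fintype.card F) (g : Matrix.ProjectiveSpecialLinearGroup (Fin 2) F) :
    orderOf g ≠ 2 * p := by
  have hpp : p.Prime := Fact.out
  intro hord
  obtain ⟨A, rfl⟩ := QuotientGroup.mk_surjective g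
  have h1 : (QuotientGroup.mk A : Matrix.ProjectiveSpecialLinearGroup (Fin 2) F) ^ (2 * p) = 1 := by
    rw [← hord]; exact pow_orderOf_eq_one _
  rw [← QuotientGroup.mk_pow, QuotientGroup.eq_one_iff, Matrix.SpecialLinearGroup.mem_center_iff] at h1
  obtain ⟨ε, hε, hεA⟩ := h1
  rw [Fintype.card_fin] at hε
  have hA : ((A : Matrix (Fin 2) (Fin 2) F) ^ 2) ^ p = ε • (1 : Matrix (Fin 2) (Fin 2) F) := by
    rw [← pow_mul, ← Matrix.SpecialLinearGroup.coe_pow, ← hεA, Matrix.smul_one_eq_diagonal]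
    rfl
  rcases core p hp (A : Matrix (Fin 2) (Fin 2) F) A.det_coe ε hε hA with ⟨δ, hδ, hAp⟩ | hA2
  · have hmem : A ^ p ∈ Subgroup.center (Matrix.SpecialLinearGroup (Fin 2) F) := by
      rw [Matrix.SpecialLinearGroup.mem_center_iff]
      refine ⟨δ, by rw [Fintype.card_fin]; exact hδ, ?_⟩
      rw [Matrix.SpecialLinearGroup.coe_pow, hAp, Matrix.smul_one_eq_diagonal]
      rfl
    have h2 : (QuotientGroup.mk A : Matrix.ProjectiveSpecialLinearGroup (Fin 2) F) ^ p = 1 := by
      rw [← QuotientGroup.mk_pow, QuotientGroup.eq_one_iff]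
      exact hmem
    have h3 := orderOf_dvd_of_pow_eq_one h2
    rw [hord] at h3
    have := Nat.le_of_dvd hpp.pos h3
    have := hpp.two_le
    omega
  · have hmem : A ^ 2 ∈ Subgroup.center (Matrix.SpecialLinearGroup (Fin 2) F) := by
      rw [Matrix.SpecialLinearGroup.mem_center_iff]
      refine ⟨-1, by rw [Fintype.card_fin]; norm_num, ?_⟩
      rw [Matrix.SpecialLinearGroup.coe_pow, hA2]
      ext i j
      fin_cases i <;> fin_cases j <;> simp
    have h2 : (QuotientGroup.mk A : Matrix.ProjectiveSpecialLinearGroup (Fin 2) F) ^ 2 = 1 := by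
      rw [← QuotientGroup.mk_pow, QuotientGroup.eq_one_iff]
      exact hmem
    have h3 := orderOf_dvd_of_pow_eq_one h2
    rw [hord] at h3
    have := Nat.le_of_dvd (by norm_num) h3
    have := hpp.two_le
    omega

end Cfsg.Agent.S2471
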