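import Mathlib
import Cfsg.Statements.S2477
import Cfsg.Agent.Lib.Helper5.AltOrders

set_option autoImplicit false
open Cfsg

namespace Cfsg.Agent.S2477

/-- the list of element orders of `A₁₀` -/
def ordList : List ℕ := [1, 2, 3, 4, 5, 6, 7, 8, 9, 10, 12, 15, 21]

/-- exhaustive check over ordered sequences of parts `≥ 2` with total at most `b` -/
def chk : ℕ → ℕ → ℕ → ℕ → Bool
  | 0, _, l, par => (par % 2 != 0 || ordList.contains l)
  | (f + 1), b, l, par => (par % 2 != 0 || ordList.contains l) &&
      (List.range (b + 1)).all (fun a => decide (a < 2) || chk f (b - a) (Nat.lcm l a) (par + a + 1))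

lemma chk_sound : ∀ (f b l par : ℕ), chk f b l par = true → ∀ m : Multiset ℕ,
    (∀ a ∈ m, 2 ≤ a) → m.sum ≤ b → Multiset.card m ≤ f →
    (par + m.sum + Multiset.card m) % 2 = 0 → Nat.lcm l m.lcm ∈ ordList := by
  intro f
  induction f with
  | zero =>
    intro b l par h m _ _ hcard hpar
    have hm : m = 0 := Multiset.card_eq_zero.mp (Nat.le_zero.mp hcard)
    subst hm
    simp only [chk, Bool.or_eq_true, bne_iff_ne, ne_eq, List.contains_iff_mem] at h
    simp only [Multiset.sum_zero, Multiset.card_zero, add_zero] at hpar
    simpa using h.resolve_left (by simpa using hpar)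
  | succ f ih =>
    intro b l par h m h2 hsum hcard hpar
    simp only [chk, Bool.and_eq_true, Bool.or_eq_true, bne_iff_ne, ne_eq, List.contains_iff_mem,
      List.all_eq_true, List.mem_range, decide_eq_true_eq] at h
    induction m using Multiset.induction_on with
    | empty =>
      simp only [Multiset.sum_zero, Multiset.card_zero, add_zero] at hpar
      simpa using h.1.resolve_left (by simpa using hpar)
    | cons a m' _ =>
      simp only [Multiset.sum_cons, Multiset.card_cons] at hsum hcard hpar
      have ha2 : 2 ≤ a := h2 a (Multiset.mem_cons_self a m')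
      have := (h.2 a (by omega)).resolve_left (by omega)
      have key := ih (b - a) (Nat.lcm l a) (par + a + 1) this m'
        (fun x hx => h2 x (Multiset.mem_cons_of_mem hx)) (by omega) (by omega) (by omega)
      rw [Multiset.lcm_cons]
      change Nat.lcm l (Nat.lcm a m'.lcm) ∈ ordList
      rw [← Nat.lcm_assoc]
      exact key

lemma chk_eval : chk 5 10 1 0 = true := by decide

theorem result : Set.range (orderOf : alternatingGroup (Fin 10) → ℕ) = {1, 2, 3, 4, 5, 6, 7, 8, 9, 10, 12, 15, 21} := by
  ext N
  rw [Cfsg.Agent.Lib.Helper5.mem_range_orderOf_alt_iff]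
  constructor
  · rintro ⟨m, h2, hsum, hev, rfl⟩
    have hcard : Multiset.card m ≤ 5 := by
      have : Multiset.card m • 2 ≤ m.sum := Multiset.card_nsmul_le_sum h2
      simp only [smul_eq_mul] at this
      omega
    have := chk_sound 5 10 1 0 chk_eval m h2 hsum hcard (by
      rw [zero_add]; exact Nat.even_iff.mp hev)
    rw [Nat.lcm_one_left] at this
    simpa [ordList] using this
  · intro hN
    simp only [Set.mem_insert_iff, Set.mem_singleton_iff] at hN
    rcases hN with rfl | rfl | rfl | rfl | rfl | rfl | rfl | rfl | rfl | rfl | rfl | rfl | rfl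
    · exact ⟨0, by decide, by decide, by decide, by decide⟩
    · exact ⟨{2, 2}, by decide, by decide, by decide, by decide⟩
    · exact ⟨{3}, by decide, by decide, by decide, by decide⟩
    · exact ⟨{4, 2}, by decide, by decide, by decide, by decide⟩
    · exact ⟨{5}, by decide, by decide, by decide, by decide⟩
    · exact ⟨{3, 2, 2}, by decide, by decide, by decide, by decide⟩
    · exact ⟨{7}, by decide, by decide, by decide, by decide⟩
    · exact ⟨{8, 2}, by decide, by decide, by decide, by decide⟩
    · exact ⟨{9}, by decide, by decide, by decide, by decide⟩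
    · exact ⟨{5, 2, 2}, by decide, by decide, by decide, by decide⟩
    · exact ⟨{4, 3, 2}, by decide, by decide, by decide, by decide⟩
    · exact ⟨{5, 3}, by decide, by decide, by decide, by decide⟩
    · exact ⟨{7, 3}, by decide, by decide, by decide, by decide⟩

end Cfsg.Agent.S2477
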