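import Mathlib
import Cfsg.Statements.S2514

set_option autoImplicit false
open Cfsg

namespace Cfsg.Agent.S2514

/-- the maximal element orders -/
def maxOrd (X : Type*) [Group X] : Set ℕ :=
  {n : ℕ | n ∈ Set.range (orderOf : X → ℕ) ∧ ∀ m ∈ Set.range (orderOf : X → ℕ), n ∣ m → m = n}

lemma exists_max {X : Type*} [Group X] [Finite X] (x : X) :
    ∃ M ∈ maxOrd X, orderOf x ∣ M := by
  classical
  have hfin : ({m | m ∈ Set.range (orderOf : X → ℕ) ∧ orderOf x ∣ m} : Set ℕ).Finite :=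
    (Set.finite_range (orderOf : X → ℕ)).subset (fun m hm => hm.1)
  obtain ⟨M, hM, hmax⟩ := Set.exists_max_image _ (fun m : ℕ => m) hfin
    ⟨orderOf x, ⟨x, rfl⟩, dvd_rfl⟩
  refine ⟨M, ⟨hM.1, ?_⟩, hM.2⟩
  rintro m' ⟨y, rfl⟩ hdvd
  have h1 : orderOf y ≤ M := hmax (orderOf y) ⟨⟨y, rfl⟩, hM.2.trans hdvd⟩
  have h2 : M ≤ orderOf y := Nat.le_of_dvd (orderOf_pos y) hdvd
  omega

lemma exists_of_dvd {X : Type*} [Group X] [Finite X] (x : X) (d : ℕ) (hd : d ∣ orderOf x) :
    ∃ y : X, orderOf y = d :=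
  ⟨x ^ (orderOf x / d), orderOf_pow_orderOf_div (orderOf_pos x).ne' hd⟩

lemma pow_eq_one_iff_of_orderOf_eq {X Y : Type*} [Monoid X] [Monoid Y] {x : X} {y : Y}
    (h : orderOf x = orderOf y) (n : ℕ) : x ^ n = 1 ↔ y ^ n = 1 := by
  rw [← orderOf_dvd_iff_pow_eq_one, ← orderOf_dvd_iff_pow_eq_one, h]

theorem main {G H : Type*} [Group G] [Finite G] [Group H] [Finite H] (k : ℕ)
    (hsub : maxOrd H ⊆ maxOrd G)
    (hfew : (maxOrd G \ maxOrd H).ncard < k + 1) :
    Set.range (orderOf : (Fin (k + 1) → G) → ℕ) = Set.range (orderOf : (Fin k → G) × H → ℕ) := by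
  classical
  ext n
  constructor
  · rintro ⟨f, rfl⟩
    choose M hM hMd using fun i => exists_max (f i)
    by_cases hA : ∃ i, M i ∈ maxOrd H
    · obtain ⟨i, hi⟩ := hA
      obtain ⟨h', hh'⟩ := hi.1
      obtain ⟨h, hh⟩ := exists_of_dvd h' (orderOf (f i)) (hh' ▸ hMd i)
      refine ⟨(fun j => f (i.succAbove j), h), ?_⟩
      rw [orderOf_eq_orderOf_iff]
      intro n
      rw [Prod.ext_iff, funext_iff, funext_iff, Fin.forall_iff_succAbove i]
      simp only [Prod.pow_fst, Prod.pow_snd, Pi.pow_apply, Prod.fst_one, Prod.snd_one, Pi.one_apply]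
      rw [pow_eq_one_iff_of_orderOf_eq hh n, and_comm]
    · push Not at hA
      have hmaps : ∀ i ∈ (Set.univ : Set (Fin (k + 1))), M i ∈ maxOrd G \ maxOrd H :=
        fun i _ => ⟨hM i, hA i⟩
      have hfinD : (maxOrd G \ maxOrd H).Finite :=
        (Set.finite_range (orderOf : G → ℕ)).subset (fun m hm => hm.1.1)
      have hc : (maxOrd G \ maxOrd H).ncard < (Set.univ : Set (Fin (k + 1))).ncard := by
        rw [Set.ncard_univ, Nat.card_fin]
        exact hfew
      obtain ⟨i, -, j, -, hij, hMij⟩ :=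
        Set.exists_ne_map_eq_of_ncard_lt_of_maps_to hc hmaps hfinD
      obtain ⟨g', hg'⟩ := (hM i).1
      have hdvd : Nat.lcm (orderOf (f i)) (orderOf (f j)) ∣ orderOf g' := by
        rw [hg']
        exact Nat.lcm_dvd (hMd i) (hMij ▸ hMd j)
      obtain ⟨g, hg⟩ := exists_of_dvd g' _ hdvd
      have hgn : ∀ n : ℕ, g ^ n = 1 ↔ (f i ^ n = 1 ∧ f j ^ n = 1) := by
        intro n
        rw [← orderOf_dvd_iff_pow_eq_one, ← orderOf_dvd_iff_pow_eq_one,
          ← orderOf_dvd_iff_pow_eq_one, hg]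
        exact Nat.lcm_dvd_iff
      refine ⟨(fun l => Function.update f j g (i.succAbove l), 1), ?_⟩
      rw [orderOf_eq_orderOf_iff]
      intro n
      rw [Prod.ext_iff, funext_iff, funext_iff]
      simp only [Prod.pow_fst, Prod.pow_snd, Pi.pow_apply, Prod.fst_one, Prod.snd_one, Pi.one_apply,
        one_pow, and_true]
      constructor
      · intro hf
        obtain ⟨l₀, hl₀⟩ := Fin.exists_succAbove_eq hij.symm
        have h1 := hf l₀
        rw [hl₀, Function.update_self] at h1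
        have h2 := (hgn n).mp h1
        rw [Fin.forall_iff_succAbove i]
        refine ⟨h2.1, fun l => ?_⟩
        by_cases hl : i.succAbove l = j
        · rw [hl]; exact h2.2
        · have := hf l
          rwa [Function.update_of_ne hl] at this
      · intro hf l
        have hfi := hf i
        have hfj := hf j
        have hgn' := (hgn n).mpr ⟨hfi, hfj⟩
        by_cases hl : i.succAbove l = j
        · rw [hl, Function.update_self]
          exact hgn'
        · rw [Function.update_of_ne hl]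
          exact hf _
  · rintro ⟨⟨f', h⟩, rfl⟩
    -- orders of H are orders of G
    obtain ⟨M, hM, hMd⟩ := exists_max h
    obtain ⟨g', hg'⟩ := (hsub hM).1
    obtain ⟨g, hg⟩ := exists_of_dvd g' (orderOf h) (hg' ▸ hMd)
    refine ⟨Fin.cons g f', ?_⟩
    rw [orderOf_eq_orderOf_iff]
    intro n
    rw [Prod.ext_iff, funext_iff, funext_iff, Fin.forall_fin_succ]
    simp only [Prod.pow_fst, Prod.pow_snd, Pi.pow_apply, Prod.fst_one, Prod.snd_one, Pi.one_apply,
      Fin.cons_zero, Fin.cons_succ]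
    rw [pow_eq_one_iff_of_orderOf_eq hg n, and_comm]

theorem result {G H : Type*} [Group G] [Finite G] [Group H] [Finite H] (k : ℕ) (hk : 1 ≤ k)
    (hsub : {n : ℕ | n ∈ Set.range (orderOf : H → ℕ) ∧ ∀ m ∈ Set.range (orderOf : H → ℕ), n ∣ m → m = n} ⊆ {n : ℕ | n ∈ Set.range (orderOf : G → ℕ) ∧ ∀ m ∈ Set.range (orderOf : G → ℕ), n ∣ m → m = n})
    (hfew : ({n : ℕ | n ∈ Set.range (orderOf : G → ℕ) ∧ ∀ m ∈ Set.range (orderOf : G → ℕ), n ∣ m → m = n} \ {n : ℕ | n ∈ Set.range (orderOf : H → ℕ) ∧ ∀ m ∈ Set.range (orderOf : H → ℕ), n ∣ m → m = n}).ncard < k) :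
    Set.range (orderOf : (Fin k → G) → ℕ) = Set.range (orderOf : (Fin (k - 1) → G) × H → ℕ) := by
  obtain ⟨k', rfl⟩ : ∃ k', k = k' + 1 := ⟨k - 1, by omega⟩
  exact main k' hsub hfew

end Cfsg.Agent.S2514
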