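import Cfsg.Statements.S2515
import Cfsg.Agent.Lib.Helper1.RU5

set_option autoImplicit false
open Cfsg

namespace Cfsg.Agent.S2515

/-- Let q = 3^α with α ≥ 3 odd. There is a finite group H having a non-trivial normal 3-subgroup and whose element orders maximal under divisibility are exactly 6, 9, q − 1 and (q + 1)/2. -/
theorem result (α : ℕ) (hα : 3 ≤ α) (hodd : Odd α) :
    ∃ (H : Type) (_ : Group H) (_ : Fintype H), (∃ P : Subgroup H, P.Normal ∧ P ≠ ⊥ ∧ IsPGroup 3 ↥P) ∧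
      {n : ℕ | n ∈ Set.range (orderOf : H → ℕ) ∧ ∀ m ∈ Set.range (orderOf : H → ℕ), n ∣ m → m = n} = ({6, 9, 3 ^ α - 1, (3 ^ α + 1) / 2} : Set ℕ) := by
  obtain ⟨m, rfl⟩ := hodd
  have hm : 1 ≤ m := by omega
  haveI : Fact (Nat.Prime 3) := ⟨Nat.prime_three⟩
  haveI : Fintype (GaloisField 3 (2 * m + 1)) := Fintype.ofFinite _
  have hK : Fintype.card (GaloisField 3 (2 * m + 1)) = 3 ^ (2 * m + 1) := by
    rw [← Nat.card_eq_fintype_card]
    exact GaloisField.card 3 (2 * m + 1) (by omega)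
  haveI : CharP (GaloisField 3 (2 * m + 1)) 3 := inferInstance
  have hq := Cfsg.Agent.Lib.Helper5.Ree.pow_card_eq hK
  refine ⟨↥(Cfsg.Agent.Lib.Helper1.RU.MM (K := GaloisField 3 (2 * m + 1)) 1), inferInstance,
    Fintype.ofFinite _, ⟨Cfsg.Agent.Lib.Helper1.RU.TT 1, Cfsg.Agent.Lib.Helper1.RU.TT_normal 1,
      Cfsg.Agent.Lib.Helper1.RU.TT_ne_bot 1 one_pos, Cfsg.Agent.Lib.Helper1.RU.TT_isPGroup 1⟩, ?_⟩
  apply Cfsg.Agent.Lib.Helper1.RU.QA.maximal_set (Cfsg.Agent.Lib.Helper1.RW.qa_ree m hm)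
    (Set.range (orderOf : ↥(Cfsg.Agent.Lib.Helper1.RU.MM (K := GaloisField 3 (2 * m + 1)) 1) → ℕ))
  intro d
  rw [Set.mem_range]
  exact Cfsg.Agent.Lib.Helper1.RU.spectrum_MM m hq hK hm 1 one_pos d

end Cfsg.Agent.S2515
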