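import Mathlib
import Cfsg.Statements.S2516

set_option autoImplicit false
open Cfsg

namespace Cfsg.Agent.S2516

section
variable {F : Type*} [Field F] {V : Type*} [AddCommGroup V] [Module F V]
    {G : Type*} [Group G] (ρ : Representation F G V)

/-- the action -/
abbrev phi : G →* MulAut (Multiplicative V) :=
  (MulAutMultiplicative V).symm.toMonoidHom.comp
        ((DistribMulAction.toAddAut ((V →ₗ[F] V)ˣ) V).comp ρ.asGroupHom)

lemma phi_apply (g : G) (v : Multiplicative V) :
    phi ρ g v = Multiplicative.ofAdd (ρ g (Multiplicative.toAdd v)) := rfl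

lemma pow_right' (x : Multiplicative V ⋊[phi ρ] G) (n : ℕ) : (x ^ n).right = x.right ^ n :=
  map_pow (SemidirectProduct.rightHom (φ := phi ρ)) x n

lemma pow_left (x : Multiplicative V ⋊[phi ρ] G) (n : ℕ) :
    (x ^ n).left = Multiplicative.ofAdd
      ((∑ i ∈ Finset.range n, (ρ x.right) ^ i) (Multiplicative.toAdd x.left)) := by
  induction n with
  | zero => simp
  | succ n ih =>
    rw [pow_succ, SemidirectProduct.mul_left, ih, Finset.sum_range_succ, phi_apply, pow_right' ρ,
      map_pow]
    simp only [LinearMap.add_apply, ofAdd_add]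

lemma pow_orderOf (x : Multiplicative V ⋊[phi ρ] G) :
    x ^ orderOf x.right = SemidirectProduct.inl (Multiplicative.ofAdd
      ((∑ i ∈ Finset.range (orderOf x.right), (ρ x.right) ^ i) (Multiplicative.toAdd x.left))) := by
  ext
  · rw [pow_left, SemidirectProduct.left_inl]
  · rw [pow_right', SemidirectProduct.right_inl, pow_orderOf_eq_one]

end

theorem result {F : Type*} [Field F] (p : ℕ) [Fact p.Prime] [CharP F p] {V : Type*} [AddCommGroup V] [Module F V] [FiniteDimensional F V] [Nontrivial V]
    {G : Type*} [Group G] [Finite G] (ρ : Representation F G V) (g : G) :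
    (∃ x : Multiplicative V ⋊[(MulAutMultiplicative V).symm.toMonoidHom.comp
        ((DistribMulAction.toAddAut ((V →ₗ[F] V)ˣ) V).comp ρ.asGroupHom)] G,
        x.right = g ∧ orderOf x = p * orderOf g) ↔
      ¬ (minpoly F (ρ g) ∣ ∑ i ∈ Finset.range (orderOf g), (Polynomial.X : Polynomial F) ^ i) := by
  classical
  have hp : p.Prime := Fact.out
  have ho : 0 < orderOf g := orderOf_pos g
  rw [minpoly.dvd_iff]
  simp only [map_sum, map_pow, Polynomial.aeval_X]
  constructor
  · rintro ⟨x, hxg, hx⟩ hN
    have h1 := pow_orderOf ρ x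
    rw [hxg, hN] at h1
    simp only [LinearMap.zero_apply, ofAdd_zero, map_one] at h1
    have h2 := orderOf_dvd_of_pow_eq_one h1
    rw [hx] at h2
    have h3 := Nat.le_of_dvd ho h2
    have : 2 ≤ p := hp.two_le
    nlinarith
  · intro hN
    obtain ⟨v, hv⟩ : ∃ v : V, (∑ i ∈ Finset.range (orderOf g), (ρ g) ^ i) v ≠ 0 := by
      by_contra hcon
      push Not at hcon
      apply hN
      ext v
      simpa using hcon v
    refine ⟨⟨Multiplicative.ofAdd v, g⟩, rfl, ?_⟩
    set x : Multiplicative V ⋊[phi ρ] G := ⟨Multiplicative.ofAdd v, g⟩ with hx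
    have h1 := pow_orderOf ρ x
    simp only [hx, toAdd_ofAdd] at h1
    rw [← hx] at h1
    -- order divides o * p
    have h2 : x ^ (orderOf g * p) = 1 := by
      rw [pow_mul, h1, ← map_pow, ← ofAdd_nsmul, ← Nat.cast_smul_eq_nsmul F, CharP.cast_eq_zero,
        zero_smul, ofAdd_zero, map_one]
    have h3 : orderOf x ∣ orderOf g * p := orderOf_dvd_of_pow_eq_one h2
    have h4 : orderOf g ∣ orderOf x := by
      have := orderOf_map_dvd (SemidirectProduct.rightHom (φ := phi ρ)) x
      simpa [hx] using this
    obtain ⟨j, hj⟩ := h4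
    rw [hj] at h3
    have h5 : j ∣ p := Nat.dvd_of_mul_dvd_mul_left ho h3
    rcases (Nat.dvd_prime hp).mp h5 with rfl | rfl
    · exfalso
      rw [mul_one] at hj
      have h6 : x ^ orderOf g = 1 := by rw [← hj, pow_orderOf_eq_one]
      rw [h1] at h6
      have h7 := congrArg SemidirectProduct.left h6
      simp only [SemidirectProduct.left_inl, SemidirectProduct.one_left] at h7
      exact hv (Multiplicative.ofAdd.injective h7)
    · rw [hj, mul_comm]

end Cfsg.Agent.S2516
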