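import Cfsg.Statements.S2521

set_option autoImplicit false
open Cfsg

namespace Cfsg.Agent.S2521

/-- Let B be a finite group that is the semidirect product of a nilpotent normal subgroup U by an abelian subgroup T (U ∩ T = 1, UT = B), and let t ∈ T have centralizer exactly T. Then every element of the coset tU is conjugate to t in B: for each u ∈ U there is b ∈ B with b t b⁻¹ = t u. -/
theorem result {B : Type*} [Group B] [Finite B] (U T : Subgroup B) [U.Normal] (hU : Group.IsNilpotent ↥U) (hT : IsMulCommutative ↥T)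
    (hcompl : Subgroup.IsComplement' U T) (t : B) (ht : t ∈ T) (hreg : Subgroup.centralizer ({t} : Set B) = T) (u : B) (hu : u ∈ U) :
    ∃ b : B, b * t * b⁻¹ = t * u := by
  -- the map f : U → U, b ↦ t⁻¹ * b * t * b⁻¹ is injective, hence surjective
  have hnorm : ∀ b : B, b ∈ U → t⁻¹ * b * t ∈ U := by
    intro b hb
    have := (inferInstance : U.Normal).conj_mem b hb t⁻¹
    simpa using this
  let f : U → U := fun b => ⟨t⁻¹ * (b : B) * t * (b : B)⁻¹, U.mul_mem (hnorm b b.2) (U.inv_mem b.2)⟩
  have hdisj := hcompl.disjoint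
  have hinj : Function.Injective f := by
    intro b c hbc
    have h1 : t⁻¹ * (b : B) * t * (b : B)⁻¹ = t⁻¹ * (c : B) * t * (c : B)⁻¹ := congrArg Subtype.val hbc
    -- then c⁻¹ b commutes with t
    have h2 : ((c : B)⁻¹ * (b : B)) * t = t * ((c : B)⁻¹ * (b : B)) := by
      have h3 : (b : B) * t * (b : B)⁻¹ = (c : B) * t * (c : B)⁻¹ := by
        have := congrArg (fun x => t * x) h1
        simpa [mul_assoc] using this
      calc ((c : B)⁻¹ * (b : B)) * t = (c : B)⁻¹ * ((b : B) * t * (b : B)⁻¹) * (b : B) := by group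
        _ = (c : B)⁻¹ * ((c : B) * t * (c : B)⁻¹) * (b : B) := by rw [h3]
        _ = t * ((c : B)⁻¹ * (b : B)) := by group
    have h4 : (c : B)⁻¹ * (b : B) ∈ Subgroup.centralizer ({t} : Set B) := by
      rw [Subgroup.mem_centralizer_iff]
      intro x hx
      rw [Set.mem_singleton_iff] at hx
      subst hx
      exact h2.symm
    rw [hreg] at h4
    have h5 : (c : B)⁻¹ * (b : B) ∈ U := U.mul_mem (U.inv_mem c.2) b.2
    have h6 := Subgroup.disjoint_def.mp hdisj h5 h4
    apply Subtype.ext
    have : (b : B) = (c : B) * ((c : B)⁻¹ * (b : B)) := by group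
    rw [this, h6, mul_one]
  have hsurj : Function.Surjective f := Finite.surjective_of_injective hinj
  obtain ⟨b, hb⟩ := hsurj ⟨u, hu⟩
  refine ⟨(b : B), ?_⟩
  have h1 : t⁻¹ * (b : B) * t * (b : B)⁻¹ = u := congrArg Subtype.val hb
  rw [← h1]
  group

end Cfsg.Agent.S2521
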