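import Cfsg.Statements.S2531
import Cfsg.Agent.Lib.Helper2.Sht1
import Cfsg.Agent.Lib.Helper2.Sht2

set_option autoImplicit false
open Cfsg

namespace Cfsg.Agent.S2531

open Cfsg.Agent.Lib.Helper2.Sht in
/-- Let `F` be a finite field and `n ≥ 3`. No set of permutations of the points of the projective space of `Fⁿ`, each induced by an invertible semilinear transformation of `Fⁿ` (so a subset of the full projective semilinear group), is sharply 2-transitive on the points: it is impossible that for all pairs of distinct points `(a, b)` and `(c, d)` exactly one member of the set sends `a` to `c` and `b` to `d`. -/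
theorem result {F : Type*} [Field F] [Finite F]
    (n : ℕ) (hn : 3 ≤ n) (S : Set (Equiv.Perm (Projectivization F (Fin n → F))))
    (hS : ∀ s ∈ S, ∃ (σ : F ≃+* F) (f : (Fin n → F) →ₛₗ[(σ : F →+* F)] (Fin n → F)) (hf : Function.Injective f),
      ∀ x, s x = Projectivization.map f hf x) :
    ¬ (∀ a b c d : Projectivization F (Fin n → F), a ≠ b → c ≠ d →
        ∃! s, s ∈ S ∧ s a = c ∧ s b = d) := by
  classical
  intro hsharp
  haveI : Fintype (Projectivization F (Fin n → F)) := Fintype.ofFinite _
  have hSfin : S.Finite := Set.toFinite S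
  set T := hSfin.toFinset with hT
  have hmem : ∀ s, s ∈ T ↔ s ∈ S := fun s => Set.Finite.mem_toFinset hSfin
  have hex : ∀ s ∈ S, ∀ h, ∃ k : Projectivization F (Fin n → F),
      ∀ p, Inc (s p) k ↔ Inc p h := by
    intro s hs h
    obtain ⟨σ, f, hf, hsf⟩ := hS s hs
    exact exists_dual_point s σ f hf hsf h
  let star : Equiv.Perm (Projectivization F (Fin n → F)) → Projectivization F (Fin n → F) →
      Projectivization F (Fin n → F) :=
    fun s h => if hs : s ∈ S then Classical.choose (hex s hs h) else h
  have hstar : ∀ s ∈ T, ∀ h p, Inc (s p) (star s h) ↔ Inc p h := by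
    intro s hs h p
    have hs' := (hmem s).mp hs
    simp only [star, dif_pos hs']
    exact Classical.choose_spec (hex s hs' h) p
  obtain ⟨a, h, hah⟩ := exists_antiflag (F := F) (n := n) (by omega)
  have hsharp' : ∀ a b c d : Projectivization F (Fin n → F), a ≠ b → c ≠ d →
      ∃! s, s ∈ T ∧ s a = c ∧ s b = d := by
    intro a b c d hab hcd
    simpa only [hmem] using hsharp a b c d hab hcd
  obtain ⟨m, rfl⟩ : ∃ m, n = m + 3 := ⟨n - 3, by omega⟩
  have hq : 2 ≤ Nat.card F := Finite.one_lt_card
  have hq1 : 0 < Nat.card F - 1 := by omega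
  have hcardM : ∀ k : Projectivization F (Fin (m + 3) → F),
      (Finset.univ.filter (fun p => Inc p k)).card * (Nat.card F - 1) + 1
        = Nat.card F ^ (m + 2) := by
    intro k
    have h1 := card_inc k
    rw [Nat.card_eq_fintype_card, Fintype.card_subtype] at h1
    exact h1
  have hcardL : ∀ h k : Projectivization F (Fin (m + 3) → F), h ≠ k →
      (Finset.univ.filter (fun p => Inc p h ∧ Inc p k)).card * (Nat.card F - 1) + 1
        = Nat.card F ^ (m + 1) := by
    intro h k hne
    have h1 := card_inc2 hne
    rw [Nat.card_eq_fintype_card, Fintype.card_subtype] at h1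
    exact h1
  have hcardN : Fintype.card (Projectivization F (Fin (m + 3) → F)) * (Nat.card F - 1) + 1
      = Nat.card F ^ (m + 3) := by
    have h1 := card_all (F := F) (n := m + 3)
    rw [Nat.card_eq_fintype_card] at h1
    exact h1
  obtain ⟨M, hMdef⟩ : ∃ M, M = (Finset.univ.filter
      (fun p : Projectivization F (Fin (m + 3) → F) => Inc p h)).card := ⟨_, rfl⟩
  have hM : ∀ k : Projectivization F (Fin (m + 3) → F),
      (Finset.univ.filter (fun p => Inc p k)).card = M := by
    intro k
    apply Nat.eq_of_mul_eq_mul_right hq1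
    have h1 := hcardM k
    have h2 := hcardM h
    rw [← hMdef] at h2
    omega
  have hMeq : M * (Nat.card F - 1) + 1 = Nat.card F ^ (m + 2) := by
    rw [hMdef]
    exact hcardM h
  -- a second hyperplane
  by_cases hex2 : ∃ k, k ≠ h
  · obtain ⟨k₁, hk₁⟩ := hex2
    obtain ⟨L, hLdef⟩ : ∃ L, L = (Finset.univ.filter
        (fun p : Projectivization F (Fin (m + 3) → F) => Inc p h ∧ Inc p k₁)).card :=
      ⟨_, rfl⟩
    have hLeq : L * (Nat.card F - 1) + 1 = Nat.card F ^ (m + 1) := by
      rw [hLdef]
      exact hcardL h k₁ hk₁.symm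
    have hL : ∀ h' k' : Projectivization F (Fin (m + 3) → F), h' ≠ k' →
        (Finset.univ.filter (fun p => Inc p h' ∧ Inc p k')).card = L := by
      intro h' k' hne
      apply Nat.eq_of_mul_eq_mul_right hq1
      have h1 := hcardL h' k' hne
      omega
    have hMpos : 0 < M := by
      by_contra h0
      have h1 : M = 0 := by omega
      rw [h1] at hMeq
      have h2 : 1 < Nat.card F ^ (m + 2) := Nat.one_lt_pow (by omega) (by omega)
      omega
    obtain ⟨f₀, g₀, hfg, hid⟩ := count_identity Inc T star hsharp' hstar M L hM hL a h hah hMpos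
    exact arith_contra (Nat.card F) m M L _ f₀ g₀ hq hMeq hLeq hcardN hfg hid
  · -- only one point: impossible
    push Not at hex2
    exact hah (by
      have h1 : ∃ d, Inc d h := by
        by_contra hcon
        push Not at hcon
        have h2 : (Finset.univ.filter (fun p => Inc p h)).card = 0 := by
          rw [Finset.card_eq_zero, Finset.filter_eq_empty_iff]
          intro p _
          exact hcon p
        have h3 := hcardM h
        rw [h2] at h3
        have h4 : 1 < Nat.card F ^ (m + 2) := Nat.one_lt_pow (by omega) (by omega)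
        omega
      obtain ⟨d, hd⟩ := h1
      have h5 : d = h := hex2 d
      have h6 : a = h := hex2 a
      rw [h6]
      rw [h5] at hd
      exact hd)

end Cfsg.Agent.S2531
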