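import Mathlib
import Cfsg.Statements.S2540
import Cfsg.Agent.Lib.Helper5.SLNormalized
import Cfsg.Agent.S0249

set_option autoImplicit false
open Cfsg

namespace Cfsg.Agent.S2540

/-- Let F be a finite field and n ≥ 1, excluding the case n = 2 with #F ≤ 3. A subgroup of GL_n(F) that is normalized by every element of SL_n(F) either consists of scalar matrices or contains SL_n(F). -/
theorem result {F : Type*} [Field F] [Fintype F] (n : ℕ) (hn : 1 ≤ n) (hex : ¬ (n = 2 ∧ Fintype.card F ≤ 3)) (G : Subgroup (Matrix.GeneralLinearGroup (Fin n) F)) (hG : ∀ s : Matrix.SpecialLinearGroup (Fin n) F, ∀ g ∈ G, (Matrix.SpecialLinearGroup.toGL s) * g * (Matrix.SpecialLinearGroup.toGL s)⁻¹ ∈ G) : (∀ g ∈ G, ∃ c : F, (g : Matrix (Fin n) (Fin n) F) = c • (1 : Matrix (Fin n) (Fin n) F)) ∨ (Matrix.SpecialLinearGroup.toGL : Matrix.SpecialLinearGroup (Fin n) F →* _).range ≤ G := by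
  classical
  rcases Nat.lt_or_ge n 2 with h1 | h2
  · left
    intro g _
    have hn1 : n = 1 := by omega
    subst hn1
    refine ⟨(g : Matrix (Fin 1) (Fin 1) F) 0 0, ?_⟩
    ext i j
    rw [Subsingleton.elim i 0, Subsingleton.elim j 0]
    simp
  · rcases Nat.lt_or_ge n 3 with h3 | h3
    · have hn2 : n = 2 := by omega
      subst hn2
      have hcard : 4 ≤ Fintype.card F := by
        by_contra hlt
        exact hex ⟨rfl, by omega⟩
      have hcond : ∃ a : F, a ≠ 0 ∧ a ^ 2 ≠ 1 := by
        by_contra hcon
        push Not at hcon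
        have hsub : (Finset.univ : Finset F) ⊆ {0, 1, -1} := by
          intro a _
          by_cases ha : a = 0
          · rw [ha]; simp
          · have h2 := hcon a ha
            have h3 : (a - 1) * (a + 1) = 0 := by linear_combination h2
            rcases mul_eq_zero.mp h3 with h4 | h4
            · rw [sub_eq_zero.mp h4]; simp
            · rw [eq_neg_of_add_eq_zero_left h4]; simp
        have := Finset.card_le_card hsub
        rw [Finset.card_univ] at this
        have h5 : ({0, 1, -1} : Finset F).card ≤ 3 := Finset.card_le_three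
        omega
      obtain ⟨a, ha, hasq⟩ := hcond
      exact Cfsg.Agent.Lib.Helper5.SLNormalized.main (le_refl 2)
        (Matrix.ProjectiveSpecialLinearGroup.rank_two_simple' ⟨a, ha, hasq⟩)
        (Matrix.SL2.commutator_eq_top ha hasq) G hG
    · exact Cfsg.Agent.Lib.Helper5.SLNormalized.main h2
        (Cfsg.Agent.S0249.psl_simple (by simpa using h3))
        (Cfsg.Agent.Lib.Helper4.SL_commutator_eq_top (by simpa using h3)) G hG

end Cfsg.Agent.S2540
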