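import Cfsg.Statements.S2541

set_option autoImplicit false
open Cfsg

namespace Cfsg.Agent.S2541

open Matrix

/-- in the symmetric group of degree six, an element of order dividing eight has order dividing four -/
theorem perm_six (σ : Equiv.Perm (Fin 6)) (h : σ ^ 8 = 1) : σ ^ 4 = 1 := by
  have hdvd : orderOf σ ∣ 8 := orderOf_dvd_of_pow_eq_one h
  have h4 : orderOf σ ∣ 4 := by
    rw [← Equiv.Perm.lcm_cycleType]
    apply Multiset.lcm_dvd.mpr
    intro n hn
    have h1 : n ∣ 8 := (Equiv.Perm.dvd_of_mem_cycleType hn).trans hdvd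
    have h2 : n ≤ 6 := by
      have := Equiv.Perm.le_card_support_of_mem_cycleType hn
      have h3 : σ.support.card ≤ Fintype.card (Fin 6) := Finset.card_le_univ _
      simp at h3
      omega
    have h8 : n ≤ 8 := Nat.le_of_dvd (by norm_num) h1
    interval_cases n <;> simp_all <;> omega
  exact orderOf_dvd_iff_pow_eq_one.mp h4

/-- the diagonal element -/
def diagGL {F : Type*} [Field F] (z : Fˣ) : GL (Fin 2) F :=
  ⟨Matrix.diagonal ![(z : F), 1], Matrix.diagonal ![((z⁻¹ : Fˣ) : F), 1],
    by
      rw [Matrix.diagonal_mul_diagonal]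
      ext i j
      fin_cases i <;> fin_cases j <;> simp [Matrix.diagonal],
    by
      rw [Matrix.diagonal_mul_diagonal]
      ext i j
      fin_cases i <;> fin_cases j <;> simp [Matrix.diagonal]⟩

theorem diagGL_pow {F : Type*} [Field F] (z : Fˣ) (k : ℕ) : (diagGL z) ^ k = diagGL (z ^ k) := by
  apply Units.ext
  simp only [Units.val_pow_eq_pow_val, diagGL, Matrix.diagonal_pow]
  congr 1
  ext i
  fin_cases i <;> simp

theorem diagGL_mem_center {F : Type*} [Field F] (z : Fˣ)
    (h : diagGL z ∈ Subgroup.center (GL (Fin 2) F)) : z = 1 := by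
  rw [Matrix.GeneralLinearGroup.mem_center_iff_val_mem_range_scalar] at h
  obtain ⟨c, hc⟩ := h
  have h0 := congrFun (congrFun hc 0) 0
  have h1 := congrFun (congrFun hc 1) 1
  simp [diagGL, Matrix.scalar] at h0 h1
  apply Units.ext
  rw [← h0, h1]; rfl

/-- S_6 is not isomorphic to PGL_2(9). -/
theorem result {F : Type*} [Field F] [Fintype F] (hF : Fintype.card F = 9) : ¬ Nonempty (Equiv.Perm (Fin 6) ≃* Matrix.ProjGenLinGroup (Fin 2) F) := by
  classical
  rintro ⟨e⟩
  obtain ⟨z, hz⟩ := IsCyclic.exists_generator (α := Fˣ)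
  have hord : orderOf z = 8 := by
    rw [orderOf_eq_card_of_forall_mem_zpowers hz, Nat.card_eq_fintype_card, Fintype.card_units, hF]
  set g : Matrix.ProjGenLinGroup (Fin 2) F := Matrix.ProjGenLinGroup.mk (diagGL z) with hg
  have hg8 : g ^ 8 = 1 := by
    rw [hg, ← map_pow, diagGL_pow, ← hord, pow_orderOf_eq_one]
    have : diagGL (1 : Fˣ) = 1 := by
      apply Units.ext
      simp only [diagGL, Units.val_one]
      ext i j
      fin_cases i <;> fin_cases j <;> simp [Matrix.diagonal]
    rw [this, map_one]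
  have hg4 : g ^ 4 ≠ 1 := by
    rw [hg, ← map_pow, diagGL_pow]
    intro h
    rw [Matrix.ProjGenLinGroup.mk_eq_one] at h
    have h1 := diagGL_mem_center _ h
    have := orderOf_dvd_of_pow_eq_one h1
    rw [hord] at this
    omega
  have h8 : (e.symm g) ^ 8 = 1 := by rw [← map_pow, hg8, map_one]
  have h4 := perm_six _ h8
  rw [← map_pow] at h4
  apply hg4
  have := congrArg e h4
  simpa using this

end Cfsg.Agent.S2541
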