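import Mathlib
import Cfsg.Statements.S2542
import Cfsg.Agent.Lib.Lead.PSL11

set_option autoImplicit false

open Cfsg

namespace Cfsg.Agent.S2542

theorem result {F : Type*} [Field F] [Fintype F] (hF : Fintype.card F = 11) : ∃ H : Subgroup (Matrix.ProjectiveSpecialLinearGroup (Fin 2) F), H.index = 11 ∧ Nonempty (H ≃* alternatingGroup (Fin 5)) ∧ MulAction.IsMultiplyPretransitive (Matrix.ProjectiveSpecialLinearGroup (Fin 2) F) ((Matrix.ProjectiveSpecialLinearGroup (Fin 2) F) ⧸ H) 2 := by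
  exact Cfsg.Agent.Lib.Lead.PSL11.main hF

end Cfsg.Agent.S2542
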