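import Cfsg.Statements.S2543
import Cfsg.Agent.Lib.Helper9.P11D
import Cfsg.Agent.Lib.Helper7.PSLpD11

set_option autoImplicit false
open scoped Pointwise
open Cfsg

namespace Cfsg.Agent.S2543

/-- Let F be a field with 11 elements. PSL_2(F) has exactly 22 subgroups isomorphic to the alternating group A_5, and they form two conjugacy classes: there are two such subgroups that are not conjugate, and every such subgroup is conjugate to one of these two. -/
theorem result {F : Type*} [Field F] [Fintype F] (hF : Fintype.card F = 11) : Nat.card {H : Subgroup (Matrix.ProjectiveSpecialLinearGroup (Fin 2) F) // Nonempty (H ≃* alternatingGroup (Fin 5))} = 22 ∧ ∃ H K : Subgroup (Matrix.ProjectiveSpecialLinearGroup (Fin 2) F), Nonempty (H ≃* alternatingGroup (Fin 5)) ∧ Nonempty (K ≃* alternatingGroup (Fin 5)) ∧ (∀ g : Matrix.ProjectiveSpecialLinearGroup (Fin 2) F, MulAut.conj g • H ≠ K) ∧ ∀ L : Subgroup (Matrix.ProjectiveSpecialLinearGroup (Fin 2) F), Nonempty (L ≃* alternatingGroup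 (Fin 5)) → ∃ g : Matrix.ProjectiveSpecialLinearGroup (Fin 2) F, MulAut.conj g • L = H ∨ MulAut.conj g • L = K := by
  classical
  haveI : Fact (Nat.Prime 11) := ⟨by norm_num⟩
  obtain ⟨hsimple, hcard⟩ :=
    Cfsg.Agent.Lib.Helper7.PSLp.psl_simple_card (F := F) (p := 11) (m := 5) (by norm_num)
      (by norm_num) hF
  haveI := hsimple
  have hdiv : ∀ n ∈ Nat.divisors ((11 + 1) * 5), n % 11 = 1 → n = 1 ∨ n = 11 + 1 := by
    decide
  obtain ⟨i₂, u₂, A₂⟩ := Cfsg.Agent.Lib.Helper7.PSLp.exists_act (p := 11) (m := 5) (by norm_num)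
    hcard (Cfsg.Agent.Lib.Helper7.PSLp.card_sylow_eq (by norm_num) hcard hdiv)
  obtain ⟨e⟩ := Cfsg.Agent.Lib.Helper7.PSLp.iso Cfsg.Agent.Lib.Helper9.P11.act_G0 A₂
    Cfsg.Agent.Lib.Helper7.PSLp.D11
  exact Cfsg.Agent.Lib.Helper9.P11.st_transport e Cfsg.Agent.Lib.Helper9.P11.st_G0

end Cfsg.Agent.S2543
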