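import Cfsg.Statements.S2550
import Cfsg.Agent.Lib.Helper4.L34b

set_option autoImplicit false
open Cfsg

namespace Cfsg.Agent.S2550

/-- Let F be a field with 2 elements and K a field with 4 elements. PSL_4(F) and PSL_3(K) have the same order (20160) but are not isomorphic. -/
theorem result {F K : Type*} [Field F] [Fintype F] [Field K] [Fintype K] (hF : Fintype.card F = 2) (hK : Fintype.card K = 4) : Nat.card (Matrix.ProjectiveSpecialLinearGroup (Fin 4) F) = Nat.card (Matrix.ProjectiveSpecialLinearGroup (Fin 3) K) ∧ ¬ Nonempty (Matrix.ProjectiveSpecialLinearGroup (Fin 4) F ≃* Matrix.ProjectiveSpecialLinearGroup (Fin 3) K) := by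
  classical
  have hc4 : Nat.card (Matrix.ProjectiveSpecialLinearGroup (Fin 4) F) = 20160 := by
    have h1 := Cfsg.Agent.Lib.Helper4.card_PSL_mul (F := F) 4 (by norm_num)
    have h2 := Cfsg.Agent.Lib.Helper4.card_SL_mul (F := F) 4 (by norm_num)
    rw [Matrix.card_GL_field, hF] at h2
    rw [hF] at h1
    simp only [Fin.prod_univ_four] at h2
    obtain ⟨a, ha⟩ : ∃ a, a = Nat.card (Matrix.ProjectiveSpecialLinearGroup (Fin 4) F) := ⟨_, rfl⟩
    obtain ⟨b, hb⟩ : ∃ b, b = Nat.card (Matrix.SpecialLinearGroup (Fin 4) F) := ⟨_, rfl⟩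
    rw [← ha, ← hb] at h1
    rw [← hb] at h2
    rw [← ha]
    norm_num at h1 h2
    omega
  have hc3 : Nat.card (Matrix.ProjectiveSpecialLinearGroup (Fin 3) K) = 20160 := by
    have h1 := Cfsg.Agent.Lib.Helper4.card_PSL_mul (F := K) 3 (by norm_num)
    have h2 := Cfsg.Agent.Lib.Helper4.card_SL_mul (F := K) 3 (by norm_num)
    rw [Matrix.card_GL_field, hK] at h2
    rw [hK] at h1
    simp only [Fin.prod_univ_three] at h2
    obtain ⟨a, ha⟩ : ∃ a, a = Nat.card (Matrix.ProjectiveSpecialLinearGroup (Fin 3) K) := ⟨_, rfl⟩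
    obtain ⟨b, hb⟩ : ∃ b, b = Nat.card (Matrix.SpecialLinearGroup (Fin 3) K) := ⟨_, rfl⟩
    rw [← ha, ← hb] at h1
    rw [← hb] at h2
    rw [← ha]
    norm_num at h1 h2
    omega
  refine ⟨by rw [hc4, hc3], ?_⟩
  rintro ⟨e⟩
  obtain ⟨x, h6, h2, h3⟩ := Cfsg.Agent.Lib.Helper4.L34.exists_six (F := F) hF
  have h6' : (e x) ^ 6 = 1 := by rw [← map_pow, h6, map_one]
  rcases Cfsg.Agent.Lib.Helper4.L34.no_six hK (e x) h6' with h | h
  · apply h2
    apply e.injective
    rw [map_pow, h, map_one]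
  · apply h3
    apply e.injective
    rw [map_pow, h, map_one]

end Cfsg.Agent.S2550
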