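import Cfsg.Statements.S2552

set_option autoImplicit false
open Cfsg

namespace Cfsg.Agent.S2552

open Matrix

/-- SL_n(q) is transitive on the k-dimensional subspaces of F_q^n for every k. -/
theorem result {F : Type*} [Field F] [Fintype F] (n : ℕ) (hn : 1 ≤ n) (U₁ U₂ : Submodule F (Fin n → F)) (h : Module.finrank F U₁ = Module.finrank F U₂) : ∃ g : Matrix.SpecialLinearGroup (Fin n) F, U₁.map ((Matrix.SpecialLinearGroup.toLin' g : (Fin n → F) ≃ₗ[F] (Fin n → F)) : (Fin n → F) →ₗ[F] (Fin n → F)) = U₂ := by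
  classical
  by_cases hU2 : U₂ = ⊥
  · have hU1 : U₁ = ⊥ := by
      rw [← Submodule.finrank_eq_zero, h, hU2]; simp
    exact ⟨1, by rw [hU1, hU2, Submodule.map_bot]⟩
  · obtain ⟨v, hvU, hv0⟩ := (Submodule.ne_bot_iff _).mp hU2
    obtain ⟨i₀, hi₀⟩ : ∃ i, v i ≠ 0 := by
      by_contra hcon
      push Not at hcon
      exact hv0 (funext hcon)
    let f := LinearEquiv.ofFinrankEq U₁ U₂ h
    obtain ⟨g, hg⟩ := Submodule.exists_linearEquiv_restrict_eq f
    set G : Matrix (Fin n) (Fin n) F := LinearMap.toMatrix' (g : (Fin n → F) →ₗ[F] (Fin n → F)) with hG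
    set d := G.det with hd
    have hd0 : d ≠ 0 := by
      rw [hd, hG, LinearMap.det_toMatrix']
      exact (LinearEquiv.isUnit_det' g).ne_zero
    set S : Matrix (Fin n) (Fin n) F :=
      1 + replicateCol Unit ((d⁻¹ - 1) • v) * replicateRow Unit (Pi.single i₀ (v i₀)⁻¹) with hS
    have hSdet : S.det = d⁻¹ := by
      rw [hS, Matrix.det_one_add_replicateCol_mul_replicateRow]
      simp only [dotProduct_smul, single_dotProduct, smul_eq_mul]
      field_simp
      ring
    have hAdet : (S * G).det = 1 := by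
      rw [Matrix.det_mul, hSdet, ← hd, inv_mul_cancel₀ hd0]
    have hSmul : ∀ u : Fin n → F, S *ᵥ u = u + ((d⁻¹ - 1) * ((v i₀)⁻¹ * u i₀)) • v := by
      intro u
      rw [hS, Matrix.add_mulVec, Matrix.one_mulVec, ← Matrix.mulVec_mulVec]
      congr 1
      ext i
      simp [Matrix.mulVec, dotProduct, replicateCol, replicateRow, Pi.single_apply]
      ring
    refine ⟨⟨S * G, hAdet⟩, ?_⟩
    apply Submodule.eq_of_le_of_finrank_eq
    · rintro w ⟨u, hu, rfl⟩
      show (S * G) *ᵥ u ∈ U₂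
      rw [← Matrix.mulVec_mulVec, hSmul]
      have hgu : G *ᵥ u ∈ U₂ := by
        rw [hG, LinearMap.toMatrix'_mulVec]
        have := hg ⟨u, hu⟩
        simp only [LinearEquiv.coe_coe]
        rw [← this]
        exact (f ⟨u, hu⟩).2
      exact U₂.add_mem hgu (U₂.smul_mem _ hvU)
    · rw [LinearEquiv.finrank_map_eq, h]

end Cfsg.Agent.S2552
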