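import Mathlib
import Cfsg.Statements.S2564

set_option autoImplicit false
open Cfsg

namespace Cfsg.Agent.S2564

/-- the polar form of the plus-type form over `ZMod 2` -/
def polar (m : ℕ) (u v : Fin m ⊕ Fin m → ZMod 2) : ZMod 2 :=
  Cfsg.quadFormPlus m (ZMod 2) (u + v) - Cfsg.quadFormPlus m (ZMod 2) u
    - Cfsg.quadFormPlus m (ZMod 2) v

lemma polar_eq (m : ℕ) (u v : Fin m ⊕ Fin m → ZMod 2) :
    polar m u v = ∑ i : Fin m, (u (.inl i) * v (.inr i) + v (.inl i) * u (.inr i)) := by
  unfold polar Cfsg.quadFormPlus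
  rw [← Finset.sum_sub_distrib, ← Finset.sum_sub_distrib]
  apply Finset.sum_congr rfl
  intro i _
  simp only [Pi.add_apply]
  ring

lemma polar_add_left (m : ℕ) (u u' v : Fin m ⊕ Fin m → ZMod 2) :
    polar m (u + u') v = polar m u v + polar m u' v := by
  rw [polar_eq, polar_eq, polar_eq, ← Finset.sum_add_distrib]
  apply Finset.sum_congr rfl
  intro i _
  simp only [Pi.add_apply]
  ring

lemma polar_comm (m : ℕ) (u v : Fin m ⊕ Fin m → ZMod 2) : polar m u v = polar m v u := by
  rw [polar_eq, polar_eq]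
  apply Finset.sum_congr rfl
  intro i _
  ring

lemma polar_smul_left (m : ℕ) (c : ZMod 2) (u v : Fin m ⊕ Fin m → ZMod 2) :
    polar m (c • u) v = c * polar m u v := by
  rw [polar_eq, polar_eq, Finset.mul_sum]
  apply Finset.sum_congr rfl
  intro i _
  simp only [Pi.smul_apply, smul_eq_mul]
  ring

lemma polar_self (m : ℕ) (w : Fin m ⊕ Fin m → ZMod 2) : polar m w w = 0 := by
  rw [polar_eq]
  apply Finset.sum_eq_zero
  intro i _
  have : ∀ a b : ZMod 2, a * b + a * b = 0 := by decide
  exact this _ _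

lemma polar_nondeg (m : ℕ) (d : Fin m ⊕ Fin m → ZMod 2) (hd : d ≠ 0) :
    ∃ u₀ : Fin m ⊕ Fin m → ZMod 2, polar m u₀ d = 1 := by
  classical
  have h1 : ∀ a : ZMod 2, a ≠ 0 → a = 1 := by decide
  obtain ⟨k, hk⟩ : ∃ k, d k ≠ 0 := by
    by_contra h
    push Not at h
    exact hd (funext h)
  rcases k with i | i
  · refine ⟨Pi.single (Sum.inr i) 1, ?_⟩
    rw [polar_eq, Finset.sum_eq_single i]
    · simp [h1 _ hk]
    · intro j _ hji
      simp [hji]
    · intro h; exact absurd (Finset.mem_univ _) h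
  · refine ⟨Pi.single (Sum.inl i) 1, ?_⟩
    rw [polar_eq, Finset.sum_eq_single i]
    · simp [h1 _ hk]
    · intro j _ hji
      simp [hji]
    · intro h; exact absurd (Finset.mem_univ _) h

/-- the sign character of `ZMod 2` -/
def chi (a : ZMod 2) : ℤ := if a = 0 then 1 else -1

lemma chi_add : ∀ a b : ZMod 2, chi (a + b) = chi a * chi b := by decide

lemma chi_zero : chi 0 = 1 := rfl

lemma chi_one : chi 1 = -1 := rfl

section
variable (m : ℕ) (q : (Fin m ⊕ Fin m → ZMod 2) → ZMod 2)
  (hq : ∀ u v : (Fin m ⊕ Fin m → ZMod 2), q (u + v) = q u + q v + polar m u v)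

include hq

lemma q_zero : q 0 = 0 := by
  have h := hq 0 0
  have hp : polar m 0 0 = 0 := polar_self m 0
  rw [add_zero, hp, add_zero] at h
  have : ∀ a : ZMod 2, a = a + a → a = 0 := by decide
  exact this _ h

lemma sum_chi_polar (d : Fin m ⊕ Fin m → ZMod 2) (hd : d ≠ 0) :
    ∑ u : Fin m ⊕ Fin m → ZMod 2, chi (polar m u d) = 0 := by
  obtain ⟨u₀, hu₀⟩ := polar_nondeg m d hd
  have h1 : ∑ u : Fin m ⊕ Fin m → ZMod 2, chi (polar m u d)
      = ∑ u : Fin m ⊕ Fin m → ZMod 2, chi (polar m (u + u₀) d) :=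
    (Fintype.sum_equiv (Equiv.addRight u₀) _ _ (fun u => rfl)).symm
  have h2 : ∑ u : Fin m ⊕ Fin m → ZMod 2, chi (polar m (u + u₀) d)
      = - ∑ u : Fin m ⊕ Fin m → ZMod 2, chi (polar m u d) := by
    rw [← Finset.sum_neg_distrib]
    apply Finset.sum_congr rfl
    intro u _
    rw [polar_add_left, hu₀, chi_add, chi_one]
    ring
  omega

lemma gauss_sq : (∑ v : Fin m ⊕ Fin m → ZMod 2, chi (q v)) * (∑ v : Fin m ⊕ Fin m → ZMod 2, chi (q v))
    = (Fintype.card (Fin m ⊕ Fin m → ZMod 2) : ℤ) := by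
  classical
  rw [Finset.sum_mul_sum]
  have h1 : ∀ u : Fin m ⊕ Fin m → ZMod 2,
      ∑ v : Fin m ⊕ Fin m → ZMod 2, chi (q u) * chi (q v)
        = ∑ d : Fin m ⊕ Fin m → ZMod 2, chi (q d) * chi (polar m u d) := by
    intro u
    rw [← Fintype.sum_equiv (Equiv.addLeft u) (fun d => chi (q u) * chi (q (u + d)))
      (fun v => chi (q u) * chi (q v)) (fun d => rfl)]
    apply Finset.sum_congr rfl
    intro d _
    rw [hq, ← chi_add, ← chi_add]
    congr 1
    have : ∀ a b c : ZMod 2, a + (a + b + c) = b + c := by decide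
    exact this _ _ _
  rw [Finset.sum_congr rfl (fun u _ => h1 u), Finset.sum_comm]
  simp_rw [← Finset.mul_sum]
  rw [Finset.sum_eq_single (0 : Fin m ⊕ Fin m → ZMod 2)]
  · rw [q_zero m q hq, chi_zero, one_mul]
    have : ∀ u : Fin m ⊕ Fin m → ZMod 2, chi (polar m u 0) = 1 := by
      intro u
      have : polar m u 0 = 0 := by
        rw [polar_eq]
        simp
      rw [this, chi_zero]
    rw [Finset.sum_congr rfl (fun u _ => this u)]
    simp
  · intro d _ hd
    rw [sum_chi_polar m q hq d hd, mul_zero]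
  · intro h; exact absurd (Finset.mem_univ _) h

end

theorem result (m : ℕ) (hm : 1 ≤ m) (q : (Fin m ⊕ Fin m → ZMod 2) → ZMod 2) (hq : (∀ u v : (Fin m ⊕ Fin m → ZMod 2), q (u + v) = q u + q v + (Cfsg.quadFormPlus m (ZMod 2) (u + v) - Cfsg.quadFormPlus m (ZMod 2) u - Cfsg.quadFormPlus m (ZMod 2) v))) (w : (Fin m ⊕ Fin m → ZMod 2)) :
    (∀ u v : (Fin m ⊕ Fin m → ZMod 2), (q (u + v) + (Cfsg.quadFormPlus m (ZMod 2) (u + v + w) - Cfsg.quadFormPlus m (ZMod 2) (u + v) - Cfsg.quadFormPlus m (ZMod 2) w)) =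
        (q u + (Cfsg.quadFormPlus m (ZMod 2) (u + w) - Cfsg.quadFormPlus m (ZMod 2) u - Cfsg.quadFormPlus m (ZMod 2) w)) + (q v + (Cfsg.quadFormPlus m (ZMod 2) (v + w) - Cfsg.quadFormPlus m (ZMod 2) v - Cfsg.quadFormPlus m (ZMod 2) w)) +
        (Cfsg.quadFormPlus m (ZMod 2) (u + v) - Cfsg.quadFormPlus m (ZMod 2) u - Cfsg.quadFormPlus m (ZMod 2) v)) ∧
    ((∃ g : (Fin m ⊕ Fin m → ZMod 2) ≃ₗ[ZMod 2] (Fin m ⊕ Fin m → ZMod 2), ∀ v, q v + (Cfsg.quadFormPlus m (ZMod 2) (v + w) - Cfsg.quadFormPlus m (ZMod 2) v - Cfsg.quadFormPlus m (ZMod 2) w) = q (g v)) ↔ q w = 0) := by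
  classical
  change (∀ u v, q (u + v) = q u + q v + polar m u v) at hq
  change (∀ u v : (Fin m ⊕ Fin m → ZMod 2), q (u + v) + polar m (u + v) w =
      (q u + polar m u w) + (q v + polar m v w) + polar m u v) ∧
    ((∃ g : (Fin m ⊕ Fin m → ZMod 2) ≃ₗ[ZMod 2] (Fin m ⊕ Fin m → ZMod 2),
      ∀ v, q v + polar m v w = q (g v)) ↔ q w = 0)
  constructor
  · intro u v
    rw [hq, polar_add_left]
    ring
  · constructor
    · rintro ⟨g, hg⟩
      by_contra hw
      have hw1 : q w = 1 := by
        have : ∀ a : ZMod 2, a ≠ 0 → a = 1 := by decide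
        exact this _ hw
      set S := ∑ v : Fin m ⊕ Fin m → ZMod 2, chi (q v) with hS
      have h1 : ∑ v : Fin m ⊕ Fin m → ZMod 2, chi (q v + polar m v w) = S := by
        rw [Finset.sum_congr rfl (fun v _ => congrArg chi (hg v))]
        exact Fintype.sum_equiv g.toEquiv _ _ (fun v => rfl)
      have h2 : ∑ v : Fin m ⊕ Fin m → ZMod 2, chi (q v + polar m v w) = -S := by
        have h3 : ∀ v : Fin m ⊕ Fin m → ZMod 2, chi (q v + polar m v w) = - chi (q (v + w)) := by
          intro v
          rw [hq, hw1]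
          have : ∀ a b : ZMod 2, chi (a + b) = - chi (a + 1 + b) := by decide
          exact this _ _
        rw [Finset.sum_congr rfl (fun v _ => h3 v), Finset.sum_neg_distrib]
        congr 1
        exact Fintype.sum_equiv (Equiv.addRight w) _ _ (fun v => rfl)
      have h4 : S = 0 := by omega
      have h5 := gauss_sq m q hq
      rw [← hS, h4] at h5
      have : (0 : ℤ) < (Fintype.card (Fin m ⊕ Fin m → ZMod 2) : ℤ) := by
        exact_mod_cast Fintype.card_pos
      omega
    · intro hw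
      let φ : (Fin m ⊕ Fin m → ZMod 2) →ₗ[ZMod 2] (Fin m ⊕ Fin m → ZMod 2) :=
        { toFun := fun v => v + polar m v w • w
          map_add' := by
            intro u v
            rw [polar_add_left, add_smul]
            abel
          map_smul' := by
            intro c v
            simp only [RingHom.id_apply]
            rw [polar_smul_left, smul_add, mul_smul] }
      have hφ : Function.Involutive φ := by
        intro v
        show (v + polar m v w • w) + polar m (v + polar m v w • w) w • w = v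
        rw [polar_add_left, polar_smul_left, polar_self, mul_zero, add_zero, add_assoc,
          ← add_smul]
        have : ∀ a : ZMod 2, a + a = 0 := by decide
        rw [this, zero_smul, add_zero]
      refine ⟨LinearEquiv.ofInvolutive φ hφ, ?_⟩
      intro v
      show q v + polar m v w = q (v + polar m v w • w)
      rw [hq]
      have hc : ∀ c : ZMod 2, q (c • w) = 0 := by
        intro c
        have : c = 0 ∨ c = 1 := by
          revert c; decide
        rcases this with rfl | rfl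
        · rw [zero_smul]; exact q_zero m q hq
        · rw [one_smul]; exact hw
      rw [hc, add_zero, polar_comm m v (polar m v w • w), polar_smul_left, polar_comm m w v]
      congr 1
      have : ∀ a : ZMod 2, a = a * a := by decide
      exact this _

end Cfsg.Agent.S2564
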