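import Mathlib
import Cfsg.Statements.S2562
import Cfsg.Agent.S2564

set_option autoImplicit false
open Cfsg

namespace Cfsg.Agent.S2562

open Module Cfsg.Agent.S2564

section general
variable {V : Type*} [AddCommGroup V] [Module (ZMod 2) V] [Fintype V]
  (Q : V → ZMod 2) (B : LinearMap.BilinForm (ZMod 2) V)
  (hQ : ∀ u v, Q (u + v) = Q u + Q v + B u v)

include hQ

lemma B_eq (u v : V) : B u v = Q (u + v) - Q u - Q v := by
  rw [hQ]; ring

lemma B_symm (u v : V) : B u v = B v u := by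
  rw [B_eq Q B hQ, B_eq Q B hQ v u, add_comm]
  ring

lemma le_orthogonal (U : Submodule (ZMod 2) V) (hU : ∀ u ∈ U, Q u = 0) :
    U ≤ B.orthogonal U := by
  intro v hv
  rw [LinearMap.BilinForm.mem_orthogonal_iff]
  intro u hu
  rw [B_eq Q B hQ, hU u hu, hU v hv, hU (u + v) (U.add_mem hu hv)]
  ring

lemma finrank_le_of_singular (hB : B.Nondegenerate) (U : Submodule (ZMod 2) V)
    (hU : ∀ u ∈ U, Q u = 0) : 2 * finrank (ZMod 2) U ≤ finrank (ZMod 2) V := by
  have h1 := Submodule.finrank_mono (le_orthogonal Q B hQ U hU)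
  rw [LinearMap.BilinForm.finrank_orthogonal hB] at h1
  have h2 := Submodule.finrank_le U
  omega

lemma gauss_of_lagrangian (hB : B.Nondegenerate) (U : Submodule (ZMod 2) V)
    (hU : ∀ u ∈ U, Q u = 0) (hdim : 2 * finrank (ZMod 2) U = finrank (ZMod 2) V) :
    ∑ v : V, chi (Q v) = (Nat.card U : ℤ) := by
  classical
  haveI : Fintype U := Fintype.ofFinite U
  rw [Nat.card_eq_fintype_card]
  have hle := le_orthogonal Q B hQ U hU
  have horth : B.orthogonal U = U := by
    symm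
    apply Submodule.eq_of_le_of_finrank_le hle
    rw [LinearMap.BilinForm.finrank_orthogonal hB]
    omega
  set S := ∑ v : V, chi (Q v) with hS
  have h1 : ∑ v : V, ∑ u : U, chi (Q (v + u)) = (Fintype.card U : ℤ) * S := by
    rw [Finset.sum_comm]
    have : ∀ u : U, ∑ v : V, chi (Q (v + u)) = S := by
      intro u
      exact Fintype.sum_equiv (Equiv.addRight (u : V)) _ _ (fun v => rfl)
    rw [Finset.sum_congr rfl (fun u _ => this u), Finset.sum_const, Finset.card_univ, nsmul_eq_mul]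
  have h2 : ∀ v : V, ∑ u : U, chi (Q (v + u)) = if v ∈ U then (Fintype.card U : ℤ) else 0 := by
    intro v
    have h3 : ∀ u : U, chi (Q (v + u)) = chi (Q v) * chi (B v u) := by
      intro u
      rw [hQ, hU u u.2, add_zero, chi_add]
    rw [Finset.sum_congr rfl (fun u _ => h3 u), ← Finset.mul_sum]
    split_ifs with hv
    · rw [hU v hv, chi_zero, one_mul]
      have : ∀ u : U, chi (B v u) = 1 := by
        intro u
        have := hle u.2
        rw [LinearMap.BilinForm.mem_orthogonal_iff] at this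
        rw [this v hv, chi_zero]
      rw [Finset.sum_congr rfl (fun u _ => this u), Finset.sum_const, Finset.card_univ]
      simp
    · have hv' : v ∉ B.orthogonal U := by rw [horth]; exact hv
      rw [LinearMap.BilinForm.mem_orthogonal_iff] at hv'
      push Not at hv'
      obtain ⟨u₀, hu₀, hne⟩ := hv'
      have h1' : B v u₀ = 1 := by
        have : ∀ a : ZMod 2, a ≠ 0 → a = 1 := by decide
        rw [B_symm Q B hQ]
        exact this _ hne
      have h4 : ∑ u : U, chi (B v u) = ∑ u : U, chi (B v ((u + ⟨u₀, hu₀⟩ : U) : V)) :=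
        (Fintype.sum_equiv (Equiv.addRight (⟨u₀, hu₀⟩ : U)) _ _ (fun u => rfl)).symm
      have h5 : ∑ u : U, chi (B v ((u + ⟨u₀, hu₀⟩ : U) : V)) = - ∑ u : U, chi (B v u) := by
        rw [← Finset.sum_neg_distrib]
        apply Finset.sum_congr rfl
        intro u _
        rw [Submodule.coe_add, map_add, h1', chi_add, chi_one]
        ring
      have h6 : ∑ u : U, chi (B v u) = 0 := by omega
      rw [h6, mul_zero]
  rw [Finset.sum_congr rfl (fun v _ => h2 v), Finset.sum_ite, Finset.sum_const_zero, add_zero,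
    Finset.sum_const, nsmul_eq_mul] at h1
  have h7 : (Finset.univ.filter fun v : V => v ∈ U).card = Fintype.card U := by
    rw [Fintype.card_subtype]
  rw [h7] at h1
  have hpos : (0 : ℤ) < (Fintype.card U : ℤ) := by exact_mod_cast Fintype.card_pos
  exact (mul_left_cancel₀ hpos.ne' h1).symm

end general

/-! ### the plus form -/

/-- the polar form of the plus-type form as a bilinear form -/
def Bplus (m : ℕ) : LinearMap.BilinForm (ZMod 2) (Fin m ⊕ Fin m → ZMod 2) :=
  LinearMap.mk₂ (ZMod 2) (polar m) (polar_add_left m)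
    (fun c u v => by rw [polar_smul_left]; rfl)
    (fun u v v' => by
      rw [polar_comm, polar_add_left, polar_comm m v u, polar_comm m v' u])
    (fun c u v => by rw [polar_comm, polar_smul_left, polar_comm]; rfl)

lemma Bplus_apply (m : ℕ) (u v : Fin m ⊕ Fin m → ZMod 2) : Bplus m u v = polar m u v := rfl

lemma hQplus (m : ℕ) (u v : Fin m ⊕ Fin m → ZMod 2) :
    Cfsg.quadFormPlus m (ZMod 2) (u + v) =
      Cfsg.quadFormPlus m (ZMod 2) u + Cfsg.quadFormPlus m (ZMod 2) v + Bplus m u v := by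
  rw [Bplus_apply]
  unfold polar
  ring

lemma Bplus_nondeg (m : ℕ) : (Bplus m).Nondegenerate := by
  have hR : ∀ y : Fin m ⊕ Fin m → ZMod 2, (∀ x, Bplus m x y = 0) → y = 0 := by
    intro y hy
    by_contra hne
    obtain ⟨u₀, hu₀⟩ := polar_nondeg m y hne
    have := hy u₀
    rw [Bplus_apply, hu₀] at this
    exact one_ne_zero this
  refine ⟨?_, hR⟩
  intro x hx
  apply hR
  intro y
  rw [Bplus_apply, polar_comm]
  exact hx y

/-! ### the minus form -/

/-- the polar form of the minus-type form -/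
def polarM (k : ℕ) (u v : (Fin k ⊕ Fin k) ⊕ Fin 2 → ZMod 2) : ZMod 2 :=
  Cfsg.quadFormMinus k (ZMod 2) 1 1 (u + v) - Cfsg.quadFormMinus k (ZMod 2) 1 1 u
    - Cfsg.quadFormMinus k (ZMod 2) 1 1 v

lemma polarM_eq (k : ℕ) (u v : (Fin k ⊕ Fin k) ⊕ Fin 2 → ZMod 2) :
    polarM k u v = (∑ i : Fin k, (u (.inl (.inl i)) * v (.inl (.inr i))
        + v (.inl (.inl i)) * u (.inl (.inr i))))
      + (u (.inr 0) * v (.inr 1) + v (.inr 0) * u (.inr 1)) := by
  unfold polarM Cfsg.quadFormMinus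
  have h1 : ∀ a b c d : ZMod 2, ((a + c) ^ 2 + 1 * (a + c) * (b + d) + 1 * (b + d) ^ 2)
      - (a ^ 2 + 1 * a * b + 1 * b ^ 2) - (c ^ 2 + 1 * c * d + 1 * d ^ 2) = a * d + c * b := by
    decide
  have h2 : (∑ i : Fin k, (u + v) (.inl (.inl i)) * (u + v) (.inl (.inr i)))
      - (∑ i : Fin k, u (.inl (.inl i)) * u (.inl (.inr i)))
      - (∑ i : Fin k, v (.inl (.inl i)) * v (.inl (.inr i)))
      = ∑ i : Fin k, (u (.inl (.inl i)) * v (.inl (.inr i))
        + v (.inl (.inl i)) * u (.inl (.inr i))) := by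
    rw [← Finset.sum_sub_distrib, ← Finset.sum_sub_distrib]
    apply Finset.sum_congr rfl
    intro i _
    simp only [Pi.add_apply]
    ring
  rw [← h2, ← h1 (u (.inr 0)) (u (.inr 1)) (v (.inr 0)) (v (.inr 1))]
  simp only [Pi.add_apply]
  ring

lemma polarM_add_left (k : ℕ) (u u' v : (Fin k ⊕ Fin k) ⊕ Fin 2 → ZMod 2) :
    polarM k (u + u') v = polarM k u v + polarM k u' v := by
  rw [polarM_eq, polarM_eq, polarM_eq]
  have : ∑ i : Fin k, ((u + u') (.inl (.inl i)) * v (.inl (.inr i))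
        + v (.inl (.inl i)) * (u + u') (.inl (.inr i)))
      = (∑ i : Fin k, (u (.inl (.inl i)) * v (.inl (.inr i))
        + v (.inl (.inl i)) * u (.inl (.inr i))))
      + ∑ i : Fin k, (u' (.inl (.inl i)) * v (.inl (.inr i))
        + v (.inl (.inl i)) * u' (.inl (.inr i))) := by
    rw [← Finset.sum_add_distrib]
    apply Finset.sum_congr rfl
    intro i _
    simp only [Pi.add_apply]
    ring
  rw [this]
  simp only [Pi.add_apply]
  ring

lemma polarM_comm (k : ℕ) (u v : (Fin k ⊕ Fin k) ⊕ Fin 2 → ZMod 2) :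
    polarM k u v = polarM k v u := by
  rw [polarM_eq, polarM_eq]
  congr 1
  · apply Finset.sum_congr rfl
    intro i _
    ring
  · ring

lemma polarM_smul_left (k : ℕ) (c : ZMod 2) (u v : (Fin k ⊕ Fin k) ⊕ Fin 2 → ZMod 2) :
    polarM k (c • u) v = c * polarM k u v := by
  rw [polarM_eq, polarM_eq, mul_add, Finset.mul_sum]
  congr 1
  · apply Finset.sum_congr rfl
    intro i _
    simp only [Pi.smul_apply, smul_eq_mul]
    ring
  · simp only [Pi.smul_apply, smul_eq_mul]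
    ring

lemma polarM_nondeg (k : ℕ) (d : (Fin k ⊕ Fin k) ⊕ Fin 2 → ZMod 2) (hd : d ≠ 0) :
    ∃ u₀ : (Fin k ⊕ Fin k) ⊕ Fin 2 → ZMod 2, polarM k u₀ d = 1 := by
  classical
  have h1 : ∀ a : ZMod 2, a ≠ 0 → a = 1 := by decide
  obtain ⟨j, hj⟩ : ∃ j, d j ≠ 0 := by
    by_contra h
    push Not at h
    exact hd (funext h)
  rcases j with (i | i) | z
  · refine ⟨Pi.single (Sum.inl (Sum.inr i)) 1, ?_⟩
    rw [polarM_eq, Finset.sum_eq_single i]
    · simp [h1 _ hj]
    · intro j _ hji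
      simp [hji]
    · intro h; exact absurd (Finset.mem_univ _) h
  · refine ⟨Pi.single (Sum.inl (Sum.inl i)) 1, ?_⟩
    rw [polarM_eq, Finset.sum_eq_single i]
    · simp [h1 _ hj]
    · intro j _ hji
      simp [hji]
    · intro h; exact absurd (Finset.mem_univ _) h
  · fin_cases z
    · refine ⟨Pi.single (Sum.inr 1) 1, ?_⟩
      rw [polarM_eq]
      have : d (Sum.inr 0) = 1 := h1 _ hj
      simp [this]
    · refine ⟨Pi.single (Sum.inr 0) 1, ?_⟩
      rw [polarM_eq]
      have : d (Sum.inr 1) = 1 := h1 _ hj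
      simp [this]

/-- the polar form of the minus-type form as a bilinear form -/
def Bminus (k : ℕ) : LinearMap.BilinForm (ZMod 2) ((Fin k ⊕ Fin k) ⊕ Fin 2 → ZMod 2) :=
  LinearMap.mk₂ (ZMod 2) (polarM k) (polarM_add_left k)
    (fun c u v => by rw [polarM_smul_left]; rfl)
    (fun u v v' => by
      rw [polarM_comm, polarM_add_left, polarM_comm k v u, polarM_comm k v' u])
    (fun c u v => by rw [polarM_comm, polarM_smul_left, polarM_comm]; rfl)

lemma Bminus_apply (k : ℕ) (u v : (Fin k ⊕ Fin k) ⊕ Fin 2 → ZMod 2) :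
    Bminus k u v = polarM k u v := rfl

lemma hQminus (k : ℕ) (u v : (Fin k ⊕ Fin k) ⊕ Fin 2 → ZMod 2) :
    Cfsg.quadFormMinus k (ZMod 2) 1 1 (u + v) =
      Cfsg.quadFormMinus k (ZMod 2) 1 1 u + Cfsg.quadFormMinus k (ZMod 2) 1 1 v + Bminus k u v := by
  rw [Bminus_apply]
  unfold polarM
  ring

lemma Bminus_nondeg (k : ℕ) : (Bminus k).Nondegenerate := by
  have hR : ∀ y : (Fin k ⊕ Fin k) ⊕ Fin 2 → ZMod 2, (∀ x, Bminus k x y = 0) → y = 0 := by
    intro y hy
    by_contra hne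
    obtain ⟨u₀, hu₀⟩ := polarM_nondeg k y hne
    have := hy u₀
    rw [Bminus_apply, hu₀] at this
    exact one_ne_zero this
  refine ⟨?_, hR⟩
  intro x hx
  apply hR
  intro y
  rw [Bminus_apply, polarM_comm]
  exact hx y

/-! ### the Gauss sum of the minus form is negative -/

lemma sum_chi_dot (k : ℕ) (x : Fin k → ZMod 2) (hx : x ≠ 0) :
    ∑ y : Fin k → ZMod 2, chi (x ⬝ᵥ y) = 0 := by
  have h1 : ∀ a : ZMod 2, a ≠ 0 → a = 1 := by decide
  obtain ⟨i, hi⟩ : ∃ i, x i ≠ 0 := by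
    by_contra h
    push Not at h
    exact hx (funext h)
  have h2 : ∑ y : Fin k → ZMod 2, chi (x ⬝ᵥ y)
      = ∑ y : Fin k → ZMod 2, chi (x ⬝ᵥ (y + Pi.single i 1)) := by
    have := Equiv.sum_comp (Equiv.addRight (Pi.single i (1 : ZMod 2) : Fin k → ZMod 2))
      (fun y => chi (x ⬝ᵥ y))
    simp only [Equiv.coe_addRight] at this
    exact this.symm
  have h3 : ∑ y : Fin k → ZMod 2, chi (x ⬝ᵥ (y + Pi.single i 1))
      = - ∑ y : Fin k → ZMod 2, chi (x ⬝ᵥ y) := by
    rw [← Finset.sum_neg_distrib]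
    apply Finset.sum_congr rfl
    intro y _
    rw [dotProduct_add, dotProduct_single, mul_one, h1 _ hi, chi_add, chi_one]
    ring
  omega

lemma gauss_minus (k : ℕ) :
    ∑ v : (Fin k ⊕ Fin k) ⊕ Fin 2 → ZMod 2, chi (Cfsg.quadFormMinus k (ZMod 2) 1 1 v)
      = -2 * 2 ^ k := by
  classical
  let e : ((Fin k ⊕ Fin k) ⊕ Fin 2 → ZMod 2) ≃
      ((Fin k → ZMod 2) × (Fin k → ZMod 2)) × (Fin 2 → ZMod 2) :=
    (Equiv.sumArrowEquivProdArrow (Fin k ⊕ Fin k) (Fin 2) (ZMod 2)).trans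
      (Equiv.prodCongr (Equiv.sumArrowEquivProdArrow (Fin k) (Fin k) (ZMod 2)) (Equiv.refl _))
  have h1 : ∑ v : (Fin k ⊕ Fin k) ⊕ Fin 2 → ZMod 2, chi (Cfsg.quadFormMinus k (ZMod 2) 1 1 v)
      = ∑ p : ((Fin k → ZMod 2) × (Fin k → ZMod 2)) × (Fin 2 → ZMod 2),
          chi (p.1.1 ⬝ᵥ p.1.2) * chi (p.2 0 ^ 2 + 1 * p.2 0 * p.2 1 + 1 * p.2 1 ^ 2) := by
    apply Fintype.sum_equiv e
    intro v
    rw [← chi_add]
    congr 1
  rw [h1, Fintype.sum_prod_type]
  show ∑ x : (Fin k → ZMod 2) × (Fin k → ZMod 2), ∑ z : Fin 2 → ZMod 2,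
    chi (x.1 ⬝ᵥ x.2) * chi (z 0 ^ 2 + 1 * z 0 * z 1 + 1 * z 1 ^ 2) = _
  rw [← Finset.sum_mul_sum, Fintype.sum_prod_type]
  have h2 : ∑ z : Fin 2 → ZMod 2, chi (z 0 ^ 2 + 1 * z 0 * z 1 + 1 * z 1 ^ 2) = -2 := by
    decide
  have h3 : ∑ x : Fin k → ZMod 2, ∑ y : Fin k → ZMod 2, chi (x ⬝ᵥ y) = 2 ^ k := by
    rw [Finset.sum_eq_single (0 : Fin k → ZMod 2)]
    · simp only [zero_dotProduct, chi_zero, Finset.sum_const, Finset.card_univ, Fintype.card_fun,
        Fintype.card_fin, ZMod.card, nsmul_eq_mul, mul_one]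
      push_cast
      ring
    · intro x _ hx
      exact sum_chi_dot k x hx
    · intro h; exact absurd (Finset.mem_univ _) h
  rw [h2, h3]
  ring

/-! ### the explicit singular subspaces -/

lemma finrank_ker_funLeft {ι κ : Type*} [Fintype ι] [Fintype κ] (g : κ → ι)
    (hg : Function.Injective g) :
    finrank (ZMod 2) (LinearMap.ker (LinearMap.funLeft (ZMod 2) (ZMod 2) g))
      + Fintype.card κ = Fintype.card ι := by
  have h1 := LinearMap.finrank_range_add_finrank_ker (LinearMap.funLeft (ZMod 2) (ZMod 2) g)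
  have h2 : LinearMap.range (LinearMap.funLeft (ZMod 2) (ZMod 2) g) = ⊤ :=
    LinearMap.range_eq_top.mpr (LinearMap.funLeft_surjective_of_injective _ _ g hg)
  rw [h2, finrank_top, Module.finrank_fintype_fun_eq_card, Module.finrank_fintype_fun_eq_card] at h1
  omega

theorem result (m : ℕ) (hm : 1 ≤ m) :
    (∃ U : Submodule (ZMod 2) (Fin m ⊕ Fin m → ZMod 2), (∀ u ∈ U, Cfsg.quadFormPlus m (ZMod 2) u = 0) ∧ Module.finrank (ZMod 2) ↥U = m) ∧
    (∀ U : Submodule (ZMod 2) (Fin m ⊕ Fin m → ZMod 2), (∀ u ∈ U, Cfsg.quadFormPlus m (ZMod 2) u = 0) → Module.finrank (ZMod 2) ↥U ≤ m) ∧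
    (∃ U : Submodule (ZMod 2) ((Fin (m - 1) ⊕ Fin (m - 1)) ⊕ Fin 2 → ZMod 2), (∀ u ∈ U, Cfsg.quadFormMinus (m - 1) (ZMod 2) 1 1 u = 0) ∧ Module.finrank (ZMod 2) ↥U = m - 1) ∧
    (∀ U : Submodule (ZMod 2) ((Fin (m - 1) ⊕ Fin (m - 1)) ⊕ Fin 2 → ZMod 2), (∀ u ∈ U, Cfsg.quadFormMinus (m - 1) (ZMod 2) 1 1 u = 0) → Module.finrank (ZMod 2) ↥U ≤ m - 1) := by
  classical
  refine ⟨?_, ?_, ?_, ?_⟩
  · refine ⟨LinearMap.ker (LinearMap.funLeft (ZMod 2) (ZMod 2) (Sum.inr : Fin m → Fin m ⊕ Fin m)),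
      ?_, ?_⟩
    · intro u hu
      rw [LinearMap.mem_ker] at hu
      unfold Cfsg.quadFormPlus
      apply Finset.sum_eq_zero
      intro i _
      have : u (Sum.inr i) = 0 := congrFun hu i
      rw [this, mul_zero]
    · have := finrank_ker_funLeft (Sum.inr : Fin m → Fin m ⊕ Fin m) Sum.inr_injective
      rw [Fintype.card_sum, Fintype.card_fin] at this
      omega
  · intro U hU
    have := finrank_le_of_singular (Cfsg.quadFormPlus m (ZMod 2)) (Bplus m) (hQplus m)
      (Bplus_nondeg m) U hU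
    rw [Module.finrank_fintype_fun_eq_card, Fintype.card_sum, Fintype.card_fin] at this
    omega
  · let g : Fin (m - 1) ⊕ Fin 2 → (Fin (m - 1) ⊕ Fin (m - 1)) ⊕ Fin 2 :=
      Sum.elim (fun i => Sum.inl (Sum.inr i)) Sum.inr
    have hg : Function.Injective g := by
      intro a b hab
      rcases a with a | a <;> rcases b with b | b <;> simp [g] at hab ⊢ <;> exact hab
    refine ⟨LinearMap.ker (LinearMap.funLeft (ZMod 2) (ZMod 2) g), ?_, ?_⟩
    · intro u hu
      rw [LinearMap.mem_ker] at hu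
      have h1 : ∀ i, u (Sum.inl (Sum.inr i)) = 0 := fun i => congrFun hu (Sum.inl i)
      have h2 : ∀ z, u (Sum.inr z) = 0 := fun z => congrFun hu (Sum.inr z)
      unfold Cfsg.quadFormMinus
      rw [h2 0, h2 1]
      have : ∑ i : Fin (m - 1), u (Sum.inl (Sum.inl i)) * u (Sum.inl (Sum.inr i)) = 0 := by
        apply Finset.sum_eq_zero
        intro i _
        rw [h1 i, mul_zero]
      rw [this]
      ring
    · have := finrank_ker_funLeft g hg
      simp only [Fintype.card_sum, Fintype.card_fin] at this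
      omega
  · intro U hU
    have h1 := finrank_le_of_singular (Cfsg.quadFormMinus (m - 1) (ZMod 2) 1 1) (Bminus (m - 1))
      (hQminus (m - 1)) (Bminus_nondeg (m - 1)) U hU
    have hV : finrank (ZMod 2) ((Fin (m - 1) ⊕ Fin (m - 1)) ⊕ Fin 2 → ZMod 2)
        = (m - 1) + (m - 1) + 2 := by
      rw [Module.finrank_fintype_fun_eq_card]
      simp only [Fintype.card_sum, Fintype.card_fin]
    rw [hV] at h1
    by_contra hcon
    push Not at hcon
    have hdim : 2 * finrank (ZMod 2) U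
        = finrank (ZMod 2) ((Fin (m - 1) ⊕ Fin (m - 1)) ⊕ Fin 2 → ZMod 2) := by
      rw [hV]; omega
    have h2 := gauss_of_lagrangian (Cfsg.quadFormMinus (m - 1) (ZMod 2) 1 1) (Bminus (m - 1))
      (hQminus (m - 1)) (Bminus_nondeg (m - 1)) U hU hdim
    rw [gauss_minus] at h2
    have h3 : (0 : ℤ) ≤ (Nat.card U : ℤ) := by positivity
    have h4 : (0 : ℤ) < 2 ^ (m - 1) := by positivity
    omega

end Cfsg.Agent.S2562
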