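import Cfsg.Statements.S2617

set_option autoImplicit false
open Cfsg

namespace Cfsg.Agent.S2617

open Matrix Finset

section
variable {F : Type*} [Field F] [Fintype F] [DecidableEq F]

lemma fiber_card (k : ℕ) (x : Fin k → F) (hx : x ≠ 0) (c : F) :
    (∑ y : Fin k → F, if x ⬝ᵥ y = c then 1 else 0) * Fintype.card F = Fintype.card F ^ k := by
  classical
  let φ : (Fin k → F) →+ F :=
    { toFun := fun y => x ⬝ᵥ y, map_zero' := dotProduct_zero x, map_add' := dotProduct_add x }
  have hsurj : Function.Surjective φ := by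
    obtain ⟨i, hi⟩ : ∃ i, x i ≠ 0 := by
      by_contra h
      push Not at h
      exact hx (funext h)
    intro d
    refine ⟨Pi.single i (d / x i), ?_⟩
    show x ⬝ᵥ Pi.single i (d / x i) = d
    rw [dotProduct_single]
    field_simp
  have hfib : ∀ d : F, (univ.filter fun y => φ y = d).card = (univ.filter fun y => φ y = c).card := by
    intro d
    exact AddMonoidHom.card_fiber_eq_of_mem_range φ (hsurj d) (hsurj c)
  have htot : (univ : Finset (Fin k → F)).card
      = ∑ d : F, (univ.filter fun y => φ y = d).card :=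
    Finset.card_eq_sum_card_fiberwise (f := φ) (s := univ) (t := univ) (fun _ _ => mem_univ _)
  have h1 : (∑ y : Fin k → F, if x ⬝ᵥ y = c then 1 else 0) = (univ.filter fun y => φ y = c).card := by
    rw [Finset.card_filter]
    rfl
  rw [h1]
  have h2 : (univ : Finset (Fin k → F)).card = Fintype.card F ^ k := by
    rw [Finset.card_univ, Fintype.card_fun, Fintype.card_fin]
  rw [← h2, htot, Finset.sum_congr rfl (fun d _ => hfib d), Finset.sum_const, Finset.card_univ,
    smul_eq_mul, mul_comm]

lemma pair_card (k : ℕ) (c : F) :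
    (∑ x : Fin k → F, ∑ y : Fin k → F, if x ⬝ᵥ y + c = 0 then 1 else 0) * Fintype.card F
      + Fintype.card F ^ k
      = (if c = 0 then Fintype.card F ^ k * Fintype.card F else 0)
        + Fintype.card F ^ k * Fintype.card F ^ k := by
  classical
  have hcond : ∀ x y : Fin k → F, (x ⬝ᵥ y + c = 0) ↔ (x ⬝ᵥ y = -c) := by
    intro x y
    constructor
    · intro h; exact eq_neg_of_add_eq_zero_left h
    · intro h; rw [h]; simp
  simp_rw [hcond]
  rw [← Finset.add_sum_erase univ _ (mem_univ (0 : Fin k → F)), add_mul]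
  have h0 : (∑ y : Fin k → F, if (0 : Fin k → F) ⬝ᵥ y = -c then 1 else 0)
      = if c = 0 then Fintype.card F ^ k else 0 := by
    simp only [zero_dotProduct]
    by_cases hc : c = 0
    · subst hc
      simp
    · have : ¬ ((0 : F) = -c) := by
        intro h
        apply hc
        have := congrArg Neg.neg h
        simpa using this.symm
      simp [hc, this]
  rw [h0]
  have h1 : (∑ x ∈ (univ : Finset (Fin k → F)).erase 0,
      (∑ y : Fin k → F, if x ⬝ᵥ y = -c then 1 else 0)) * Fintype.card F
      = ∑ x ∈ (univ : Finset (Fin k → F)).erase 0, Fintype.card F ^ k := by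
    rw [Finset.sum_mul]
    apply Finset.sum_congr rfl
    intro x hx
    exact fiber_card k x (Finset.ne_of_mem_erase hx) (-c)
  rw [h1, Finset.sum_const, smul_eq_mul]
  have h2 : ((univ : Finset (Fin k → F)).erase 0).card + 1 = Fintype.card F ^ k := by
    rw [Finset.card_erase_add_one (mem_univ _), Finset.card_univ, Fintype.card_fun,
      Fintype.card_fin]
  rw [← h2]
  split_ifs <;> ring

lemma triple_card (k : ℕ) {W : Type*} [Fintype W] (Q₀ : W → F) :
    (∑ p : ((Fin k → F) × (Fin k → F)) × W, if p.1.1 ⬝ᵥ p.1.2 + Q₀ p.2 = 0 then 1 else 0)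
        * Fintype.card F + Fintype.card W * Fintype.card F ^ k
      = (univ.filter fun w => Q₀ w = 0).card * (Fintype.card F ^ k * Fintype.card F)
        + Fintype.card W * (Fintype.card F ^ k * Fintype.card F ^ k) := by
  classical
  rw [Fintype.sum_prod_type, Finset.sum_comm]
  simp_rw [Fintype.sum_prod_type]
  rw [Finset.sum_mul]
  have : Fintype.card W * Fintype.card F ^ k = ∑ _w : W, Fintype.card F ^ k := by
    rw [Finset.sum_const, Finset.card_univ, smul_eq_mul]
  rw [this, ← Finset.sum_add_distrib]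
  simp_rw [pair_card]
  rw [Finset.sum_add_distrib, Finset.sum_const, Finset.card_univ, smul_eq_mul,
    Finset.card_filter, Finset.sum_mul]
  congr 1
  apply Finset.sum_congr rfl
  intro w _
  split_ifs <;> simp

end

theorem result {F : Type*} [Field F] [Finite F] {m : ℕ} (hm : 1 ≤ m) (ζ : F) (hζ : ∀ t : F, t ^ 2 + t + ζ ≠ 0) (g : (Fin m ⊕ Fin m → F) ≃ₗ[F] ((Fin (m - 1) ⊕ Fin (m - 1)) ⊕ Fin 2 → F)) : ¬ (∀ v : Fin m ⊕ Fin m → F, Cfsg.quadFormMinus (m - 1) F 1 ζ (g v) = Cfsg.quadFormPlus m F v) := by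
  classical
  have : Fintype F := Fintype.ofFinite F
  intro hg
  set q := Fintype.card F with hq
  have hq2 : 2 ≤ q := by
    have := Fintype.one_lt_card (α := F)
    omega
  -- zero sets have equal size
  have hcard : (univ.filter fun v : Fin m ⊕ Fin m → F => Cfsg.quadFormPlus m F v = 0).card
      = (univ.filter fun u : (Fin (m - 1) ⊕ Fin (m - 1)) ⊕ Fin 2 → F =>
          Cfsg.quadFormMinus (m - 1) F 1 ζ u = 0).card := by
    apply Finset.card_equiv g.toEquiv
    intro v
    simp only [mem_filter, mem_univ, true_and, LinearEquiv.coe_toEquiv, hg]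
  -- plus count
  have hplus : (univ.filter fun v : Fin m ⊕ Fin m → F => Cfsg.quadFormPlus m F v = 0).card
      = ∑ p : ((Fin m → F) × (Fin m → F)) × Unit,
          if p.1.1 ⬝ᵥ p.1.2 + (fun _ : Unit => (0 : F)) p.2 = 0 then 1 else 0 := by
    rw [Finset.card_filter]
    let e : (Fin m ⊕ Fin m → F) ≃ ((Fin m → F) × (Fin m → F)) × Unit :=
      (Equiv.sumArrowEquivProdArrow (Fin m) (Fin m) F).trans (Equiv.prodPUnit _).symm
    apply Fintype.sum_equiv e
    intro v
    refine if_congr ?_ rfl rfl
    simp only [e, Equiv.trans_apply, Equiv.sumArrowEquivProdArrow_apply_fst,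
      Equiv.sumArrowEquivProdArrow_apply_snd, Equiv.prodPUnit_symm_apply, add_zero,
      Cfsg.quadFormPlus, dotProduct]
  have hminus : (univ.filter fun u : (Fin (m - 1) ⊕ Fin (m - 1)) ⊕ Fin 2 → F =>
          Cfsg.quadFormMinus (m - 1) F 1 ζ u = 0).card
      = ∑ p : ((Fin (m - 1) → F) × (Fin (m - 1) → F)) × (Fin 2 → F),
          if p.1.1 ⬝ᵥ p.1.2 + (fun w : Fin 2 → F => w 0 ^ 2 + 1 * w 0 * w 1 + ζ * w 1 ^ 2) p.2 = 0
            then 1 else 0 := by
    rw [Finset.card_filter]
    let e : ((Fin (m - 1) ⊕ Fin (m - 1)) ⊕ Fin 2 → F) ≃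
        ((Fin (m - 1) → F) × (Fin (m - 1) → F)) × (Fin 2 → F) :=
      (Equiv.sumArrowEquivProdArrow (Fin (m - 1) ⊕ Fin (m - 1)) (Fin 2) F).trans
        (Equiv.prodCongr (Equiv.sumArrowEquivProdArrow (Fin (m - 1)) (Fin (m - 1)) F)
          (Equiv.refl _))
    apply Fintype.sum_equiv e
    intro v
    refine if_congr ?_ rfl rfl
    simp only [e, Equiv.trans_apply, Equiv.sumArrowEquivProdArrow_apply_fst,
      Equiv.sumArrowEquivProdArrow_apply_snd, Equiv.prodCongr_apply, Prod.map,
      Equiv.refl_apply, Cfsg.quadFormMinus, dotProduct]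
  -- anisotropy
  have haniso : (univ.filter fun w : Fin 2 → F =>
      w 0 ^ 2 + 1 * w 0 * w 1 + ζ * w 1 ^ 2 = 0) = {0} := by
    ext w
    simp only [mem_filter, mem_univ, true_and, mem_singleton]
    constructor
    · intro h
      by_cases h1 : w 1 = 0
      · rw [h1] at h
        have h0 : w 0 = 0 := by simpa using h
        ext i
        fin_cases i
        · exact h0
        · exact h1
      · exfalso
        apply hζ (w 0 / w 1)
        field_simp
        linear_combination h
    · rintro rfl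
      simp
  have h1 := triple_card (F := F) m (fun _ : Unit => (0 : F))
  have h2 := triple_card (F := F) (m - 1) (fun w : Fin 2 → F => w 0 ^ 2 + 1 * w 0 * w 1 + ζ * w 1 ^ 2)
  rw [← hplus] at h1
  rw [← hminus, ← hcard, haniso] at h2
  simp only [Finset.filter_true_of_mem, Finset.card_univ, Fintype.card_unit, Finset.card_singleton,
    Fintype.card_fun, Fintype.card_fin, one_mul, implies_true] at h1 h2
  rw [← hq] at h1 h2
  obtain ⟨k, rfl⟩ : ∃ k, m = k + 1 := ⟨m - 1, by omega⟩
  simp only [Nat.add_sub_cancel] at h2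
  set N := (univ.filter fun v : Fin (k + 1) ⊕ Fin (k + 1) → F => Cfsg.quadFormPlus (k + 1) F v = 0).card
  have hqk : 0 < q ^ k := by positivity
  -- h1 : N * q + q^(k+1) = q^(k+1) * q + q^(k+1) * q^(k+1)
  -- h2 : N * q + q^2 * q^k = q^k * q + q^2 * (q^k * q^k)
  have e1 : q ^ (k + 1) = q ^ k * q := pow_succ q k
  rw [e1] at h1
  have hPq : 0 < q ^ k * q := Nat.mul_pos hqk (by omega)
  have h3 : q ^ k * q < q ^ k * q * q := by nlinarith
  nlinarith

end Cfsg.Agent.S2617
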