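import Mathlib
import Cfsg.Statements.S2561
import Cfsg.Agent.Lib.Helper5.QuadStd
import Cfsg.Agent.S2616
import Cfsg.Agent.S2617
import Cfsg.Agent.S2562

set_option autoImplicit false
open Cfsg

namespace Cfsg.Agent.S2561

open Module Cfsg.Agent.Lib.Helper5 Cfsg.Agent

/-- the ambient space -/
abbrev Vm (m : ℕ) := Fin m ⊕ Fin m → ZMod 2

/-- `q` polarises to the standard alternating form -/
def Pol (m : ℕ) (q : Vm m → ZMod 2) : Prop :=
  ∀ u v : Vm m, q (u + v) = q u + q v + (Cfsg.quadFormPlus m (ZMod 2) (u + v) -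
    Cfsg.quadFormPlus m (ZMod 2) u - Cfsg.quadFormPlus m (ZMod 2) v)

def Plus (m : ℕ) (q : Vm m → ZMod 2) : Prop :=
  ∃ g : Vm m ≃ₗ[ZMod 2] Vm m, ∀ v, q v = Cfsg.quadFormPlus m (ZMod 2) (g v)

def Minus (m : ℕ) (q : Vm m → ZMod 2) : Prop :=
  ∃ g : Vm m ≃ₗ[ZMod 2] ((Fin (m - 1) ⊕ Fin (m - 1)) ⊕ Fin 2 → ZMod 2),
    ∀ v, q v = Cfsg.quadFormMinus (m - 1) (ZMod 2) 1 1 (g v)

lemma pol_iff (m : ℕ) (q : Vm m → ZMod 2) :
    Pol m q ↔ ∀ u v, q (u + v) = q u + q v + S2564.polar m u v := Iff.rfl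

lemma pol_plus (m : ℕ) : Pol m (Cfsg.quadFormPlus m (ZMod 2)) := by
  intro u v; ring

/-- the torsor map -/
def Φ (m : ℕ) (w : Vm m) : Vm m → ZMod 2 :=
  fun v => Cfsg.quadFormPlus m (ZMod 2) v + S2564.polar m v w

lemma pol_Φ (m : ℕ) (w : Vm m) : Pol m (Φ m w) := by
  rw [pol_iff]
  intro u v
  simp only [Φ]
  rw [S2564.polar_add_left, (pol_iff m _).1 (pol_plus m) u v]
  ring

lemma Φ_injective (m : ℕ) : Function.Injective (Φ m) := by
  intro w w' h
  have h1 : ∀ v, S2562.Bplus m v (w - w') = 0 := by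
    intro v
    have := congrFun h v
    simp only [Φ] at this
    rw [map_sub, S2562.Bplus_apply, S2562.Bplus_apply, add_left_cancel this, sub_self]
  exact sub_eq_zero.1 ((S2562.Bplus_nondeg m).2 _ h1)

lemma Φ_surjective (m : ℕ) (q : Vm m → ZMod 2) (hq : Pol m q) : ∃ w, Φ m w = q := by
  let d : Vm m →+ ZMod 2 := AddMonoidHom.mk' (fun v => q v - Cfsg.quadFormPlus m (ZMod 2) v) (by
    intro u v
    rw [hq u v, pol_plus m u v]
    ring)
  let L : Module.Dual (ZMod 2) (Vm m) := d.toZModLinearMap 2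
  let w := ((S2562.Bplus m).toDual (S2562.Bplus_nondeg m)).symm L
  have hw : ∀ v, S2562.Bplus m w v = L v := fun v =>
    LinearMap.BilinForm.apply_toDual_symm_apply (hB := S2562.Bplus_nondeg m) L v
  refine ⟨w, ?_⟩
  funext v
  simp only [Φ]
  rw [S2564.polar_comm, ← S2562.Bplus_apply, hw v]
  show Cfsg.quadFormPlus m (ZMod 2) v + (q v - Cfsg.quadFormPlus m (ZMod 2) v) = q v
  ring

lemma plus_Φ_iff (m : ℕ) (hm : 1 ≤ m) (w : Vm m) :
    Plus m (Φ m w) ↔ Cfsg.quadFormPlus m (ZMod 2) w = 0 :=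
  (S2564.result m hm (Cfsg.quadFormPlus m (ZMod 2)) (pol_plus m) w).2

lemma not_plus_and_minus (m : ℕ) (hm : 1 ≤ m) (q : Vm m → ZMod 2) (hp : Plus m q)
    (hmi : Minus m q) : False := by
  obtain ⟨g₁, hg₁⟩ := hp
  obtain ⟨g₂, hg₂⟩ := hmi
  apply S2617.result (F := ZMod 2) hm 1 (by decide) (g₁.symm.trans g₂)
  intro v
  rw [LinearEquiv.trans_apply, ← hg₂, hg₁, LinearEquiv.apply_symm_apply]

lemma zeta_eq_one : ∀ ζ : ZMod 2, (∀ t : ZMod 2, t ^ 2 + t + ζ ≠ 0) → ζ = 1 := by decide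

lemma plus_or_minus (m : ℕ) (hm : 1 ≤ m) (q : Vm m → ZMod 2) (hq : Pol m q) :
    Plus m q ∨ Minus m q := by
  classical
  obtain ⟨k, rfl⟩ : ∃ k, m = k + 1 := ⟨m - 1, by omega⟩
  have hq' := (pol_iff _ q).1 hq
  have hpolar : ∀ u v, QuadraticMap.polar q u v = S2564.polar (k + 1) u v := by
    intro u v
    simp only [QuadraticMap.polar, hq' u v]
    ring
  let Qq : QuadraticForm (ZMod 2) (Vm (k + 1)) := QuadraticMap.ofPolar q
    (by
      intro a x
      have h0 : q 0 = 0 := S2564.q_zero (k + 1) q hq'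
      have ha : a = 0 ∨ a = 1 := by revert a; decide
      rcases ha with rfl | rfl
      · rw [zero_smul, h0]; simp
      · rw [one_smul]; simp)
    (by
      intro x x' y
      rw [hpolar, hpolar, hpolar, S2564.polar_add_left])
    (by
      intro a x y
      rw [hpolar, hpolar, S2564.polar_smul_left, smul_eq_mul])
  have hQq : ∀ v, Qq v = q v := fun v => rfl
  have hnd : (QuadraticMap.polarBilin Qq).Nondegenerate := by
    have : QuadraticMap.polarBilin Qq = S2562.Bplus (k + 1) := by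
      apply LinearMap.ext₂
      intro u v
      rw [QuadraticMap.polarBilin_apply_apply, S2562.Bplus_apply]
      exact hpolar u v
    rw [this]
    exact S2562.Bplus_nondeg (k + 1)
  have hV : finrank (ZMod 2) (Vm (k + 1)) = 2 * (k + 1) := by
    rw [Module.finrank_fintype_fun_eq_card]
    simp; ring
  rcases S2616.main k hV Qq hnd with ⟨b, h1, h2, h3⟩ | ⟨b, ζ, hirr, h1, h2, h3, h4, hx, hxy, hy⟩
  · left
    exact ⟨b.equivFun, fun v => by rw [← hQq]; exact eq_quadFormPlus_of_basis Qq b h1 h2 h3 v⟩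
  · right
    have hζ := zeta_eq_one ζ hirr
    subst hζ
    exact ⟨b.equivFun, fun v => by
      rw [← hQq]; exact eq_quadFormMinus_of_basis Qq b 1 h1 h2 h3 h4 hx hxy hy v⟩

lemma gauss_plus (m : ℕ) :
    ∑ v : Vm m, S2564.chi (Cfsg.quadFormPlus m (ZMod 2) v) = 2 ^ m := by
  classical
  let e : (Fin m ⊕ Fin m → ZMod 2) ≃ (Fin m → ZMod 2) × (Fin m → ZMod 2) :=
    Equiv.sumArrowEquivProdArrow (Fin m) (Fin m) (ZMod 2)
  have h1 : ∑ v : Vm m, S2564.chi (Cfsg.quadFormPlus m (ZMod 2) v)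
      = ∑ p : (Fin m → ZMod 2) × (Fin m → ZMod 2), S2564.chi (p.1 ⬝ᵥ p.2) := by
    apply Fintype.sum_equiv e
    intro v
    rfl
  rw [h1, Fintype.sum_prod_type, Finset.sum_eq_single (0 : Fin m → ZMod 2)]
  · simp only [zero_dotProduct, S2564.chi_zero, Finset.sum_const, Finset.card_univ,
      Fintype.card_fun, Fintype.card_fin, ZMod.card, nsmul_eq_mul, mul_one]
    push_cast
    ring
  · intro x _ hx
    exact S2562.sum_chi_dot m x hx
  · intro h; exact absurd (Finset.mem_univ _) h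

lemma card_zeros (k : ℕ) :
    Nat.card {w : Vm (k + 1) // Cfsg.quadFormPlus (k + 1) (ZMod 2) w = 0} =
      2 ^ (2 * k + 1) + 2 ^ k ∧
    Nat.card {w : Vm (k + 1) // Cfsg.quadFormPlus (k + 1) (ZMod 2) w ≠ 0} =
      2 ^ (2 * k + 1) - 2 ^ k := by
  classical
  set q₀ := Cfsg.quadFormPlus (k + 1) (ZMod 2) with hq₀
  have hg := gauss_plus (k + 1)
  have hsum : ∑ v : Vm (k + 1), S2564.chi (q₀ v) =
      ((Finset.univ.filter (fun v : Vm (k + 1) => q₀ v = 0)).card : ℤ) -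
        ((Finset.univ.filter (fun v : Vm (k + 1) => ¬ q₀ v = 0)).card : ℤ) := by
    simp only [S2564.chi, Finset.sum_ite, Finset.sum_const, nsmul_eq_mul, mul_one, mul_neg]
    ring
  have htot := Finset.card_filter_add_card_filter_not (s := (Finset.univ : Finset (Vm (k + 1))))
    (fun v : Vm (k + 1) => q₀ v = 0)
  rw [Finset.card_univ, Fintype.card_fun, Fintype.card_sum, Fintype.card_fin, ZMod.card] at htot
  set Z := (Finset.univ.filter (fun v : Vm (k + 1) => q₀ v = 0)).card with hZ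
  set N := (Finset.univ.filter (fun v : Vm (k + 1) => ¬ q₀ v = 0)).card with hN
  rw [hsum] at hg
  have hpow : (2 : ℤ) ^ (k + 1 + (k + 1)) = 2 * 2 ^ (2 * k + 1) := by
    rw [show k + 1 + (k + 1) = 2 * k + 1 + 1 by ring, pow_succ]; ring
  have hpow' : (2 : ℤ) ^ (k + 1) = 2 * 2 ^ k := by rw [pow_succ]; ring
  have htot' : (Z : ℤ) + N = 2 * 2 ^ (2 * k + 1) := by
    rw [← hpow]; exact_mod_cast htot
  have hZval : (Z : ℤ) = 2 ^ (2 * k + 1) + 2 ^ k := by linarith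
  have hNval : (N : ℤ) = 2 ^ (2 * k + 1) - 2 ^ k := by linarith
  have hle : 2 ^ k ≤ 2 ^ (2 * k + 1) := Nat.pow_le_pow_right (by norm_num) (by omega)
  constructor
  · rw [Nat.card_eq_fintype_card, Fintype.card_subtype]
    exact_mod_cast hZval
  · rw [Nat.card_eq_fintype_card, Fintype.card_subtype]
    have : ((N : ℕ) : ℤ) = ((2 ^ (2 * k + 1) - 2 ^ k : ℕ) : ℤ) := by
      rw [hNval]; push_cast [hle]; ring
    exact_mod_cast this

/-- Fix the non-singular alternating form on the 2m-dimensional space over the field of two elements obtained by polarizing the plus-type form Σ xᵢyᵢ (m ≥ 1). The functions q on the space with q(u + v) = q(u) + q(v) + f(u, v) (the quadratic forms polarizing to f) number 2^(2m); each is equivalent under an invertible linear map either to the plus-type form or to the minus-type form Σ xᵢyᵢ + (z₁² + z₁z₂ + z₂²); and those of plus type number 2^(2m−1) + 2^(m−1), those of minus type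 2^(2m−1) − 2^(m−1). -/
theorem result (m : ℕ) (hm : 1 ≤ m) :
    Nat.card {q : (Fin m ⊕ Fin m → ZMod 2) → ZMod 2 // (∀ u v : (Fin m ⊕ Fin m → ZMod 2), q (u + v) = q u + q v + (Cfsg.quadFormPlus m (ZMod 2) (u + v) - Cfsg.quadFormPlus m (ZMod 2) u - Cfsg.quadFormPlus m (ZMod 2) v))} = 2 ^ (2 * m) ∧
    (∀ q : (Fin m ⊕ Fin m → ZMod 2) → ZMod 2, (∀ u v : (Fin m ⊕ Fin m → ZMod 2), q (u + v) = q u + q v + (Cfsg.quadFormPlus m (ZMod 2) (u + v) - Cfsg.quadFormPlus m (ZMod 2) u - Cfsg.quadFormPlus m (ZMod 2) v)) →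
      (∃ g : (Fin m ⊕ Fin m → ZMod 2) ≃ₗ[ZMod 2] (Fin m ⊕ Fin m → ZMod 2), ∀ v, q v = Cfsg.quadFormPlus m (ZMod 2) (g v)) ∨
      (∃ g : (Fin m ⊕ Fin m → ZMod 2) ≃ₗ[ZMod 2] ((Fin (m - 1) ⊕ Fin (m - 1)) ⊕ Fin 2 → ZMod 2), ∀ v, q v = Cfsg.quadFormMinus (m - 1) (ZMod 2) 1 1 (g v))) ∧
    Nat.card {q : (Fin m ⊕ Fin m → ZMod 2) → ZMod 2 // (∀ u v : (Fin m ⊕ Fin m → ZMod 2), q (u + v) = q u + q v + (Cfsg.quadFormPlus m (ZMod 2) (u + v) - Cfsg.quadFormPlus m (ZMod 2) u - Cfsg.quadFormPlus m (ZMod 2) v)) ∧ ∃ g : (Fin m ⊕ Fin m → ZMod 2) ≃ₗ[ZMod 2] (Fin m ⊕ Fin m → ZMod 2), ∀ v, q v = Cfsg.quadFormPlus m (ZMod 2) (g v)} = 2 ^ (2 * m - 1) + 2 ^ (m - 1) ∧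
    Nat.card {q : (Fin m ⊕ Fin m → ZMod 2) → ZMod 2 // (∀ u v : (Fin m ⊕ Fin m → ZMod 2), q (u + v) = q u + q v + (Cfsg.quadFormPlus m (ZMod 2) (u + v) - Cfsg.quadFormPlus m (ZMod 2) u - Cfsg.quadFormPlus m (ZMod 2) v)) ∧ ∃ g : (Fin m ⊕ Fin m → ZMod 2) ≃ₗ[ZMod 2] ((Fin (m - 1) ⊕ Fin (m - 1)) ⊕ Fin 2 → ZMod 2), ∀ v, q v = Cfsg.quadFormMinus (m - 1) (ZMod 2) 1 1 (g v)} = 2 ^ (2 * m - 1) - 2 ^ (m - 1) := by
  classical
  show Nat.card {q : Vm m → ZMod 2 // Pol m q} = 2 ^ (2 * m) ∧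
    (∀ q : Vm m → ZMod 2, Pol m q → Plus m q ∨ Minus m q) ∧
    Nat.card {q : Vm m → ZMod 2 // Pol m q ∧ Plus m q} = 2 ^ (2 * m - 1) + 2 ^ (m - 1) ∧
    Nat.card {q : Vm m → ZMod 2 // Pol m q ∧ Minus m q} = 2 ^ (2 * m - 1) - 2 ^ (m - 1)
  refine ⟨?_, plus_or_minus m hm, ?_, ?_⟩
  · have hbij : Function.Bijective (fun w : Vm m => (⟨Φ m w, pol_Φ m w⟩ : {q : Vm m → ZMod 2 // Pol m q})) := by
      constructor
      · intro w w' h
        exact Φ_injective m (congrArg Subtype.val h)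
      · rintro ⟨q, hq⟩
        obtain ⟨w, hw⟩ := Φ_surjective m q hq
        exact ⟨w, Subtype.ext hw⟩
    rw [← Nat.card_congr (Equiv.ofBijective _ hbij), Nat.card_eq_fintype_card, Fintype.card_fun,
      Fintype.card_sum, Fintype.card_fin, ZMod.card]
    congr 1; ring
  · obtain ⟨k, rfl⟩ : ∃ k, m = k + 1 := ⟨m - 1, by omega⟩
    have hbij : Function.Bijective
        (fun w : {w : Vm (k + 1) // Cfsg.quadFormPlus (k + 1) (ZMod 2) w = 0} =>
          (⟨Φ (k + 1) w, pol_Φ (k + 1) w, (plus_Φ_iff (k + 1) hm w).2 w.2⟩ :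
            {q : Vm (k + 1) → ZMod 2 // Pol (k + 1) q ∧ Plus (k + 1) q})) := by
      constructor
      · intro w w' h
        exact Subtype.ext (Φ_injective (k + 1) (congrArg Subtype.val h))
      · rintro ⟨q, hq, hp⟩
        obtain ⟨w, rfl⟩ := Φ_surjective (k + 1) q hq
        exact ⟨⟨w, (plus_Φ_iff (k + 1) hm w).1 hp⟩, rfl⟩
    rw [← Nat.card_congr (Equiv.ofBijective _ hbij), (card_zeros k).1]
    congr 2
  · obtain ⟨k, rfl⟩ : ∃ k, m = k + 1 := ⟨m - 1, by omega⟩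
    have hiff : ∀ w : Vm (k + 1), Minus (k + 1) (Φ (k + 1) w) ↔
        Cfsg.quadFormPlus (k + 1) (ZMod 2) w ≠ 0 := by
      intro w
      constructor
      · intro hmi h0
        exact not_plus_and_minus (k + 1) hm _ ((plus_Φ_iff (k + 1) hm w).2 h0) hmi
      · intro h0
        rcases plus_or_minus (k + 1) hm _ (pol_Φ (k + 1) w) with hp | hmi
        · exact absurd ((plus_Φ_iff (k + 1) hm w).1 hp) h0
        · exact hmi
    have hbij : Function.Bijective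
        (fun w : {w : Vm (k + 1) // Cfsg.quadFormPlus (k + 1) (ZMod 2) w ≠ 0} =>
          (⟨Φ (k + 1) w, pol_Φ (k + 1) w, (hiff w).2 w.2⟩ :
            {q : Vm (k + 1) → ZMod 2 // Pol (k + 1) q ∧ Minus (k + 1) q})) := by
      constructor
      · intro w w' h
        exact Subtype.ext (Φ_injective (k + 1) (congrArg Subtype.val h))
      · rintro ⟨q, hq, hp⟩
        obtain ⟨w, rfl⟩ := Φ_surjective (k + 1) q hq
        exact ⟨⟨w, (hiff w).1 hp⟩, rfl⟩
    rw [← Nat.card_congr (Equiv.ofBijective _ hbij), (card_zeros k).2]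
    congr 2

end Cfsg.Agent.S2561
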