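import Cfsg.Statements.S2565
import Cfsg.Agent.S0287
import Cfsg.Agent.Lib.Helper7.EvenQ5

set_option autoImplicit false
open Cfsg

namespace Cfsg.Agent.S2565

open Cfsg.Agent.Lib.Helper7

/-- The commutator subgroup of the full orthogonal group of the plus-type form Σ xᵢyᵢ in dimension 6 over the field of two elements (the group Ω⁺₆(2), of index 2) is isomorphic to the alternating group of degree 8. -/
theorem result :
    (Cfsg.Omega (ZMod 2) (Cfsg.quadFormPlus 3 (ZMod 2))).index = 2 ∧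
    Nonempty (↥(Cfsg.Omega (ZMod 2) (Cfsg.quadFormPlus 3 (ZMod 2))) ≃* alternatingGroup (Fin 8)) := by
  have hcard : Nat.card ↥(Cfsg.isometryGroup (ZMod 2) (Cfsg.quadFormPlus 3 (ZMod 2))) = 40320 := by
    have h := Cfsg.Agent.S0287.result (F := ZMod 2) (q := 2) (ZMod.card 2) 3 (by norm_num)
    rw [h]
    decide
  have hfin : Finite ↥(Cfsg.isometryGroup (ZMod 2) (Cfsg.quadFormPlus 3 (ZMod 2))) :=
    Nat.finite_of_card_ne_zero (by rw [hcard]; norm_num)
  have hemb : ∃ φ : Equiv.Perm (Fin 8) →*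
      ↥(Cfsg.isometryGroup (ZMod 2) (Cfsg.quadFormPlus 3 (ZMod 2))), Function.Injective φ :=
    EvenQ.sym_embed_plus 0
  obtain ⟨φ, hφ⟩ := hemb
  have hbij : Function.Bijective φ := by
    apply hφ.bijective_of_nat_card_le
    rw [hcard, Nat.card_perm, Nat.card_eq_fintype_card, Fintype.card_fin]
    decide
  let ψ : Equiv.Perm (Fin 8) ≃* ↥(Cfsg.isometryGroup (ZMod 2) (Cfsg.quadFormPlus 3 (ZMod 2))) :=
    MulEquiv.ofBijective φ hbij
  have h5 : 5 ≤ Nat.card (Fin 8) := by simp
  have hmap : (alternatingGroup (Fin 8)).map (ψ : Equiv.Perm (Fin 8) →*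
      ↥(Cfsg.isometryGroup (ZMod 2) (Cfsg.quadFormPlus 3 (ZMod 2))))
      = commutator ↥(Cfsg.isometryGroup (ZMod 2) (Cfsg.quadFormPlus 3 (ZMod 2))) := by
    rw [← alternatingGroup.commutator_perm_eq h5, commutator_def, Subgroup.map_commutator,
      Subgroup.map_top_of_surjective (ψ : Equiv.Perm (Fin 8) →*
      ↥(Cfsg.isometryGroup (ZMod 2) (Cfsg.quadFormPlus 3 (ZMod 2)))) ψ.surjective, ← commutator_def]
  constructor
  · show (commutator ↥(Cfsg.isometryGroup (ZMod 2) (Cfsg.quadFormPlus 3 (ZMod 2)))).index = 2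
    rw [← hmap, Subgroup.index_map_equiv]
    exact alternatingGroup.index_eq_two
  · exact ⟨((ψ.subgroupMap (alternatingGroup (Fin 8))).trans
      (MulEquiv.subgroupCongr hmap)).symm⟩

end Cfsg.Agent.S2565
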