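import Cfsg.Statements.S2567

set_option autoImplicit false
open Cfsg

namespace Cfsg.Agent.S2567

open Matrix

/-- If r is a prime not dividing q − 1, an element of order r of GL_n(q) modulo scalars has exactly one preimage of order r in GL_n(q). -/
theorem result {F : Type*} [Field F] [Fintype F] {q n r : ℕ} (hF : Fintype.card F = q) (hr : r.Prime) (hdiv : ¬ r ∣ q - 1) (x : GL (Fin n) F ⧸ Subgroup.center (GL (Fin n) F)) (hx : orderOf x = r) : ∃! g : GL (Fin n) F, (QuotientGroup.mk g : GL (Fin n) F ⧸ Subgroup.center (GL (Fin n) F)) = x ∧ orderOf g = r := by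
  classical
  have hcardU : Nat.card Fˣ = q - 1 := by
    rw [Nat.card_units, Nat.card_eq_fintype_card, hF]
  have hcop : Nat.Coprime (Nat.card Fˣ) r := by
    rw [hcardU, Nat.coprime_comm]
    exact (Nat.Prime.coprime_iff_not_dvd hr).mpr hdiv
  -- central elements killed by `r` are trivial
  have hcent : ∀ z ∈ Subgroup.center (GL (Fin n) F), z ^ r = 1 → z = 1 := by
    intro z hz hzr
    rw [Matrix.GeneralLinearGroup.center_eq_range_scalar] at hz
    obtain ⟨u, rfl⟩ := hz
    have h1 : orderOf (Matrix.GeneralLinearGroup.scalar (Fin n) u) ∣ orderOf u := orderOf_map_dvd _ u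
    have h2 : orderOf u ∣ Nat.card Fˣ := orderOf_dvd_natCard u
    have h3 : orderOf (Matrix.GeneralLinearGroup.scalar (Fin n) u) ∣ r := orderOf_dvd_of_pow_eq_one hzr
    have h4 : orderOf (Matrix.GeneralLinearGroup.scalar (Fin n) u) ∣ 1 := by
      have := Nat.dvd_gcd (h1.trans h2) h3
      rwa [hcop] at this
    exact orderOf_eq_one_iff.mp (Nat.dvd_one.mp h4)
  obtain ⟨g0, hg0⟩ := QuotientGroup.mk_surjective x
  have hg0r : g0 ^ r ∈ Subgroup.center (GL (Fin n) F) := by
    rw [← QuotientGroup.eq_one_iff, QuotientGroup.mk_pow, hg0, ← hx, pow_orderOf_eq_one]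
  have hg0r' := hg0r
  rw [Matrix.GeneralLinearGroup.center_eq_range_scalar] at hg0r'
  obtain ⟨c, hc⟩ := hg0r'
  -- r-th root of c
  obtain ⟨μ, hμ⟩ := (powCoprime hcop).surjective c
  simp only [powCoprime_apply] at hμ
  set s := Matrix.GeneralLinearGroup.scalar (Fin n) μ with hs
  have hscent : s ∈ Subgroup.center (GL (Fin n) F) := by
    rw [Matrix.GeneralLinearGroup.center_eq_range_scalar]; exact ⟨μ, rfl⟩
  have hscomm : ∀ h : GL (Fin n) F, h * s = s * h := Subgroup.mem_center_iff.mp hscent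
  have hsr : s ^ r = g0 ^ r := by
    rw [hs, ← map_pow, hμ, hc]
  refine ⟨g0 * s⁻¹, ⟨?_, ?_⟩, ?_⟩
  · rw [QuotientGroup.mk_mul, hg0]
    have : (QuotientGroup.mk s⁻¹ : GL (Fin n) F ⧸ Subgroup.center (GL (Fin n) F)) = 1 := by
      rw [QuotientGroup.eq_one_iff]; exact Subgroup.inv_mem _ hscent
    rw [this, mul_one]
  · have hcomm : Commute g0 s⁻¹ := by
      have := hscomm g0
      exact (Commute.inv_right this)
    have hpow : (g0 * s⁻¹) ^ r = 1 := by
      rw [hcomm.mul_pow, inv_pow, hsr, mul_inv_cancel]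
    have hdvd := orderOf_dvd_of_pow_eq_one hpow
    rcases (Nat.dvd_prime hr).mp hdvd with h1 | h1
    · exfalso
      have hg1 : g0 * s⁻¹ = 1 := orderOf_eq_one_iff.mp h1
      have : x = 1 := by
        rw [← hg0]
        rw [QuotientGroup.eq_one_iff]
        have : g0 = s := by
          calc g0 = g0 * s⁻¹ * s := by group
            _ = s := by rw [hg1, one_mul]
        rw [this]; exact hscent
      rw [this, orderOf_one] at hx
      exact hr.one_lt.ne hx
    · exact h1
  · rintro g' ⟨hg'x, hg'r⟩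
    -- g' = g * z with z central
    have hz : (g0 * s⁻¹)⁻¹ * g' ∈ Subgroup.center (GL (Fin n) F) := by
      rw [← QuotientGroup.eq_one_iff, QuotientGroup.mk_mul, QuotientGroup.mk_inv, hg'x, QuotientGroup.mk_mul, hg0]
      have : (QuotientGroup.mk s⁻¹ : GL (Fin n) F ⧸ Subgroup.center (GL (Fin n) F)) = 1 := by
        rw [QuotientGroup.eq_one_iff]; exact Subgroup.inv_mem _ hscent
      rw [this, mul_one, inv_mul_cancel]
    have hcomm : Commute g0 s⁻¹ := Commute.inv_right (hscomm g0)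
    have hpow : (g0 * s⁻¹) ^ r = 1 := by
      rw [hcomm.mul_pow, inv_pow, hsr, mul_inv_cancel]
    have hzr : ((g0 * s⁻¹)⁻¹ * g') ^ r = 1 := by
      have hc2 : Commute (g0 * s⁻¹)⁻¹ g' := by
        have h1 := Subgroup.mem_center_iff.mp hz (g0 * s⁻¹)
        -- (g0 s⁻¹) * z = z * (g0 s⁻¹), z = (g0 s⁻¹)⁻¹ g'
        have h2 : g' = (g0 * s⁻¹) * ((g0 * s⁻¹)⁻¹ * g') := by group
        have h3 : g' * (g0 * s⁻¹) = (g0 * s⁻¹) * g' := by
          calc g' * (g0 * s⁻¹) = (g0 * s⁻¹) * (((g0 * s⁻¹)⁻¹ * g') * (g0 * s⁻¹)) := by group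
            _ = (g0 * s⁻¹) * ((g0 * s⁻¹) * ((g0 * s⁻¹)⁻¹ * g')) := by rw [← h1]
            _ = (g0 * s⁻¹) * g' := by group
        exact (Commute.inv_left (show Commute (g0 * s⁻¹) g' from h3.symm))
      rw [hc2.mul_pow, inv_pow, hpow, inv_one, one_mul, ← hg'r, pow_orderOf_eq_one]
    have := hcent _ hz hzr
    calc g' = (g0 * s⁻¹) * ((g0 * s⁻¹)⁻¹ * g') := by group
      _ = g0 * s⁻¹ := by rw [this, mul_one]

end Cfsg.Agent.S2567
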