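import Mathlib
import Cfsg.Statements.S2571
import Cfsg.Agent.Lib.Helper5.RegularNilpotent

set_option autoImplicit false
open Cfsg

namespace Cfsg.Agent.S2571

open Module Matrix Cfsg.Agent.Lib.Helper5

lemma mulVecLin_inj {F : Type*} [Field F] {n : ℕ} {A B : Matrix (Fin n) (Fin n) F}
    (h : Matrix.mulVecLin A = Matrix.mulVecLin B) : A = B := by
  apply Matrix.toLin'.injective
  rw [Matrix.toLin'_apply', Matrix.toLin'_apply']
  exact h

theorem result {F : Type*} [Field F] [Fintype F] {q n : ℕ} (hF : Fintype.card F = q) (hn : 1 ≤ n) (u : GL (Fin n) F) (hnil : ((u : Matrix (Fin n) (Fin n) F) - 1) ^ n = 0) (hreg : ((u : Matrix (Fin n) (Fin n) F) - 1).rank = n - 1) : Nat.card ↥(Subgroup.centralizer ({u} : Set (GL (Fin n) F))) = (q - 1) * q ^ (n - 1) := by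
  classical
  set U : Matrix (Fin n) (Fin n) F := (u : Matrix (Fin n) (Fin n) F) with hU
  set f : Module.End F (Fin n → F) := Matrix.mulVecLin (U - 1) with hf
  have hdimV : finrank F (Fin n → F) = n := Module.finrank_fin_fun F
  have hfn : f ^ n = 0 := by
    rw [hf, ← Cfsg.Agent.S2573.mulVecLin_pow, hnil]
    simp
  have hfn' : f ^ finrank F (Fin n → F) = 0 := by rw [hdimV]; exact hfn
  have hker : finrank F (LinearMap.ker f) ≤ 1 := by
    have h1 := LinearMap.finrank_range_add_finrank_ker f
    have h2 : finrank F (LinearMap.range f) = n - 1 := hreg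
    rw [hdimV] at h1
    omega
  obtain ⟨v, hv⟩ := exists_cyclic f hker hfn' (by omega)
  -- commutation: matrices commuting with `u` commute with `f`
  have hcomm_of : ∀ G : Matrix (Fin n) (Fin n) F, G * U = U * G →
      ∀ x, (Matrix.mulVecLin G) (f x) = f ((Matrix.mulVecLin G) x) := by
    intro G hG x
    simp only [hf, Matrix.mulVecLin_apply, Matrix.mulVec_mulVec]
    congr 1
    rw [Matrix.mul_sub, Matrix.sub_mul, hG, Matrix.mul_one, Matrix.one_mul]
  have hpowcomm : ∀ (g : (Fin n → F) →ₗ[F] (Fin n → F)), (∀ x, g (f x) = f (g x)) →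
      ∀ k : ℕ, ∀ x, g ((f ^ k) x) = (f ^ k) (g x) := by
    intro g hg k
    induction k with
    | zero => intro x; simp
    | succ k ih =>
      intro x
      rw [pow_succ, Module.End.mul_apply, ih, hg]
      rfl
  -- the bijection
  let Φ : ↥(Subgroup.centralizer ({u} : Set (GL (Fin n) F))) →
      {w : Fin n → F // (f ^ (finrank F (Fin n → F) - 1)) w ≠ 0} := fun g =>
    ⟨((g : GL (Fin n) F) : Matrix (Fin n) (Fin n) F) *ᵥ v, by
      intro h0
      have hg : ((g : GL (Fin n) F) : Matrix (Fin n) (Fin n) F) * U = U *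
          ((g : GL (Fin n) F) : Matrix (Fin n) (Fin n) F) := by
        have := Subgroup.mem_centralizer_singleton_iff.mp g.2
        have h2 := congrArg (fun z : GL (Fin n) F => (z : Matrix (Fin n) (Fin n) F)) this
        simpa using h2
      have h1 := hpowcomm _ (hcomm_of _ hg) (finrank F (Fin n → F) - 1) v
      simp only [Matrix.mulVecLin_apply] at h1
      rw [h0] at h1
      apply hv
      have h3 := congrArg (fun z => (((g : GL (Fin n) F)⁻¹ : GL (Fin n) F) :
        Matrix (Fin n) (Fin n) F) *ᵥ z) h1
      simp only [Matrix.mulVec_mulVec, Matrix.mulVec_zero] at h3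
      rw [← Matrix.GeneralLinearGroup.coe_mul, inv_mul_cancel] at h3
      simpa using h3⟩
  have hΦ : Function.Bijective Φ := by
    constructor
    · intro g g' hgg'
      have h0 : ((g : GL (Fin n) F) : Matrix (Fin n) (Fin n) F) *ᵥ v =
          ((g' : GL (Fin n) F) : Matrix (Fin n) (Fin n) F) *ᵥ v := congrArg Subtype.val hgg'
      have hg : ∀ g : ↥(Subgroup.centralizer ({u} : Set (GL (Fin n) F))),
          ((g : GL (Fin n) F) : Matrix (Fin n) (Fin n) F) * U = U *
          ((g : GL (Fin n) F) : Matrix (Fin n) (Fin n) F) := by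
        intro g
        have := Subgroup.mem_centralizer_singleton_iff.mp g.2
        have h2 := congrArg (fun z : GL (Fin n) F => (z : Matrix (Fin n) (Fin n) F)) this
        simpa using h2
      have := eq_of_commute_of_apply_eq f hfn' v hv
        (Matrix.mulVecLin ((g : GL (Fin n) F) : Matrix (Fin n) (Fin n) F))
        (Matrix.mulVecLin ((g' : GL (Fin n) F) : Matrix (Fin n) (Fin n) F))
        (hcomm_of _ (hg g)) (hcomm_of _ (hg g')) h0
      apply Subtype.ext
      apply Units.ext
      exact mulVecLin_inj this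
    · rintro ⟨w, hw⟩
      obtain ⟨e, he, hev⟩ := exists_equiv_of_cyclic f hfn' v w hv hw
      set G := LinearMap.toMatrix' e.toLinearMap with hG
      set G' := LinearMap.toMatrix' e.symm.toLinearMap with hG'
      have h1 : G * G' = 1 := by
        rw [hG, hG', ← LinearMap.toMatrix'_comp]
        simp
      have h2 : G' * G = 1 := by
        rw [hG, hG', ← LinearMap.toMatrix'_comp]
        simp
      have hGlin : Matrix.mulVecLin G = e.toLinearMap := by
        rw [hG, ← Matrix.toLin'_apply', Matrix.toLin'_toMatrix']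
      let g : GL (Fin n) F := ⟨G, G', h1, h2⟩
      have hgu : g * u = u * g := by
        apply Units.ext
        show G * U = U * G
        have h3 : G * (U - 1) = (U - 1) * G := by
          apply mulVecLin_inj
          rw [Matrix.mulVecLin_mul, Matrix.mulVecLin_mul, hGlin]
          exact LinearMap.ext fun x => he x
        rw [Matrix.mul_sub, Matrix.sub_mul, Matrix.mul_one, Matrix.one_mul] at h3
        exact sub_left_injective h3
      refine ⟨⟨g, Subgroup.mem_centralizer_singleton_iff.mpr hgu⟩, ?_⟩
      apply Subtype.ext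
      show G *ᵥ v = w
      rw [← Matrix.mulVecLin_apply, hGlin]
      exact hev
  rw [Nat.card_congr (Equiv.ofBijective Φ hΦ)]
  -- count the cyclic vectors
  have hcount : Nat.card {w : Fin n → F // (f ^ (finrank F (Fin n → F) - 1)) w ≠ 0}
      = q ^ n - q ^ (n - 1) := by
    rw [Nat.card_eq_fintype_card]
    have h1 : Fintype.card {w : Fin n → F // (f ^ (finrank F (Fin n → F) - 1)) w ≠ 0}
        = Fintype.card (Fin n → F) -
          Fintype.card {w : Fin n → F // (f ^ (finrank F (Fin n → F) - 1)) w = 0} :=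
      Fintype.card_subtype_compl _
    rw [h1, Fintype.card_fun, Fintype.card_fin, hF]
    congr 1
    have h2 : Fintype.card {w : Fin n → F // (f ^ (finrank F (Fin n → F) - 1)) w = 0}
        = Nat.card (LinearMap.ker (f ^ (finrank F (Fin n → F) - 1))) := by
      rw [← Nat.card_eq_fintype_card]
      rfl
    rw [h2, Module.natCard_eq_pow_finrank (K := F),
      finrank_ker_pow_eq f hker hfn' _ (by omega), Nat.card_eq_fintype_card, hF, hdimV]
  rw [hcount]
  obtain ⟨k, rfl⟩ : ∃ k, n = k + 1 := ⟨n - 1, by omega⟩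
  simp only [Nat.add_sub_cancel]
  have hq1 : 1 ≤ q := by
    rw [← hF]; exact Fintype.card_pos
  rw [pow_succ, Nat.sub_mul, one_mul, mul_comm]

end Cfsg.Agent.S2571
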