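import Mathlib
import Cfsg.Statements.S2574
import Cfsg.Agent.S2573

set_option autoImplicit false
open Cfsg

namespace Cfsg.Agent.S2574

open Module Matrix

section
variable {F : Type*} [Field F] {m : ℕ}

lemma symp_sub_left (a b y : Fin m ⊕ Fin m → F) :
    Cfsg.sympForm m F (a - b) y = Cfsg.sympForm m F a y - Cfsg.sympForm m F b y := by
  unfold Cfsg.sympForm
  rw [sub_dotProduct]

lemma symp_sub_right (x a b : Fin m ⊕ Fin m → F) :
    Cfsg.sympForm m F x (a - b) = Cfsg.sympForm m F x a - Cfsg.sympForm m F x b := by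
  unfold Cfsg.sympForm
  rw [mulVec_sub, dotProduct_sub]

lemma symp_zero_right (x : Fin m ⊕ Fin m → F) : Cfsg.sympForm m F x 0 = 0 := by
  unfold Cfsg.sympForm
  rw [mulVec_zero, dotProduct_zero]

lemma symp_neg_right (x a : Fin m ⊕ Fin m → F) :
    Cfsg.sympForm m F x (-a) = -Cfsg.sympForm m F x a := by
  unfold Cfsg.sympForm
  rw [mulVec_neg, dotProduct_neg]

lemma symp_invariant (A : Matrix (Fin m ⊕ Fin m) (Fin m ⊕ Fin m) F)
    (hA : A ∈ Matrix.symplecticGroup (Fin m) F) (v w : Fin m ⊕ Fin m → F) :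
    Cfsg.sympForm m F (A *ᵥ v) (A *ᵥ w) = Cfsg.sympForm m F v w := by
  unfold Cfsg.sympForm
  rw [← vecMul_transpose, ← dotProduct_mulVec, mulVec_mulVec, mulVec_mulVec,
    SymplecticGroup.mem_iff'.mp hA]

end

theorem result {F : Type*} [Field F] [Finite F] {m : ℕ} (u : Matrix.symplecticGroup (Fin m) F) (hnil : ((u : Matrix (Fin m ⊕ Fin m) (Fin m ⊕ Fin m) F) - 1) ^ (2 * m) = 0) (hreg : ((u : Matrix (Fin m ⊕ Fin m) (Fin m ⊕ Fin m) F) - 1).rank = 2 * m - 1) (W : Submodule F (Fin m ⊕ Fin m → F)) (hW : ∀ v ∈ W, (u : Matrix (Fin m ⊕ Fin m) (Fin m ⊕ Fin m) F).mulVec v ∈ W) (hdim : 2 * Module.finrank F W ≤ 2 * m) : ∀ v ∈ W, ∀ w ∈ W, Cfsg.sympForm m F v w = 0 := by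
  classical
  set A : Matrix (Fin m ⊕ Fin m) (Fin m ⊕ Fin m) F := (u : Matrix (Fin m ⊕ Fin m) (Fin m ⊕ Fin m) F)
    with hAdef
  have hA : A ∈ Matrix.symplecticGroup (Fin m) F := u.2
  set f : Module.End F (Fin m ⊕ Fin m → F) := Matrix.mulVecLin (A - 1) with hf
  have hfapp : ∀ x, f x = A *ᵥ x - x := by
    intro x
    rw [hf, Matrix.mulVecLin_apply, Matrix.sub_mulVec, Matrix.one_mulVec]
  have hpow : ∀ k : ℕ, Matrix.mulVecLin ((A - 1) ^ k) = f ^ k := by
    intro k
    induction k with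
    | zero => simp [Module.End.one_eq_id]
    | succ k ih => rw [pow_succ, Matrix.mulVecLin_mul, ih, pow_succ]; rfl
  have hfn : f ^ (2 * m) = 0 := by
    rw [← hpow, hnil]
    simp
  have hdimV : finrank F (Fin m ⊕ Fin m → F) = 2 * m := by
    rw [Module.finrank_pi, Fintype.card_sum, Fintype.card_fin]
    ring
  have hker : finrank F (LinearMap.ker f) ≤ 1 := by
    have h1 := LinearMap.finrank_range_add_finrank_ker f
    have h2 : finrank F (LinearMap.range f) = 2 * m - 1 := hreg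
    rw [hdimV] at h1
    omega
  have hWf : ∀ v ∈ W, f v ∈ W := by
    intro v hv
    rw [hfapp]
    exact Submodule.sub_mem _ (hW v hv) hv
  set d := finrank F W with hd
  have hWeq : W = LinearMap.ker (f ^ d) := Cfsg.Agent.S2573.eq_ker_pow f hker (2 * m) hfn W hWf
  have hdm : d ≤ m := by omega
  obtain ⟨k, hk⟩ : ∃ k, 2 * m = d + k := ⟨2 * m - d, by omega⟩
  have hdk : d ≤ k := by omega
  -- ker f^d = range f^k
  have hrange_le : LinearMap.range (f ^ k) ≤ LinearMap.ker (f ^ d) := by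
    rintro _ ⟨x, rfl⟩
    rw [LinearMap.mem_ker, ← Module.End.mul_apply, ← pow_add, ← hk, hfn]
    rfl
  have hrange_eq : LinearMap.range (f ^ k) = LinearMap.ker (f ^ d) := by
    apply Submodule.eq_of_le_of_finrank_le hrange_le
    have h1 := LinearMap.finrank_range_add_finrank_ker (f ^ k)
    have h2 := Cfsg.Agent.S2573.finrank_ker_pow_le f hker k
    have h3 := Cfsg.Agent.S2573.finrank_ker_pow_le f hker d
    rw [hdimV] at h1
    omega
  -- adjoint relation
  have hcomm : ∀ x, f (A *ᵥ x) = A *ᵥ f x := by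
    intro x
    rw [hfapp, hfapp, Matrix.mulVec_sub]
  have hadj1 : ∀ x y, Cfsg.sympForm m F (f x) y = -Cfsg.sympForm m F (A *ᵥ x) (f y) := by
    intro x y
    rw [hfapp, hfapp, symp_sub_left, symp_sub_right, symp_invariant A hA]
    have := symp_invariant A hA x y
    ring
  have hadj : ∀ j : ℕ, ∀ x y, ∃ x', Cfsg.sympForm m F ((f ^ j) x) y
      = (-1) ^ j * Cfsg.sympForm m F x' ((f ^ j) y) := by
    intro j
    induction j with
    | zero => intro x y; exact ⟨x, by simp⟩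
    | succ j ih =>
      intro x y
      have h1 : (f ^ (j + 1)) x = f ((f ^ j) x) := by rw [pow_succ']; rfl
      rw [h1, hadj1]
      have h2 : A *ᵥ (f ^ j) x = (f ^ j) (A *ᵥ x) := by
        clear ih h1
        induction j with
        | zero => simp
        | succ j ih2 =>
          have h3 : ∀ z, (f ^ (j + 1)) z = f ((f ^ j) z) := fun z => by rw [pow_succ']; rfl
          rw [h3, h3, ← ih2, hcomm]
      rw [h2]
      obtain ⟨x', hx'⟩ := ih (A *ᵥ x) (f y)
      refine ⟨x', ?_⟩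
      rw [hx']
      have h4 : (f ^ j) (f y) = (f ^ (j + 1)) y := by rw [pow_succ]; rfl
      rw [h4, pow_succ]
      ring
  intro v hv w hw
  rw [hWeq, ← hrange_eq] at hv
  obtain ⟨x, rfl⟩ := hv
  rw [hWeq, LinearMap.mem_ker] at hw
  obtain ⟨x', hx'⟩ := hadj k x w
  rw [hx']
  have : (f ^ k) w = 0 := by
    obtain ⟨e, rfl⟩ : ∃ e, k = e + d := ⟨k - d, by omega⟩
    rw [pow_add, Module.End.mul_apply, hw, map_zero]
  rw [this, symp_zero_right, mul_zero]

end Cfsg.Agent.S2574
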