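import Cfsg.Statements.S2575

set_option autoImplicit false
open Cfsg

namespace Cfsg.Agent.S2575

lemma exists_orderOf_eq {F : Type*} [Field F] [Fintype F] (j : ℕ)
    (hj : j ∣ Fintype.card F - 1) : ∃ d : Fˣ, orderOf d = j := by
  classical
  obtain ⟨g, hg⟩ := IsCyclic.exists_ofOrder_eq_natCard (α := Fˣ)
  rw [Nat.card_eq_fintype_card, Fintype.card_units] at hg
  have hpos : 0 < Fintype.card F - 1 := by
    have := Fintype.one_lt_card (α := F)
    omega
  refine ⟨g ^ (orderOf g / j), ?_⟩
  apply orderOf_pow_orderOf_div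
  · rw [hg]; omega
  · rw [hg]; exact hj

lemma pow_two_pow_eq_neg_one {F : Type*} [Field F] (x : F) (j : ℕ)
    (h : orderOf x = 2 ^ (j + 1)) : x ^ (2 ^ j) = -1 := by
  have h1 : (x ^ (2 ^ j)) ^ 2 = 1 := by
    rw [← pow_mul, ← pow_succ, ← h, pow_orderOf_eq_one]
  have h2 : x ^ (2 ^ j) ≠ 1 := by
    intro h3
    have := orderOf_dvd_of_pow_eq_one h3
    rw [h] at this
    have := Nat.le_of_dvd (by positivity) this
    rw [pow_succ] at this
    have : 0 < 2 ^ j := by positivity
    omega
  have h3 : (x ^ (2 ^ j) - 1) * (x ^ (2 ^ j) + 1) = 0 := by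
    linear_combination h1
  rcases mul_eq_zero.mp h3 with h4 | h4
  · exact absurd (sub_eq_zero.mp h4) h2
  · exact eq_neg_of_add_eq_zero_left h4

lemma det_eq {F : Type*} [Field F] (n i : ℕ) (hi : i ≤ n) (c : F) :
    (c • Matrix.diagonal (fun j : Fin n => if (j : ℕ) < i then (-1 : F) else 1)).det
      = c ^ n * (-1) ^ i := by
  rw [Matrix.det_smul, Matrix.det_diagonal, Fintype.card_fin, Finset.prod_ite]
  simp only [Finset.prod_const, one_pow, mul_one]
  congr 2
  have := Fin.card_filter_val_lt (n := n) (m := i)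
  rw [min_eq_right hi] at this
  convert this using 2

theorem result {F : Type*} [Field F] [Fintype F] {q : ℕ} (hF : Fintype.card F = q) (hq : Odd q) {n : ℕ} (hn : 1 ≤ n) (i : ℕ) (hi : i ≤ n) : (∃ c : F, c ≠ 0 ∧ (c • Matrix.diagonal (fun j : Fin n => if (j : ℕ) < i then (-1 : F) else 1)).det = 1) ↔ (Even i ∨ padicValNat 2 n < padicValNat 2 (q - 1)) := by
  classical
  simp_rw [det_eq n i hi]
  have hq1 : 1 < q := hF ▸ Fintype.one_lt_card
  have hq0 : q - 1 ≠ 0 := by omega
  have h2 : (2 : F) ≠ 0 := by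
    apply Ring.two_ne_zero
    intro h
    have := FiniteField.even_card_iff_char_two.mp h
    rw [hF] at this
    rw [Nat.odd_iff] at hq
    omega
  have hneg : (-1 : F) ≠ 1 := by
    intro h
    apply h2
    linear_combination -h
  set s := padicValNat 2 (q - 1) with hs
  set r := padicValNat 2 n with hr
  have hn0 : n ≠ 0 := by omega
  constructor
  · rintro ⟨c, hc, hdet⟩
    by_cases hev : Even i
    · exact Or.inl hev
    · right
      rw [Nat.not_even_iff_odd] at hev
      rw [hev.neg_one_pow] at hdet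
      have hcn : c ^ n = -1 := by linear_combination -hdet
      by_contra hlt
      push Not at hlt
      -- s ≤ r
      have hdvd : 2 ^ s ∣ n := (pow_dvd_pow 2 hlt).trans pow_padicValNat_dvd
      obtain ⟨n', hn'⟩ := hdvd
      obtain ⟨t, ht⟩ : 2 ^ s ∣ q - 1 := pow_padicValNat_dvd
      have htodd : Odd t := by
        rw [← Nat.not_even_iff_odd]
        rintro ⟨t', rfl⟩
        apply pow_succ_padicValNat_not_dvd (p := 2) hq0
        rw [← hs, ht]
        exact ⟨t', by ring⟩
      have h1 : (c ^ n) ^ t = 1 := by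
        rw [← pow_mul, hn', mul_right_comm, ← ht, pow_mul, ← hF,
          FiniteField.pow_card_sub_one_eq_one c hc, one_pow]
      rw [hcn, htodd.neg_one_pow] at h1
      exact hneg h1
  · rintro (hev | hlt)
    · exact ⟨1, one_ne_zero, by rw [hev.neg_one_pow]; simp⟩
    · by_cases hev : Even i
      · exact ⟨1, one_ne_zero, by rw [hev.neg_one_pow]; simp⟩
      rw [Nat.not_even_iff_odd] at hev
      have hdvd : 2 ^ (r + 1) ∣ Fintype.card F - 1 := by
        rw [hF]
        exact (pow_dvd_pow 2 hlt).trans pow_padicValNat_dvd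
      obtain ⟨d, hd⟩ := exists_orderOf_eq (F := F) _ hdvd
      have hd' : orderOf (d : F) = 2 ^ (r + 1) := by
        rw [← hd]
        exact orderOf_units
      have hdr := pow_two_pow_eq_neg_one (d : F) r hd'
      obtain ⟨u, hu⟩ : 2 ^ r ∣ n := pow_padicValNat_dvd
      have huodd : Odd u := by
        rw [← Nat.not_even_iff_odd]
        rintro ⟨u', rfl⟩
        apply pow_succ_padicValNat_not_dvd (p := 2) hn0
        rw [← hr]
        exact ⟨u', by rw [hu]; ring⟩
      refine ⟨(d : F), d.ne_zero, ?_⟩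
      rw [hev.neg_one_pow]
      conv_lhs => rw [hu]
      rw [pow_mul, hdr, huodd.neg_one_pow]
      ring

end Cfsg.Agent.S2575
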