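import Cfsg.Statements.S2576

set_option autoImplicit false
open Cfsg

namespace Cfsg.Agent.S2576

lemma pow_two_pow_eq_neg_one {F : Type*} [Field F] (x : F) (j : ℕ)
    (h : orderOf x = 2 ^ (j + 1)) : x ^ (2 ^ j) = -1 := by
  have h1 : (x ^ (2 ^ j)) ^ 2 = 1 := by
    rw [← pow_mul, ← pow_succ, ← h, pow_orderOf_eq_one]
  have h2 : x ^ (2 ^ j) ≠ 1 := by
    intro h3
    have := orderOf_dvd_of_pow_eq_one h3
    rw [h] at this
    have := Nat.le_of_dvd (by positivity) this
    rw [pow_succ] at this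
    have : 0 < 2 ^ j := by positivity
    omega
  have h3 : (x ^ (2 ^ j) - 1) * (x ^ (2 ^ j) + 1) = 0 := by
    linear_combination h1
  rcases mul_eq_zero.mp h3 with h4 | h4
  · exact absurd (sub_eq_zero.mp h4) h2
  · exact eq_neg_of_add_eq_zero_left h4

lemma det_eq {F : Type*} [Field F] (m : ℕ) (μ c : F) :
    (c • Matrix.blockDiagonal (fun _ : Fin m => !![(0 : F), 1; μ, 0])).det
      = c ^ (2 * m) * (-μ) ^ m := by
  rw [Matrix.det_smul, Matrix.det_blockDiagonal, Fintype.card_prod, Fintype.card_fin,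
    Fintype.card_fin]
  simp [Matrix.det_fin_two_of]

theorem result {F : Type*} [Field F] [Fintype F] {q : ℕ} (hF : Fintype.card F = q) (hq : Odd q) {m : ℕ} (hm : 1 ≤ m) (μ : F) (hμ : orderOf μ = 2 ^ padicValNat 2 (q - 1)) : (∃ c : F, c ≠ 0 ∧ (c • Matrix.blockDiagonal (fun _ : Fin m => !![(0 : F), 1; μ, 0])).det = 1) ↔ (q % 4 = 3 ∨ padicValNat 2 (q - 1) < padicValNat 2 (2 * m)) := by
  classical
  simp_rw [det_eq m μ]
  have hq1 : 1 < q := hF ▸ Fintype.one_lt_card
  have hq0 : q - 1 ≠ 0 := by omega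
  have h2 : (2 : F) ≠ 0 := by
    apply Ring.two_ne_zero
    intro h
    have := FiniteField.even_card_iff_char_two.mp h
    rw [hF] at this
    rw [Nat.odd_iff] at hq
    omega
  have hneg : (-1 : F) ≠ 1 := by
    intro h
    apply h2
    linear_combination -h
  have hm0 : m ≠ 0 := by omega
  have hv : padicValNat 2 (2 * m) = padicValNat 2 m + 1 := by
    rw [padicValNat.mul (by norm_num) hm0, padicValNat_self, add_comm]
  rw [hv]
  set s := padicValNat 2 (q - 1) with hs
  set r := padicValNat 2 m with hr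
  have hs1 : 1 ≤ s := by
    rw [hs, ← padicValNat_dvd_iff_le hq0]
    rw [Nat.odd_iff] at hq
    omega
  obtain ⟨u, hu⟩ : 2 ^ r ∣ m := pow_padicValNat_dvd
  have huodd : Odd u := by
    rw [← Nat.not_even_iff_odd]
    rintro ⟨u', rfl⟩
    apply pow_succ_padicValNat_not_dvd (p := 2) hm0
    rw [← hr]
    exact ⟨u', by rw [hu]; ring⟩
  obtain ⟨t, ht⟩ : 2 ^ s ∣ q - 1 := pow_padicValNat_dvd
  have htodd : Odd t := by
    rw [← Nat.not_even_iff_odd]
    rintro ⟨t', rfl⟩
    apply pow_succ_padicValNat_not_dvd (p := 2) hq0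
    rw [← hs, ht]
    exact ⟨t', by ring⟩
  constructor
  · rintro ⟨c, hc, hdet⟩
    by_cases hq4 : q % 4 = 3
    · exact Or.inl hq4
    right
    have hq41 : q % 4 = 1 := by
      rw [Nat.odd_iff] at hq
      omega
    have hs2 : 2 ≤ s := by
      rw [hs, ← padicValNat_dvd_iff_le hq0]
      omega
    by_contra hlt
    push Not at hlt
    obtain ⟨k, hk⟩ : ∃ k, s = r + 1 + k := ⟨s - (r + 1), by omega⟩
    have hμ' : orderOf μ = 2 ^ (r + k + 1) := by
      rw [hμ, hk]; congr 1; ring
    have h1 := pow_two_pow_eq_neg_one μ (r + k) hμ'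
    have hev : Even (2 ^ (r + k)) := by
      have : r + k ≠ 0 := by omega
      exact (Nat.even_pow.mpr ⟨even_two, this⟩)
    have hν : (-μ) ^ (2 ^ (r + k)) = -1 := by
      rw [neg_pow, hev.neg_one_pow, one_mul, h1]
    have h3 : (c ^ (2 * m) * (-μ) ^ m) ^ (2 ^ k * t) = -1 := by
      rw [mul_pow, ← pow_mul, ← pow_mul]
      have e1 : 2 * m * (2 ^ k * t) = (Fintype.card F - 1) * u := by
        rw [hF, ht, hk, hu]; ring
      have e2 : m * (2 ^ k * t) = 2 ^ (r + k) * (u * t) := by
        rw [hu]; ring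
      rw [e1, e2, pow_mul, FiniteField.pow_card_sub_one_eq_one c hc, one_pow, one_mul, pow_mul,
        hν, (huodd.mul htodd).neg_one_pow]
    rw [hdet, one_pow] at h3
    exact hneg h3.symm
  · rintro (hq4 | hlt)
    · have hs' : s = 1 := by
        apply le_antisymm _ hs1
        by_contra hcon
        push Not at hcon
        have : 2 ^ 2 ∣ q - 1 := (padicValNat_dvd_iff_le hq0).mpr hcon
        omega
      rw [hs'] at hμ
      have := pow_two_pow_eq_neg_one μ 0 (by simpa using hμ)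
      simp only [pow_zero, pow_one] at this
      refine ⟨1, one_ne_zero, ?_⟩
      rw [this]
      simp
    · have hsr : s ≤ r := by omega
      obtain ⟨m', hm'⟩ : 2 ^ s ∣ m := (pow_dvd_pow 2 hsr).trans pow_padicValNat_dvd
      refine ⟨1, one_ne_zero, ?_⟩
      have hev : Even (2 ^ s) := by
        have : s ≠ 0 := by omega
        exact (Nat.even_pow.mpr ⟨even_two, this⟩)
      rw [one_pow, one_mul, hm', pow_mul, neg_pow, hev.neg_one_pow, one_mul, ← hμ,
        pow_orderOf_eq_one, one_pow]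

end Cfsg.Agent.S2576
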