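import Mathlib
import Cfsg.Statements.S2585
import Cfsg.Agent.Lib.Helper5.QuadStd
import Cfsg.Agent.Lib.Helper5.QuadWitt
import Cfsg.Agent.S2574

set_option autoImplicit false
open Cfsg

namespace Cfsg.Agent.S2585

open Module Matrix QuadraticMap Cfsg.Agent.Lib.Helper5

section
variable {F : Type*} [Field F] [CharP F 2] {m : ℕ}

/-- in characteristic two the polar form of `Σ x_i y_i` is the standard symplectic form -/
lemma polar_plus_eq_symp (u v : Fin m ⊕ Fin m → F) :
    polar (plusForm m F) u v = Cfsg.sympForm m F u v := by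
  rw [coe_plusForm, Cfsg.Agent.S2620.polar_eq, Matrix.toBilin'_apply']
  unfold Cfsg.sympForm
  congr 2
  unfold Matrix.J
  congr 1
  ext i j
  simp [CharTwo.neg_eq]

end

/-- Over a finite field of characteristic two every element of Sp_2m preserves some quadratic form whose polar form is the symplectic form (Sp_2m is the union of the conjugates of O⁺_2m and O⁻_2m). -/
theorem result {F : Type*} [Field F] [Fintype F] [CharP F 2] {m : ℕ} (A : Matrix.symplecticGroup (Fin m) F) : ∃ Q : QuadraticForm F (Fin m ⊕ Fin m → F), (∀ u v : Fin m ⊕ Fin m → F, QuadraticMap.polar ⇑Q u v = Cfsg.sympForm m F u v) ∧ ∀ v : Fin m ⊕ Fin m → F, Q ((A : Matrix (Fin m ⊕ Fin m) (Fin m ⊕ Fin m) F).mulVec v) = Q v := by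
  classical
  set M : Matrix (Fin m ⊕ Fin m) (Fin m ⊕ Fin m) F := (A : Matrix (Fin m ⊕ Fin m) (Fin m ⊕ Fin m) F)
    with hM
  set Q₀ := plusForm m F with hQ₀
  have hadd : ∀ a : F, a + a = 0 := CharTwo.add_self_eq_zero
  have hpolA : ∀ u v, polar Q₀ (M *ᵥ u) (M *ᵥ v) = polar Q₀ u v := by
    intro u v
    rw [polar_plus_eq_symp, polar_plus_eq_symp, Cfsg.Agent.S2574.symp_invariant M A.2]
  -- the defect
  let δ : (Fin m ⊕ Fin m → F) → F := fun v => Q₀ (M *ᵥ v) - Q₀ v
  have hδadd : ∀ u v, δ (u + v) = δ u + δ v := by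
    intro u v
    simp only [δ, Matrix.mulVec_add, quad_add, hpolA]
    ring
  have hδsmul : ∀ (c : F) v, δ (c • v) = c ^ 2 * δ v := by
    intro c v
    simp only [δ, Matrix.mulVec_smul, QuadraticMap.map_smul, smul_eq_mul]
    ring
  -- its square root is linear
  let sq := (frobeniusEquiv F 2).symm
  have hsq : ∀ x : F, sq x ^ 2 = x := fun x => frobeniusEquiv_symm_pow_p F 2 x
  have hsq' : ∀ x : F, sq (x ^ 2) = x := fun x => frobeniusEquiv_symm_pow F 2 x
  let ℓ : Module.Dual F (Fin m ⊕ Fin m → F) :=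
    { toFun := fun v => sq (δ v)
      map_add' := by
        intro u v
        simp only [hδadd, map_add]
      map_smul' := by
        intro c v
        simp only [hδsmul, map_mul, hsq', RingHom.id_apply, smul_eq_mul] }
  have hℓ : ∀ v, ℓ v ^ 2 = δ v := fun v => hsq (δ v)
  let T : (Fin m ⊕ Fin m → F) →ₗ[F] (Fin m ⊕ Fin m → F) := M.mulVecLin - LinearMap.id
  have hT : ∀ v, T v = M *ᵥ v - v := fun v => rfl
  have hmem : ℓ ∈ (LinearMap.ker T).dualAnnihilator := by
    rw [Submodule.mem_dualAnnihilator]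
    intro v hv
    have hv' : M *ᵥ v = v := by
      have := LinearMap.mem_ker.1 hv
      rw [hT] at this
      exact sub_eq_zero.1 this
    have : δ v = 0 := by simp only [δ, hv', sub_self]
    show sq (δ v) = 0
    rw [this, map_zero]
  rw [← LinearMap.range_dualMap_eq_dualAnnihilator_ker] at hmem
  obtain ⟨lam, hlam⟩ := hmem
  have hlam' : ∀ v, lam (M *ᵥ v) = lam v + ℓ v := by
    intro v
    have := congrArg (fun φ : Module.Dual F (Fin m ⊕ Fin m → F) => φ v) hlam
    simp only [LinearMap.dualMap_apply, hT, map_sub] at this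
    rw [← this]; ring
  refine ⟨Q₀ + QuadraticMap.linMulLin lam lam, ?_, ?_⟩
  · intro u v
    rw [← polar_plus_eq_symp]
    simp only [polar, _root_.add_apply, QuadraticMap.linMulLin_apply, map_add]
    have := hadd (lam u * lam v)
    linear_combination this
  · intro v
    simp only [_root_.add_apply, QuadraticMap.linMulLin_apply, hlam']
    have h1 : Q₀ (M *ᵥ v) = Q₀ v + ℓ v ^ 2 := by
      rw [hℓ]; simp only [δ]; ring
    rw [h1]
    have h2 := hadd (ℓ v ^ 2)
    have h3 := hadd (lam v * ℓ v)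
    linear_combination h2 + h3

end Cfsg.Agent.S2585
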