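import Mathlib
import Cfsg.Statements.S2594
import Cfsg.Agent.Lib.Helper5.SympFrames

set_option autoImplicit false
open Cfsg

namespace Cfsg.Agent.S2594

open Matrix Cfsg.Agent.Lib.Helper5.SympTv Cfsg.Agent.Lib.Helper5.SympGen
  Cfsg.Agent.Lib.Helper5.SympBridge Cfsg.Agent.Lib.Helper5.SympFrames

section
variable {F : Type*} [Field F] (m : ℕ)

attribute [local instance] frameAction

/-- a symplectic matrix `t` with `rank (t - 1) = 1` is a transvection `x ↦ x + c f(x, u) u` -/
theorem exists_transvection_form (t : symplecticGroup (Fin m) F)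
    (ht : ((t : Matrix (Fin m ⊕ Fin m) (Fin m ⊕ Fin m) F) - 1).rank = 1) :
    ∃ (u : Fin m ⊕ Fin m → F) (c : F), u ≠ 0 ∧ c ≠ 0 ∧
      ∀ x, (t : Matrix (Fin m ⊕ Fin m) (Fin m ⊕ Fin m) F) *ᵥ x = x + (c * sympForm m F x u) • u := by
  set N : Matrix (Fin m ⊕ Fin m) (Fin m ⊕ Fin m) F := t.1 - 1 with hN
  have hr : Module.finrank F (LinearMap.range N.mulVecLin) = 1 := ht
  rw [finrank_eq_one_iff'] at hr
  obtain ⟨⟨u, hu_mem⟩, hu0, hspan⟩ := hr
  have hu : u ≠ 0 := fun h => hu0 (Subtype.ext h)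
  have hx : ∀ x : Fin m ⊕ Fin m → F, ∃ c : F, N *ᵥ x = c • u := by
    intro x
    obtain ⟨c, hc⟩ := hspan ⟨N *ᵥ x, ⟨x, rfl⟩⟩
    exact ⟨c, (congrArg Subtype.val hc).symm⟩
  choose φ hφ using hx
  have htx : ∀ x, t.1 *ᵥ x = x + φ x • u := by
    intro x
    have : t.1 = 1 + N := by rw [hN]; abel
    rw [this, add_mulVec, one_mulVec, hφ]
  -- the key relation
  have hrel : ∀ x y, φ y * sympForm m F x u = φ x * sympForm m F y u := by
    intro x y
    have h1 := sympForm_mulVec m t.2 x y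
    rw [htx, htx, sympForm_add_left, sympForm_add_right, sympForm_add_right, sympForm_smul_left,
      sympForm_smul_left, sympForm_smul_right, sympForm_smul_right, sympForm_self,
      sympForm_swap m u y] at h1
    linear_combination h1
  -- `φ` is not identically zero
  obtain ⟨y₀, hy₀⟩ : ∃ y₀, φ y₀ ≠ 0 := by
    obtain ⟨y, hy⟩ := hu_mem
    refine ⟨y, fun h0 => hu ?_⟩
    have h2 : N *ᵥ y = u := hy
    rw [← h2, hφ, h0, zero_smul]
  -- some `x` with `f(x, u) ≠ 0`
  obtain ⟨x₀, hx₀⟩ : ∃ x₀, sympForm m F x₀ u ≠ 0 := by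
    by_contra hcon
    push Not at hcon
    apply hu
    apply eq_zero_of_sympForm_right m u
    intro v
    rw [sympForm_swap, hcon, neg_zero]
  have hκ : sympForm m F y₀ u ≠ 0 := by
    intro h0
    have := hrel x₀ y₀
    rw [h0, mul_zero] at this
    exact (mul_ne_zero hy₀ hx₀) this
  refine ⟨u, φ y₀ / sympForm m F y₀ u, hu, div_ne_zero hy₀ hκ, fun x => ?_⟩
  rw [htx]
  congr 2
  have := hrel x y₀
  rw [div_mul_eq_mul_div, eq_div_iff hκ]
  exact this.symm

theorem mem_centralizer_iff [CharP F 2] (t : symplecticGroup (Fin m) F) (u : Fin m ⊕ Fin m → F) (c : F)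
    (hu : u ≠ 0) (hc : c ≠ 0)
    (htx : ∀ x, (t : Matrix (Fin m ⊕ Fin m) (Fin m ⊕ Fin m) F) *ᵥ x = x + (c * sympForm m F x u) • u)
    (g : symplecticGroup (Fin m) F) :
    g ∈ Subgroup.centralizer ({t} : Set (symplecticGroup (Fin m) F)) ↔
      (g : Matrix (Fin m ⊕ Fin m) (Fin m ⊕ Fin m) F) *ᵥ u = u := by
  rw [Subgroup.mem_centralizer_singleton_iff]
  constructor
  · intro hcomm
    have hcomm' : ∀ x, g.1 *ᵥ (t.1 *ᵥ x) = t.1 *ᵥ (g.1 *ᵥ x) := by
      intro x
      rw [mulVec_mulVec, mulVec_mulVec]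
      have : g.1 * t.1 = t.1 * g.1 := congrArg Subtype.val hcomm
      rw [this]
    have hkey : ∀ x, sympForm m F x u • (g.1 *ᵥ u) = sympForm m F (g.1 *ᵥ x) u • u := by
      intro x
      have h1 := hcomm' x
      rw [htx, htx, mulVec_add, mulVec_smul, add_right_inj, mul_smul, mul_smul] at h1
      exact smul_right_injective _ hc h1
    obtain ⟨x₀, hx₀⟩ : ∃ x₀, sympForm m F x₀ u = 1 := by
      have : ∃ x₁, sympForm m F x₁ u ≠ 0 := by
        by_contra hcon
        push Not at hcon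
        apply hu
        apply eq_zero_of_sympForm_right m u
        intro v
        rw [sympForm_swap, hcon, neg_zero]
      obtain ⟨x₁, hx₁⟩ := this
      refine ⟨(sympForm m F x₁ u)⁻¹ • x₁, ?_⟩
      rw [sympForm_smul_left, inv_mul_cancel₀ hx₁]
    set lam := sympForm m F (g.1 *ᵥ x₀) u with hlam
    have hgu : g.1 *ᵥ u = lam • u := by
      have := hkey x₀
      rw [hx₀, one_smul] at this
      exact this
    have h2 : sympForm m F (g.1 *ᵥ x₀) (g.1 *ᵥ u) = 1 := by
      rw [sympForm_mulVec m g.2, hx₀]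
    rw [hgu, sympForm_smul_right, ← hlam] at h2
    have h3 : (lam - 1) * (lam - 1) = 0 := by
      have h4 : (2 : F) = 0 := CharTwo.two_eq_zero
      linear_combination h2 + (1 - lam) * h4
    have h5 : lam = 1 := by
      rcases mul_self_eq_zero.mp h3 with h
      exact sub_eq_zero.mp h
    rw [hgu, h5, one_smul]
  · intro hgu
    apply Subtype.ext
    show g.1 * t.1 = t.1 * g.1
    rw [Matrix.ext_iff_mulVec]
    intro x
    rw [← mulVec_mulVec, ← mulVec_mulVec, htx, htx, mulVec_add, mulVec_smul, hgu]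
    congr 3
    conv_rhs => rw [← hgu]
    rw [sympForm_mulVec m g.2]

end

/-- Over a finite field with q elements, q even, an element t of Sp_2m(F) with rank(t − 1) = 1 (a symplectic transvection) has centraliser in Sp_2m(F) of order q^(2m−1) · |Sp_(2m−2)(q)| = q^(2m−1) · q^((m−1)²) · Π_(i=1)^(m−1) (q^(2i) − 1). -/
theorem result {F : Type*} [Field F] [Fintype F] [CharP F 2] {q : ℕ} (hF : Fintype.card F = q) {m : ℕ} (hm : 1 ≤ m) (t : Matrix.symplecticGroup (Fin m) F) (ht : ((t : Matrix (Fin m ⊕ Fin m) (Fin m ⊕ Fin m) F) - 1).rank = 1) : Nat.card ↥(Subgroup.centralizer ({t} : Set ↥(Matrix.symplecticGroup (Fin m) F))) = q ^ (2 * m - 1) * (q ^ ((m - 1) ^ 2) * ∏ i : Fin (m - 1), (q ^ (2 * ((i : ℕ) + 1)) - 1)) := by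
  subst hF
  have hq : 2 ≤ Fintype.card F := Fintype.one_lt_card
  obtain ⟨u, c, hu, hc, htx⟩ := exists_transvection_form m t ht
  letI := frameAction (F := F) m 1
  have hs : IsIso m (fun _ : Fin 1 => u) :=
    ⟨linearIndependent_unique_iff.mpr hu, fun i j => sympForm_self m u⟩
  have hcard := card_eq_mul_card_stabilizer m 1 (fun _ : Fin 1 => u) hs
  have heq : Subgroup.centralizer ({t} : Set ↥(Matrix.symplecticGroup (Fin m) F)) =
      MulAction.stabilizer (symplecticGroup (Fin m) F) (fun _ : Fin 1 => u) := by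
    ext g
    rw [mem_centralizer_iff m t u c hu hc htx, MulAction.mem_stabilizer_iff]
    constructor
    · intro h; funext i; exact h
    · intro h; exact congrFun h 0
  rw [heq]
  rw [Cfsg.Agent.Lib.Helper5.SympCard.card_symplecticGroup] at hcard
  obtain ⟨n, rfl⟩ : ∃ n, m = n + 1 := ⟨m - 1, by omega⟩
  rw [Finset.prod_range_one, Finset.prod_range_succ, Nat.sub_zero, pow_zero] at hcard
  have hpos : 0 < Fintype.card F ^ (2 * (n + 1)) - 1 := by
    apply Nat.sub_pos_of_lt
    exact Nat.one_lt_pow (by omega) (by omega)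
  apply Nat.eq_of_mul_eq_mul_left hpos
  rw [← hcard, Nat.add_sub_cancel, Fin.prod_univ_eq_prod_range (fun i => Fintype.card F ^ (2 * (i + 1)) - 1) n]
  have e1 : (n + 1) ^ 2 = (2 * (n + 1) - 1) + n ^ 2 := by
    have : 2 * (n + 1) - 1 = 2 * n + 1 := by omega
    rw [this]; ring
  rw [e1, pow_add]
  ring

end Cfsg.Agent.S2594
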