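import Cfsg.Statements.S2599

set_option autoImplicit false
open Cfsg

namespace Cfsg.Agent.S2599

open Matrix

/-- For an isometry of order prime to p of a non-degenerate quadratic space over a finite field of characteristic p, an irreducible invariant subspace is non-degenerate or totally singular, or (p = 2) a fixed non-singular line. -/
theorem result {F : Type*} [Field F] [Fintype F] {p : ℕ} [Fact p.Prime] [CharP F p] {n : ℕ} (Q : QuadraticForm F (Fin n → F)) (hQ : (QuadraticMap.polarBilin Q).Nondegenerate) (x : ↥(Cfsg.isometryGroup F ⇑Q)) (hx : (orderOf x).Coprime p) (U : Submodule F (Fin n → F)) (hU0 : U ≠ ⊥) (hUx : ∀ u ∈ U, ((x : Matrix.GeneralLinearGroup (Fin n) F) : Matrix (Fin n) (Fin n) F).mulVec u ∈ U) (hirr : ∀ W : Submodule F (Fin n → F), W ≤ U → (∀ w ∈ W, ((x : Matrix.GeneralLinearGroup (Fin n) F) : Matrix (Fin n) (Fin n) F).mulVec w ∈ W) → W = ⊥ ∨ W = U) : U ⊓ LinearMap.BilinForm.orthogonal (QuadraticMap.polarBilin Q) U = ⊥ ∨ (∀ u ∈ U, Q u = 0) ∨ (p = 2 ∧ Module.finrank F U = 1 ∧ (∃ u ∈ U, Q u ≠ 0) ∧ ∀ u ∈ U, ((x : Matrix.GeneralLinearGroup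 (Fin n) F) : Matrix (Fin n) (Fin n) F).mulVec u = u) := by
  classical
  set M : Matrix (Fin n) (Fin n) F := ((x : Matrix.GeneralLinearGroup (Fin n) F) : Matrix (Fin n) (Fin n) F) with hM
  set B := QuadraticMap.polarBilin Q with hB
  -- x preserves Q and B
  have hQx : ∀ u, Q (M.mulVec u) = Q u := by
    intro u
    have := x.2 u u
    simpa [hM] using this
  have hBx : ∀ u v, B (M.mulVec u) (M.mulVec v) = B u v := by
    intro u v
    simp only [hB, QuadraticMap.polarBilin_apply_apply, QuadraticMap.polar]
    rw [← Matrix.mulVec_add, hQx, hQx, hQx]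
  -- the inverse matrix also preserves U
  have hMinv : ∀ u ∈ U, ∃ u' ∈ U, M.mulVec u' = u := by
    -- restriction of `M` to `U` is an injective endomorphism, hence surjective
    let f : U →ₗ[F] U := (Matrix.mulVecLin M).restrict hUx
    have hinj : Function.Injective f := by
      intro a b hab
      have h1 : M.mulVec (a : Fin n → F) = M.mulVec (b : Fin n → F) := congrArg Subtype.val hab
      have h2 : ((x⁻¹ : ↥(Cfsg.isometryGroup F ⇑Q)) : Matrix.GeneralLinearGroup (Fin n) F) * (x : Matrix.GeneralLinearGroup (Fin n) F) = 1 := by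
        rw [← Subgroup.coe_mul, inv_mul_cancel]; rfl
      have h3 : ((((x⁻¹ : ↥(Cfsg.isometryGroup F ⇑Q)) : Matrix.GeneralLinearGroup (Fin n) F)) : Matrix (Fin n) (Fin n) F) * M = 1 := by
        rw [hM, ← Units.val_mul, h2, Units.val_one]
      have h4 := congrArg (fun w => ((((x⁻¹ : ↥(Cfsg.isometryGroup F ⇑Q)) : Matrix.GeneralLinearGroup (Fin n) F)) : Matrix (Fin n) (Fin n) F).mulVec w) h1
      simp only [Matrix.mulVec_mulVec, h3, Matrix.one_mulVec] at h4
      exact Subtype.ext h4
    have hsurj : Function.Surjective f := LinearMap.surjective_of_injective hinj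
    intro u hu
    obtain ⟨u', hu'⟩ := hsurj ⟨u, hu⟩
    exact ⟨u', u'.2, congrArg Subtype.val hu'⟩
  -- the radical of U
  have hWinv : ∀ w ∈ U ⊓ LinearMap.BilinForm.orthogonal B U, M.mulVec w ∈ U ⊓ LinearMap.BilinForm.orthogonal B U := by
    rintro w ⟨hwU, hwO⟩
    refine ⟨hUx w hwU, ?_⟩
    rw [SetLike.mem_coe, LinearMap.BilinForm.mem_orthogonal_iff] at hwO ⊢
    intro u hu
    obtain ⟨u', hu', rfl⟩ := hMinv u hu
    rw [hBx]
    exact hwO u' hu'
  rcases hirr _ inf_le_left hWinv with h | h
  · exact Or.inl h
  · right
    -- B vanishes on U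
    have hBU : ∀ u ∈ U, ∀ v ∈ U, B u v = 0 := by
      intro u hu v hv
      have : v ∈ U ⊓ LinearMap.BilinForm.orthogonal B U := by rw [h]; exact hv
      exact (LinearMap.BilinForm.mem_orthogonal_iff.mp this.2) u hu
    have hadd : ∀ u ∈ U, ∀ v ∈ U, Q (u + v) = Q u + Q v := by
      intro u hu v hv
      have := hBU u hu v hv
      simp only [hB, QuadraticMap.polarBilin_apply_apply, QuadraticMap.polar] at this
      linear_combination this
    by_cases hp : p = 2
    · -- characteristic two
      subst hp
      have h2 : (2 : F) = 0 := by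
        have := CharP.cast_eq_zero F 2
        exact_mod_cast this
      -- the singular vectors of U form an invariant subspace
      let W : Submodule F (Fin n → F) :=
        { carrier := {u | u ∈ U ∧ Q u = 0}
          add_mem' := by
            rintro u v ⟨hu, hu0⟩ ⟨hv, hv0⟩
            exact ⟨U.add_mem hu hv, by rw [hadd u hu v hv, hu0, hv0, add_zero]⟩
          zero_mem' := ⟨U.zero_mem, by simp⟩
          smul_mem' := by
            rintro c u ⟨hu, hu0⟩
            exact ⟨U.smul_mem c hu, by rw [QuadraticMap.map_smul, hu0, smul_zero]⟩ }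
      have hWU : W ≤ U := fun u hu => hu.1
      have hWx : ∀ w ∈ W, M.mulVec w ∈ W := by
        rintro w ⟨hw, hw0⟩
        exact ⟨hUx w hw, by rw [hQx, hw0]⟩
      rcases hirr W hWU hWx with hW | hW
      · right
        have hQinj : ∀ u ∈ U, Q u = 0 → u = 0 := by
          intro u hu hu0
          have : u ∈ W := ⟨hu, hu0⟩
          rw [hW] at this
          exact (Submodule.mem_bot F).mp this
        -- a nonzero vector
        obtain ⟨u₀, hu₀, hu₀ne⟩ := (Submodule.ne_bot_iff U).mp hU0
        have hα : Q u₀ ≠ 0 := fun h0 => hu₀ne (hQinj u₀ hu₀ h0)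
        have hchar : ringChar F = 2 := by
          have := ringChar.eq F 2
          exact this
        refine ⟨rfl, ?_, ⟨u₀, hu₀, hα⟩, ?_⟩
        · rw [finrank_eq_one_iff']
          refine ⟨⟨u₀, hu₀⟩, fun h0 => hu₀ne (congrArg Subtype.val h0), ?_⟩
          rintro ⟨u, hu⟩
          obtain ⟨γ, hγ⟩ := FiniteField.isSquare_of_char_two hchar (Q u / Q u₀)
          refine ⟨γ, Subtype.ext ?_⟩
          show γ • u₀ = u
          have hmem : u + γ • u₀ ∈ U := U.add_mem hu (U.smul_mem γ hu₀)
          have hzero : Q (u + γ • u₀) = 0 := by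
            rw [hadd u hu _ (U.smul_mem γ hu₀), QuadraticMap.map_smul, smul_eq_mul]
            have : γ * γ * Q u₀ = Q u := by
              rw [← hγ]; field_simp
            rw [this]
            have : Q u + Q u = 2 * Q u := by ring
            rw [this, h2, zero_mul]
          have := hQinj _ hmem hzero
          have h3 : γ • u₀ = -u := by
            rw [eq_neg_iff_add_eq_zero, add_comm]; exact this
          have hneg : -u = u := by
            have : u + u = 0 := by
              have : u + u = (2 : F) • u := by rw [two_smul]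
              rw [this, h2, zero_smul]
            exact neg_eq_of_add_eq_zero_left this
          rw [h3, hneg]
        · intro u hu
          have hmem : M.mulVec u + u ∈ U := U.add_mem (hUx u hu) hu
          have hzero : Q (M.mulVec u + u) = 0 := by
            rw [hadd _ (hUx u hu) u hu, hQx]
            have : Q u + Q u = 2 * Q u := by ring
            rw [this, h2, zero_mul]
          have := hQinj _ hmem hzero
          have hneg : -u = u := by
            have : u + u = 0 := by
              have : u + u = (2 : F) • u := by rw [two_smul]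
              rw [this, h2, zero_smul]
            exact neg_eq_of_add_eq_zero_left this
          calc M.mulVec u = -u := eq_neg_of_add_eq_zero_left this
            _ = u := hneg
      · left
        intro u hu
        have : u ∈ W := by rw [hW]; exact hu
        exact this.2
    · left
      intro u hu
      have h2 : (2 : F) ≠ 0 := by
        intro h
        have : (p : ℕ) ∣ 2 := by
          rw [← CharP.cast_eq_zero_iff F p]
          exact_mod_cast h
        have hp' : p = 2 := by
          have hpp : p.Prime := Fact.out
          exact (Nat.prime_dvd_prime_iff_eq hpp Nat.prime_two).mp this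
        exact hp hp'
      have h4 := hBU u hu u hu
      simp only [hB, QuadraticMap.polarBilin_apply_apply, QuadraticMap.polar] at h4
      have h5 : Q (u + u) = 4 * Q u := by
        have : u + u = (2 : F) • u := by rw [two_smul]
        rw [this, QuadraticMap.map_smul]; ring
      rw [h5] at h4
      have : 2 * Q u = 0 := by linear_combination h4
      exact (mul_eq_zero.mp this).resolve_left h2

end Cfsg.Agent.S2599
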