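import Mathlib
import Cfsg.Statements.S2610
import Cfsg.Agent.Lib.Helper5.SpinorDiag

set_option autoImplicit false
open Cfsg

namespace Cfsg.Agent.S2610

open Matrix QuadraticMap Cfsg.Agent.Lib.Helper5 Cfsg.Agent.Lib.Helper5.SpinorNorm
  Cfsg.Agent.Lib.Helper5.SpinorDiag

/-- the discriminant is a square iff the product of the norms of an orthogonal basis is -/
theorem disc_iff {F : Type*} [Field F] (h2 : (2 : F) ≠ 0) {n : ℕ} (he : Even n)
    (Q : QuadraticForm F (Fin n → F)) (b : Module.Basis (Fin n) F (Fin n → F))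
    (horth : ∀ i j, i ≠ j → polar ⇑Q (b i) (b j) = 0) :
    IsSquare (Matrix.of (fun i j : Fin n => polar ⇑Q (Pi.single i 1) (Pi.single j 1))).det ↔
      IsSquare ((List.ofFn b).map Q).prod := by
  obtain ⟨d, hd, hdet⟩ := gram_det_basis (polarBilin Q) b
  have h1 : (Matrix.of (fun i j : Fin n => polar ⇑Q (Pi.single i 1) (Pi.single j 1))) =
      LinearMap.BilinForm.toMatrix' (polarBilin Q) := by
    ext i j
    rw [LinearMap.BilinForm.toMatrix'_apply]
    rfl
  have h3 : (Matrix.of (fun i j : Fin n => polarBilin Q (b i) (b j))) =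
      Matrix.diagonal (fun i => 2 * Q (b i)) := by
    ext i j
    rw [Matrix.of_apply, polarBilin_apply_apply, Matrix.diagonal_apply]
    split_ifs with hij
    · subst hij
      rw [polar_self]; simp [two_mul, two_smul]
    · exact horth i j hij
  rw [h3, Matrix.det_diagonal, Finset.prod_mul_distrib, Finset.prod_const, Finset.card_univ,
    Fintype.card_fin] at hdet
  rw [h1, ← isSquare_mul_sq_iff d _ hd, ← hdet, List.map_ofFn, List.prod_ofFn]
  obtain ⟨k, rfl⟩ := he
  have h4 : (2 : F) ^ (k + k) = 2 ^ k * 2 ^ k := pow_add _ _ _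
  rw [h4]
  exact isSquare_mul_sq_iff (2 ^ k) _ (pow_ne_zero _ h2)

/-- For a quadratic form Q on F^n with non-degenerate polar form, F finite of odd order and n ≥ 2 even, the isometry −1 lies in Ω (the commutator subgroup of the orthogonal group) if and only if the discriminant of Q (the determinant of the Gram matrix of its polar form) is a square. -/
theorem result {F : Type*} [Field F] [Fintype F] (h2 : (2 : F) ≠ 0) {n : ℕ} (hn : 2 ≤ n) (he : Even n) (Q : QuadraticForm F (Fin n → F)) (hQ : (QuadraticMap.polarBilin Q).Nondegenerate) : (∃ g : ↥(Cfsg.isometryGroup F ⇑Q), g ∈ Cfsg.Omega F ⇑Q ∧ ((g : Matrix.GeneralLinearGroup (Fin n) F) : Matrix (Fin n) (Fin n) F) = -1) ↔ IsSquare (Matrix.of (fun i j : Fin n => QuadraticMap.polar ⇑Q (Pi.single i 1) (Pi.single j 1))).det := by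
  have hcard : 2 ≤ Fintype.card (Fin n) := by rw [Fintype.card_fin]; exact hn
  obtain ⟨k, rfl⟩ : ∃ k, n = k + 1 := ⟨n - 1, by omega⟩
  have hQ' : ∀ z : Fin (k + 1) → F, (∀ z', polar ⇑Q z z' = 0) → z = 0 := fun z hz => hQ.1 z hz
  obtain ⟨b, horth, -⟩ := exists_diag_basis h2 k Q hQ' (by rw [Module.finrank_fintype_fun_eq_card, Fintype.card_fin])
  have hrep : IsRep Q (negOne Q) (List.ofFn b) := by
    refine ⟨?_, ?_⟩
    · intro v hv
      obtain ⟨j, rfl⟩ := (List.mem_ofFn' _ _).mp hv
      exact quad_ne_zero_of_orth_basis Q hQ b horth j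
    · rw [rprod_orth_basis Q hQ b horth]
      rfl
  have hmem := mem_commutator_iff Q h2 hQ hcard (negOne Q) _ hrep
  rw [List.length_ofFn] at hmem
  rw [disc_iff h2 he Q b horth]
  constructor
  · rintro ⟨g, hg, hg1⟩
    have : g = negOne Q := by
      apply Subtype.ext
      apply Units.ext
      rw [hg1]; rfl
    rw [this] at hg
    exact (hmem.mp hg).2
  · intro h
    exact ⟨negOne Q, hmem.mpr ⟨he, h⟩, rfl⟩

end Cfsg.Agent.S2610
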