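import Mathlib
import Cfsg.Statements.S2612
import Cfsg.Agent.Lib.Helper5.PlusLevi

set_option autoImplicit false
open Cfsg

namespace Cfsg.Agent.S2612

open Matrix Cfsg.Agent.Lib.Helper5 Cfsg.Agent.Lib.Helper5.PlusLevi
  Cfsg.Agent.Lib.Helper5.CartanDieudonne Cfsg.Agent.Lib.Helper5.PlusGeom

/-- For the hyperbolic quadratic form Σ x_i y_i on F^(2m) (F finite, m ≥ 1, excluding m = 2 over the field of two elements), Ω⁺_2m(F) (the commutator subgroup of the orthogonal group) contains an element interchanging the two complementary maximal totally singular subspaces {y = 0} and {x = 0} if and only if m is even (dimension divisible by 4). -/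
theorem result {F : Type*} [Field F] [Fintype F] {m : ℕ} (hm : 1 ≤ m) (h : Fintype.card F ≠ 2 ∨ m ≠ 2) : (∃ g : ↥(Cfsg.isometryGroup F (Cfsg.quadFormPlus m F)), g ∈ Cfsg.Omega F (Cfsg.quadFormPlus m F) ∧ (∀ v : Fin m ⊕ Fin m → F, (∀ i, v (Sum.inr i) = 0) → ∀ i, (((g : Matrix.GeneralLinearGroup (Fin m ⊕ Fin m) F) : Matrix (Fin m ⊕ Fin m) (Fin m ⊕ Fin m) F).mulVec v) (Sum.inl i) = 0) ∧ (∀ v : Fin m ⊕ Fin m → F, (∀ i, v (Sum.inl i) = 0) → ∀ i, (((g : Matrix.GeneralLinearGroup (Fin m ⊕ Fin m) F) : Matrix (Fin m ⊕ Fin m) (Fin m ⊕ Fin m) F).mulVec v) (Sum.inr i) = 0)) ↔ Even m := by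
  rw [← coe_plusForm]
  constructor
  · rintro ⟨g, hg, h1, h2⟩
    set M := ((g : Matrix.GeneralLinearGroup (Fin m ⊕ Fin m) F) : Matrix (Fin m ⊕ Fin m) (Fin m ⊕ Fin m) F)
      with hM
    have h11 : M.toBlocks₁₁ = 0 := by
      ext i j
      have := h1 (Pi.single (Sum.inl j) 1) (by intro k; simp) i
      rw [mulVec_single_one] at this
      exact this
    have h22 : M.toBlocks₂₂ = 0 := by
      ext i j
      have := h2 (Pi.single (Sum.inr j) 1) (by intro k; simp) i
      rw [mulVec_single_one] at this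
      exact this
    have hMb : M = fromBlocks 0 M.toBlocks₁₂ M.toBlocks₂₁ 0 := by
      conv_lhs => rw [← fromBlocks_toBlocks M, h11, h22]
    have hwg : (((wswap * g : ↥(isometryGroup F ⇑(plusForm m F))) :
        Matrix.GeneralLinearGroup (Fin m ⊕ Fin m) F) : Matrix (Fin m ⊕ Fin m) (Fin m ⊕ Fin m) F) =
        fromBlocks M.toBlocks₂₁ 0 0 M.toBlocks₁₂ := by
      show fromBlocks (0 : Matrix (Fin m) (Fin m) F) 1 1 0 * M = _
      rw [hMb, fromBlocks_multiply]
      simp
    obtain ⟨A, hA⟩ := eq_levi_of_blocks (wswap * g) _ _ hwg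
    have hp1 := par_levi hm h A
    rw [← hA, map_mul, par_wswap h] at hp1
    have hp2 : Dickson.par (plusForm m F) (plus_nondegenerate m) (hex_of h) g = 1 := by
      have := Abelianization.commutator_subset_ker
        (Dickson.par (plusForm m F) (plus_nondegenerate m) (hex_of h)) hg
      exact this
    rw [hp2, mul_one] at hp1
    exact (SpinorNorm.neg_one_pow_eq_one_iff m).mp hp1
  · intro heven
    refine ⟨wswap, wswap_mem heven, ?_, ?_⟩
    · intro v hv i
      have := act_wswap v (Sum.inl i)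
      unfold act at this
      rw [this]
      exact hv i
    · intro v hv i
      have := act_wswap v (Sum.inr i)
      unfold act at this
      rw [this]
      exact hv i

end Cfsg.Agent.S2612
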