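import Mathlib
import Cfsg.Statements.S2614
import Cfsg.Agent.Lib.Helper5.SpinorHyp2

set_option autoImplicit false
open Cfsg

namespace Cfsg.Agent.S2614

open Matrix QuadraticMap Cfsg.Agent.Lib.Helper5 Cfsg.Agent.Lib.Helper5.SpinorNorm
  Cfsg.Agent.Lib.Helper5.SpinorHyp Cfsg.Agent.Lib.Helper5.SpinorHyp2

/-- core statement, for the bundled form -/
theorem core {F : Type*} [Field F] [Fintype F] {q : ℕ} (hF : Fintype.card F = q) (hq : Odd q)
    {m : ℕ} (i : ℕ) (hi : 1 ≤ i) (him : i ≤ m) :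
    (∃ g : ↥(Cfsg.isometryGroup F ⇑(oddForm m F)),
      g ∈ commutator ↥(Cfsg.isometryGroup F ⇑(oddForm m F)) ∧
      ((g : Matrix.GeneralLinearGroup (Unit ⊕ (Fin m ⊕ Fin m)) F) :
        Matrix (Unit ⊕ (Fin m ⊕ Fin m)) (Unit ⊕ (Fin m ⊕ Fin m)) F) =
        Matrix.diagonal (fun k : Unit ⊕ (Fin m ⊕ Fin m) => if (Sum.elim (fun _ : Unit => i)
          (Sum.elim (fun j : Fin m => (j : ℕ)) (fun j : Fin m => (j : ℕ))) k) < i
          then (-1 : F) else 1)) ↔ q ^ i % 4 = 1 := by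
  have h2 : (2 : F) ≠ 0 := two_ne_zero_of_odd_card (by rw [hF]; exact hq)
  apply hyp_involution_iff hF hq (oddForm_nondegenerate h2 m)
    (by simp only [Fintype.card_sum, Fintype.card_fin, Fintype.card_unique]; omega)
    (oddForm_hypFamily him)
  · intro t
    simp
  · intro t
    simp
  · intro k h1 h3
    rcases k with ⟨⟩ | j | j
    · simp
    · have : ¬ (j : ℕ) < i := by
        intro hlt
        exact h1 ⟨j, hlt⟩ (by simp [Fin.castLE])
      simp [this]
    · have : ¬ (j : ℕ) < i := by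
        intro hlt
        exact h3 ⟨j, hlt⟩ (by simp [Fin.castLE])
      simp [this]

/-- For the form x_0² + Σ x_j y_j on F^(2m+1), F finite with q elements, q odd, and 1 ≤ i ≤ m: the involution of determinant one negating the first i hyperbolic pairs (and fixing x_0 and the other pairs) lies in Ω_(2m+1)(q) (commutator subgroup of the orthogonal group) if and only if q^i ≡ 1 (mod 4); its (−1)-eigenspace is a hyperbolic 2i-space. -/
theorem result {F : Type*} [Field F] [Fintype F] {q : ℕ} (hF : Fintype.card F = q) (hq : Odd q) {m : ℕ} (i : ℕ) (hi : 1 ≤ i) (him : i ≤ m) : (∃ g : ↥(Cfsg.isometryGroup F (Cfsg.quadFormOdd m F)), g ∈ Cfsg.Omega F (Cfsg.quadFormOdd m F) ∧ ((g : Matrix.GeneralLinearGroup (Unit ⊕ (Fin m ⊕ Fin m)) F) : Matrix (Unit ⊕ (Fin m ⊕ Fin m)) (Unit ⊕ (Fin m ⊕ Fin m)) F) = Matrix.diagonal (fun k : Unit ⊕ (Fin m ⊕ Fin m) => if (Sum.elim (fun _ : Unit => i) (Sum.elim (fun j : Fin m => (j : ℕ)) (fun j : Fin m => (j : ℕ))) k) <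 i then (-1 : F) else 1)) ↔ q ^ i % 4 = 1 := by
  have := core hF hq i hi him
  rw [coe_oddForm] at this
  exact this

end Cfsg.Agent.S2614
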