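import Mathlib
import Cfsg.Statements.S2624
import Cfsg.Agent.S2616
import Cfsg.Agent.S2619

set_option autoImplicit false
open Cfsg

namespace Cfsg.Agent.S2624

open Module QuadraticMap Cfsg.Agent.Lib.Helper5

/-- a linear map scaling `Q` and its polar form by `c` on a basis is a similitude -/
theorem similitude_of_basis {F V ι : Type*} [Field F] [AddCommGroup V] [Module F V] [Fintype ι]
    (b : Module.Basis ι F V) (Q : QuadraticForm F V) (g : V →ₗ[F] V) (c : F)
    (h1 : ∀ i, Q (g (b i)) = c * Q (b i))
    (h2 : ∀ i j, polar Q (g (b i)) (g (b j)) = c * polar Q (b i) (b j)) :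
    ∀ v, Q (g v) = c * Q v := by
  have : Q.comp g = c • Q := by
    apply Cfsg.Agent.S2619.unique_aux b
    · apply LinearMap.ext_basis b b
      intro i j
      simp only [polarBilin_apply_apply]
      have : polar (Q.comp g) (b i) (b j) = polar Q (g (b i)) (g (b j)) := by
        simp [polar, QuadraticMap.comp_apply]
      rw [this, h2]
      simp [polar, mul_sub, mul_add]
    · intro i
      simp [h1]
  intro v
  have := congrArg (fun q : QuadraticForm F V => q v) this
  simpa using this

/-- a similitude with nonzero multiplier of a nondegenerate form is injective -/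
theorem injective_of_similitude {F V : Type*} [Field F] [AddCommGroup V] [Module F V]
    (Q : QuadraticForm F V) (hQ : ∀ z : V, (∀ z', polar Q z z' = 0) → z = 0)
    (g : V →ₗ[F] V) (c : F) (hc : c ≠ 0) (hg : ∀ v, Q (g v) = c * Q v) :
    Function.Injective g := by
  rw [← LinearMap.ker_eq_bot, LinearMap.ker_eq_bot']
  intro v hv
  apply hQ
  intro u
  have h1 : polar Q (g v) (g u) = c * polar Q v u := by
    simp only [polar, ← map_add, hg]
    ring
  rw [hv] at h1
  simp only [polar_zero_left] at h1
  exact (mul_eq_zero.1 h1.symm).resolve_left hc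

/-- a binary form `s² + st + ζt²` without nontrivial zero represents every nonzero scalar -/
theorem exists_norm_eq {F : Type*} [Field F] [Finite F] (ζ : F) (hirr : ∀ t : F, t ^ 2 + t + ζ ≠ 0)
    (c : F) (hc : c ≠ 0) : ∃ a β : F, a ^ 2 + a * β + ζ * β ^ 2 = c := by
  let Q₃ : QuadraticForm F (Fin 3 → F) :=
    QuadraticMap.proj 0 0 + QuadraticMap.proj 0 1 + ζ • QuadraticMap.proj 1 1 -
      c • QuadraticMap.proj 2 2
  have hQ₃ : ∀ w : Fin 3 → F, Q₃ w = w 0 * w 0 + w 0 * w 1 + ζ * (w 1 * w 1) - c * (w 2 * w 2) := by
    intro w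
    simp [Q₃]
  obtain ⟨w, hw0, hw⟩ := exists_singular Q₃ (by rw [Module.finrank_fin_fun])
  rw [hQ₃] at hw
  have hw2 : w 2 ≠ 0 := by
    intro h2
    rw [h2] at hw
    have hw1 : w 1 = 0 := by
      by_contra h1
      apply hirr (w 0 / w 1)
      field_simp
      linear_combination hw
    rw [hw1] at hw
    have hw0' : w 0 = 0 := by
      have : w 0 * w 0 = 0 := by linear_combination hw
      exact mul_self_eq_zero.1 this
    apply hw0
    funext i
    fin_cases i <;> simp [hw0', hw1, h2]
  refine ⟨w 0 / w 2, w 1 / w 2, ?_⟩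
  field_simp
  linear_combination hw

/-- For a non-degenerate quadratic form in even dimension over a finite field, every non-zero scalar is the multiplier of some similarity. -/
theorem result {F : Type*} [Field F] [Fintype F] {n : ℕ} (hn : 2 ≤ n) (he : Even n) (Q : QuadraticForm F (Fin n → F)) (hQ : (QuadraticMap.polarBilin Q).Nondegenerate) (c : F) (hc : c ≠ 0) : ∃ g : (Fin n → F) ≃ₗ[F] (Fin n → F), ∀ v, Q (g v) = c * Q v := by
  classical
  obtain ⟨r, hr⟩ := he
  obtain ⟨k, rfl⟩ : ∃ k, r = k + 1 := ⟨r - 1, by omega⟩
  have hV : finrank F (Fin n → F) = 2 * (k + 1) := by rw [Module.finrank_fin_fun]; omega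
  have hQ' : ∀ z, (∀ z', polar Q z z' = 0) → z = 0 := fun z hz => hQ.1 z hz
  suffices h : ∃ g : (Fin n → F) →ₗ[F] (Fin n → F), ∀ v, Q (g v) = c * Q v by
    obtain ⟨g, hg⟩ := h
    have hinj := injective_of_similitude Q hQ' g c hc hg
    exact ⟨LinearEquiv.ofInjectiveEndo g hinj, fun v => by simpa using hg v⟩
  rcases Cfsg.Agent.S2616.main k hV Q hQ with ⟨b, h1, h2, h3⟩ |
    ⟨b, ζ, hirr, h1, h2, h3, h4, hx, hxy, hy⟩
  · -- hyperbolic
    let G : Fin (k + 1) ⊕ Fin (k + 1) → (Fin n → F) :=
      Sum.elim (fun i => c • b (Sum.inl i)) (fun i => b (Sum.inr i))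
    have pfe : ∀ i j, polar Q (b (Sum.inr i)) (b (Sum.inl j)) = if j = i then 1 else 0 := by
      intro i j; rw [polar_comm, h2]
    refine ⟨b.constr F G, similitude_of_basis b Q _ c ?_ ?_⟩
    · intro i
      rw [Basis.constr_basis]
      rcases i with i | i
      · simp [G, QuadraticMap.map_smul, (h1 i).1]
      · simp [G, (h1 i).2]
    · intro i j
      rw [Basis.constr_basis, Basis.constr_basis]
      rcases i with i | i <;> rcases j with j | j
      · simp [G, polar_smul_left, polar_smul_right, (h3 i j).1]
      · simp [G, polar_smul_left, h2]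
      · simp [G, polar_smul_right, pfe]
      · simp [G, (h3 i j).2]
  · -- elliptic
    obtain ⟨a, β, hab⟩ := exists_norm_eq ζ hirr c hc
    set x := b (Sum.inr 0) with hxdef
    set y := b (Sum.inr 1) with hydef
    let G : (Fin k ⊕ Fin k) ⊕ Fin 2 → (Fin n → F) :=
      Sum.elim (Sum.elim (fun i => c • b (Sum.inl (Sum.inl i))) (fun i => b (Sum.inl (Sum.inr i))))
        ![a • x + β • y, (-(ζ * β)) • x + (a + β) • y]
    have pfe : ∀ i j, polar Q (b (Sum.inl (Sum.inr i))) (b (Sum.inl (Sum.inl j))) =
        if j = i then 1 else 0 := by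
      intro i j; rw [polar_comm, h2]
    have pex : ∀ i, polar Q (b (Sum.inl (Sum.inl i))) x = 0 := fun i => (h4 i 0).1
    have pey : ∀ i, polar Q (b (Sum.inl (Sum.inl i))) y = 0 := fun i => (h4 i 1).1
    have pfx : ∀ i, polar Q (b (Sum.inl (Sum.inr i))) x = 0 := fun i => (h4 i 0).2
    have pfy : ∀ i, polar Q (b (Sum.inl (Sum.inr i))) y = 0 := fun i => (h4 i 1).2
    have pxe : ∀ i, polar Q x (b (Sum.inl (Sum.inl i))) = 0 := fun i => by rw [polar_comm, pex]
    have pye : ∀ i, polar Q y (b (Sum.inl (Sum.inl i))) = 0 := fun i => by rw [polar_comm, pey]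
    have pxf : ∀ i, polar Q x (b (Sum.inl (Sum.inr i))) = 0 := fun i => by rw [polar_comm, pfx]
    have pyf : ∀ i, polar Q y (b (Sum.inl (Sum.inr i))) = 0 := fun i => by rw [polar_comm, pfy]
    have pxx : polar Q x x = 2 := by rw [polar_self, hx]; simp
    have pyy : polar Q y y = 2 * ζ := by rw [polar_self, hy]; simp
    have pyx : polar Q y x = 1 := by rw [polar_comm, hxy]
    have hQgx : Q (a • x + β • y) = c := by
      rw [quad_add, QuadraticMap.map_smul, QuadraticMap.map_smul, polar_smul_left,
        polar_smul_right, hx, hy, hxy]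
      simp only [smul_eq_mul]
      linear_combination hab
    have hQgy : Q ((-(ζ * β)) • x + (a + β) • y) = c * ζ := by
      rw [quad_add, QuadraticMap.map_smul, QuadraticMap.map_smul, polar_smul_left,
        polar_smul_right, hx, hy, hxy]
      simp only [smul_eq_mul]
      linear_combination ζ * hab
    refine ⟨b.constr F G, similitude_of_basis b Q _ c ?_ ?_⟩
    · intro i
      rw [Basis.constr_basis]
      rcases i with (i | i) | i
      · simp [G, QuadraticMap.map_smul, (h1 i).1]
      · simp [G, (h1 i).2]
      · fin_cases i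
        · simp only [G, Sum.elim_inr, Fin.zero_eta, Matrix.cons_val_zero]
          rw [hQgx, ← hxdef, hx, mul_one]
        · simp only [G, Sum.elim_inr, Fin.mk_one, Matrix.cons_val_one, Matrix.cons_val_zero]
          rw [hQgy, ← hydef, hy]
    · intro i j
      rw [Basis.constr_basis, Basis.constr_basis]
      rcases i with (i | i) | i <;> rcases j with (j | j) | j
      · simp [G, polar_smul_left, polar_smul_right, (h3 i j).1]
      · simp [G, polar_smul_left, h2]
      · fin_cases j
        · simp [G, polar_smul_left, polar_smul_right, polar_add_right, pex, pey, ← hxdef, ← hydef]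
        · simp [G, polar_smul_left, polar_smul_right, polar_add_right, pex, pey, ← hxdef, ← hydef]
      · simp [G, polar_smul_right, pfe]
      · simp [G, (h3 i j).2]
      · fin_cases j
        · simp [G, polar_smul_right, polar_add_right, pfx, pfy, ← hxdef, ← hydef]
        · simp [G, polar_smul_right, polar_add_right, pfx, pfy, ← hxdef, ← hydef]
      · fin_cases i
        · simp [G, polar_smul_left, polar_smul_right, polar_add_left, pxe, pye, ← hxdef, ← hydef]
        · simp [G, polar_smul_left, polar_smul_right, polar_add_left, pxe, pye, ← hxdef, ← hydef]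
      · fin_cases i
        · simp [G, polar_smul_left, polar_add_left, pxf, pyf, ← hxdef, ← hydef]
        · simp [G, polar_smul_left, polar_add_left, pxf, pyf, ← hxdef, ← hydef]
      · fin_cases i <;> fin_cases j
        · simp only [G, Sum.elim_inr, Fin.zero_eta, Matrix.cons_val_zero, ← hxdef]
          rw [polar_self, hQgx, pxx]; simp; ring
        · simp only [G, Sum.elim_inr, Fin.zero_eta, Fin.mk_one, Matrix.cons_val_zero,
            Matrix.cons_val_one, ← hxdef, ← hydef]
          simp only [polar_add_left, polar_add_right, polar_smul_left, polar_smul_right, pxx, pyy,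
            hxy, pyx, smul_eq_mul]
          linear_combination hab
        · simp only [G, Sum.elim_inr, Fin.zero_eta, Fin.mk_one, Matrix.cons_val_zero,
            Matrix.cons_val_one, ← hxdef, ← hydef]
          simp only [polar_add_left, polar_add_right, polar_smul_left, polar_smul_right, pxx, pyy,
            hxy, pyx, smul_eq_mul]
          linear_combination hab
        · simp only [G, Sum.elim_inr, Fin.mk_one, Matrix.cons_val_one, Matrix.cons_val_zero,
            ← hydef]
          rw [polar_self, hQgy, pyy]; simp; ring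

end Cfsg.Agent.S2624
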