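import Cfsg.Statements.S2626

set_option autoImplicit false
open Cfsg

namespace Cfsg.Agent.S2626

open Matrix

variable {F : Type*} [Field F] {k l : ℕ}

/-- the sum form -/
def sumForm (Q₁ : (Fin k → F) → F) (Q₂ : (Fin l → F) → F) : (Fin k ⊕ Fin l → F) → F :=
  fun v => Q₁ (v ∘ Sum.inl) + Q₂ (v ∘ Sum.inr)

theorem fromBlocks_mulVec_inl (A : Matrix (Fin k) (Fin k) F) (B : Matrix (Fin l) (Fin l) F)
    (v : Fin k ⊕ Fin l → F) :
    ((Matrix.fromBlocks A 0 0 B) *ᵥ v) ∘ Sum.inl = A *ᵥ (v ∘ Sum.inl) := by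
  ext i
  simp [Matrix.mulVec, dotProduct, Fintype.sum_sum_type]

theorem fromBlocks_mulVec_inr (A : Matrix (Fin k) (Fin k) F) (B : Matrix (Fin l) (Fin l) F)
    (v : Fin k ⊕ Fin l → F) :
    ((Matrix.fromBlocks A 0 0 B) *ᵥ v) ∘ Sum.inr = B *ᵥ (v ∘ Sum.inr) := by
  ext i
  simp [Matrix.mulVec, dotProduct, Fintype.sum_sum_type]

/-- block diagonal embedding of GL × GL into GL of the sum -/
def blockGL : GL (Fin k) F × GL (Fin l) F →* GL (Fin k ⊕ Fin l) F where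
  toFun p := ⟨Matrix.fromBlocks (p.1 : Matrix (Fin k) (Fin k) F) 0 0 (p.2 : Matrix (Fin l) (Fin l) F),
    Matrix.fromBlocks ((p.1⁻¹ : GL (Fin k) F) : Matrix (Fin k) (Fin k) F) 0 0 ((p.2⁻¹ : GL (Fin l) F) : Matrix (Fin l) (Fin l) F),
    by
      rw [Matrix.fromBlocks_multiply]
      simp [Matrix.fromBlocks_one],
    by
      rw [Matrix.fromBlocks_multiply]
      simp [Matrix.fromBlocks_one]⟩
  map_one' := by
    apply Units.ext
    simp [Matrix.fromBlocks_one]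
  map_mul' p q := by
    apply Units.ext
    simp [Matrix.fromBlocks_multiply]

theorem blockGL_mem (Q₁ : (Fin k → F) → F) (Q₂ : (Fin l → F) → F)
    (g₁ : GL (Fin k) F) (g₂ : GL (Fin l) F) (h₁ : g₁ ∈ isometryGroup F Q₁) (h₂ : g₂ ∈ isometryGroup F Q₂) :
    blockGL (g₁, g₂) ∈ isometryGroup F (fun v : Fin k ⊕ Fin l → F => Q₁ (v ∘ Sum.inl) + Q₂ (v ∘ Sum.inr)) := by
  intro u v
  have e1 := h₁ (u ∘ Sum.inl) (u ∘ Sum.inl)
  have e2 := h₂ (u ∘ Sum.inr) (u ∘ Sum.inr)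
  simp only [Units.coeHom_apply] at e1 e2 ⊢
  show Q₁ (((Matrix.fromBlocks (g₁ : Matrix (Fin k) (Fin k) F) 0 0 (g₂ : Matrix (Fin l) (Fin l) F)) *ᵥ u) ∘ Sum.inl)
    + Q₂ (((Matrix.fromBlocks (g₁ : Matrix (Fin k) (Fin k) F) 0 0 (g₂ : Matrix (Fin l) (Fin l) F)) *ᵥ u) ∘ Sum.inr) = _
  rw [fromBlocks_mulVec_inl, fromBlocks_mulVec_inr, e1, e2]

/-- the block hom between the isometry groups -/
def blockIso (Q₁ : (Fin k → F) → F) (Q₂ : (Fin l → F) → F) :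
    ↥(isometryGroup F Q₁) × ↥(isometryGroup F Q₂) →*
      ↥(isometryGroup F (fun v : Fin k ⊕ Fin l → F => Q₁ (v ∘ Sum.inl) + Q₂ (v ∘ Sum.inr))) where
  toFun p := ⟨blockGL ((p.1 : GL (Fin k) F), (p.2 : GL (Fin l) F)), blockGL_mem Q₁ Q₂ _ _ p.1.2 p.2.2⟩
  map_one' := by
    apply Subtype.ext
    show blockGL ((1 : GL (Fin k) F), (1 : GL (Fin l) F)) = 1
    exact map_one blockGL
  map_mul' p q := by
    apply Subtype.ext
    show blockGL (((p.1 * q.1 : ↥(isometryGroup F Q₁)) : GL (Fin k) F), ((p.2 * q.2 : ↥(isometryGroup F Q₂)) : GL (Fin l) F)) =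
      blockGL ((p.1 : GL (Fin k) F), (p.2 : GL (Fin l) F)) * blockGL ((q.1 : GL (Fin k) F), (q.2 : GL (Fin l) F))
    rw [← map_mul]
    rfl

/-- For an orthogonal sum Q₁ ⊕ Q₂ of non-degenerate quadratic forms over a finite field, diag(g₁, g₂) lies in Ω(Q₁ ⊕ Q₂) whenever g₁ ∈ Ω(Q₁) and g₂ ∈ Ω(Q₂) (Ω = commutator subgroup of O). -/
theorem result {F : Type*} [Field F] [Fintype F] {k l : ℕ} (Q₁ : QuadraticForm F (Fin k → F)) (Q₂ : QuadraticForm F (Fin l → F)) (h₁ : (QuadraticMap.polarBilin Q₁).Nondegenerate) (h₂ : (QuadraticMap.polarBilin Q₂).Nondegenerate) (g₁ : ↥(Cfsg.isometryGroup F ⇑Q₁)) (g₂ : ↥(Cfsg.isometryGroup F ⇑Q₂)) (hg₁ : g₁ ∈ Cfsg.Omega F ⇑Q₁) (hg₂ : g₂ ∈ Cfsg.Omega F ⇑Q₂) : ∃ g : ↥(Cfsg.isometryGroup F (fun v : Fin k ⊕ Fin l → F => Q₁ (v ∘ Sum.inl) + Q₂ (v ∘ Sum.inr))), g ∈ Cfsg.Omega F (fun v : Fin k ⊕ Fin l → F => Q₁ (v ∘ Sum.inl) + Q₂ (v ∘ Sum.inr))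 ∧ ((g : Matrix.GeneralLinearGroup (Fin k ⊕ Fin l) F) : Matrix (Fin k ⊕ Fin l) (Fin k ⊕ Fin l) F) = Matrix.fromBlocks ((g₁ : Matrix.GeneralLinearGroup (Fin k) F) : Matrix (Fin k) (Fin k) F) 0 0 ((g₂ : Matrix.GeneralLinearGroup (Fin l) F) : Matrix (Fin l) (Fin l) F) := by
  refine ⟨blockIso (⇑Q₁) (⇑Q₂) (g₁, g₂), ?_, rfl⟩
  -- the image of the commutator subgroup of a product lies in the commutator subgroup
  have hmem : (g₁, g₂) ∈ commutator (↥(isometryGroup F ⇑Q₁) × ↥(isometryGroup F ⇑Q₂)) := by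
    rw [commutator_def, ← Subgroup.top_prod_top, Subgroup.commutator_prod_prod]
    exact ⟨hg₁, hg₂⟩
  have hle : (commutator (↥(isometryGroup F ⇑Q₁) × ↥(isometryGroup F ⇑Q₂))).map (blockIso (⇑Q₁) (⇑Q₂)) ≤
      commutator _ := by
    rw [commutator_def, Subgroup.map_commutator]
    exact Subgroup.commutator_mono le_top le_top
  exact hle (Subgroup.mem_map_of_mem _ hmem)

end Cfsg.Agent.S2626
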