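import Mathlib
import Cfsg.Statements.S2634
import Cfsg.Agent.Lib.Helper5.OrthIndexTwo

set_option autoImplicit false
open Cfsg

namespace Cfsg.Agent.S2634

/-- Over a finite field of characteristic two, Ω (the commutator subgroup of the orthogonal group of a quadratic form Q on F^n with non-degenerate polar form; excluding dimension 4 over the field of two elements) acts transitively on the non-singular 1-spaces: for u, v with Q(u) ≠ 0 and Q(v) ≠ 0 some element of Ω carries the line through u to the line through v. -/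
theorem result {F : Type*} [Field F] [Fintype F] [CharP F 2] {n : ℕ} (h : Fintype.card F ≠ 2 ∨ n ≠ 4) (Q : QuadraticForm F (Fin n → F)) (hQ : (QuadraticMap.polarBilin Q).Nondegenerate) (u v : Fin n → F) (hu : Q u ≠ 0) (hv : Q v ≠ 0) : ∃ g : ↥(Cfsg.isometryGroup F ⇑Q), g ∈ Cfsg.Omega F ⇑Q ∧ (F ∙ ((g : Matrix.GeneralLinearGroup (Fin n) F) : Matrix (Fin n) (Fin n) F).mulVec u) = F ∙ v := by
  classical
  have h2 : ringChar F = 2 := ringChar.eq F 2
  have hex : Fintype.card (Fin n) = 4 → ∃ a : F, a ≠ 0 ∧ a ≠ 1 := by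
    intro hn4
    rw [Fintype.card_fin] at hn4
    have hq : Fintype.card F ≠ 2 := h.resolve_right (fun h' => h' hn4)
    by_contra hcon
    push Not at hcon
    apply hq
    apply le_antisymm
    · have hsub : (Finset.univ : Finset F) ⊆ {0, 1} := by
        intro a _
        by_cases ha : a = 0
        · rw [ha]; simp
        · rw [hcon a ha]; simp
      have := Finset.card_le_card hsub
      rw [Finset.card_univ] at this
      exact this.trans Finset.card_le_two
    · exact Fintype.one_lt_card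
  have hgen := Cfsg.Agent.Lib.Helper5.ReflGenMat.reflSubgroup_eq_top Q hQ hex
  obtain ⟨c, hc⟩ := FiniteField.isSquare_of_char_two h2 (Q v / Q u)
  have hc0 : c ≠ 0 := by
    rintro rfl
    rw [mul_zero] at hc
    exact div_ne_zero hv hu hc
  have hQcu : Q (c • u) = Q v := by
    rw [QuadraticMap.map_smul, ← hc, smul_eq_mul]
    field_simp
  have hcu : Q (c • u) ≠ 0 := by rw [hQcu]; exact hv
  obtain ⟨g, hg⟩ := Cfsg.Agent.Lib.Helper5.SpinorNorm.exists_isom_vec Q hQ (c • u) v hcu hQcu
  have hconj : ∀ (x : Fin n → F) (hx : Q x ≠ 0), ∃ k : ↥(Cfsg.isometryGroup F ⇑Q),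
      k * Cfsg.Agent.Lib.Helper5.Refl.reflection Q x hx * k⁻¹ =
        Cfsg.Agent.Lib.Helper5.Refl.reflection Q (c • u) hcu := fun x hx =>
    Cfsg.Agent.Lib.Helper5.SpinorNorm.exists_conj_reflection Q hQ x (c • u) hx hcu
      (FiniteField.isSquare_of_char_two h2 _)
  have hfix : Cfsg.Agent.Lib.Helper5.CartanDieudonne.act Q
      (Cfsg.Agent.Lib.Helper5.Refl.reflection Q (c • u) hcu) (c • u) = c • u := by
    rw [Cfsg.Agent.Lib.Helper5.CartanDieudonne.act_reflection, QuadraticMap.polar_self]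
    have h20 : (2 : F) = 0 := CharTwo.two_eq_zero
    rw [two_nsmul, ← two_mul, h20, zero_mul, mul_zero, zero_smul, sub_zero]
  have hspan : ∀ k : ↥(Cfsg.isometryGroup F ⇑Q),
      Cfsg.Agent.Lib.Helper5.CartanDieudonne.act Q k (c • u) = v →
      (F ∙ ((k : Matrix.GeneralLinearGroup (Fin n) F) : Matrix (Fin n) (Fin n) F).mulVec u) =
        F ∙ v := by
    intro k hk
    rw [Cfsg.Agent.Lib.Helper5.Siegel.act_smul] at hk
    rw [← hk]
    exact (Submodule.span_singleton_smul_eq (IsUnit.mk0 c hc0) _).symm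
  rcases Cfsg.Agent.Lib.Helper5.OrthIndexTwo.mem_or_mul_mem Q hgen (c • u) hcu hconj g with h1 | h1
  · exact ⟨g, h1, hspan g hg⟩
  · refine ⟨_, h1, hspan _ ?_⟩
    rw [Cfsg.Agent.Lib.Helper5.CartanDieudonne.act_mul, hfix, hg]

end Cfsg.Agent.S2634
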