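import Mathlib
import Cfsg.Statements.S2635
import Cfsg.Agent.Lib.Helper5.OmegaCrit

set_option autoImplicit false
open Cfsg

namespace Cfsg.Agent.S2635

/-- Over a finite field of characteristic two, for a quadratic form Q on F^n with non-degenerate polar form, n ≥ 2, other than dimension 4 over the field of two elements, Ω (the commutator subgroup of the orthogonal group) is exactly the subgroup generated by the products of two reflections (orthogonal transvections) x ↦ x − Q(v)⁻¹ f(x, v) v, Q(v) ≠ 0: the products of an even number of reflections. -/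
theorem result {F : Type*} [Field F] [Fintype F] [CharP F 2] {n : ℕ} (hn : 2 ≤ n) (h : Fintype.card F ≠ 2 ∨ n ≠ 4) (Q : QuadraticForm F (Fin n → F)) (hQ : (QuadraticMap.polarBilin Q).Nondegenerate) : Cfsg.Omega F ⇑Q = Subgroup.closure {g : ↥(Cfsg.isometryGroup F ⇑Q) | ∃ u v : Fin n → F, Q u ≠ 0 ∧ Q v ≠ 0 ∧ ((g : Matrix.GeneralLinearGroup (Fin n) F) : Matrix (Fin n) (Fin n) F) = Cfsg.reflectionMatrix ⇑Q u * Cfsg.reflectionMatrix ⇑Q v} := by
  classical
  have h20 : (2 : F) = 0 := CharTwo.two_eq_zero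
  have hex : Fintype.card (Fin n) = 4 → ∃ a : F, a ≠ 0 ∧ a ≠ 1 := by
    intro hn4
    rw [Fintype.card_fin] at hn4
    have hq : Fintype.card F ≠ 2 := h.resolve_right (fun h' => h' hn4)
    by_contra hcon
    push Not at hcon
    apply hq
    apply le_antisymm
    · have hsub : (Finset.univ : Finset F) ⊆ {0, 1} := by
        intro a _
        by_cases ha : a = 0
        · rw [ha]; simp
        · rw [hcon a ha]; simp
      have := Finset.card_le_card hsub
      rw [Finset.card_univ] at this
      exact this.trans Finset.card_le_two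
    · exact Fintype.one_lt_card
  apply le_antisymm
  · intro g hg
    obtain ⟨vs, hvs⟩ := Cfsg.Agent.Lib.Helper5.Dickson.exists_rep' Q hQ hex g
    rw [Cfsg.Agent.Lib.Helper5.OmegaCrit.mem_Omega_iff_par Q h20 hQ hex,
      Cfsg.Agent.Lib.Helper5.Dickson.par_eq Q hQ hex g vs hvs,
      Cfsg.Agent.Lib.Helper5.SpinorNorm.neg_one_pow_eq_one_iff] at hg
    obtain ⟨k, hk⟩ := hg
    rw [Cfsg.Agent.Lib.Helper5.SpinorNorm.rep_eq_prod Q hvs]
    exact Cfsg.Agent.Lib.Helper5.OmegaCrit.pairs_prod_mem Q k vs (by omega) hvs.1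
  · rw [Subgroup.closure_le]
    rintro g ⟨u, v, hu, hv, hg⟩
    have hrep : Cfsg.Agent.Lib.Helper5.SpinorNorm.IsRep Q g [u, v] := by
      refine ⟨?_, ?_⟩
      · intro x hx
        simp only [List.mem_cons, List.not_mem_nil, or_false] at hx
        rcases hx with rfl | rfl
        · exact hu
        · exact hv
      · rw [hg, Cfsg.Agent.Lib.Helper5.SpinorNorm.rprod_cons,
          Cfsg.Agent.Lib.Helper5.SpinorNorm.rprod_cons,
          Cfsg.Agent.Lib.Helper5.SpinorNorm.rprod_nil, mul_one]
    show g ∈ Cfsg.Omega F ⇑Q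
    rw [Cfsg.Agent.Lib.Helper5.OmegaCrit.mem_Omega_iff_par Q h20 hQ hex,
      Cfsg.Agent.Lib.Helper5.Dickson.par_eq Q hQ hex g _ hrep]
    simp

end Cfsg.Agent.S2635
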