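import Cfsg.Statements.S2640
import Cfsg.Agent.Lib.Helper4.ScalarRes6

set_option autoImplicit false
open Cfsg

namespace Cfsg.Agent.S2640

/-- For m even, the unitary group GU_m(q) (over the field with q² elements) embeds in the orthogonal group O⁺_2m(q) of the hyperbolic form Σ x_i y_i over the field with q elements (there is an injective homomorphism). -/
theorem result {K F : Type*} [Field K] [Fintype K] [Field F] [Fintype F] {q : ℕ} (hK : Fintype.card K = q ^ 2) (hF : Fintype.card F = q) (m : ℕ) (hm : Even m) : ∃ φ : ↥(Cfsg.GU m K q) →* ↥(Cfsg.isometryGroup F (Cfsg.quadFormPlus m F)), Function.Injective φ := by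
  obtain ⟨l, hl⟩ := hm
  have hml : m = 2 * l := by omega
  subst hml
  obtain ⟨c, hc⟩ := Cfsg.Agent.Lib.Helper4.ScalarRes.exists_anisotropic (F := F)
  obtain ⟨inst, ⟨Q⟩⟩ := Cfsg.Agent.Lib.Helper4.ScalarRes.exists_QD (K := K) hF hK 1 c hc
  obtain ⟨H⟩ := Cfsg.Agent.Lib.Helper4.ScalarRes.exists_Hyp Q hK hc
  exact Cfsg.Agent.Lib.Helper4.ScalarRes.QD.exists_GU_even_embedding H hF hK l

end Cfsg.Agent.S2640
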