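import Cfsg.Statements.S2666

set_option autoImplicit false
open Cfsg

namespace Cfsg.Agent.S2666

theorem pow_fix {X : Type*} [Group X] (σ : MulAut X) (h : X) (hh : σ h = h) (e : ℕ) : (σ ^ e) h = h := by
  induction e with
  | zero => simp
  | succ n ih =>
    rw [pow_succ, MulAut.mul_apply, hh, ih]

theorem telescope {X : Type*} [Group X] (σ : MulAut X) (a : X) (d : ℕ) :
    ((List.range d).map (fun i => (σ ^ i) (a * (σ a)⁻¹))).prod = a * ((σ ^ d) a)⁻¹ := by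
  induction d with
  | zero => simp
  | succ n ih =>
    rw [List.range_succ, List.map_append, List.prod_append, ih]
    simp only [List.map_cons, List.map_nil, List.prod_cons, List.prod_nil, mul_one, map_mul, map_inv]
    have : (σ ^ n) (σ a) = (σ ^ (n + 1)) a := by
      rw [pow_succ, MulAut.mul_apply]
    rw [this]
    group

theorem comm_pow {X : Type*} [Group X] (σ : MulAut X) (e : ℕ) (a : X) : (σ ^ e) (σ a) = σ ((σ ^ e) a) := by
  have hc : (σ ^ e) * σ = σ * (σ ^ e) := by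
    rw [← pow_succ, ← pow_succ']
  calc (σ ^ e) (σ a) = ((σ ^ e) * σ) a := rfl
    _ = (σ * (σ ^ e)) a := by rw [hc]
    _ = σ ((σ ^ e) a) := rfl

/-- if g = a σ(a)⁻¹ is fixed by τ = σ^e then x = τ(a)⁻¹ a is fixed by σ -/
theorem x_fixed {X : Type*} [Group X] (σ : MulAut X) (e : ℕ) (a : X)
    (hg : (σ ^ e) (a * (σ a)⁻¹) = a * (σ a)⁻¹) : σ (((σ ^ e) a)⁻¹ * a) = ((σ ^ e) a)⁻¹ * a := by
  have h1 : (σ ^ e) a * (σ ((σ ^ e) a))⁻¹ = a * (σ a)⁻¹ := by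
    rw [map_mul, map_inv, comm_pow] at hg
    exact hg
  have h2 : (σ ((σ ^ e) a))⁻¹ = ((σ ^ e) a)⁻¹ * (a * (σ a)⁻¹) := by
    rw [← h1]; group
  rw [map_mul, map_inv, h2]
  group

/-- Abstract Shintani descent: if a ↦ aσ(a)⁻¹ and a ↦ aσᵉ(a)⁻¹ are surjective on X, then g = aσ(a)⁻¹ ↦ x = σᵉ(a)⁻¹a is a well-defined bijection from σ-twisted X_{σᵉ}-classes of X_{σᵉ} onto conjugacy classes of X_σ, with a⁻¹N(g)a = x. -/
theorem result {X : Type*} [Group X] (σ : MulAut X) (e : ℕ) (he : 1 ≤ e)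
    (hL : ∀ g : X, ∃ a : X, g = a * (σ a)⁻¹) (hLe : ∀ g : X, ∃ a : X, g = a * ((σ ^ e) a)⁻¹) :
    (∀ g ∈ (MulEquiv.toMonoidHom (σ ^ e)).eqLocus (MonoidHom.id X), ∀ a : X, g = a * (σ a)⁻¹ →
        ((σ ^ e) a)⁻¹ * a ∈ (MulEquiv.toMonoidHom σ).eqLocus (MonoidHom.id X) ∧
          a⁻¹ * ((List.range e).map (fun i => (σ ^ i) g)).prod * a = ((σ ^ e) a)⁻¹ * a) ∧
    (∀ g ∈ (MulEquiv.toMonoidHom (σ ^ e)).eqLocus (MonoidHom.id X), ∀ g' ∈ (MulEquiv.toMonoidHom (σ ^ e)).eqLocus (MonoidHom.id X), ∀ a b : X,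
        g = a * (σ a)⁻¹ → g' = b * (σ b)⁻¹ →
          ((∃ k ∈ (MulEquiv.toMonoidHom (σ ^ e)).eqLocus (MonoidHom.id X), g' = k * g * (σ k)⁻¹) ↔
            (∃ h ∈ (MulEquiv.toMonoidHom σ).eqLocus (MonoidHom.id X), ((σ ^ e) b)⁻¹ * b = h * (((σ ^ e) a)⁻¹ * a) * h⁻¹))) ∧
    (∀ x ∈ (MulEquiv.toMonoidHom σ).eqLocus (MonoidHom.id X), ∃ g ∈ (MulEquiv.toMonoidHom (σ ^ e)).eqLocus (MonoidHom.id X), ∃ a : X,
        g = a * (σ a)⁻¹ ∧ ((σ ^ e) a)⁻¹ * a = x) := by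
  have mem_iff : ∀ (f : MulAut X) (x : X), x ∈ (MulEquiv.toMonoidHom f).eqLocus (MonoidHom.id X) ↔ f x = x :=
    fun _ _ => Iff.rfl
  refine ⟨?_, ?_, ?_⟩
  · intro g hg a ha
    rw [mem_iff] at hg ⊢
    subst ha
    refine ⟨x_fixed σ e a hg, ?_⟩
    rw [telescope]
    group
  · intro g hg g' hg' a b ha hb
    rw [mem_iff] at hg hg'
    subst ha hb
    have hxa := x_fixed σ e a hg
    have hxb := x_fixed σ e b hg'
    constructor
    · rintro ⟨k, hk, hkg⟩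
      rw [mem_iff] at hk
      -- h₀ = (k a)⁻¹ b is σ-fixed
      have h0 : σ ((k * a)⁻¹ * b) = (k * a)⁻¹ * b := by
        have e1 : b * (σ b)⁻¹ = (k * a) * (σ (k * a))⁻¹ := by
          rw [hkg, map_mul]; group
        have e2 : σ b = σ (k * a) * (k * a)⁻¹ * b := by
          have : (σ b)⁻¹ = b⁻¹ * ((k * a) * (σ (k * a))⁻¹) := by rw [← e1]; group
          calc σ b = ((σ b)⁻¹)⁻¹ := by group
            _ = (b⁻¹ * ((k * a) * (σ (k * a))⁻¹))⁻¹ := by rw [this]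
            _ = _ := by group
        rw [map_mul, map_inv, e2]; group
      refine ⟨((k * a)⁻¹ * b)⁻¹, ?_, ?_⟩
      · rw [mem_iff, map_inv, h0]
      · have h0τ := pow_fix σ _ h0 e
        -- b = k a h₀
        have hb' : b = k * a * ((k * a)⁻¹ * b) := by group
        have : (σ ^ e) b = k * (σ ^ e) a * ((k * a)⁻¹ * b) := by
          conv_lhs => rw [hb']
          rw [map_mul, map_mul, h0τ, hk]
        rw [this]; group
    · rintro ⟨h, hh, hx⟩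
      rw [mem_iff] at hh
      have hhτ := pow_fix σ h hh e
      refine ⟨b * h * a⁻¹, ?_, ?_⟩
      · rw [mem_iff, map_mul, map_mul, map_inv, hhτ]
        -- τ(b) h τ(a)⁻¹ = b h a⁻¹
        have : (σ ^ e) b = b * (h * (((σ ^ e) a)⁻¹ * a) * h⁻¹)⁻¹ := by
          rw [← hx]; group
        rw [this]; group
      · rw [map_mul, map_mul, map_inv, hh]; group
  · intro x hx
    rw [mem_iff] at hx
    obtain ⟨c, hc⟩ := hLe x⁻¹
    have hτa : (σ ^ e) c⁻¹ = c⁻¹ * x⁻¹ := by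
      rw [map_inv]
      have : x = (c * ((σ ^ e) c)⁻¹)⁻¹ := by rw [← hc]; group
      rw [this]; group
    generalize c⁻¹ = a at hτa
    refine ⟨a * (σ a)⁻¹, ?_, a, rfl, ?_⟩
    · rw [mem_iff]
      calc (σ ^ e) (a * (σ a)⁻¹) = (σ ^ e) a * ((σ ^ e) (σ a))⁻¹ := by rw [map_mul, map_inv]
        _ = (σ ^ e) a * (σ ((σ ^ e) a))⁻¹ := by rw [comm_pow]
        _ = a * x⁻¹ * (σ (a * x⁻¹))⁻¹ := by rw [hτa]
        _ = a * x⁻¹ * (σ a * (σ x)⁻¹)⁻¹ := by rw [map_mul, map_inv]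
        _ = a * x⁻¹ * (σ a * x⁻¹)⁻¹ := by rw [hx]
        _ = a * (σ a)⁻¹ := by group
    · rw [hτa]; group

end Cfsg.Agent.S2666
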