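import Cfsg.Statements.S2667

set_option autoImplicit false
open Cfsg

namespace Cfsg.Agent.S2667

theorem pow_fix {X : Type*} [Group X] (σ : MulAut X) (h : X) (hh : σ h = h) (e : ℕ) : (σ ^ e) h = h := by
  induction e with
  | zero => simp
  | succ n ih =>
    rw [pow_succ, MulAut.mul_apply, hh, ih]

/-- In abstract Shintani descent (g = aσ(a)⁻¹ ∈ X_{σᵉ}, x = σᵉ(a)⁻¹a ∈ X_σ), k ↦ a⁻¹ka maps the twisted centralizer {k ∈ X_{σᵉ} : kgσ(k)⁻¹ = g} exactly onto C_{X_σ}(x). -/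
theorem result {X : Type*} [Group X] (σ : MulAut X) (e : ℕ) (he : 1 ≤ e)
    (g : X) (hg : g ∈ (MulEquiv.toMonoidHom (σ ^ e)).eqLocus (MonoidHom.id X)) (a : X) (ha : g = a * (σ a)⁻¹) (k : X) :
    (k ∈ (MulEquiv.toMonoidHom (σ ^ e)).eqLocus (MonoidHom.id X) ∧ k * g * (σ k)⁻¹ = g) ↔
      (a⁻¹ * k * a ∈ (MulEquiv.toMonoidHom σ).eqLocus (MonoidHom.id X) ∧
        (a⁻¹ * k * a) * (((σ ^ e) a)⁻¹ * a) = (((σ ^ e) a)⁻¹ * a) * (a⁻¹ * k * a)) := by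
  have key : k * g * (σ k)⁻¹ = g ↔ σ (a⁻¹ * k * a) = a⁻¹ * k * a := by
    rw [ha, map_mul, map_mul, map_inv]
    constructor
    · intro h
      have h2 : σ k = (σ a) * a⁻¹ * k * a * (σ a)⁻¹ := by
        have : k * (a * (σ a)⁻¹) = a * (σ a)⁻¹ * σ k := mul_inv_eq_iff_eq_mul.mp h
        calc σ k = (σ a) * a⁻¹ * (a * (σ a)⁻¹ * σ k) := by group
          _ = (σ a) * a⁻¹ * (k * (a * (σ a)⁻¹)) := by rw [this]
          _ = (σ a) * a⁻¹ * k * a * (σ a)⁻¹ := by group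
      rw [h2]; group
    · intro h
      have h2 : σ k = (σ a) * a⁻¹ * k * a * (σ a)⁻¹ := by
        calc σ k = (σ a) * ((σ a)⁻¹ * σ k * σ a) * (σ a)⁻¹ := by group
          _ = (σ a) * (a⁻¹ * k * a) * (σ a)⁻¹ := by rw [h]
          _ = _ := by group
      rw [h2]; group
  have mem_iff : ∀ (f : MulAut X) (x : X), x ∈ (MulEquiv.toMonoidHom f).eqLocus (MonoidHom.id X) ↔ f x = x :=
    fun _ _ => Iff.rfl
  rw [mem_iff, mem_iff]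
  constructor
  · rintro ⟨hk, hkg⟩
    have h1 := key.mp hkg
    refine ⟨h1, ?_⟩
    have h2 := pow_fix σ _ h1 e
    rw [map_mul, map_mul, map_inv, hk] at h2
    -- h2 : (σ^e a)⁻¹ * k * (σ^e a) = a⁻¹ * k * a
    calc a⁻¹ * k * a * (((σ ^ e) a)⁻¹ * a)
        = ((σ ^ e) a)⁻¹ * k * (σ ^ e) a * (((σ ^ e) a)⁻¹ * a) := by rw [h2]
      _ = ((σ ^ e) a)⁻¹ * a * (a⁻¹ * k * a) := by group
  · rintro ⟨h1, hcomm⟩
    refine ⟨?_, key.mpr h1⟩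
    have h2 := pow_fix σ _ h1 e
    rw [map_mul, map_mul, map_inv] at h2
    -- h2 : (σ^e a)⁻¹ * (σ^e k) * (σ^e a) = a⁻¹ * k * a
    calc (σ ^ e) k = (σ ^ e) a * (((σ ^ e) a)⁻¹ * (σ ^ e) k * (σ ^ e) a) * ((σ ^ e) a)⁻¹ := by group
      _ = (σ ^ e) a * (a⁻¹ * k * a) * ((σ ^ e) a)⁻¹ := by rw [h2]
      _ = a * ((((σ ^ e) a)⁻¹ * a)⁻¹ * ((a⁻¹ * k * a) * (((σ ^ e) a)⁻¹ * a))) * a⁻¹ := by group
      _ = a * ((((σ ^ e) a)⁻¹ * a)⁻¹ * ((((σ ^ e) a)⁻¹ * a) * (a⁻¹ * k * a))) * a⁻¹ := by rw [hcomm]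
      _ = k := by group

end Cfsg.Agent.S2667
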