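import Cfsg.Statements.S2668

set_option autoImplicit false
open Cfsg

namespace Cfsg.Agent.S2668

theorem pow_fix {X : Type*} [Group X] (σ : MulAut X) (h : X) (hh : σ h = h) (e : ℕ) : (σ ^ e) h = h := by
  induction e with
  | zero => simp
  | succ n ih =>
    rw [pow_succ, MulAut.mul_apply, hh, ih]

theorem telescope {X : Type*} [Group X] (σ : MulAut X) (a : X) (d : ℕ) :
    ((List.range d).map (fun i => (σ ^ i) (a * (σ a)⁻¹))).prod = a * ((σ ^ d) a)⁻¹ := by
  induction d with
  | zero => simp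
  | succ n ih =>
    rw [List.range_succ, List.map_append, List.prod_append, ih]
    simp only [List.map_cons, List.map_nil, List.prod_cons, List.prod_nil, mul_one, map_mul, map_inv]
    have : (σ ^ n) (σ a) = (σ ^ (n + 1)) a := by
      rw [pow_succ, MulAut.mul_apply]
    rw [this]
    group

/-- Abstract Shintani descent: with g = aσ(a)⁻¹ ∈ X_{σᵉ} and x = σᵉ(a)⁻¹a, the norm h = gσ(g)⋯σ^{d−1}(g) equals aσ^d(a)⁻¹, lies in X_{σ^{de}}, and σ^{de}(a)⁻¹a = x^d (descent of the d-th power gives x^d). -/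
theorem result {X : Type*} [Group X] (σ : MulAut X) (e d : ℕ) (he : 1 ≤ e) (hd : 1 ≤ d)
    (g : X) (hg : g ∈ (MulEquiv.toMonoidHom (σ ^ e)).eqLocus (MonoidHom.id X)) (a : X) (ha : g = a * (σ a)⁻¹) :
    ((List.range d).map (fun i => (σ ^ i) g)).prod = a * ((σ ^ d) a)⁻¹ ∧
      ((List.range d).map (fun i => (σ ^ i) g)).prod ∈ (MulEquiv.toMonoidHom ((σ ^ d) ^ e)).eqLocus (MonoidHom.id X) ∧
      (((σ ^ d) ^ e) a)⁻¹ * a = (((σ ^ e) a)⁻¹ * a) ^ d := by
  have mem_iff : ∀ (f : MulAut X) (x : X), x ∈ (MulEquiv.toMonoidHom f).eqLocus (MonoidHom.id X) ↔ f x = x :=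
    fun _ _ => Iff.rfl
  have hg' : (σ ^ e) g = g := (mem_iff _ _).mp hg
  have hpow : (σ ^ d) ^ e = (σ ^ e) ^ d := by
    rw [← pow_mul, ← pow_mul, mul_comm]
  have hgd : ((σ ^ e) ^ d) g = g := pow_fix (σ ^ e) g hg' d
  refine ⟨?_, ?_, ?_⟩
  · rw [ha]; exact telescope σ a d
  · rw [mem_iff, hpow]
    -- apply the hom to the product
    have : ∀ (l : List ℕ), ((σ ^ e) ^ d) ((l.map (fun i => (σ ^ i) g)).prod) = (l.map (fun i => (σ ^ i) g)).prod := by
      intro l
      induction l with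
      | nil => simp
      | cons i l ih =>
        simp only [List.map_cons, List.prod_cons, map_mul]
        rw [ih]
        congr 1
        have hc : ((σ ^ e) ^ d) * (σ ^ i) = (σ ^ i) * ((σ ^ e) ^ d) := by
          rw [← pow_mul, ← pow_add, ← pow_add, add_comm]
        calc ((σ ^ e) ^ d) ((σ ^ i) g) = (((σ ^ e) ^ d) * (σ ^ i)) g := rfl
          _ = ((σ ^ i) * ((σ ^ e) ^ d)) g := by rw [hc]
          _ = (σ ^ i) (((σ ^ e) ^ d) g) := rfl
          _ = (σ ^ i) g := by rw [hgd]
    exact this _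
  · rw [hpow]
    set τ := σ ^ e with hτ
    set x := (τ a)⁻¹ * a with hx
    -- x is fixed by σ
    have hτσ : τ (σ a) = σ (τ a) := by
      have hc : τ * σ = σ * τ := by
        rw [hτ, ← pow_succ, ← pow_succ']
      calc τ (σ a) = (τ * σ) a := rfl
        _ = (σ * τ) a := by rw [hc]
        _ = σ (τ a) := rfl
    have hxσ : σ x = x := by
      have h1 : τ a * (σ (τ a))⁻¹ = a * (σ a)⁻¹ := by
        have := hg'
        rw [ha, map_mul, map_inv, hτσ] at this
        exact this
      have h2 : (σ (τ a))⁻¹ = (τ a)⁻¹ * (a * (σ a)⁻¹) := by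
        rw [← h1]; group
      rw [hx, map_mul, map_inv, h2]
      group
    have hxτ : τ x = x := pow_fix σ x hxσ e
    have key : ∀ n : ℕ, ((τ ^ n) a)⁻¹ * a = x ^ n := by
      intro n
      induction n with
      | zero => simp
      | succ n ihn =>
        have : ((τ ^ (n + 1)) a)⁻¹ * a = τ (((τ ^ n) a)⁻¹ * a) * x := by
          rw [pow_succ', MulAut.mul_apply, map_mul, map_inv, hx]
          group
        rw [this, ihn, map_pow, hxτ, pow_succ]
    exact key d

end Cfsg.Agent.S2668
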