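import Cfsg.Statements.S2669

set_option autoImplicit false
open Cfsg

namespace Cfsg.Agent.S2669

variable {X : Type*} [Group X]

/-- fixed points of an automorphism -/
abbrev Fix (f : MulAut X) : Subgroup X := (MulEquiv.toMonoidHom f).eqLocus (MonoidHom.id X)

theorem mem_Fix (f : MulAut X) (x : X) : x ∈ Fix f ↔ f x = x := Iff.rfl

theorem pow_stable (σ : MulAut X) (Y : Subgroup X) (hY : ∀ y : X, y ∈ Y ↔ σ y ∈ Y) (e : ℕ) (y : X) (hy : y ∈ Y) :
    (σ ^ e) y ∈ Y := by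
  induction e with
  | zero => simpa using hy
  | succ n ih =>
    rw [pow_succ', MulAut.mul_apply]
    exact (hY _).mp ih

theorem pow_fix (σ : MulAut X) (h : X) (hh : σ h = h) (e : ℕ) : (σ ^ e) h = h := by
  induction e with
  | zero => simp
  | succ n ih =>
    rw [pow_succ, MulAut.mul_apply, hh, ih]

/-- A general counting principle: a relation `R` between `K` and `H` such that the fibre over each
`k` in `A` is a right coset of `U` and the fibre over each `h` in `B` is a left coset of `V`. -/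
theorem count_aux {K H : Type*} [Group K] [Group H] (U : Subgroup H) (V : Subgroup K)
    (R : K → H → Prop) (A : K → Prop) (B : H → Prop)
    (hA : ∀ k h, R k h → A k) (hA' : ∀ k, A k → ∃ h, R k h)
    (hB : ∀ k h, R k h → B h) (hB' : ∀ h, B h → ∃ k, R k h)
    (hU : ∀ k h h', R k h → (R k h' ↔ h' * h⁻¹ ∈ U))
    (hV : ∀ k k' h, R k h → (R k' h ↔ k⁻¹ * k' ∈ V)) :
    Nat.card {k : K // A k} * Nat.card U = Nat.card {h : H // B h} * Nat.card V := by
  classical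
  have e1 : {k : K // A k} × U ≃ {p : K × H // R p.1 p.2} :=
    { toFun := fun q => ⟨(q.1.1, (q.2 : H) * Classical.choose (hA' q.1.1 q.1.2)), by
        have hc := Classical.choose_spec (hA' q.1.1 q.1.2)
        refine (hU _ _ _ hc).mpr ?_
        simp⟩
      invFun := fun t => (⟨t.1.1, hA _ _ t.2⟩,
        ⟨t.1.2 * (Classical.choose (hA' t.1.1 (hA _ _ t.2)))⁻¹, by
          have hc := Classical.choose_spec (hA' t.1.1 (hA _ _ t.2))
          exact (hU _ _ _ hc).mp t.2⟩)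
      left_inv := by
        rintro ⟨⟨k, hk⟩, ⟨u, hu⟩⟩
        simp
      right_inv := by
        rintro ⟨⟨k, h⟩, hr⟩
        simp }
  have e2 : {h : H // B h} × V ≃ {p : K × H // R p.1 p.2} :=
    { toFun := fun q => ⟨(Classical.choose (hB' q.1.1 q.1.2) * (q.2 : K), q.1.1), by
        have hc := Classical.choose_spec (hB' q.1.1 q.1.2)
        refine (hV _ _ _ hc).mpr ?_
        simp⟩
      invFun := fun t => (⟨t.1.2, hB _ _ t.2⟩,
        ⟨(Classical.choose (hB' t.1.2 (hB _ _ t.2)))⁻¹ * t.1.1, by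
          have hc := Classical.choose_spec (hB' t.1.2 (hB _ _ t.2))
          exact (hV _ _ _ hc).mp t.2⟩)
      left_inv := by
        rintro ⟨⟨h, hh⟩, ⟨v, hv⟩⟩
        simp
      right_inv := by
        rintro ⟨⟨k, h⟩, hr⟩
        simp }
  rw [← Nat.card_prod, ← Nat.card_prod, Nat.card_congr e1, Nat.card_congr e2]

/-- Abstract Shintani descent: for a σ-stable subgroup Y with the Lang property for σ and σᵉ, the number of cosets of Y ∩ X_{σᵉ} in X_{σᵉ} fixed by gσ equals the number of cosets of Y ∩ X_σ in X_σ fixed by the Shintani image x of g. -/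
theorem result {X : Type*} [Group X] (σ : MulAut X) (e : ℕ) (he : 1 ≤ e)
    [Finite ↥((MulEquiv.toMonoidHom (σ ^ e)).eqLocus (MonoidHom.id X))]
    (Y : Subgroup X) (hY : ∀ y : X, y ∈ Y ↔ σ y ∈ Y)
    (hYL : ∀ y ∈ Y, ∃ a ∈ Y, y = a * (σ a)⁻¹) (hYLe : ∀ y ∈ Y, ∃ a ∈ Y, y = a * ((σ ^ e) a)⁻¹)
    (g : X) (hg : g ∈ (MulEquiv.toMonoidHom (σ ^ e)).eqLocus (MonoidHom.id X)) (a : X) (ha : g = a * (σ a)⁻¹) :
    Nat.card {k : ↥((MulEquiv.toMonoidHom (σ ^ e)).eqLocus (MonoidHom.id X)) // (k : X)⁻¹ * g * σ k ∈ Y} *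
        Nat.card ↥(Y ⊓ (MulEquiv.toMonoidHom σ).eqLocus (MonoidHom.id X)) =
      Nat.card {h : ↥((MulEquiv.toMonoidHom σ).eqLocus (MonoidHom.id X)) // (h : X)⁻¹ * (((σ ^ e) a)⁻¹ * a) * h ∈ Y} *
        Nat.card ↥(Y ⊓ (MulEquiv.toMonoidHom (σ ^ e)).eqLocus (MonoidHom.id X)) := by
  set τ := σ ^ e with hτ
  -- the subgroups U, V of the fixed point groups
  let U : Subgroup ↥(Fix σ) := Y.subgroupOf (Fix σ)
  let V : Subgroup ↥(Fix τ) := Y.subgroupOf (Fix τ)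
  have cU : Nat.card U = Nat.card ↥(Y ⊓ Fix σ) := by
    have : U = (Y ⊓ Fix σ).subgroupOf (Fix σ) := (Subgroup.inf_subgroupOf_right _ _).symm
    rw [this]
    exact Nat.card_congr (Subgroup.subgroupOfEquivOfLe inf_le_right).toEquiv
  have cV : Nat.card V = Nat.card ↥(Y ⊓ Fix τ) := by
    have : V = (Y ⊓ Fix τ).subgroupOf (Fix τ) := (Subgroup.inf_subgroupOf_right _ _).symm
    rw [this]
    exact Nat.card_congr (Subgroup.subgroupOfEquivOfLe inf_le_right).toEquiv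
  set x := (τ a)⁻¹ * a with hx
  have hτY : ∀ y ∈ Y, τ y ∈ Y := fun y hy => pow_stable σ Y hY e y hy
  have hτfix : ∀ h : X, σ h = h → τ h = h := fun h hh => pow_fix σ h hh e
  have hσY' : ∀ y : X, σ y ∈ Y → y ∈ Y := fun y hy => (hY y).mpr hy
  have hσY : ∀ y ∈ Y, σ y ∈ Y := fun y hy => (hY y).mp hy
  -- the main counting statement, with `B` twisted by inversion
  have main := count_aux (K := ↥(Fix τ)) (H := ↥(Fix σ)) U V
    (fun k h => (k : X)⁻¹ * a * (h : X)⁻¹ ∈ Y)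
    (fun k => (k : X)⁻¹ * g * σ (k : X) ∈ Y)
    (fun h => (h : X) * x * (h : X)⁻¹ ∈ Y)
    (by
      -- hA
      rintro ⟨k, hk⟩ ⟨h, hh⟩ hR
      rw [mem_Fix] at hh
      simp only at hR ⊢
      have e1 : k⁻¹ * g * σ k = (k⁻¹ * a * h⁻¹) * (σ (k⁻¹ * a * h⁻¹))⁻¹ := by
        rw [ha, map_mul, map_mul, map_inv, map_inv, hh]; group
      rw [e1]
      exact Y.mul_mem hR (Y.inv_mem (hσY _ hR)))
    (by
      -- hA'
      rintro ⟨k, hk⟩ hAk
      simp only at hAk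
      obtain ⟨c, hc, hcy⟩ := hYL _ hAk
      have e1 : k⁻¹ * g * σ k = (k⁻¹ * a) * (σ (k⁻¹ * a))⁻¹ := by
        rw [ha, map_mul, map_inv]; group
      rw [e1] at hcy
      have hfix : σ (c⁻¹ * (k⁻¹ * a)) = c⁻¹ * (k⁻¹ * a) := by
        have e2 : σ (k⁻¹ * a) = σ c * c⁻¹ * (k⁻¹ * a) := by
          have : (σ (k⁻¹ * a))⁻¹ = (k⁻¹ * a)⁻¹ * (c * (σ c)⁻¹) := by rw [← hcy]; group
          calc σ (k⁻¹ * a) = ((σ (k⁻¹ * a))⁻¹)⁻¹ := by group
            _ = ((k⁻¹ * a)⁻¹ * (c * (σ c)⁻¹))⁻¹ := by rw [this]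
            _ = _ := by group
        rw [map_mul, map_inv, e2]; group
      refine ⟨⟨c⁻¹ * (k⁻¹ * a), hfix⟩, ?_⟩
      simp only
      have : k⁻¹ * a * (c⁻¹ * (k⁻¹ * a))⁻¹ = c := by group
      rw [this]; exact hc)
    (by
      -- hB
      rintro ⟨k, hk⟩ ⟨h, hh⟩ hR
      rw [mem_Fix] at hh hk
      simp only at hR ⊢
      have hhτ := hτfix h hh
      have e1 : h * x * h⁻¹ = (τ (k⁻¹ * a * h⁻¹))⁻¹ * (k⁻¹ * a * h⁻¹) := by
        rw [hx, map_mul, map_mul, map_inv, map_inv, hhτ, hk]; group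
      rw [e1]
      exact Y.mul_mem (Y.inv_mem (hτY _ hR)) hR)
    (by
      -- hB'
      rintro ⟨h, hh⟩ hBh
      rw [mem_Fix] at hh
      simp only at hBh
      have hhτ := hτfix h hh
      obtain ⟨c, hc, hcy⟩ := hYLe _ (Y.inv_mem hBh)
      -- k = a h⁻¹ c
      have e1 : h * x * h⁻¹ = (τ (a * h⁻¹))⁻¹ * (a * h⁻¹) := by
        rw [hx, map_mul, map_inv, hhτ]; group
      rw [e1] at hcy
      have hfix : τ (a * h⁻¹ * c) = a * h⁻¹ * c := by
        have e2 : τ (a * h⁻¹) = (a * h⁻¹) * c * (τ c)⁻¹ := by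
          calc τ (a * h⁻¹) = (a * h⁻¹) * ((τ (a * h⁻¹))⁻¹ * (a * h⁻¹))⁻¹ := by group
            _ = (a * h⁻¹) * (c * (τ c)⁻¹) := by rw [hcy]
            _ = _ := by group
        rw [map_mul, e2]; group
      refine ⟨⟨a * h⁻¹ * c, hfix⟩, ?_⟩
      simp only
      have : (a * h⁻¹ * c)⁻¹ * a * h⁻¹ = c⁻¹ := by group
      rw [this]; exact Y.inv_mem hc)
    (by
      -- hU
      rintro ⟨k, hk⟩ ⟨h, hh⟩ ⟨h', hh'⟩ hR
      simp only at hR ⊢
      rw [Subgroup.mem_subgroupOf]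
      simp only [Subgroup.coe_mul, Subgroup.coe_inv]
      have e1 : k⁻¹ * a * h'⁻¹ = (k⁻¹ * a * h⁻¹) * (h' * h⁻¹)⁻¹ := by group
      rw [e1]
      constructor
      · intro h1
        have := Y.mul_mem (Y.inv_mem hR) h1
        have h2 : (h' * h⁻¹)⁻¹ ∈ Y := by
          have e2 : (k⁻¹ * a * h⁻¹)⁻¹ * ((k⁻¹ * a * h⁻¹) * (h' * h⁻¹)⁻¹) = (h' * h⁻¹)⁻¹ := by group
          rwa [e2] at this
        simpa using Y.inv_mem h2
      · intro h1
        exact Y.mul_mem hR (Y.inv_mem h1))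
    (by
      -- hV
      rintro ⟨k, hk⟩ ⟨k', hk'⟩ ⟨h, hh⟩ hR
      simp only at hR ⊢
      rw [Subgroup.mem_subgroupOf]
      simp only [Subgroup.coe_mul, Subgroup.coe_inv]
      have e1 : k'⁻¹ * a * h⁻¹ = (k⁻¹ * k')⁻¹ * (k⁻¹ * a * h⁻¹) := by group
      rw [e1]
      constructor
      · intro h1
        have := Y.mul_mem h1 (Y.inv_mem hR)
        have h2 : (k⁻¹ * k')⁻¹ ∈ Y := by
          have e2 : (k⁻¹ * k')⁻¹ * (k⁻¹ * a * h⁻¹) * (k⁻¹ * a * h⁻¹)⁻¹ = (k⁻¹ * k')⁻¹ := by group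
          rwa [e2] at this
        simpa using Y.inv_mem h2
      · intro h1
        exact Y.mul_mem (Y.inv_mem h1) hR)
  -- untwist `B`
  have eB : {h : ↥(Fix σ) // (h : X)⁻¹ * x * (h : X) ∈ Y} ≃ {h : ↥(Fix σ) // (h : X) * x * (h : X)⁻¹ ∈ Y} :=
    { toFun := fun h => ⟨h.1⁻¹, by simpa using h.2⟩
      invFun := fun h => ⟨h.1⁻¹, by simpa using h.2⟩
      left_inv := by intro h; simp
      right_inv := by intro h; simp }
  rw [cU, cV] at main
  rw [Nat.card_congr eB]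
  exact main

end Cfsg.Agent.S2669
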