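import Mathlib
import Cfsg.Statements.S2674
import Cfsg.Agent.Lib.Helper5.QuadSign.Main

set_option autoImplicit false
open Cfsg

namespace Cfsg.Agent.S2674

/-- Number of conjugacy classes of elements of odd prime order r ≠ p in the orthogonal group O⁺_2m(q) of Σ x_j y_j (m ≥ 1): with i the multiplicative order of q mod r and t = (r − 1)/i — if i is odd, C(⌊m/i⌋ + t/2, t/2) − 1; if i is even, C(⌊2m/i⌋ + t, t) − 1 minus, when i divides 2m with odd quotient, the C(2m/i + t − 1, t − 1) tuples using the whole space (an odd number of elliptic i-blocks fills an elliptic, not a hyperbolic, space). -/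
theorem result {F : Type*} [Field F] [Fintype F] {p q : ℕ} [Fact p.Prime] [CharP F p] (hF : Fintype.card F = q) (m r i t : ℕ) (hm : 1 ≤ m) (hr : r.Prime) (hr2 : r ≠ 2) (hrp : r ≠ p) (hi : i = orderOf (q : ZMod r)) (ht : t * i = r - 1) : Nat.card {C : ConjClasses ↥(Cfsg.isometryGroup F (Cfsg.quadFormPlus m F)) // ∃ g : ↥(Cfsg.isometryGroup F (Cfsg.quadFormPlus m F)), ConjClasses.mk g = C ∧ orderOf g = r} = if Odd i then Nat.choose (m / i + t / 2) (t / 2) - 1 else Nat.choose (2 * m / i + t) t - 1 - (if i ∣ 2 * m ∧ Odd (2 * m / i) then Nat.choose (2 * m / i + t - 1) (t - 1) else 0) := by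
  have hcard : Fintype.card (Fin m ⊕ Fin m) = 2 * m := by
    rw [Fintype.card_sum, Fintype.card_fin]
    ring
  by_cases hodd : Odd i
  · rw [if_pos hodd]
    exact Cfsg.Agent.Lib.Helper5.QuadSign.card_plus_odd_classes p hF m r i t hr hr2 hrp hi ht hodd
  · rw [if_neg hodd]
    have hev : Even i := Nat.not_odd_iff_even.mp hodd
    have h := Cfsg.Agent.Lib.Helper5.QuadSign.card_even_classes p hF
      (Cfsg.Agent.Lib.Helper5.QuadSign.qPlus m) (Cfsg.Agent.Lib.Helper5.QuadSign.nd_qPlus m) m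
      (by omega) hcard 1 (Or.inl rfl) (Cfsg.Agent.Lib.Helper5.QuadSign.hasSign_qPlus m)
      r i t hr hr2 hrp hi ht hev
    have hc : (i ∣ 2 * m ∧ (-1 : ℤ) ^ (2 * m / i) ≠ 1) ↔ (i ∣ 2 * m ∧ Odd (2 * m / i)) := by
      rw [Ne, neg_one_pow_eq_one_iff_even (by norm_num), Nat.not_even_iff_odd]
    rw [if_congr hc rfl rfl] at h
    exact h

end Cfsg.Agent.S2674
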