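import Cfsg.Statements.S2680
import Mathlib
import Cfsg.Agent.Lib.Helper6.SpCent2

set_option autoImplicit false
open Cfsg

namespace Cfsg.Agent.S2680

open Matrix Module Cfsg.Agent.Lib.Helper5 Cfsg.Agent.Lib.Helper5.SympTv
  Cfsg.Agent.Lib.Helper5.SympBridge Cfsg.Agent.Lib.Helper6.SpInv2
  Cfsg.Agent.Lib.Helper6.MatCount Cfsg.Agent.Lib.Helper6.SpCentArith Cfsg.Agent.Lib.Helper6.ONCount
  Cfsg.Agent.Lib.Helper6.SpInvCount Cfsg.Agent.Lib.Helper6.SpCent

/-- Centraliser order of an involution t of Sp_2m(q), q even, with s = rank(t − 1) odd (type b_s): |C(t)| = q^(2ms − (3s² − s)/2) · |Sp_(s−1)(q)| · |Sp_(2m−2s)(q)|, where |Sp_2k(q)| = q^(k²) Π_(i=1)^k (q^(2i) − 1). -/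
theorem result {F : Type*} [Field F] [Fintype F] [CharP F 2] {q : ℕ} (hF : Fintype.card F = q) {m s : ℕ} (t : Matrix.symplecticGroup (Fin m) F) (ht : t ^ 2 = 1) (hs : ((t : Matrix (Fin m ⊕ Fin m) (Fin m ⊕ Fin m) F) - 1).rank = s) (hodd : Odd s) : Nat.card ↥(Subgroup.centralizer ({t} : Set ↥(Matrix.symplecticGroup (Fin m) F))) = q ^ (2 * m * s - (3 * s ^ 2 - s) / 2) * ((q : ℕ) ^ (((s - 1) / 2) ^ 2) * ∏ i : Fin ((s - 1) / 2), (q ^ (2 * ((i : ℕ) + 1)) - 1)) * ((q : ℕ) ^ ((m - s) ^ 2) * ∏ i : Fin (m - s), (q ^ (2 * ((i : ℕ) + 1)) - 1)) := by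
  subst hF
  have ha : t * t = 1 := by rw [← pow_two]; exact ht
  rw [rank_eq] at hs
  have hna : ∃ v, sympForm m F v (act t v) ≠ 0 := by
    by_contra hcon
    push Not at hcon
    have ht1 : t ≠ 1 := by
      rintro rfl
      have h0 : finrank F (LinearMap.range (Nl (1 : ↥(symplecticGroup (Fin m) F)))) = 0 := by
        rw [Submodule.finrank_eq_zero, LinearMap.range_eq_bot]
        apply LinearMap.ext
        intro x
        rw [Nl_apply, act_one, sub_self]
        rfl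
      rw [h0] at hs
      rw [← hs] at hodd
      exact absurd hodd (by decide)
    obtain ⟨-, -, h3⟩ := inv_bounds t ha ht1
    have := h3 hcon
    rw [hs] at this
    exact (Nat.not_even_iff_odd.mpr hodd) this
  rw [card_cent_nonalt t ha hna hs]
  obtain ⟨k, hk⟩ := hodd
  have hk' : (s - 1) / 2 = k := by omega
  rw [hk', spOrd_fin, spOrd_fin]
  have h1 : onCount (Fintype.card F) s = spOrd (Fintype.card F) k := by
    rw [hk]; exact (onCount_closed _ k).1
  rw [h1]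
  rfl

end Cfsg.Agent.S2680
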