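import Cfsg.Statements.S2682
import Mathlib
import Cfsg.Agent.Lib.Helper6.SpCent2

set_option autoImplicit false
open Cfsg

namespace Cfsg.Agent.S2682

open Matrix Module Cfsg.Agent.Lib.Helper5 Cfsg.Agent.Lib.Helper5.SympTv
  Cfsg.Agent.Lib.Helper5.SympBridge Cfsg.Agent.Lib.Helper6.SpInv2
  Cfsg.Agent.Lib.Helper6.MatCount Cfsg.Agent.Lib.Helper6.SpCentArith Cfsg.Agent.Lib.Helper6.ONCount
  Cfsg.Agent.Lib.Helper6.SpInvCount Cfsg.Agent.Lib.Helper6.SpCent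

/-- Centraliser order of an involution t of Sp_2m(q), q even, with s = rank(t − 1) even and f(v, tv) ≠ 0 for some v, f the symplectic form (type c_s): |C(t)| = q^(2ms − (3s² − 3s)/2 − 1) · |Sp_(s−2)(q)| · |Sp_(2m−2s)(q)|. -/
theorem result {F : Type*} [Field F] [Fintype F] [CharP F 2] {q : ℕ} (hF : Fintype.card F = q) {m s : ℕ} (t : Matrix.symplecticGroup (Fin m) F) (ht : t ^ 2 = 1) (hs : ((t : Matrix (Fin m ⊕ Fin m) (Fin m ⊕ Fin m) F) - 1).rank = s) (heven : Even s) (hna : ∃ v : Fin m ⊕ Fin m → F, Cfsg.sympForm m F v ((t : Matrix (Fin m ⊕ Fin m) (Fin m ⊕ Fin m) F).mulVec v) ≠ 0) : Nat.card ↥(Subgroup.centralizer ({t} : Set ↥(Matrix.symplecticGroup (Fin m) F))) = q ^ (2 * m * s - (3 * s ^ 2 - 3 * s) / 2 - 1) * ((q : ℕ) ^ (((s - 2) / 2) ^ 2) * ∏ i : Fin ((s - 2) / 2), (q ^ (2 * ((i : ℕ) + 1)) - 1)) * ((q : ℕ) ^ ((m - s) ^ 2) * ∏ i : Fin (m - s), (q ^ (2 * ((i : ℕ) + 1)) - 1)) :=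 by
  subst hF
  have ha : t * t = 1 := by rw [← pow_two]; exact ht
  rw [rank_eq] at hs
  have hna' : ∃ v, sympForm m F v (act t v) ≠ 0 := hna
  have ha1 := ne_one_of_nonalt t hna'
  obtain ⟨hs1, hsm, -⟩ := inv_bounds t ha ha1
  rw [hs] at hs1 hsm
  rw [card_cent_nonalt t ha hna' hs]
  obtain ⟨k', hk'⟩ := heven
  obtain ⟨k, rfl⟩ : ∃ k, k' = k + 1 := ⟨k' - 1, by omega⟩
  have hsk : s = 2 * k + 2 := by omega
  have hk2 : (s - 2) / 2 = k := by omega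
  rw [hk2, spOrd_fin, spOrd_fin]
  have h1 : onCount (Fintype.card F) s = Fintype.card F ^ (2 * k + 1) * spOrd (Fintype.card F) k := by
    rw [hsk]; exact (onCount_closed _ k).2
  rw [h1]
  have hT : (3 * s ^ 2 - 3 * s) / 2 + s = T s := by
    unfold T
    have h3 : 3 * s ≤ 3 * s ^ 2 := by nlinarith
    have h4 : 3 * s ^ 2 - s = (3 * s ^ 2 - 3 * s) + 2 * s := by
      generalize s ^ 2 = x at *
      omega
    rw [h4, Nat.add_mul_div_left _ _ (by norm_num : 0 < 2)]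
  have hT2 := T_le s m hsm
  have hexp : 2 * m * s - (3 * s ^ 2 - 3 * s) / 2 - 1 = (2 * m * s - T s) + (2 * k + 1) := by
    omega
  rw [hexp, pow_add]
  ring

end Cfsg.Agent.S2682
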