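import Cfsg.Statements.S2683
import Mathlib
import Cfsg.Agent.Lib.Helper6.OrthCentStmt

set_option autoImplicit false
open Cfsg

namespace Cfsg.Agent.S2683

open Cfsg.Agent.Lib.Helper5 Cfsg.Agent.Lib.Helper6.OrthCent Cfsg.Agent.Lib.Helper6.OrthCentArith
  Cfsg.Agent.Lib.Helper6.MatCount Cfsg.Agent.Lib.Helper6.ONCount Cfsg.Agent.Lib.Helper6.SpCentArith

/-- For the hyperbolic form Σ x_j y_j on F^(2m) over a finite field with q elements, q even (excluding m = 2 over the field of two elements), and an involution x of the orthogonal group with s = rank(x − 1) odd (type b_s; such x lie outside Ω): the elements of Ω (the commutator subgroup of the orthogonal group) commuting with x number q^(2m(s−1) − (3s² − 3s)/2) · |Sp_(s−1)(q)| · |Sp_(2m−2s)(q)|, where |Sp_2k(q)| = q^(k²) Π_(i=1)^k (q^(2i) − 1). -/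
theorem result {F : Type*} [Field F] [Fintype F] [CharP F 2] {q : ℕ} (hF : Fintype.card F = q) {m s : ℕ} (h : Fintype.card F ≠ 2 ∨ m ≠ 2) (x : ↥(Cfsg.isometryGroup F (Cfsg.quadFormPlus m F))) (hx : x ^ 2 = 1) (hs : (((x : Matrix.GeneralLinearGroup (Fin m ⊕ Fin m) F) : Matrix (Fin m ⊕ Fin m) (Fin m ⊕ Fin m) F) - 1).rank = s) (hodd : Odd s) : Nat.card {g : ↥(Cfsg.Omega F (Cfsg.quadFormPlus m F)) // (g : ↥(Cfsg.isometryGroup F (Cfsg.quadFormPlus m F))) * x = x * (g : ↥(Cfsg.isometryGroup F (Cfsg.quadFormPlus m F)))} = q ^ (2 * m * (s - 1) - (3 * s ^ 2 - 3 * s) / 2) * ((q : ℕ) ^ (((s - 1) / 2) ^ 2) * ∏ i : Fin ((s - 1) / 2), (q ^ (2 * ((i : ℕ) + 1)) - 1)) * ((q : ℕ) ^ ((m - s) ^ 2) * ∏ i : Fin (m - s), (q ^ (2 * ((i : ℕ) + 1)) - 1)) := by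
  subst hF
  have hna : ∃ v : Fin m ⊕ Fin m → F, Cfsg.quadFormPlus m F
      ((((x : Matrix.GeneralLinearGroup (Fin m ⊕ Fin m) F) :
        Matrix (Fin m ⊕ Fin m) (Fin m ⊕ Fin m) F) - 1).mulVec v) ≠ 0 := by
    by_contra hcon
    push Not at hcon
    rcases Nat.eq_zero_or_pos m with hm | hm
    · subst hm
      have h1 := Matrix.rank_le_card_width (((x : Matrix.GeneralLinearGroup (Fin 0 ⊕ Fin 0) F) :
        Matrix (Fin 0 ⊕ Fin 0) (Fin 0 ⊕ Fin 0) F) - 1)
      rw [hs] at h1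
      simp at h1
      subst h1
      exact absurd hodd (by decide)
    · obtain ⟨k, hk, -, -⟩ := stmt_A m _ (coe_plusForm m) h x hx hm hs hcon
      obtain ⟨j, hj⟩ := hodd
      omega
  obtain ⟨s', hs', hsm, hC⟩ := stmt_B m _ (coe_plusForm m) h x hx hs hna
  rw [hC]
  obtain ⟨k, hk⟩ : ∃ k, s' = 2 * k := by
    obtain ⟨j, hj⟩ := hodd
    exact ⟨j, by omega⟩
  have e1 : (s - 1) / 2 = k := by omega
  have e2 : s - 1 = s' := by omega
  have e3 : onCount (Fintype.card F) s = spOrd (Fintype.card F) k := by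
    rw [hs', hk]
    exact (onCount_closed _ k).1
  rw [e1, e2, e3, spOrd_fin, spOrd_fin, hs']
  rfl

end Cfsg.Agent.S2683
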