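import Cfsg.Statements.S2684
import Mathlib
import Cfsg.Agent.Lib.Helper6.OrthCentStmt

set_option autoImplicit false
open Cfsg

namespace Cfsg.Agent.S2684

open Cfsg.Agent.Lib.Helper5 Cfsg.Agent.Lib.Helper6.OrthCent Cfsg.Agent.Lib.Helper6.OrthCentArith
  Cfsg.Agent.Lib.Helper6.MatCount Cfsg.Agent.Lib.Helper6.ONCount Cfsg.Agent.Lib.Helper6.SpCentArith

/-- For the hyperbolic form Q = Σ x_j y_j on F^(2m) over a finite field with q elements, q even (excluding m = 2 over the field of two elements), and an involution x ≠ 1 of the orthogonal group with s = rank(x − 1) even and Q vanishing on the image of x − 1 (equivalently f(v, xv) = 0 for all v, where f(u, w) = Q(u + w) − Q(u) − Q(w) is the bilinear form of Q; type a_s, which lies in Ω): its centraliser in Ω (the commutator subgroup of the orthogonal group) has order q^(2ms − (3s² + s)/2) · |Sp_s(q)| · |Ω⁺_(2m−2s)(q)|, where |Ω⁺_2k(q)| = q^(k(k−1)) (q^k − 1) Π_(i=1)^(k−1) (q^(2i)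 − 1) for k ≥ 1 and the last factor is 1 when s = m. -/
theorem result {F : Type*} [Field F] [Fintype F] [CharP F 2] {q : ℕ} (hF : Fintype.card F = q) {m s : ℕ} (h : Fintype.card F ≠ 2 ∨ m ≠ 2) (x : ↥(Cfsg.isometryGroup F (Cfsg.quadFormPlus m F))) (hx : x ^ 2 = 1) (hx1 : x ≠ 1) (hs : (((x : Matrix.GeneralLinearGroup (Fin m ⊕ Fin m) F) : Matrix (Fin m ⊕ Fin m) (Fin m ⊕ Fin m) F) - 1).rank = s) (heven : Even s) (halt : ∀ v : Fin m ⊕ Fin m → F, Cfsg.quadFormPlus m F ((((x : Matrix.GeneralLinearGroup (Fin m ⊕ Fin m) F) : Matrix (Fin m ⊕ Fin m) (Fin m ⊕ Fin m) F) - 1).mulVec v) = 0) : Nat.card {g : ↥(Cfsg.Omega F (Cfsg.quadFormPlus m F)) // (g : ↥(Cfsg.isometryGroup F (Cfsg.quadFormPlus m F))) * x = x * (g : ↥(Cfsg.isometryGroup F (Cfsg.quadFormPlus m F)))} = q ^ (2 * m * s - (3 * s ^ 2 + s) / 2) * ((q : ℕ) ^ ((s / 2) ^ 2) * ∏ i : Fin (s / 2), (q ^ (2 * ((i : ℕ) + 1)) - 1)) * (if s = m then 1 else q ^ ((m - s) * (m - s - 1)) * (q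 ^ (m - s) - 1) * ∏ i : Fin (m - s - 1), (q ^ (2 * ((i : ℕ) + 1)) - 1)) := by
  subst hF
  have hm : 1 ≤ m := by
    by_contra hm0
    have hm0' : m = 0 := by omega
    subst hm0'
    apply hx1
    apply Subtype.ext
    apply Units.ext
    exact Subsingleton.elim _ _
  obtain ⟨k, hk, hsm, hC⟩ := stmt_A m _ (coe_plusForm m) h x hx hm hs halt
  have e1 : s / 2 = k := by omega
  have hTA : TA s = (3 * s ^ 2 + s) / 2 := rfl
  rw [e1, spOrd_fin, ← hTA]
  by_cases hsm' : s = m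
  · rw [if_pos hsm'] at hC ⊢
    rw [mul_one] at hC ⊢
    rw [hC, hsm', Nat.sub_self]
    unfold oP
    rw [Finset.range_zero, Finset.prod_empty, mul_one]
  · rw [if_neg hsm'] at hC ⊢
    obtain ⟨j, hj⟩ : ∃ j, m - s = j + 1 := ⟨m - s - 1, by omega⟩
    have e2 : m - s - 1 = j := by omega
    rw [hj, oP_closed _ Fintype.card_pos j] at hC
    rw [e2, hj]
    apply Nat.eq_of_mul_eq_mul_right (by norm_num : 0 < 2)
    rw [hC, ← Finset.prod_range (fun i => Fintype.card F ^ (2 * (i + 1)) - 1)]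
    ring

end Cfsg.Agent.S2684
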