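import Cfsg.Statements.S2685
import Mathlib
import Cfsg.Agent.Lib.Helper6.OrthCentStmt

set_option autoImplicit false
open Cfsg

namespace Cfsg.Agent.S2685

open Cfsg.Agent.Lib.Helper5 Cfsg.Agent.Lib.Helper6.OrthCent Cfsg.Agent.Lib.Helper6.OrthCentArith
  Cfsg.Agent.Lib.Helper6.MatCount Cfsg.Agent.Lib.Helper6.ONCount Cfsg.Agent.Lib.Helper6.SpCentArith

/-- For the hyperbolic form Q = Σ x_j y_j on F^(2m) over a finite field with q elements, q even (excluding m = 2 over the field of two elements), and an involution x of the orthogonal group with s = rank(x − 1) even and Q not vanishing on the image of x − 1 (f(v, xv) ≠ 0 for some v, where f(u, w) = Q(u + w) − Q(u) − Q(w) is the bilinear form of Q; type c_s, which lies in Ω): its centraliser in Ω (the commutator subgroup of the orthogonal group) has order q^(2m(s−1) − (3s² − 5s)/2 − 1) · |Sp_(s−2)(q)| · |Sp_(2m−2s)(q)|. -/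
theorem result {F : Type*} [Field F] [Fintype F] [CharP F 2] {q : ℕ} (hF : Fintype.card F = q) {m s : ℕ} (h : Fintype.card F ≠ 2 ∨ m ≠ 2) (x : ↥(Cfsg.isometryGroup F (Cfsg.quadFormPlus m F))) (hx : x ^ 2 = 1) (hs : (((x : Matrix.GeneralLinearGroup (Fin m ⊕ Fin m) F) : Matrix (Fin m ⊕ Fin m) (Fin m ⊕ Fin m) F) - 1).rank = s) (heven : Even s) (hna : ∃ v : Fin m ⊕ Fin m → F, Cfsg.quadFormPlus m F ((((x : Matrix.GeneralLinearGroup (Fin m ⊕ Fin m) F) : Matrix (Fin m ⊕ Fin m) (Fin m ⊕ Fin m) F) - 1).mulVec v) ≠ 0) : Nat.card {g : ↥(Cfsg.Omega F (Cfsg.quadFormPlus m F)) // (g : ↥(Cfsg.isometryGroup F (Cfsg.quadFormPlus m F))) * x = x * (g : ↥(Cfsg.isometryGroup F (Cfsg.quadFormPlus m F)))} = q ^ (2 * m * (s - 1) - (3 * s ^ 2 - 5 * s) / 2 - 1) * ((q : ℕ) ^ (((s - 2) / 2) ^ 2) * ∏ i : Fin ((s - 2) / 2), (q ^ (2 * ((i : ℕ) + 1)) - 1)) * ((q : ℕ) ^ ((m - s) ^ 2) * ∏ i : Fin (m - s), (q ^ (2 * ((i : ℕ) + 1)) - 1)) := by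
  subst hF
  obtain ⟨s', hs', hsm, hC⟩ := stmt_B m _ (coe_plusForm m) h x hx hs hna
  rw [hC]
  obtain ⟨k, hk⟩ : ∃ k, s' = 2 * k + 1 := by
    obtain ⟨j, hj⟩ := heven
    exact ⟨j - 1, by omega⟩
  have e1 : (s - 2) / 2 = k := by omega
  have e3 : onCount (Fintype.card F) s =
      Fintype.card F ^ (2 * k + 1) * spOrd (Fintype.card F) k := by
    rw [hs', hk]
    exact (onCount_closed _ k).2
  have hTB : TB (s' + 1) = 6 * k ^ 2 + 9 * k + 3 := by
    rw [hk]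
    unfold TB
    have : 3 * (2 * k + 1 + 1) ^ 2 - 3 * (2 * k + 1 + 1) = 2 * (6 * k ^ 2 + 9 * k + 3) := by
      have : 3 * (2 * k + 1 + 1) ^ 2 = 12 * k ^ 2 + 24 * k + 12 := by ring
      rw [this]
      generalize k ^ 2 = y
      omega
    rw [this, Nat.mul_div_cancel_left _ (by norm_num : 0 < 2)]
  have h35 : (3 * s ^ 2 - 5 * s) / 2 = 6 * k ^ 2 + 7 * k + 1 := by
    rw [hs', hk]
    have : 3 * (2 * k + 1 + 1) ^ 2 - 5 * (2 * k + 1 + 1) = 2 * (6 * k ^ 2 + 7 * k + 1) := by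
      have : 3 * (2 * k + 1 + 1) ^ 2 = 12 * k ^ 2 + 24 * k + 12 := by ring
      rw [this]
      generalize k ^ 2 = y
      omega
    rw [this, Nat.mul_div_cancel_left _ (by norm_num : 0 < 2)]
  have hle := TB_le s' m (by omega)
  have hexp : 2 * m * s' - TB (s' + 1) + (2 * k + 1) =
      2 * m * (s - 1) - (3 * s ^ 2 - 5 * s) / 2 - 1 := by
    rw [h35]
    rw [hTB] at hle ⊢
    have e2 : s - 1 = s' := by omega
    rw [e2]
    generalize 2 * m * s' = X at *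
    generalize k ^ 2 = y at *
    omega
  rw [e1, e3, spOrd_fin, spOrd_fin, ← hexp, pow_add]
  ring

end Cfsg.Agent.S2685
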