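import Cfsg.Statements.S2686
import Cfsg.Agent.Lib.Helper6.LbgZ

set_option autoImplicit false
open Cfsg

namespace Cfsg.Agent.S2686

open Matrix Cfsg.Agent.Lib.Helper9.APSL Cfsg.Agent.Lib.Helper9.ALB Cfsg.Agent.Lib.Helper5.PslGraph Cfsg.Agent.Lib.Helper6.Lbg
theorem ofAdd_one_ne_one : Multiplicative.ofAdd (1 : ZMod 2) ≠ 1 := by decide


/-- A criterion for the failure of local balance in almost simple groups with linear socle. Let F be a finite field of characteristic r and K = PSL_n(F) (n ≥ 2) simple. Let A be a group of automorphisms of K containing all inner automorphisms (an almost simple group with socle K), and β ∈ A an automorphism of prime order p ≠ r that is not inner-diagonal (not induced by conjugation by an invertible matrix). Then the largest normal subgroup of C_A(β) of order prime to p is nontrivial if and only if β is the composite of an inner-diagonal automorphism with the automorphism induced by a field automorphism applied entrywise (β is of field type) and p does not divide the number of fixed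 points of β on K. -/
theorem result
    (F : Type*) [Field F] [Fintype F] (r : ℕ) [Fact r.Prime] [CharP F r] (n : ℕ) (hn : 2 ≤ n)
    (hK : IsSimpleGroup (Matrix.ProjectiveSpecialLinearGroup (Fin n) F))
    (𝒢 : Subgroup (MulAut (Matrix.ProjectiveSpecialLinearGroup (Fin n) F))) (hinn : ∀ k : Matrix.ProjectiveSpecialLinearGroup (Fin n) F, MulAut.conj k ∈ 𝒢)
    (p : ℕ) [Fact p.Prime] (hpr : p ≠ r) (β : MulAut (Matrix.ProjectiveSpecialLinearGroup (Fin n) F)) (hβ : β ∈ 𝒢) (hord : orderOf β = p)
    (hnot : ¬ Cfsg.IsInnerDiagonalAutPSL β) :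
    Cfsg.pPrimeCore p ↥(𝒢 ⊓ Subgroup.centralizer {β}) ≠ ⊥ ↔
      ((∃ γ φ : MulAut (Matrix.ProjectiveSpecialLinearGroup (Fin n) F), Cfsg.IsInnerDiagonalAutPSL γ ∧ Cfsg.IsFieldAutPSL φ ∧ β = φ.trans γ) ∧
        Nat.Coprime p (Nat.card ↥(MonoidHom.eqLocus β.toMonoidHom (MonoidHom.id (Matrix.ProjectiveSpecialLinearGroup (Fin n) F))))) := by
  have hfieldcase : ∀ (g : GL (Fin n) F) (σ : F ≃+* F),
      β = liftAut (conjSL g) * liftAut (fieldSL σ) →
      (Cfsg.pPrimeCore p ↥(𝒢 ⊓ Subgroup.centralizer {β}) ≠ ⊥ ↔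
      ((∃ γ φ : MulAut (Matrix.ProjectiveSpecialLinearGroup (Fin n) F),
          Cfsg.IsInnerDiagonalAutPSL γ ∧ Cfsg.IsFieldAutPSL φ ∧ β = φ.trans γ) ∧
        Nat.Coprime p (Nat.card ↥(MonoidHom.eqLocus β.toMonoidHom
          (MonoidHom.id (Matrix.ProjectiveSpecialLinearGroup (Fin n) F)))))) := by
    intro g σ hβ'
    have hβ'' : β = cG g * fld σ := hβ'
    subst hβ''
    have hmain := main_field r hn 𝒢 hinn p hpr g σ hord hnot
    constructor
    · intro h
      exact ⟨⟨cG g, fld σ, isInnerDiagonal_liftAut g, ⟨σ, isStdField_liftAut σ⟩, rfl⟩,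
        hmain.mp h⟩
    · intro h
      exact hmain.mpr h.2
  rcases Nat.lt_or_ge 2 n with h3 | h2
  · have hn3 : 3 ≤ n := h3
    obtain ⟨g, σ, h1 | h1⟩ := aut_PSL_std r hn β
    · exact hfieldcase g σ h1
    · have h1' : β = cG g * fld σ * gam := h1
      have heps : epsHom r hn3 β = Multiplicative.ofAdd 1 := by
        rw [h1', map_mul, map_mul, epsHom_cG, epsHom_fld, epsHom_gam, one_mul, one_mul]
      have hp2 : p = 2 := by
        have h5 : (epsHom r hn3 β) ^ p = 1 := by
          rw [← map_pow, ← hord, pow_orderOf_eq_one, map_one]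
        rw [heps] at h5
        have h6 : ((p : ℕ) : ZMod 2) = 0 := by
          have := congrArg Multiplicative.toAdd h5
          simpa using this
        have h7 : 2 ∣ p := (ZMod.natCast_eq_zero_iff p 2).mp h6
        exact ((Nat.prime_dvd_prime_iff_eq Nat.prime_two (Fact.out : p.Prime)).mp h7).symm
      subst hp2
      have hr2 : r ≠ 2 := fun h => hpr h.symm
      constructor
      · intro hne
        exfalso
        apply hne
        rw [h1']
        exact main_graph r hn3 𝒢 hinn hr2 g σ (by rw [← h1']; exact hord)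
      · rintro ⟨⟨γ, φ, hγ, hφ, hβγ⟩, -⟩
        exfalso
        obtain ⟨g', hg'⟩ := eq_cG_of_innerDiagonal hγ
        obtain ⟨τ, hτ⟩ := hφ
        have hφ' : φ = fld τ := eq_fld_of_stdField hτ
        have h6 : epsHom r hn3 β = 1 := by
          rw [hβγ, hg', hφ']
          show epsHom r hn3 (cG g' * fld τ) = 1
          rw [map_mul, epsHom_cG, epsHom_fld, one_mul]
        rw [heps] at h6
        exact ofAdd_one_ne_one h6
  · have h2' : n = 2 := le_antisymm h2 hn
    subst h2'
    obtain ⟨g, σ, h1⟩ := aut_eq_std_plane r β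
    exact hfieldcase g σ h1

end Cfsg.Agent.S2686
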