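import Cfsg.Statements.S2687
import Cfsg.Agent.Lib.Helper2.LbuJ

set_option autoImplicit false
open Cfsg

namespace Cfsg.Agent.S2687

open Cfsg.Agent.Lib.Helper9.APSU Cfsg.Agent.Lib.Helper2.Lbu

/-- A criterion for the failure of local balance in almost simple groups with unitary socle. Let F be a finite field of characteristic r with q² elements and K = PSU_n(q) (n ≥ 3, the central quotient of the determinant-one isometries of the standard Hermitian form) simple. Let A be a group of automorphisms of K containing all inner automorphisms, and β ∈ A an automorphism of prime order p ≠ r that is not inner-diagonal (not induced by conjugation by a matrix of the general unitary group). Then the largest normal subgroup of C_A(β) of order prime to p is nontrivial if and only if β is the composite of an inner-diagonal automorphism with the automorphism induced by a field automorphism of F applied entrywise and p does not divide the number of fixed points of β on K. -/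
theorem result
    (F : Type*) [Field F] [Fintype F] (r : ℕ) [Fact r.Prime] [CharP F r] (q : ℕ) (hF : Fintype.card F = q ^ 2)
    (n : ℕ) (hn : 3 ≤ n) (hK : IsSimpleGroup (Cfsg.PSU n F q))
    (𝒢 : Subgroup (MulAut (Cfsg.PSU n F q))) (hinn : ∀ k : Cfsg.PSU n F q, MulAut.conj k ∈ 𝒢)
    (p : ℕ) [Fact p.Prime] (hpr : p ≠ r) (β : MulAut (Cfsg.PSU n F q)) (hβ : β ∈ 𝒢) (hord : orderOf β = p)
    (hnot : ¬ Cfsg.IsInnerDiagonalAutPSU β) :
    Cfsg.pPrimeCore p ↥(𝒢 ⊓ Subgroup.centralizer {β}) ≠ ⊥ ↔
      ((∃ γ φ : MulAut (Cfsg.PSU n F q), Cfsg.IsInnerDiagonalAutPSU γ ∧ (∃ σ : F ≃+* F, Cfsg.IsFieldAutPSUOf σ φ) ∧ β = φ.trans γ) ∧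
        Nat.Coprime p (Nat.card ↥(MonoidHom.eqLocus β.toMonoidHom (MonoidHom.id (Cfsg.PSU n F q))))) := by
  have h32 : ¬ (n = 3 ∧ q = 2) := by
    rintro ⟨rfl, rfl⟩
    obtain ⟨N, hN, hN9, -, -⟩ := Cfsg.Agent.Lib.Helper5.SU32b.main hF
    rcases hN.eq_bot_or_eq_top with h | h
    · rw [h, Subgroup.card_bot] at hN9
      omega
    · rw [h, Subgroup.card_top, Cfsg.Agent.Lib.Helper5.SU32b.card_G hF] at hN9
      omega
  obtain ⟨σ, g, rfl⟩ := exists_std hF n hn h32 r β
  have hex : ∃ γ φ : MulAut (Cfsg.PSU n F q), Cfsg.IsInnerDiagonalAutPSU γ ∧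
      (∃ σ' : F ≃+* F, Cfsg.IsFieldAutPSUOf σ' φ) ∧
      (cU n g * fU n σ : MulAut (Cfsg.PSU n F q)) = φ.trans γ :=
    ⟨cU n g, fU n σ, isInnerDiagonal_cU n g, ⟨σ, isFieldAut_fU n σ⟩, rfl⟩
  rcases Nat.Prime.eq_two_or_odd' (Fact.out : p.Prime) with h2 | hodd
  · subst h2
    have hr2 : r ≠ 2 := fun h => hpr h.symm
    have hσ1 : σ ≠ 1 := by
      intro h
      apply hnot
      rw [h, map_one, mul_one]
      exact isInnerDiagonal_cU n g
    have hcore := main_graphU hF n hn h32 r hr2 𝒢 hinn g σ hord hσ1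
    have h2F : (2 : F) ≠ 0 := by
      intro h
      have h3 : ((2 : ℕ) : F) = 0 := by exact_mod_cast h
      rw [CharP.cast_eq_zero_iff F r 2] at h3
      exact hr2 ((Nat.prime_dvd_prime_iff_eq (Fact.out : r.Prime) Nat.prime_two).mp h3)
    have hdvd := two_dvd_card_fixPU hF n hn h2F (cU n g * fU n σ) (by
      rw [← pow_two, ← hord]
      exact pow_orderOf_eq_one _)
    constructor
    · intro h
      exact absurd hcore h
    · rintro ⟨-, hc⟩
      exfalso
      exact (Nat.Prime.coprime_iff_not_dvd Nat.prime_two).mp hc hdvd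
  · have hmain := main_fieldU hF n hn h32 r 𝒢 hinn p hodd g σ hord hnot
    constructor
    · intro h
      exact ⟨hex, hmain.mp h⟩
    · intro h
      exact hmain.mpr h.2

end Cfsg.Agent.S2687
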