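import Cfsg.Statements.S2689
import Cfsg.Agent.Lib.Helper9.APSL15

set_option autoImplicit false
open Cfsg

namespace Cfsg.Agent.S2689

/-- The automorphism group of a simple projective special linear group PSL_n(F) over a finite field (n ≥ 2; |F| ≥ 4 when n = 2) is generated by the automorphisms induced by invertible semilinear maps of F^n (the image of the projective semilinear group) together with the inverse-transpose automorphism. -/
theorem result {F : Type*} [Field F] [Fintype F] {p f : ℕ} [Fact p.Prime] (hF : Fintype.card F = p ^ f) (hf : 1 ≤ f) {n : ℕ} (hn : 2 ≤ n) (hs : n = 2 → 4 ≤ Fintype.card F) :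
    Cfsg.gammaPSL n F ⊔ Cfsg.autSubgroupOf (fun β : Matrix.ProjectiveSpecialLinearGroup (Fin n) F ≃* Matrix.ProjectiveSpecialLinearGroup (Fin n) F => Cfsg.IsInverseTransposeAutPSL β) = ⊤ := by
  haveI : CharP F p := Cfsg.Agent.Lib.Helper9.APSL.charP_of_card p f hF
  rw [eq_top_iff]
  intro β _
  have key : ∀ (g : GL (Fin n) F) (σ : F ≃+* F),
      Cfsg.Agent.Lib.Helper9.APSL.liftAut (Cfsg.Agent.Lib.Helper9.APSL.conjSL g) *
        Cfsg.Agent.Lib.Helper9.APSL.liftAut (Cfsg.Agent.Lib.Helper9.APSL.fieldSL σ)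
          ∈ Cfsg.gammaPSL n F := by
    intro g σ
    apply Subgroup.subset_closure
    refine ⟨g, σ, fun s s' h => ?_⟩
    have : Cfsg.Agent.Lib.Helper9.APSL.liftAut (Cfsg.Agent.Lib.Helper9.APSL.conjSL g)
        (Cfsg.Agent.Lib.Helper9.APSL.liftAut (Cfsg.Agent.Lib.Helper9.APSL.fieldSL σ)
          (Cfsg.Agent.Lib.Helper9.APSL.mkP s)) = Cfsg.Agent.Lib.Helper9.APSL.mkP s' := by
      rw [Cfsg.Agent.Lib.Helper9.APSL.liftAut_mkP, Cfsg.Agent.Lib.Helper9.APSL.liftAut_mkP]
      congr 1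
      apply Subtype.ext
      rw [Cfsg.Agent.Lib.Helper9.APSL.conjSL_coe, Cfsg.Agent.Lib.Helper9.APSL.fieldSL_coe, h]
    exact this
  have hγ : Cfsg.Agent.Lib.Helper9.APSL.liftAut (Cfsg.Agent.Lib.Helper9.APSL.invT (F := F) (n := n))
      ∈ Cfsg.autSubgroupOf (fun β : Matrix.ProjectiveSpecialLinearGroup (Fin n) F ≃*
        Matrix.ProjectiveSpecialLinearGroup (Fin n) F => Cfsg.IsInverseTransposeAutPSL β) :=
    Subgroup.subset_closure Cfsg.Agent.Lib.Helper9.APSL.isInverseTranspose_liftAut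
  obtain ⟨g, σ, h | h⟩ := Cfsg.Agent.Lib.Helper9.APSL.aut_PSL_std p hn β
  · rw [h]
    exact Subgroup.mem_sup_left (key g σ)
  · rw [h]
    exact Subgroup.mul_mem _ (Subgroup.mem_sup_left (key g σ)) (Subgroup.mem_sup_right hγ)

end Cfsg.Agent.S2689
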