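import Cfsg.Statements.S2696
import Cfsg.Agent.Lib.Helper9.AOR23
import Cfsg.Agent.Lib.Helper9.AOR24
import Cfsg.Agent.S2615

set_option autoImplicit false
open Cfsg

namespace Cfsg.Agent.S2696

/-- For m ≥ 3 and a finite field F, the automorphism group of the minus-type group PΩ⁻_{2m+2}(F) (the form Σ xᵢ yᵢ + z₁² + a z₁ z₂ + b z₂² with anisotropic binary part) is generated by the automorphisms induced by the semisimilarities v ↦ g σ(v) of the form, that is, pairs with Q(g σ(v)) = c σ(Q(v)) (the image of the projective semisimilarity group). -/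
theorem result {F : Type*} [Field F] [Fintype F] {m : ℕ} (hm : 3 ≤ m) (a b : F) (hab : ∀ z₁ z₂ : F, z₁ ^ 2 + a * z₁ * z₂ + b * z₂ ^ 2 = 0 → z₁ = 0 ∧ z₂ = 0) :
    Cfsg.gammaPOmega F (Cfsg.quadFormMinus m F a b) = ⊤ := by
  obtain ⟨p, hp⟩ := CharP.exists F
  haveI := hp
  haveI : Fact p.Prime := ⟨CharP.char_is_prime F p⟩
  rw [← Cfsg.Agent.S2615.minus_eq]
  have han := Cfsg.Agent.Lib.Helper5.OrthPlane.anisotropic_of a b hab
  have hnd := Cfsg.Agent.Lib.Helper5.OrthCard.genForm_nondegenerate _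
    (Cfsg.Agent.Lib.Helper5.OrthPlane.binForm_nondegenerate a b han) m
  have hn : Fintype.card ((Fin m ⊕ Fin m) ⊕ Fin 2) = 2 * m + 2 := by
    simp only [Fintype.card_sum, Fintype.card_fin]; omega
  have H := Cfsg.Agent.Lib.Helper5.OmegaSimple.Hyp.of_hypFamily hnd
    (Cfsg.Agent.Lib.Helper5.SpinorHyp2.genForm_hypFamily _ (le_refl m)) hm (by omega)
  refine Cfsg.Agent.Lib.Helper9.AOR.gamma_eq_top p H (by omega) ?_
  intro Y hY hle
  exact (Cfsg.Agent.Lib.Helper9.AOR.no_lagrangian_genForm _ han m hnd Y hY hle).elim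

end Cfsg.Agent.S2696
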