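import Mathlib
import Cfsg.Statements.S2703
import Cfsg.Agent.Lib.Helper5.PslGraph.Cent
import Cfsg.Agent.Lib.Helper5.PslGraph.SumSqType
import Cfsg.Agent.Lib.Helper5.Discriminant

set_option autoImplicit false
open Cfsg

namespace Cfsg.Agent.S2703

/-- Let T = PSL_n(F) over the field with q elements, q odd, n = 2m ≥ 4 even, and ι the inverse-transpose automorphism. Its centralizer in G = Inndiag(T) (the image of PGL_n(F)) is isomorphic to the projective conformal orthogonal group of the plus-type form Σ xᵢ yᵢ in dimension n when n(q − 1)/4 is even, and to that of a minus-type form (Σ xᵢ yᵢ + z₁² + a z₁ z₂ + b z₂² with anisotropic binary part) when n(q − 1)/4 is odd. -/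
theorem result {F : Type*} [Field F] [Fintype F] (hodd : Odd (Fintype.card F)) {n m : ℕ} (hm : 2 ≤ m) (hnm : n = 2 * m) (ι : MulAut (Matrix.ProjectiveSpecialLinearGroup (Fin n) F)) (hι : Cfsg.IsInverseTransposeAutPSL ι) :
    (Even (n * (Fintype.card F - 1) / 4) → Nonempty (↥(Cfsg.inndiagPSL n F ⊓ Subgroup.centralizer {ι}) ≃* Cfsg.PGO F (Cfsg.quadFormPlus m F))) ∧ (¬ Even (n * (Fintype.card F - 1) / 4) → ∃ a b : F, (∀ z₁ z₂ : F, z₁ ^ 2 + a * z₁ * z₂ + b * z₂ ^ 2 = 0 → z₁ = 0 ∧ z₂ = 0) ∧ Nonempty (↥(Cfsg.inndiagPSL n F ⊓ Subgroup.centralizer {ι}) ≃* Cfsg.PGO F (Cfsg.quadFormMinus (m - 1) F a b))) := by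
  classical
  have h2 : (2 : F) ≠ 0 := Cfsg.Agent.Lib.Helper5.two_ne_zero_of_odd_card hodd
  have hι' : ι = Cfsg.Agent.Lib.Helper9.APSL.gam :=
    Cfsg.Agent.Lib.Helper9.APSL.eq_gam_of_inverseTranspose hι
  rw [hι']
  obtain ⟨e0⟩ := Cfsg.Agent.Lib.Helper5.PslGraph.cent_gam_equiv (F := F) (n := n) (by omega) h2
  obtain ⟨t, ht⟩ := hodd
  have hdiv : n * (Fintype.card F - 1) / 4 = m * t := by
    rw [hnm, ht]
    have : 2 * m * (2 * t + 1 - 1) = 4 * (m * t) := by
      rw [Nat.add_sub_cancel]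
      ring
    rw [this, Nat.mul_div_cancel_left _ (by norm_num)]
  rw [hdiv]
  obtain ⟨p, hp⟩ := CharP.exists F
  have hpp : p.Prime := by
    have := hp
    exact CharP.char_is_prime F p
  have : NeZero p := ⟨hpp.ne_zero⟩
  obtain ⟨a, b, hab⟩ := CharP.sq_add_sq F p (-1)
  have hab' : (a : F) * (a : F) + (b : F) * (b : F) = -1 := by
    rw [← pow_two, ← pow_two, hab]
    simp
  by_cases hsq : IsSquare (-1 : F)
  · obtain ⟨i0, hi0⟩ := hsq
    have hq : Fintype.card F % 4 ≠ 3 := FiniteField.isSquare_neg_one_iff.1 ⟨i0, hi0⟩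
    have hte : Even t := by
      rw [Nat.even_iff]
      omega
    constructor
    · intro _
      obtain ⟨e1⟩ := Cfsg.Agent.Lib.Helper5.PslGraph.pgo_sumSq_plus_of_sq h2 n m hnm i0 hi0.symm
      exact ⟨e0.trans e1⟩
    · intro hne
      exact absurd (hte.mul_left m) hne
  · have hq : Fintype.card F % 4 = 3 := by
      by_contra hq
      exact hsq (FiniteField.isSquare_neg_one_iff.2 hq)
    have hto : Odd t := by
      rw [Nat.odd_iff]
      omega
    constructor
    · intro he
      have hme : Even m := by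
        rcases Nat.even_mul.1 he with h | h
        · exact h
        · exact absurd h (Nat.not_even_iff_odd.2 hto)
      obtain ⟨k, hk⟩ := hme
      obtain ⟨e1⟩ := Cfsg.Agent.Lib.Helper5.PslGraph.pgo_sumSq_plus_of_even h2 n m k hnm
        (by omega) (a : F) (b : F) hab'
      exact ⟨e0.trans e1⟩
    · intro hne
      have hmo : Odd m := by
        rw [← Nat.not_even_iff_odd]
        intro hme
        exact hne (hme.mul_right t)
      obtain ⟨k, hk⟩ := hmo
      refine ⟨0, 1, ?_, ?_⟩
      · intro z₁ z₂ hz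
        have hz' : z₁ ^ 2 + z₂ ^ 2 = 0 := by linear_combination hz
        by_cases hz2 : z₂ = 0
        · rw [hz2] at hz'
          simp only [ne_eq, OfNat.ofNat_ne_zero, not_false_eq_true, zero_pow, add_zero,
            pow_eq_zero_iff] at hz'
          exact ⟨hz', hz2⟩
        · exfalso
          apply hsq
          refine ⟨z₁ / z₂, ?_⟩
          field_simp
          linear_combination -hz'
      · obtain ⟨e1⟩ := Cfsg.Agent.Lib.Helper5.PslGraph.pgo_sumSq_minus h2 n m k hnm hk
          (a : F) (b : F) hab'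
        exact ⟨e0.trans e1⟩

end Cfsg.Agent.S2703
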