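import Mathlib
import Cfsg.Statements.S2710
import Cfsg.Agent.Lib.Helper5.PsuGraph.UCent
import Cfsg.Agent.Lib.Helper9.APSL27
import Cfsg.Agent.Lib.Helper5.Discriminant

set_option autoImplicit false
open Cfsg

namespace Cfsg.Agent.S2710

/-- Let T = PSU_n(q) with n ≥ 4 divisible by 4 (n = 2m) and q odd, realised over the field F with q² elements, G = Inndiag(T) the image of PGU_n(q), and φ the standard field automorphism of T attached to the q-th power map of F (it induces inverse-transpose on the unitary matrices and is a graph automorphism). Its centralizer in G is isomorphic to the projective conformal orthogonal group of the plus-type form Σ xᵢ yᵢ in dimension n over a field F₀ with q elements. (Dimensions n ≡ 2 (mod 4) are not covered.) -/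
theorem result {F : Type*} [Field F] [Fintype F] {q : ℕ} (hodd : Odd q) (hF : Fintype.card F = q ^ 2) {n m : ℕ} (hm : 2 ≤ m) (hnm : n = 2 * m) (h4 : 4 ∣ n) (F₀ : Type*) [Field F₀] [Fintype F₀] (hF₀ : Fintype.card F₀ = q) (σ : F ≃+* F) (hσ : ∀ a : F, σ a = a ^ q) (φ : MulAut (Cfsg.PSU n F q)) (hφ : Cfsg.IsFieldAutPSUOf σ φ) :
    Nonempty (↥(Cfsg.inndiagPSU n F q ⊓ Subgroup.centralizer {φ}) ≃* Cfsg.PGO F₀ (Cfsg.quadFormPlus m F₀)) := by
  classical
  have hφ' : φ = Cfsg.Agent.Lib.Helper9.APSU.fU n σ :=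
    Cfsg.Agent.Lib.Helper9.APSU.eq_fU_of_fieldAut n hφ
  obtain ⟨τ, hτq, hτ2, hτ1⟩ := Cfsg.Agent.Lib.Helper9.APSU.exists_tau hF
  have hστ : σ = τ := RingEquiv.ext fun a => (hσ a).trans (hτq a).symm
  rw [hφ', hστ, Cfsg.Agent.Lib.Helper9.APSU.inndiagPSU_eq n]
  have hoddF₀ : Odd (Fintype.card F₀) := by rw [hF₀]; exact hodd
  have h2 : (2 : F₀) ≠ 0 := Cfsg.Agent.Lib.Helper5.two_ne_zero_of_odd_card hoddF₀
  -- the characteristic
  obtain ⟨p, hp⟩ := CharP.exists F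
  have hpp : p.Prime := CharP.char_is_prime F p
  have : Fact p.Prime := ⟨hpp⟩
  obtain ⟨f', _, hF'⟩ := FiniteField.card F p
  have hq2 : q ^ 2 = p ^ (f' : ℕ) := by rw [← hF, hF']
  have hqdvd : q ∣ p ^ (f' : ℕ) := by
    rw [← hq2]
    exact dvd_pow_self q (by norm_num)
  obtain ⟨j, hj, hqj⟩ := (Nat.dvd_prime_pow hpp).1 hqdvd
  have hf'j : (f' : ℕ) = 2 * j := by
    rw [hqj, ← pow_mul] at hq2
    have := Nat.pow_right_injective hpp.two_le hq2
    omega
  have hF₀' : Fintype.card F₀ = p ^ ((f' : ℕ) / 2) := by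
    rw [hF₀, hqj, hf'j, Nat.mul_div_cancel_left _ (by norm_num)]
  obtain ⟨_, ι, hι⟩ := Cfsg.Agent.Lib.Helper9.APSL.exists_fixed_embedding p (f' : ℕ) hF' τ 2
    (by norm_num) (Cfsg.Agent.Lib.Helper9.APSL.orderOf_involution hτ1 hτ2) F₀ hF₀'
  obtain ⟨e0⟩ := Cfsg.Agent.Lib.Helper5.PsuGraph.exists_cent_fU_tau_equiv hF n (by omega) h2 τ
    hτq hτ2 hτ1 ι hι
  -- the sum of squares over `F₀` is of plus type
  obtain ⟨p₀, hp₀⟩ := CharP.exists F₀
  have hpp₀ : p₀.Prime := CharP.char_is_prime F₀ p₀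
  have : NeZero p₀ := ⟨hpp₀.ne_zero⟩
  obtain ⟨a, b, hab⟩ := CharP.sq_add_sq F₀ p₀ (-1)
  have hab' : (a : F₀) * (a : F₀) + (b : F₀) * (b : F₀) = -1 := by
    rw [← pow_two, ← pow_two, hab]
    simp
  obtain ⟨k, hk⟩ : ∃ k, m = 2 * k := by
    obtain ⟨t, ht⟩ := h4
    exact ⟨t, by omega⟩
  obtain ⟨e1⟩ := Cfsg.Agent.Lib.Helper5.PslGraph.pgo_sumSq_plus_of_even h2 n m k hnm hk
    (a : F₀) (b : F₀) hab'
  exact ⟨e0.trans e1⟩

end Cfsg.Agent.S2710
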