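import Mathlib
import Cfsg.Statements.S2718
import Cfsg.Agent.Lib.Helper5.OAut.GraphInvMain
import Cfsg.Agent.Lib.Helper5.OAut.Arith
import Cfsg.Agent.S0293

set_option autoImplicit false
open Cfsg

namespace Cfsg.Agent.S2718

/-- Let T = PΩ⁺_{2m}(F) with m ≥ 4 and |F| = q odd, G = Inndiag(T), and γ an involutory graph automorphism of T induced by a similarity (one interchanging the two classes of maximal totally singular subspaces). Then the G-class of γ is either a single T-class or the union of exactly two T-classes, and it is the union of two unless m is odd and q ≡ 3 (mod 4). -/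
theorem result {F : Type*} [Field F] [Fintype F] (hodd : Odd (Fintype.card F)) {m : ℕ} (hm : 4 ≤ m) (γ : MulAut (Cfsg.POmega F (Cfsg.quadFormPlus m F))) (hγ : Cfsg.IsSimilarityGraphAutPOmegaPlus m γ) (hγ2 : orderOf γ = 2) :
    (Cfsg.splitClassCount (Cfsg.inndiagPOmegaPlus m F) (Cfsg.Inn (Cfsg.POmega F (Cfsg.quadFormPlus m F))) γ = 1 ∨ Cfsg.splitClassCount (Cfsg.inndiagPOmegaPlus m F) (Cfsg.Inn (Cfsg.POmega F (Cfsg.quadFormPlus m F))) γ = 2) ∧ (¬ (Odd m ∧ Fintype.card F % 4 = 3) → Cfsg.splitClassCount (Cfsg.inndiagPOmegaPlus m F) (Cfsg.Inn (Cfsg.POmega F (Cfsg.quadFormPlus m F))) γ = 2) := by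
  have h2 : (2 : F) ≠ 0 := Cfsg.Agent.Lib.Helper5.two_ne_zero_of_odd_card hodd
  have hiff := Cfsg.Agent.S0293.negOne_mem_iff (F := F) rfl hodd m (by omega)
  rw [Cfsg.Agent.Lib.Helper5.OAut.pow_mod_four_eq_one_iff _ _ hodd] at hiff
  obtain ⟨k1, k2⟩ := Cfsg.Agent.Lib.Helper5.OAut.graph_split_plus h2 hm (Cfsg.quadFormPlus m F)
    (Cfsg.Agent.Lib.Helper5.coe_plusForm m) γ hγ hγ2
  by_cases hc : Odd m ∧ Fintype.card F % 4 = 3
  · have hneg : Cfsg.Agent.Lib.Helper5.SpinorDiag.negOne (Cfsg.Agent.Lib.Helper5.plusForm m F) ∉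
        Cfsg.Omega F ⇑(Cfsg.Agent.Lib.Helper5.plusForm m F) := by
      rw [hiff]
      exact fun h => h hc
    exact ⟨k1 hneg, fun h => absurd hc h⟩
  · have hneg : Cfsg.Agent.Lib.Helper5.SpinorDiag.negOne (Cfsg.Agent.Lib.Helper5.plusForm m F) ∈
        Cfsg.Omega F ⇑(Cfsg.Agent.Lib.Helper5.plusForm m F) := hiff.2 hc
    exact ⟨Or.inr (k2 hneg), fun _ => k2 hneg⟩

end Cfsg.Agent.S2718
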