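import Mathlib
import Cfsg.Statements.S2719
import Cfsg.Agent.Lib.Helper5.MinusGraph.Main
import Cfsg.Agent.Lib.Helper5.OAut.Arith
import Cfsg.Agent.S0294
import Cfsg.Agent.S2615

set_option autoImplicit false
open Cfsg

namespace Cfsg.Agent.S2719

/-- Let T = PΩ⁻_{2m+2}(F) with m ≥ 3 and |F| = q odd (form with anisotropic binary part z₁² + a z₁ z₂ + b z₂²), G = Inndiag(T), and γ an involutory graph automorphism of T (an automorphism in the image of the semisimilarity group, not inner-diagonal, of order 2). Then the G-class of γ is either a single T-class or the union of exactly two T-classes, and it is the union of two unless m is even and q ≡ 1 (mod 4). -/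
theorem result {F : Type*} [Field F] [Fintype F] (hodd : Odd (Fintype.card F)) {m : ℕ} (hm : 3 ≤ m) (a b : F) (hab : (∀ z₁ z₂ : F, z₁ ^ 2 + a * z₁ * z₂ + b * z₂ ^ 2 = 0 → z₁ = 0 ∧ z₂ = 0)) (γ : MulAut (Cfsg.POmega F (Cfsg.quadFormMinus m F a b))) (hγ : Cfsg.IsGraphAutClassPOmegaMinus m a b γ) (hγ2 : orderOf γ = 2) :
    (Cfsg.splitClassCount (Cfsg.inndiagPOmegaMinus m F a b) (Cfsg.Inn (Cfsg.POmega F (Cfsg.quadFormMinus m F a b))) γ = 1 ∨ Cfsg.splitClassCount (Cfsg.inndiagPOmegaMinus m F a b) (Cfsg.Inn (Cfsg.POmega F (Cfsg.quadFormMinus m F a b))) γ = 2) ∧ (¬ (Even m ∧ Fintype.card F % 4 = 1) → Cfsg.splitClassCount (Cfsg.inndiagPOmegaMinus m F a b) (Cfsg.Inn (Cfsg.POmega F (Cfsg.quadFormMinus m F a b))) γ = 2) := by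
  have h2 : (2 : F) ≠ 0 := Cfsg.Agent.Lib.Helper5.two_ne_zero_of_odd_card hodd
  have han := Cfsg.Agent.Lib.Helper5.OrthPlane.anisotropic_of a b hab
  have hiff := Cfsg.Agent.S0294.negOne_mem_iff (F := F) a b m rfl hodd han
  rw [Cfsg.Agent.Lib.Helper5.OAut.pow_mod_four_eq_three_iff _ _ hodd] at hiff
  have hpar : Odd (m + 1) ↔ Even m := by
    rw [Nat.odd_add_one, Nat.not_odd_iff_even]
  rw [hpar] at hiff
  obtain ⟨hγ1, hγn, -⟩ := hγ
  rw [Cfsg.Agent.Lib.Helper5.OAut.inndiagPOmegaMinus_eq_genP] at hγn ⊢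
  obtain ⟨k1, k2, k3⟩ := Cfsg.Agent.Lib.Helper5.MinusGraph.graph_split_minus hodd hm hab
    (Cfsg.quadFormMinus m F a b) (Cfsg.Agent.S2615.minus_eq m a b) γ hγ1 hγn hγ2
  by_cases hc : Even m ∧ Fintype.card F % 4 = 3
  · have hneg := hiff.2 hc
    exact ⟨Or.inr (k2 hneg), fun _ => k2 hneg⟩
  · have hneg : Cfsg.Agent.Lib.Helper5.SpinorDiag.negOne
        (Cfsg.Agent.Lib.Helper5.OrthCard.genForm (Cfsg.Agent.Lib.Helper5.OrthPlane.binForm a b) m) ∉
        Cfsg.Omega F ⇑(Cfsg.Agent.Lib.Helper5.OrthCard.genForm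
          (Cfsg.Agent.Lib.Helper5.OrthPlane.binForm a b) m) := by
      rw [hiff]
      exact hc
    refine ⟨k1 hneg, fun hn => k3 hneg ?_⟩
    rw [← Nat.not_even_iff_odd]
    intro hev
    have h4 : Fintype.card F % 4 = 1 ∨ Fintype.card F % 4 = 3 := by
      have := Nat.odd_iff.mp hodd
      omega
    rcases h4 with h4 | h4
    · exact hn ⟨hev, h4⟩
    · exact hc ⟨hev, h4⟩

end Cfsg.Agent.S2719
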