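import Cfsg.Statements.S2720
import Cfsg.Agent.Lib.Helper1.CfH
import Cfsg.Agent.Lib.Helper5.OAut.InndiagPlusMain

set_option autoImplicit false
open Cfsg

namespace Cfsg.Agent.S2720

/-- Let T = PΩ⁺_{2m}(F) (m ≥ 4, F finite of odd characteristic p), G = Inndiag(T), and let x be an automorphism of T induced by a similarity of the form (an element of the image G̃ of the conformal orthogonal group) of odd prime order r ≠ p. Then the T-class, the PSO-class and the G-class of x coincide (conjugacy under inner automorphisms, under the image of the special orthogonal group, and under G), and the PO-class of x coincides with its G̃-class. (In characteristic 2 the first equality fails: there the special orthogonal group is the full orthogonal group and some such classes split.) -/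
theorem result {F : Type*} [Field F] [Fintype F] {p : ℕ} [Fact p.Prime] [CharP F p] (hp : p ≠ 2) {m : ℕ} (hm : 4 ≤ m) (x : MulAut (Cfsg.POmega F (Cfsg.quadFormPlus m F))) (hx : x ∈ Cfsg.pgoAut F (Cfsg.quadFormPlus m F)) {r : ℕ} (hr : r.Prime) (hro : Odd r) (hrp : r ≠ p) (hxr : orderOf x = r) :
    (∀ y : MulAut (Cfsg.POmega F (Cfsg.quadFormPlus m F)), (Cfsg.IsConjUnder (Cfsg.Inn (Cfsg.POmega F (Cfsg.quadFormPlus m F))) x y ↔ Cfsg.IsConjUnder (Cfsg.inndiagPOmegaPlus m F) x y) ∧ (Cfsg.IsConjUnder (Cfsg.psoAut F (Cfsg.quadFormPlus m F)) x y ↔ Cfsg.IsConjUnder (Cfsg.inndiagPOmegaPlus m F) x y)) ∧ (∀ y : MulAut (Cfsg.POmega F (Cfsg.quadFormPlus m F)), Cfsg.IsConjUnder (Cfsg.poAut F (Cfsg.quadFormPlus m F)) x y ↔ Cfsg.IsConjUnder (Cfsg.pgoAut F (Cfsg.quadFormPlus m F)) x y) := by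
  have h2 : (2 : F) ≠ 0 := by
    have h := Cfsg.Agent.Lib.Helper1.Pg.natCast_ne_zero_of_prime_ne (F := F) p 2 Nat.prime_two
      (Ne.symm hp)
    exact_mod_cast h
  have hrF : (r : F) ≠ 0 :=
    Cfsg.Agent.Lib.Helper1.Pg.natCast_ne_zero_of_prime_ne (F := F) p r hr hrp
  have hQ := Cfsg.Agent.Lib.Helper5.PlusGeom.plus_nondegenerate (F := F) m
  have hfam := Cfsg.Agent.S2613.plus_hypFamily (F := F) (le_refl m)
  have hcard : Fintype.card (Fin m ⊕ Fin m) = 2 * m := by
    rw [Fintype.card_sum, Fintype.card_fin]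
    ring
  have h5 : 5 ≤ Fintype.card (Fin m ⊕ Fin m) := by
    rw [hcard]
    omega
  obtain ⟨w₀, hw₀⟩ := Cfsg.Agent.Lib.Helper5.SpinorNorm.exists_quad_eq
    (Cfsg.Agent.Lib.Helper5.plusForm m F) hQ (by rw [hcard]; omega) 1 one_ne_zero
  have key : ∀ x : MulAut (Cfsg.POmega F (Cfsg.quadFormPlus m F)),
      x ∈ Cfsg.pgoAut F (Cfsg.quadFormPlus m F) → orderOf x = r →
      ((∀ y : MulAut (Cfsg.POmega F (Cfsg.quadFormPlus m F)),
        (Cfsg.IsConjUnder (Cfsg.Inn (Cfsg.POmega F (Cfsg.quadFormPlus m F))) x y ↔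
          Cfsg.IsConjUnder (Cfsg.inndiagPOmegaPlus m F) x y) ∧
        (Cfsg.IsConjUnder (Cfsg.psoAut F (Cfsg.quadFormPlus m F)) x y ↔
          Cfsg.IsConjUnder (Cfsg.inndiagPOmegaPlus m F) x y)) ∧
      (∀ y : MulAut (Cfsg.POmega F (Cfsg.quadFormPlus m F)),
        Cfsg.IsConjUnder (Cfsg.poAut F (Cfsg.quadFormPlus m F)) x y ↔
          Cfsg.IsConjUnder (Cfsg.pgoAut F (Cfsg.quadFormPlus m F)) x y)) := by
    rw [Cfsg.Agent.Lib.Helper5.OAut.inndiagPOmegaPlus_eq_gen,
      ← Cfsg.Agent.Lib.Helper5.coe_plusForm]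
    intro x hx hxr
    exact Cfsg.Agent.Lib.Helper1.Cf.fusion_generic h2 hQ hfam (by omega) h5 w₀ hw₀ m hcard _
      (Cfsg.Agent.Lib.Helper5.OAut.inndiagGen_eq h2 hQ w₀ hw₀ m hcard
        (Cfsg.Agent.Lib.Helper5.OAut.plus_crit m h2 hw₀ hcard)) r hr hro hrF x hx hxr
  exact key x hx hxr

end Cfsg.Agent.S2720
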