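import Cfsg.Statements.S2721
import Cfsg.Agent.Lib.Helper1.CfH
import Cfsg.Agent.Lib.Helper5.OAut.InndiagMinusMain

set_option autoImplicit false
open Cfsg

namespace Cfsg.Agent.S2721

/-- Let T = PΩ⁻_{2m+2}(F) (m ≥ 3, F finite of odd characteristic p), G = Inndiag(T), and let x be an automorphism of T induced by a similarity of the form (an element of the image G̃ of the conformal orthogonal group) of odd prime order r ≠ p. Then the T-class, the PSO-class and the G-class of x coincide (conjugacy under inner automorphisms, under the image of the special orthogonal group, and under G), and the PO-class of x coincides with its G̃-class. (In characteristic 2 the first equality fails: there the special orthogonal group is the full orthogonal group and some such classes split.) -/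
theorem result {F : Type*} [Field F] [Fintype F] {p : ℕ} [Fact p.Prime] [CharP F p] (hp : p ≠ 2) {m : ℕ} (hm : 3 ≤ m) (a b : F) (hab : (∀ z₁ z₂ : F, z₁ ^ 2 + a * z₁ * z₂ + b * z₂ ^ 2 = 0 → z₁ = 0 ∧ z₂ = 0)) (x : MulAut (Cfsg.POmega F (Cfsg.quadFormMinus m F a b))) (hx : x ∈ Cfsg.pgoAut F (Cfsg.quadFormMinus m F a b)) {r : ℕ} (hr : r.Prime) (hro : Odd r) (hrp : r ≠ p) (hxr : orderOf x = r) :
    (∀ y : MulAut (Cfsg.POmega F (Cfsg.quadFormMinus m F a b)), (Cfsg.IsConjUnder (Cfsg.Inn (Cfsg.POmega F (Cfsg.quadFormMinus m F a b))) x y ↔ Cfsg.IsConjUnder (Cfsg.inndiagPOmegaMinus m F a b) x y) ∧ (Cfsg.IsConjUnder (Cfsg.psoAut F (Cfsg.quadFormMinus m F a b)) x y ↔ Cfsg.IsConjUnder (Cfsg.inndiagPOmegaMinus m F a b) x y)) ∧ (∀ y : MulAut (Cfsg.POmega F (Cfsg.quadFormMinus m F a b)), Cfsg.IsConjUnder (Cfsg.poAut F (Cfsg.quadFormMinus m F a b)) x y ↔ Cfsg.IsConjUnder (Cfsg.pgoAut F (Cfsg.quadFormMinus m F a b)) x y) := by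
  have h2 : (2 : F) ≠ 0 := by
    have h := Cfsg.Agent.Lib.Helper1.Pg.natCast_ne_zero_of_prime_ne (F := F) p 2 Nat.prime_two
      (Ne.symm hp)
    exact_mod_cast h
  have hodd : Odd (Fintype.card F) := by
    rcases Nat.even_or_odd (Fintype.card F) with he | ho
    · exfalso
      have h3 := FiniteField.even_card_iff_char_two.mpr (Nat.even_iff.mp he)
      apply h2
      have h4 : ((2 : ℕ) : F) = 0 := by
        rw [← h3]
        exact ringChar.Nat.cast_ringChar
      exact_mod_cast h4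
    · exact ho
  have hrF : (r : F) ≠ 0 :=
    Cfsg.Agent.Lib.Helper1.Pg.natCast_ne_zero_of_prime_ne (F := F) p r hr hrp
  have han := Cfsg.Agent.Lib.Helper5.OrthPlane.anisotropic_of a b hab
  have hQ := Cfsg.Agent.Lib.Helper5.OrthCard.genForm_nondegenerate
    (Cfsg.Agent.Lib.Helper5.OrthPlane.binForm a b)
    (Cfsg.Agent.Lib.Helper5.OrthPlane.binForm_nondegenerate a b han) m
  have hfam := Cfsg.Agent.S0294.hfam a b m
  have hcard : Fintype.card ((Fin m ⊕ Fin m) ⊕ Fin 2) = 2 * (m + 1) := by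
    rw [Fintype.card_sum, Fintype.card_sum, Fintype.card_fin, Fintype.card_fin]
    ring
  have h5 : 5 ≤ Fintype.card ((Fin m ⊕ Fin m) ⊕ Fin 2) := by
    rw [hcard]
    omega
  obtain ⟨w₀, hw₀⟩ := Cfsg.Agent.Lib.Helper5.SpinorNorm.exists_quad_eq
    (Cfsg.Agent.Lib.Helper5.OrthCard.genForm (Cfsg.Agent.Lib.Helper5.OrthPlane.binForm a b) m)
    hQ (by rw [hcard]; omega) 1 one_ne_zero
  have key : ∀ x : MulAut (Cfsg.POmega F (Cfsg.quadFormMinus m F a b)),
      x ∈ Cfsg.pgoAut F (Cfsg.quadFormMinus m F a b) → orderOf x = r →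
      ((∀ y : MulAut (Cfsg.POmega F (Cfsg.quadFormMinus m F a b)),
        (Cfsg.IsConjUnder (Cfsg.Inn (Cfsg.POmega F (Cfsg.quadFormMinus m F a b))) x y ↔
          Cfsg.IsConjUnder (Cfsg.inndiagPOmegaMinus m F a b) x y) ∧
        (Cfsg.IsConjUnder (Cfsg.psoAut F (Cfsg.quadFormMinus m F a b)) x y ↔
          Cfsg.IsConjUnder (Cfsg.inndiagPOmegaMinus m F a b) x y)) ∧
      (∀ y : MulAut (Cfsg.POmega F (Cfsg.quadFormMinus m F a b)),
        Cfsg.IsConjUnder (Cfsg.poAut F (Cfsg.quadFormMinus m F a b)) x y ↔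
          Cfsg.IsConjUnder (Cfsg.pgoAut F (Cfsg.quadFormMinus m F a b)) x y)) := by
    rw [Cfsg.Agent.Lib.Helper5.OAut.inndiagPOmegaMinus_eq_genP, ← Cfsg.Agent.S2615.minus_eq]
    intro x hx hxr
    exact Cfsg.Agent.Lib.Helper1.Cf.fusion_generic h2 hQ hfam hm h5 w₀ hw₀ (m + 1) hcard _
      (Cfsg.Agent.Lib.Helper5.OAut.inndiagGenP_eq _ h2 hQ w₀ hw₀ (m + 1) hcard
        (Cfsg.Agent.Lib.Helper5.OAut.minus_crit a b m hodd hab hw₀)) r hr hro hrF x hx hxr
  exact key x hx hxr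

end Cfsg.Agent.S2721
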