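import Mathlib
import Cfsg.Statements.S2722
import Cfsg.Agent.Lib.Helper5.OAut.SimInst
import Cfsg.Agent.S0293

set_option autoImplicit false
open Cfsg

namespace Cfsg.Agent.S2722

/-- Let T = PΩ⁺_{2m}(F) with m ≥ 4 and |F| = q odd. Inside Aut(T), the image G̃ of the conformal orthogonal group of the form modulo the image of the special orthogonal group is elementary abelian of order 4. -/
theorem result {F : Type*} [Field F] [Fintype F] (hodd : Odd (Fintype.card F)) {m : ℕ} (hm : 4 ≤ m) :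
    (∃ φ : ↥(Cfsg.pgoAut F (Cfsg.quadFormPlus m F)) →* Multiplicative (ZMod 2 × ZMod 2), Function.Surjective φ ∧ φ.ker = (Cfsg.psoAut F (Cfsg.quadFormPlus m F)).subgroupOf (Cfsg.pgoAut F (Cfsg.quadFormPlus m F))) := by
  have h2 : (2 : F) ≠ 0 := Cfsg.Agent.Lib.Helper5.two_ne_zero_of_odd_card hodd
  have hQ := Cfsg.Agent.Lib.Helper5.PlusGeom.plus_nondegenerate (F := F) m
  have hfam := Cfsg.Agent.S2613.plus_hypFamily (F := F) (le_refl m)
  have hcard : Fintype.card (Fin m ⊕ Fin m) = 2 * m := by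
    rw [Fintype.card_sum, Fintype.card_fin]
    ring
  obtain ⟨w₀, hw₀⟩ := Cfsg.Agent.Lib.Helper5.SpinorNorm.exists_quad_eq
    (Cfsg.Agent.Lib.Helper5.plusForm m F) hQ (by rw [hcard]; omega) 1 one_ne_zero
  obtain ⟨ν, hν0, hν⟩ := Cfsg.Agent.Lib.Helper5.SpinorNorm.exists_nonsquare (F := F) h2
  obtain ⟨g, hg⟩ := Cfsg.Agent.Lib.Helper5.OAut.exists_sim_plus m ν hν0
  have hns : ∃ g₁ : ↥(Cfsg.Geo.quadSimilarityGroup (F := F) ⇑(Cfsg.Agent.Lib.Helper5.plusForm m F)),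
      ¬ IsSquare (Cfsg.Agent.Lib.Helper5.OAut.mult (Cfsg.Agent.Lib.Helper5.plusForm m F) w₀
        (g₁ : GL (Fin m ⊕ Fin m) F)) := by
    refine ⟨⟨g, ⟨Units.mk0 ν hν0, hg⟩⟩, ?_⟩
    unfold Cfsg.Agent.Lib.Helper5.OAut.mult
    rw [hg w₀, hw₀, mul_one]
    exact hν
  have key := Cfsg.Agent.Lib.Helper5.OAut.exists_pgo_mod_pso h2 hQ hfam (by omega)
    (by rw [hcard]; omega) w₀ hw₀ m hcard hns
  rw [Cfsg.Agent.Lib.Helper5.coe_plusForm] at key
  exact key

end Cfsg.Agent.S2722
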