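import Mathlib
import Cfsg.Statements.S2723
import Cfsg.Agent.Lib.Helper5.OAut.Orth
import Cfsg.Agent.Lib.Helper5.OAut.Arith
import Cfsg.Agent.S0293

set_option autoImplicit false
open Cfsg

namespace Cfsg.Agent.S2723

/-- Let T = PΩ⁺_{2m}(F) with m ≥ 4 and |F| = q odd. The image of the special orthogonal group in Aut(T) contains the inner automorphism group T with index 1 (they coincide) when m is odd and q ≡ 3 (mod 4), and with index 2 otherwise (the index is 2 exactly when the discriminant of the form is a square). -/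
theorem result {F : Type*} [Field F] [Fintype F] (hodd : Odd (Fintype.card F)) {m : ℕ} (hm : 4 ≤ m) :
    ((Odd m ∧ Fintype.card F % 4 = 3) → (Cfsg.Inn (Cfsg.POmega F (Cfsg.quadFormPlus m F))).relIndex (Cfsg.psoAut F (Cfsg.quadFormPlus m F)) = 1) ∧ (¬ (Odd m ∧ Fintype.card F % 4 = 3) → (Cfsg.Inn (Cfsg.POmega F (Cfsg.quadFormPlus m F))).relIndex (Cfsg.psoAut F (Cfsg.quadFormPlus m F)) = 2) := by
  have h2 : (2 : F) ≠ 0 := Cfsg.Agent.Lib.Helper5.two_ne_zero_of_odd_card hodd
  have hQ := Cfsg.Agent.Lib.Helper5.PlusGeom.plus_nondegenerate (F := F) m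
  have hfam := Cfsg.Agent.S2613.plus_hypFamily (F := F) (le_refl m)
  have hcard : Fintype.card (Fin m ⊕ Fin m) = m + m := by
    rw [Fintype.card_sum, Fintype.card_fin]
  obtain ⟨h1, h0⟩ := Cfsg.Agent.Lib.Helper5.OAut.relIndex_inn_psoAut' h2 hQ hfam (by omega)
    (by rw [hcard]; omega) (by rw [hcard]; exact ⟨m, rfl⟩)
  rw [← Cfsg.Agent.Lib.Helper5.coe_plusForm]
  have hiff := Cfsg.Agent.S0293.negOne_mem_iff (F := F) rfl hodd m (by omega)
  rw [Cfsg.Agent.Lib.Helper5.OAut.pow_mod_four_eq_one_iff _ _ hodd] at hiff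
  constructor
  · intro hc
    apply h0
    rw [hiff]
    exact fun h => h hc
  · intro hc
    apply h1
    rw [hiff]
    exact hc

end Cfsg.Agent.S2723
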