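import Mathlib
import Cfsg.Statements.S2725
import Cfsg.Agent.Lib.Helper5.OAut.InndiagPlusMain
import Cfsg.Agent.Lib.Helper5.OAut.Arith
import Cfsg.Agent.S0293

set_option autoImplicit false
open Cfsg

namespace Cfsg.Agent.S2725

set_option maxHeartbeats 4000000 in
/-- Let T = PΩ⁺_{2m}(F) with m ≥ 4 and |F| = q odd. The inner-diagonal group G = Inndiag(T) (image of the class-preserving similarities) taken modulo the inner automorphism group T is cyclic of order 2 when m is odd and q ≡ 3 (mod 4), cyclic of order 4 when m is odd and q ≡ 1 (mod 4), and elementary abelian of order 4 when m is even. -/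
theorem result {F : Type*} [Field F] [Fintype F] (hodd : Odd (Fintype.card F)) {m : ℕ} (hm : 4 ≤ m) :
    ((Odd m ∧ Fintype.card F % 4 = 3) → (∃ φ : ↥(Cfsg.inndiagPOmegaPlus m F) →* Multiplicative (ZMod 2), Function.Surjective φ ∧ φ.ker = (Cfsg.Inn (Cfsg.POmega F (Cfsg.quadFormPlus m F))).subgroupOf (Cfsg.inndiagPOmegaPlus m F))) ∧ ((Odd m ∧ Fintype.card F % 4 = 1) → (∃ φ : ↥(Cfsg.inndiagPOmegaPlus m F) →* Multiplicative (ZMod 4), Function.Surjective φ ∧ φ.ker = (Cfsg.Inn (Cfsg.POmega F (Cfsg.quadFormPlus m F))).subgroupOf (Cfsg.inndiagPOmegaPlus m F))) ∧ (Even m → (∃ φ : ↥(Cfsg.inndiagPOmegaPlus m F) →* Multiplicative (ZMod 2 × ZMod 2), Function.Surjective φ ∧ φ.ker = (Cfsg.Inn (Cfsg.POmega F (Cfsg.quadFormPlus m F))).subgroupOf (Cfsg.inndiagPOmegaPlus m F))) := by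
  have h2 : (2 : F) ≠ 0 := Cfsg.Agent.Lib.Helper5.two_ne_zero_of_odd_card hodd
  obtain ⟨k2, k4, kV⟩ := Cfsg.Agent.Lib.Helper5.OAut.exists_inndiag_plus (F := F) m h2 (by omega)
  have hiff := Cfsg.Agent.S0293.negOne_mem_iff (F := F) rfl hodd m (by omega)
  rw [Cfsg.Agent.Lib.Helper5.OAut.pow_mod_four_eq_one_iff _ _ hodd] at hiff
  rw [Cfsg.Agent.Lib.Helper5.OAut.inndiagPOmegaPlus_eq_gen, ← Cfsg.Agent.Lib.Helper5.coe_plusForm]
  refine ⟨?_, ?_, ?_⟩
  · intro hc
    apply k2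
    rw [hiff]
    exact fun h => h hc
  · intro hc
    apply k4 _ hc.1
    rw [hiff]
    rintro ⟨-, h3⟩
    omega
  · intro hc
    apply kV _ hc
    rw [hiff]
    rintro ⟨h3, -⟩
    exact (Nat.not_even_iff_odd.2 h3) hc

end Cfsg.Agent.S2725
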