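import Mathlib
import Cfsg.Statements.S2726
import Cfsg.Agent.Lib.Helper5.OAut.SimInst
import Cfsg.Agent.Lib.Helper5.OParab.UnipMinusEven
import Cfsg.Agent.S0294

set_option autoImplicit false
open Cfsg

namespace Cfsg.Agent.S2726

set_option maxHeartbeats 4000000 in
/-- Let T = PΩ⁻_{2m+2}(F) with m ≥ 3 and |F| = q odd (form with anisotropic binary part). Inside Aut(T), the image G̃ of the conformal orthogonal group of the form modulo the image of the special orthogonal group is elementary abelian of order 4. -/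
theorem result {F : Type*} [Field F] [Fintype F] (hodd : Odd (Fintype.card F)) {m : ℕ} (hm : 3 ≤ m) (a b : F) (hab : (∀ z₁ z₂ : F, z₁ ^ 2 + a * z₁ * z₂ + b * z₂ ^ 2 = 0 → z₁ = 0 ∧ z₂ = 0)) :
    (∃ φ : ↥(Cfsg.pgoAut F (Cfsg.quadFormMinus m F a b)) →* Multiplicative (ZMod 2 × ZMod 2), Function.Surjective φ ∧ φ.ker = (Cfsg.psoAut F (Cfsg.quadFormMinus m F a b)).subgroupOf (Cfsg.pgoAut F (Cfsg.quadFormMinus m F a b))) := by
  rw [← Cfsg.Agent.S2615.minus_eq]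
  have h2 : (2 : F) ≠ 0 := Cfsg.Agent.Lib.Helper5.two_ne_zero_of_odd_card hodd
  have hodd' : Fintype.card F % 2 = 1 := Nat.odd_iff.mp hodd
  have han := Cfsg.Agent.Lib.Helper5.OrthPlane.anisotropic_of a b hab
  have hQ := Cfsg.Agent.Lib.Helper5.OrthCard.genForm_nondegenerate
    (Cfsg.Agent.Lib.Helper5.OrthPlane.binForm a b)
    (Cfsg.Agent.Lib.Helper5.OrthPlane.binForm_nondegenerate a b han) m
  have hfam := Cfsg.Agent.S0294.hfam a b m
  have hcard : Fintype.card ((Fin m ⊕ Fin m) ⊕ Fin 2) = 2 * (m + 1) := by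
    rw [Fintype.card_sum, Fintype.card_sum, Fintype.card_fin, Fintype.card_fin]
    ring
  obtain ⟨w₀, hw₀⟩ := Cfsg.Agent.Lib.Helper5.SpinorNorm.exists_quad_eq
    (Cfsg.Agent.Lib.Helper5.OrthCard.genForm (Cfsg.Agent.Lib.Helper5.OrthPlane.binForm a b) m)
    hQ (by rw [hcard]; omega) 1 one_ne_zero
  obtain ⟨ν, hν0, hν⟩ := Cfsg.Agent.Lib.Helper5.SpinorNorm.exists_nonsquare (F := F) h2
  obtain ⟨s, u, hsu⟩ := Cfsg.Agent.Lib.Helper5.OParab.exists_qBin_eq hodd' h2 hab ν hν0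
  have hsu' : s * s + a * (s * u) + b * (u * u) = ν := by
    rw [← hsu, Cfsg.Agent.Lib.Helper5.QuadSign.qBin_apply]
    simp only [Matrix.cons_val_zero, Matrix.cons_val_one]
    ring
  obtain ⟨g, hg⟩ := Cfsg.Agent.Lib.Helper5.OAut.exists_sim_minus m a b s u (by rw [hsu']; exact hν0)
  rw [hsu'] at hg
  have hns : ∃ g₁ : ↥(Cfsg.Geo.quadSimilarityGroup (F := F)
      ⇑(Cfsg.Agent.Lib.Helper5.OrthCard.genForm (Cfsg.Agent.Lib.Helper5.OrthPlane.binForm a b) m)),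
      ¬ IsSquare (Cfsg.Agent.Lib.Helper5.OAut.mult
        (Cfsg.Agent.Lib.Helper5.OrthCard.genForm (Cfsg.Agent.Lib.Helper5.OrthPlane.binForm a b) m) w₀
        (g₁ : GL ((Fin m ⊕ Fin m) ⊕ Fin 2) F)) := by
    refine ⟨⟨g, ⟨Units.mk0 ν hν0, hg⟩⟩, ?_⟩
    unfold Cfsg.Agent.Lib.Helper5.OAut.mult
    rw [hg w₀, hw₀, mul_one]
    exact hν
  have key := Cfsg.Agent.Lib.Helper5.OAut.exists_pgo_mod_pso h2 hQ hfam hm
    (by rw [hcard]; omega) w₀ hw₀ (m + 1) hcard hns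
  exact key

end Cfsg.Agent.S2726
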