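import Mathlib
import Cfsg.Statements.S2727
import Cfsg.Agent.Lib.Helper5.OAut.Orth
import Cfsg.Agent.Lib.Helper5.OAut.Arith
import Cfsg.Agent.S0294

set_option autoImplicit false
open Cfsg

namespace Cfsg.Agent.S2727

/-- Let T = PΩ⁻_{2m+2}(F) with m ≥ 3 and |F| = q odd (form with anisotropic binary part). The image of the special orthogonal group in Aut(T) contains the inner automorphism group T with index 2 when m is even and q ≡ 3 (mod 4), and coincides with it otherwise (the index is 2 exactly when the discriminant of the form is a square). -/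
theorem result {F : Type*} [Field F] [Fintype F] (hodd : Odd (Fintype.card F)) {m : ℕ} (hm : 3 ≤ m) (a b : F) (hab : (∀ z₁ z₂ : F, z₁ ^ 2 + a * z₁ * z₂ + b * z₂ ^ 2 = 0 → z₁ = 0 ∧ z₂ = 0)) :
    ((Even m ∧ Fintype.card F % 4 = 3) → (Cfsg.Inn (Cfsg.POmega F (Cfsg.quadFormMinus m F a b))).relIndex (Cfsg.psoAut F (Cfsg.quadFormMinus m F a b)) = 2) ∧ (¬ (Even m ∧ Fintype.card F % 4 = 3) → (Cfsg.Inn (Cfsg.POmega F (Cfsg.quadFormMinus m F a b))).relIndex (Cfsg.psoAut F (Cfsg.quadFormMinus m F a b)) = 1) := by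
  have h2 : (2 : F) ≠ 0 := Cfsg.Agent.Lib.Helper5.two_ne_zero_of_odd_card hodd
  have han := Cfsg.Agent.Lib.Helper5.OrthPlane.anisotropic_of a b hab
  have hQ := Cfsg.Agent.Lib.Helper5.OrthCard.genForm_nondegenerate
    (Cfsg.Agent.Lib.Helper5.OrthPlane.binForm a b)
    (Cfsg.Agent.Lib.Helper5.OrthPlane.binForm_nondegenerate a b han) m
  have hfam := Cfsg.Agent.S0294.hfam a b m
  have hcard : Fintype.card ((Fin m ⊕ Fin m) ⊕ Fin 2) = m + m + 2 := by
    simp only [Fintype.card_sum, Fintype.card_fin]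
  obtain ⟨h1, h0⟩ := Cfsg.Agent.Lib.Helper5.OAut.relIndex_inn_psoAut' h2 hQ hfam (by omega)
    (by rw [hcard]; omega) (by rw [hcard]; exact ⟨m + 1, by ring⟩)
  rw [← Cfsg.Agent.S2615.minus_eq]
  have hiff := Cfsg.Agent.S0294.negOne_mem_iff (F := F) a b m rfl hodd han
  rw [Cfsg.Agent.Lib.Helper5.OAut.pow_mod_four_eq_three_iff _ _ hodd] at hiff
  have hpar : Odd (m + 1) ↔ Even m := by
    rw [Nat.odd_add_one, Nat.not_odd_iff_even]
  rw [hpar] at hiff
  constructor
  · intro hc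
    apply h1
    rw [hiff]
    exact hc
  · intro hc
    apply h0
    rw [hiff]
    exact hc

end Cfsg.Agent.S2727
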