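import Mathlib
import Cfsg.Statements.S2728
import Cfsg.Agent.Lib.Helper5.OAut.SimInst
import Cfsg.Agent.Lib.Helper5.OAut.PgoInn
import Cfsg.Agent.Lib.Helper5.OAut.Arith
import Cfsg.Agent.Lib.Helper5.OParab.UnipMinusEven
import Cfsg.Agent.S0294

set_option autoImplicit false
open Cfsg

namespace Cfsg.Agent.S2728

set_option maxHeartbeats 4000000 in
/-- Let T = PΩ⁻_{2m+2}(F) with m ≥ 3 and |F| = q odd (form with anisotropic binary part). The image G̃ of the conformal orthogonal group in Aut(T), taken modulo the inner automorphism group T, is dihedral of order 8 when m is even and q ≡ 3 (mod 4), and elementary abelian of order 4 otherwise. -/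
theorem result {F : Type*} [Field F] [Fintype F] (hodd : Odd (Fintype.card F)) {m : ℕ} (hm : 3 ≤ m) (a b : F) (hab : (∀ z₁ z₂ : F, z₁ ^ 2 + a * z₁ * z₂ + b * z₂ ^ 2 = 0 → z₁ = 0 ∧ z₂ = 0)) :
    ((Even m ∧ Fintype.card F % 4 = 3) → (∃ φ : ↥(Cfsg.pgoAut F (Cfsg.quadFormMinus m F a b)) →* DihedralGroup 4, Function.Surjective φ ∧ φ.ker = (Cfsg.Inn (Cfsg.POmega F (Cfsg.quadFormMinus m F a b))).subgroupOf (Cfsg.pgoAut F (Cfsg.quadFormMinus m F a b)))) ∧ (¬ (Even m ∧ Fintype.card F % 4 = 3) → (∃ φ : ↥(Cfsg.pgoAut F (Cfsg.quadFormMinus m F a b)) →* Multiplicative (ZMod 2 × ZMod 2), Function.Surjective φ ∧ φ.ker = (Cfsg.Inn (Cfsg.POmega F (Cfsg.quadFormMinus m F a b))).subgroupOf (Cfsg.pgoAut F (Cfsg.quadFormMinus m F a b)))) := by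
  rw [← Cfsg.Agent.S2615.minus_eq]
  have h2 : (2 : F) ≠ 0 := Cfsg.Agent.Lib.Helper5.two_ne_zero_of_odd_card hodd
  have hodd' : Fintype.card F % 2 = 1 := Nat.odd_iff.mp hodd
  have han := Cfsg.Agent.Lib.Helper5.OrthPlane.anisotropic_of a b hab
  have hQ := Cfsg.Agent.Lib.Helper5.OrthCard.genForm_nondegenerate
    (Cfsg.Agent.Lib.Helper5.OrthPlane.binForm a b)
    (Cfsg.Agent.Lib.Helper5.OrthPlane.binForm_nondegenerate a b han) m
  have hfam := Cfsg.Agent.S0294.hfam a b m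
  have hcard : Fintype.card ((Fin m ⊕ Fin m) ⊕ Fin 2) = 2 * (m + 1) := by
    rw [Fintype.card_sum, Fintype.card_sum, Fintype.card_fin, Fintype.card_fin]
    ring
  obtain ⟨w₀, hw₀⟩ := Cfsg.Agent.Lib.Helper5.SpinorNorm.exists_quad_eq
    (Cfsg.Agent.Lib.Helper5.OrthCard.genForm (Cfsg.Agent.Lib.Helper5.OrthPlane.binForm a b) m)
    hQ (by rw [hcard]; omega) 1 one_ne_zero
  obtain ⟨ν, hν0, hν⟩ := Cfsg.Agent.Lib.Helper5.SpinorNorm.exists_nonsquare (F := F) h2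
  obtain ⟨s, u, hsu⟩ := Cfsg.Agent.Lib.Helper5.OParab.exists_qBin_eq hodd' h2 hab ν hν0
  have hsu' : s * s + a * (s * u) + b * (u * u) = ν := by
    rw [← hsu, Cfsg.Agent.Lib.Helper5.QuadSign.qBin_apply]
    simp only [Matrix.cons_val_zero, Matrix.cons_val_one]
    ring
  obtain ⟨g, hg⟩ := Cfsg.Agent.Lib.Helper5.OAut.exists_sim_minus m a b s u (by rw [hsu']; exact hν0)
  rw [hsu'] at hg
  have hns : ∃ g₁ : ↥(Cfsg.Geo.quadSimilarityGroup (F := F)
      ⇑(Cfsg.Agent.Lib.Helper5.OrthCard.genForm (Cfsg.Agent.Lib.Helper5.OrthPlane.binForm a b) m)),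
      ¬ IsSquare (Cfsg.Agent.Lib.Helper5.OAut.mult
        (Cfsg.Agent.Lib.Helper5.OrthCard.genForm (Cfsg.Agent.Lib.Helper5.OrthPlane.binForm a b) m) w₀
        (g₁ : GL ((Fin m ⊕ Fin m) ⊕ Fin 2) F)) := by
    refine ⟨⟨g, ⟨Units.mk0 ν hν0, hg⟩⟩, ?_⟩
    unfold Cfsg.Agent.Lib.Helper5.OAut.mult
    rw [hg w₀, hw₀, mul_one]
    exact hν
  have hiff := Cfsg.Agent.S0294.negOne_mem_iff (F := F) a b m rfl hodd han
  rw [Cfsg.Agent.Lib.Helper5.OAut.pow_mod_four_eq_three_iff _ _ hodd] at hiff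
  have hpar : Odd (m + 1) ↔ Even m := by
    rw [Nat.odd_add_one, Nat.not_odd_iff_even]
  rw [hpar] at hiff
  have keyD := Cfsg.Agent.Lib.Helper5.OAut.exists_pgo_mod_inn_dihedral h2 hQ hfam hm
    (by rw [hcard]; omega) w₀ hw₀ (m + 1) hcard hns
  have keyK := Cfsg.Agent.Lib.Helper5.OAut.exists_pgo_mod_inn_klein h2 hQ hfam hm
    (by rw [hcard]; omega) w₀ hw₀ (m + 1) hcard hns
  constructor
  · intro hc
    apply keyD
    rw [hiff]
    exact hc
  · intro hc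
    apply keyK
    rw [hiff]
    exact hc

end Cfsg.Agent.S2728
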