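import Mathlib
import Cfsg.Statements.S2729
import Cfsg.Agent.Lib.Helper5.OAut.InndiagMinusMain
import Cfsg.Agent.Lib.Helper5.OAut.Arith
import Cfsg.Agent.S0294

set_option autoImplicit false
open Cfsg

namespace Cfsg.Agent.S2729

set_option maxHeartbeats 4000000 in
/-- Let T = PΩ⁻_{2m+2}(F) with m ≥ 3 and |F| = q odd (form with anisotropic binary part). The inner-diagonal group G = Inndiag(T) (image of the class-preserving similarities) taken modulo the inner automorphism group T is cyclic of order 4 when m is even and q ≡ 3 (mod 4), and of order 2 otherwise. -/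
theorem result {F : Type*} [Field F] [Fintype F] (hodd : Odd (Fintype.card F)) {m : ℕ} (hm : 3 ≤ m) (a b : F) (hab : (∀ z₁ z₂ : F, z₁ ^ 2 + a * z₁ * z₂ + b * z₂ ^ 2 = 0 → z₁ = 0 ∧ z₂ = 0)) :
    ((Even m ∧ Fintype.card F % 4 = 3) → (∃ φ : ↥(Cfsg.inndiagPOmegaMinus m F a b) →* Multiplicative (ZMod 4), Function.Surjective φ ∧ φ.ker = (Cfsg.Inn (Cfsg.POmega F (Cfsg.quadFormMinus m F a b))).subgroupOf (Cfsg.inndiagPOmegaMinus m F a b))) ∧ (¬ (Even m ∧ Fintype.card F % 4 = 3) → (∃ φ : ↥(Cfsg.inndiagPOmegaMinus m F a b) →* Multiplicative (ZMod 2), Function.Surjective φ ∧ φ.ker = (Cfsg.Inn (Cfsg.POmega F (Cfsg.quadFormMinus m F a b))).subgroupOf (Cfsg.inndiagPOmegaMinus m F a b))) := by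
  have h2 : (2 : F) ≠ 0 := Cfsg.Agent.Lib.Helper5.two_ne_zero_of_odd_card hodd
  have han := Cfsg.Agent.Lib.Helper5.OrthPlane.anisotropic_of a b hab
  obtain ⟨k2, k4⟩ := Cfsg.Agent.Lib.Helper5.OAut.exists_inndiag_minus (F := F) m a b hodd hm hab
  have hiff := Cfsg.Agent.S0294.negOne_mem_iff (F := F) a b m rfl hodd han
  rw [Cfsg.Agent.Lib.Helper5.OAut.pow_mod_four_eq_three_iff _ _ hodd] at hiff
  have hpar : Odd (m + 1) ↔ Even m := by
    rw [Nat.odd_add_one, Nat.not_odd_iff_even]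
  rw [hpar] at hiff
  rw [Cfsg.Agent.Lib.Helper5.OAut.inndiagPOmegaMinus_eq_genP, ← Cfsg.Agent.S2615.minus_eq]
  constructor
  · intro hc
    apply k4 _ hc.1
    rw [hiff]
    exact hc
  · intro hc
    apply k2
    rw [hiff]
    exact hc

end Cfsg.Agent.S2729
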