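import Mathlib
import Cfsg.Statements.S2734
import Cfsg.Agent.Lib.Helper5.GraphFix.D4G2
import Cfsg.Agent.Lib.Helper5.GraphFix.Aut
import Cfsg.Agent.Lib.Helper5.ChevChk.GraphSyms

set_option autoImplicit false
open Cfsg

namespace Cfsg.Agent.S2734

/-- In the Chevalley group of type D₄ over a finite field F (the matrix group generated by the root elements), a graph automorphism attached to a symmetry π of the Dynkin diagram (sending each fundamental root element x_p(t) to x_{π(p)}(t) and each x_{−p}(t) to x_{−π(p)}(t)) that has order 3 — a standard triality graph automorphism, π being a 3-cycle of the three outer nodes — has fixed-point subgroup isomorphic to the Chevalley group of type G₂ over F. -/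
theorem result {F : Type*} [Field F] [Fintype F] (τ : MulAut ↥(Cfsg.Lie.chevD4.group F)) (hτ : Cfsg.Lie.chevD4.IsGraphAut τ) (hτ3 : orderOf τ = 3) :
    Nonempty (↥(MonoidHom.eqLocus τ.toMonoidHom (MonoidHom.id ↥(Cfsg.Lie.chevD4.group F))) ≃* ↥(Cfsg.Lie.chevG2.group F)) := by
  open Cfsg.Lie Cfsg.Agent.Lib.Helper5.ChevSym Cfsg.Agent.Lib.Helper5.ChevStruct
    Cfsg.Agent.Lib.Helper5.GraphFix Cfsg.Agent.Lib.Helper5.Tw3D4 in
  obtain ⟨π, hπ, hτx⟩ := hτ
  have hlong : ∀ j : Fin chevD4.rank, chevD4.isLong (chevD4.simple j) = false := by decide +kernel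
  have hexp : ∀ (i j : Fin chevD4.rank) (c : ℕ), chevD4.graphExp c i j = 1 := by
    intro i j c
    unfold ChevalleyDatum.graphExp
    rw [hlong j]
    simp
  have hprop : GraphProp chevD4 π τ := by
    intro g i t
    have := hτx g i t
    rw [hexp, pow_one] at this
    exact this
  -- the case of a permutation of order at most two
  have hinv : (∀ i, π (π i) = i) → False := by
    intro h2
    have hpp : π * π = 1 := Equiv.ext h2
    have h1 : GraphProp chevD4 1 (τ.trans τ) := by
      have := hprop.comp hprop
      rwa [hpp] at this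
    have h3 : τ ^ 2 = 1 := by
      apply MulEquiv.ext
      intro y
      rw [pow_two]
      exact h1.eq_id hD4 y
    have := orderOf_dvd_of_pow_eq_one h3
    rw [hτ3] at this
    omega
  -- the fixed points of `τ`, given the graph datum
  have main : ∀ τ' : MulAut ↥(chevD4.group F), GraphProp chevD4 pD4a τ' →
      (∀ y, τ' y = y ↔ τ y = y) →
      Nonempty (↥(MonoidHom.eqLocus τ.toMonoidHom (MonoidHom.id ↥(chevD4.group F))) ≃*
        ↥(chevG2.group F)) := by
    intro τ' hτ' hiff
    have hσ := graphAut_eq_sigma chevD4 hD4 gD4a chkGraphPerm_gD4a chkGraph_gD4a pD4a simple_gD4a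
      τ' hτ'
    obtain ⟨e1⟩ := fixed_equiv chevD4 gD4a chkGraphPerm_gD4a τ' hσ
      (MonoidHom.eqLocus τ.toMonoidHom (MonoidHom.id ↥(chevD4.group F)))
      (fun y => (hiff y).symm)
    obtain ⟨e2⟩ := D4G2.fix_equiv_d4 (K := F)
    have e3 : chevD4.group F ⊓ sigmaFix chevD4 gD4a chkGraphPerm_gD4a (RingHom.id F)
        = twistedD4 F 1 := (twisted_eq_fix4 (RingHom.id F) D4G2.hid D4G2.hid3).symm
    exact ⟨(e1.trans (MulEquiv.subgroupCongr e3)).trans e2⟩
  rcases d4_syms_or π hπ with rfl | rfl | rfl | rfl | rfl | rfl
  · exact (hinv (by decide)).elim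
  · exact (hinv (by decide)).elim
  · exact (hinv (by decide)).elim
  · exact (hinv (by decide)).elim
  · exact main τ hprop (fun y => Iff.rfl)
  · have hs := hprop.symm hD4
    have e : (Equiv.symm (pD4b : Equiv.Perm (Fin chevD4.rank)) : Equiv.Perm (Fin chevD4.rank))
        = pD4a := by
      apply Equiv.ext
      show ∀ i : Fin 4, pD4b.symm i = pD4a i
      decide
    rw [e] at hs
    refine main τ.symm hs (fun y => ?_)
    constructor
    · intro h
      have := congrArg τ h
      rw [MulEquiv.apply_symm_apply] at this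
      exact this.symm
    · intro h
      have := congrArg τ.symm h
      rw [MulEquiv.symm_apply_apply] at this
      exact this.symm

end Cfsg.Agent.S2734
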