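import Cfsg.Statements.S2738

set_option autoImplicit false
open Cfsg

namespace Cfsg.Agent.S2738

open Matrix

theorem units_pow_three {F : Type*} [Field F] [Fintype F] (hF : Fintype.card F = 4) (u : Fˣ) :
    u ^ 3 = 1 := by
  have h : Nat.card Fˣ = 3 := by
    rw [Nat.card_units, Nat.card_eq_fintype_card, hF]
  have := pow_card_eq_one' (G := Fˣ) (x := u)
  rwa [h] at this

theorem card_center {F : Type*} [Field F] [Fintype F] (hF : Fintype.card F = 4) :
    Nat.card ↥(Subgroup.center (Matrix.SpecialLinearGroup (Fin 3) F)) = 3 := by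
  have e := Matrix.SpecialLinearGroup.center_equiv_rootsOfUnity (n := Fin 3) (R := F)
  rw [Nat.card_congr e.toEquiv]
  have h3 : max (Fintype.card (Fin 3)) 1 = 3 := by simp
  rw [h3]
  have htop : rootsOfUnity 3 F = ⊤ := by
    ext u
    simp only [mem_rootsOfUnity, Subgroup.mem_top, iff_true]
    exact units_pow_three hF u
  rw [htop, Nat.card_congr Subgroup.topEquiv.toEquiv, Nat.card_units, Nat.card_eq_fintype_card, hF]

/-- the 3-cycle permutation matrix -/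
def Pm (F : Type*) [Field F] : Matrix (Fin 3) (Fin 3) F := !![0,1,0;0,0,1;1,0,0]

def Dm {F : Type*} [Field F] (w : F) : Matrix (Fin 3) (Fin 3) F := !![1,0,0;0,w,0;0,0,w^2]

def Zm {F : Type*} [Field F] (w : F) : Matrix (Fin 3) (Fin 3) F := !![w,0,0;0,w,0;0,0,w]

theorem det_Pm (F : Type*) [Field F] : (Pm F).det = 1 := by
  simp [Pm, Matrix.det_fin_three]

theorem det_Dm {F : Type*} [Field F] (w : F) (hw : w ^ 3 = 1) : (Dm w).det = 1 := by
  simp [Dm, Matrix.det_fin_three]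
  rw [← hw]; ring

theorem det_Zm {F : Type*} [Field F] (w : F) (hw : w ^ 3 = 1) : (Zm w).det = 1 := by
  simp [Zm, Matrix.det_fin_three]
  rw [← hw]; ring

theorem comm_rel {F : Type*} [Field F] (w : F) (hw : w ^ 3 = 1) :
    Pm F * Dm w = Zm w * (Dm w * Pm F) := by
  ext i j
  fin_cases i <;> fin_cases j <;> simp [Pm, Dm, Zm, Matrix.mul_apply, Fin.sum_univ_three]
  · ring
  · rw [← pow_succ']; exact hw.symm

/-- The special linear group SL(3, 4) has centre of order 3 and does not split over it: no subgroup is a complement to the centre (so SL(3, 4) is a non-split central extension of PSL(3, 4) by a group of order 3). -/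
theorem result (F : Type*) [Field F] [Fintype F] (hF : Fintype.card F = 4) : Nat.card ↥(Subgroup.center (Matrix.SpecialLinearGroup (Fin 3) F)) = 3 ∧ ¬ ∃ K : Subgroup (Matrix.SpecialLinearGroup (Fin 3) F), Subgroup.IsComplement' (Subgroup.center (Matrix.SpecialLinearGroup (Fin 3) F)) K := by
  refine ⟨card_center hF, ?_⟩
  rintro ⟨K, hK⟩
  -- a unit different from one
  have hcard : Nat.card Fˣ = 3 := by rw [Nat.card_units, Nat.card_eq_fintype_card, hF]
  obtain ⟨u, hu⟩ : ∃ u : Fˣ, u ≠ 1 := by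
    by_contra h
    push Not at h
    have hs : Subsingleton Fˣ := ⟨fun a b => by rw [h a, h b]⟩
    have : Nat.card Fˣ ≤ 1 := Finite.card_le_one_iff_subsingleton.mpr hs
    omega
  have hu3 : (u : F) ^ 3 = 1 := by
    have := units_pow_three hF u
    have h2 := congrArg (fun x : Fˣ => (x : F)) this
    simpa using h2
  set w : F := (u : F) with hw
  let P : Matrix.SpecialLinearGroup (Fin 3) F := ⟨Pm F, det_Pm F⟩
  let D : Matrix.SpecialLinearGroup (Fin 3) F := ⟨Dm w, det_Dm w hu3⟩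
  let Z : Matrix.SpecialLinearGroup (Fin 3) F := ⟨Zm w, det_Zm w hu3⟩
  have hrel : P * D = Z * (D * P) := by
    apply Subtype.ext
    simp only [Matrix.SpecialLinearGroup.coe_mul]
    exact comm_rel w hu3
  have hZc : Z ∈ Subgroup.center (Matrix.SpecialLinearGroup (Fin 3) F) := by
    rw [Subgroup.mem_center_iff]
    intro g
    apply Subtype.ext
    simp only [Matrix.SpecialLinearGroup.coe_mul]
    have : Zm w = w • (1 : Matrix (Fin 3) (Fin 3) F) := by
      ext i j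
      fin_cases i <;> fin_cases j <;> simp [Zm]
    show (g : Matrix (Fin 3) (Fin 3) F) * Zm w = Zm w * g
    rw [this]; simp
  have hZ1 : Z ≠ 1 := by
    intro h
    have h2 := congrArg (fun x : Matrix.SpecialLinearGroup (Fin 3) F => (x : Matrix (Fin 3) (Fin 3) F) 0 0) h
    simp [Z, Zm] at h2
    apply hu
    exact Units.ext h2
  -- decompose P and D
  have hC := (Subgroup.isComplement'_def.mp hK)
  obtain ⟨⟨⟨z1, hz1⟩, ⟨k1, hk1⟩⟩, h1, -⟩ := hC.existsUnique P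
  obtain ⟨⟨⟨z2, hz2⟩, ⟨k2, hk2⟩⟩, h2, -⟩ := hC.existsUnique D
  simp only at h1 h2
  have hz1' := Subgroup.mem_center_iff.mp hz1
  have hz2' := Subgroup.mem_center_iff.mp hz2
  -- Z = P D P⁻¹ D⁻¹ = k1 k2 k1⁻¹ k2⁻¹
  have hZeq : Z = k1 * k2 * k1⁻¹ * k2⁻¹ := by
    have e1 : Z = P * D * (D * P)⁻¹ := by
      rw [hrel]; group
    rw [e1, ← h1, ← h2]
    have a1 := hz1' k1
    have a2 := hz1' k2
    have a3 := hz2' k1
    have a4 := hz2' k2
    have a5 := hz1' z2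
    rw [_root_.mul_inv_rev, _root_.mul_inv_rev, _root_.mul_inv_rev]
    -- move central elements
    have c1 : ∀ g, g * z1 = z1 * g := hz1'
    have c2 : ∀ g, g * z2 = z2 * g := hz2'
    have c1i : ∀ g, g * z1⁻¹ = z1⁻¹ * g := by
      intro g
      have := c1 g
      calc g * z1⁻¹ = z1⁻¹ * (z1 * g) * z1⁻¹ := by group
        _ = z1⁻¹ * (g * z1) * z1⁻¹ := by rw [this]
        _ = z1⁻¹ * g := by group
    have c2i : ∀ g, g * z2⁻¹ = z2⁻¹ * g := by
      intro g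
      have := c2 g
      calc g * z2⁻¹ = z2⁻¹ * (z2 * g) * z2⁻¹ := by group
        _ = z2⁻¹ * (g * z2) * z2⁻¹ := by rw [this]
        _ = z2⁻¹ * g := by group
    calc z1 * k1 * (z2 * k2) * (k1⁻¹ * z1⁻¹ * (k2⁻¹ * z2⁻¹))
        = z1 * k1 * (z2 * k2) * (k1⁻¹ * (z1⁻¹ * k2⁻¹) * z2⁻¹) := by group
      _ = z1 * k1 * (z2 * k2) * (k1⁻¹ * (k2⁻¹ * z1⁻¹) * z2⁻¹) := by rw [c1i]
      _ = z1 * (k1 * z2) * k2 * k1⁻¹ * k2⁻¹ * z1⁻¹ * z2⁻¹ := by group
      _ = z1 * (z2 * k1) * k2 * k1⁻¹ * k2⁻¹ * z1⁻¹ * z2⁻¹ := by rw [c2]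
      _ = z1 * z2 * ((k1 * k2 * k1⁻¹ * k2⁻¹) * z1⁻¹) * z2⁻¹ := by group
      _ = z1 * z2 * (z1⁻¹ * (k1 * k2 * k1⁻¹ * k2⁻¹)) * z2⁻¹ := by rw [c1i]
      _ = z1 * (z2 * z1⁻¹) * (k1 * k2 * k1⁻¹ * k2⁻¹) * z2⁻¹ := by group
      _ = z1 * (z1⁻¹ * z2) * (k1 * k2 * k1⁻¹ * k2⁻¹) * z2⁻¹ := by rw [c1i]
      _ = z2 * ((k1 * k2 * k1⁻¹ * k2⁻¹) * z2⁻¹) := by group
      _ = z2 * (z2⁻¹ * (k1 * k2 * k1⁻¹ * k2⁻¹)) := by rw [c2i]
      _ = k1 * k2 * k1⁻¹ * k2⁻¹ := by group
  have hZK : Z ∈ K := by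
    rw [hZeq]
    exact K.mul_mem (K.mul_mem (K.mul_mem hk1 hk2) (K.inv_mem hk1)) (K.inv_mem hk2)
  have hdisj := hK.disjoint
  have := Subgroup.disjoint_def.mp hdisj hZc hZK
  exact hZ1 this

end Cfsg.Agent.S2738
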