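import Mathlib
import Cfsg.Statements.S2739
import Cfsg.Agent.Lib.Helper5.PSL34

set_option autoImplicit false
open scoped Pointwise
open Cfsg

namespace Cfsg.Agent.S2739

open scoped Pointwise

/-- a subgroup of order three of `PSL_3(4)` is generated by the image of a non-central element of
cube one -/
theorem exists_gen {F : Type*} [Field F] [Fintype F] (hF : Fintype.card F = 4)
    (X : Subgroup (Matrix.ProjectiveSpecialLinearGroup (Fin 3) F)) (hX : Nat.card ↥X = 3) :
    ∃ g : Matrix.SpecialLinearGroup (Fin 3) F, g ^ 3 = 1 ∧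
      g ∉ Subgroup.center (Matrix.SpecialLinearGroup (Fin 3) F) ∧
      X = Subgroup.zpowers
        (QuotientGroup.mk' (Subgroup.center (Matrix.SpecialLinearGroup (Fin 3) F)) g) := by
  have hfin : Finite ↥X := Nat.finite_of_card_ne_zero (by rw [hX]; norm_num)
  have hne : X ≠ ⊥ := by
    intro h
    rw [h, Subgroup.card_bot] at hX
    omega
  obtain ⟨⟨x, hx⟩, hx1⟩ := (Subgroup.ne_bot_iff_exists_ne_one).mp hne
  have hx1' : x ≠ 1 := fun h => hx1 (Subtype.ext h)
  have hle : Subgroup.zpowers x ≤ X := by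
    rw [Subgroup.zpowers_le]; exact hx
  have hdvd : orderOf x ∣ 3 := by
    have h1 : orderOf (⟨x, hx⟩ : ↥X) ∣ Nat.card ↥X := orderOf_dvd_natCard _
    rw [hX] at h1
    have h2 : orderOf (⟨x, hx⟩ : ↥X) = orderOf x := by
      rw [← Subgroup.orderOf_coe]
    rwa [h2] at h1
  have hord : orderOf x = 3 := by
    rcases (Nat.dvd_prime Nat.prime_three).mp hdvd with h | h
    · exact absurd (orderOf_eq_one_iff.mp h) hx1'
    · exact h
  have hXeq : X = Subgroup.zpowers x := by
    symm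
    apply Subgroup.eq_of_le_of_card_ge hle
    rw [Nat.card_zpowers, hord, hX]
  obtain ⟨g₀, rfl⟩ := QuotientGroup.mk'_surjective
    (Subgroup.center (Matrix.SpecialLinearGroup (Fin 3) F)) x
  refine ⟨g₀, ?_, ?_, hXeq⟩
  · apply Cfsg.Agent.Lib.Helper5.PSL34.center_cube hF
    rw [← QuotientGroup.eq_one_iff]
    show QuotientGroup.mk' (Subgroup.center (Matrix.SpecialLinearGroup (Fin 3) F)) (g₀ ^ 3) = 1
    rw [map_pow]
    have := pow_orderOf_eq_one
      (QuotientGroup.mk' (Subgroup.center (Matrix.SpecialLinearGroup (Fin 3) F)) g₀)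
    rwa [hord] at this
  · intro hc
    exact hx1' ((QuotientGroup.eq_one_iff _).mpr hc)

/-- In the projective special linear group PSL(3, 4) all subgroups of order 3 are conjugate. -/
theorem result (F : Type*) [Field F] [Fintype F] (hF : Fintype.card F = 4) (X Y : Subgroup (Matrix.ProjectiveSpecialLinearGroup (Fin 3) F)) (hX : Nat.card ↥X = 3) (hY : Nat.card ↥Y = 3) : ∃ g : Matrix.ProjectiveSpecialLinearGroup (Fin 3) F, MulAut.conj g • X = Y := by
  obtain ⟨ω, h0, h1, h3⟩ := Cfsg.Agent.Lib.Helper5.PSL34.exists_omega hF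
  obtain ⟨g, hg3, hgc, hXg⟩ := exists_gen hF X hX
  obtain ⟨g', hg3', hgc', hYg⟩ := exists_gen hF Y hY
  have hconj : IsConj g g' :=
    (Cfsg.Agent.Lib.Helper5.PSL34.isConj_dSL hF g hg3 hgc ω h0 h1 h3).symm.trans
      (Cfsg.Agent.Lib.Helper5.PSL34.isConj_dSL hF g' hg3' hgc' ω h0 h1 h3)
  obtain ⟨c, hc⟩ := isConj_iff.mp hconj
  set π := QuotientGroup.mk' (Subgroup.center (Matrix.SpecialLinearGroup (Fin 3) F)) with hπ
  refine ⟨π c, ?_⟩
  rw [hXg, hYg]
  show Subgroup.map (MulAut.conj (π c)).toMonoidHom (Subgroup.zpowers (π g)) = _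
  rw [MonoidHom.map_zpowers]
  congr 1
  show π c * π g * (π c)⁻¹ = π g'
  rw [← map_mul, ← map_inv, ← map_mul, hc]

end Cfsg.Agent.S2739
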