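import Cfsg.Statements.S2761
import Mathlib

set_option autoImplicit false
open Cfsg

namespace Cfsg.Agent.S2761

open Matrix

abbrev V := Fin 3 → ZMod 2
abbrev SL3 := Matrix.SpecialLinearGroup (Fin 3) (ZMod 2)

/-- matrices preserving the last coordinate functional -/
def stab : Subgroup SL3 where
  carrier := {M | ∀ v : V, (M.1 *ᵥ v) 2 = v 2}
  one_mem' := by intro v; simp
  mul_mem' := by
    intro M N hM hN v
    rw [Matrix.SpecialLinearGroup.coe_mul, ← Matrix.mulVec_mulVec, hM, hN]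
  inv_mem' := by
    intro M hM v
    have h1 : (M : Matrix (Fin 3) (Fin 3) (ZMod 2)) *ᵥ
        ((M⁻¹ : SL3) : Matrix (Fin 3) (Fin 3) (ZMod 2)) *ᵥ v = v := by
      rw [Matrix.mulVec_mulVec, ← Matrix.SpecialLinearGroup.coe_mul, mul_inv_cancel]; simp
    have h2 := hM (((M⁻¹ : SL3) : Matrix (Fin 3) (Fin 3) (ZMod 2)) *ᵥ v)
    rw [h1] at h2
    exact h2.symm

theorem qd_le_stab : Cfsg.qd 2 ≤ stab := by
  unfold Cfsg.qd
  rw [Subgroup.closure_le]
  rintro M ⟨h0, h1, h2⟩ v
  simp [Matrix.mulVec, dotProduct, Fin.sum_univ_three, h0, h1, h2]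

def pt (i : Fin 4) : V := ![((i.val % 2 : ℕ) : ZMod 2), ((i.val / 2 : ℕ) : ZMod 2), 1]

def idx (v : V) : Fin 4 :=
  if v 0 = 0 then (if v 1 = 0 then 0 else 2) else (if v 1 = 0 then 1 else 3)

theorem idx_pt (i : Fin 4) : idx (pt i) = i := by
  revert i; decide

theorem pt_idx (v : V) (hv : v 2 = 1) : pt (idx v) = v := by
  have key : ∀ a b : ZMod 2, pt (idx ![a, b, 1]) = ![a, b, 1] := by decide
  have e : v = ![v 0, v 1, 1] := by
    funext j; fin_cases j <;> simp [hv]
  rw [e]; exact key _ _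

theorem pt_two (i : Fin 4) : pt i 2 = 1 := by
  simp [pt]

instance : MulAction stab (Fin 4) where
  smul M i := idx (M.1.1 *ᵥ pt i)
  one_smul i := by
    show idx ((1 : SL3).1 *ᵥ pt i) = i
    simp [idx_pt]
  mul_smul M N i := by
    show idx ((M.1 * N.1).1 *ᵥ pt i) = idx (M.1.1 *ᵥ pt (idx (N.1.1 *ᵥ pt i)))
    rw [pt_idx _ (by rw [N.2, pt_two]), Matrix.SpecialLinearGroup.coe_mul, Matrix.mulVec_mulVec]

theorem smul_def' (M : stab) (i : Fin 4) : M • i = idx (M.1.1 *ᵥ pt i) := rfl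

noncomputable def phi : ↥(Cfsg.qd 2) →* Equiv.Perm (Fin 4) :=
  (MulAction.toPermHom stab (Fin 4)).comp (Subgroup.inclusion qd_le_stab)

theorem phi_apply (M : ↥(Cfsg.qd 2)) (i : Fin 4) : phi M i = idx (M.1.1 *ᵥ pt i) := rfl

theorem phi_injective : Function.Injective phi := by
  rw [injective_iff_map_eq_one]
  intro M hM
  have h : ∀ i : Fin 4, M.1.1 *ᵥ pt i = pt i := by
    intro i
    have h1 : phi M i = i := by rw [hM]; rfl
    rw [phi_apply] at h1
    have h2 := congrArg pt h1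
    rwa [pt_idx _ (by rw [qd_le_stab M.2, pt_two])] at h2
  apply Subtype.ext
  apply Subtype.ext
  have h0 := h 0
  have h1 := h 1
  have h2 := h 2
  ext i j
  have h0i := congrFun h0 i
  have h1i := congrFun h1 i
  have h2i := congrFun h2 i
  simp [pt, Matrix.mulVec, dotProduct, Fin.sum_univ_three] at h0i h1i h2i
  fin_cases i <;> fin_cases j <;> simp_all

def m01 : SL3 := ⟨!![1,1,1;0,1,0;0,0,1], by decide⟩
def m12 : SL3 := ⟨!![0,1,0;1,0,0;0,0,1], by decide⟩
def m23 : SL3 := ⟨!![1,1,0;0,1,0;0,0,1], by decide⟩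

theorem m01_mem : m01 ∈ Cfsg.qd 2 := Subgroup.subset_closure ⟨by decide, by decide, by decide⟩
theorem m12_mem : m12 ∈ Cfsg.qd 2 := Subgroup.subset_closure ⟨by decide, by decide, by decide⟩
theorem m23_mem : m23 ∈ Cfsg.qd 2 := Subgroup.subset_closure ⟨by decide, by decide, by decide⟩

theorem phi_m01 : phi ⟨m01, m01_mem⟩ = Equiv.swap 0 1 := by
  ext i
  rw [phi_apply]
  revert i
  decide

theorem phi_m12 : phi ⟨m12, m12_mem⟩ = Equiv.swap 1 2 := by
  ext i
  rw [phi_apply]
  revert i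
  decide

theorem phi_m23 : phi ⟨m23, m23_mem⟩ = Equiv.swap 2 3 := by
  ext i
  rw [phi_apply]
  revert i
  decide

theorem phi_surjective : Function.Surjective phi := by
  rw [← MonoidHom.range_eq_top, eq_top_iff]
  have h := Equiv.Perm.mclosure_swap_castSucc_succ 3
  intro σ _
  have hσ : σ ∈ Submonoid.closure (Set.range fun i : Fin 3 => Equiv.swap i.castSucc i.succ) := by
    rw [h]; trivial
  have hle : Submonoid.closure (Set.range fun i : Fin 3 => Equiv.swap i.castSucc i.succ)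
      ≤ (phi.range).toSubmonoid := by
    rw [Submonoid.closure_le]
    rintro _ ⟨i, rfl⟩
    fin_cases i
    · exact ⟨_, phi_m01⟩
    · exact ⟨_, phi_m12⟩
    · exact ⟨_, phi_m23⟩
  exact hle hσ


/-- The group Qd(2), the natural semidirect product of an elementary abelian group of order 4 by SL₂(2) (realised as the affine subgroup of SL₃(2)), is isomorphic to the symmetric group of degree 4. -/
theorem result : Nonempty (↥(Cfsg.qd 2) ≃* Equiv.Perm (Fin 4)) := by
  exact ⟨MulEquiv.ofBijective phi ⟨phi_injective, phi_surjective⟩⟩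

end Cfsg.Agent.S2761
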