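import Cfsg.Statements.S2781
import Cfsg.Agent.Lib.Helper7.RelTrace3
import Cfsg.Agent.Lib.Helper7.PRedIn6
import Cfsg.Agent.Lib.Helper7.CharPRes
import Cfsg.Agent.Lib.Helper7.PGroupComm

set_option autoImplicit false
open Cfsg

namespace Cfsg.Agent.S2781

open Cfsg.Agent.Lib.Helper7

/-- Let H act faithfully by conjugation on the elementary abelian p-subgroup V of a finite group, let O^p(H) be the subgroup of H generated by its elements of order prime to p, and T a Sylow p-subgroup of O^p(H). If V is generated by the H-conjugates of C_V(T) (V is the smallest H-invariant subgroup containing C_V(T)), then V = [V, O^p(H)]·C_V(O^p(H)). -/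
theorem result {G : Type*} [Group G] [Finite G] {p : ℕ} [Fact p.Prime] (V H : Subgroup G) (hV : Cfsg.IsElementaryAbelian p V) (hHV : H ≤ Subgroup.normalizer (V : Set G)) (hf : H ⊓ Subgroup.centralizer (V : Set G) = ⊥) (R : Subgroup G) (hR : R = (Cfsg.pResidual p ↥H).map H.subtype) (S : Sylow p ↥R) (T : Subgroup G) (hT : T = ((S : Subgroup ↥R).map R.subtype)) (hgen : ∀ W : Subgroup G, H ≤ Subgroup.normalizer (W : Set G) → (V ⊓ Subgroup.centralizer ((T : Subgroup G) : Set G)) ≤ W → V ≤ W) : ⁅V, R⁆ ⊔ (V ⊓ Subgroup.centralizer ((R : Subgroup G) : Set G)) = V := by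
  subst hR hT
  change ⁅V, pResidualIn p H⁆ ⊔ (V ⊓ Subgroup.centralizer ((pResidualIn p H : Subgroup G) : Set G)) = V
  have hTR : IsSylowIn p ((S : Subgroup ↥((pResidual p ↥H).map H.subtype)).map
      ((pResidual p ↥H).map H.subtype).subtype) (pResidualIn p H) := isSylowIn_map_subtype S
  have hRH : pResidualIn p H ≤ H := pResidualIn_le p H
  have hRV : pResidualIn p H ≤ Subgroup.normalizer (V : Set G) := hRH.trans hHV
  have hHR : H ≤ Subgroup.normalizer (pResidualIn p H : Set G) := le_normalizer_pResidualIn p H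
  have hcomm : ⁅V, pResidualIn p H⁆ ≤ V := Subgroup.le_normalizer_iff_commutator_le_left.mp hRV
  apply le_antisymm (sup_le hcomm inf_le_left)
  apply hgen
  · apply le_normalizer_sup (le_normalizer_commutator hHV hHR)
    exact Cfsg.Agent.Lib.Helper1.le_normalizer_inf hHV
      (hHR.trans (normalizer_le_normalizer_centralizer _))
  · intro z hz
    obtain ⟨hzV, hzT⟩ := Subgroup.mem_inf.mp hz
    obtain ⟨c, hc, w, hw, rfl⟩ := exists_central_mul_commutator_in hV hRV hTR.2.2 hzV hzT
    exact Subgroup.mul_mem _ (Subgroup.mem_sup_right hc) (Subgroup.mem_sup_left hw)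


end Cfsg.Agent.S2781
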