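import Cfsg.Statements.S2803
import Cfsg.Agent.Lib.Helper7.PRedIn4

set_option autoImplicit false
open Cfsg

namespace Cfsg.Agent.S2803

open Cfsg.Agent.Lib.Helper7
open scoped Pointwise

/-- Let L be a finite group and p a prime with C_L(O_p(L)) ≤ O_p(L), T a Sylow p-subgroup, and Y the largest p-reduced normal subgroup of L. Put T_L = C_T(Y) and L_T = N_L(T_L). Then L = L_T · C_L(Y) (elementwise), T_L = O_p(L_T), and Y = Ω₁(Z(T_L)). -/
theorem result {L : Type*} [Group L] [Finite L] {p : ℕ} [Fact p.Prime] (hchar : Subgroup.centralizer (Cfsg.pCore p L : Set L) ≤ Cfsg.pCore p L) (T : Sylow p L) (Y : Subgroup L) (hY : (Cfsg.IsPReducedNormal p Y ∧ ∀ V : Subgroup L, Cfsg.IsPReducedNormal p V → V ≤ Y)) (TL : Subgroup L) (hTL : TL = (T : Subgroup L) ⊓ Subgroup.centralizer (Y : Set L)) : (∀ g : L, ∃ a ∈ Subgroup.normalizer (TL : Set L), ∃ c ∈ Subgroup.centralizer (Y : Set L), g = a * c) ∧ (Cfsg.pCore p ↥(Subgroup.normalizer (TL : Set L))).map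 (Subgroup.normalizer (TL : Set L)).subtype = TL ∧ Y = Cfsg.omegaOne p (TL ⊓ Subgroup.centralizer (TL : Set L)) := by
  have hL : CharPIn p (⊤ : Subgroup L) := (charPIn_top_iff p).mpr hchar
  have hT : IsSylowIn p (T : Subgroup L) ⊤ := isSylowIn_of_sylow T le_top
  have hYr : PRedIn p ⊤ Y := (isPReducedNormal_iff_top Y).mp hY.1
  have hmax : ∀ V : Subgroup L, PRedIn p ⊤ V → V ≤ Y :=
    fun V hV => hY.2 V ((isPReducedNormal_iff_top V).mpr hV)
  obtain ⟨c1, c2, c3⟩ := pRedIn_structure hL hT hYr hmax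
  rw [← hTL] at c1 c2 c3
  rw [top_inf_eq, top_inf_eq] at c1
  rw [top_inf_eq] at c2
  have hYn : Y.Normal := hY.1.1
  have hCn : (Subgroup.centralizer (Y : Set L)).Normal := Subgroup.normal_centralizer
  refine ⟨?_, c2, ?_⟩
  · intro g
    have hg : g ∈ ((Subgroup.normalizer (TL : Set L) ⊔ Subgroup.centralizer (Y : Set L) :
        Subgroup L) : Set L) := c1 (Subgroup.mem_top g)
    rw [Subgroup.mul_normal, Set.mem_mul] at hg
    obtain ⟨a, ha, c, hc, rfl⟩ := hg
    exact ⟨a, ha, c, hc, rfl⟩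
  · rw [omegaOne_center_eq_omegaZOf]
    exact c3

end Cfsg.Agent.S2803
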