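import Cfsg.Statements.S2807
import Cfsg.Agent.Lib.Helper1.Yo9

set_option autoImplicit false
open Cfsg

namespace Cfsg.Agent.S2807

/-- Let S be a Sylow p-subgroup of the finite group G. If S ∩ G' ≠ S ∩ (N_G(S))' (derived subgroups), then the wreath product Z_p ≀ Z_p — realised as a Sylow p-subgroup of the symmetric group of degree p² — is a homomorphic image of S. -/
theorem result {G : Type*} [Group G] [Finite G] {p : ℕ} [Fact p.Prime] (S : Sylow p G) (h : (S : Subgroup G) ⊓ commutator G ≠ (S : Subgroup G) ⊓ ⁅Subgroup.normalizer ((S : Subgroup G) : Set G), Subgroup.normalizer ((S : Subgroup G) : Set G)⁆) : ∃ (P : Sylow p (Equiv.Perm (Fin (p ^ 2)))) (f : ↥(S : Subgroup G) →* ↥(P : Subgroup (Equiv.Perm (Fin (p ^ 2))))), Function.Surjective f := by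
  by_contra hcon
  apply h
  apply Cfsg.Agent.Lib.Helper1.Yo.yoshida_focal S (S : Subgroup G)
    (Cfsg.Agent.Lib.Helper1.Yo.sylow_weaklyClosed_self S)
  intro A _ hA M z hcfg ν e he
  by_contra hne
  apply hcon
  have htop : (S : Subgroup G).subgroupOf (S : Subgroup G) = ⊤ := Subgroup.subgroupOf_self _
  rw [htop] at hcfg
  exact Cfsg.Agent.Lib.Helper1.Yo.exists_sylow_perm_surjective S.2 hA M z hcfg ν e he hne

end Cfsg.Agent.S2807
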