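import Cfsg.Statements.S2809
import Cfsg.Agent.Lib.Helper7.CharP

set_option autoImplicit false
open Cfsg

namespace Cfsg.Agent.S2809

open Cfsg.Agent.Lib.Helper7

theorem iter_mono {H : Type*} [Group H] (R A L : Subgroup H) (hAL : A ≤ L) (n : ℕ) :
    Cfsg.iterCommutator R A n ≤ Cfsg.iterCommutator R L n := by
  induction n with
  | zero => exact le_rfl
  | succ n ih =>
    show ⁅Cfsg.iterCommutator R A n, A⁆ ≤ ⁅Cfsg.iterCommutator R L n, L⁆
    exact Subgroup.commutator_mono ih hAL

theorem iter_eq {H : Type*} [Group H] (R A : Subgroup H) (h : ⁅⁅R, A⁆, A⁆ = ⁅R, A⁆) (n : ℕ) :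
    Cfsg.iterCommutator R A (n + 1) = ⁅R, A⁆ := by
  induction n with
  | zero => rfl
  | succ n ih =>
    show ⁅Cfsg.iterCommutator R A (n + 1), A⁆ = ⁅R, A⁆
    rw [ih, h]

/-- Let H be a finite group, p a prime, R a p-subgroup of H with C_H(R) ≤ R, and L a subgroup of N_H(R) acting nilpotently on R (some iterated commutator [R, L, …, L] is trivial). Then L is a p-group. -/
theorem result {H : Type*} [Group H] [Finite H] {p : ℕ} [Fact p.Prime] (R : Subgroup H) (hR : IsPGroup p ↥R) (hC : Subgroup.centralizer (R : Set H) ≤ R) (L : Subgroup H) (hL : L ≤ Subgroup.normalizer (R : Set H)) (hnil : ∃ n : ℕ, Cfsg.iterCommutator R L n = ⊥) : IsPGroup p ↥L := by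
  obtain ⟨n, hn⟩ := hnil
  apply isPGroup_of_forall_coprime_eq_one
  intro x hxL hx
  have hAL : Subgroup.zpowers x ≤ L := by rw [Subgroup.zpowers_le]; exact hxL
  have hAR : Subgroup.zpowers x ≤ Subgroup.normalizer (R : Set H) := hAL.trans hL
  have hA : (Nat.card (Subgroup.zpowers x)).Coprime p := by rwa [Nat.card_zpowers]
  have hcc := Cfsg.Agent.Lib.Helper1.coprime_commutator_commutator (Subgroup.zpowers x) R hAR
    (coprime_card_of_isPGroup hR hA) (Or.inr (isSolvable_of_isPGroup hR))
  have hbot : ⁅R, Subgroup.zpowers x⁆ = ⊥ := by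
    cases n with
    | zero =>
      have : R = ⊥ := hn
      rw [this]
      exact Subgroup.commutator_bot_left _
    | succ n =>
      rw [← iter_eq R _ hcc n]
      exact le_bot_iff.mp (hn ▸ iter_mono R _ L hAL (n + 1))
  rw [Subgroup.commutator_comm, Subgroup.commutator_eq_bot_iff_le_centralizer] at hbot
  have hxC : x ∈ Subgroup.centralizer (R : Set H) := hbot (Subgroup.mem_zpowers x)
  exact eq_one_of_mem_isPGroup_of_coprime hR (hC hxC) hx

end Cfsg.Agent.S2809
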