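import Cfsg.Statements.S2810
import Cfsg.Agent.Lib.Helper7.CharP
import Cfsg.Agent.Lib.Helper7.StabChain
import Cfsg.Agent.S2809

set_option autoImplicit false
open Cfsg

namespace Cfsg.Agent.S2810

open Cfsg.Agent.Lib.Helper7

/-- Let H be a finite group of characteristic p and L a subgroup of H centralizing every factor of some H-invariant chain 1 = A₀ ≤ A₁ ≤ … ≤ Aₙ = O_p(H) of normal subgroups (that is, [A_{i+1}, L] ≤ Aᵢ for each i). Then L ≤ O_p(H). -/
theorem result {H : Type*} [Group H] [Finite H] {p : ℕ} [Fact p.Prime] (hchar : Subgroup.centralizer (Cfsg.pCore p H : Set H) ≤ Cfsg.pCore p H) (L : Subgroup H) (n : ℕ) (A : Fin (n + 1) → Subgroup H) (h0 : A 0 = ⊥) (hn : A (Fin.last n) = Cfsg.pCore p H) (hmono : Monotone A) (hnorm : ∀ i, (A i).Normal) (hcent : ∀ i : Fin n, ⁅A i.succ, L⁆ ≤ A i.castSucc) : L ≤ Cfsg.pCore p H := by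
  haveI : ∀ i, (A i).Normal := hnorm
  set N : Subgroup H := ⨅ i : Fin n, centralizerMod (A i.castSucc) (A i.succ) with hN
  have hNn : N.Normal := Subgroup.normal_iInf_normal (fun i => inferInstance)
  have hLN : L ≤ N := by
    rw [hN]
    exact le_iInf (fun i => le_centralizerMod_iff.mpr (hcent i))
  have hNc : ∀ i : Fin n, ⁅A i.succ, N⁆ ≤ A i.castSucc := by
    intro i
    exact le_centralizerMod_iff.mp (iInf_le _ i)
  have hnil := iterCommutator_eq_bot_of_chain N n A h0 hNc
  rw [hn] at hnil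
  have hRn : (Cfsg.pCore p H).Normal := pCore_normal p H
  have hNp : IsPGroup p N :=
    Cfsg.Agent.S2809.result (Cfsg.pCore p H) (pCore_isPGroup p H) hchar N
      (by rw [Subgroup.normalizer_eq_top]; exact le_top) ⟨n, hnil⟩
  exact hLN.trans (le_pCore hNn hNp)

end Cfsg.Agent.S2810
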