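import Cfsg.Statements.S2813
import Cfsg.Agent.Lib.Helper7.CharP

set_option autoImplicit false
open Cfsg

namespace Cfsg.Agent.S2813

open Cfsg.Agent.Lib.Helper7
open scoped commutatorElement

/-- Let K be a subgroup of the finite group H with O_p(K) = 1 and Y a p-subgroup of N_H(K) with [K, Y, Y] = 1. Then [K, Y] = 1. -/
theorem result {H : Type*} [Group H] [Finite H] {p : ℕ} [Fact p.Prime] (K : Subgroup H) (hO : Cfsg.pCore p ↥K = ⊥) (Y : Subgroup H) (hY : IsPGroup p ↥Y) (hYK : Y ≤ Subgroup.normalizer (K : Set H)) (hq : ⁅⁅K, Y⁆, Y⁆ = ⊥) : ⁅K, Y⁆ = ⊥ := by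
  set X : Subgroup H := ⁅K, Y⁆ with hX
  have hXK : X ≤ K := Subgroup.le_normalizer_iff_commutator_le_left.mp hYK
  have hKX : K ≤ Subgroup.normalizer (X : Set H) := Subgroup.normalizer_commutator_ge_left K Y
  have hYX : Y ≤ Subgroup.normalizer (X : Set H) := Subgroup.normalizer_commutator_ge_right K Y
  set M : Subgroup H := X ⊔ Y with hM
  -- X centralizes Y
  have hXY : X ≤ Subgroup.centralizer (Y : Set H) :=
    Subgroup.commutator_eq_bot_iff_le_centralizer.mp hq
  -- Y ≤ O_p(M)
  have hYP : Y ≤ pCoreIn p M := by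
    apply le_pCoreIn le_sup_right hY
    exact sup_le (hXY.trans (Subgroup.centralizer_le_normalizer _)) Subgroup.le_normalizer
  -- K normalizes M
  have hKM : K ≤ Subgroup.normalizer (M : Set H) := by
    intro k hk
    apply mem_normalizer_of_map_conj_le
    rw [hM, Subgroup.map_sup]
    apply sup_le
    · exact (map_conj_le_of_mem_normalizer (hKX hk)).trans le_sup_left
    · rintro _ ⟨y, hy, rfl⟩
      have h1 : ⁅k, y⁆ ∈ X := Subgroup.commutator_mem_commutator hk hy
      have e : (MulAut.conj k).toMonoidHom y = ⁅k, y⁆ * y := by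
        simp [MulAut.conj_apply, commutatorElement_def]
      rw [e]
      exact Subgroup.mul_mem_sup h1 hy
  have hKP : K ≤ Subgroup.normalizer (pCoreIn p M : Set H) :=
    hKM.trans (normalizer_le_normalizer_pCoreIn p M)
  -- [K, Y] ≤ P
  have hXP : X ≤ pCoreIn p M := by
    have h1 : ⁅K, Y⁆ ≤ ⁅K, pCoreIn p M⁆ := Subgroup.commutator_mono le_rfl hYP
    have h2 : ⁅pCoreIn p M, K⁆ ≤ pCoreIn p M :=
      Subgroup.le_normalizer_iff_commutator_le_left.mp hKP
    rw [Subgroup.commutator_comm] at h2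
    exact h1.trans h2
  have hXp : IsPGroup p X := (pCoreIn_isPGroup p M).to_le hXP
  -- X is a normal p-subgroup of K
  have hXle : X ≤ pCoreIn p K := le_pCoreIn hXK hXp hKX
  have : pCoreIn p K = ⊥ := by
    unfold pCoreIn
    rw [hO, Subgroup.map_bot]
  rw [this] at hXle
  exact le_bot_iff.mp hXle

end Cfsg.Agent.S2813
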