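import Cfsg.Statements.S2815
import Cfsg.Agent.Lib.Helper7.QuasisimpleResidual

set_option autoImplicit false
open Cfsg

namespace Cfsg.Agent.S2815

open Cfsg.Agent.Lib.Helper7

/-- Let H be a finite group and p a prime dividing its order with O_p(H) = 1, and suppose K = O^p(H) (generated by the elements of order prime to p) is quasisimple. Then K = F*(H); for every nontrivial p-subgroup Y of H, K = [K, Y] and K lies in the subgroup generated by the K-conjugates of Y; every normal subgroup of H not containing K has order prime to p; and H is p-irreducible. -/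
theorem result {H : Type*} [Group H] [Finite H] {p : ℕ} [Fact p.Prime] (hp : p ∣ Nat.card H) (hO : Cfsg.pCore p H = ⊥) (hq : Cfsg.IsQuasisimple ↥(Cfsg.pResidual p H)) : Cfsg.pResidual p H = Cfsg.generalizedFittingSubgroup H ∧ (∀ Y : Subgroup H, IsPGroup p ↥Y → Y ≠ ⊥ → ⁅Cfsg.pResidual p H, Y⁆ = Cfsg.pResidual p H ∧ Cfsg.pResidual p H ≤ ⨆ k : ↥(Cfsg.pResidual p H), Y.map (MulAut.conj (k : H)).toMonoidHom) ∧ (∀ C : Subgroup H, C.Normal → ¬ Cfsg.pResidual p H ≤ C → (Nat.card ↥C).Coprime p) ∧ Cfsg.IsPIrreducible p H := by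
  refine ⟨pResidual_eq_generalizedFittingSubgroup hO hq, ?_, ?_, ?_, ?_⟩
  · intro Y hY hY1
    have h1 := commutator_pResidual_eq hO hq Y hY hY1
    refine ⟨h1, ?_⟩
    calc pResidual p H = ⁅pResidual p H, Y⁆ := h1.symm
      _ ≤ _ := commutator_le_iSup_conj (pResidual p H) Y
  · intro C hC hKC
    haveI := hC
    exact coprime_card_of_normal_of_not_le hO hq C hKC
  · intro hcl
    obtain ⟨T⟩ : Nonempty (Sylow p H) := inferInstance
    have hTn : (T : Subgroup H).Normal := hcl T
    have h1 := le_pCore hTn T.2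
    rw [hO, le_bot_iff] at h1
    exact T.ne_bot_of_dvd_card hp h1
  · intro N hN hNcl
    by_contra hKN
    haveI := hN
    have hcop := coprime_card_of_normal_of_not_le hO hq N hKN
    apply hNcl
    intro Q
    have h1 : (Q : Subgroup ↥N) = ⊥ := by
      rw [← Subgroup.card_eq_one]
      obtain ⟨n, hn⟩ := IsPGroup.iff_card.mp Q.2
      have h2 : Nat.card (Q : Subgroup ↥N) ∣ Nat.card ↥N := Subgroup.card_subgroup_dvd_card _
      have h3 : (Nat.card (Q : Subgroup ↥N)).Coprime (Nat.card (Q : Subgroup ↥N)) := by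
        apply Nat.Coprime.coprime_dvd_left h2
        rw [hn]
        exact hcop.pow_right n
      exact (Nat.coprime_self _).mp h3
    rw [h1]
    infer_instance


end Cfsg.Agent.S2815
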