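import Cfsg.Statements.S2816
import Cfsg.Agent.Lib.Helper7.QuasiNilp3

set_option autoImplicit false
open Cfsg

namespace Cfsg.Agent.S2816

open Cfsg.Agent.Lib.Helper7

/-- Let H be a finite group and p a prime with O_p(H) = 1, and Y a p-subgroup of H. Then for every subnormal subgroup K of H containing Y, [F*(H), Y] = [F*(K), Y] = [F*(K), Y, Y]; and if Y₀ ≤ Y with [F*(H), Y, Y₀] = 1 then Y₀ = 1 (in particular [F*(H), Y] = 1 forces Y = 1). -/
theorem result {H : Type*} [Group H] [Finite H] {p : ℕ} [Fact p.Prime] (hO : Cfsg.pCore p H = ⊥) (Y : Subgroup H) (hY : IsPGroup p ↥Y) : (∀ K : Subgroup H, K.IsSubnormal → Y ≤ K → ⁅Cfsg.generalizedFittingSubgroup H, Y⁆ = ⁅(Cfsg.generalizedFittingSubgroup ↥K).map K.subtype, Y⁆ ∧ ⁅(Cfsg.generalizedFittingSubgroup ↥K).map K.subtype, Y⁆ = ⁅⁅(Cfsg.generalizedFittingSubgroup ↥K).map K.subtype, Y⁆, Y⁆) ∧ (∀ Y₀ : Subgroup H, Y₀ ≤ Y → ⁅⁅Cfsg.generalizedFittingSubgroup H, Y⁆, Y₀⁆ = ⊥ → Y₀ =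 ⊥) := by
  haveI hRn : (Cfsg.generalizedFittingSubgroup H).Normal :=
    Cfsg.Agent.Lib.Helper8.generalizedFittingSubgroup_normal
  set R := Cfsg.generalizedFittingSubgroup H with hR
  have hYR : Y ≤ Subgroup.normalizer (R : Set H) := by
    rw [Subgroup.normalizer_eq_top]; exact le_top
  have hqR : Cfsg.generalizedFittingSubgroup ↥R = ⊤ := Cfsg.Agent.Lib.Helper8.gfs_gfs_eq_top
  have hOR : Cfsg.pCore p ↥R = ⊥ := pCore_eq_bot_of_isSubnormal hRn.isSubnormal hO
  have hsup := commutator_sup_centralizer_of_quasinilpotent hYR hqR hOR hY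
  have hDD : ⁅R, Y⁆ = ⁅⁅R, Y⁆, Y⁆ :=
    commutator_eq_commutator_commutator_of_quasinilpotent hYR hqR hOR hY
  have hDR : ⁅R, Y⁆ ≤ R := Subgroup.le_normalizer_iff_commutator_le_left.mp hYR
  have hDsn : (⁅R, Y⁆ : Subgroup H).IsSubnormal := by
    have hn : ((⁅R, Y⁆ : Subgroup H).subgroupOf R).Normal :=
      Subgroup.normal_subgroupOf_of_le_normalizer (Subgroup.normalizer_commutator_ge_left R Y)
    exact Subgroup.IsSubnormal.trans hDR hn.isSubnormal hRn.isSubnormal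
  have hqD : Cfsg.generalizedFittingSubgroup ↥(⁅R, Y⁆ : Subgroup H) = ⊤ :=
    gfs_eq_top_of_isSubnormal_of_le hDsn hDR
  refine ⟨?_, ?_⟩
  · intro K hK hYK
    set RK := (Cfsg.generalizedFittingSubgroup ↥K).map K.subtype with hRK
    haveI : (Cfsg.generalizedFittingSubgroup ↥K).Normal :=
      Cfsg.Agent.Lib.Helper8.generalizedFittingSubgroup_normal
    have hRKR : RK ≤ R := map_gfs_le_of_isSubnormal hK
    have hRKsn : RK.IsSubnormal :=
      Subgroup.IsSubnormal.trans' (Subgroup.Normal.isSubnormal inferInstance) hK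
    have hYRK : Y ≤ Subgroup.normalizer (RK : Set H) :=
      hYK.trans (le_normalizer_map_subtype_of_normal _)
    have hqRK : Cfsg.generalizedFittingSubgroup ↥RK = ⊤ :=
      gfs_eq_top_of_isSubnormal_of_le hRKsn hRKR
    have hORK : Cfsg.pCore p ↥RK = ⊥ := pCore_eq_bot_of_isSubnormal hRKsn hO
    have hDK : ⁅R, Y⁆ ≤ K := le_of_commutator_eq_of_isSubnormal hK hYK hDD.symm
    have hDRK : ⁅R, Y⁆ ≤ RK := le_map_gfs_of_le hDK hDsn hqD
    refine ⟨?_, commutator_eq_commutator_commutator_of_quasinilpotent hYRK hqRK hORK hY⟩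
    apply le_antisymm
    · calc ⁅R, Y⁆ = ⁅⁅R, Y⁆, Y⁆ := hDD
        _ ≤ ⁅RK, Y⁆ := Subgroup.commutator_mono hDRK le_rfl
    · exact Subgroup.commutator_mono hRKR le_rfl
  · intro Y₀ hY₀ hc
    apply eq_bot_of_le_centralizer_gfs hO (hY.to_le hY₀)
    rw [Subgroup.le_centralizer_iff]
    show R ≤ _
    rw [← hsup]
    apply sup_le
    · exact Subgroup.commutator_eq_bot_iff_le_centralizer.mp hc
    · exact inf_le_right.trans (Subgroup.centralizer_le hY₀)

end Cfsg.Agent.S2816
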