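import Cfsg.Statements.S2817
import Cfsg.Agent.Lib.Helper7.QuasiNilp4

set_option autoImplicit false
open Cfsg

namespace Cfsg.Agent.S2817

open Cfsg.Agent.Lib.Helper7

/-- Let H be a finite group and p a prime with O_p(H) = 1, Q a p-subgroup of H, L = [F*(H), Q], and F the largest normal subgroup of F*(H) centralized by Q (a normal subgroup of F*(H) centralized by Q and containing every such). Then F = C_{F*(H)}(LQ); L = [L, Q]; L ∩ F ≤ Φ(L); every p-subgroup B of N_H(Q) with [L, B] ≤ F satisfies [L, B] = 1; and C_H(FL) has order prime to p. -/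
theorem result {H : Type*} [Group H] [Finite H] {p : ℕ} [Fact p.Prime] (hO : Cfsg.pCore p H = ⊥) (Q : Subgroup H) (hQ : IsPGroup p ↥Q) (L : Subgroup H) (hL : L = ⁅Cfsg.generalizedFittingSubgroup H, Q⁆) (F : Subgroup H) (hF : F ≤ Cfsg.generalizedFittingSubgroup H ∧ Cfsg.generalizedFittingSubgroup H ≤ Subgroup.normalizer (F : Set H) ∧ Q ≤ Subgroup.centralizer (F : Set H) ∧ ∀ N : Subgroup H, N ≤ Cfsg.generalizedFittingSubgroup H → Cfsg.generalizedFittingSubgroup H ≤ Subgroup.normalizer (N : Set H) → Q ≤ Subgroup.centralizer (N : Set H) → N ≤ F) : F = Cfsg.generalizedFittingSubgroup H ⊓ Subgroup.centralizer ((L ⊔ Q : Subgroup H) : Set H) ∧ ⁅L, Q⁆ = L ∧ L ⊓ F ≤ (frattini ↥L).map L.subtype ∧ (∀ B : Subgroup H, IsPGroup p ↥B → B ≤ Subgroup.normalizer (Q : Set H) → ⁅L, B⁆ ≤ F → ⁅L, B⁆ = ⊥) ∧ (Nat.card ↥(Subgroup.centralizer ((F ⊔ L : Subgroup H) : Set H))).Coprime p := by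
  obtain ⟨hFR, hRF, hQF, hFmax⟩ := hF
  have hRn : (Cfsg.generalizedFittingSubgroup H).Normal :=
    Cfsg.Agent.Lib.Helper8.generalizedFittingSubgroup_normal
  set R := Cfsg.generalizedFittingSubgroup H with hR
  have hnR : ∀ A : Subgroup H, A ≤ Subgroup.normalizer (R : Set H) := fun A => by
    rw [Subgroup.normalizer_eq_top]; exact le_top
  have hqR : Cfsg.generalizedFittingSubgroup ↥R = ⊤ := Cfsg.Agent.Lib.Helper8.gfs_gfs_eq_top
  have hOR : Cfsg.pCore p ↥R = ⊥ := pCore_eq_bot_of_isSubnormal hRn.isSubnormal hO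
  have hsupR := commutator_sup_centralizer_of_quasinilpotent (hnR Q) hqR hOR hQ
  have hLL := commutator_eq_commutator_commutator_of_quasinilpotent (hnR Q) hqR hOR hQ
  rw [← hL] at hsupR hLL
  have hLR : L ≤ R := by
    rw [hL]; exact Subgroup.le_normalizer_iff_commutator_le_left.mp (hnR Q)
  have hRL : R ≤ Subgroup.normalizer (L : Set H) := by
    rw [hL]; exact Subgroup.normalizer_commutator_ge_left R Q
  have hQL : Q ≤ Subgroup.normalizer (L : Set H) := by
    rw [hL]; exact Subgroup.normalizer_commutator_ge_right R Q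
  have hLsn : L.IsSubnormal :=
    Subgroup.IsSubnormal.trans hLR
      (Subgroup.normal_subgroupOf_of_le_normalizer hRL).isSubnormal hRn.isSubnormal
  have hqL : Cfsg.generalizedFittingSubgroup ↥L = ⊤ := gfs_eq_top_of_isSubnormal_of_le hLsn hLR
  have hOL : Cfsg.pCore p ↥L = ⊥ := pCore_eq_bot_of_isSubnormal hLsn hO
  have hFQ : ⁅F, Q⁆ = ⊥ :=
    Subgroup.commutator_eq_bot_iff_le_centralizer.mpr (Subgroup.le_centralizer_iff.mp hQF)
  have hLF : ⁅L, F⁆ = ⊥ := by
    rw [hL]
    apply Subgroup.commutator_commutator_eq_bot_of_rotate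
    · rw [Subgroup.commutator_comm Q F, hFQ]; exact Subgroup.commutator_bot_left R
    · rw [eq_bot_iff, ← hFQ]
      exact Subgroup.commutator_mono (Subgroup.le_normalizer_iff_commutator_le_left.mp hRF) le_rfl
  have hLCF : L ≤ Subgroup.centralizer (F : Set H) :=
    Subgroup.commutator_eq_bot_iff_le_centralizer.mp hLF
  have hFcent : F ≤ Subgroup.centralizer ((L ⊔ Q : Subgroup H) : Set H) := by
    rw [Subgroup.le_centralizer_iff]
    exact sup_le hLCF hQF
  -- (a)
  have ha : F = R ⊓ Subgroup.centralizer ((L ⊔ Q : Subgroup H) : Set H) := by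
    apply le_antisymm (le_inf hFR hFcent)
    apply hFmax _ inf_le_left
    · refine hsupR.ge.trans (sup_le ?_ ?_)
      · have h1 : L ≤ Subgroup.centralizer
            ((R ⊓ Subgroup.centralizer ((L ⊔ Q : Subgroup H) : Set H) : Subgroup H) : Set H) := by
          rw [Subgroup.le_centralizer_iff]
          exact inf_le_right.trans (Subgroup.centralizer_le (SetLike.coe_subset_coe.mpr le_sup_left))
        exact h1.trans (Subgroup.centralizer_le_normalizer _)
      · apply Cfsg.Agent.Lib.Helper1.le_normalizer_inf (hnR _)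
        refine le_trans ?_ (normalizer_le_normalizer_centralizer (L ⊔ Q))
        exact le_normalizer_sup (inf_le_left.trans hRL)
          (inf_le_right.trans (Subgroup.centralizer_le_normalizer _))
    · rw [Subgroup.le_centralizer_iff]
      exact inf_le_right.trans (Subgroup.centralizer_le (SetLike.coe_subset_coe.mpr le_sup_right))
  -- (c)
  have hc : L ⊓ F ≤ (frattini ↥L).map L.subtype := by
    have hZ0 : L ⊓ F ≤ ⁅L, L⁆ := by
      have hcop : (Nat.card ↥Q).Coprime ((⁅L, L⁆ : Subgroup H).relIndex L) :=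
        (coprime_card_of_isPGroup hQ
          (coprime_relIndex_commutator_of_quasinilpotent hqL hOL)).symm
      have hQLL : Q ≤ Subgroup.normalizer ((⁅L, L⁆ : Subgroup H) : Set H) :=
        le_normalizer_commutator hQL hQL
      have hLLL : ⁅L, L⁆ ≤ L :=
        Subgroup.le_normalizer_iff_commutator_le_left.mp Subgroup.le_normalizer
      have h1 := inf_centralizer_inf_commutator_le_of_coprime_relIndex hQL hQLL le_rfl hLLL hcop
      refine le_trans ?_ h1
      rw [← hLL]
      exact le_inf (le_inf inf_le_left (inf_le_right.trans (Subgroup.le_centralizer_iff.mp hQF)))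
        inf_le_left
    intro x hx
    have hxL : x ∈ L := (Subgroup.mem_inf.mp hx).1
    refine ⟨⟨x, hxL⟩, ?_, rfl⟩
    apply center_inf_commutator_le_frattini
    refine ⟨Subgroup.mem_center_iff.mpr ?_, (mem_commutator_subtype_iff L ⟨x, hxL⟩).mpr (hZ0 hx)⟩
    intro g
    apply Subtype.ext
    have h2 := Subgroup.mem_centralizer_iff.mp (hLCF g.2) x (Subgroup.mem_inf.mp hx).2
    exact h2.symm
  -- (d)
  have hd : ∀ B : Subgroup H, IsPGroup p ↥B → B ≤ Subgroup.normalizer (Q : Set H) →
      ⁅L, B⁆ ≤ F → ⁅L, B⁆ = ⊥ := by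
    intro B hB hBQ hLBF
    have hBL : B ≤ Subgroup.normalizer (L : Set H) := by
      rw [hL]; exact le_normalizer_commutator (hnR B) hBQ
    have hsupB := commutator_sup_centralizer_of_quasinilpotent hBL hqL hOL hB
    have hLBL : ⁅L, B⁆ ≤ L := Subgroup.le_normalizer_iff_commutator_le_left.mp hBL
    have h1 : ⁅L, B⁆ ≤ (frattini ↥L).map L.subtype := (le_inf hLBL hLBF).trans hc
    have h2 : (L ⊓ Subgroup.centralizer (B : Set H)).subgroupOf L = ⊤ := by
      apply frattini_nongenerating
      rw [eq_top_iff]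
      intro x _
      have hx : (x : H) ∈ ⁅L, B⁆ ⊔ (L ⊓ Subgroup.centralizer (B : Set H)) := by
        rw [hsupB]; exact x.2
      have h3 : ⁅L, B⁆ ⊔ (L ⊓ Subgroup.centralizer (B : Set H)) ≤
          ((L ⊓ Subgroup.centralizer (B : Set H)).subgroupOf L ⊔ frattini ↥L).map L.subtype := by
        rw [Subgroup.map_sup, Subgroup.map_subgroupOf_eq_of_le inf_le_left, sup_comm]
        exact sup_le_sup_left h1 _
      obtain ⟨z, hz, hzx⟩ := h3 hx
      have : z = x := Subtype.ext hzx
      rwa [← this]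
    have h3 : L ≤ Subgroup.centralizer (B : Set H) :=
      (Subgroup.subgroupOf_eq_top.mp h2).trans inf_le_right
    exact Subgroup.commutator_eq_bot_iff_le_centralizer.mpr h3
  -- (e)
  have he : (Nat.card ↥(Subgroup.centralizer ((F ⊔ L : Subgroup H) : Set H))).Coprime p := by
    apply Nat.Coprime.symm
    rw [Nat.Prime.coprime_iff_not_dvd Fact.out]
    intro hdvd
    obtain ⟨x, hx⟩ := exists_prime_orderOf_dvd_card' p hdvd
    set P := Subgroup.zpowers (x : H) with hP
    have hxo : orderOf (x : H) = p := by rw [Subgroup.orderOf_coe]; exact hx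
    have hPp : IsPGroup p ↥P :=
      IsPGroup.of_card (n := 1) (by rw [hP, Nat.card_zpowers, hxo, pow_one])
    have hPC : P ≤ Subgroup.centralizer ((F ⊔ L : Subgroup H) : Set H) := by
      rw [hP, Subgroup.zpowers_le]; exact x.2
    have hPL : P ≤ Subgroup.centralizer (L : Set H) :=
      hPC.trans (Subgroup.centralizer_le (SetLike.coe_subset_coe.mpr le_sup_right))
    have hNN := commutator_eq_commutator_commutator_of_quasinilpotent (hnR P) hqR hOR hPp
    have hLP : ⁅L, P⁆ = ⊥ :=
      Subgroup.commutator_eq_bot_iff_le_centralizer.mpr (Subgroup.le_centralizer_iff.mp hPL)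
    have hNL : ⁅⁅R, P⁆, L⁆ = ⊥ := by
      apply Subgroup.commutator_commutator_eq_bot_of_rotate
      · rw [Subgroup.commutator_comm P L, hLP]; exact Subgroup.commutator_bot_left R
      · rw [eq_bot_iff, ← hLP]
        exact Subgroup.commutator_mono
          (Subgroup.le_normalizer_iff_commutator_le_left.mp hRL) le_rfl
    have hNR : ⁅R, P⁆ ≤ R := Subgroup.le_normalizer_iff_commutator_le_left.mp (hnR P)
    set T := R ⊓ Subgroup.centralizer (L : Set H) with hT
    have hRCL : R ≤ Subgroup.normalizer ((Subgroup.centralizer (L : Set H) : Subgroup H) : Set H) :=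
      hRL.trans (normalizer_le_normalizer_centralizer L)
    have hQCL : Q ≤ Subgroup.normalizer ((Subgroup.centralizer (L : Set H) : Subgroup H) : Set H) :=
      hQL.trans (normalizer_le_normalizer_centralizer L)
    have hRT : R ≤ Subgroup.normalizer (T : Set H) :=
      Cfsg.Agent.Lib.Helper1.le_normalizer_inf (hnR R) hRCL
    have hQT : Q ≤ Subgroup.normalizer (T : Set H) :=
      Cfsg.Agent.Lib.Helper1.le_normalizer_inf (hnR Q) hQCL
    have hTsn : T.IsSubnormal :=
      Subgroup.IsSubnormal.trans inf_le_left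
        (Subgroup.normal_subgroupOf_of_le_normalizer hRT).isSubnormal hRn.isSubnormal
    have hqT := gfs_eq_top_of_isSubnormal_of_le hTsn inf_le_left
    have hOT := pCore_eq_bot_of_isSubnormal hTsn hO
    have hsupT := commutator_sup_centralizer_of_quasinilpotent hQT hqT hOT hQ
    have hTLF : T ≤ L ⊔ F := by
      rw [← hsupT]
      apply sup_le
      · exact (Subgroup.commutator_mono inf_le_left le_rfl).trans (hL.ge.trans le_sup_left)
      · refine le_trans ?_ (ha.ge.trans le_sup_right)
        refine le_inf (inf_le_left.trans inf_le_left) ?_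
        rw [Subgroup.le_centralizer_iff]
        exact sup_le (Subgroup.le_centralizer_iff.mp (inf_le_left.trans inf_le_right))
          (Subgroup.le_centralizer_iff.mp inf_le_right)
    have hNT : ⁅R, P⁆ ≤ T :=
      le_inf hNR (Subgroup.commutator_eq_bot_iff_le_centralizer.mp hNL)
    have hNLF : ⁅R, P⁆ ≤ F ⊔ L := hNT.trans (hTLF.trans (sup_comm _ _).le)
    have hNP : ⁅⁅R, P⁆, P⁆ = ⊥ :=
      Subgroup.commutator_eq_bot_iff_le_centralizer.mpr
        (hNLF.trans (Subgroup.le_centralizer_iff.mp hPC))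
    have hRP : ⁅R, P⁆ = ⊥ := hNN.trans hNP
    have hPbot : P = ⊥ :=
      eq_bot_of_le_centralizer_gfs hO hPp
        (Subgroup.le_centralizer_iff.mp (Subgroup.commutator_eq_bot_iff_le_centralizer.mp hRP))
    have hx1 : (x : H) = 1 := by
      have h1 := Subgroup.mem_zpowers (x : H)
      rw [← hP, hPbot, Subgroup.mem_bot] at h1
      exact h1
    rw [hx1, orderOf_one] at hxo
    exact (Fact.out : p.Prime).one_lt.ne hxo
  exact ⟨ha, hLL.symm, hc, hd, he⟩

end Cfsg.Agent.S2817
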