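import Cfsg.Statements.S2818
import Cfsg.Agent.Lib.Helper1.FrattiniP

set_option autoImplicit false
open Cfsg

namespace Cfsg.Agent.S2818


open scoped commutatorElement

/-- Elements of `Ω₁(Z(P))` lie in `Z(P)` and have `p`-th power one. -/
theorem mem_omegaOne_center {G : Type*} [Group G] (p : ℕ) (P : Subgroup G) (z : G)
    (hz : z ∈ Cfsg.omegaOne p (P ⊓ Subgroup.centralizer (P : Set G))) :
    z ∈ P ⊓ Subgroup.centralizer (P : Set G) ∧ z ^ p = 1 := by
  unfold Cfsg.omegaOne at hz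
  induction hz using Subgroup.closure_induction with
  | mem x hx => exact hx
  | one => exact ⟨Subgroup.one_mem _, one_pow p⟩
  | mul a b _ _ ha hb =>
    refine ⟨Subgroup.mul_mem _ ha.1 hb.1, ?_⟩
    have hc : Commute a b := by
      have := Subgroup.mem_centralizer_iff.mp hb.1.2 a ha.1.1
      exact this
    rw [hc.mul_pow, ha.2, hb.2, one_mul]
  | inv a _ ha => exact ⟨Subgroup.inv_mem _ ha.1, by rw [inv_pow, ha.2, inv_one]⟩


/-- Let P be a finite p-subgroup of a group G and H a subgroup of N_G(P) with [P, H] ≤ Ω₁(Z(P)) (the elements of order dividing p in the centre of P). Then H centralizes the Frattini subgroup of P. -/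
theorem result {G : Type*} [Group G] [Finite G] {p : ℕ} [Fact p.Prime] (P : Subgroup G) (hP : IsPGroup p ↥P) (H : Subgroup G) (hH : H ≤ Subgroup.normalizer (P : Set G)) (h : ⁅P, H⁆ ≤ Cfsg.omegaOne p (P ⊓ Subgroup.centralizer (P : Set G))) : ⁅(frattini ↥P).map P.subtype, H⁆ = ⊥ := by
  rw [Subgroup.commutator_eq_bot_iff_le_centralizer]
  -- conjugation by h multiplies by a central element of order dividing p
  have hconj : ∀ x ∈ P, ∀ h ∈ H, ∃ z : G, z ∈ P ⊓ Subgroup.centralizer (P : Set G) ∧ z ^ p = 1 ∧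
      h * x * h⁻¹ = x * z := by
    intro x hx h hh
    have h1 : ⁅x⁻¹, h⁆ ∈ ⁅P, H⁆ := Subgroup.commutator_mem_commutator (P.inv_mem hx) hh
    obtain ⟨hz1, hz2⟩ := mem_omegaOne_center p P _ (‹⁅P, H⁆ ≤ _› h1)
    refine ⟨⁅x⁻¹, h⁆, hz1, hz2, ?_⟩
    rw [commutatorElement_def]
    group
  set N : Subgroup P := (Subgroup.centralizer (H : Set G)).subgroupOf P with hN
  have hmemN : ∀ y : P, y ∈ N ↔ ∀ h ∈ H, h * (y : G) * h⁻¹ = (y : G) := by
    intro y
    rw [hN, Subgroup.mem_subgroupOf, Subgroup.mem_centralizer_iff]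
    constructor
    · intro hy h hh
      rw [hy h hh]; group
    · intro hy h hh
      have := hy h hh
      calc h * (y : G) = (h * (y : G) * h⁻¹) * h := by group
        _ = (y : G) * h := by rw [this]
  have hcomm : commutator P ≤ N := by
    rw [commutator_def, Subgroup.commutator_le]
    intro x _ y _
    rw [hmemN]
    intro h hh
    obtain ⟨z, hz, _, hxz⟩ := hconj x x.2 h hh
    obtain ⟨z', hz', _, hyz⟩ := hconj y y.2 h hh
    have e1 : h * ((⁅x, y⁆ : P) : G) * h⁻¹ = ⁅h * (x : G) * h⁻¹, h * (y : G) * h⁻¹⁆ := by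
      simp only [commutatorElement_def, Subgroup.coe_mul, Subgroup.coe_inv]
      group
    rw [e1, hxz, hyz]
    have cz : ∀ w ∈ P, w * z = z * w := fun w hw => Subgroup.mem_centralizer_iff.mp hz.2 w hw
    have cz' : ∀ w ∈ P, w * z' = z' * w := fun w hw => Subgroup.mem_centralizer_iff.mp hz'.2 w hw
    have c1 : Commute (x : G) z := cz x x.2
    have c2 : Commute (y : G) z := cz y y.2
    have c3 : Commute (x : G) z' := cz' x x.2
    have c4 : Commute (y : G) z' := cz' y y.2
    have c5 : Commute z z' := cz' z hz.1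
    simp only [commutatorElement_def, Subgroup.coe_mul, Subgroup.coe_inv, mul_inv_rev]
    calc (x : G) * z * ((y : G) * z') * (z⁻¹ * (x : G)⁻¹) * (z'⁻¹ * (y : G)⁻¹)
        = (x : G) * (z * (y : G)) * (z' * z⁻¹) * ((x : G)⁻¹ * z'⁻¹) * (y : G)⁻¹ := by group
      _ = (x : G) * ((y : G) * z) * (z⁻¹ * z') * (z'⁻¹ * (x : G)⁻¹) * (y : G)⁻¹ := by
          rw [c2.eq, (c5.inv_left.symm).eq, (c3.inv_left.inv_right).eq]
      _ = (x : G) * (y : G) * (x : G)⁻¹ * (y : G)⁻¹ := by group
  have hpow : ∀ x : P, x ^ p ∈ N := by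
    intro x
    rw [hmemN]
    intro h hh
    obtain ⟨z, hz, hzp, hxz⟩ := hconj x x.2 h hh
    have c1 : Commute (x : G) z := Subgroup.mem_centralizer_iff.mp hz.2 x x.2
    rw [Subgroup.coe_pow, ← conj_pow, hxz, c1.mul_pow, hzp, mul_one]
  have hfr := Cfsg.Agent.Lib.Helper1.frattini_le_of_elementary_quotient p N hcomm hpow
  rintro _ ⟨y, hy, rfl⟩
  have := hfr hy
  rw [hN, Subgroup.mem_subgroupOf] at this
  exact this

end Cfsg.Agent.S2818
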