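import Cfsg.Statements.S2827
import Cfsg.Agent.Lib.Helper7.PIrr
import Cfsg.Agent.Lib.Helper7.FrakM7

set_option autoImplicit false
open Cfsg

namespace Cfsg.Agent.S2827

open Cfsg.Agent.Lib.Helper7

/-- Let H be a finite p-irreducible group (not p-closed, and O^p(H) lies in every normal subgroup that is not p-closed) and T a Sylow p-subgroup. Then H is generated by the conjugates of T and H = H'·T; O^p(H) ≤ H'; and for every normal subgroup Y of T not contained in O_p(H), O^p(H) = [O^p(H), Y] and O^p(H) is contained in the normal closure of Y in H. -/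
theorem result {H : Type*} [Group H] [Finite H] {p : ℕ} [Fact p.Prime] (hH : Cfsg.IsPIrreducible p H) (T : Sylow p H) : Subgroup.normalClosure ((T : Subgroup H) : Set H) = ⊤ ∧ commutator H ⊔ (T : Subgroup H) = ⊤ ∧ Cfsg.pResidual p H ≤ commutator H ∧ ∀ Y : Subgroup H, Y ≤ (T : Subgroup H) → (T : Subgroup H) ≤ Subgroup.normalizer (Y : Set H) → ¬ Y ≤ Cfsg.pCore p H → ⁅Cfsg.pResidual p H, Y⁆ = Cfsg.pResidual p H ∧ Cfsg.pResidual p H ≤ Subgroup.normalClosure (Y : Set H) := by
  classical
  have hTp : IsPGroup p (T : Subgroup H) := T.2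
  have hTO : ¬ (T : Subgroup H) ≤ Cfsg.pCore p H := Cfsg.Agent.Lib.Helper7.IsPIrreducible.sylow_not_le_pCore hH T
  have hsup := Cfsg.Agent.Lib.Helper1.sylow_sup_pResidual_eq_top T
  -- (1)
  have h1 : Subgroup.normalClosure ((T : Subgroup H) : Set H) = ⊤ := by
    have hR : Cfsg.pResidual p H ≤ Subgroup.normalClosure ((T : Subgroup H) : Set H) :=
      Cfsg.Agent.Lib.Helper7.IsPIrreducible.pResidual_le hH hTp Subgroup.le_normalClosure hTO
    rw [eq_top_iff, ← hsup]
    exact sup_le Subgroup.le_normalClosure hR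
  -- (2)
  have h2 : commutator H ⊔ (T : Subgroup H) = ⊤ := by
    have hn : (commutator H ⊔ (T : Subgroup H)).Normal := normal_of_commutator_le le_sup_left
    rw [eq_top_iff, ← h1]
    exact Subgroup.normalClosure_le_normal (show ((T : Subgroup H) : Set H) ⊆ _ from
      (le_sup_right : (T : Subgroup H) ≤ commutator H ⊔ (T : Subgroup H)))
  -- (3)
  have h3 : Cfsg.pResidual p H ≤ commutator H := by
    apply pResidual_le_of_le_sup hTp
    rw [h2]
    exact le_top
  refine ⟨h1, h2, h3, ?_⟩
  intro Y hYT hTY hYO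
  have hYp : IsPGroup p Y := hTp.to_le hYT
  have hR2 : Cfsg.pResidual p H ≤ Subgroup.normalClosure (Y : Set H) :=
    Cfsg.Agent.Lib.Helper7.IsPIrreducible.pResidual_le hH hYp Subgroup.le_normalClosure hYO
  refine ⟨?_, hR2⟩
  set R := Cfsg.pResidual p H with hRdef
  have hRn : R.Normal := inferInstance
  set K : Subgroup H := ⁅R, Y⁆ with hK
  have hKR : K ≤ R := Subgroup.commutator_le_left R Y
  -- K is normal in H
  have hTR : (T : Subgroup H) ≤ Subgroup.normalizer ((R : Subgroup H) : Set H) := by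
    rw [Subgroup.normalizer_eq_top_iff.mpr hRn]; exact le_top
  have hTK : (T : Subgroup H) ≤ Subgroup.normalizer ((K : Subgroup H) : Set H) :=
    le_normalizer_commutator hTR hTY
  have hRK : R ≤ Subgroup.normalizer ((K : Subgroup H) : Set H) := le_normalizer_commutator_left R Y
  have hKn : K.Normal := by
    rw [← Subgroup.normalizer_eq_top_iff, eq_top_iff, ← hsup]
    exact sup_le hTK hRK
  -- K ⊔ Y is normal in H
  have hKYn : (K ⊔ Y).Normal := by
    rw [← Subgroup.normalizer_eq_top_iff, eq_top_iff, ← hsup]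
    apply sup_le
    · exact le_normalizer_sup hTK hTY
    · exact le_normalizer_commutator_sup R Y
  have hR3 : R ≤ K ⊔ Y := Cfsg.Agent.Lib.Helper7.IsPIrreducible.pResidual_le hH hYp le_sup_right hYO
  exact le_antisymm hKR (pResidual_le_of_le_sup hYp hR3)

end Cfsg.Agent.S2827
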