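import Cfsg.Statements.S2828
import Cfsg.Agent.Lib.Helper7.PIrr2

set_option autoImplicit false
open Cfsg

namespace Cfsg.Agent.S2828

open Cfsg.Agent.Lib.Helper7

/-- Let H be a finite group, p a prime and D a normal p-subgroup of H. Then H is p-irreducible if and only if H/D is p-irreducible, and H is strongly p-irreducible if and only if H/D is strongly p-irreducible. -/
theorem result {H : Type*} [Group H] [Finite H] {p : ℕ} [Fact p.Prime] (D : Subgroup H) [D.Normal] (hD : IsPGroup p ↥D) : (Cfsg.IsPIrreducible p H ↔ Cfsg.IsPIrreducible p (H ⧸ D)) ∧ (Cfsg.IsStronglyPIrreducible p H ↔ Cfsg.IsStronglyPIrreducible p (H ⧸ D)) := by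
  classical
  have hsurj : Function.Surjective (QuotientGroup.mk' D) := QuotientGroup.mk'_surjective D
  have hDO : D ≤ Cfsg.pCore p H := normal_isPGroup_le_pCore hD
  -- pulling back `O^p ≤ N̄`
  have hback : ∀ N : Subgroup H, N.Normal →
      Cfsg.pResidual p (H ⧸ D) ≤ N.map (QuotientGroup.mk' D) → Cfsg.pResidual p H ≤ N := by
    intro N hN h
    haveI := hN
    rw [← pResidual_map_mk D, le_iff_comap_mk_le D, comap_map_mk, comap_map_mk] at h
    exact pResidual_le_of_le_sup hD (le_sup_left.trans h)
  have hfwd : ∀ N : Subgroup (H ⧸ D),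
      Cfsg.pResidual p H ≤ N.comap (QuotientGroup.mk' D) → Cfsg.pResidual p (H ⧸ D) ≤ N := by
    intro N h
    rw [← pResidual_map_mk D, Subgroup.map_le_iff_le_comap]
    exact h
  have htop : (⊤ : Subgroup H).map (QuotientGroup.mk' D) = ⊤ := by
    rw [← MonoidHom.range_eq_map, MonoidHom.range_eq_top.mpr hsurj]
  constructor
  · constructor
    · rintro ⟨h1, h2⟩
      refine ⟨fun h => h1 ((isPClosed_quotient_iff D hD).mp h), ?_⟩
      intro N hN hNcl
      haveI := hN
      haveI : (N.comap (QuotientGroup.mk' D)).Normal := hN.comap _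
      apply hfwd
      apply h2 _ (hN.comap _)
      intro h
      exact hNcl ((isPClosed_comap_iff D hD N).mp h)
    · rintro ⟨h1, h2⟩
      refine ⟨fun h => h1 ((isPClosed_quotient_iff D hD).mpr h), ?_⟩
      intro N hN hNcl
      haveI := hN
      have hNbar : (N.map (QuotientGroup.mk' D)).Normal := hN.map _ hsurj
      haveI := hNbar
      apply hback N hN
      apply h2 _ hNbar
      intro h
      apply hNcl
      have h3 := (isPClosed_comap_iff D hD (N.map (QuotientGroup.mk' D))).mpr h
      have e : (N.map (QuotientGroup.mk' D)).comap (QuotientGroup.mk' D) = N ⊔ D := comap_map_mk D N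
      have h4 : Cfsg.IsPClosed p ↥(N ⊔ D : Subgroup H) := by
        rw [← e]
        exact h3
      exact (isPClosed_sup_iff D hD N).mp h4
  · constructor
    · rintro ⟨h1, h2⟩
      refine ⟨fun h => h1 ((isPClosed_quotient_iff D hD).mp h), ?_⟩
      intro N hN hNc
      apply hfwd
      apply h2 _ (hN.comap _)
      intro h
      apply hNc
      have h3 := Subgroup.map_mono (f := QuotientGroup.mk' D) h
      rw [Subgroup.map_commutator, Subgroup.map_comap_eq_self_of_surjective hsurj, htop,
        pCore_map_mk D hD] at h3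
      exact h3
    · rintro ⟨h1, h2⟩
      refine ⟨fun h => h1 ((isPClosed_quotient_iff D hD).mpr h), ?_⟩
      intro N hN hNc
      have hNbar : (N.map (QuotientGroup.mk' D)).Normal := hN.map _ hsurj
      apply hback N hN
      apply h2 _ hNbar
      intro h
      apply hNc
      rw [← htop, ← Subgroup.map_commutator, ← pCore_map_mk D hD, le_iff_comap_mk_le D,
        comap_map_mk, comap_map_mk, sup_eq_left.mpr hDO] at h
      exact le_sup_left.trans h

end Cfsg.Agent.S2828
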