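import Cfsg.Statements.S2829
import Cfsg.Agent.Lib.Helper7.PCore

set_option autoImplicit false
open Cfsg

namespace Cfsg.Agent.S2829

open Cfsg.Agent.Lib.Helper7
open scoped commutatorElement

/-- Every strongly p-irreducible finite group is p-irreducible. -/
theorem result {H : Type*} [Group H] [Finite H] {p : ℕ} [Fact p.Prime] (hH : Cfsg.IsStronglyPIrreducible p H) : Cfsg.IsPIrreducible p H := by
  refine ⟨hH.1, fun N hN hNc => hH.2 N hN ?_⟩
  intro hcomm
  apply hNc
  intro P
  have hQP : (pCore p H).subgroupOf N ≤ (P : Subgroup N) := by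
    have : ((pCore p H).subgroupOf N).Normal := Subgroup.Normal.subgroupOf (pCore_normal p H) N
    apply IsPGroup.le_sylow_of_normal _ P
    exact (pCore_isPGroup p H).comap_subtype
  refine ⟨fun x hx n => ?_⟩
  have h1 : n * x * n⁻¹ = (n * x * n⁻¹ * x⁻¹) * x := by group
  rw [h1]
  refine (P : Subgroup N).mul_mem (hQP ?_) hx
  rw [Subgroup.mem_subgroupOf]
  apply hcomm
  have h2 : ((n * x * n⁻¹ * x⁻¹ : N) : H) = ⁅(n : H), (x : H)⁆ := by
    simp [commutatorElement_def]
  rw [h2]
  exact Subgroup.commutator_mem_commutator n.2 (Subgroup.mem_top _)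

end Cfsg.Agent.S2829
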