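import Cfsg.Statements.S2830
import Cfsg.Agent.Lib.Helper7.PIrr3

set_option autoImplicit false
open Cfsg

namespace Cfsg.Agent.S2830

open Cfsg.Agent.Lib.Helper7

/-- Let H act by conjugation on the elementary abelian p-subgroup V of a finite group G (H ≤ N(V)), with H p-irreducible and O^p(H) not centralizing V. Then C_H(V) is p-closed and C_T(V) ≤ O_p(H) for every p-subgroup T of H. If in addition O_p(H) centralizes V, then C_T(V) = T ∩ O_p(H) for every p-subgroup T of H, and V is p-reduced for H: O_p(H/C_H(V)) = 1. -/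
theorem result {G : Type*} [Group G] [Finite G] {p : ℕ} [Fact p.Prime] (V H : Subgroup G) (hV : Cfsg.IsElementaryAbelian p V) (hHV : H ≤ Subgroup.normalizer (V : Set G)) (hH : Cfsg.IsPIrreducible p ↥H) (hnc : ¬ (Cfsg.pResidual p ↥H).map H.subtype ≤ Subgroup.centralizer (V : Set G)) [hn : ((Subgroup.centralizer (V : Set G)).subgroupOf H).Normal] : Cfsg.IsPClosed p ↥(H ⊓ Subgroup.centralizer (V : Set G)) ∧ (∀ T : Subgroup G, T ≤ H → IsPGroup p ↥T → T ⊓ Subgroup.centralizer (V : Set G) ≤ Cfsg.pCoreOf p H) ∧ (Cfsg.pCoreOf p H ≤ Subgroup.centralizer (V : Set G) → (∀ T : Subgroup G, T ≤ H → IsPGroup p ↥T → T ⊓ Subgroup.centralizer (V : Set G) = T ⊓ Cfsg.pCoreOf p H) ∧ Cfsg.pCore p (↥H ⧸ (Subgroup.centralizer (V : Set G)).subgroupOf H) = ⊥) := by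
  classical
  set C : Subgroup ↥H := (Subgroup.centralizer (V : Set G)).subgroupOf H with hC
  have hnc' : ¬ Cfsg.pResidual p ↥H ≤ C := by
    intro h
    apply hnc
    rw [Subgroup.map_le_iff_le_comap]
    exact h
  obtain ⟨h1, h2, h3⟩ := IsPIrreducible.structure_of_normal hH C hnc'
  have part2 : ∀ T : Subgroup G, T ≤ H → IsPGroup p ↥T →
      T ⊓ Subgroup.centralizer (V : Set G) ≤ Cfsg.pCoreOf p H := by
    intro T hTH hTp x hx
    obtain ⟨hxT, hxC⟩ := Subgroup.mem_inf.mp hx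
    have hTp' : IsPGroup p (T.subgroupOf H) :=
      hTp.comap_of_injective H.subtype (Subgroup.subtype_injective _)
    have hmem : (⟨x, hTH hxT⟩ : ↥H) ∈ T.subgroupOf H ⊓ C := by
      refine Subgroup.mem_inf.mpr ⟨?_, ?_⟩
      · rw [Subgroup.mem_subgroupOf]; exact hxT
      · rw [hC, Subgroup.mem_subgroupOf]; exact hxC
    exact ⟨⟨x, hTH hxT⟩, h2 _ hTp' hmem, rfl⟩
  refine ⟨?_, part2, ?_⟩
  · have e : (H ⊓ Subgroup.centralizer (V : Set G)).subgroupOf H = C := by
      rw [hC, Subgroup.inf_subgroupOf_left]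
    have h1' : Cfsg.IsPClosed p ↥((H ⊓ Subgroup.centralizer (V : Set G)).subgroupOf H) := by
      rw [e]; exact h1
    exact IsPClosed.of_equiv (Subgroup.subgroupOfEquivOfLe (inf_le_left : H ⊓ Subgroup.centralizer (V : Set G) ≤ H)) h1'
  · intro hO
    have hO' : Cfsg.pCore p ↥H ≤ C := by
      intro x hx
      rw [hC, Subgroup.mem_subgroupOf]
      exact hO ⟨x, hx, rfl⟩
    refine ⟨?_, h3 hO'⟩
    intro T hTH hTp
    exact le_antisymm (le_inf inf_le_left (part2 T hTH hTp)) (inf_le_inf_left _ hO)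

end Cfsg.Agent.S2830
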