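import Mathlib
import Cfsg.Statements.S2831
import Cfsg.Agent.Lib.Helper2.SylowNormal
import Cfsg.Agent.Lib.Helper1.PResidual

set_option autoImplicit false
open Cfsg

namespace Cfsg.Agent.S2831

/-- If `N ⊔ T = ⊤` with `N` normal and `T` a `p`-group then `O^p(H) ≤ N`. -/
theorem pResidual_le_of_sup_eq_top {H : Type*} [Group H] {p : ℕ} [Fact p.Prime] (N T : Subgroup H)
    [N.Normal] (hT : IsPGroup p T) (h : N ⊔ T = ⊤) : Cfsg.pResidual p H ≤ N := by
  apply Cfsg.Agent.Lib.Helper1.pResidual_le_of_isPGroup_quotient
  have h1 : T.map (QuotientGroup.mk' N) = ⊤ := by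
    have := congrArg (Subgroup.map (QuotientGroup.mk' N)) h
    rw [Subgroup.map_sup, QuotientGroup.map_mk'_self, bot_sup_eq, ← MonoidHom.range_eq_map,
      MonoidHom.range_eq_top.mpr (QuotientGroup.mk'_surjective N)] at this
    exact this
  have h2 : IsPGroup p (T.map (QuotientGroup.mk' N)) := hT.map _
  intro x
  have hx : x ∈ T.map (QuotientGroup.mk' N) := by rw [h1]; trivial
  obtain ⟨k, hk⟩ := h2 ⟨x, hx⟩
  exact ⟨k, congrArg Subtype.val hk⟩

/-- Let H be a finite group with Sylow p-subgroup T such that H is T-minimal (H is generated by the conjugates of T and T lies in exactly one maximal subgroup of H). Then H is p-irreducible: H is not p-closed and O^p(H) lies in every normal subgroup of H that is not p-closed. -/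
theorem result {H : Type*} [Group H] [Finite H] {p : ℕ} [Fact p.Prime] (T : Sylow p H) (hmin : Cfsg.IsMinimalOver (T : Subgroup H)) : Cfsg.IsPIrreducible p H := by
  obtain ⟨hgen, M, ⟨hM, hTM⟩, hMuniq⟩ := hmin
  have huniq : ∀ R : Subgroup H, (T : Subgroup H) ≤ R → R ≠ ⊤ → R ≤ M := by
    intro R hTR hR
    obtain ⟨M', hM', hle⟩ := (eq_top_or_exists_le_coatom R).resolve_left hR
    have := hMuniq M' ⟨hM', hTR.trans hle⟩
    rw [this] at hle
    exact hle
  constructor
  · intro hcl
    have hn : (T : Subgroup H).Normal := hcl T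
    have h1 : Subgroup.normalClosure ((T : Subgroup H) : Set H) = T :=
      Subgroup.normalClosure_eq_self _
    rw [h1] at hgen
    rw [hgen] at hTM
    exact hM.1 (top_le_iff.mp hTM)
  · intro N hN hNcl
    obtain ⟨Q, hQ⟩ := Cfsg.Agent.Lib.Helper2.exists_sylow_eq_inf_normal T N
    have hQn : ¬ (Q : Subgroup N).Normal := by
      intro hn
      apply hNcl
      intro P
      have : Unique (Sylow p N) := Sylow.unique_of_normal Q hn
      have : P = Q := Subsingleton.elim _ _
      rw [this]; exact hn
    have hfr := Sylow.normalizer_sup_eq_top Q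
    have hmap : (Q : Subgroup N).map N.subtype = (T : Subgroup H) ⊓ N := by
      rw [hQ, Subgroup.map_subgroupOf_eq_of_le inf_le_right]
    rw [hmap] at hfr
    set R := Subgroup.normalizer ((((T : Subgroup H) ⊓ N : Subgroup H)) : Set H) with hR
    have hTR : (T : Subgroup H) ≤ R := by
      intro t ht
      rw [hR, Subgroup.mem_normalizer_iff]
      intro x
      constructor
      · rintro ⟨hx1, hx2⟩
        exact ⟨Subgroup.mul_mem _ (Subgroup.mul_mem _ ht hx1) (Subgroup.inv_mem _ ht),
          hN.conj_mem x hx2 t⟩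
      · rintro ⟨hx1, hx2⟩
        constructor
        · have := Subgroup.mul_mem _ (Subgroup.mul_mem _ (Subgroup.inv_mem _ ht) hx1) ht
          have h2 : t⁻¹ * (t * x * t⁻¹) * t = x := by group
          rw [h2] at this
          exact this
        · have := hN.conj_mem _ hx2 t⁻¹
          have h2 : t⁻¹ * (t * x * t⁻¹) * t⁻¹⁻¹ = x := by group
          rw [h2] at this
          exact this
    have hRtop : R ≠ ⊤ := by
      intro h
      apply hQn
      have hn : ((T : Subgroup H) ⊓ N).Normal := by
        rw [← Subgroup.normalizer_eq_top_iff]; exact h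
      rw [hQ]
      exact hn.subgroupOf N
    have hRM := huniq R hTR hRtop
    have hNT : N ⊔ (T : Subgroup H) = ⊤ := by
      by_contra hne
      have h1 := huniq (N ⊔ (T : Subgroup H)) le_sup_right hne
      apply hM.1
      rw [eq_top_iff, ← hfr]
      exact sup_le hRM (le_sup_left.trans h1)
    exact pResidual_le_of_sup_eq_top N T T.2 hNT

end Cfsg.Agent.S2831
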