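import Mathlib
import Cfsg.Statements.S2832

set_option autoImplicit false
open Cfsg

namespace Cfsg.Agent.S2832

variable {H : Type*} [Group H]

theorem comap_map_mk (N : Subgroup H) [N.Normal] (K : Subgroup H) (hNK : N ≤ K) :
    (K.map (QuotientGroup.mk' N)).comap (QuotientGroup.mk' N) = K := by
  rw [Subgroup.comap_map_eq, QuotientGroup.ker_mk', sup_eq_left.mpr hNK]

theorem map_comap_mk (N : Subgroup H) [N.Normal] (K : Subgroup (H ⧸ N)) :
    (K.comap (QuotientGroup.mk' N)).map (QuotientGroup.mk' N) = K :=
  Subgroup.map_comap_eq_self_of_surjective (QuotientGroup.mk'_surjective N) K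

theorem le_comap_mk (N : Subgroup H) [N.Normal] (K : Subgroup (H ⧸ N)) :
    N ≤ K.comap (QuotientGroup.mk' N) := by
  have := Subgroup.ker_le_comap (QuotientGroup.mk' N) K
  rwa [QuotientGroup.ker_mk'] at this

theorem isCoatom_comap (N : Subgroup H) [N.Normal] (K : Subgroup (H ⧸ N)) (hK : IsCoatom K) :
    IsCoatom (K.comap (QuotientGroup.mk' N)) := by
  constructor
  · intro h
    apply hK.1
    rw [← map_comap_mk N K, h, ← MonoidHom.range_eq_map,
      MonoidHom.range_eq_top.mpr (QuotientGroup.mk'_surjective N)]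
  · intro L hL
    have hNL : N ≤ L := (le_comap_mk N K).trans hL.le
    have h1 : K ≤ L.map (QuotientGroup.mk' N) := by
      rw [← map_comap_mk N K]; exact Subgroup.map_mono hL.le
    have h2 : K ≠ L.map (QuotientGroup.mk' N) := by
      intro h
      apply hL.ne
      rw [h, comap_map_mk N L hNL]
    have h3 := hK.2 _ (lt_of_le_of_ne h1 h2)
    rw [← comap_map_mk N L hNL, h3, Subgroup.comap_top]

theorem isCoatom_map (N : Subgroup H) [N.Normal] (M : Subgroup H) (hNM : N ≤ M) (hM : IsCoatom M) :
    IsCoatom (M.map (QuotientGroup.mk' N)) := by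
  constructor
  · intro h
    apply hM.1
    rw [← comap_map_mk N M hNM, h, Subgroup.comap_top]
  · intro L hL
    have h1 : M ≤ L.comap (QuotientGroup.mk' N) := by
      rw [← comap_map_mk N M hNM]; exact Subgroup.comap_mono hL.le
    have h2 : M ≠ L.comap (QuotientGroup.mk' N) := by
      intro h
      apply hL.ne
      rw [h, map_comap_mk]
    have h3 := hM.2 _ (lt_of_le_of_ne h1 h2)
    rw [← map_comap_mk N L, h3, ← MonoidHom.range_eq_map,
      MonoidHom.range_eq_top.mpr (QuotientGroup.mk'_surjective N)]

/-- Let H be a finite group with Sylow p-subgroup T such that H is T-minimal (generated by the conjugates of T, with T in exactly one maximal subgroup), and let N be a normal subgroup of H. Then either H/N is a p-group or H/N is minimal over the image of T in the same sense. -/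
theorem result {H : Type*} [Group H] [Finite H] {p : ℕ} [Fact p.Prime] (T : Sylow p H) (hmin : Cfsg.IsMinimalOver (T : Subgroup H)) (N : Subgroup H) [N.Normal] : IsPGroup p (H ⧸ N) ∨ Cfsg.IsMinimalOver ((T : Subgroup H).map (QuotientGroup.mk' N)) := by
  obtain ⟨hgen, M, ⟨hM, hTM⟩, hMuniq⟩ := hmin
  have huniq : ∀ R : Subgroup H, (T : Subgroup H) ≤ R → R ≠ ⊤ → R ≤ M := by
    intro R hTR hR
    obtain ⟨M', hM', hle⟩ := (eq_top_or_exists_le_coatom R).resolve_left hR
    have := hMuniq M' ⟨hM', hTR.trans hle⟩
    rw [this] at hle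
    exact hle
  by_cases hNT : N ⊔ (T : Subgroup H) = ⊤
  · left
    have h1 : (T : Subgroup H).map (QuotientGroup.mk' N) = ⊤ := by
      have := congrArg (Subgroup.map (QuotientGroup.mk' N)) hNT
      rw [Subgroup.map_sup, QuotientGroup.map_mk'_self, bot_sup_eq, ← MonoidHom.range_eq_map,
        MonoidHom.range_eq_top.mpr (QuotientGroup.mk'_surjective N)] at this
      exact this
    have h2 : IsPGroup p ((T : Subgroup H).map (QuotientGroup.mk' N)) := T.2.map _
    intro x
    have hx : x ∈ (T : Subgroup H).map (QuotientGroup.mk' N) := by rw [h1]; trivial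
    obtain ⟨k, hk⟩ := h2 ⟨x, hx⟩
    exact ⟨k, congrArg Subtype.val hk⟩
  · right
    have hNM : N ≤ M := le_sup_left.trans (huniq _ le_sup_right hNT)
    constructor
    · have := Subgroup.map_normalClosure ((T : Subgroup H) : Set H) (QuotientGroup.mk' N)
        (QuotientGroup.mk'_surjective N)
      rw [hgen, ← MonoidHom.range_eq_map,
        MonoidHom.range_eq_top.mpr (QuotientGroup.mk'_surjective N)] at this
      rw [Subgroup.coe_map]
      exact this.symm
    · refine ⟨M.map (QuotientGroup.mk' N), ⟨isCoatom_map N M hNM hM, Subgroup.map_mono hTM⟩, ?_⟩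
      rintro K ⟨hK, hTK⟩
      have h1 : IsCoatom (K.comap (QuotientGroup.mk' N)) := isCoatom_comap N K hK
      have h2 : (T : Subgroup H) ≤ K.comap (QuotientGroup.mk' N) := by
        rw [← Subgroup.map_le_iff_le_comap]; exact hTK
      have h3 := hMuniq _ ⟨h1, h2⟩
      rw [← map_comap_mk N K, h3]

end Cfsg.Agent.S2832
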