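import Cfsg.Statements.S2833
import Cfsg.Agent.Lib.Helper7.PGroupComm
import Cfsg.Agent.Lib.Helper7.ChermakDelgado

set_option autoImplicit false
open Cfsg

namespace Cfsg.Agent.S2833

open Cfsg.Agent.Lib.Helper7
open scoped commutatorElement Pointwise

/-- Let V be a subgroup of a finite group G normalized by the subgroup L, let X ≤ L and g ∈ L with [V, X, X] = 1 and L generated by X and gXg⁻¹. Put W = [V, L]. Then W = [V, X]·[V, gXg⁻¹], C_W(X) = [V, X], and C_W(L) = [V, X] ∩ [V, gXg⁻¹]. -/
theorem result {G : Type*} [Group G] [Finite G] (V L : Subgroup G) (hLV : L ≤ Subgroup.normalizer (V : Set G)) (X : Subgroup G) (hX : X ≤ L) (g : G) (hg : g ∈ L) (hq : ⁅⁅V, X⁆, X⁆ = ⊥) (hgen : X ⊔ X.map (MulAut.conj g).toMonoidHom = L) (W : Subgroup G) (hW : W = ⁅V, L⁆) : ⁅V, X⁆ ⊔ ⁅V, X.map (MulAut.conj g).toMonoidHom⁆ = W ∧ W ⊓ Subgroup.centralizer (X : Set G) = ⁅V, X⁆ ∧ W ⊓ Subgroup.centralizer (L : Set G) = ⁅V, X⁆ ⊓ ⁅V, X.map (MulAut.conj g).toMonoidHom⁆ := by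
  subst hW
  set Y : Subgroup G := X.map (MulAut.conj g).toMonoidHom with hY
  set A : Subgroup G := ⁅V, X⁆ with hA
  set B : Subgroup G := ⁅V, Y⁆ with hB
  have hgV : g ∈ Subgroup.normalizer (V : Set G) := hLV hg
  have hYL : Y ≤ L := by rw [← hgen]; exact le_sup_right
  have hXV : X ≤ Subgroup.normalizer (V : Set G) := hX.trans hLV
  have hYV : Y ≤ Subgroup.normalizer (V : Set G) := hYL.trans hLV
  have hAV : A ≤ V := Subgroup.le_normalizer_iff_commutator_le_left.mp hXV
  have hBV : B ≤ V := Subgroup.le_normalizer_iff_commutator_le_left.mp hYV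
  -- B = A^g
  have hBA : B = A.map (MulAut.conj g).toMonoidHom := by
    rw [hA, Subgroup.map_commutator, map_conj_eq_of_mem_normalizer hgV]
  -- X centralizes A, Y centralizes B
  have hXA : X ≤ Subgroup.centralizer (A : Set G) :=
    Subgroup.le_centralizer_iff.mp (Subgroup.commutator_eq_bot_iff_le_centralizer.mp hq)
  have hYB : Y ≤ Subgroup.centralizer (B : Set G) := by
    have h1 : ⁅⁅V, Y⁆, Y⁆ = ⊥ := by
      have := congrArg (Subgroup.map (MulAut.conj g).toMonoidHom) hq
      rw [Subgroup.map_commutator, Subgroup.map_commutator, map_conj_eq_of_mem_normalizer hgV,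
        Subgroup.map_bot] at this
      exact this
    exact Subgroup.le_centralizer_iff.mp (Subgroup.commutator_eq_bot_iff_le_centralizer.mp h1)
  -- normality
  have hVA : V ≤ Subgroup.normalizer (A : Set G) := Subgroup.normalizer_commutator_ge_left V X
  have hVB : V ≤ Subgroup.normalizer (B : Set G) := Subgroup.normalizer_commutator_ge_left V Y
  set N : Subgroup G := A ⊔ B with hN
  have hNset : ((A ⊔ B : Subgroup G) : Set G) = (A : Set G) * (B : Set G) :=
    Subgroup.coe_mul_of_left_le_normalizer_right A B (hAV.trans hVB)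
  have hVN : V ≤ Subgroup.normalizer (N : Set G) := le_normalizer_sup hVA hVB
  have hXN : X ≤ Subgroup.normalizer (N : Set G) := by
    rw [Subgroup.le_normalizer_iff_commutator_le_left]
    -- [N, X] ≤ N
    rw [Subgroup.commutator_le]
    intro n hn x hx
    have hn' : n ∈ ((A ⊔ B : Subgroup G) : Set G) := hn
    rw [hNset] at hn'
    obtain ⟨a, ha, b, hb, rfl⟩ := Set.mem_mul.mp hn'
    rw [commutatorElement_mul_left]
    have h1 : ⁅a, x⁆ = 1 := by
      rw [commutatorElement_eq_one_iff_commute]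
      exact (Subgroup.mem_centralizer_iff.mp (hXA hx) a ha)
    have h2 : ⁅b, x⁆ ∈ A := Subgroup.commutator_mem_commutator (hBV hb) hx
    rw [h1, mul_one]
    have h3 : a * ⁅b, x⁆ * a⁻¹ ∈ A := A.mul_mem (A.mul_mem ha h2) (A.inv_mem ha)
    exact le_sup_left (a := A) h3
  have hYN : Y ≤ Subgroup.normalizer (N : Set G) := by
    rw [Subgroup.le_normalizer_iff_commutator_le_left, Subgroup.commutator_le]
    intro n hn y hy
    have hn' : n ∈ ((A ⊔ B : Subgroup G) : Set G) := hn
    rw [hNset] at hn'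
    obtain ⟨a, ha, b, hb, rfl⟩ := Set.mem_mul.mp hn'
    rw [commutatorElement_mul_left]
    have h1 : ⁅b, y⁆ = 1 := by
      rw [commutatorElement_eq_one_iff_commute]
      exact (Subgroup.mem_centralizer_iff.mp (hYB hy) b hb)
    have h2 : ⁅a, y⁆ ∈ B := Subgroup.commutator_mem_commutator (hAV ha) hy
    rw [h1, mul_one, mul_inv_cancel, one_mul]
    exact le_sup_right (b := B) h2
  have hLN : L ≤ Subgroup.normalizer (N : Set G) := by
    rw [← hgen]; exact sup_le hXN hYN
  -- [V, L] = N
  have hWN : ⁅V, L⁆ = N := by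
    apply le_antisymm
    · -- L ≤ centralizerMod-like: use commutator_le with generation
      have hcl : L ≤ Subgroup.normalizer (N : Set G) := hLN
      -- the set of l with [V, l] ⊆ N is a subgroup containing X and Y
      let S : Subgroup G :=
        { carrier := {l | l ∈ Subgroup.normalizer (N : Set G) ∧ ∀ v ∈ V, ⁅v, l⁆ ∈ N}
          one_mem' := ⟨Subgroup.one_mem _, fun v _ => by
            rw [commutatorElement_one_right]; exact N.one_mem⟩
          mul_mem' := by
            rintro l m ⟨hl1, hl2⟩ ⟨hm1, hm2⟩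
            refine ⟨Subgroup.mul_mem _ hl1 hm1, fun v hv => ?_⟩
            have e : ⁅v, l * m⁆ = ⁅v, l⁆ * (l * ⁅v, m⁆ * l⁻¹) := by
              simp only [commutatorElement_def]; group
            rw [e]
            exact N.mul_mem (hl2 v hv) ((Subgroup.mem_normalizer_iff.mp hl1 _).mp (hm2 v hv))
          inv_mem' := by
            rintro l ⟨hl1, hl2⟩
            refine ⟨Subgroup.inv_mem _ hl1, fun v hv => ?_⟩
            have e : ⁅v, l⁻¹⁆ = l⁻¹ * ⁅v, l⁆⁻¹ * l⁻¹⁻¹ := by
              simp only [commutatorElement_def]; group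
            rw [e]
            exact (Subgroup.mem_normalizer_iff.mp (Subgroup.inv_mem _ hl1) _).mp
              (N.inv_mem (hl2 v hv)) }
      have hXS : X ≤ S := fun x hx => ⟨hXN hx, fun v hv =>
        le_sup_left (a := A) (Subgroup.commutator_mem_commutator hv hx)⟩
      have hYS : Y ≤ S := fun y hy => ⟨hYN hy, fun v hv =>
        le_sup_right (b := B) (Subgroup.commutator_mem_commutator hv hy)⟩
      have hLS : L ≤ S := by rw [← hgen]; exact sup_le hXS hYS
      rw [Subgroup.commutator_le]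
      intro v hv l hl
      exact (hLS hl).2 v hv
    · exact sup_le (Subgroup.commutator_mono le_rfl hX) (Subgroup.commutator_mono le_rfl hYL)
  -- centralizer of L
  have hCL : Subgroup.centralizer (L : Set G) =
      Subgroup.centralizer (X : Set G) ⊓ Subgroup.centralizer (Y : Set G) := by
    rw [← hgen]; exact centralizer_sup_eq X Y
  -- key: elements of N ⊓ C(X) decompose with b ∈ C(L)
  have hdecX : ∀ w ∈ N ⊓ Subgroup.centralizer (X : Set G),
      ∃ a ∈ A, ∃ b ∈ B ⊓ Subgroup.centralizer (L : Set G), a * b = w := by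
    intro w hw
    obtain ⟨hwN, hwX⟩ := Subgroup.mem_inf.mp hw
    have hw' : w ∈ ((A ⊔ B : Subgroup G) : Set G) := hwN
    rw [hNset] at hw'
    obtain ⟨a, ha, b, hb, rfl⟩ := Set.mem_mul.mp hw'
    refine ⟨a, ha, b, Subgroup.mem_inf.mpr ⟨hb, ?_⟩, rfl⟩
    rw [hCL]
    refine Subgroup.mem_inf.mpr ⟨?_, Subgroup.le_centralizer_iff.mp hYB hb⟩
    have haX : a ∈ Subgroup.centralizer (X : Set G) := Subgroup.le_centralizer_iff.mp hXA ha
    have := Subgroup.mul_mem _ (Subgroup.inv_mem _ haX) hwX
    simpa using this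
  -- A0 = A ⊓ C(L), B0 = B ⊓ C(L), and B0 ≤ A
  have hB0A : B ⊓ Subgroup.centralizer (L : Set G) ≤ A := by
    intro b hb
    obtain ⟨hbB, hbC⟩ := Subgroup.mem_inf.mp hb
    rw [hBA] at hbB
    obtain ⟨a, ha, rfl⟩ := hbB
    -- g a g⁻¹ central for L, so equals a
    have h1 : (MulAut.conj g).toMonoidHom a = g * a * g⁻¹ := by simp [MulAut.conj_apply]
    rw [h1] at hbC ⊢
    have h2 := Subgroup.mem_centralizer_iff.mp hbC g hg
    have h3 : g * a * g⁻¹ = a := by
      have : g * (g * a * g⁻¹) = g * a := by rw [h2]; group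
      have := mul_left_cancel this
      exact this
    rw [h3]; exact ha
  refine ⟨hWN.symm, ?_, ?_⟩
  · rw [hWN]
    apply le_antisymm
    · intro w hw
      obtain ⟨a, ha, b, hb, rfl⟩ := hdecX w hw
      exact A.mul_mem ha (hB0A hb)
    · exact le_inf le_sup_left (Subgroup.le_centralizer_iff.mp hXA)
  · rw [hWN]
    apply le_antisymm
    · intro w hw
      obtain ⟨hwN, hwL⟩ := Subgroup.mem_inf.mp hw
      have hwX : w ∈ Subgroup.centralizer (X : Set G) := by
        rw [hCL] at hwL; exact (Subgroup.mem_inf.mp hwL).1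
      obtain ⟨a, ha, b, hb, rfl⟩ := hdecX w (Subgroup.mem_inf.mpr ⟨hwN, hwX⟩)
      have hbL := (Subgroup.mem_inf.mp hb).2
      have haL : a ∈ Subgroup.centralizer (L : Set G) := by
        have := Subgroup.mul_mem _ hwL (Subgroup.inv_mem _ hbL)
        simpa using this
      refine Subgroup.mem_inf.mpr ⟨A.mul_mem ha (hB0A hb), ?_⟩
      -- a * b ∈ B: a ∈ A ⊓ C(L) ⇒ a = g a g⁻¹ ∈ B
      have haB : a ∈ B := by
        rw [hBA]
        refine ⟨a, ha, ?_⟩
        have h2 := Subgroup.mem_centralizer_iff.mp haL g hg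
        simp only [MulEquiv.coe_toMonoidHom, MulAut.conj_apply]
        rw [h2]; group
      exact B.mul_mem haB (Subgroup.mem_inf.mp hb).1
    · apply le_inf (inf_le_left.trans le_sup_left)
      rw [hCL]
      exact le_inf (inf_le_left.trans (Subgroup.le_centralizer_iff.mp hXA))
        (inf_le_right.trans (Subgroup.le_centralizer_iff.mp hYB))

end Cfsg.Agent.S2833
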