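import Cfsg.Statements.S2834
import Cfsg.Agent.Lib.Helper7.LLemB

set_option autoImplicit false
open Cfsg

namespace Cfsg.Agent.S2834

open Cfsg.Agent.Lib.Helper7 Cfsg.Agent.Lib.Helper7.LLem in
/-- The L-Lemma: let H be a finite group with Sylow p-subgroup T such that H is T-minimal (generated by the conjugates of T, T in exactly one maximal subgroup M), and let A ≤ T with A not contained in O_p(H). Then there is a subgroup L of H containing A·O_p(H) such that (a) A·O_p(L) lies in exactly one maximal subgroup L₀ of L, and L₀ = L ∩ gMg⁻¹ for some g ∈ H; (b) L = ⟨A, xAx⁻¹⟩·O_p(L) for every x ∈ L outside L₀. -/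
theorem result {H : Type*} [Group H] [Finite H] {p : ℕ} [Fact p.Prime] (T : Sylow p H) (hmin : Cfsg.IsMinimalOver (T : Subgroup H)) (M : Subgroup H) (hM : IsCoatom M ∧ (T : Subgroup H) ≤ M) (A : Subgroup H) (hAT : A ≤ (T : Subgroup H)) (hA : ¬ A ≤ Cfsg.pCore p H) : ∃ L : Subgroup H, A ⊔ Cfsg.pCore p H ≤ L ∧ ∃ L₀ : Subgroup H, A ⊔ (Cfsg.pCoreOf p L) ≤ L₀ ∧ L₀ < L ∧ (∀ X : Subgroup H, A ⊔ (Cfsg.pCoreOf p L) ≤ X → X < L → X ≤ L₀) ∧ (∃ g : H, L₀ = L ⊓ ((M : Subgroup H).map (MulAut.conj (g : H)).toMonoidHom)) ∧ ∀ x ∈ L, x ∉ L₀ → (A ⊔ ((A : Subgroup H).map (MulAut.conj (x : H)).toMonoidHom)) ⊔ (Cfsg.pCoreOf p L) = L := by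
  have hsyl : IsSylowIn p (T : Subgroup H) ⊤ := isSylowIn_of_sylow T le_top
  have hum : UM ⊤ (T : Subgroup H) M := by
    refine ⟨hM.2, lt_top_iff_ne_top.mpr hM.1.1, ?_⟩
    intro X hX hXt
    obtain ⟨M', hM'c, hXM'⟩ := (eq_top_or_exists_le_coatom X).resolve_left hXt.ne
    have e : M' = M := hmin.2.unique ⟨hM'c, hX.trans hXM'⟩ ⟨hM.1, hM.2⟩
    rw [← e]
    exact hXM'
  have hA' : ¬ A ≤ pCoreIn p (⊤ : Subgroup H) := by
    rw [pCoreIn_top]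
    exact hA
  obtain ⟨L, L₀, g, -, -, h1, h2, h3, h4, h5, h6⟩ :=
    main (Nat.card (⊤ : Subgroup H)) ⊤ T M A rfl hsyl hum hAT hA'
  rw [pCoreIn_top] at h1
  exact ⟨L, h1, L₀, h2, h3, h4, ⟨g, h5⟩, h6⟩

end Cfsg.Agent.S2834
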