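import Cfsg.Statements.S2835
import Cfsg.Agent.Lib.Helper7.PCore
import Cfsg.Agent.Lib.Helper7.StronglyEmbedded

set_option autoImplicit false
open Cfsg

namespace Cfsg.Agent.S2835


/-- Let L be a finite group, L₀ a maximal subgroup, T a Sylow p-subgroup of L₀ and Y ≤ T, and suppose L is Y-minimal (generated by the conjugates of Y, with Y in exactly one maximal subgroup, necessarily L₀). Then N_L(T) ≤ L₀, O_p(L) ≤ L₀ and T is a Sylow p-subgroup of L; N_L(L₀) = L₀; L = ⟨Y, gYg⁻¹⟩ for each g ∈ L outside L₀; and if Y is abelian then Y ∩ gYg⁻¹ = C_Y(L) for each such g. -/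
theorem result {L : Type*} [Group L] [Finite L] {p : ℕ} [Fact p.Prime] (L₀ : Subgroup L) (hL₀ : IsCoatom L₀) (T : Sylow p ↥L₀) (Y : Subgroup L) (hYT : Y ≤ (T : Subgroup ↥L₀).map L₀.subtype) (hmin : Cfsg.IsMinimalOver Y) : Subgroup.normalizer (((T : Subgroup ↥L₀).map L₀.subtype : Subgroup L) : Set L) ≤ L₀ ∧ Cfsg.pCore p L ≤ L₀ ∧ (∃ P : Sylow p L, (P : Subgroup L) = (T : Subgroup ↥L₀).map L₀.subtype) ∧ Subgroup.normalizer (L₀ : Set L) = L₀ ∧ (∀ g : L, g ∉ L₀ → Y ⊔ Y.map (MulAut.conj g).toMonoidHom = ⊤) ∧ (IsMulCommutative ↥Y → ∀ g : L, g ∉ L₀ → Y ⊓ Y.map (MulAut.conj g).toMonoidHom = Y ⊓ Subgroup.center L) := by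
  classical
  set T' : Subgroup L := (T : Subgroup ↥L₀).map L₀.subtype with hT'
  obtain ⟨hncl, M, ⟨hMco, hYM⟩, hMuniq⟩ := hmin
  have hT'L₀ : T' ≤ L₀ := by
    rw [hT']
    exact Subgroup.map_subtype_le _
  have hYL₀ : Y ≤ L₀ := hYT.trans hT'L₀
  have hT'p : IsPGroup p T' := by
    rw [hT']
    exact T.2.map _
  -- (U) proper subgroups containing Y are in L₀
  have hU : ∀ X : Subgroup L, Y ≤ X → X ≠ ⊤ → X ≤ L₀ := by
    intro X hYX hX
    rcases eq_top_or_exists_le_coatom X with h | ⟨a, ha, hXa⟩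
    · exact absurd h hX
    · have h1 : a = M := hMuniq a ⟨ha, hYX.trans hXa⟩
      have h2 : L₀ = M := hMuniq L₀ ⟨hL₀, hYL₀⟩
      rw [h2, ← h1]
      exact hXa
  -- normal proper subgroups cannot contain Y
  have hnorm : ∀ X : Subgroup L, X.Normal → Y ≤ X → X = ⊤ := by
    intro X hXn hYX
    have := Subgroup.normalClosure_le_normal (N := X) (show (Y : Set L) ⊆ X from hYX)
    rw [hncl] at this
    exact top_le_iff.mp this
  have hL₀top : L₀ ≠ ⊤ := hL₀.1
  have hL₀nn : ¬ L₀.Normal := fun h => hL₀top (hnorm L₀ h hYL₀)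
  -- L is not a p-group
  have hnotp : ∀ P : Sylow p L, (P : Subgroup L) ≠ ⊤ := by
    intro P hP
    have hLp : IsPGroup p L := by
      have := P.2
      rw [hP] at this
      exact (IsPGroup.of_equiv this Subgroup.topEquiv)
    haveI := hLp.isNilpotent
    exact hL₀nn (Subgroup.NormalizerCondition.normal_of_coatom L₀ normalizerCondition_of_isNilpotent hL₀)
  -- T' is Sylow in L
  have hsyl : ∃ P : Sylow p L, (P : Subgroup L) = T' := by
    obtain ⟨P, hP⟩ := hT'p.exists_le_sylow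
    refine ⟨P, le_antisymm ?_ hP⟩
    have hPL₀ : (P : Subgroup L) ≤ L₀ := hU P (hYT.trans hP) (hnotp P)
    have h1 : (T : Subgroup ↥L₀) ≤ (P : Subgroup L).subgroupOf L₀ := by
      intro x hx
      rw [Subgroup.mem_subgroupOf]
      exact hP ⟨x, hx, rfl⟩
    have h2 : IsPGroup p ((P : Subgroup L).subgroupOf L₀) :=
      P.2.comap_of_injective L₀.subtype (Subgroup.subtype_injective _)
    have h3 := T.is_maximal' h2 h1
    intro x hx
    have : (⟨x, hPL₀ hx⟩ : ↥L₀) ∈ (T : Subgroup ↥L₀) := by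
      rw [← h3, Subgroup.mem_subgroupOf]
      exact hx
    exact ⟨⟨x, hPL₀ hx⟩, this, rfl⟩
  obtain ⟨P, hPT'⟩ := hsyl
  have hN : Subgroup.normalizer ((T' : Subgroup L) : Set L) ≤ L₀ := by
    apply hU _ (hYT.trans Subgroup.le_normalizer)
    intro h
    have hTn : T'.Normal := Subgroup.normalizer_eq_top_iff.mp h
    have := hnorm T' hTn hYT
    rw [← hPT'] at this
    exact hnotp P this
  have hgen : ∀ g : L, g ∉ L₀ → Y ⊔ Y.map (MulAut.conj g).toMonoidHom = ⊤ := by
    intro g hg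
    by_contra hX
    set X : Subgroup L := Y ⊔ Y.map (MulAut.conj g).toMonoidHom with hXdef
    -- g⁻¹ X g contains Y and is proper
    have h1 : Y ≤ X.map (MulAut.conj g⁻¹).toMonoidHom := by
      intro y hy
      refine ⟨g * y * g⁻¹, ?_, ?_⟩
      · apply (le_sup_right : Y.map (MulAut.conj g).toMonoidHom ≤ X)
        exact ⟨y, hy, rfl⟩
      · simp [MulAut.conj_apply]
        group
    have h2 : X.map (MulAut.conj g⁻¹).toMonoidHom ≠ ⊤ := by
      intro h
      apply hX
      have hsurj : Function.Surjective (MulAut.conj g⁻¹ : L ≃* L).toMonoidHom := (MulAut.conj g⁻¹).surjective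
      have hinj : Function.Injective (MulAut.conj g⁻¹ : L ≃* L).toMonoidHom := (MulAut.conj g⁻¹).injective
      have : X.map (MulAut.conj g⁻¹).toMonoidHom = (⊤ : Subgroup L).map (MulAut.conj g⁻¹).toMonoidHom := by
        rw [h, ← MonoidHom.range_eq_map, MonoidHom.range_eq_top.mpr hsurj]
      exact Subgroup.map_injective hinj this
    have h3 := hU _ h1 h2
    -- g⁻¹ Y g ≤ L₀
    have h4 : Y.map (MulAut.conj g⁻¹).toMonoidHom ≤ L₀ :=
      (Subgroup.map_mono (le_sup_left : Y ≤ X)).trans h3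
    -- it is a p-subgroup of L₀; conjugate it into T
    have hYp : IsPGroup p Y := hT'p.to_le hYT
    have h5 : IsPGroup p ((Y.map (MulAut.conj g⁻¹).toMonoidHom).subgroupOf L₀) :=
      (hYp.map _).comap_of_injective L₀.subtype (Subgroup.subtype_injective _)
    obtain ⟨T₂, hT₂⟩ := h5.exists_le_sylow
    obtain ⟨x, hx⟩ := MulAction.exists_smul_eq ↥L₀ T₂ T
    -- the Sylow subgroup (g x⁻¹) T' (g x⁻¹)⁻¹ of L contains Y
    have h6 : Y ≤ T'.map (MulAut.conj (g * (x : L)⁻¹)).toMonoidHom := by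
      intro y hy
      have hy1 : g⁻¹ * y * g ∈ Y.map (MulAut.conj g⁻¹).toMonoidHom := ⟨y, hy, by simp [MulAut.conj_apply]⟩
      have hy2 : (⟨g⁻¹ * y * g, h4 hy1⟩ : ↥L₀) ∈ (T₂ : Subgroup ↥L₀) := by
        apply hT₂
        rw [Subgroup.mem_subgroupOf]
        exact hy1
      have hy3 : x * ⟨g⁻¹ * y * g, h4 hy1⟩ * x⁻¹ ∈ (T : Subgroup ↥L₀) := by
        rw [← hx]
        rw [Sylow.coe_subgroup_smul, Subgroup.mem_pointwise_smul_iff_inv_smul_mem]
        simp only [MulAut.smul_def, MulAut.conj_inv_apply]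
        have e : x⁻¹ * (x * ⟨g⁻¹ * y * g, h4 hy1⟩ * x⁻¹) * x = ⟨g⁻¹ * y * g, h4 hy1⟩ := by group
        rw [e]
        exact hy2
      refine ⟨(x : L) * (g⁻¹ * y * g) * (x : L)⁻¹, ⟨_, hy3, rfl⟩, ?_⟩
      simp [MulAut.conj_apply]
      group
    set P₂ : Sylow p L := (g * (x : L)⁻¹) • P with hP₂
    have hP₂c : (P₂ : Subgroup L) = T'.map (MulAut.conj (g * (x : L)⁻¹)).toMonoidHom := by
      rw [hP₂, Cfsg.Agent.Lib.Helper7.sylow_smul_coe_eq_map, hPT']
    have h7 : (P₂ : Subgroup L) ≤ L₀ := hU _ (hP₂c ▸ h6) (hnotp P₂)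
    -- P₂ ∩ L₀ is a Sylow of L₀, conjugate to T in L₀
    have h8 : IsPGroup p ((P₂ : Subgroup L).subgroupOf L₀) :=
      P₂.2.comap_of_injective L₀.subtype (Subgroup.subtype_injective _)
    obtain ⟨T₃, hT₃⟩ := h8.exists_le_sylow
    obtain ⟨y, hy⟩ := MulAction.exists_smul_eq ↥L₀ T T₃
    -- then P₂ ≤ y T' y⁻¹, hence equal
    have h9 : (P₂ : Subgroup L) ≤ T'.map (MulAut.conj (y : L)).toMonoidHom := by
      intro z hz
      have hz1 : (⟨z, h7 hz⟩ : ↥L₀) ∈ (T₃ : Subgroup ↥L₀) := by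
        apply hT₃
        rw [Subgroup.mem_subgroupOf]
        exact hz
      rw [← hy, Sylow.coe_subgroup_smul, Subgroup.mem_pointwise_smul_iff_inv_smul_mem] at hz1
      simp only [MulAut.smul_def, MulAut.conj_inv_apply] at hz1
      refine ⟨(y : L)⁻¹ * z * (y : L), ⟨_, hz1, rfl⟩, ?_⟩
      simp [MulAut.conj_apply]
      group
    have h10 : (P₂ : Subgroup L) = ((y : L) • P : Sylow p L) := by
      have hle : (P₂ : Subgroup L) ≤ ((y : L) • P : Sylow p L) := by
        have e : (((y : L) • P : Sylow p L) : Subgroup L) = T'.map (MulAut.conj (y : L)).toMonoidHom := by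
          rw [Cfsg.Agent.Lib.Helper7.sylow_smul_coe_eq_map, hPT']
        rw [e]
        exact h9
      exact (P₂.is_maximal' ((y : L) • P : Sylow p L).2 hle).symm
    have h11 : (g * (x : L)⁻¹) • P = (y : L) • P := Sylow.ext h10
    have h12' : ((y : L)⁻¹ * (g * (x : L)⁻¹)) • P = P := by rw [mul_smul, h11, inv_smul_smul]
    have h12 : (y : L)⁻¹ * (g * (x : L)⁻¹) ∈ Subgroup.normalizer ((P : Subgroup L) : Set L) :=
      Sylow.smul_eq_iff_mem_normalizer.mp h12'
    rw [hPT'] at h12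
    have h13 := hN h12
    apply hg
    have e : g = (y : L) * ((y : L)⁻¹ * (g * (x : L)⁻¹)) * (x : L) := by group
    rw [e]
    exact L₀.mul_mem (L₀.mul_mem y.2 h13) x.2
  refine ⟨hN, ?_, ⟨P, hPT'⟩, ?_, hgen, ?_⟩
  · -- O_p(L) ≤ L₀
    have h1 : Cfsg.pCore p L ≤ (P : Subgroup L) := Cfsg.Agent.Lib.Helper7.pCore_le_sylow P
    rw [hPT'] at h1
    exact h1.trans hT'L₀
  · -- N_L(L₀) = L₀
    rcases hL₀.le_iff.mp (Subgroup.le_normalizer (H := L₀)) with h | h
    · exact absurd (Subgroup.normalizer_eq_top_iff.mp h) hL₀nn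
    · exact h
  · -- intersection
    intro hab g hg
    have hg2 := hgen g hg
    apply le_antisymm
    · intro z hz
      rw [Subgroup.mem_inf] at hz ⊢
      obtain ⟨hz1, hz2⟩ := hz
      refine ⟨hz1, ?_⟩
      rw [Subgroup.mem_center_iff]
      have hcent : (⊤ : Subgroup L) ≤ Subgroup.centralizer {z} := by
        rw [← hg2]
        apply sup_le
        · intro y hy
          rw [Subgroup.mem_centralizer_iff]
          intro w hw
          rw [Set.mem_singleton_iff] at hw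
          subst hw
          have := hab.is_comm.comm (⟨w, hz1⟩ : ↥Y) ⟨y, hy⟩
          exact congrArg Subtype.val this
        · rintro _ ⟨y, hy, rfl⟩
          obtain ⟨w, hw, rfl⟩ := hz2
          rw [Subgroup.mem_centralizer_iff]
          intro v hv
          rw [Set.mem_singleton_iff] at hv
          subst hv
          have := hab.is_comm.comm (⟨w, hw⟩ : ↥Y) ⟨y, hy⟩
          have h' : w * y = y * w := congrArg Subtype.val this
          simp only [MulEquiv.coe_toMonoidHom, MulAut.conj_apply]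
          calc g * w * g⁻¹ * (g * y * g⁻¹) = g * (w * y) * g⁻¹ := by group
            _ = g * (y * w) * g⁻¹ := by rw [h']
            _ = g * y * g⁻¹ * (g * w * g⁻¹) := by group
      intro v
      have := hcent (Subgroup.mem_top v)
      rw [Subgroup.mem_centralizer_iff] at this
      exact (this z rfl).symm
    · intro z hz
      rw [Subgroup.mem_inf] at hz ⊢
      obtain ⟨hz1, hz2⟩ := hz
      refine ⟨hz1, z, hz1, ?_⟩
      rw [Subgroup.mem_center_iff] at hz2
      simp only [MulEquiv.coe_toMonoidHom, MulAut.conj_apply]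
      rw [hz2 g, mul_inv_cancel_right]

end Cfsg.Agent.S2835
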