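import Cfsg.Statements.S2836
import Cfsg.Agent.Lib.Helper7.YMinimal

set_option autoImplicit false
open Cfsg

namespace Cfsg.Agent.S2836

open Cfsg.Agent.Lib.Helper7

/-- Let L be a finite group, L₀ a maximal subgroup, T a Sylow p-subgroup of L₀, Y ≤ T, and suppose L is Y-minimal. Let D be the intersection of the conjugates of L₀ (the core of L₀). Then D contains O_p(L) and D/O_p(L) is the Frattini subgroup of L/O_p(L), so D is p-closed; and every normal subgroup N of L contained in L₀ is p-closed with N/O_p(N) a nilpotent group of order prime to p. -/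
theorem result {L : Type*} [Group L] [Finite L] {p : ℕ} [Fact p.Prime] (L₀ : Subgroup L) (hL₀ : IsCoatom L₀) (T : Sylow p ↥L₀) (Y : Subgroup L) (hYT : Y ≤ (T : Subgroup ↥L₀).map L₀.subtype) (hmin : Cfsg.IsMinimalOver Y) : (Cfsg.pCore p L ≤ L₀.normalCore ∧ (L₀.normalCore).map (QuotientGroup.mk' (Cfsg.pCore p L)) = frattini (L ⧸ Cfsg.pCore p L) ∧ Cfsg.IsPClosed p ↥(L₀.normalCore)) ∧ ∀ (N : Subgroup L) [N.Normal], N ≤ L₀ → Cfsg.IsPClosed p ↥N ∧ Group.IsNilpotent (↥N ⧸ Cfsg.pCore p ↥N) ∧ (Nat.card (↥N ⧸ Cfsg.pCore p ↥N)).Coprime p := by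
  classical
  set T' : Subgroup L := (T : Subgroup ↥L₀).map L₀.subtype with hT'
  have hT'L₀ : T' ≤ L₀ := by
    rw [hT']
    exact Subgroup.map_subtype_le _
  have hYL₀ : Y ≤ L₀ := hYT.trans hT'L₀
  have hT'p : IsPGroup p T' := by
    rw [hT']
    exact T.2.map _
  obtain ⟨P, hP⟩ := hT'p.exists_le_sylow
  have hYP : Y ≤ (P : Subgroup L) := hYT.trans hP
  have hOL₀ : Cfsg.pCore p L ≤ L₀ :=
    (pCore_le_sylow P).trans (IsMinimalOver.sylow_le hmin hL₀ hYL₀ P hYP)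
  refine ⟨⟨?_, IsMinimalOver.map_normalCore_eq_frattini hmin hL₀ hYL₀ P hYP,
    IsMinimalOver.isPClosed_of_le hmin hL₀ hYL₀ P hYP _ (Subgroup.normalCore_le L₀)⟩, ?_⟩
  · exact Subgroup.normal_le_normalCore.mpr hOL₀
  · intro N hN hNL
    obtain ⟨h1, h2⟩ := IsMinimalOver.quotient_pCore_of_le hmin hL₀ hYL₀ P hYP N hNL
    exact ⟨IsMinimalOver.isPClosed_of_le hmin hL₀ hYL₀ P hYP N hNL, h1, h2⟩

end Cfsg.Agent.S2836
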