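import Cfsg.Statements.S2837
import Cfsg.Agent.Lib.Helper7.YMinimal3

set_option autoImplicit false
open Cfsg

namespace Cfsg.Agent.S2837

open Cfsg.Agent.Lib.Helper7
open scoped Pointwise

local notation:max Q "⋏" g:max => Subgroup.map (MulEquiv.toMonoidHom (MulAut.conj g)) Q


/-- Let L be a finite group of characteristic p, L₀ a maximal subgroup, Y an elementary abelian p-subgroup of L₀ with L Y-minimal and O_p(L) ≤ N_L(Y). Put A = the normal closure of O_p(L) ∩ Y in L. Then for every g ∈ L outside L₀: Φ(A) = A' = [A ∩ Y, A] = [A ∩ Y, A ∩ gYg⁻¹] ≤ C_Y(L), and Y ∩ gYg⁻¹ = (A ∩ Y) ∩ (A ∩ gYg⁻¹) = C_Y(L) = C_A(L). -/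
theorem result {L : Type*} [Group L] [Finite L] {p : ℕ} [Fact p.Prime] (hchar : Subgroup.centralizer (Cfsg.pCore p L : Set L) ≤ Cfsg.pCore p L) (L₀ : Subgroup L) (hL₀ : IsCoatom L₀) (Y : Subgroup L) (hYL₀ : Y ≤ L₀) (hYel : Cfsg.IsElementaryAbelian p Y) (hmin : Cfsg.IsMinimalOver Y) (hOY : Cfsg.pCore p L ≤ Subgroup.normalizer (Y : Set L)) (A : Subgroup L) (hA : A = Subgroup.normalClosure (((Cfsg.pCore p L ⊓ Y : Subgroup L)) : Set L)) (g : L) (hg : g ∉ L₀) : (frattini ↥A).map A.subtype = ⁅A, A⁆ ∧ ⁅A, A⁆ = ⁅A ⊓ Y, A⁆ ∧ ⁅A ⊓ Y, A⁆ = ⁅A ⊓ Y, A ⊓ Y.map (MulAut.conj g).toMonoidHom⁆ ∧ ⁅A ⊓ Y, A⁆ ≤ Y ⊓ Subgroup.center L ∧ Y ⊓ Y.map (MulAut.conj g).toMonoidHom = Y ⊓ Subgroup.center L ∧ (A ⊓ Y) ⊓ (A ⊓ Y.map (MulAut.conj g).toMonoidHom) = Y ⊓ Subgroup.center L ∧ A ⊓ Subgroup.center L = Y ⊓ Subgroup.center L := by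
  classical
  have hYab : ∀ a ∈ Y, ∀ b ∈ Y, a * b = b * a := by
    intro a ha b hb
    have := hYel.1.is_comm.comm (⟨a, ha⟩ : ↥Y) ⟨b, hb⟩
    exact congrArg Subtype.val this
  have hY'el : Cfsg.IsElementaryAbelian p (Y ⋏ g) := isElementaryAbelian_map_conj hYel g
  have hY'ab : ∀ a ∈ Y ⋏ g, ∀ b ∈ Y ⋏ g, a * b = b * a := by
    intro a ha b hb
    have := hY'el.1.is_comm.comm (⟨a, ha⟩ : ↥(Y ⋏ g)) ⟨b, hb⟩
    exact congrArg Subtype.val this
  have hYp : IsPGroup p Y := by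
    intro y
    refine ⟨1, ?_⟩
    apply Subtype.ext
    simpa using hYel.2 y y.2
  have hgen := IsMinimalOver.sup_map_conj_eq_top hmin hL₀ hYL₀ hYp hg
  have hint := IsMinimalOver.inf_map_conj_eq hmin hL₀ hYL₀ hYp hYab hg
  have hA' := IsMinimalOver.normalClosure_pCore_inf hmin hL₀ hYL₀ hYel hOY hg
  rw [← hA] at hA'
  set O := Cfsg.pCore p L with hO
  have hOn : O.Normal := pCore_normal p L
  have hOg : O ⋏ g = O := by
    apply map_conj_eq_of_mem_normalizer
    rw [Subgroup.normalizer_eq_top_iff.mpr hOn]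
    exact Subgroup.mem_top g
  set A₁ := O ⊓ Y with hA₁
  set A₂ := O ⊓ Y ⋏ g with hA₂
  have hAO : A ≤ O := by rw [hA']; exact sup_le inf_le_left inf_le_left
  have hAY : A ⊓ Y = A₁ :=
    le_antisymm (le_inf (inf_le_left.trans hAO) inf_le_right)
      (le_inf (hA' ▸ le_sup_left) inf_le_right)
  have hAY' : A ⊓ Y ⋏ g = A₂ :=
    le_antisymm (le_inf (inf_le_left.trans hAO) inf_le_right)
      (le_inf (hA' ▸ le_sup_right) inf_le_right)
  rw [hAY, hAY']
  have hOY' : O ≤ Subgroup.normalizer ((Y ⋏ g : Subgroup L) : Set L) := by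
    rw [normalizer_map_conj, ← hOg]
    exact Subgroup.map_mono hOY
  have htopO : ∀ X : Subgroup L, X ≤ Subgroup.normalizer ((O : Subgroup L) : Set L) := by
    intro X
    rw [Subgroup.normalizer_eq_top_iff.mpr hOn]; exact le_top
  have hON₁ : O ≤ Subgroup.normalizer ((A₁ : Subgroup L) : Set L) :=
    Cfsg.Agent.Lib.Helper1.le_normalizer_inf (htopO O) hOY
  have hON₂ : O ≤ Subgroup.normalizer ((A₂ : Subgroup L) : Set L) :=
    Cfsg.Agent.Lib.Helper1.le_normalizer_inf (htopO O) hOY'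
  have hA₁ab : ∀ a ∈ A₁, ∀ b ∈ A₁, a * b = b * a :=
    fun a ha b hb => hYab a ha.2 b hb.2
  have hA₂ab : ∀ a ∈ A₂, ∀ b ∈ A₂, a * b = b * a :=
    fun a ha b hb => hY'ab a ha.2 b hb.2
  have hN21 : A₂ ≤ Subgroup.normalizer ((A₁ : Subgroup L) : Set L) := inf_le_left.trans hON₁
  have hN12 : A₁ ≤ Subgroup.normalizer ((A₂ : Subgroup L) : Set L) := inf_le_left.trans hON₂
  have hcomm : ⁅A, A⁆ ≤ ⁅A₁, A₂⁆ := by
    rw [hA']
    exact commutator_sup_sup_le hA₁ab hA₂ab hN21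
  have hA₁A : A₁ ≤ A := hA' ▸ le_sup_left
  have hA₂A : A₂ ≤ A := hA' ▸ le_sup_right
  have hc12 : ⁅A₁, A₂⁆ ≤ A₁ ⊓ A₂ :=
    le_inf (Subgroup.le_normalizer_iff_commutator_le_left.mp hN21)
      (Subgroup.le_normalizer_iff_commutator_le_right.mp hN12)
  have h12 : A₁ ⊓ A₂ ≤ Y ⊓ Subgroup.center L := by
    rw [← hint]
    exact inf_le_inf inf_le_right inf_le_right
  have hYZO : Y ⊓ Subgroup.center L ≤ O := by
    have hn : (Y ⊓ Subgroup.center L).Normal := by
      constructor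
      intro z hz x
      have hzc : z ∈ Subgroup.center L := hz.2
      rw [Subgroup.mem_center_iff] at hzc
      rw [hzc x, mul_inv_cancel_right]
      exact hz
    exact le_pCore hn (hYp.to_le inf_le_left)
  have hYZA₁ : Y ⊓ Subgroup.center L ≤ A₁ := le_inf hYZO inf_le_left
  have hYZA₂ : Y ⊓ Subgroup.center L ≤ A₂ := le_inf hYZO (hint ▸ inf_le_right)
  -- central elements
  have hcen : ∀ x : L, (∀ y ∈ Y, y * x = x * y) → (∀ y ∈ Y ⋏ g, y * x = x * y) →
      x ∈ Subgroup.center L := by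
    intro x h1 h2
    rw [Subgroup.mem_center_iff]
    have hcent : (⊤ : Subgroup L) ≤ Subgroup.centralizer {x} := by
      rw [← hgen]
      apply sup_le
      · intro y hy
        rw [Subgroup.mem_centralizer_iff]
        intro w hw
        rw [Set.mem_singleton_iff] at hw
        subst hw
        exact (h1 y hy).symm
      · intro y hy
        rw [Subgroup.mem_centralizer_iff]
        intro w hw
        rw [Set.mem_singleton_iff] at hw
        subst hw
        exact (h2 y hy).symm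
    intro v
    have := hcent (Subgroup.mem_top v)
    rw [Subgroup.mem_centralizer_iff] at this
    exact (this x rfl).symm
  have hset : ((A₂ ⊔ A₁ : Subgroup L) : Set L) = (A₂ : Set L) * (A₁ : Set L) :=
    Subgroup.coe_mul_of_left_le_normalizer_right A₂ A₁ hN21
  have hdec : ∀ y ∈ A, ∃ b₂ ∈ A₂, ∃ b₁ ∈ A₁, y = b₂ * b₁ := by
    intro y hy
    rw [hA', sup_comm] at hy
    have : y ∈ (A₂ : Set L) * (A₁ : Set L) := by rw [← hset]; exact hy
    obtain ⟨b₂, hb₂, b₁, hb₁, rfl⟩ := Set.mem_mul.mp this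
    exact ⟨b₂, hb₂, b₁, hb₁, rfl⟩
  have hAp : IsPGroup p A := (pCore_isPGroup p L).to_le hAO
  refine ⟨?_, ?_, ?_, ?_, hint, ?_, ?_⟩
  · -- Frattini
    apply le_antisymm
    · rw [← Cfsg.Agent.Lib.Helper2.map_subtype_commutator]
      apply Subgroup.map_mono
      apply Cfsg.Agent.Lib.Helper1.frattini_le_of_elementary_quotient p _ le_rfl
      intro x
      obtain ⟨b₂, hb₂, b₁, hb₁, hx⟩ := hdec x.1 x.2
      set u : ↥A := ⟨b₂, hA₂A hb₂⟩ with hu
      set v : ↥A := ⟨b₁, hA₁A hb₁⟩ with hv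
      have hxuv : x = u * v := Subtype.ext hx
      have hup : u ^ p = 1 := by
        apply Subtype.ext
        simpa using hY'el.2 b₂ hb₂.2
      have hvp : v ^ p = 1 := by
        apply Subtype.ext
        simpa using hYel.2 b₁ hb₁.2
      rw [← Abelianization.ker_of, MonoidHom.mem_ker, hxuv, map_pow, map_mul, mul_pow,
        ← map_pow, ← map_pow, hup, hvp, map_one, mul_one]
    · exact Cfsg.Agent.Lib.Helper2.commutator_le_map_frattini hAp
  · exact le_antisymm (hcomm.trans (Subgroup.commutator_mono le_rfl hA₂A))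
      (Subgroup.commutator_mono hA₁A le_rfl)
  · exact le_antisymm ((Subgroup.commutator_mono hA₁A le_rfl).trans hcomm)
      (Subgroup.commutator_mono le_rfl hA₂A)
  · exact ((Subgroup.commutator_mono hA₁A le_rfl).trans hcomm).trans (hc12.trans h12)
  · exact le_antisymm h12 (le_inf hYZA₁ hYZA₂)
  · apply le_antisymm
    · intro z hz
      obtain ⟨hzA, hzc⟩ := Subgroup.mem_inf.mp hz
      obtain ⟨a₂, ha₂, a₁, ha₁, rfl⟩ := hdec z hzA
      have hzc' := Subgroup.mem_center_iff.mp hzc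
      have ha₂c : a₂ ∈ Subgroup.center L := by
        apply hcen
        · intro y hy
          have e1 : a₂ = (a₂ * a₁) * a₁⁻¹ := by group
          have h3 : y * a₁⁻¹ = a₁⁻¹ * y := hYab y hy a₁⁻¹ (Y.inv_mem ha₁.2)
          calc y * a₂ = y * ((a₂ * a₁) * a₁⁻¹) := by rw [← e1]
            _ = (y * (a₂ * a₁)) * a₁⁻¹ := by group
            _ = ((a₂ * a₁) * y) * a₁⁻¹ := by rw [hzc' y]
            _ = (a₂ * a₁) * (y * a₁⁻¹) := by group
            _ = (a₂ * a₁) * (a₁⁻¹ * y) := by rw [h3]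
            _ = a₂ * y := by group
        · intro y hy
          exact hY'ab y hy a₂ ha₂.2
      have ha₁c : a₁ ∈ Subgroup.center L := by
        have e : a₁ = a₂⁻¹ * (a₂ * a₁) := by group
        rw [e]
        exact Subgroup.mul_mem _ (Subgroup.inv_mem _ ha₂c) hzc
      have ha₂Y : a₂ ∈ Y := by
        obtain ⟨y, hy, hya⟩ := ha₂.2
        simp only [MulEquiv.coe_toMonoidHom, MulAut.conj_apply] at hya
        have hc := Subgroup.mem_center_iff.mp ha₂c
        have : y = a₂ := by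
          have e : y = g⁻¹ * (g * y * g⁻¹) * g := by group
          rw [e, hya, mul_assoc, ← hc g, ← mul_assoc, inv_mul_cancel, one_mul]
        rw [← this]
        exact hy
      exact Subgroup.mem_inf.mpr ⟨Y.mul_mem ha₂Y ha₁.2, hzc⟩
    · exact le_inf (hYZA₁.trans hA₁A) inf_le_right

end Cfsg.Agent.S2837
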