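import Cfsg.Statements.S2840
import Cfsg.Agent.Lib.Helper7.WeaklyClosed

set_option autoImplicit false
open Cfsg

namespace Cfsg.Agent.S2840

open Cfsg.Agent.Lib.Helper7

/-- Let Q be a nontrivial p-subgroup of the finite group H that is a weakly closed subgroup and K a subgroup containing Q; let K° be the weak closure of Q in K (generated by the H-conjugates of Q inside K). Then K° is generated by the K-conjugates of Q, and K° is the subnormal closure of Q in K. -/
theorem result {H : Type*} [Group H] [Finite H] {p : ℕ} [Fact p.Prime] (Q : Subgroup H) (hQp : IsPGroup p ↥Q) (hQ1 : Q ≠ ⊥) (hwc : Cfsg.IsWeaklyClosedSubgroup p Q) (K : Subgroup H) (hQK : Q ≤ K) (Kc : Subgroup H) (hKc : Kc = Cfsg.weakClosure Q K) : Kc = ⨆ k : ↥K, ((Q : Subgroup H).map (MulAut.conj ((k : H) : H)).toMonoidHom) ∧ Kc = (Cfsg.subnormalClosure (Q.subgroupOf K)).map K.subtype := by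
  have h1 : Kc = ⨆ k : ↥K, ((Q : Subgroup H).map (MulAut.conj ((k : H) : H)).toMonoidHom) := by
    rw [hKc]
    unfold Cfsg.weakClosure
    apply le_antisymm
    · apply iSup_le
      rintro ⟨g, hg⟩
      obtain ⟨k, hk, e⟩ := wc_conj_in hwc hQK g hg
      show Q.map (MulAut.conj g).toMonoidHom ≤ _
      rw [e]
      exact le_iSup (fun k : ↥K => (Q : Subgroup H).map (MulAut.conj (k : H)).toMonoidHom) ⟨k, hk⟩
    · apply iSup_le
      intro k
      have hk : Q.map (MulAut.conj (k : H)).toMonoidHom ≤ K := by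
        rintro _ ⟨q, hq, rfl⟩
        simp only [MulEquiv.coe_toMonoidHom, MulAut.conj_apply]
        exact K.mul_mem (K.mul_mem k.2 (hQK hq)) (K.inv_mem k.2)
      exact le_iSup (fun g : {g : H // Q.map (MulAut.conj g).toMonoidHom ≤ K} =>
        Q.map (MulAut.conj (g : H)).toMonoidHom) ⟨k, hk⟩
  refine ⟨h1, ?_⟩
  rw [h1, wc_subnormalClosure (wc_subgroupOf hwc hQK), Subgroup.map_iSup]
  congr 1
  ext k : 1
  rw [map_subtype_map_conj, Subgroup.map_subgroupOf_eq_of_le hQK]

end Cfsg.Agent.S2840
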