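import Cfsg.Statements.S2841
import Cfsg.Agent.Lib.Helper7.WeaklyClosed
import Cfsg.Agent.Lib.Helper7.PGroupComm

set_option autoImplicit false
open Cfsg

namespace Cfsg.Agent.S2841

open Cfsg.Agent.Lib.Helper7
open scoped commutatorElement Pointwise

/-- Let Q be a nontrivial p-subgroup of the finite group H that is a weakly closed subgroup and N a normal subgroup of H. Then N = N_N(Q)·[N, Q] and [N, Q] = (Q ∩ [N, Q])·[N, Q, Q]. -/
theorem result {H : Type*} [Group H] [Finite H] {p : ℕ} [Fact p.Prime] (Q : Subgroup H) (hQp : IsPGroup p ↥Q) (hQ1 : Q ≠ ⊥) (hwc : Cfsg.IsWeaklyClosedSubgroup p Q) (N' : Subgroup H) [N'.Normal] : (∀ n : H, n ∈ N' → ∃ a ∈ N' ⊓ Subgroup.normalizer ((Q : Subgroup H) : Set H), ∃ b ∈ ⁅N', Q⁆, n = a * b) ∧ (∀ c : H, c ∈ ⁅N', Q⁆ → ∃ a ∈ Q ⊓ ⁅N', Q⁆, ∃ b ∈ ⁅⁅N', Q⁆, Q⁆, c = a * b) := by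
  have hNn : ∀ g : H, g ∈ Subgroup.normalizer (N' : Set H) := by
    intro g; rw [Subgroup.normalizer_eq_top]; exact Subgroup.mem_top g
  set M := ⁅N', Q⁆ with hM
  have hMN : M ≤ N' := Subgroup.commutator_le_left N' Q
  have hQM : Q ≤ Subgroup.normalizer (M : Set H) :=
    le_normalizer_commutator (fun g _ => hNn g) Subgroup.le_normalizer
  -- part (a)
  have parta : ∀ n : H, n ∈ N' → ∃ a ∈ N' ⊓ Subgroup.normalizer ((Q : Subgroup H) : Set H),
      ∃ b ∈ M, n = a * b := by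
    intro n hn
    set K := M ⊔ Q with hK
    have hKcoe : (K : Set H) = (M : Set H) * (Q : Set H) :=
      Subgroup.coe_mul_of_right_le_normalizer_left M Q hQM
    have hconj : Q.map (MulAut.conj n⁻¹).toMonoidHom ≤ K := by
      rintro _ ⟨q, hq, rfl⟩
      have e : (MulAut.conj n⁻¹).toMonoidHom q = ⁅n⁻¹, q⁆ * q := by
        simp [MulAut.conj_apply, commutatorElement_def]
      rw [e]
      exact K.mul_mem (le_sup_left (a := M)
        (Subgroup.commutator_mem_commutator (N'.inv_mem hn) hq)) (le_sup_right (a := M) hq)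
    obtain ⟨k, hk, e⟩ := wc_conj_in hwc (le_sup_right : Q ≤ K) n⁻¹ hconj
    rw [← SetLike.mem_coe, hKcoe, Set.mem_mul] at hk
    obtain ⟨m, hm, q, hq, rfl⟩ := hk
    rw [← map_conj_map_conj, map_conj_eq_of_mem_normalizer (Subgroup.le_normalizer hq)] at e
    have h1 : n * m ∈ Subgroup.normalizer (Q : Set H) := by
      rw [← map_conj_eq_self_iff, ← map_conj_map_conj, ← e, map_conj_map_conj_inv]
    refine ⟨n * m, Subgroup.mem_inf.mpr ⟨N'.mul_mem hn (hMN hm), h1⟩, m⁻¹, M.inv_mem hm, ?_⟩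
    group
  refine ⟨parta, ?_⟩
  -- part (b)
  set M2 := ⁅M, Q⁆ with hM2
  have hQM2 : Q ≤ Subgroup.normalizer (M2 : Set H) :=
    le_normalizer_commutator hQM Subgroup.le_normalizer
  set R := Q ⊓ M with hR
  set W := R ⊔ M2 with hW
  have hWcoe : (W : Set H) = (R : Set H) * (M2 : Set H) :=
    Subgroup.coe_mul_of_left_le_normalizer_right R M2 (inf_le_left.trans hQM2)
  have hMW : M ≤ W := by
    rw [hM, Subgroup.commutator_le]
    intro n hn q hq
    obtain ⟨a, ha, b, hb, rfl⟩ := parta n hn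
    obtain ⟨haN, haQ⟩ := Subgroup.mem_inf.mp ha
    rw [commutatorElement_mul_left]
    have haM : a ∈ Subgroup.normalizer (M : Set H) := mem_normalizer_commutator (hNn a) haQ
    have haM2 : a ∈ Subgroup.normalizer (M2 : Set H) := mem_normalizer_commutator haM haQ
    have h1 : a * ⁅b, q⁆ * a⁻¹ ∈ M2 :=
      (Subgroup.mem_normalizer_iff.mp haM2 _).mp (Subgroup.commutator_mem_commutator hb hq)
    have h2 : ⁅a, q⁆ ∈ R := by
      refine Subgroup.mem_inf.mpr ⟨?_, Subgroup.commutator_mem_commutator haN hq⟩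
      rw [commutatorElement_def]
      exact Q.mul_mem ((Subgroup.mem_normalizer_iff.mp haQ q).mp hq) (Q.inv_mem hq)
    exact W.mul_mem (le_sup_right (a := R) h1) (le_sup_left (a := R) h2)
  intro c hc
  have := hMW hc
  rw [← SetLike.mem_coe, hWcoe, Set.mem_mul] at this
  obtain ⟨a, ha, b, hb, rfl⟩ := this
  exact ⟨a, ha, b, hb, rfl⟩

end Cfsg.Agent.S2841
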