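import Cfsg.Statements.S2842
import Cfsg.Agent.Lib.Helper7.CharP2

set_option autoImplicit false
open Cfsg

namespace Cfsg.Agent.S2842

open Cfsg.Agent.Lib.Helper7
open scoped commutatorElement Pointwise

/-- Let Q be a nontrivial p-subgroup of the finite group H that is a weakly closed subgroup with C_H(Q) ≤ Q, and Q ≤ L ≤ H. Suppose H has characteristic p, or more generally that C_H(y) has characteristic p for some nonidentity y ∈ C_{O_p(L)}(Q). Then [Q, C_H(O_p(L))] ≤ Q ∩ O_p(L), C_H(O_p(L)) is a p-group, and L has characteristic p. -/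
theorem result {H : Type*} [Group H] [Finite H] {p : ℕ} [Fact p.Prime] (Q : Subgroup H) (hQp : IsPGroup p ↥Q) (hQ1 : Q ≠ ⊥) (hwc : Cfsg.IsWeaklyClosedSubgroup p Q) (hCQ : Subgroup.centralizer ((Q : Subgroup H) : Set H) ≤ Q) (L : Subgroup H) (hQL : Q ≤ L) (hyp : Subgroup.centralizer (Cfsg.pCore p H : Set H) ≤ Cfsg.pCore p H ∨ ∃ y : H, y ≠ 1 ∧ y ∈ (Cfsg.pCoreOf p L) ⊓ Subgroup.centralizer ((Q : Subgroup H) : Set H) ∧ Subgroup.centralizer (Cfsg.pCore p ↥(Subgroup.centralizer ({y} : Set H)) : Set ↥(Subgroup.centralizer ({y} : Set H))) ≤ Cfsg.pCore p ↥(Subgroup.centralizer ({y} : Set H))) : ⁅Q, Subgroup.centralizer (((Cfsg.pCoreOf p L) : Subgroup H) : Set H)⁆ ≤ Q ⊓ (Cfsg.pCoreOf p L) ∧ IsPGroup p ↥(Subgroup.centralizer (((Cfsg.pCoreOf p L) : Subgroup H) : Set H)) ∧ Subgroup.centralizer (Cfsg.pCore p ↥L : Set ↥L) ≤ Cfsg.pCore p ↥L := by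
  have key : ∀ K : Subgroup H, CharPIn p K → Q ≤ K →
      Subgroup.centralizer ((pCoreIn p L ⊓ K : Subgroup H) : Set H) ≤ K →
      ⁅Q, Subgroup.centralizer (((Cfsg.pCoreOf p L) : Subgroup H) : Set H)⁆ ≤ Q ⊓ (Cfsg.pCoreOf p L) ∧
      IsPGroup p ↥(Subgroup.centralizer (((Cfsg.pCoreOf p L) : Subgroup H) : Set H)) ∧
      Subgroup.centralizer (Cfsg.pCore p ↥L : Set ↥L) ≤ Cfsg.pCore p ↥L := by
    intro K hK hQK hKR
    obtain ⟨h1, h2, h3⟩ := wc_charP_main hwc hCQ hK hQK hQL hKR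
    exact ⟨h1, h2, (charPIn_iff p L).mp h3⟩
  rcases hyp with hA | ⟨y, hy1, hy, hychar⟩
  · apply key ⊤ ?_ le_top le_top
    have hn : (Cfsg.pCore p H).Normal := pCore_normal p H
    have h1 : Cfsg.pCore p H ≤ pCoreIn p (⊤ : Subgroup H) := by
      apply le_pCoreIn le_top (pCore_isPGroup p H)
      rw [Subgroup.normalizer_eq_top]
    intro z hz
    have hz' : z ∈ Subgroup.centralizer (Cfsg.pCore p H : Set H) :=
      Subgroup.centralizer_le (by exact_mod_cast h1) (Subgroup.mem_inf.mp hz).2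
    exact h1 (hA hz')
  · obtain ⟨hyR, hyQ⟩ := Subgroup.mem_inf.mp hy
    apply key (Subgroup.centralizer ({y} : Set H)) ((charPIn_iff p _).mpr hychar)
    · intro q hq
      rw [Subgroup.mem_centralizer_singleton_iff]
      exact (Subgroup.mem_centralizer_iff.mp hyQ q hq)
    · apply Subgroup.centralizer_le
      rw [Set.singleton_subset_iff]
      refine Subgroup.mem_inf.mpr ⟨hyR, ?_⟩
      rw [Subgroup.mem_centralizer_singleton_iff]

end Cfsg.Agent.S2842
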