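import Cfsg.Statements.S2843
import Cfsg.Agent.Lib.Helper7.Large2
import Cfsg.Agent.Lib.Helper1.Coprime

set_option autoImplicit false
open Cfsg

namespace Cfsg.Agent.S2843

open Cfsg.Agent.Lib.Helper7
open scoped commutatorElement Pointwise

/-- Let Q be a nontrivial large p-subgroup of the finite group H, Q ≤ L ≤ H, and Y a nontrivial p-subgroup of H normalized by L. Let L° be the weak closure of Q in L (generated by the conjugates of Q inside L). Then L° equals the weak closure of Q in L·C_H(Y), and [L°, C_H(Y)] ≤ O_p(L°); in particular C_H(Y) normalizes L°. -/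
theorem result {H : Type*} [Group H] [Finite H] {p : ℕ} [Fact p.Prime] (Q : Subgroup H) (hQp : IsPGroup p ↥Q) (hQ1 : Q ≠ ⊥) (hL : Cfsg.IsLarge Q) (L : Subgroup H) (hQL : Q ≤ L) (Y : Subgroup H) (hYp : IsPGroup p ↥Y) (hY1 : Y ≠ ⊥) (hLY : L ≤ Subgroup.normalizer ((Y : Subgroup H) : Set H)) : Cfsg.weakClosure Q L = Cfsg.weakClosure Q (L ⊔ Subgroup.centralizer ((Y : Subgroup H) : Set H)) ∧ ⁅Cfsg.weakClosure Q L, Subgroup.centralizer ((Y : Subgroup H) : Set H)⁆ ≤ (Cfsg.pCoreOf p (Cfsg.weakClosure Q L)) ∧ Subgroup.centralizer ((Y : Subgroup H) : Set H) ≤ Subgroup.normalizer (((Cfsg.weakClosure Q L) : Subgroup H) : Set H) := by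
  have hwc := large_wc hQp hQ1 hL
  set C := Subgroup.centralizer (Y : Set H) with hC
  have hLC : L ≤ Subgroup.normalizer (C : Set H) :=
    hLY.trans (normalizer_le_normalizer_centralizer Y)
  have hCQ : C ≤ Subgroup.normalizer (Q : Set H) :=
    large_centralizer_le_normalizer hQp hL hYp hY1 (hQL.trans hLY)
  have hCQl : ∀ l ∈ L, C ≤ Subgroup.normalizer ((Q.map (MulAut.conj l).toMonoidHom : Subgroup H) : Set H) := by
    intro l hl
    rw [normalizer_map_conj]
    have : C.map (MulAut.conj l).toMonoidHom = C := map_conj_eq_of_mem_normalizer (hLC hl)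
    rw [← this]; exact Subgroup.map_mono hCQ
  set Lc := Cfsg.weakClosure Q L with hLcdef
  have hLc : Lc = ⨆ l : ↥L, Q.map (MulAut.conj (l : H)).toMonoidHom := weakClosure_eq_iSup hwc hQL
  have hLcL : Lc ≤ L := weakClosure_le Q L
  have hQlLc : ∀ l : ↥L, Q.map (MulAut.conj (l : H)).toMonoidHom ≤ Lc := by
    intro l; rw [hLc]
    exact le_iSup (fun l : ↥L => Q.map (MulAut.conj (l : H)).toMonoidHom) l
  refine ⟨?_, ?_, ?_⟩
  · rw [hLc, weakClosure_eq_iSup hwc (hQL.trans le_sup_left)]
    apply le_antisymm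
    · apply iSup_le
      intro l
      exact le_iSup (fun k : ↥(L ⊔ C) => Q.map (MulAut.conj (k : H)).toMonoidHom)
        ⟨l, le_sup_left (a := L) l.2⟩
    · apply iSup_le
      rintro ⟨k, hk⟩
      rw [← SetLike.mem_coe, Subgroup.coe_mul_of_left_le_normalizer_right L C hLC, Set.mem_mul] at hk
      obtain ⟨l, hl, c, hc, rfl⟩ := hk
      show Q.map (MulAut.conj (l * c)).toMonoidHom ≤ _
      rw [← map_conj_map_conj, map_conj_eq_of_mem_normalizer (hCQ hc)]
      exact le_iSup (fun l : ↥L => Q.map (MulAut.conj (l : H)).toMonoidHom) ⟨l, hl⟩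
  · show ⁅Lc, C⁆ ≤ pCoreIn p Lc
    have key := commutator_iSup_le_of_le_normalizer
      (fun l : ↥L => Q.map (MulAut.conj (l : H)).toMonoidHom) C (pCoreIn p Lc) ?_ ?_
    · rwa [← hLc] at key
    · intro l
      set Ql := Q.map (MulAut.conj (l : H)).toMonoidHom with hQl
      set Ct := Lc ⊓ C with hCt
      set D := Ql ⊓ C with hD
      have h1 : ⁅Ql, C⁆ ≤ D := by
        refine le_inf (Subgroup.le_normalizer_iff_commutator_le_left.mp (hCQl l l.2)) ?_
        rw [Subgroup.commutator_comm]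
        exact Subgroup.le_normalizer_iff_commutator_le_left.mp (((hQlLc l).trans hLcL).trans hLC)
      have h2 : D ≤ pCoreIn p Ct := by
        apply le_pCoreIn (inf_le_inf (hQlLc l) le_rfl) ((hQp.map _).to_le inf_le_left)
        exact Cfsg.Agent.Lib.Helper1.le_normalizer_inf (inf_le_right.trans (hCQl l l.2))
          (inf_le_right.trans Subgroup.le_normalizer)
      have h3 : pCoreIn p Ct ≤ pCoreIn p Lc := by
        apply le_pCoreIn ((pCoreIn_le p Ct).trans inf_le_left) (pCoreIn_isPGroup p Ct)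
        refine le_trans ?_ (normalizer_le_normalizer_pCoreIn p Ct)
        exact Cfsg.Agent.Lib.Helper1.le_normalizer_inf Subgroup.le_normalizer (hLcL.trans hLC)
      exact h1.trans (h2.trans h3)
    · intro l
      exact (hQlLc l).trans (le_normalizer_pCoreIn p Lc)
  · rw [hLc]
    exact le_normalizer_iSup _ _ (fun l => hCQl l l.2)

end Cfsg.Agent.S2843
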