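import Cfsg.Statements.S2844
import Cfsg.Agent.Lib.Helper7.Large

set_option autoImplicit false
open Cfsg

namespace Cfsg.Agent.S2844

open Cfsg.Agent.Lib.Helper7

theorem key1 {H : Type*} [Group H] [Finite H] {p : ℕ} [Fact p.Prime] (Q : Subgroup H)
    (hQp : IsPGroup p ↥Q) (hQ1 : Q ≠ ⊥) (hL : Cfsg.IsLarge Q) (g : H)
    (hg : g ∉ Subgroup.normalizer (Q : Set H)) :
    Subgroup.centralizer (Q : Set H) ⊓
      Subgroup.centralizer ((Q.map (MulAut.conj g).toMonoidHom : Subgroup H) : Set H) = ⊥ := by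
  by_contra hU
  set Qg := Q.map (MulAut.conj g).toMonoidHom with hQg
  set U := Subgroup.centralizer (Q : Set H) ⊓ Subgroup.centralizer (Qg : Set H) with hUdef
  have hNU : Subgroup.normalizer (U : Set H) ≤ Subgroup.normalizer (Q : Set H) :=
    hL.2 U inf_le_left hU
  have h1 : Qg ≤ Subgroup.normalizer (Q : Set H) := by
    have : Qg ≤ Subgroup.centralizer (U : Set H) :=
      Subgroup.le_centralizer_iff.mp inf_le_right
    exact (this.trans (Subgroup.centralizer_le_normalizer _)).trans hNU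
  have hQgp : IsPGroup p Qg := hQp.map _
  have hP : IsPGroup p (Q ⊔ Qg : Subgroup H) := IsPGroup.to_sup_of_normal_left' hQp hQgp h1
  obtain ⟨S, hS⟩ := hP.exists_le_sylow
  exact hg (large_weakly_closed Q hQ1 hL S (le_sup_left.trans hS) g (le_sup_right.trans hS))

/-- Let Q be a nontrivial large p-subgroup of the finite group H and Q• = O_p(N_H(Q)). Then for every g ∈ H outside N_H(Q): C_H(Q) ∩ C_H(gQg⁻¹) = 1, C_H(Q•) ∩ C_H(gQ•g⁻¹) = 1, Z(Q) ∩ Z(gQg⁻¹) = 1 and Z(Q•) ∩ Z(gQ•g⁻¹) = 1; moreover N_H(Q) = N_H(Q•) and Q• is large in H. -/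
theorem result {H : Type*} [Group H] [Finite H] {p : ℕ} [Fact p.Prime] (Q : Subgroup H) (hQp : IsPGroup p ↥Q) (hQ1 : Q ≠ ⊥) (hL : Cfsg.IsLarge Q) (Qb : Subgroup H) (hQb : Qb = Cfsg.largeBullet p Q) : (∀ g : H, g ∉ Subgroup.normalizer ((Q : Subgroup H) : Set H) → Subgroup.centralizer ((Q : Subgroup H) : Set H) ⊓ Subgroup.centralizer ((((Q : Subgroup H).map (MulAut.conj (g : H)).toMonoidHom) : Subgroup H) : Set H) = ⊥ ∧ Subgroup.centralizer ((Qb : Subgroup H) : Set H) ⊓ Subgroup.centralizer ((((Qb : Subgroup H).map (MulAut.conj (g : H)).toMonoidHom) : Subgroup H) : Set H) = ⊥ ∧ (Q ⊓ Subgroup.centralizer ((Q : Subgroup H) : Set H)) ⊓ (((Q : Subgroup H).map (MulAut.conj (g : H)).toMonoidHom) ⊓ Subgroup.centralizer ((((Q : Subgroup H).map (MulAut.conj (g : H)).toMonoidHom) : Subgroup H) : Set H)) = ⊥ ∧ (Qb ⊓ Subgroup.centralizer ((Qb : Subgroup H) : Set H)) ⊓ (((Qb : Subgroup H).map (MulAut.conj (g : H)).toMonoidHom) ⊓ Subgroup.centralizer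 ((((Qb : Subgroup H).map (MulAut.conj (g : H)).toMonoidHom) : Subgroup H) : Set H)) = ⊥) ∧ Subgroup.normalizer ((Q : Subgroup H) : Set H) = Subgroup.normalizer ((Qb : Subgroup H) : Set H) ∧ Cfsg.IsLarge Qb := by
  have hQbdef : Qb = pCoreIn p (Subgroup.normalizer (Q : Set H)) := hQb
  set K := Subgroup.normalizer (Q : Set H) with hK
  have hQQb : Q ≤ Qb := by
    rw [hQbdef]
    exact le_pCoreIn Subgroup.le_normalizer hQp le_rfl
  have hQbp : IsPGroup p Qb := by rw [hQbdef]; exact pCoreIn_isPGroup p K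
  have hQb1 : Qb ≠ ⊥ := fun h => hQ1 (le_bot_iff.mp (h ▸ hQQb))
  have hCC : Subgroup.centralizer (Qb : Set H) ≤ Subgroup.centralizer (Q : Set H) :=
    Subgroup.centralizer_le (by exact_mod_cast hQQb)
  have hKQb : K ≤ Subgroup.normalizer (Qb : Set H) := by
    rw [hQbdef]; exact le_normalizer_pCoreIn p K
  have hQbK : Subgroup.normalizer (Qb : Set H) ≤ K := by
    have hZ1 : Qb ⊓ Subgroup.centralizer (Qb : Set H) ≠ ⊥ := inf_centralizer_ne_bot Qb hQbp hQb1
    exact (normalizer_le_normalizer_center Qb).trans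
      (hL.2 _ (inf_le_right.trans hCC) hZ1)
  have hNeq : K = Subgroup.normalizer (Qb : Set H) := le_antisymm hKQb hQbK
  refine ⟨?_, hNeq, ?_⟩
  · intro g hg
    have k1 := key1 Q hQp hQ1 hL g hg
    have hmapCC : Subgroup.centralizer ((Qb.map (MulAut.conj g).toMonoidHom : Subgroup H) : Set H)
        ≤ Subgroup.centralizer ((Q.map (MulAut.conj g).toMonoidHom : Subgroup H) : Set H) :=
      Subgroup.centralizer_le (by exact_mod_cast Subgroup.map_mono hQQb)
    refine ⟨k1, ?_, ?_, ?_⟩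
    · exact le_bot_iff.mp (k1 ▸ inf_le_inf hCC hmapCC)
    · exact le_bot_iff.mp (k1 ▸ inf_le_inf inf_le_right inf_le_right)
    · exact le_bot_iff.mp (k1 ▸ inf_le_inf (inf_le_right.trans hCC) (inf_le_right.trans hmapCC))
  · refine ⟨(hCC.trans hL.1).trans hQQb, fun U hU hU1 => ?_⟩
    rw [← hNeq]
    exact hL.2 U (hU.trans hCC) hU1

end Cfsg.Agent.S2844
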