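import Cfsg.Statements.S2845
import Cfsg.Agent.Lib.Helper7.Large3
import Cfsg.Agent.Lib.Helper7.StronglyEmbedded

set_option autoImplicit false
open Cfsg

namespace Cfsg.Agent.S2845

open Cfsg.Agent.Lib.Helper7
open scoped commutatorElement Pointwise

/-- Let Q be a nontrivial large p-subgroup of the finite group H. Then for every subgroup L ≥ Q with O_p(L) ≠ 1, C_H(O_p(L)) is a p-group and L has characteristic p, and either the weak closure L° of Q in L equals Q or C_H(L°) = 1; for every subgroup R of H containing a Sylow p-subgroup of H with O_p(R) ≠ 1, C_H(O_p(R)) ≤ O_p(R); and H has parabolic characteristic p. -/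
theorem result {H : Type*} [Group H] [Finite H] {p : ℕ} [Fact p.Prime] (Q : Subgroup H) (hQp : IsPGroup p ↥Q) (hQ1 : Q ≠ ⊥) (hL : Cfsg.IsLarge Q) : (∀ L : Subgroup H, Q ≤ L → Cfsg.pCore p ↥L ≠ ⊥ → IsPGroup p ↥(Subgroup.centralizer (((Cfsg.pCoreOf p L) : Subgroup H) : Set H)) ∧ Subgroup.centralizer (Cfsg.pCore p ↥L : Set ↥L) ≤ Cfsg.pCore p ↥L ∧ (Cfsg.weakClosure Q L = Q ∨ Subgroup.centralizer (((Cfsg.weakClosure Q L) : Subgroup H) : Set H) = ⊥)) ∧ (∀ R : Subgroup H, Cfsg.IsParabolic p R → Cfsg.pCore p ↥R ≠ ⊥ → Subgroup.centralizer (((Cfsg.pCoreOf p R) : Subgroup H) : Set H) ≤ (Cfsg.pCoreOf p R)) ∧ Cfsg.IsOfParabolicCharacteristic p H := by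
  have hwc := large_wc hQp hQ1 hL
  have part1 : ∀ (Q' : Subgroup H), IsPGroup p Q' → Q' ≠ ⊥ → Cfsg.IsLarge Q' →
      ∀ L : Subgroup H, Q' ≤ L → Cfsg.pCore p ↥L ≠ ⊥ →
      IsPGroup p ↥(Subgroup.centralizer (((Cfsg.pCoreOf p L) : Subgroup H) : Set H)) ∧
        Subgroup.centralizer (Cfsg.pCore p ↥L : Set ↥L) ≤ Cfsg.pCore p ↥L := by
    intro Q' hQ'p hQ'1 hL' L hQL hne
    have hR1 : pCoreIn p L ≠ ⊥ := by
      intro h; apply hne
      unfold pCoreIn at h
      rwa [Subgroup.map_eq_bot_iff_of_injective _ L.subtype_injective] at h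
    have hCp := large_centralizer_pCoreIn_isPGroup hQ'p hQ'1 hL' hQL hR1
    refine ⟨hCp, ?_⟩
    rw [← charPIn_iff]
    apply le_pCoreIn inf_le_left (hCp.to_le inf_le_right)
    exact Cfsg.Agent.Lib.Helper1.le_normalizer_inf Subgroup.le_normalizer
      ((le_normalizer_pCoreIn p L).trans (normalizer_le_normalizer_centralizer _))
  have part2 : ∀ R : Subgroup H, Cfsg.IsParabolic p R → Cfsg.pCore p ↥R ≠ ⊥ →
      Subgroup.centralizer (((Cfsg.pCoreOf p R) : Subgroup H) : Set H) ≤ (Cfsg.pCoreOf p R) := by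
    rintro R ⟨S, hSR⟩ hne
    obtain ⟨T, hQT⟩ := hQp.exists_le_sylow
    obtain ⟨g, hg⟩ := MulAction.exists_smul_eq H T S
    set Q' := Q.map (MulAut.conj g).toMonoidHom with hQ'
    have hQ'S : Q' ≤ (S : Subgroup H) := by
      rw [← hg, sylow_smul_coe_eq_map]
      exact Subgroup.map_mono hQT
    have hQ'1 : Q' ≠ ⊥ := by
      intro h
      rw [hQ', Subgroup.map_eq_bot_iff_of_injective _ (MulAut.conj g).injective] at h
      exact hQ1 h
    have hCp := (part1 Q' (hQp.map _) hQ'1 (large_conj hL g) R (hQ'S.trans hSR) hne).1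
    set C := Subgroup.centralizer (((Cfsg.pCoreOf p R) : Subgroup H) : Set H) with hC
    have hRC : R ≤ Subgroup.normalizer (C : Set H) :=
      (le_normalizer_pCoreIn p R).trans (normalizer_le_normalizer_centralizer _)
    have hCSp : IsPGroup p (C ⊔ (S : Subgroup H) : Subgroup H) :=
      IsPGroup.to_sup_of_normal_left' hCp S.2 (hSR.trans hRC)
    have hCS : C ≤ (S : Subgroup H) := by
      have := sylow_eq_of_le_isPGroup S hCSp le_sup_right
      rw [← this]; exact le_sup_left
    exact le_pCoreIn (hCS.trans hSR) hCp hRC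
  refine ⟨?_, part2, ?_⟩
  · intro L hQL hne
    obtain ⟨h1, h2⟩ := part1 Q hQp hQ1 hL L hQL hne
    refine ⟨h1, h2, ?_⟩
    set Lc := Cfsg.weakClosure Q L with hLcdef
    have hLc : Lc = ⨆ l : ↥L, Q.map (MulAut.conj (l : H)).toMonoidHom := weakClosure_eq_iSup hwc hQL
    have hQLc : Q ≤ Lc := by
      rw [hLc]
      refine le_trans ?_ (le_iSup (fun l : ↥L => Q.map (MulAut.conj (l : H)).toMonoidHom) 1)
      simp only [OneMemClass.coe_one]
      rw [map_conj_one]
    by_cases hU : Subgroup.centralizer ((Lc : Subgroup H) : Set H) = ⊥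
    · right; exact hU
    · left
      have hUQ : Subgroup.centralizer ((Lc : Subgroup H) : Set H) ≤ Subgroup.centralizer (Q : Set H) :=
        Subgroup.centralizer_le (by exact_mod_cast hQLc)
      have h3 := hL.2 _ hUQ hU
      have h4 : Lc ≤ Subgroup.normalizer (Q : Set H) :=
        (Subgroup.le_normalizer.trans (normalizer_le_normalizer_centralizer Lc)).trans h3
      apply le_antisymm _ hQLc
      rw [hLc]
      apply iSup_le
      intro l
      have h5 : Q.map (MulAut.conj (l : H)).toMonoidHom ≤ Lc := by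
        rw [hLc]
        exact le_iSup (fun l : ↥L => Q.map (MulAut.conj (l : H)).toMonoidHom) l
      have hP : IsPGroup p (Q ⊔ Q.map (MulAut.conj (l : H)).toMonoidHom : Subgroup H) :=
        IsPGroup.to_sup_of_normal_left' hQp (hQp.map _) (h5.trans h4)
      exact (wc_eq_of_le_isPGroup hwc hP le_sup_left l le_sup_right).le
  · intro R0 hR0p hR01 hpar
    rw [← charPIn_iff]
    have hne : Cfsg.pCore p ↥(Subgroup.normalizer (R0 : Set H)) ≠ ⊥ := by
      intro h
      have h1 : R0 ≤ pCoreIn p (Subgroup.normalizer (R0 : Set H)) :=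
        le_pCoreIn Subgroup.le_normalizer hR0p le_rfl
      unfold pCoreIn at h1
      rw [h, Subgroup.map_bot] at h1
      exact hR01 (le_bot_iff.mp h1)
    exact inf_le_right.trans (part2 _ hpar hne)

end Cfsg.Agent.S2845
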