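import Cfsg.Statements.S2846
import Cfsg.Agent.Lib.Helper7.FrakM4
import Cfsg.Agent.S2845

set_option autoImplicit false
open Cfsg

namespace Cfsg.Agent.S2846

open Cfsg.Agent.Lib.Helper7

/-- Let Q be a nontrivial large p-subgroup of the finite group H, S a Sylow p-subgroup containing Q, and L a subgroup containing S with O_p(L) ≠ 1 and C_H(O_p(L)) ≤ O_p(L). Then there are a subgroup M containing S having the basic property (M ∈ 𝔐_H, writing Y_X for the largest p-reduced normal subgroup of X and 𝓛_H for the set of subgroups X with O_p(X) ≠ 1 and C_H(O_p(X)) ≤ O_p(X): M ∈ 𝓛_H, M·C_H(Y_M) is the only maximal member of 𝓛_H containing M and its largest p-reduced normal subgroup is again Y_M, C_M(Y_M) is p-closed, and the image of C_M(Y_M) in M/O_p(M) lies in the Frattini subgroup of M/O_p(M)) and a subgroup L* with S ≤ L* ≤ M, O_p(L*) ≠ 1, C_H(O_p(L*)) ≤ O_p(L*), such that L·C_H(Y_L) = L*·C_H(Y_L), the weak closures of Q in L and in L* agree and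 lie in that of M, and Y_L = Y_{L*} ≤ Y_M. If moreover Q is not normal in L, then Q is normal in neither L* nor M. -/
theorem result {H : Type*} [Group H] [Finite H] {p : ℕ} [Fact p.Prime] (Q : Subgroup H) (hQp : IsPGroup p ↥Q) (hQ1 : Q ≠ ⊥) (hLg : Cfsg.IsLarge Q) (S : Sylow p H) (hQS : Q ≤ (S : Subgroup H)) (L : Subgroup H) (hSL : (S : Subgroup H) ≤ L) (hL : L ∈ Cfsg.charPSubgroups p H) : ∃ M Ls : Subgroup H, (S : Subgroup H) ≤ M ∧ Cfsg.IsInFrakM p M ∧ (S : Subgroup H) ≤ Ls ∧ Ls ≤ M ∧ Ls ∈ Cfsg.charPSubgroups p H ∧ L ⊔ Subgroup.centralizer (((Cfsg.largestPReducedOf p L) : Subgroup H) : Set H) = Ls ⊔ Subgroup.centralizer (((Cfsg.largestPReducedOf p L) : Subgroup H) : Set H) ∧ Cfsg.weakClosure Q L = Cfsg.weakClosure Q Ls ∧ Cfsg.weakClosure Q Ls ≤ Cfsg.weakClosure Q M ∧ (Cfsg.largestPReducedOf p L) = (Cfsg.largestPReducedOf p Ls) ∧ (Cfsg.largestPReducedOf p Ls) ≤ (Cfsg.largestPReducedOf p M) ∧ (¬ L ≤ Subgroup.normalizer ((Q : Subgroup H) : Set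 H) → ¬ Ls ≤ Subgroup.normalizer ((Q : Subgroup H) : Set H) ∧ ¬ M ≤ Subgroup.normalizer ((Q : Subgroup H) : Set H)) := by
  have hpar : Cfsg.IsOfParabolicCharacteristic p H := (Cfsg.Agent.S2845.result Q hQp hQ1 hLg).2.2
  have hwc := large_wc hQp hQ1 hLg
  obtain ⟨M, Ls, hSM, hMF, hSLs, hLsM, hLsL, hYeq, hYM, hfac⟩ := exists_frakM hpar S L hSL hL
  have hLc : CharPIn p L := charPIn_of_mem_charPSubgroups hL
  have hSs : IsSylowIn p (S : Subgroup H) L := isSylowIn_of_sylow S hSL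
  have hS1 : (S : Subgroup H) ≠ ⊥ := sylow_ne_bot_of_mem_charPSubgroups S hSL hL
  have hY1 : Cfsg.largestPReducedOf p L ≠ ⊥ := largestPReducedOf_ne_bot hLc hSs hS1
  have hYp : PRedIn p L (Cfsg.largestPReducedOf p L) := pRedIn_largestPReducedOf p L
  have hYLs : PRedIn p Ls (Cfsg.largestPReducedOf p Ls) := pRedIn_largestPReducedOf p Ls
  have hCQ : Subgroup.centralizer (((Cfsg.largestPReducedOf p L) : Subgroup H) : Set H)
      ≤ Subgroup.normalizer (Q : Set H) :=
    large_centralizer_le_normalizer hQp hLg hYp.isPGroup hY1 ((hQS.trans hSL).trans hYp.2.1)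
  have hLC : L ≤ Subgroup.normalizer
      ((Subgroup.centralizer (((Cfsg.largestPReducedOf p L) : Subgroup H) : Set H) : Subgroup H) : Set H) :=
    hYp.2.1.trans (normalizer_le_normalizer_centralizer _)
  have hLsC : Ls ≤ Subgroup.normalizer
      ((Subgroup.centralizer (((Cfsg.largestPReducedOf p L) : Subgroup H) : Set H) : Subgroup H) : Set H) := by
    rw [hYeq]
    exact hYLs.2.1.trans (normalizer_le_normalizer_centralizer _)
  have hLsN : Ls ≤ Subgroup.normalizer (Q : Set H) → L ≤ Subgroup.normalizer (Q : Set H) := by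
    intro h
    have h1 : L ≤ Ls ⊔ Subgroup.centralizer (((Cfsg.largestPReducedOf p L) : Subgroup H) : Set H) :=
      hfac ▸ le_sup_left
    exact h1.trans (sup_le h hCQ)
  refine ⟨M, Ls, hSM, hMF, hSLs, hLsM, hLsL, hfac, ?_, weakClosure_mono Q hLsM, hYeq, ?_, ?_⟩
  · exact weakClosure_eq_of_sup_eq hwc (hQS.trans hSL) (hQS.trans hSLs) hLC hLsC hCQ hfac
  · rw [← hYeq]; exact hYM
  · intro hnL
    exact ⟨fun h => hnL (hLsN h), fun h => hnL (hLsN (hLsM.trans h))⟩


end Cfsg.Agent.S2846
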