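import Cfsg.Statements.S2848
import Cfsg.Agent.Lib.Helper7.FrakM6

set_option autoImplicit false
open Cfsg

namespace Cfsg.Agent.S2848

open Cfsg.Agent.Lib.Helper7

/-- Standing hypotheses: G a finite group, S a Sylow p-subgroup, Q a nontrivial large p-subgroup of G contained in S (C_G(Q) ≤ Q and N_G(U) ≤ N_G(Q) for all nontrivial U ≤ C_G(Q)), and M a subgroup containing S with the basic property (M ∈ 𝔐_G(S)); Y_M denotes the largest p-reduced normal subgroup of M and M† = M·C_G(Y_M). Then O_p(M) is a weakly closed subgroup of M† (for p): it is the only M†-conjugate of itself inside some Sylow p-subgroup of M† containing it. -/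
theorem result {G : Type*} [Group G] [Finite G] {p : ℕ} [Fact p.Prime] (S : Sylow p G) (Q : Subgroup G) (hQp : IsPGroup p ↥Q) (hQ1 : Q ≠ ⊥) (hQS : Q ≤ (S : Subgroup G)) (hQ : Cfsg.IsLarge Q) (M : Subgroup G) (hSM : (S : Subgroup G) ≤ M) (hM : Cfsg.IsInFrakM p M) : Cfsg.IsWeaklyClosedSubgroup p (((Cfsg.pCoreOf p M)).subgroupOf (M ⊔ Subgroup.centralizer (((Cfsg.largestPReducedOf p M) : Subgroup G) : Set G))) := by
  have hMd : (S : Subgroup G) ≤ M ⊔ Subgroup.centralizer (((Cfsg.largestPReducedOf p M) : Subgroup G) : Set G) :=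
    hSM.trans le_sup_left
  have hSs := isSylowIn_of_sylow S hMd
  obtain ⟨T, hT⟩ := hSs.exists_sylow
  have hPS : pCoreIn p M ≤ (S : Subgroup G) := (isSylowIn_of_sylow S hSM).pCoreIn_le
  have hPMd : pCoreIn p M ≤ M ⊔ Subgroup.centralizer (((Cfsg.largestPReducedOf p M) : Subgroup G) : Set G) :=
    (pCoreIn_le p M).trans le_sup_left
  show Cfsg.IsWeaklyClosedSubgroup p ((pCoreIn p M).subgroupOf _)
  generalize hMddef : M ⊔ Subgroup.centralizer (((Cfsg.largestPReducedOf p M) : Subgroup G) : Set G) = Md at *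
  refine ⟨T, ?_, ?_⟩
  · rw [hT]
    intro x hx
    rw [Subgroup.mem_subgroupOf] at hx ⊢
    exact hPS hx
  · intro g hg
    have e1 : (((pCoreIn p M).subgroupOf Md).map (MulAut.conj g).toMonoidHom).map Md.subtype
        = (pCoreIn p M).map (MulAut.conj (g : G)).toMonoidHom := by
      rw [map_subtype_map_conj, Subgroup.subgroupOf_map_subtype, inf_of_le_left hPMd]
    have h1 : (pCoreIn p M).map (MulAut.conj (g : G)).toMonoidHom ≤ (S : Subgroup G) := by
      rw [← e1]
      have := Subgroup.map_mono (f := Md.subtype) hg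
      rw [hT, Subgroup.subgroupOf_map_subtype] at this
      exact this.trans inf_le_left
    have h2 := frakM_pCoreIn_conj_eq S hSM hM S.2 hPS (hMddef ▸ g.2) h1
    apply Subgroup.map_injective Md.subtype_injective
    rw [e1, h2, Subgroup.subgroupOf_map_subtype, inf_of_le_left hPMd]


end Cfsg.Agent.S2848
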