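import Cfsg.Statements.S2849
import Cfsg.Agent.Lib.Helper7.FrakM6
import Cfsg.Agent.S2845

set_option autoImplicit false
open Cfsg

namespace Cfsg.Agent.S2849

open Cfsg.Agent.Lib.Helper7

/-- Standing hypotheses: G a finite group, S a Sylow p-subgroup, Q a nontrivial large p-subgroup of G contained in S (C_G(Q) ≤ Q and N_G(U) ≤ N_G(Q) for all nontrivial U ≤ C_G(Q)), and M a subgroup containing S with the basic property (M ∈ 𝔐_G(S)); Y_M denotes the largest p-reduced normal subgroup of M and M† = M·C_G(Y_M). Suppose Y_M is asymmetric in G. Then for every subgroup R with Y_M ≤ R ≤ M†, the normal closure of Y_M in N_G(R) is elementary abelian. -/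
theorem result {G : Type*} [Group G] [Finite G] {p : ℕ} [Fact p.Prime] (S : Sylow p G) (Q : Subgroup G) (hQp : IsPGroup p ↥Q) (hQ1 : Q ≠ ⊥) (hQS : Q ≤ (S : Subgroup G)) (hQ : Cfsg.IsLarge Q) (M : Subgroup G) (hSM : (S : Subgroup G) ≤ M) (hM : Cfsg.IsInFrakM p M) (hasym : ¬ Cfsg.IsSymmetricIn (Cfsg.largestPReducedOf p M)) (R : Subgroup G) (hYR : (Cfsg.largestPReducedOf p M) ≤ R) (hRM : R ≤ (M ⊔ Subgroup.centralizer (((Cfsg.largestPReducedOf p M) : Subgroup G) : Set G))) : Cfsg.IsElementaryAbelian p ((Subgroup.normalClosure ((((Cfsg.largestPReducedOf p M)).subgroupOf (Subgroup.normalizer ((R : Subgroup G) : Set G)) : Subgroup ↥(Subgroup.normalizer ((R : Subgroup G) : Set G))) : Set ↥(Subgroup.normalizer ((R : Subgroup G) : Set G)))).map (Subgroup.normalizer ((R : Subgroup G) : Set G)).subtype) := by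
  have hG : Cfsg.IsOfParabolicCharacteristic p G := (Cfsg.Agent.S2845.result Q hQp hQ1 hQ).2.2
  have hNY := frakM_normalizer_eq_dagger hG S hSM hM
  have hYpr : PRedIn p M (Cfsg.largestPReducedOf p M) := pRedIn_largestPReducedOf p M
  rw [← hNY] at hRM
  generalize Cfsg.largestPReducedOf p M = Y at *
  have hYN : Y ≤ Subgroup.normalizer (R : Set G) := hYR.trans Subgroup.le_normalizer
  rw [normalClosure_map_subtype _ _ hYN]
  unfold closureIn
  have hconj : ∀ k : ↥(Subgroup.normalizer (R : Set G)),
      R.map (MulAut.conj (k : G)).toMonoidHom = R := fun k => map_conj_eq_of_mem_normalizer k.2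
  have hYk : ∀ k : ↥(Subgroup.normalizer (R : Set G)),
      Y.map (MulAut.conj (k : G)).toMonoidHom ≤ R := fun k =>
    (Subgroup.map_mono hYR).trans (hconj k).le
  have hRk : ∀ k : ↥(Subgroup.normalizer (R : Set G)),
      R ≤ Subgroup.normalizer ((Y.map (MulAut.conj (k : G)).toMonoidHom : Subgroup G) : Set G) := by
    intro k
    rw [normalizer_map_conj]
    exact (hconj k).ge.trans (Subgroup.map_mono hRM)
  apply isElementaryAbelian_iSup
  · intro k
    exact isElementaryAbelian_map_conj hYpr.2.2.1 _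
  · intro i j
    exact comm_of_not_symmetric hasym (i : G) (j : G) ((hYk i).trans (hRk j)) ((hYk j).trans (hRk i))


end Cfsg.Agent.S2849
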