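import Cfsg.Statements.S2851
import Cfsg.Agent.Lib.Helper7.FrakM8
import Cfsg.Agent.S2845

set_option autoImplicit false
open Cfsg

namespace Cfsg.Agent.S2851

open Cfsg.Agent.Lib.Helper7

/-- Standing hypotheses: G a finite group, S a Sylow p-subgroup, Q a nontrivial large p-subgroup of G contained in S, M a subgroup containing S with the basic property (M ∈ 𝔐_G(S)); Y_M the largest p-reduced normal subgroup of M and M† = M·C_G(Y_M). Let F be the preimage in M† of the generalized Fitting subgroup of M†/C_{M†}(Y_M). If Y_M is asymmetric in G and H is a subgroup of characteristic p containing F, then Y_M ≤ Y_H. -/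
theorem result {G : Type*} [Group G] [Finite G] {p : ℕ} [Fact p.Prime] (S : Sylow p G) (Q : Subgroup G) (hQp : IsPGroup p ↥Q) (hQ1 : Q ≠ ⊥) (hQS : Q ≤ (S : Subgroup G)) (hQ : Cfsg.IsLarge Q) (M : Subgroup G) (hSM : (S : Subgroup G) ≤ M) (hM : Cfsg.IsInFrakM p M) (hasym : ¬ Cfsg.IsSymmetricIn (Cfsg.largestPReducedOf p M)) [hn : ((Subgroup.centralizer (((Cfsg.largestPReducedOf p M) : Subgroup G) : Set G)).subgroupOf (M ⊔ Subgroup.centralizer (((Cfsg.largestPReducedOf p M) : Subgroup G) : Set G))).Normal] (F : Subgroup G) (hF : F = ((Cfsg.generalizedFittingSubgroup (↥(M ⊔ Subgroup.centralizer (((Cfsg.largestPReducedOf p M) : Subgroup G) : Set G)) ⧸ (Subgroup.centralizer (((Cfsg.largestPReducedOf p M) : Subgroup G) : Set G)).subgroupOf (M ⊔ Subgroup.centralizer (((Cfsg.largestPReducedOf p M) : Subgroup G) : Set G)))).comap (QuotientGroup.mk' ((Subgroup.centralizer (((Cfsg.largestPReducedOf p M) : Subgroup G) : Set G)).subgroupOf (M ⊔ Subgroup.centralizer (((Cfsg.largestPReducedOf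 p M) : Subgroup G) : Set G))))).map ((M ⊔ Subgroup.centralizer (((Cfsg.largestPReducedOf p M) : Subgroup G) : Set G))).subtype) (H : Subgroup G) (hFH : F ≤ H) (hH : Subgroup.centralizer (Cfsg.pCore p ↥H : Set ↥H) ≤ Cfsg.pCore p ↥H) : (Cfsg.largestPReducedOf p M) ≤ Cfsg.largestPReducedOf p H := by
  have hG : Cfsg.IsOfParabolicCharacteristic p G := (Cfsg.Agent.S2845.result Q hQp hQ1 hQ).2.2
  have hYMd : PRedIn p (M ⊔ Subgroup.centralizer (((Cfsg.largestPReducedOf p M) : Subgroup G) : Set G))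
      (Cfsg.largestPReducedOf p M) := by
    have h := pRedIn_largestPReducedOf p
      (M ⊔ Subgroup.centralizer (((Cfsg.largestPReducedOf p M) : Subgroup G) : Set G))
    rwa [← hM.2.2.2.1] at h
  have hP₀s := frakM_pCoreIn_isSylowIn S hSM hM
  have hFMd : F ≤ M ⊔ Subgroup.centralizer (((Cfsg.largestPReducedOf p M) : Subgroup G) : Set G) := by
    rw [hF]; exact Subgroup.map_subtype_le _
  have hR := pRedIn_of_fstar_le (R := H ⊓ (M ⊔ Subgroup.centralizer
      (((Cfsg.largestPReducedOf p M) : Subgroup G) : Set G))) hYMd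
    (by rw [← hF]; exact le_inf hFH hFMd) inf_le_right
  -- `O_p(M) ≤ F ≤ H`
  have hP₀F : pCoreIn p M ≤ F := by
    intro x hx
    rw [hF]
    have hxMd : x ∈ M ⊔ Subgroup.centralizer (((Cfsg.largestPReducedOf p M) : Subgroup G) : Set G) :=
      le_sup_left (a := M) ((pCoreIn_le p M) hx)
    refine ⟨⟨x, hxMd⟩, ?_, rfl⟩
    rw [SetLike.mem_coe, Subgroup.mem_comap]
    have : (QuotientGroup.mk' ((Subgroup.centralizer (((Cfsg.largestPReducedOf p M) : Subgroup G) : Set G)).subgroupOf
        (M ⊔ Subgroup.centralizer (((Cfsg.largestPReducedOf p M) : Subgroup G) : Set G)))) ⟨x, hxMd⟩ = 1 := by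
      rw [QuotientGroup.mk'_apply, QuotientGroup.eq_one_iff, Subgroup.mem_subgroupOf]
      exact hP₀s.1 hx
    rw [this]; exact Subgroup.one_mem _
  have hP₀H : pCoreIn p M ≤ H := hP₀F.trans hFH
  obtain ⟨TH, -, hTHs, hTHle⟩ := frakM_exists_isSylowIn hG S hSM hM hasym hP₀H
  have hcl := pRedIn_closureIn ((charPIn_iff p H).mpr hH) hTHs hTHle inf_le_left hR
  exact (le_closureIn H _).trans hcl.le_largestPReducedOf


end Cfsg.Agent.S2851
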