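import Cfsg.Statements.S2854
import Cfsg.Agent.Lib.Helper7.FrakM9
import Cfsg.Agent.S2845

set_option autoImplicit false
open Cfsg

namespace Cfsg.Agent.S2854

open Cfsg.Agent.Lib.Helper7

/-- Standing hypotheses: G a finite group, S a Sylow p-subgroup, Q a nontrivial large p-subgroup of G contained in S, M a subgroup containing S with the basic property (M ∈ 𝔐_G(S)); Y_M the largest p-reduced normal subgroup of M and M† = M·C_G(Y_M). Suppose Y_M is asymmetric in G, H ∈ ℌ_G(O_p(M)), and H ≤ N_G(gQg⁻¹) for some g ∈ G. Then gQg⁻¹ ≤ O_p(H·gQg⁻¹) ≤ N_G(O_p(M)) ≤ N_G(Y_M) = M†; H is normal in H·gQg⁻¹ with O^p(H) = O^p(H·gQg⁻¹); and H·gQg⁻¹ is p-irreducible. -/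
theorem result {G : Type*} [Group G] [Finite G] {p : ℕ} [Fact p.Prime] (S : Sylow p G) (Q : Subgroup G) (hQp : IsPGroup p ↥Q) (hQ1 : Q ≠ ⊥) (hQS : Q ≤ (S : Subgroup G)) (hQ : Cfsg.IsLarge Q) (M : Subgroup G) (hSM : (S : Subgroup G) ≤ M) (hM : Cfsg.IsInFrakM p M) (hasym : ¬ Cfsg.IsSymmetricIn (Cfsg.largestPReducedOf p M)) (H : Subgroup G) (hH : Cfsg.IsInFrakH p M H) (g : G) (hHQ : H ≤ Subgroup.normalizer ((((Q : Subgroup G).map (MulAut.conj (g : G)).toMonoidHom) : Subgroup G) : Set G)) : ((Q : Subgroup G).map (MulAut.conj (g : G)).toMonoidHom) ≤ Cfsg.pCoreOf p (H ⊔ ((Q : Subgroup G).map (MulAut.conj (g : G)).toMonoidHom)) ∧ Cfsg.pCoreOf p (H ⊔ ((Q : Subgroup G).map (MulAut.conj (g : G)).toMonoidHom)) ≤ Subgroup.normalizer (((Cfsg.pCoreOf p M) : Subgroup G) : Set G) ∧ Subgroup.normalizer (((Cfsg.pCoreOf p M) : Subgroup G) : Set G) ≤ Subgroup.normalizer (((Cfsg.largestPReducedOf p M) : Subgroup G) : Set G) ∧ Subgroup.normalizer (((Cfsg.largestPReducedOf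 p M) : Subgroup G) : Set G) = (M ⊔ Subgroup.centralizer (((Cfsg.largestPReducedOf p M) : Subgroup G) : Set G)) ∧ (H.subgroupOf (H ⊔ ((Q : Subgroup G).map (MulAut.conj (g : G)).toMonoidHom))).Normal ∧ (Cfsg.pResidual p ↥H).map H.subtype = (Cfsg.pResidual p ↥(H ⊔ ((Q : Subgroup G).map (MulAut.conj (g : G)).toMonoidHom))).map (H ⊔ ((Q : Subgroup G).map (MulAut.conj (g : G)).toMonoidHom)).subtype ∧ Cfsg.IsPIrreducible p ↥(H ⊔ ((Q : Subgroup G).map (MulAut.conj (g : G)).toMonoidHom)) := by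
  have hG : Cfsg.IsOfParabolicCharacteristic p G := (Cfsg.Agent.S2845.result Q hQp hQ1 hQ).2.2
  have hQgp : IsPGroup p ((Q : Subgroup G).map (MulAut.conj (g : G)).toMonoidHom) := hQp.map _
  have hP₀H : pCoreIn p M ≤ H := hH.2.1
  have hYnot : ¬ Cfsg.largestPReducedOf p M ≤ pCoreIn p H := hH.2.2.1
  have hYP₀ : Cfsg.largestPReducedOf p M ≤ pCoreIn p M := (pRedIn_largestPReducedOf p M).le_pCoreIn
  have hNY := frakM_normalizer_eq_dagger hG S hSM hM
  obtain ⟨-, -, -, -, hcl⟩ := frakH_structure hG S hSM hM hasym hH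
  have hNP₀ := (frakM_normalizer_le hG S hSM hM hasym (pCoreIn_isPGroup p M) le_rfl).2
  show _ ≤ pCoreIn p _ ∧ pCoreIn p _ ≤ Subgroup.normalizer ((pCoreIn p M : Subgroup G) : Set G) ∧
    Subgroup.normalizer ((pCoreIn p M : Subgroup G) : Set G) ≤ _ ∧ _
  generalize hQgdef : (Q : Subgroup G).map (MulAut.conj (g : G)).toMonoidHom = Qg at *
  have hHtQ : H ⊔ Qg ≤ Subgroup.normalizer (Qg : Set G) := sup_le hHQ Subgroup.le_normalizer
  have h1 : Qg ≤ pCoreIn p (H ⊔ Qg) := le_pCoreIn le_sup_right hQgp hHtQ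
  have h2 : pCoreIn p (H ⊔ Qg) ≤ Subgroup.normalizer ((pCoreIn p M : Subgroup G) : Set G) :=
    frakM_pCoreIn_le_normalizer hG S hSM hM hasym (hP₀H.trans le_sup_left)
  have hQgP₀ : Qg ≤ Subgroup.normalizer ((pCoreIn p M : Subgroup G) : Set G) := h1.trans h2
  have hHtH : H ⊔ Qg ≤ Subgroup.normalizer (H : Set G) := by
    have e : closureIn (H ⊔ Qg) (pCoreIn p M) = H := by
      apply le_antisymm
      · have := iSup_conj_le_of_le_sup (Q := pCoreIn p M) (A := H ⊔ Qg) (B := H) (C := Qg)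
          le_rfl hHQ hQgP₀
        exact this.trans hcl.le
      · conv_lhs => rw [← hcl]
        unfold closureIn
        apply iSup_le
        intro h
        exact le_iSup (fun a : ↥(H ⊔ Qg) => (pCoreIn p M).map (MulAut.conj (a : G)).toMonoidHom)
          ⟨(h : G), le_sup_left (a := H) h.2⟩
    conv_rhs => rw [← e]
    exact le_normalizer_closureIn (H ⊔ Qg) _
  have h6 : pResidualIn p H = pResidualIn p (H ⊔ Qg) := by
    apply le_antisymm (pResidualIn_mono p le_sup_left)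
    have hle : pResidualIn p (H ⊔ Qg) ≤ H := pResidualIn_sup_le hQgp (le_sup_right.trans hHtH)
    conv_lhs => rw [pResidualIn_eq_closure]
    rw [Subgroup.closure_le]
    rintro x ⟨hx, hc⟩
    exact mem_pResidualIn_of_coprime (hle (mem_pResidualIn_of_coprime hx hc)) hc
  refine ⟨h1, h2, ?_, hNY, ?_, h6, ?_, ?_⟩
  · rw [hNY]; exact hNP₀
  · exact (Subgroup.normal_subgroupOf_iff_le_normalizer le_sup_left).mpr hHtH
  · intro hclosed
    obtain ⟨T, hT, hTn⟩ := pClosedIn_of_isPClosed hclosed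
    have hP₀T : pCoreIn p M ≤ T :=
      hT.le_of_normal hTn (hP₀H.trans le_sup_left) (pCoreIn_isPGroup p M)
    have h3 : T ⊓ H ≤ pCoreIn p H :=
      le_pCoreIn inf_le_right (hT.2.1.to_le inf_le_left)
        (Cfsg.Agent.Lib.Helper1.le_normalizer_inf (le_sup_left.trans hTn) Subgroup.le_normalizer)
    exact hYnot (hYP₀.trans ((le_inf hP₀T hP₀H).trans h3))
  · intro N hNn hNcl
    have hN'le : N.map (H ⊔ Qg).subtype ≤ H ⊔ Qg := Subgroup.map_subtype_le _
    have hsub : (N.map (H ⊔ Qg).subtype).subgroupOf (H ⊔ Qg) = N :=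
      Subgroup.comap_map_eq_self_of_injective (H ⊔ Qg).subtype_injective N
    have hHtN' : H ⊔ Qg ≤ Subgroup.normalizer ((N.map (H ⊔ Qg).subtype : Subgroup G) : Set G) := by
      rw [← Subgroup.normal_subgroupOf_iff_le_normalizer hN'le, hsub]; exact hNn
    by_contra hnot
    have hRN' : ¬ pResidualIn p H ≤ N.map (H ⊔ Qg).subtype := by
      intro h
      apply hnot
      rw [h6] at h
      exact (Subgroup.map_le_map_iff_of_injective (H ⊔ Qg).subtype_injective).mp h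
    obtain ⟨T', hT', hT'n⟩ := pClosedIn_of_sup hQgp hHQ (le_sup_right.trans hHtH)
      (fun N₁ h1 h2 h3 => frakH_pClosedIn_of_not_le hG S hSM hM hasym hH h1 h2 h3)
      hN'le hHtN' hRN'
    apply hNcl
    apply isPClosed_of_normal_sylowIn (G := ↥(H ⊔ Qg)) (Q := T'.subgroupOf (H ⊔ Qg)) (C := N)
    · refine ⟨?_, hT'.2.1.comap_subtype, ?_⟩
      · intro x hx
        rw [Subgroup.mem_subgroupOf] at hx
        obtain ⟨y, hy, hyx⟩ := hT'.1 hx
        have : y = x := Subtype.ext hyx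
        rwa [this] at hy
      · conv in Subgroup.relIndex _ N => rw [← hsub]
        rw [Subgroup.relIndex_subgroupOf hN'le]
        exact hT'.2.2
    · intro x hx
      have hx' : (x : G) ∈ N.map (H ⊔ Qg).subtype := ⟨x, hx, rfl⟩
      have h3 := hT'n hx'
      rw [Subgroup.mem_normalizer_iff] at h3 ⊢
      intro y
      simp only [Subgroup.mem_subgroupOf]
      exact h3 y


end Cfsg.Agent.S2854
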