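import Cfsg.Statements.S2864
import Cfsg.Agent.Lib.Helper7.FrakM10
import Cfsg.Agent.S2845

set_option autoImplicit false
open Cfsg

namespace Cfsg.Agent.S2864

open Cfsg.Agent.Lib.Helper7

/-- Standing hypotheses: G a finite group, S a Sylow p-subgroup, Q a nontrivial large p-subgroup of G contained in S, M a subgroup containing S with the basic property (M ∈ 𝔐_G(S)); Y_M the largest p-reduced normal subgroup of M and M† = M·C_G(Y_M). Let I be a nontrivial normal p-subgroup of M and Y ≤ O_p(M†); let L be a subgroup of G containing Y and A a normal p-subgroup of L with I ≤ A ≤ M. If [Y, A] ≤ [I, A], then Y ≤ O_p(L). -/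
theorem result {G : Type*} [Group G] [Finite G] {p : ℕ} [Fact p.Prime] (S : Sylow p G) (Q : Subgroup G) (hQp : IsPGroup p ↥Q) (hQ1 : Q ≠ ⊥) (hQS : Q ≤ (S : Subgroup G)) (hQ : Cfsg.IsLarge Q) (M : Subgroup G) (hSM : (S : Subgroup G) ≤ M) (hM : Cfsg.IsInFrakM p M) (I : Subgroup G) (hI1 : I ≠ ⊥) (hIp : IsPGroup p ↥I) (hIM : I ≤ M ∧ M ≤ Subgroup.normalizer ((I : Subgroup G) : Set G)) (Y : Subgroup G) (hY : Y ≤ (Cfsg.pCoreOf p (M ⊔ Subgroup.centralizer (((Cfsg.largestPReducedOf p M) : Subgroup G) : Set G)))) (L : Subgroup G) (hYL : Y ≤ L) (A : Subgroup G) (hAp : IsPGroup p ↥A) (hAL : A ≤ L ∧ L ≤ Subgroup.normalizer ((A : Subgroup G) : Set G)) (hIA : I ≤ A) (hAM : A ≤ M) (hc : ⁅Y, A⁆ ≤ ⁅I, A⁆) : Y ≤ (Cfsg.pCoreOf p L) := by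
  have hG : Cfsg.IsOfParabolicCharacteristic p G := (Cfsg.Agent.S2845.result Q hQp hQ1 hQ).2.2
  have hNI : Subgroup.normalizer (I : Set G) ∈ Cfsg.charPSubgroups p G := by
    apply mem_charPSubgroups_of_parabolic hG S (hSM.trans hIM.2)
    intro h
    have h1 : I ≤ pCoreIn p (Subgroup.normalizer (I : Set G)) :=
      le_pCoreIn Subgroup.le_normalizer hIp le_rfl
    rw [h, le_bot_iff] at h1
    exact hI1 h1
  have hNIMd := frakM_le_dagger hM hNI hIM.2
  have hcomm : ⁅Y, A⁆ ≤ ⁅A, A⁆ := hc.trans (Subgroup.commutator_mono hIA le_rfl)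
  have hEMd : L ⊓ Subgroup.centralizer (A : Set G)
      ≤ M ⊔ Subgroup.centralizer (((Cfsg.largestPReducedOf p M) : Subgroup G) : Set G) :=
    inf_le_right.trans ((Subgroup.centralizer_le (SetLike.coe_subset_coe.mpr hIA)).trans
      ((Subgroup.centralizer_le_normalizer _).trans hNIMd))
  exact le_pCoreIn_of_commutator_le hAp hAL.2 hYL hcomm hEMd (pCoreIn_isPGroup p _)
    (le_normalizer_pCoreIn p _) hY


end Cfsg.Agent.S2864
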