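import Cfsg.Statements.S2872
import Mathlib
import Cfsg.Agent.Lib.Helper8.TransferInv
import Cfsg.Agent.Lib.Helper7.SylowAux
import Cfsg.Agent.Lib.Helper1.FrattiniP

set_option autoImplicit false
open Cfsg

namespace Cfsg.Agent.S2872

open Helper8.TransferInv in
/-- Core: a maximal subgroup `M` of the Sylow 2-subgroup `S`, `z ∈ Z(S)` an involution outside `M`,
fixed by `N_G(S)`: then the transfer `G → S/M` does not kill `z`. -/
theorem exists_index_two {G : Type*} [Group G] [Finite G] (S : Sylow 2 G)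
    (M : Subgroup ↥(S : Subgroup G)) [M.Normal]
    (hidx : Nat.card (↥(S : Subgroup G) ⧸ M) = 2)
    (z : G) (hzS : z ∈ (S : Subgroup G)) (hzC : ∀ s ∈ (S : Subgroup G), s * z = z * s)
    (hzz : z * z = 1) (hzM : (⟨z, hzS⟩ : ↥(S : Subgroup G)) ∉ M)
    (hact : ∀ g ∈ Subgroup.normalizer ((S : Subgroup G) : Set G), g * z * g⁻¹ = z) :
    ∃ K : Subgroup G, K.Normal ∧ K.index = 2 ∧ z ∉ K := by
  classical
  haveI : IsCyclic (↥(S : Subgroup G) ⧸ M) := isCyclic_of_prime_card (p := 2) hidx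
  letI : CommGroup (↥(S : Subgroup G) ⧸ M) := IsCyclic.commGroup
  set ϕ : ↥(S : Subgroup G) →* (↥(S : Subgroup G) ⧸ M) := QuotientGroup.mk' M with hϕ
  have hker : ∀ d (hd : d ∈ (S : Subgroup G)), ϕ ⟨d, hd⟩ = 1 ↔ (⟨d, hd⟩ : ↥(S : Subgroup G)) ∈ M := by
    intro d hd
    rw [hϕ, QuotientGroup.mk'_apply, QuotientGroup.eq_one_iff]
  set a := ϕ ⟨z, hzS⟩ with ha
  have ha1 : a ≠ 1 := fun h => hzM ((hker z hzS).1 h)
  have hsq : ∀ b : ↥(S : Subgroup G) ⧸ M, b * b = 1 := by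
    intro b
    have := pow_card_eq_one' (G := ↥(S : Subgroup G) ⧸ M) (x := b)
    rw [hidx, pow_two] at this
    exact this
  have hfac : ∀ x : G, ext1 ϕ (x⁻¹ * z * x) = 1 ∨ ext1 ϕ (x⁻¹ * z * x) = a := by
    intro x
    exact eq_one_or_eq_of_mul_self (hsq a) ha1 (hsq _)
  have hV := transfer_eq_pow_card ϕ z hzz a hfac
  -- invariance
  have hD : ∀ h ∈ (S : Subgroup G), ∀ d, h⁻¹ * d * h ∈ {d : G | ext1 ϕ d ≠ 1} ↔
      d ∈ {d : G | ext1 ϕ d ≠ 1} := by
    intro h hh d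
    show ext1 ϕ (h⁻¹ * d * h) ≠ 1 ↔ ext1 ϕ d ≠ 1
    by_cases hd : d ∈ (S : Subgroup G)
    · have h1 : ext1 ϕ (h⁻¹ * d * h) = ext1 ϕ d := by
        rw [ext1_mul ϕ (mul_mem (inv_mem hh) hd) hh, ext1_mul ϕ (inv_mem hh) hd,
          mul_comm (ext1 ϕ h⁻¹), mul_assoc, ← ext1_mul ϕ (inv_mem hh) hh, inv_mul_cancel, ext1_one,
          mul_one]
      rw [h1]
    · have h2 : h⁻¹ * d * h ∉ (S : Subgroup G) := by
        intro h3
        apply hd
        have := mul_mem (mul_mem hh h3) (inv_mem hh)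
        have e : h * (h⁻¹ * d * h) * h⁻¹ = d := by group
        rwa [e] at this
      rw [ext1_of_not_mem ϕ hd, ext1_of_not_mem ϕ h2]
  have hmod := card_conj_mem_modEq (H := (S : Subgroup G)) (p := 2)
    {d : G | ext1 ϕ d ≠ 1} hD z (S : Subgroup G) S.2 hzC
  have hmod2 := card_conj_mem_modEq (H := (S : Subgroup G)) (p := 2) Set.univ
    (fun _ _ _ => Iff.rfl) z (S : Subgroup G) S.2 hzC
  have hodd : ¬ 2 ∣ Nat.card (G ⧸ (S : Subgroup G)) := S.not_dvd_index
  have hA : Nat.card {q : G ⧸ (S : Subgroup G) // q.out⁻¹ * z * q.out ∈ (Set.univ : Set G)} =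
      Nat.card (G ⧸ (S : Subgroup G)) := by
    apply Nat.card_congr
    exact Equiv.subtypeUnivEquiv (fun _ => Set.mem_univ _)
  have hB : Nat.card {q : G ⧸ (S : Subgroup G) // q.out⁻¹ * z * q.out ∈ (Set.univ : Set G) ∧
      ∀ r ∈ (S : Subgroup G), r • q = q} =
      Nat.card {q : G ⧸ (S : Subgroup G) // q.out⁻¹ * z * q.out ∈ {d : G | ext1 ϕ d ≠ 1} ∧
      ∀ r ∈ (S : Subgroup G), r • q = q} := by
    apply Nat.card_congr
    apply Equiv.subtypeEquivRight
    intro q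
    constructor
    · rintro ⟨_, h⟩
      refine ⟨?_, h⟩
      have hn : q.out⁻¹ ∈ Subgroup.normalizer ((S : Subgroup G) : Set G) := by
        apply Cfsg.Agent.Lib.Helper7.mem_normalizer_of_map_conj_le
        rintro _ ⟨r, hr, rfl⟩
        show q.out⁻¹ * r * q.out⁻¹⁻¹ ∈ (S : Subgroup G)
        rw [inv_inv]
        exact (out_inv_mul_mem_iff r q).2 (h r hr)
      have := hact _ hn
      rw [inv_inv] at this
      show ext1 ϕ (q.out⁻¹ * z * q.out) ≠ 1
      rw [this, ext1_of_mem ϕ hzS]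
      exact ha1
    · rintro ⟨_, h⟩
      exact ⟨Set.mem_univ _, h⟩
  rw [hA, hB] at hmod2
  have hkodd : ¬ 2 ∣ Nat.card {q : G ⧸ (S : Subgroup G) // ext1 ϕ (q.out⁻¹ * z * q.out) ≠ 1} := by
    intro h
    apply hodd
    exact Nat.modEq_zero_iff_dvd.1 (hmod2.trans (hmod.symm.trans (Nat.modEq_zero_iff_dvd.2 h)))
  have hVne : MonoidHom.transfer ϕ z ≠ 1 := by
    rw [hV]
    intro h1
    have h2 : orderOf a = 2 := orderOf_eq_prime (by rw [pow_two]; exact hsq a) ha1
    have h3 := orderOf_dvd_of_pow_eq_one h1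
    rw [h2] at h3
    exact hkodd h3
  refine ⟨(MonoidHom.transfer ϕ).ker, inferInstance, ?_, fun h => hVne ((MonoidHom.mem_ker).1 h)⟩
  rw [Subgroup.index_ker]
  have h1 : Nat.card ↥(MonoidHom.transfer ϕ).range ∣ 2 := by
    have := Subgroup.card_subgroup_dvd_card (MonoidHom.transfer ϕ).range
    rwa [hidx] at this
  have h2 : Nat.card ↥(MonoidHom.transfer ϕ).range ≠ 1 := by
    intro h
    rw [Subgroup.card_eq_one] at h
    apply hVne
    have : MonoidHom.transfer ϕ z ∈ (MonoidHom.transfer ϕ).range := ⟨z, rfl⟩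
    rw [h, Subgroup.mem_bot] at this
    exact this
  rcases (Nat.dvd_prime Nat.prime_two).1 h1 with h | h
  · exact absurd h h2
  · exact h

/-- Let S be a Sylow 2-subgroup of the finite group G. Then G has a proper normal subgroup of 2-power index (O²(G) ≠ G), or Ω₁(Z(S)) is contained in the Frattini subgroup of S, or N_G(S) acts nontrivially on Ω₁(Z(S)) by conjugation. -/
theorem result {G : Type*} [Group G] [Finite G] (S : Sylow 2 G) : Cfsg.pResidual 2 G ≠ ⊤ ∨ Cfsg.omegaOne 2 ((S : Subgroup G) ⊓ Subgroup.centralizer ((S : Subgroup G) : Set G)) ≤ (frattini ↥(S : Subgroup G)).map (S : Subgroup G).subtype ∨ ∃ g ∈ Subgroup.normalizer ((S : Subgroup G) : Set G), ∃ z ∈ Cfsg.omegaOne 2 ((S : Subgroup G) ⊓ Subgroup.centralizer ((S : Subgroup G) : Set G)), g * z * g⁻¹ ≠ z := by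
  classical
  by_contra hcon
  push Not at hcon
  obtain ⟨hres, hnot, hact⟩ := hcon
  have hex : ∃ z, z ∈ (S : Subgroup G) ⊓ Subgroup.centralizer ((S : Subgroup G) : Set G) ∧
      z ^ 2 = 1 ∧ z ∉ (frattini ↥(S : Subgroup G)).map (S : Subgroup G).subtype := by
    by_contra h
    push Not at h
    apply hnot
    unfold Cfsg.omegaOne
    rw [Subgroup.closure_le]
    rintro z ⟨hz1, hz2⟩
    exact h z hz1 hz2
  obtain ⟨z, hzZ, hz2, hzΦ⟩ := hex
  have hzS : z ∈ (S : Subgroup G) := hzZ.1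
  have hzΦ' : (⟨z, hzS⟩ : ↥(S : Subgroup G)) ∉ frattini ↥(S : Subgroup G) := fun h => hzΦ ⟨_, h, rfl⟩
  unfold frattini Order.radical at hzΦ'
  simp only [Subgroup.mem_iInf] at hzΦ'
  push Not at hzΦ'
  obtain ⟨M, hM, hzM⟩ := hzΦ'
  have hM : IsCoatom M := hM
  haveI : M.Normal := Cfsg.Agent.Lib.Helper1.normal_of_isCoatom_of_isPGroup 2 S.2 M hM
  have hidx : M.index = 2 := Cfsg.Agent.Lib.Helper1.index_eq_prime_of_isCoatom 2 S.2 M hM
  have hzC : ∀ s ∈ (S : Subgroup G), s * z = z * s := by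
    intro s hs
    have := Subgroup.mem_centralizer_iff.1 hzZ.2
    exact this s hs
  obtain ⟨K, hKn, hKi, hzK⟩ := exists_index_two S M (by rw [← Subgroup.index_eq_card]; exact hidx)
    z hzS hzC (by rw [← pow_two]; exact hz2) hzM (by
      intro g hg
      exact hact g hg z (Subgroup.subset_closure ⟨hzZ, hz2⟩))
  apply hzK
  have hle : Cfsg.pResidual 2 G ≤ K := by
    unfold Cfsg.pResidual
    rw [Subgroup.closure_le]
    intro g hg
    have hg' : Nat.Coprime (orderOf g) 2 := hg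
    have h1 : g ^ 2 ∈ K := by
      have := Subgroup.pow_index_mem K g
      rwa [hKi] at this
    have h2 : g ^ orderOf g ∈ K := by rw [pow_orderOf_eq_one]; exact K.one_mem
    have h3 : ((g : G) : G ⧸ K) ^ 1 = 1 := by
      rw [← Nat.Coprime.gcd_eq_one hg']
      refine pow_gcd_eq_one.2 ⟨?_, ?_⟩
      · rw [← QuotientGroup.mk_pow, QuotientGroup.eq_one_iff]; exact h2
      · rw [← QuotientGroup.mk_pow, QuotientGroup.eq_one_iff]; exact h1
    rw [pow_one, QuotientGroup.eq_one_iff] at h3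
    exact h3
  apply hle
  rw [hres]
  exact Subgroup.mem_top z

end Cfsg.Agent.S2872
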