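import Cfsg.Statements.S2873
import Mathlib
import Cfsg.Agent.Lib.Helper7.CharP5
import Cfsg.Agent.Lib.Helper7.ProdSet
import Cfsg.Agent.Lib.Helper7.PCore

set_option autoImplicit false
open Cfsg

namespace Cfsg.Agent.S2873

section Dih

open DihedralGroup

variable {q : ℕ} [Fact q.Prime]

theorem two_ne_zero_zmod (hq : q ≠ 2) : (2 : ZMod q) ≠ 0 := by
  intro h
  have h1 : ((2 : ℕ) : ZMod q) = 0 := by exact_mod_cast h
  rw [ZMod.natCast_eq_zero_iff] at h1
  exact hq ((Nat.prime_dvd_prime_iff_eq (Fact.out : q.Prime) Nat.prime_two).1 h1)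

theorem eq_sr_of_orderOf_two (hq : q ≠ 2) {x : DihedralGroup q} (hx : orderOf x = 2) :
    ∃ i, x = sr i := by
  rcases x with i | i
  · exfalso
    have h1 : (r i : DihedralGroup q) ^ 2 = 1 := by rw [← hx]; exact pow_orderOf_eq_one _
    rw [pow_two, r_mul_r, one_def] at h1
    have h2 : i + i = 0 := by injection h1
    have h3 : (2 : ZMod q) * i = 0 := by rw [two_mul]; exact h2
    rcases mul_eq_zero.1 h3 with h4 | h4
    · exact two_ne_zero_zmod hq h4
    · rw [h4, ← one_def, orderOf_one] at hx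
      omega
  · exact ⟨i, rfl⟩

theorem sr_conj (hq : q ≠ 2) (i j : ZMod q) :
    ∃ n : DihedralGroup q, n * sr i * n⁻¹ = sr j := by
  refine ⟨r ((i - j) * (2 : ZMod q)⁻¹), ?_⟩
  rw [r_mul_sr, inv_r, sr_mul_r]
  congr 1
  have h2 := two_ne_zero_zmod hq
  field_simp
  ring

theorem r_pow (t : ZMod q) (k : ℕ) : (r t : DihedralGroup q) ^ k = r ((k : ZMod q) * t) := by
  induction k with
  | zero => rw [pow_zero, Nat.cast_zero, zero_mul, one_def]
  | succ k ih => rw [pow_succ, ih, r_mul_r]; congr 1; push_cast; ring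

theorem orderOf_r_of_ne_zero {t : ZMod q} (ht : t ≠ 0) : orderOf (r t : DihedralGroup q) = q := by
  apply orderOf_eq_prime
  · rw [r_pow, ZMod.natCast_self, zero_mul, one_def]
  · intro h
    rw [one_def] at h
    injection h with h
    exact ht h

end Dih

section Setup

open DihedralGroup
open scoped Pointwise

variable {G : Type*} [Group G] [Finite G] {q : ℕ} [Fact q.Prime] (hq : q ≠ 2)
  (Q : Subgroup G) [Q.Normal] (hQ2 : IsPGroup 2 Q) (π : G →* DihedralGroup q)
  (hπs : Function.Surjective π) (hker : π.ker = Q) (R : Sylow q G)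
  (hC : Q ⊓ Subgroup.centralizer ((R : Subgroup G) : Set G) = ⊥)

include hπs hker in
theorem card_G : Nat.card G = Nat.card Q * (2 * q) := by
  have e := QuotientGroup.quotientKerEquivOfSurjective π hπs
  have h1 := Subgroup.card_eq_card_quotient_mul_card_subgroup π.ker
  rw [Nat.card_congr e.toEquiv, DihedralGroup.nat_card, hker] at h1
  rw [h1, mul_comm]

include hq hQ2 hπs hker in
theorem card_R : Nat.card (R : Subgroup G) = q := by
  have hqp : q.Prime := Fact.out
  rw [R.card_eq_multiplicity, card_G Q π hπs hker]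
  obtain ⟨k, hk⟩ := IsPGroup.iff_card.1 hQ2
  rw [hk]
  have h1 : (2 ^ k * (2 * q)).factorization q = 1 := by
    have e : 2 ^ k * (2 * q) = 2 ^ (k + 1) * q := by ring
    rw [e, Nat.factorization_mul (by positivity) hqp.ne_zero, Nat.Prime.factorization_pow Nat.prime_two,
      hqp.factorization]
    simp only [Finsupp.coe_add, Pi.add_apply, Finsupp.single_eq_same]
    rw [Finsupp.single_eq_of_ne (by exact hq)]
  rw [h1, pow_one]

include hker in
theorem mem_Q_iff (g : G) : g ∈ Q ↔ π g = 1 := by rw [← hker, MonoidHom.mem_ker]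

include hq hQ2 hπs hker in
/-- Elements of `R` map to rotations, nontrivially unless trivial. -/
theorem pi_R {y : G} (hy : y ∈ (R : Subgroup G)) : ∃ t : ZMod q, π y = r t ∧ (y ≠ 1 → t ≠ 0) := by
  have hqp : q.Prime := Fact.out
  have hcard := card_R hq Q hQ2 π hπs hker R
  have hyq : y ^ q = 1 := by
    have h1 : (⟨y, hy⟩ : (R : Subgroup G)) ^ q = 1 := by
      have h0 : (⟨y, hy⟩ : (R : Subgroup G)) ^ Nat.card (R : Subgroup G) = 1 := pow_card_eq_one'
      rwa [hcard] at h0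
    exact congrArg Subtype.val h1
  have hπq : (π y) ^ q = 1 := by rw [← map_pow, hyq, map_one]
  rcases hπy : π y with t | t
  · refine ⟨t, rfl, ?_⟩
    intro hy1 ht
    rw [ht, ← one_def] at hπy
    have hyQ : y ∈ Q := (mem_Q_iff Q π hker y).2 hπy
    obtain ⟨k, hk⟩ := hQ2 ⟨y, hyQ⟩
    have h2 : y ^ 2 ^ k = 1 := congrArg Subtype.val hk
    have h3 : orderOf y ∣ Nat.gcd q (2 ^ k) :=
      Nat.dvd_gcd (orderOf_dvd_of_pow_eq_one hyq) (orderOf_dvd_of_pow_eq_one h2)
    have h4 : Nat.gcd q (2 ^ k) = 1 := by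
      apply Nat.Coprime.pow_right
      exact (Nat.coprime_primes hqp Nat.prime_two).2 hq
    rw [h4, Nat.dvd_one, orderOf_eq_one_iff] at h3
    exact hy1 h3
  · exfalso
    rw [hπy] at hπq
    have h1 : orderOf (sr t : DihedralGroup q) ∣ q := orderOf_dvd_of_pow_eq_one hπq
    rw [orderOf_sr] at h1
    exact hq ((Nat.prime_dvd_prime_iff_eq Nat.prime_two hqp).1 h1).symm

include hq hQ2 hπs hker in
theorem exists_R_gen : ∃ y ∈ (R : Subgroup G), ∃ t : ZMod q, π y = r t ∧ t ≠ 0 := by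
  have hqp : q.Prime := Fact.out
  have hcard := card_R hq Q hQ2 π hπs hker R
  have hne : (R : Subgroup G) ≠ ⊥ := by
    intro h0
    rw [h0, Subgroup.card_bot] at hcard
    exact hqp.one_lt.ne hcard
  obtain ⟨y, hy1⟩ := Subgroup.ne_bot_iff_exists_ne_one.1 hne
  obtain ⟨t, ht, ht0⟩ := pi_R hq Q hQ2 π hπs hker R y.2
  exact ⟨y, y.2, t, ht, ht0 (fun h => hy1 (Subtype.ext h))⟩

include hq hQ2 hπs hker hC in
/-- `N_G(R) ∩ Q = 1`. -/
theorem normalizer_inf_Q :
    ∀ x ∈ Subgroup.normalizer ((R : Subgroup G) : Set G), x ∈ Q → x = 1 := by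
  intro x hxN hxQ
  have hmem : x ∈ Q ⊓ Subgroup.centralizer ((R : Subgroup G) : Set G) := by
    refine ⟨hxQ, ?_⟩
    show x ∈ Subgroup.centralizer ((R : Subgroup G) : Set G)
    rw [Subgroup.mem_centralizer_iff]
    intro y hy
    -- the commutator lies in `R ∩ Q`
    have h1 : x * y * x⁻¹ ∈ (R : Subgroup G) := (Subgroup.mem_normalizer_iff.1 hxN y).1 hy
    have h2 : x * y * x⁻¹ * y⁻¹ ∈ (R : Subgroup G) := Subgroup.mul_mem _ h1 (Subgroup.inv_mem _ hy)
    have h3 : x * y * x⁻¹ * y⁻¹ ∈ Q := by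
      have : x * y * x⁻¹ * y⁻¹ = x * (y * x⁻¹ * y⁻¹) := by group
      rw [this]
      exact Q.mul_mem hxQ (Subgroup.Normal.conj_mem inferInstance _ (Q.inv_mem hxQ) y)
    obtain ⟨t, ht, ht0⟩ := pi_R hq Q hQ2 π hπs hker R h2
    have h4 : π (x * y * x⁻¹ * y⁻¹) = 1 := (mem_Q_iff Q π hker _).1 h3
    have h5 : x * y * x⁻¹ * y⁻¹ = 1 := by
      by_contra hne
      have := ht0 hne
      rw [ht, one_def] at h4
      injection h4 with h4
      exact this h4
    have h6 : x * y = y * x := by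
      have := congrArg (fun z => z * y * x) h5
      simpa using this
    exact h6.symm
  rw [hC] at hmem
  exact Subgroup.mem_bot.1 hmem

/-- the rotation subgroup -/
def rot (q : ℕ) : Subgroup (DihedralGroup q) where
  carrier := {x | ∃ i, x = r i}
  one_mem' := ⟨0, one_def⟩
  mul_mem' := by
    rintro a b ⟨i, rfl⟩ ⟨j, rfl⟩
    exact ⟨i + j, r_mul_r i j⟩
  inv_mem' := by
    rintro a ⟨i, rfl⟩
    exact ⟨-i, inv_r i⟩

instance rot_normal (q : ℕ) : (rot q).Normal := by
  constructor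
  rintro n ⟨i, rfl⟩ g
  rcases g with j | j
  · exact ⟨i, by rw [r_mul_r, inv_r, r_mul_r]; congr 1; ring⟩
  · exact ⟨-i, by rw [sr_mul_r, inv_sr, sr_mul_sr]; congr 1; ring⟩

include hq hQ2 hπs hker in
/-- Frattini: `G = Q · N_G(R)`. -/
theorem exists_mul_normalizer (g : G) :
    ∃ u ∈ Q, ∃ n ∈ Subgroup.normalizer ((R : Subgroup G) : Set G), g = u * n := by
  have hRK : (R : Subgroup G) ≤ (rot q).comap π := by
    intro y hy
    obtain ⟨t, ht, -⟩ := pi_R hq Q hQ2 π hπs hker R hy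
    exact ⟨t, ht⟩
  have hfr : Subgroup.normalizer ((R : Subgroup G) : Set G) ⊔ (rot q).comap π = ⊤ :=
    Sylow.normalizer_sup_eq_top' R hRK
  have hK : (rot q).comap π ≤ Q ⊔ (R : Subgroup G) := by
    intro k hk
    obtain ⟨t, ht⟩ := hk
    obtain ⟨y₀, hy₀, t₀, ht₀, ht₀ne⟩ := exists_R_gen hq Q hQ2 π hπs hker R
    have h1 : π (y₀ ^ (t * t₀⁻¹).val) = r t := by
      rw [map_pow, ht₀, r_pow, ZMod.natCast_zmod_val, mul_assoc, inv_mul_cancel₀ ht₀ne, mul_one]
    have h2 : k * (y₀ ^ (t * t₀⁻¹).val)⁻¹ ∈ Q := by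
      rw [mem_Q_iff Q π hker, map_mul, map_inv, h1]
      have : π k = r t := ht
      rw [this, mul_inv_cancel]
    have e : k = (k * (y₀ ^ (t * t₀⁻¹).val)⁻¹) * y₀ ^ (t * t₀⁻¹).val := by group
    rw [e]
    exact Subgroup.mul_mem_sup h2 (Subgroup.pow_mem _ hy₀ _)
  have htop : Q ⊔ Subgroup.normalizer ((R : Subgroup G) : Set G) = ⊤ := by
    rw [eq_top_iff, ← hfr]
    apply sup_le le_sup_right
    exact hK.trans (sup_le le_sup_left (Subgroup.le_normalizer.trans le_sup_right))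
  have hg : g ∈ Q ⊔ Subgroup.normalizer ((R : Subgroup G) : Set G) := htop ▸ Subgroup.mem_top g
  rw [← SetLike.mem_coe, Subgroup.normal_mul, Set.mem_mul] at hg
  obtain ⟨u, hu, n, hn, rfl⟩ := hg
  exact ⟨u, hu, n, hn, rfl⟩

include hq hQ2 hπs hker hC in
theorem pi_injOn_normalizer {n₁ n₂ : G}
    (h1 : n₁ ∈ Subgroup.normalizer ((R : Subgroup G) : Set G))
    (h2 : n₂ ∈ Subgroup.normalizer ((R : Subgroup G) : Set G)) (h : π n₁ = π n₂) : n₁ = n₂ := by
  have h3 : n₁ * n₂⁻¹ ∈ Q := by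
    rw [mem_Q_iff Q π hker, map_mul, map_inv, h, mul_inv_cancel]
  have h4 := normalizer_inf_Q hq Q hQ2 π hπs hker R hC _
    (Subgroup.mul_mem _ h1 (Subgroup.inv_mem _ h2)) h3
  exact mul_inv_eq_one.1 h4

include hq hQ2 hπs hker hC in
/-- `N_G(R) ≃ D_q`. -/
theorem normalizer_equiv :
    Nonempty (↥(Subgroup.normalizer ((R : Subgroup G) : Set G)) ≃* DihedralGroup q) := by
  refine ⟨MulEquiv.ofBijective (π.comp (Subgroup.subtype _)) ⟨?_, ?_⟩⟩
  · intro a b hab
    apply Subtype.ext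
    exact pi_injOn_normalizer hq Q hQ2 π hπs hker R hC a.2 b.2 hab
  · intro d
    obtain ⟨g, rfl⟩ := hπs d
    obtain ⟨u, hu, n, hn, rfl⟩ := exists_mul_normalizer hq Q hQ2 π hπs hker R g
    refine ⟨⟨n, hn⟩, ?_⟩
    show π n = π (u * n)
    rw [map_mul, (mem_Q_iff Q π hker u).1 hu, one_mul]

omit [Finite G] in
theorem mem_normalizer_zpowers_of_conj_mem [Finite G] {x w : G}
    (h : x * w * x⁻¹ ∈ Subgroup.zpowers w) : x ∈ Subgroup.normalizer ((Subgroup.zpowers w : Subgroup G) : Set G) := by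
  rw [Subgroup.mem_normalizer_iff_map_conj_eq]
  have h1 : (Subgroup.zpowers w).map (MulAut.conj x).toMonoidHom ≤ Subgroup.zpowers w := by
    rw [MonoidHom.map_zpowers, Subgroup.zpowers_le]
    exact h
  exact Subgroup.eq_of_le_of_card_ge h1
    (Subgroup.card_map_of_injective (MulAut.conj x).injective).ge

omit [Finite G] [Fact q.Prime] in
theorem conj_mem_normalizer_of_mem_normalizer_map {H : Subgroup G} {u x : G}
    (h : x ∈ Subgroup.normalizer ((H.map (MulAut.conj u).toMonoidHom : Subgroup G) : Set G)) :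
    u⁻¹ * x * u ∈ Subgroup.normalizer (H : Set G) := by
  rw [← Subgroup.map_equiv_normalizer_eq H (MulAut.conj u)] at h
  obtain ⟨n, hn, rfl⟩ := h
  have : u⁻¹ * (MulAut.conj u).toMonoidHom n * u = n := by
    simp only [MulEquiv.coe_toMonoidHom, MulAut.conj_apply]; group
  rw [this]; exact hn

include hq hQ2 hπs hker in
/-- Two involutions with distinct reflection images are conjugated into `N_G(R)` by an element
of `Q`. -/
theorem exists_conj_into_normalizer {b b' : G} (hb : orderOf b = 2) (hb' : orderOf b' = 2)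
    {i j : ZMod q} (hi : π b = sr i) (hj : π b' = sr j) (hij : i ≠ j) :
    ∃ u ∈ Q, u⁻¹ * b * u ∈ Subgroup.normalizer ((R : Subgroup G) : Set G) ∧
      u⁻¹ * b' * u ∈ Subgroup.normalizer ((R : Subgroup G) : Set G) := by
  have hqp : q.Prime := Fact.out
  have hb2 : b * b = 1 := by rw [← pow_two, ← hb, pow_orderOf_eq_one]
  have hb'2 : b' * b' = 1 := by rw [← pow_two, ← hb', pow_orderOf_eq_one]
  have hbinv : b⁻¹ = b := inv_eq_of_mul_eq_one_right hb2
  have hb'inv : b'⁻¹ = b' := inv_eq_of_mul_eq_one_right hb'2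
  set z := b * b' with hz
  have hπz : π z = r (j - i) := by rw [hz, map_mul, hi, hj, sr_mul_sr]
  have hji : j - i ≠ 0 := sub_ne_zero.2 (Ne.symm hij)
  have hdvd : q ∣ orderOf z := by
    have := orderOf_map_dvd π z
    rwa [hπz, orderOf_r_of_ne_zero hji] at this
  obtain ⟨m, hm⟩ := hdvd
  have hm0 : m ≠ 0 := by
    rintro rfl
    rw [mul_zero] at hm
    exact (orderOf_pos z).ne' hm
  set w := z ^ m with hw
  have hwo : orderOf w = q := by
    rw [hw, orderOf_pow_of_dvd hm0 ⟨q, by rw [hm, mul_comm]⟩, hm, Nat.mul_div_cancel _ (Nat.pos_of_ne_zero hm0)]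
  have hbz : b * z * b⁻¹ = z⁻¹ := by
    rw [hz, mul_inv_rev, hbinv, hb'inv, ← mul_assoc, hb2, one_mul]
  have hb'z : b' * z * b'⁻¹ = z⁻¹ := by
    rw [hz, mul_inv_rev, hbinv, hb'inv, mul_assoc, mul_assoc, hb'2, mul_one]
  have hbw : b * w * b⁻¹ ∈ Subgroup.zpowers w := by
    rw [hw, ← conj_pow, hbz, inv_pow]
    exact Subgroup.inv_mem _ (Subgroup.mem_zpowers _)
  have hb'w : b' * w * b'⁻¹ ∈ Subgroup.zpowers w := by
    rw [hw, ← conj_pow, hb'z, inv_pow]
    exact Subgroup.inv_mem _ (Subgroup.mem_zpowers _)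
  have hbN := mem_normalizer_zpowers_of_conj_mem hbw
  have hb'N := mem_normalizer_zpowers_of_conj_mem hb'w
  -- `⟨w⟩` is a Sylow subgroup
  have hcardw : Nat.card (Subgroup.zpowers w) = q := by rw [Nat.card_zpowers, hwo]
  have hwp : IsPGroup q (Subgroup.zpowers w) := IsPGroup.of_card (n := 1) (by rw [hcardw, pow_one])
  obtain ⟨P, hP⟩ := hwp.exists_le_sylow
  have hPeq : Subgroup.zpowers w = (P : Subgroup G) := by
    apply Subgroup.eq_of_le_of_card_ge hP
    rw [hcardw, card_R hq Q hQ2 π hπs hker P]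
  obtain ⟨g, rfl⟩ := MulAction.exists_smul_eq G R P
  obtain ⟨u, hu, n, hn, rfl⟩ := exists_mul_normalizer hq Q hQ2 π hπs hker R g
  have h1 : (u * n) • R = u • R := by
    rw [mul_smul, Sylow.smul_eq_iff_mem_normalizer.2 hn]
  rw [h1] at hPeq
  have h2 : ((u • R : Sylow q G) : Subgroup G) = (R : Subgroup G).map (MulAut.conj u).toMonoidHom := rfl
  rw [h2] at hPeq
  rw [hPeq] at hbN hb'N
  exact ⟨u, hu, conj_mem_normalizer_of_mem_normalizer_map hbN,
    conj_mem_normalizer_of_mem_normalizer_map hb'N⟩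

include hq hker in
theorem pi_of_involution {b : G} (hb : orderOf b = 2) (hbQ : b ∉ Q) : ∃ i, π b = sr i := by
  apply eq_sr_of_orderOf_two hq
  apply orderOf_eq_prime
  · rw [← map_pow, ← hb, pow_orderOf_eq_one, map_one]
  · intro h
    exact hbQ ((mem_Q_iff Q π hker b).2 h)

include hq hQ2 hπs hker hC in
theorem not_mem_Q_of_mem_normalizer {a : G}
    (haN : a ∈ Subgroup.normalizer ((R : Subgroup G) : Set G)) (ha : orderOf a = 2) : a ∉ Q := by
  intro haQ
  have := normalizer_inf_Q hq Q hQ2 π hπs hker R hC a haN haQ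
  rw [this, orderOf_one] at ha
  omega

include hq hQ2 hπs hker in
theorem exists_normalizer_preimage (d : DihedralGroup q) :
    ∃ n ∈ Subgroup.normalizer ((R : Subgroup G) : Set G), π n = d := by
  obtain ⟨g, rfl⟩ := hπs d
  obtain ⟨u, hu, n, hn, rfl⟩ := exists_mul_normalizer hq Q hQ2 π hπs hker R g
  exact ⟨n, hn, by rw [map_mul, (mem_Q_iff Q π hker u).1 hu, one_mul]⟩

include hq hQ2 hπs hker hC in
theorem involutions_conj {a : G} (haN : a ∈ Subgroup.normalizer ((R : Subgroup G) : Set G))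
    (ha : orderOf a = 2) {b : G} (hb : orderOf b = 2) (hbQ : b ∉ Q) :
    ∃ g : G, g * a * g⁻¹ = b := by
  have haQ := not_mem_Q_of_mem_normalizer hq Q hQ2 π hπs hker R hC haN ha
  obtain ⟨i₀, hi₀⟩ := pi_of_involution hq Q π hker ha haQ
  obtain ⟨i, hi⟩ := pi_of_involution hq Q π hker hb hbQ
  obtain ⟨y₀, hy₀, t₀, ht₀, ht₀ne⟩ := exists_R_gen hq Q hQ2 π hπs hker R
  have hb' : orderOf (y₀ * b * y₀⁻¹) = 2 := by
    have := (MulAut.conj y₀).orderOf_eq b
    rw [MulAut.conj_apply] at this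
    rw [this, hb]
  have hj : π (y₀ * b * y₀⁻¹) = sr (i - t₀ - t₀) := by
    rw [map_mul, map_mul, map_inv, ht₀, hi, r_mul_sr, inv_r, sr_mul_r]
    congr 1; ring
  have hij : i ≠ i - t₀ - t₀ := by
    intro h
    have h1 : (2 : ZMod q) * t₀ = 0 := by linear_combination h
    rcases mul_eq_zero.1 h1 with h2 | h2
    · exact two_ne_zero_zmod hq h2
    · exact ht₀ne h2
  obtain ⟨u, hu, hbu, -⟩ := exists_conj_into_normalizer hq Q hQ2 π hπs hker R hb hb' hi hj hij
  obtain ⟨d, hd⟩ := sr_conj hq i₀ i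
  obtain ⟨n, hn, rfl⟩ := exists_normalizer_preimage hq Q hQ2 π hπs hker R d
  have h1 : π (n * a * n⁻¹) = π (u⁻¹ * b * u) := by
    rw [map_mul, map_mul, map_inv, hi₀, hd, map_mul, map_mul, map_inv,
      (mem_Q_iff Q π hker u).1 hu, inv_one, one_mul, mul_one, hi]
  have h2 := pi_injOn_normalizer hq Q hQ2 π hπs hker R hC
    (Subgroup.mul_mem _ (Subgroup.mul_mem _ hn haN) (Subgroup.inv_mem _ hn)) hbu h1
  refine ⟨u * n, ?_⟩
  have : u * n * a * (u * n)⁻¹ = u * (n * a * n⁻¹) * u⁻¹ := by group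
  rw [this, h2]; group

include hq hQ2 hπs hker hC in
theorem card_centralizer_sq {a : G} (haN : a ∈ Subgroup.normalizer ((R : Subgroup G) : Set G))
    (ha : orderOf a = 2) :
    Nat.card ↥(Q ⊓ Subgroup.centralizer ({a} : Set G)) ^ 2 = Nat.card Q := by
  have haQ := not_mem_Q_of_mem_normalizer hq Q hQ2 π hπs hker R hC haN ha
  obtain ⟨i₀, hi₀⟩ := pi_of_involution hq Q π hker ha haQ
  obtain ⟨y₀, hy₀, t₀, ht₀, ht₀ne⟩ := exists_R_gen hq Q hQ2 π hπs hker R
  have hy₀N : y₀ ∈ Subgroup.normalizer ((R : Subgroup G) : Set G) := Subgroup.le_normalizer hy₀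
  set a' := y₀ * a * y₀⁻¹ with ha'def
  have ha'N : a' ∈ Subgroup.normalizer ((R : Subgroup G) : Set G) :=
    Subgroup.mul_mem _ (Subgroup.mul_mem _ hy₀N haN) (Subgroup.inv_mem _ hy₀N)
  have ha' : orderOf a' = 2 := by
    have := (MulAut.conj y₀).orderOf_eq a
    rw [MulAut.conj_apply] at this
    rw [ha'def, this, ha]
  have hj : π a' = sr (i₀ - t₀ - t₀) := by
    rw [ha'def, map_mul, map_mul, map_inv, ht₀, hi₀, r_mul_sr, inv_r, sr_mul_r]
    congr 1; ring
  have h2t : (2 : ZMod q) * t₀ ≠ 0 := mul_ne_zero (two_ne_zero_zmod hq) ht₀ne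
  have hij : i₀ ≠ i₀ - t₀ - t₀ := by
    intro h
    apply h2t
    linear_combination h
  set H := Q ⊓ Subgroup.centralizer ({a} : Set G) with hH
  set H' := Q ⊓ Subgroup.centralizer ({a'} : Set G) with hH'
  -- equal orders
  have hcard : Nat.card H' = Nat.card H := by
    have h1 : H' = H.map (MulAut.conj y₀).toMonoidHom := by
      rw [hH, Subgroup.map_inf _ _ _ (MulAut.conj y₀).injective,
        ← Cfsg.Agent.Lib.Helper7.centralizer_singleton_map_conj, hH']
      congr 1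
      exact ((Subgroup.mem_normalizer_iff_map_conj_eq).1
        (show y₀ ∈ Subgroup.normalizer (Q : Set G) by
          rw [Subgroup.normalizer_eq_top_iff.2 inferInstance]; exact Subgroup.mem_top _)).symm
    rw [h1, Subgroup.card_map_of_injective (MulAut.conj y₀).injective]
  -- trivial intersection
  have hinf : H ⊓ H' = ⊥ := by
    rw [eq_bot_iff]
    rintro x ⟨⟨hxQ, hxa⟩, ⟨-, hxa'⟩⟩
    rw [Subgroup.mem_bot]
    have hxa1 : x * a = a * x := Subgroup.mem_centralizer_singleton_iff.1 hxa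
    have hxa2 : x * a' = a' * x := Subgroup.mem_centralizer_singleton_iff.1 hxa'
    have hxρ : x * (a * a') = (a * a') * x :=
      (Commute.mul_right (show Commute x a from hxa1) (show Commute x a' from hxa2)).eq
    have hρN : a * a' ∈ Subgroup.normalizer ((R : Subgroup G) : Set G) :=
      Subgroup.mul_mem _ haN ha'N
    have hπρ : π (a * a') = r (-((2 : ZMod q) * t₀)) := by
      rw [map_mul, hi₀, hj, sr_mul_sr]; congr 1; ring
    have hmem : x ∈ Q ⊓ Subgroup.centralizer ((R : Subgroup G) : Set G) := by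
      refine ⟨hxQ, ?_⟩
      show x ∈ Subgroup.centralizer ((R : Subgroup G) : Set G)
      rw [Subgroup.mem_centralizer_iff]
      intro y hy
      obtain ⟨t, ht, -⟩ := pi_R hq Q hQ2 π hπs hker R hy
      have hyN : y ∈ Subgroup.normalizer ((R : Subgroup G) : Set G) := Subgroup.le_normalizer hy
      have h3 : π ((a * a') ^ (t * (-((2 : ZMod q) * t₀))⁻¹).val) = π y := by
        rw [map_pow, hπρ, r_pow, ZMod.natCast_zmod_val, mul_assoc,
          inv_mul_cancel₀ (neg_ne_zero.2 h2t), mul_one, ht]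
      have h4 := pi_injOn_normalizer hq Q hQ2 π hπs hker R hC (Subgroup.pow_mem _ hρN _) hyN h3
      rw [← h4]
      exact ((Commute.pow_right (show Commute x (a * a') from hxρ) _).eq).symm
    rw [hC] at hmem
    exact Subgroup.mem_bot.1 hmem
  -- the product is everything
  have hprod : ((H : Set G) * (H' : Set G) : Set G) = (Q : Set G) := by
    apply Set.Subset.antisymm
    · rintro _ ⟨h, hh, h', hh', rfl⟩
      exact Q.mul_mem hh.1 hh'.1
    · intro q₀ hq₀
      have hq₀' : q₀ ∈ Q := hq₀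
      have ha'' : orderOf (q₀ * a' * q₀⁻¹) = 2 := by
        have := (MulAut.conj q₀).orderOf_eq a'
        rw [MulAut.conj_apply] at this
        rw [this, ha']
      have hj' : π (q₀ * a' * q₀⁻¹) = sr (i₀ - t₀ - t₀) := by
        rw [map_mul, map_mul, map_inv, (mem_Q_iff Q π hker q₀).1 hq₀', inv_one, one_mul, mul_one, hj]
      obtain ⟨u, hu, h1, h2⟩ :=
        exists_conj_into_normalizer hq Q hQ2 π hπs hker R ha ha'' hi₀ hj' hij
      have hπu : π u = 1 := (mem_Q_iff Q π hker u).1 hu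
      have e1 : u⁻¹ * a * u = a := by
        apply pi_injOn_normalizer hq Q hQ2 π hπs hker R hC h1 haN
        rw [map_mul, map_mul, map_inv, hπu, inv_one, one_mul, mul_one]
      have e2 : u⁻¹ * (q₀ * a' * q₀⁻¹) * u = a' := by
        apply pi_injOn_normalizer hq Q hQ2 π hπs hker R hC h2 ha'N
        rw [map_mul, map_mul, map_inv, hπu, inv_one, one_mul, mul_one, hj', hj]
      refine ⟨u, ⟨hu, ?_⟩, u⁻¹ * q₀, ⟨Q.mul_mem (Q.inv_mem hu) hq₀', ?_⟩, by group⟩
      · show u ∈ Subgroup.centralizer ({a} : Set G)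
        rw [Subgroup.mem_centralizer_singleton_iff]
        have := congrArg (fun z => u * z) e1
        simp only [← mul_assoc, mul_inv_cancel, one_mul] at this
        exact this.symm
      · show u⁻¹ * q₀ ∈ Subgroup.centralizer ({a'} : Set G)
        rw [Subgroup.mem_centralizer_singleton_iff]
        have h3 : (u⁻¹ * q₀) * a' * (u⁻¹ * q₀)⁻¹ = a' := by
          calc (u⁻¹ * q₀) * a' * (u⁻¹ * q₀)⁻¹ = u⁻¹ * (q₀ * a' * q₀⁻¹) * u := by group
            _ = a' := e2
        have := congrArg (fun z => z * (u⁻¹ * q₀)) h3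
        simp only [inv_mul_cancel_right] at this
        exact this
  have hmain := Cfsg.Agent.Lib.Helper7.card_mul_set_mul_card_inf H H'
  rw [hprod, hinf, Subgroup.card_bot, mul_one, hcard] at hmain
  rw [pow_two, ← hmain]
  rfl

end Setup

/-- Let G be a finite group and r an odd prime such that G ⧸ O₂(G) is dihedral of order 2r, and let R be a Sylow r-subgroup of G with C_{O₂(G)}(R) = 1. Then N_G(R) is dihedral of order 2r; for any involution a of N_G(R), every involution of G outside O₂(G) is conjugate to a; and |C_{O₂(G)}(a)|² = |O₂(G)|. -/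
theorem result {G : Type*} [Group G] [Finite G] {r : ℕ} [Fact r.Prime] (hr : r ≠ 2) [hN : (Cfsg.pCore 2 G).Normal] (hquot : Nonempty (G ⧸ Cfsg.pCore 2 G ≃* DihedralGroup r)) (R : Sylow r G) (hC : Cfsg.pCore 2 G ⊓ Subgroup.centralizer ((R : Subgroup G) : Set G) = ⊥) : Nonempty (↥(Subgroup.normalizer ((R : Subgroup G) : Set G)) ≃* DihedralGroup r) ∧ ∀ a : G, a ∈ Subgroup.normalizer ((R : Subgroup G) : Set G) → orderOf a = 2 → (∀ b : G, orderOf b = 2 → b ∉ Cfsg.pCore 2 G → ∃ g : G, g * a * g⁻¹ = b) ∧ Nat.card ↥(Cfsg.pCore 2 G ⊓ Subgroup.centralizer ({a} : Set G)) ^ 2 = Nat.card ↥(Cfsg.pCore 2 G) := by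
  obtain ⟨e⟩ := hquot
  set Q := Cfsg.pCore 2 G with hQdef
  have hQ2 : IsPGroup 2 Q := Cfsg.Agent.Lib.Helper7.pCore_isPGroup 2 G
  set π : G →* DihedralGroup r := e.toMonoidHom.comp (QuotientGroup.mk' Q) with hπ
  have hπs : Function.Surjective π := e.surjective.comp (QuotientGroup.mk'_surjective Q)
  have hker : π.ker = Q := by
    ext g
    rw [MonoidHom.mem_ker, hπ, MonoidHom.comp_apply]
    constructor
    · intro h
      have h1 : (QuotientGroup.mk' Q) g = 1 := by
        apply e.injective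
        rw [map_one]; exact h
      rwa [QuotientGroup.mk'_apply, QuotientGroup.eq_one_iff] at h1
    · intro h
      have h1 : (QuotientGroup.mk' Q) g = 1 := by
        rwa [QuotientGroup.mk'_apply, QuotientGroup.eq_one_iff]
      rw [h1]; exact map_one _
  refine ⟨normalizer_equiv hr Q hQ2 π hπs hker R hC, ?_⟩
  intro a haN ha
  refine ⟨?_, card_centralizer_sq hr Q hQ2 π hπs hker R hC haN ha⟩
  intro b hb hbQ
  exact involutions_conj hr Q hQ2 π hπs hker R hC haN ha hb hbQ

end Cfsg.Agent.S2873
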