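import Cfsg.Statements.S3772
import Cfsg.Agent.Lib.Helper1.FrattiniP

set_option autoImplicit false
open Cfsg

namespace Cfsg.Agent.S3772

open scoped commutatorElement
open Cfsg.Agent.Lib.Helper1

section setup

variable {G : Type*} [Group G]

open Classical in
/-- the sign of an element: `1` for the identity, `-1` otherwise -/
noncomputable def sgn (w : G) : ℤ := if w = 1 then 1 else -1

theorem sgn_one : sgn (1 : G) = 1 := by simp [sgn]

theorem sgn_eq_one_iff (w : G) : sgn w = 1 ↔ w = 1 := by
  unfold sgn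
  split_ifs with h
  · simp [h]
  · constructor
    · intro h'; norm_num at h'
    · intro h'; exact absurd h' h

theorem sgn_mul_self (w : G) : sgn w * sgn w = 1 := by
  unfold sgn
  split_ifs <;> norm_num

/-- the data: a central subgroup `Φ = {1, z}` containing all squares and commutators -/
structure Setup (Φ : Subgroup G) (z : G) : Prop where
  z_mem : z ∈ Φ
  z_ne : z ≠ 1
  z_sq : z * z = 1
  mem_iff : ∀ w ∈ Φ, w = 1 ∨ w = z
  central : Φ ≤ Subgroup.center G
  sq_mem : ∀ x : G, x ^ 2 ∈ Φ
  comm_mem : ∀ x y : G, ⁅x, y⁆ ∈ Φ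

variable {Φ : Subgroup G} {z : G}

theorem Setup.sgn_mul (h : Setup Φ z) {a b : G} (ha : a ∈ Φ) (hb : b ∈ Φ) :
    sgn (a * b) = sgn a * sgn b := by
  rcases h.mem_iff a ha with rfl | rfl <;> rcases h.mem_iff b hb with rfl | rfl
  · simp [sgn_one]
  · simp [sgn_one]
  · simp [sgn_one]
  · rw [h.z_sq, sgn_one, sgn_mul_self]

/-- `(u y)² = u² y² [y⁻¹, u⁻¹]` -/
theorem Setup.sq_mul (h : Setup Φ z) (u y : G) :
    (u * y) ^ 2 = u ^ 2 * y ^ 2 * ⁅y⁻¹, u⁻¹⁆ := by
  have hc : ⁅y⁻¹, u⁻¹⁆ ∈ Subgroup.center G := h.central (h.comm_mem _ _)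
  have hc' := Subgroup.mem_center_iff.1 hc
  calc (u * y) ^ 2 = u * (y * u) * y := by rw [pow_two]; group
    _ = u * (u * y * ⁅y⁻¹, u⁻¹⁆) * y := by
        congr 2
        rw [commutatorElement_def]; group
    _ = u * u * y * (⁅y⁻¹, u⁻¹⁆ * y) := by group
    _ = u * u * y * (y * ⁅y⁻¹, u⁻¹⁆) := by rw [hc' y]
    _ = u ^ 2 * y ^ 2 * ⁅y⁻¹, u⁻¹⁆ := by rw [pow_two, pow_two]; group

/-- the quadratic function -/
noncomputable def f (x : G) : ℤ := sgn (x ^ 2)

/-- the bilinear function -/
noncomputable def β (u y : G) : ℤ := sgn ⁅y⁻¹, u⁻¹⁆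

theorem f_mul_self (x : G) : f x * f x = 1 := sgn_mul_self _

theorem Setup.f_mul (h : Setup Φ z) (u y : G) : f (u * y) = f u * f y * β u y := by
  unfold f β
  rw [h.sq_mul, h.sgn_mul (Φ.mul_mem (h.sq_mem u) (h.sq_mem y)) (h.comm_mem _ _),
    h.sgn_mul (h.sq_mem u) (h.sq_mem y)]

theorem Setup.β_mul (h : Setup Φ z) (u y y' : G) : β u (y * y') = β u y * β u y' := by
  unfold β
  have hc : ⁅y⁻¹, u⁻¹⁆ ∈ Subgroup.center G := h.central (h.comm_mem _ _)
  have hc' := Subgroup.mem_center_iff.1 hc
  have e : ⁅(y * y')⁻¹, u⁻¹⁆ = ⁅y⁻¹, u⁻¹⁆ * ⁅y'⁻¹, u⁻¹⁆ := by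
    calc ⁅(y * y')⁻¹, u⁻¹⁆ = y'⁻¹ * ⁅y⁻¹, u⁻¹⁆ * u⁻¹ * y' * u := by
          simp only [commutatorElement_def]; group
      _ = ⁅y⁻¹, u⁻¹⁆ * y'⁻¹ * u⁻¹ * y' * u := by rw [hc' y'⁻¹]
      _ = ⁅y⁻¹, u⁻¹⁆ * ⁅y'⁻¹, u⁻¹⁆ := by
          simp only [commutatorElement_def]; group
  rw [e, h.sgn_mul (h.comm_mem _ _) (h.comm_mem _ _)]

theorem β_eq_one_iff (u y : G) : β u y = 1 ↔ y * u = u * y := by
  unfold β
  rw [sgn_eq_one_iff, commutatorElement_eq_one_iff_commute]
  constructor
  · intro hc
    have h1 : Commute y⁻¹ u⁻¹ := hc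
    have h2 : Commute y u := by
      have := h1.inv_left.inv_right
      simpa using this
    exact h2.eq
  · intro hc
    have h2 : Commute y u := hc
    exact h2.inv_left.inv_right

theorem β_mul_self (u y : G) : β u y * β u y = 1 := sgn_mul_self _

theorem β_cases (u y : G) : β u y = 1 ∨ β u y = -1 := by
  unfold β sgn
  split_ifs
  · left; rfl
  · right; rfl

end setup


section sums

variable {G : Type*} [Group G] [Fintype G] {Φ : Subgroup G} {z : G}

open Classical in
theorem Setup.sum_β (h : Setup Φ z) (u : G) :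
    ∑ y : G, β u y = if u ∈ Subgroup.center G then (Fintype.card G : ℤ) else 0 := by
  split_ifs with hu
  · have : ∀ y, β u y = 1 := fun y => (β_eq_one_iff u y).2 (Subgroup.mem_center_iff.1 hu y)
    simp [this]
  · have hex : ∃ y₀, β u y₀ = -1 := by
      by_contra hcon
      push Not at hcon
      apply hu
      rw [Subgroup.mem_center_iff]
      intro y
      have := (β_cases u y).resolve_right (hcon y)
      exact (β_eq_one_iff u y).1 this
    obtain ⟨y₀, hy₀⟩ := hex
    have h1 : ∑ y : G, β u (y₀ * y) = ∑ y : G, β u y :=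
      Fintype.sum_equiv (Equiv.mulLeft y₀) _ _ (fun y => rfl)
    have h2 : ∑ y : G, β u (y₀ * y) = - ∑ y : G, β u y := by
      simp_rw [h.β_mul, hy₀]
      rw [← Finset.mul_sum]
      ring
    linarith

open Classical in
theorem Setup.sum_sq (h : Setup Φ z) :
    (∑ x : G, f x) * (∑ y : G, f y) =
      (Fintype.card G : ℤ) * ∑ u : G, (if u ∈ Subgroup.center G then f u else 0) := by
  calc (∑ x : G, f x) * (∑ y : G, f y) = ∑ y : G, ∑ x : G, f x * f y := by
        rw [Finset.sum_mul_sum, Finset.sum_comm]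
    _ = ∑ y : G, ∑ u : G, f (u * y) * f y := by
        apply Finset.sum_congr rfl
        intro y _
        exact (Fintype.sum_equiv (Equiv.mulRight y) (fun u => f (u * y) * f y)
          (fun x => f x * f y) (fun u => rfl)).symm
    _ = ∑ y : G, ∑ u : G, f u * β u y := by
        apply Finset.sum_congr rfl
        intro y _
        apply Finset.sum_congr rfl
        intro u _
        rw [h.f_mul]
        have := f_mul_self y
        calc f u * f y * β u y * f y = f u * β u y * (f y * f y) := by ring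
          _ = f u * β u y := by rw [this, mul_one]
    _ = ∑ u : G, f u * ∑ y : G, β u y := by
        rw [Finset.sum_comm]
        simp_rw [Finset.mul_sum]
    _ = ∑ u : G, f u * (if u ∈ Subgroup.center G then (Fintype.card G : ℤ) else 0) := by
        simp_rw [h.sum_β]
    _ = (Fintype.card G : ℤ) * ∑ u : G, (if u ∈ Subgroup.center G then f u else 0) := by
        rw [Finset.mul_sum]
        apply Finset.sum_congr rfl
        intro u _
        split_ifs <;> ring

omit [Fintype G] in
theorem f_cases (x : G) : f x = 1 ∨ f x = -1 := by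
  unfold f sgn
  split_ifs
  · left; rfl
  · right; rfl

open Classical in
theorem Setup.sum_center (h : Setup Φ z) :
    (∑ u : G, (if u ∈ Subgroup.center G then f u else 0)) = 0 ∨
      (∑ u : G, (if u ∈ Subgroup.center G then f u else 0)) =
        (Nat.card (Subgroup.center G) : ℤ) := by
  by_cases hall : ∀ u ∈ Subgroup.center G, f u = 1
  · right
    have h1 : ∀ u : G, (if u ∈ Subgroup.center G then f u else 0) =
        if u ∈ Subgroup.center G then 1 else 0 := by
      intro u
      split_ifs with hu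
      · exact hall u hu
      · rfl
    simp_rw [h1]
    rw [Finset.sum_boole, Nat.card_eq_fintype_card, Fintype.card_subtype]
  · left
    push Not at hall
    obtain ⟨u₀, hu₀Z, hu₀⟩ := hall
    have hu₀' : f u₀ = -1 := (f_cases u₀).resolve_left hu₀
    have h1 : ∑ u : G, (if u₀ * u ∈ Subgroup.center G then f (u₀ * u) else 0) =
        ∑ u : G, (if u ∈ Subgroup.center G then f u else 0) :=
      Fintype.sum_equiv (Equiv.mulLeft u₀) _ _ (fun u => rfl)
    have h2 : ∀ u : G, (if u₀ * u ∈ Subgroup.center G then f (u₀ * u) else 0) =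
        - (if u ∈ Subgroup.center G then f u else 0) := by
      intro u
      have hiff : u₀ * u ∈ Subgroup.center G ↔ u ∈ Subgroup.center G :=
        Subgroup.mul_mem_cancel_left _ hu₀Z
      simp only [hiff]
      split_ifs with hu
      · rw [h.f_mul, hu₀', (β_eq_one_iff u₀ u).2 (Subgroup.mem_center_iff.1 hu₀Z u)]
        ring
      · simp
    simp_rw [h2] at h1
    rw [Finset.sum_neg_distrib] at h1
    linarith

open Classical in
theorem sum_f_eq :
    ∑ x : G, f x = 2 * (Nat.card {x : G // x ^ 2 = 1} : ℤ) - (Fintype.card G : ℤ) := by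
  have h1 : Nat.card {x : G // x ^ 2 = 1} = (Finset.univ.filter (fun x : G => x ^ 2 = 1)).card := by
    rw [Nat.card_eq_fintype_card, Fintype.card_subtype]
  have h2 : (Finset.univ.filter (fun x : G => x ^ 2 = 1)).card +
      (Finset.univ.filter (fun x : G => ¬ x ^ 2 = 1)).card = Fintype.card G := by
    rw [Finset.card_filter_add_card_filter_not]
    rfl
  have h3 : ∑ x : G, f x = ((Finset.univ.filter (fun x : G => x ^ 2 = 1)).card : ℤ) -
      ((Finset.univ.filter (fun x : G => ¬ x ^ 2 = 1)).card : ℤ) := by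
    unfold f sgn
    rw [Finset.sum_ite]
    simp
    ring
  rw [h3, h1, ← h2]
  push_cast
  ring

end sums

section arith

theorem pow_two_of_sq_eq (s : ℤ) (m : ℕ) (h : s * s = 2 ^ m) :
    ∃ t : ℕ, s.natAbs = 2 ^ t ∧ 2 * t = m := by
  have h1 : s.natAbs * s.natAbs = 2 ^ m := by
    have := congrArg Int.natAbs h
    rw [Int.natAbs_mul, Int.natAbs_pow] at this
    simpa using this
  have h2 : s.natAbs ∣ 2 ^ m := ⟨s.natAbs, h1.symm⟩
  obtain ⟨t, -, ht⟩ := (Nat.dvd_prime_pow Nat.prime_two).1 h2
  refine ⟨t, ht, ?_⟩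
  rw [ht, ← pow_add] at h1
  have := Nat.pow_right_injective (le_refl 2) h1
  omega

theorem arith (d k j : ℕ) (hk1 : 1 ≤ k) (S : ℤ) (hS : S = 2 * (j : ℤ) - 2 ^ (d + 1))
    (hSS : S * S = 0 ∨ S * S = 2 ^ (d + 1) * 2 ^ k) (hkd : k ≤ d + 1)
    (hab : k = d + 1 → S = 0) :
    (j = 2 ^ d ∨ ∃ r : ℕ, 1 ≤ r ∧ 2 * r ≤ d ∧
        (j = 2 ^ d + 2 ^ (d - r) ∨ j + 2 ^ (d - r) = 2 ^ d)) ∧
      (∀ r : ℕ, d = 2 * r → (j = 2 ^ d + 2 ^ r ∨ j + 2 ^ r = 2 ^ d) → k = 1) := by
  set s : ℤ := (j : ℤ) - 2 ^ d with hs
  have hSs : S = 2 * s := by rw [hS, hs, pow_succ]; ring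
  by_cases hS0 : S = 0
  · have hs0 : s = 0 := by rw [hSs] at hS0; omega
    have hj : j = 2 ^ d := by
      have : (j : ℤ) = 2 ^ d := by rw [hs] at hs0; linarith
      exact_mod_cast this
    refine ⟨Or.inl hj, ?_⟩
    intro r _ hr
    have hpos : 0 < 2 ^ r := pow_pos (by norm_num) r
    rcases hr with hr | hr <;> omega
  · have hSS' : S * S = 2 ^ (d + 1) * 2 ^ k := by
      rcases hSS with h | h
      · exact absurd (mul_self_eq_zero.1 h) hS0
      · exact h
    have hk : k ≤ d := by
      by_contra hcon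
      exact hS0 (hab (by omega))
    have hss : s * s = 2 ^ (d + k - 1) := by
      have h1 : (4 : ℤ) * (s * s) = 4 * 2 ^ (d + k - 1) := by
        have : (4 : ℤ) * 2 ^ (d + k - 1) = 2 ^ (d + 1) * 2 ^ k := by
          rw [← pow_add]
          have : d + 1 + k = (d + k - 1) + 2 := by omega
          rw [this, pow_add]
          ring
        rw [this, ← hSS', hSs]
        ring
      linarith
    obtain ⟨t, ht, ht2⟩ := pow_two_of_sq_eq s _ hss
    have htd : t < d := by omega
    have hcases := Int.natAbs_eq s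
    rw [ht] at hcases
    constructor
    · right
      refine ⟨d - t, by omega, by omega, ?_⟩
      have hdt : d - (d - t) = t := by omega
      rw [hdt]
      rcases hcases with h | h
      · left
        have : (j : ℤ) = 2 ^ d + 2 ^ t := by
          rw [hs] at h; push_cast at h; linarith
        exact_mod_cast this
      · right
        have : (j : ℤ) + 2 ^ t = 2 ^ d := by
          rw [hs] at h; push_cast at h; linarith
        exact_mod_cast this
    · intro r hdr hr
      have hsr : s * s = 2 ^ (2 * r) := by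
        rcases hr with hr | hr
        · have : s = 2 ^ r := by
            rw [hs, hr]; push_cast; ring
          rw [this, ← pow_add]; congr 1; omega
        · have : s = -2 ^ r := by
            have h1 : (j : ℤ) + 2 ^ r = 2 ^ d := by exact_mod_cast hr
            rw [hs]; linarith
          rw [this, neg_mul_neg, ← pow_add]; congr 1; omega
      rw [hss] at hsr
      have := Int.pow_right_injective (by norm_num : 1 < (2 : ℤ).natAbs) hsr
      omega

end arith

section main

variable {G : Type*} [Group G] [Finite G]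

theorem exists_setup (hG : IsPGroup 2 G) (hΦ : Nat.card (frattini G) = 2) :
    ∃ z : G, Setup (frattini G) z := by
  haveI : Fact (Nat.Prime 2) := ⟨Nat.prime_two⟩
  obtain ⟨z, hz1, hzu⟩ := (Nat.card_eq_two_iff' (1 : frattini G)).1 hΦ
  have hmem : ∀ w ∈ frattini G, w = 1 ∨ w = (z : G) := by
    intro w hw
    by_cases hw1 : w = 1
    · left; exact hw1
    · right
      have : (⟨w, hw⟩ : frattini G) = z := hzu ⟨w, hw⟩ (by
        intro h; exact hw1 (congrArg Subtype.val h))
      exact congrArg Subtype.val this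
  have hz1' : (z : G) ≠ 1 := fun h => hz1 (Subtype.ext h)
  have hzsq : (z : G) * z = 1 := by
    rcases hmem _ ((frattini G).mul_mem z.2 z.2) with h | h
    · exact h
    · exfalso
      apply hz1'
      have : (z : G) * z = z * 1 := by rw [mul_one]; exact h
      exact mul_left_cancel this
  haveI hn : (frattini G).Normal := Subgroup.normal_of_characteristic _
  refine ⟨z, ⟨z.2, hz1', hzsq, hmem, ?_, ?_, ?_⟩⟩
  · intro w hw
    rw [Subgroup.mem_center_iff]
    intro g
    rcases hmem w hw with rfl | rfl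
    · rw [one_mul, mul_one]
    · have h1 : g * z * g⁻¹ ∈ frattini G := hn.conj_mem _ z.2 g
      rcases hmem _ h1 with h | h
      · exfalso
        apply hz1'
        have : g * z * g⁻¹ = g * 1 * g⁻¹ := by rw [h]; group
        exact mul_left_cancel (mul_right_cancel this)
      · calc g * z = (g * z * g⁻¹) * g := by group
          _ = z * g := by rw [h]
  · intro x
    exact pow_prime_mem_frattini_of_isPGroup 2 hG x
  · intro x y
    apply commutator_le_frattini_of_isPGroup 2 hG
    rw [commutator_def]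
    exact Subgroup.commutator_mem_commutator (Subgroup.mem_top x) (Subgroup.mem_top y)

theorem frattini_ne_top [Nontrivial G] : frattini G ≠ ⊤ := by
  intro h
  obtain ⟨M, hM⟩ : ∃ M : Subgroup G, IsCoatom M := by
    rcases eq_top_or_exists_le_coatom (⊥ : Subgroup G) with h' | ⟨M, hM, -⟩
    · exact absurd h' bot_ne_top
    · exact ⟨M, hM⟩
  have := frattini_le_coatom hM
  rw [h, top_le_iff] at this
  exact hM.1 this

end main

/-- Let G be a finite 2-group whose Frattini subgroup Φ(G) has order 2, with |G : Φ(G)| = 2^d, and let j be the number of elements x of G with x² = 1. Then j = 2^d, or j = 2^d + 2^(d−r) or j = 2^d − 2^(d−r) for some positive integer r with 2r ≤ d. Moreover if d = 2r and j is 2^d + 2^r or 2^d − 2^r, then G is extraspecial. -/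
theorem result {G : Type*} [Group G] [Finite G] (hG : IsPGroup 2 G) (hΦ : Nat.card (frattini G) = 2) (d : ℕ) (hd : (frattini G).index = 2 ^ d) : (Nat.card {x : G // x ^ 2 = 1} = 2 ^ d ∨ ∃ r : ℕ, 1 ≤ r ∧ 2 * r ≤ d ∧ (Nat.card {x : G // x ^ 2 = 1} = 2 ^ d + 2 ^ (d - r) ∨ Nat.card {x : G // x ^ 2 = 1} + 2 ^ (d - r) = 2 ^ d)) ∧ (∀ r : ℕ, d = 2 * r → (Nat.card {x : G // x ^ 2 = 1} = 2 ^ d + 2 ^ r ∨ Nat.card {x : G // x ^ 2 = 1} + 2 ^ r = 2 ^ d) → Cfsg.IsExtraspecial 2 G) := by
  classical
  haveI : Fact (Nat.Prime 2) := ⟨Nat.prime_two⟩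
  cases nonempty_fintype G
  obtain ⟨z, hset⟩ := exists_setup hG hΦ
  have hcardG : Nat.card G = 2 ^ (d + 1) := by
    rw [← (frattini G).card_mul_index, hΦ, hd, pow_succ, mul_comm]
  have hcardG' : (Fintype.card G : ℤ) = 2 ^ (d + 1) := by
    rw [← Nat.card_eq_fintype_card, hcardG]; push_cast; rfl
  obtain ⟨k, hk⟩ := IsPGroup.iff_card.1 (hG.to_subgroup (Subgroup.center G))
  have hk1 : 1 ≤ k := by
    have h1 : Nat.card (frattini G) ∣ Nat.card (Subgroup.center G) :=
      Subgroup.card_dvd_of_le hset.central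
    rw [hΦ, hk] at h1
    rcases Nat.eq_zero_or_pos k with rfl | h
    · norm_num at h1
    · exact h
  have hkd : k ≤ d + 1 := by
    have h1 : Nat.card (Subgroup.center G) ∣ Nat.card G := Subgroup.card_subgroup_dvd_card _
    rw [hk, hcardG] at h1
    exact (Nat.pow_dvd_pow_iff_le_right (by norm_num)).1 h1
  set j := Nat.card {x : G // x ^ 2 = 1} with hj
  set S : ℤ := ∑ x : G, f x with hSdef
  have hS : S = 2 * (j : ℤ) - 2 ^ (d + 1) := by
    rw [hSdef, sum_f_eq, hcardG']
  have hSS : S * S = 0 ∨ S * S = 2 ^ (d + 1) * 2 ^ k := by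
    rw [hSdef, hset.sum_sq]
    rcases hset.sum_center with h | h
    · left; rw [h, mul_zero]
    · right; rw [h, hcardG', hk]; push_cast; rfl
  have hjpos : 1 ≤ j := by
    rw [hj]
    haveI : Nonempty {x : G // x ^ 2 = 1} := ⟨⟨1, one_pow 2⟩⟩
    exact Nat.card_pos
  have hab : k = d + 1 → S = 0 := by
    intro hkd'
    by_contra hS0
    have hSS' : S * S = 2 ^ (d + 1) * 2 ^ (d + 1) := by
      rcases hSS with h | h
      · exact absurd (mul_self_eq_zero.1 h) hS0
      · rw [h, hkd']
    have hcases : S = 2 ^ (d + 1) ∨ S = -2 ^ (d + 1) := by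
      have h1 : (S - 2 ^ (d + 1)) * (S + 2 ^ (d + 1)) = 0 := by
        have : (S - 2 ^ (d + 1)) * (S + 2 ^ (d + 1)) = S * S - 2 ^ (d + 1) * 2 ^ (d + 1) := by
          ring
        rw [this, hSS']; ring
      rcases mul_eq_zero.1 h1 with h | h
      · left; linarith
      · right; linarith
    rcases hcases with h | h
    · -- all squares trivial
      have hjG : j = Nat.card G := by
        have : (j : ℤ) = 2 ^ (d + 1) := by rw [hS] at h; linarith
        rw [hcardG]; exact_mod_cast this
      have hall : ∀ x : G, x ^ 2 = 1 := by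
        have h1 : (Finset.univ.filter (fun x : G => x ^ 2 = 1)).card = Fintype.card G := by
          rw [← Nat.card_eq_fintype_card, ← hjG, hj, Nat.card_eq_fintype_card,
            Fintype.card_subtype]
        have h2 := Finset.eq_univ_of_card _ h1
        intro x
        have : x ∈ Finset.univ.filter (fun x : G => x ^ 2 = 1) := by rw [h2]; exact Finset.mem_univ x
        exact (Finset.mem_filter.1 this).2
      have hcomm : commutator G ≤ ⊥ := by
        rw [commutator_eq_closure, Subgroup.closure_le]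
        rintro _ ⟨a, b, rfl⟩
        rw [SetLike.mem_coe, Subgroup.mem_bot, commutatorElement_eq_one_iff_mul_comm]
        -- exponent two groups are abelian
        have ha : a⁻¹ = a := by
          rw [inv_eq_iff_mul_eq_one, ← pow_two]; exact hall a
        have hb : b⁻¹ = b := by
          rw [inv_eq_iff_mul_eq_one, ← pow_two]; exact hall b
        have hab' : (a * b)⁻¹ = a * b := by
          rw [inv_eq_iff_mul_eq_one, ← pow_two]; exact hall (a * b)
        calc a * b = (a * b)⁻¹ := hab'.symm
          _ = b⁻¹ * a⁻¹ := mul_inv_rev a b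
          _ = b * a := by rw [ha, hb]
      have hfr := frattini_le_of_elementary_quotient 2 (⊥ : Subgroup G) hcomm (by
        intro x; rw [hall x]; exact Subgroup.one_mem _)
      have : Nat.card (frattini G) = 1 := by
        rw [le_bot_iff.1 hfr]; exact Subgroup.card_bot
      omega
    · have : (j : ℤ) = 0 := by rw [hS] at h; linarith
      have : j = 0 := by exact_mod_cast this
      omega
  obtain ⟨hpart1, hpart2⟩ := arith d k j hk1 S hS hSS hkd hab
  refine ⟨hpart1, ?_⟩
  intro r hdr hjr
  have hk1' := hpart2 r hdr hjr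
  rw [hk1', pow_one] at hk
  -- `Z(G) = Φ(G)`
  have hΦZ : frattini G = Subgroup.center G :=
    Subgroup.eq_of_le_of_card_ge hset.central (by rw [hk, hΦ])
  have hd1 : 1 ≤ d := by
    by_contra hd0
    have hd0' : d = 0 := by omega
    rw [hd0', pow_zero] at hd
    have htop : frattini G = ⊤ := Subgroup.index_eq_one.1 hd
    haveI : Nontrivial G := by
      rw [← Finite.one_lt_card_iff_nontrivial, hcardG]
      exact Nat.one_lt_two_pow (by omega)
    exact frattini_ne_top htop
  have hcommle : commutator G ≤ Subgroup.center G := by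
    rw [← hΦZ]
    exact commutator_le_frattini_of_isPGroup 2 hG
  have hcommne : commutator G ≠ ⊥ := by
    intro hbot
    -- `G` abelian, so the centre is everything
    have htop : Subgroup.center G = ⊤ := by
      rw [eq_top_iff]
      intro x _
      rw [Subgroup.mem_center_iff]
      intro g
      have : ⁅g, x⁆ ∈ commutator G := by
        rw [commutator_def]
        exact Subgroup.commutator_mem_commutator (Subgroup.mem_top g) (Subgroup.mem_top x)
      rw [hbot, Subgroup.mem_bot, commutatorElement_eq_one_iff_mul_comm] at this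
      exact this
    rw [htop, Subgroup.card_top, hcardG] at hk
    have : 2 ^ (d + 1) ≥ 2 ^ 2 := Nat.pow_le_pow_right (by norm_num) (by omega)
    omega
  have hcommZ : commutator G = Subgroup.center G := by
    apply Subgroup.eq_of_le_of_card_ge hcommle
    rw [hk]
    have h1 : Nat.card (commutator G) ≠ 1 := fun h => hcommne (Subgroup.card_eq_one.1 h)
    have h2 : 0 < Nat.card (commutator G) := Nat.card_pos
    omega
  exact ⟨⟨hG, hΦZ, hcommZ⟩, hk⟩

end Cfsg.Agent.S3772
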