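import Cfsg.Statements.S2880
import Cfsg.Agent.S3772

set_option autoImplicit false
open Cfsg

namespace Cfsg.Agent.S2880

open Cfsg.Agent.S3772

variable {G : Type*} [Group G] [Fintype G] {Φ : Subgroup G} {z : G}

open Classical in
/-- character sum over an abelian subgroup -/
theorem sum_β_sub (h : Setup Φ z) (A : Subgroup G) (x : G) :
    ∑ a : A, β x (a : G) = if x ∈ Subgroup.centralizer (A : Set G) then (Fintype.card A : ℤ) else 0 := by
  split_ifs with hx
  · have : ∀ a : A, β x (a : G) = 1 := by
      intro a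
      rw [β_eq_one_iff]
      exact (Subgroup.mem_centralizer_iff.mp hx a a.2)
    simp [this]
  · have hex : ∃ a₀ : A, β x (a₀ : G) = -1 := by
      by_contra hcon
      push Not at hcon
      apply hx
      rw [Subgroup.mem_centralizer_iff]
      intro a ha
      have := (β_cases x a).resolve_right (hcon ⟨a, ha⟩)
      exact (β_eq_one_iff x a).1 this
    obtain ⟨a₀, ha₀⟩ := hex
    have h1 : ∑ a : A, β x ((a₀ * a : A) : G) = ∑ a : A, β x (a : G) :=
      Fintype.sum_equiv (Equiv.mulLeft a₀) _ _ (fun a => rfl)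
    have h2 : ∑ a : A, β x ((a₀ * a : A) : G) = - ∑ a : A, β x (a : G) := by
      simp_rw [Subgroup.coe_mul, h.β_mul, ha₀]
      rw [← Finset.mul_sum]
      ring
    linarith

omit [Fintype G] in
theorem β_symm (u y : G) : β u y = β y u := by
  rcases β_cases u y with h1 | h1 <;> rcases β_cases y u with h2 | h2
  · rw [h1, h2]
  · exfalso
    have := ((β_eq_one_iff y u).2 ((β_eq_one_iff u y).1 h1).symm)
    rw [h2] at this; norm_num at this
  · exfalso
    have := ((β_eq_one_iff u y).2 ((β_eq_one_iff y u).1 h2).symm)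
    rw [h1] at this; norm_num at this
  · rw [h1, h2]

theorem result {E : Type*} [Group E] [Finite E] (m : ℕ) (hm : 1 ≤ m) (hE : Cfsg.IsExtraspecial 2 E) (hcard : Nat.card E = 2 ^ (2 * m + 1)) (hplus : ∃ A : Subgroup E, Cfsg.IsElementaryAbelian 2 A ∧ Nat.card A = 2 ^ (m + 1)) : Nat.card {x : E // orderOf x = 4} = 2 ^ (2 * m) - 2 ^ m := by
  classical
  cases nonempty_fintype E
  obtain ⟨⟨hP, hfrat, hcomm⟩, hZ⟩ := hE
  have hΦ : Nat.card (frattini E) = 2 := by rw [hfrat]; exact hZ
  obtain ⟨z, hset⟩ := exists_setup hP hΦ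
  obtain ⟨A, ⟨hAc, hAe⟩, hAcard⟩ := hplus
  have hcardE : (Fintype.card E : ℤ) = 2 ^ (2 * m + 1) := by
    rw [← Nat.card_eq_fintype_card, hcard]; push_cast; rfl
  have hcardA : (Fintype.card A : ℤ) = 2 ^ (m + 1) := by
    rw [← Nat.card_eq_fintype_card, hAcard]; push_cast; rfl
  set C := Subgroup.centralizer (A : Set E) with hC
  have hAC : A ≤ C := by
    intro a ha
    rw [hC, Subgroup.mem_centralizer_iff]
    intro b hb
    have := hAc.is_comm.comm (⟨b, hb⟩ : A) ⟨a, ha⟩
    exact congrArg Subtype.val this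
  have hfA : ∀ a : A, f (a : E) = 1 := by
    intro a
    unfold f
    rw [hAe a a.2, sgn_one]
  -- (2)
  have e2 : (∑ x : E, f x) * (Fintype.card A : ℤ)
      = ∑ x : E, f x * (if x ∈ C then (Fintype.card A : ℤ) else 0) := by
    calc (∑ x : E, f x) * (Fintype.card A : ℤ) = ∑ a : A, ∑ x : E, f x := by
          rw [Finset.sum_const, Finset.card_univ, nsmul_eq_mul, mul_comm]
      _ = ∑ a : A, ∑ x : E, f (x * a) := by
          apply Finset.sum_congr rfl
          intro a _
          exact (Fintype.sum_equiv (Equiv.mulRight (a : E)) (fun x => f (x * a)) (fun x => f x) (fun x => rfl)).symm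
      _ = ∑ a : A, ∑ x : E, f x * β x (a : E) := by
          apply Finset.sum_congr rfl
          intro a _
          apply Finset.sum_congr rfl
          intro x _
          rw [hset.f_mul, hfA, mul_one]
      _ = ∑ x : E, f x * ∑ a : A, β x (a : E) := by
          rw [Finset.sum_comm]
          simp_rw [Finset.mul_sum]
      _ = _ := by
          simp_rw [sum_β_sub hset A, ← hC]
  -- (4)
  have e4 : (Fintype.card A : ℤ) * (Nat.card C : ℤ) ≤ 2 * (Fintype.card E : ℤ) := by
    have h1 : ∑ x : E, ∑ a : A, β x (a : E) = (Fintype.card A : ℤ) * (Nat.card C : ℤ) := by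
      simp_rw [sum_β_sub hset A]
      rw [← Finset.sum_filter, Finset.sum_const, nsmul_eq_mul, mul_comm]
      congr 2
      rw [Nat.card_eq_fintype_card, Fintype.card_subtype]
    have h2 : ∑ x : E, ∑ a : A, β x (a : E)
        = ∑ a : A, (if (a : E) ∈ Subgroup.center E then (Fintype.card E : ℤ) else 0) := by
      rw [Finset.sum_comm]
      apply Finset.sum_congr rfl
      intro a _
      rw [← hset.sum_β (a : E)]
      apply Finset.sum_congr rfl
      intro x _
      exact β_symm x a
    have h3 : ∑ a : A, (if (a : E) ∈ Subgroup.center E then (Fintype.card E : ℤ) else 0)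
        ≤ 2 * (Fintype.card E : ℤ) := by
      rw [← Finset.sum_filter, Finset.sum_const, nsmul_eq_mul]
      have h4 : (Finset.univ.filter (fun a : A => (a : E) ∈ Subgroup.center E)).card ≤ 2 := by
        rw [← hZ, Nat.card_eq_fintype_card, ← Fintype.card_subtype]
        apply Fintype.card_le_of_injective (fun a => (⟨(a.1 : E), a.2⟩ : Subgroup.center E))
        intro a b hab
        apply Subtype.ext
        apply Subtype.ext
        have := congrArg Subtype.val hab
        exact this
      have : ((Finset.univ.filter (fun a : A => (a : E) ∈ Subgroup.center E)).card : ℤ) ≤ 2 := by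
        exact_mod_cast h4
      have hpos : (0 : ℤ) ≤ (Fintype.card E : ℤ) := by positivity
      exact mul_le_mul_of_nonneg_right this hpos
    rw [← h1, h2]; exact h3
  -- (5)
  have hCle : Nat.card C ≤ Nat.card A := by
    rw [hcardA, hcardE] at e4
    have h1 : (2 : ℤ) ^ (m + 1) * (Nat.card C : ℤ) ≤ 2 ^ (m + 1) * 2 ^ (m + 1) := by
      calc (2 : ℤ) ^ (m + 1) * (Nat.card C : ℤ) ≤ 2 * 2 ^ (2 * m + 1) := e4
        _ = 2 ^ (m + 1) * 2 ^ (m + 1) := by ring
    have h2 : (Nat.card C : ℤ) ≤ 2 ^ (m + 1) := le_of_mul_le_mul_left h1 (by positivity)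
    rw [hAcard]
    exact_mod_cast h2
  have hCA : A = C := Subgroup.eq_of_le_of_card_ge hAC hCle
  have e5 : (∑ x : E, f x) = (Fintype.card A : ℤ) := by
    have h1 : ∑ x : E, f x * (if x ∈ C then (Fintype.card A : ℤ) else 0)
        = (Fintype.card A : ℤ) * (Fintype.card A : ℤ) := by
      have : ∀ x : E, f x * (if x ∈ C then (Fintype.card A : ℤ) else 0)
          = if x ∈ A then (Fintype.card A : ℤ) else 0 := by
        intro x
        rw [← hCA]
        split_ifs with hx
        · rw [hfA ⟨x, hx⟩, one_mul]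
        · rw [mul_zero]
      simp_rw [this]
      rw [← Finset.sum_filter, Finset.sum_const, nsmul_eq_mul]
      congr 2
      rw [Fintype.card_subtype]
    rw [h1] at e2
    have hpos : (0 : ℤ) < (Fintype.card A : ℤ) := by rw [hcardA]; positivity
    exact mul_right_cancel₀ hpos.ne' e2
  -- (6)
  have e6 := sum_f_eq (G := E)
  rw [e5, hcardA, hcardE] at e6
  have hj : (Nat.card {x : E // x ^ 2 = 1} : ℤ) = 2 ^ m + 2 ^ (2 * m) := by
    have : (2 : ℤ) ^ (m + 1) = 2 * 2 ^ m := by ring
    have h2 : (2 : ℤ) ^ (2 * m + 1) = 2 * 2 ^ (2 * m) := by ring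
    linarith
  have hx4 : ∀ x : E, x ^ 4 = 1 := by
    intro x
    have h1 : x ^ 4 = x ^ 2 * x ^ 2 := by rw [← pow_add]
    rw [h1]
    rcases hset.mem_iff _ (hset.sq_mem x) with h | h
    · rw [h, one_mul]
    · rw [h, hset.z_sq]
  have hiff : ∀ x : E, orderOf x = 4 ↔ ¬ x ^ 2 = 1 := by
    intro x
    constructor
    · intro h hx
      have := orderOf_dvd_of_pow_eq_one hx
      rw [h] at this
      norm_num at this
    · intro h
      have := orderOf_eq_prime_pow (p := 2) (n := 1) (x := x) (by simpa using h) (by simpa using hx4 x)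
      simpa using this
  have hcount : Nat.card {x : E // orderOf x = 4} + Nat.card {x : E // x ^ 2 = 1} = Nat.card E := by
    rw [Nat.card_congr (Equiv.subtypeEquivRight hiff)]
    rw [Nat.card_eq_fintype_card, Nat.card_eq_fintype_card, Nat.card_eq_fintype_card,
      Fintype.card_subtype, Fintype.card_subtype, add_comm]
    exact Finset.card_filter_add_card_filter_not (s := Finset.univ) (fun x : E => x ^ 2 = 1)
  have hj' : Nat.card {x : E // x ^ 2 = 1} = 2 ^ m + 2 ^ (2 * m) := by exact_mod_cast hj
  rw [hj', hcard] at hcount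
  have h2 : (2 : ℕ) ^ (2 * m + 1) = 2 * 2 ^ (2 * m) := by ring
  have h3 : 2 ^ m ≤ 2 ^ (2 * m) := Nat.pow_le_pow_right (by norm_num) (by omega)
  omega

end Cfsg.Agent.S2880
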