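import Cfsg.Statements.S2907
import Mathlib

set_option autoImplicit false
open Cfsg

namespace Cfsg.Agent.S2907


/-- Let X be a finite semi-extraspecial p-group and x an element of X outside the centre. Then the index of C_X(x) in X equals the order of Z(X), and the commutators [x, y], y ∈ X, form exactly the centre Z(X). -/
theorem result {X : Type*} [Group X] [Finite X] {p : ℕ} [Fact p.Prime] (hX : Cfsg.IsSemiExtraspecial p X) (x : X) (hx : x ∉ Subgroup.center X) : (Subgroup.centralizer ({x} : Set X)).index = Nat.card ↥(Subgroup.center X) ∧ {z : X | ∃ y : X, z = x * y * x⁻¹ * y⁻¹} = (Subgroup.center X : Set X) := by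
  obtain ⟨⟨hXp, hfr, hcomm⟩, hse⟩ := hX
  have hp : p.Prime := Fact.out
  have hmemZ : ∀ a b : X, a * b * a⁻¹ * b⁻¹ ∈ Subgroup.center X := by
    intro a b
    rw [← hcomm, commutator_def]
    exact Subgroup.commutator_mem_commutator (Subgroup.mem_top a) (Subgroup.mem_top b)
  -- the commutator map
  let φ : X →* ↥(Subgroup.center X) :=
    { toFun := fun y => ⟨x * y * x⁻¹ * y⁻¹, hmemZ x y⟩
      map_one' := by apply Subtype.ext; simp
      map_mul' := by
        intro a b
        apply Subtype.ext
        show x * (a * b) * x⁻¹ * (a * b)⁻¹ = (x * a * x⁻¹ * a⁻¹) * (x * b * x⁻¹ * b⁻¹)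
        have h := Subgroup.mem_center_iff.mp (hmemZ x b) a
        calc x * (a * b) * x⁻¹ * (a * b)⁻¹
            = x * a * x⁻¹ * ((x * b * x⁻¹ * b⁻¹) * a⁻¹) := by group
          _ = x * a * x⁻¹ * (a⁻¹ * (x * b * x⁻¹ * b⁻¹)) := by
              have h2 : (x * b * x⁻¹ * b⁻¹) * a⁻¹ = a⁻¹ * (x * b * x⁻¹ * b⁻¹) := by
                calc (x * b * x⁻¹ * b⁻¹) * a⁻¹ = a⁻¹ * (a * (x * b * x⁻¹ * b⁻¹)) * a⁻¹ := by group
                  _ = a⁻¹ * ((x * b * x⁻¹ * b⁻¹) * a) * a⁻¹ := by rw [h]
                  _ = a⁻¹ * (x * b * x⁻¹ * b⁻¹) := by group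
              rw [h2]
          _ = (x * a * x⁻¹ * a⁻¹) * (x * b * x⁻¹ * b⁻¹) := by group }
  have hker : φ.ker = Subgroup.centralizer ({x} : Set X) := by
    ext y
    rw [MonoidHom.mem_ker, Subgroup.mem_centralizer_singleton_iff]
    constructor
    · intro h
      have h1 : x * y * x⁻¹ * y⁻¹ = 1 := congrArg Subtype.val h
      calc y * x = (x * y * x⁻¹ * y⁻¹)⁻¹ * (x * y) := by group
        _ = x * y := by rw [h1]; group
    · intro h
      apply Subtype.ext
      show x * y * x⁻¹ * y⁻¹ = 1
      rw [← h]; group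
  -- the range is everything
  have hrange : φ.range = ⊤ := by
    by_contra hne
    obtain ⟨Y', hY', hle⟩ := (eq_top_or_exists_le_coatom φ.range).resolve_left hne
    have hYZ : Y'.map (Subgroup.center X).subtype ≤ Subgroup.center X := Subgroup.map_subtype_le _
    have hsub : (Y'.map (Subgroup.center X).subtype).subgroupOf (Subgroup.center X) = Y' :=
      Subgroup.comap_map_eq_self_of_injective (Subgroup.center X).subtype_injective Y'
    obtain ⟨hYn, ⟨-, hcard⟩⟩ := hse (Y'.map (Subgroup.center X).subtype) hYZ (by rw [hsub]; exact hY')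
    -- `x` is central modulo `Y`
    have hxc : (QuotientGroup.mk x : X ⧸ Y'.map (Subgroup.center X).subtype) ∈
        Subgroup.center (X ⧸ Y'.map (Subgroup.center X).subtype) := by
      rw [Subgroup.mem_center_iff]
      intro q
      obtain ⟨y, rfl⟩ := QuotientGroup.mk_surjective q
      rw [← QuotientGroup.mk_mul, ← QuotientGroup.mk_mul, QuotientGroup.eq]
      have h1 : φ y ∈ Y' := hle ⟨y, rfl⟩
      have h2 : x * y * x⁻¹ * y⁻¹ ∈ Y'.map (Subgroup.center X).subtype := ⟨φ y, h1, rfl⟩
      have h3 := hYn.conj_mem _ h2 (x * y)⁻¹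
      have e : (x * y)⁻¹ * (x * y * x⁻¹ * y⁻¹) * (x * y)⁻¹⁻¹ = (y * x)⁻¹ * (x * y) := by group
      rwa [e] at h3
    -- the image of `Z(X)` is all of `Z(X/Y)`
    have himg : (Subgroup.center X).map (QuotientGroup.mk' (Y'.map (Subgroup.center X).subtype))
        = Subgroup.center (X ⧸ Y'.map (Subgroup.center X).subtype) := by
      have hle' : (Subgroup.center X).map (QuotientGroup.mk' (Y'.map (Subgroup.center X).subtype))
          ≤ Subgroup.center (X ⧸ Y'.map (Subgroup.center X).subtype) := by
        rintro _ ⟨z, hz, rfl⟩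
        rw [Subgroup.mem_center_iff]
        intro q
        obtain ⟨y, rfl⟩ := QuotientGroup.mk_surjective q
        show (QuotientGroup.mk y : X ⧸ _) * QuotientGroup.mk z = QuotientGroup.mk z * QuotientGroup.mk y
        rw [← QuotientGroup.mk_mul, ← QuotientGroup.mk_mul, Subgroup.mem_center_iff.mp hz y]
      apply Subgroup.eq_of_le_of_card_ge hle'
      rw [hcard]
      -- the image is a nontrivial `p`-group
      have hne1 : (Subgroup.center X).map (QuotientGroup.mk' (Y'.map (Subgroup.center X).subtype)) ≠ ⊥ := by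
        intro hbot
        apply hY'.1
        rw [eq_top_iff]
        intro z _
        have h1 : (QuotientGroup.mk' (Y'.map (Subgroup.center X).subtype)) (z : X) ∈
            (Subgroup.center X).map (QuotientGroup.mk' (Y'.map (Subgroup.center X).subtype)) :=
          Subgroup.mem_map_of_mem _ z.2
        rw [hbot, Subgroup.mem_bot, QuotientGroup.mk'_apply, QuotientGroup.eq_one_iff] at h1
        obtain ⟨w, hw, hwz⟩ := h1
        have : w = z := Subtype.ext hwz
        rwa [this] at hw
      have hpg : IsPGroup p ((Subgroup.center X).map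
          (QuotientGroup.mk' (Y'.map (Subgroup.center X).subtype))) :=
        ((hXp.to_subgroup (Subgroup.center X)).map _)
      rcases hpg.card_eq_or_dvd with h1 | h1
      · exact absurd (Subgroup.card_eq_one.mp h1) hne1
      · exact Nat.le_of_dvd Nat.card_pos h1
    rw [← himg] at hxc
    obtain ⟨z, hz, hzx⟩ := hxc
    rw [QuotientGroup.mk'_apply, QuotientGroup.eq] at hzx
    have h1 : z⁻¹ * x ∈ Subgroup.center X := hYZ hzx
    apply hx
    have : x = z * (z⁻¹ * x) := by group
    rw [this]
    exact Subgroup.mul_mem _ hz h1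
  constructor
  · rw [← hker, Subgroup.index_ker, hrange, Subgroup.card_top]
  · ext z
    constructor
    · rintro ⟨y, rfl⟩
      exact hmemZ x y
    · intro hz
      have : (⟨z, hz⟩ : ↥(Subgroup.center X)) ∈ φ.range := by rw [hrange]; trivial
      obtain ⟨y, hy⟩ := this
      exact ⟨y, (congrArg Subtype.val hy).symm⟩


end Cfsg.Agent.S2907
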