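import Cfsg.Statements.S2908
import Cfsg.Agent.Lib.Helper7.PGroupComm

set_option autoImplicit false
open Cfsg

namespace Cfsg.Agent.S2908

open Cfsg.Agent.Lib.Helper7
open scoped commutatorElement Pointwise

/-- Let P be a p-subgroup of a finite group, normalized by a p-subgroup A and by a subgroup B of order prime to p that commutes elementwise with A. If [P, B] ≤ [P, A], then B centralizes P. -/
theorem result {G : Type*} [Group G] [Finite G] {p : ℕ} [Fact p.Prime] (P A B : Subgroup G) (hP : IsPGroup p ↥P) (hA : IsPGroup p ↥A) (hB : ¬ p ∣ Nat.card ↥B) (hnA : A ≤ Subgroup.normalizer (P : Set G)) (hnB : B ≤ Subgroup.normalizer (P : Set G)) (hAB : ⁅A, B⁆ = ⊥) (hcomm : ⁅P, B⁆ ≤ ⁅P, A⁆) : ⁅P, B⁆ = ⊥ := by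
  by_contra hne
  set D : Subgroup G := ⁅P, B⁆ with hD
  set T : Subgroup G := P ⊔ A with hT
  have hTp : IsPGroup p T := IsPGroup.to_sup_of_normal_left' hP hA hnA
  have hPT : P ≤ T := le_sup_left
  have hAT : A ≤ T := le_sup_right
  have hDP : D ≤ P := Subgroup.le_normalizer_iff_commutator_le_left.mp hnB
  have hPD : P ≤ Subgroup.normalizer (D : Set G) := Subgroup.normalizer_commutator_ge_left P B
  have hBD : B ≤ Subgroup.normalizer (D : Set G) := Subgroup.normalizer_commutator_ge_right P B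
  have hAB' : A ≤ Subgroup.centralizer (B : Set G) :=
    Subgroup.commutator_eq_bot_iff_le_centralizer.mp hAB
  have hBA' : B ≤ Subgroup.centralizer (A : Set G) := Subgroup.le_centralizer_iff.mp hAB'
  have hAnB : A ≤ Subgroup.normalizer (B : Set G) :=
    hAB'.trans (Subgroup.centralizer_le_normalizer _)
  have hBnA : B ≤ Subgroup.normalizer (A : Set G) :=
    hBA'.trans (Subgroup.centralizer_le_normalizer _)
  have hAD : A ≤ Subgroup.normalizer (D : Set G) := le_normalizer_commutator hnA hAnB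
  have hTD : T ≤ Subgroup.normalizer (D : Set G) := sup_le hPD hAD
  have hBT : B ≤ Subgroup.normalizer (T : Set G) := le_normalizer_sup hnB hBnA
  set E : Subgroup G := ⁅D, T⁆ with hE
  have hED : E < D := commutator_lt_of_isPGroup D T hTp (hDP.trans hPT) hTD hne
  have hTE : T ≤ Subgroup.normalizer (E : Set G) := Subgroup.normalizer_commutator_ge_right D T
  have hBE : B ≤ Subgroup.normalizer (E : Set G) := le_normalizer_commutator hBD hBT
  -- coprime action
  have hcop : (Nat.card B).Coprime (Nat.card P) := by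
    apply coprime_card_of_isPGroup hP
    exact (Nat.Prime.coprime_iff_not_dvd Fact.out).mpr hB |>.symm
  have hsolv : Group.IsSolvable B ∨ Group.IsSolvable P := Or.inr (isSolvable_of_isPGroup hP)
  set C : Subgroup G := P ⊓ Subgroup.centralizer (B : Set G) with hC
  have hdec : D ⊔ C = P :=
    Cfsg.Agent.Lib.Helper1.coprime_commutator_sup_centralizer B P hnB hcop hsolv
  have hDD : ⁅D, B⁆ = D :=
    Cfsg.Agent.Lib.Helper1.coprime_commutator_commutator B P hnB hcop hsolv
  have hCP : C ≤ P := inf_le_left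
  have hCB : C ≤ Subgroup.centralizer (B : Set G) := inf_le_right
  -- P = D * C as sets
  have hPset : ((D ⊔ C : Subgroup G) : Set G) = (D : Set G) * (C : Set G) :=
    Subgroup.coe_mul_of_right_le_normalizer_left D C (hCP.trans hPD)
  -- [P, A] ≤ E ⊔ C
  have hPA : ⁅P, A⁆ ≤ E ⊔ C := by
    rw [Subgroup.commutator_le]
    intro x hx a ha
    have hx' : x ∈ ((D ⊔ C : Subgroup G) : Set G) := by rw [hdec]; exact hx
    rw [hPset] at hx'
    obtain ⟨d, hd, c, hc, rfl⟩ := Set.mem_mul.mp hx'
    rw [commutatorElement_mul_left]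
    have h1 : ⁅d, a⁆ ∈ E := Subgroup.commutator_mem_commutator hd (hAT ha)
    have h2 : ⁅c, a⁆ ∈ C := by
      refine Subgroup.mem_inf.mpr ⟨?_, ?_⟩
      · exact (Subgroup.le_normalizer_iff_commutator_le_left.mp hnA)
          (Subgroup.commutator_mem_commutator (hCP hc) ha)
      · rw [commutatorElement_def]
        exact Subgroup.mul_mem _ (Subgroup.mul_mem _ (Subgroup.mul_mem _ (hCB hc) (hAB' ha))
          (Subgroup.inv_mem _ (hCB hc))) (Subgroup.inv_mem _ (hAB' ha))
    have h3 : d * ⁅c, a⁆ * d⁻¹ = ⁅d, ⁅c, a⁆⁆ * ⁅c, a⁆ := by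
      simp only [commutatorElement_def]; group
    have h4 : ⁅d, ⁅c, a⁆⁆ ∈ E :=
      Subgroup.commutator_mem_commutator hd (hPT (hCP h2))
    rw [h3]
    exact Subgroup.mul_mem _ (Subgroup.mul_mem_sup h4 h2) (le_sup_left (a := E) h1)
  -- [E ⊔ C, B] ≤ E
  have hECset : ((E ⊔ C : Subgroup G) : Set G) = (E : Set G) * (C : Set G) :=
    Subgroup.coe_mul_of_right_le_normalizer_left E C ((hCP.trans hPT).trans hTE)
  have hECB : ⁅E ⊔ C, B⁆ ≤ E := by
    rw [Subgroup.commutator_le]
    intro y hy b hb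
    have hy' : y ∈ ((E ⊔ C : Subgroup G) : Set G) := hy
    rw [hECset] at hy'
    obtain ⟨e, he, c, hc, rfl⟩ := Set.mem_mul.mp hy'
    rw [commutatorElement_mul_left]
    have h1 : ⁅c, b⁆ = 1 := by
      rw [commutatorElement_eq_one_iff_commute]
      exact (Subgroup.mem_centralizer_iff.mp (hCB hc) b hb).symm
    rw [h1, mul_one, mul_inv_cancel, one_mul]
    exact (Subgroup.le_normalizer_iff_commutator_le_left.mp hBE)
      (Subgroup.commutator_mem_commutator he hb)
  have hDle : D ≤ E := by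
    calc D = ⁅D, B⁆ := hDD.symm
      _ ≤ ⁅E ⊔ C, B⁆ := Subgroup.commutator_mono (hcomm.trans hPA) le_rfl
      _ ≤ E := hECB
  exact (lt_irrefl _ (lt_of_lt_of_le hED hDle))

end Cfsg.Agent.S2908
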