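import Cfsg.Statements.S2909
import Cfsg.Agent.Lib.Helper7.ActTrivQuot
import Cfsg.Agent.Lib.Helper7.Generation3
import Cfsg.Agent.S2908
import Cfsg.Agent.Lib.Helper1.Coprime
import Cfsg.Agent.Lib.Helper7.SylowAux

set_option autoImplicit false
open Cfsg

namespace Cfsg.Agent.S2909

open Cfsg.Agent.Lib.Helper7

/-- Let p be a prime, E a normal p-subgroup of the finite group G, and U a non-cyclic elementary abelian p-subgroup of G such that either C_E(U) = C_E(u) for every nontrivial u ∈ U, or [E, U] = [E, ⟨u⟩] for every nontrivial u ∈ U. If R is a subgroup of order prime to p normalized by U, then [R, U] centralizes E. -/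
theorem result {G : Type*} [Group G] [Finite G] {p : ℕ} [Fact p.Prime] (E : Subgroup G) [E.Normal] (hE : IsPGroup p ↥E) (U : Subgroup G) (hU : Cfsg.IsElementaryAbelian p U) (hnc : ¬ IsCyclic ↥U) (hcond : (∀ u ∈ U, u ≠ 1 → E ⊓ Subgroup.centralizer (U : Set G) = E ⊓ Subgroup.centralizer ({u} : Set G)) ∨ (∀ u ∈ U, u ≠ 1 → ⁅E, U⁆ = ⁅E, Subgroup.zpowers u⁆)) (R : Subgroup G) (hR : ¬ p ∣ Nat.card ↥R) (hRU : U ≤ Subgroup.normalizer (R : Set G)) : ⁅R, U⁆ ≤ Subgroup.centralizer (E : Set G) := by
  classical
  have hp : p.Prime := Fact.out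
  obtain ⟨hUc, hUe⟩ := hU
  have hCn : (Subgroup.centralizer (E : Set G)).Normal := inferInstance
  have hNE : Subgroup.normalizer (E : Set G) = ⊤ := Subgroup.normalizer_eq_top_iff.mpr inferInstance
  apply commutator_le_of_le_centModulo
  apply le_of_centralizers_le U R _ hUc hUe (sq_le_card_of_not_isCyclic U hUe hnc) hRU hR
  intro u hu hu1
  apply le_centModulo_of_commutator_le
  set Ru : Subgroup G := R ⊓ Subgroup.centralizer ({u} : Set G) with hRu
  -- U is abelian
  have hUcomm : ∀ a ∈ U, ∀ b ∈ U, a * b = b * a := by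
    intro a ha b hb
    have := hUc.is_comm.comm ⟨a, ha⟩ ⟨b, hb⟩
    exact congrArg Subtype.val this
  have hUCu : U ≤ Subgroup.centralizer ({u} : Set G) := by
    intro w hw
    rw [Subgroup.mem_centralizer_singleton_iff]
    exact hUcomm w hw u hu
  have hUnRu : U ≤ Subgroup.normalizer (Ru : Set G) :=
    Cfsg.Agent.Lib.Helper1.le_normalizer_inf hRU (hUCu.trans Subgroup.le_normalizer)
  set B : Subgroup G := ⁅Ru, U⁆ with hB
  have hBRu : B ≤ Ru := Subgroup.le_normalizer_iff_commutator_le_left.mp hUnRu
  have hBcard : ¬ p ∣ Nat.card B := fun h =>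
    hR (h.trans (Subgroup.card_dvd_of_le (hBRu.trans inf_le_left)))
  have hBCu : B ≤ Subgroup.centralizer ({u} : Set G) := hBRu.trans inf_le_right
  have hzu : IsPGroup p (Subgroup.zpowers u) := by
    rintro ⟨g, hg⟩
    obtain ⟨n, rfl⟩ := Subgroup.mem_zpowers_iff.mp hg
    refine ⟨1, Subtype.ext ?_⟩
    simp only [pow_one, Subgroup.coe_pow, Subgroup.coe_one]
    rw [← zpow_natCast, ← zpow_mul, mul_comm, zpow_mul, zpow_natCast, hUe u hu, one_zpow]
  have hCzu : Subgroup.centralizer ((Subgroup.zpowers u : Subgroup G) : Set G)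
      = Subgroup.centralizer ({u} : Set G) := by
    rw [Subgroup.zpowers_eq_closure, Subgroup.centralizer_closure]
  have hzuB : Subgroup.zpowers u ≤ Subgroup.centralizer (B : Set G) := by
    rw [Subgroup.zpowers_le]
    intro b hb
    have := hBCu hb
    rw [Subgroup.mem_centralizer_singleton_iff] at this
    exact this
  rcases hcond with hc1 | hc2
  · -- case 1
    have hF := hc1 u hu hu1
    set F : Subgroup G := E ⊓ Subgroup.centralizer (U : Set G) with hFdef
    have h1 : ⁅⁅U, F⁆, Ru⁆ = ⊥ := by
      have : ⁅U, F⁆ = ⊥ := by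
        rw [Subgroup.commutator_comm, Subgroup.commutator_eq_bot_iff_le_centralizer]
        exact inf_le_right
      rw [this]
      exact Subgroup.commutator_bot_left _
    have hRuF : Ru ≤ Subgroup.normalizer (F : Set G) := by
      rw [hF]
      apply Cfsg.Agent.Lib.Helper1.le_normalizer_inf
      · rw [hNE]; exact le_top
      · exact inf_le_right.trans Subgroup.le_normalizer
    have h2 : ⁅⁅F, Ru⁆, U⁆ = ⊥ := by
      rw [Subgroup.commutator_eq_bot_iff_le_centralizer]
      exact (Subgroup.le_normalizer_iff_commutator_le_left.mp hRuF).trans inf_le_right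
    have h3 : ⁅B, F⁆ = ⊥ := Subgroup.commutator_commutator_eq_bot_of_rotate h1 h2
    apply Cfsg.Agent.Lib.Helper1.thompson_PxQ p (Subgroup.zpowers u) B E hzu
      ((Nat.Prime.coprime_iff_not_dvd hp).mpr hBcard).symm hE
    · rw [Subgroup.zpowers_le]
      intro b hb
      have := hBCu hb
      rw [Subgroup.mem_centralizer_singleton_iff] at this
      exact this
    · rw [hNE]; exact le_top
    · rw [hNE]; exact le_top
    · rw [hCzu, ← hF]
      rw [Subgroup.commutator_comm, Subgroup.commutator_eq_bot_iff_le_centralizer] at h3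
      exact h3
  · -- case 2
    have hD := hc2 u hu hu1
    set D : Subgroup G := ⁅E, U⁆ with hDdef
    have hRuD : Ru ≤ Subgroup.normalizer (D : Set G) := by
      rw [hD]
      apply Cfsg.Agent.Lib.Helper1.le_normalizer_commutator
      · rw [hNE]; exact le_top
      · exact inf_le_right.trans (centralizer_singleton_le_normalizer_zpowers u)
    have hUD : U ≤ trivOnQuot E D := by
      intro w hw
      refine ⟨?_, fun e he => Subgroup.commutator_mem_commutator he hw⟩
      have : U ≤ Subgroup.normalizer (D : Set G) := by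
        apply Cfsg.Agent.Lib.Helper1.le_normalizer_commutator
        · rw [hNE]; exact le_top
        · exact Subgroup.le_normalizer
      exact this hw
    have hBT : B ≤ trivOnQuot E D := commutator_le_trivOnQuot hRuD hUD
    have hEB : ⁅E, B⁆ ≤ ⁅E, Subgroup.zpowers u⁆ := by
      rw [← hD]; exact commutator_le_of_le_trivOnQuot hBT
    have := Cfsg.Agent.S2908.result E (Subgroup.zpowers u) B hE hzu hBcard
      (by rw [hNE]; exact le_top) (by rw [hNE]; exact le_top)
      (by rw [Subgroup.commutator_eq_bot_iff_le_centralizer]; exact hzuB) hEB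
    rw [Subgroup.commutator_comm, Subgroup.commutator_eq_bot_iff_le_centralizer] at this
    exact this


end Cfsg.Agent.S2909
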