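import Cfsg.Statements.S2911
import Mathlib
import Cfsg.Agent.S2872
import Cfsg.Agent.Lib.Helper7.ConjK

set_option autoImplicit false
open Cfsg

namespace Cfsg.Agent.S2911

/-- The concrete group `Z₂ × D₈`. -/
abbrev P := Multiplicative (ZMod 2) × DihedralGroup 4

/-- Generator of the `Z₂` factor. -/
def u₀ : P := (Multiplicative.ofAdd 1, 1)
/-- The central involution of `D₈`. -/
def c₀ : P := (1, DihedralGroup.r 2)

theorem F1' : ∀ x : P, x = 1 ∨ x = u₀ ∨ x = c₀ ∨ x = u₀ * c₀ ∨ x * x ≠ 1 ∨
    ∃ y : P, x * y ≠ y * x := by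
  decide

theorem F2 : ∀ y : P, y * y = 1 ∨ y * y = c₀ := by decide

theorem F3 : ((1, DihedralGroup.r 1) : P) * (1, DihedralGroup.r 1) = c₀ := by decide

theorem F4 : ∀ y : P, u₀ * y = y * u₀ := by decide

theorem F5 : u₀ * u₀ = 1 ∧ c₀ * c₀ = 1 ∧ u₀ ≠ 1 ∧ c₀ ≠ 1 ∧ u₀ ≠ c₀ := by decide

theorem aut_sq_fix (β : P ≃* P) : β (β u₀) = u₀ := by
  have hc : β c₀ = c₀ := by
    rcases F2 (β (1, DihedralGroup.r 1)) with h | h
    · exfalso
      rw [← map_mul, F3] at h
      have : β c₀ = β 1 := by rw [h, map_one]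
      exact F5.2.2.2.1 (β.injective this)
    · rw [← map_mul, F3] at h
      exact h
  have hu : β u₀ = u₀ ∨ β u₀ = u₀ * c₀ := by
    rcases F1' (β u₀) with h | h | h | h | h | h
    · exfalso
      have : β u₀ = β 1 := by rw [h, map_one]
      exact F5.2.2.1 (β.injective this)
    · exact Or.inl h
    · exfalso
      rw [← hc] at h
      exact F5.2.2.2.2 (β.injective h)
    · exact Or.inr h
    · exfalso
      apply h
      rw [← map_mul, F5.1, map_one]
    · exfalso
      obtain ⟨y, hy⟩ := h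
      apply hy
      obtain ⟨y', rfl⟩ := β.surjective y
      rw [← map_mul, ← map_mul, F4]
  rcases hu with h | h
  · rw [h, h]
  · rw [h, map_mul, h, hc, mul_assoc, F5.2.1, mul_one]

/-- A finite group whose Sylow 2-subgroups are isomorphic to the direct product of a group of order 2 and a dihedral group of order 8 has a subgroup of index two. -/
theorem result {G : Type*} [Group G] [Finite G] (S : Sylow 2 G) (hS : Nonempty (↥(S : Subgroup G) ≃* Multiplicative (ZMod 2) × DihedralGroup 4)) : ∃ H : Subgroup G, H.index = 2 := by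
  classical
  obtain ⟨e⟩ := hS
  set u : G := ((e.symm u₀ : ↥(S : Subgroup G)) : G) with hu
  have huS : u ∈ (S : Subgroup G) := (e.symm u₀).2
  have huu : u * u = 1 := by
    have : e.symm u₀ * e.symm u₀ = 1 := by rw [← map_mul, F5.1, map_one]
    exact congrArg Subtype.val this
  have huC : ∀ s ∈ (S : Subgroup G), s * u = u * s := by
    intro s hs
    have h1 := F4 (e ⟨s, hs⟩)
    have h2 : e.symm u₀ * ⟨s, hs⟩ = ⟨s, hs⟩ * e.symm u₀ := by
      apply e.injective
      rw [map_mul, map_mul, e.apply_symm_apply]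
      exact h1
    exact (congrArg Subtype.val h2).symm
  set f : ↥(S : Subgroup G) →* Multiplicative (ZMod 2) :=
    (MonoidHom.fst _ _).comp e.toMonoidHom with hf
  have hfsurj : Function.Surjective f := by
    intro a
    refine ⟨e.symm (a, 1), ?_⟩
    show (e (e.symm (a, 1))).1 = a
    rw [e.apply_symm_apply]
  have hidx : Nat.card (↥(S : Subgroup G) ⧸ f.ker) = 2 := by
    rw [Nat.card_congr (QuotientGroup.quotientKerEquivOfSurjective f hfsurj).toEquiv]
    simp [Nat.card_eq_fintype_card]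
  have huM : (⟨u, huS⟩ : ↥(S : Subgroup G)) ∉ f.ker := by
    rw [MonoidHom.mem_ker]
    show (e (e.symm u₀)).1 ≠ 1
    rw [e.apply_symm_apply]
    decide
  have hact : ∀ g ∈ Subgroup.normalizer ((S : Subgroup G) : Set G), g * u * g⁻¹ = u := by
    intro g hg
    set γ : MulAut ↥(S : Subgroup G) := Cfsg.Agent.Lib.Helper7.conjKHom (S : Subgroup G) ⟨g, hg⟩
      with hγdef
    have hγ : ∀ s : ↥(S : Subgroup G), ((γ s : ↥(S : Subgroup G)) : G) = g * s * g⁻¹ :=
      fun s => Cfsg.Agent.Lib.Helper7.conjKHom_apply_coe (S : Subgroup G) ⟨g, hg⟩ s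
    have h1 := aut_sq_fix (e.symm.trans (γ.trans e))
    have h2 : γ (γ (e.symm u₀)) = e.symm u₀ := by
      apply e.injective
      rw [e.apply_symm_apply]
      have : (e.symm.trans (γ.trans e)) ((e.symm.trans (γ.trans e)) u₀) = e (γ (γ (e.symm u₀))) := by
        simp
      rw [← this]
      exact h1
    have h3 : g * (g * u * g⁻¹) * g⁻¹ = u := by
      have := congrArg Subtype.val h2
      rw [hγ, hγ] at this
      exact this
    -- `g ^ 2` commutes with `u`
    have h4 : Commute (g ^ 2) u := by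
      show g ^ 2 * u = u * g ^ 2
      calc g ^ 2 * u = g * (g * u * g⁻¹) * g⁻¹ * g ^ 2 := by rw [pow_two]; group
        _ = u * g ^ 2 := by rw [h3]
    -- a power of `g` with odd exponent lies in `S`
    set N := Subgroup.normalizer ((S : Subgroup G) : Set G) with hN
    haveI : ((S : Subgroup G).subgroupOf N).Normal := Subgroup.normal_in_normalizer
    have h5 := Subgroup.pow_index_mem ((S : Subgroup G).subgroupOf N) (⟨g, hg⟩ : ↥N)
    rw [Subgroup.mem_subgroupOf] at h5
    have h6 : ¬ 2 ∣ ((S : Subgroup G).subgroupOf N).index := by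
      intro h
      apply S.not_dvd_index
      exact dvd_trans h (Subgroup.relIndex_dvd_index_of_le Subgroup.le_normalizer)
    set n := ((S : Subgroup G).subgroupOf N).index with hn
    have h7 : Commute (g ^ n) u := by
      have : ((⟨g, hg⟩ : ↥N) ^ n : ↥N) = (⟨g ^ n, N.pow_mem hg n⟩ : ↥N) := rfl
      rw [this] at h5
      exact huC _ h5
    obtain ⟨k, hk⟩ : ∃ k, n = 2 * k + 1 := ⟨n / 2, by omega⟩
    have h8 : g = g ^ n * ((g ^ 2) ^ k)⁻¹ := by
      rw [hk, ← pow_mul, pow_succ]
      group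
    have h9 : Commute g u := by
      rw [h8]
      exact h7.mul_left ((h4.pow_left k).inv_left)
    rw [h9.eq]
    group
  obtain ⟨K, _, hKi, _⟩ := Cfsg.Agent.S2872.exists_index_two S f.ker hidx u huS huC huu huM hact
  exact ⟨K, hKi⟩

end Cfsg.Agent.S2911
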