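import Mathlib
import Cfsg.Statements.S2912
import Cfsg.Agent.Lib.Lead.ES2

set_option autoImplicit false

open Cfsg

namespace Cfsg.Agent.S2912

theorem result {G : Type*} [Group G] [Finite G] {p r : ℕ} [Fact p.Prime] [hr : Fact r.Prime] (hpr : p ≠ r) (E A : Subgroup G) (w : ℕ) (hE : Cfsg.IsExtraspecial p ↥E) (hEcard : Nat.card ↥E = p ^ (2 * w + 1)) (hA : Cfsg.IsElementaryAbelian r A) (hnorm : E ≤ Subgroup.normalizer (A : Set G)) (hfaith : E ⊓ Subgroup.centralizer (A : Set G) = ⊥) (n : ℕ) (hn : 1 ≤ n) (hdiv : p ∣ r ^ n - 1) (hmin : ∀ k : ℕ, 1 ≤ k → p ∣ r ^ k - 1 → n ≤ k) : r ^ (n * p ^ w) ≤ Nat.card ↥A := by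
  exact Cfsg.Agent.Lib.Lead.ES.extraspecial_module_bound hpr E A w hE hEcard hA hnorm hfaith n hmin

end Cfsg.Agent.S2912
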