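import Cfsg.Statements.S2916
-- import your own Cfsg.Agent.* helpers here
import Cfsg.Agent.Lib.Helper8.GlM
import Cfsg.Agent.Lib.Helper8.Gl2D
import Cfsg.Agent.Lib.Helper9.Gl23A
import Cfsg.Agent.Lib.Helper9.Ix13E
import Cfsg.Agent.Lib.Helper8.Pg3H
import Cfsg.Agent.S0420
import Cfsg.Agent.Lib.Helper5.NSE.M11Main

set_option autoImplicit false
open Cfsg

namespace Cfsg.Agent.S2916

/-- Let G be a finite group with O²(G) = G (no proper normal subgroup of 2-power index), and let t be an involution of G whose centralizer C_G(t) is isomorphic to GL₂(3). Then G is isomorphic to PSL₃(3) or to the Mathieu group M₁₁. -/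
theorem result {G : Type*} [Group G] [Finite G] (hO : Cfsg.pResidual 2 G = ⊤) (t : G) (ht : orderOf t = 2) (hC : Nonempty (↥(Subgroup.centralizer ({t} : Set G)) ≃* GL (Fin 2) (ZMod 3))) : (∃ (F : Type) (_ : Field F) (_ : Fintype F), Fintype.card F = 3 ∧ Nonempty (G ≃* Matrix.ProjectiveSpecialLinearGroup (Fin 3) F)) ∨ Cfsg.Spor.IsoM11 G := by
  obtain ⟨e⟩ := hC
  obtain ⟨v, y, hv4, hy3, ov, oy, ct, cv, cu, cy, v3, v5, v7, y5, hN⟩ :=
    Cfsg.Agent.Lib.Helper9.Gl23.gl23_local t ht e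
  have L : Cfsg.Agent.Lib.Helper8.Gl.Loc G t v y :=
    ⟨hv4, hy3, ov, oy, ct, cv, cu, cy, v3, v5, v7, y5⟩
  have hs : IsSimpleGroup G := Cfsg.Agent.Lib.Helper8.Gl2.simple_of_local L e hO
  rcases Cfsg.Agent.Lib.Helper8.Gl.main_of_local t
    ⟨v, y, hv4, hy3, ov, oy, ct, cv, cu, cy, v3, v5, v7, y5, hN⟩ with h | h
  · left
    have hconj : ∀ s : G, orderOf s = 2 → IsConj s t :=
      fun s hs2 => Cfsg.Agent.Lib.Helper8.Gl2.Loc.isConj_of_orderOf_two L hO s hs2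
    obtain ⟨D, hD, hD3, hCD, hND⟩ := Cfsg.Agent.Lib.Helper9.Ix13.exists_index13 h t ht e hconj
    have hiso : Nonempty (G ≃* Matrix.ProjectiveSpecialLinearGroup (Fin 3) (ZMod 3)) :=
      Cfsg.Agent.Lib.Helper8.Pg3.iso_psl33 h D hD hD3 hCD hND
    exact ⟨ZMod 3, inferInstance, inferInstance, ZMod.card 3, hiso⟩
  · right
    have hM : Cfsg.IsM11 G := ⟨hs, h⟩
    obtain ⟨e'⟩ := Cfsg.Agent.S0420.result hM _ Cfsg.Agent.Lib.Helper9.M24P6.sq_mem _
      Cfsg.Agent.Lib.Helper9.M24P6.zero_mem_sq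
    exact ⟨e'.trans Cfsg.Agent.Lib.Helper2.M11Fus.eM11.symm⟩

end Cfsg.Agent.S2916
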