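import Cfsg.Statements.S2923
import Cfsg.Agent.Lib.Helper7.CharP

set_option autoImplicit false
open Cfsg

namespace Cfsg.Agent.S2923

open Cfsg.Agent.Lib.Helper7

/-- Let p be a prime and X a finite group of characteristic p, that is C_X(O_p(X)) ≤ O_p(X). Then every subnormal subgroup of X has characteristic p. -/
theorem result {X : Type*} [Group X] [Finite X] {p : ℕ} [Fact p.Prime] (hX : Subgroup.centralizer (Cfsg.pCore p X : Set X) ≤ Cfsg.pCore p X) (Y : Subgroup X) (hY : Y.IsSubnormal) : Subgroup.centralizer (Cfsg.pCore p ↥Y : Set ↥Y) ≤ Cfsg.pCore p ↥Y := by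
  rw [← charPIn_iff]
  induction hY with
  | top =>
    have hRn : (Cfsg.pCore p X).Normal := pCore_normal p X
    exact charPIn_of_normalized (Cfsg.pCore p X) ⊤ (pCore_isPGroup p X)
      (by rw [Subgroup.normalizer_eq_top]) (by rw [Subgroup.normalizer_eq_top]; exact le_top)
      (inf_le_right.trans hX)
  | step H K hHK _ hN ih =>
    have h1 : K ≤ Subgroup.normalizer (H : Set X) :=
      (Subgroup.normal_subgroupOf_iff_le_normalizer hHK).mp hN
    apply charPIn_of_normalized (pCoreIn p K) H (pCoreIn_isPGroup p K)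
      (hHK.trans (le_normalizer_pCoreIn p K)) ((pCoreIn_le p K).trans h1)
    exact (inf_le_inf_right _ hHK).trans ih

end Cfsg.Agent.S2923
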