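import Cfsg.Statements.S2925
import Cfsg.Agent.Lib.Helper7.WeaklyClosed
import Cfsg.Agent.Lib.Helper2.Components
import Cfsg.Agent.Lib.Helper2.Components2
import Cfsg.Agent.Lib.Helper1.SubnormalSylow

set_option autoImplicit false
open Cfsg

namespace Cfsg.Agent.S2925

open Cfsg.Agent.Lib.Helper7

/-- Let K be a component of the finite group X and T a Sylow 2-subgroup of X. If some abelian normal subgroup Y of T does not normalize K, then K ⧸ Z(K) has abelian Sylow 2-subgroups. -/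
theorem result {X : Type*} [Group X] [Finite X] (K : Subgroup X) (hK : Cfsg.IsComponent K) (T : Sylow 2 X) (Y : Subgroup X) (hYT : Y ≤ (T : Subgroup X)) (hYn : (Y.subgroupOf (T : Subgroup X)).Normal) (hYab : IsMulCommutative ↥Y) (hnot : ¬ Y ≤ Subgroup.normalizer (K : Set X)) (P : Sylow 2 (↥K ⧸ Subgroup.center ↥K)) : IsMulCommutative ↥(P : Subgroup (↥K ⧸ Subgroup.center ↥K)) := by
  classical
  -- an element of Y moving K
  have hex : ∃ y ∈ Y, y ∉ Subgroup.normalizer (K : Set X) := by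
    by_contra h
    push Not at h
    exact hnot h
  obtain ⟨y, hyY, hyN⟩ := hex
  have hne : K.map (MulAut.conj y).toMonoidHom ≠ K := fun h =>
    hyN ((map_conj_eq_self_iff K y).mp h)
  have hKy : Cfsg.IsComponent (K.map (MulAut.conj y).toMonoidHom) :=
    Cfsg.Agent.Lib.Helper2.isComponent_conj y hK
  have hcomm : ⁅K.map (MulAut.conj y).toMonoidHom, K⁆ = ⊥ := by
    rcases Cfsg.Agent.Lib.Helper2.isComponent_eq_or_commutator_eq_bot hKy hK with h | h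
    · exact absurd h hne
    · exact h
  have hcent : K.map (MulAut.conj y).toMonoidHom ≤ Subgroup.centralizer (K : Set X) :=
    Subgroup.commutator_eq_bot_iff_le_centralizer.mp hcomm
  -- the key commutation relation
  have key : ∀ t₁ ∈ (T : Subgroup X) ⊓ K, ∀ t₂ ∈ (T : Subgroup X) ⊓ K, ∀ k ∈ K,
      k * ((t₂ * t₁)⁻¹ * (t₁ * t₂)) = (t₂ * t₁)⁻¹ * (t₁ * t₂) * k := by
    intro t₁ ht₁ t₂ ht₂ k hk
    obtain ⟨ht₁T, ht₁K⟩ := Subgroup.mem_inf.mp ht₁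
    obtain ⟨ht₂T, ht₂K⟩ := Subgroup.mem_inf.mp ht₂
    have hc : ∀ t ∈ K, y * t⁻¹ * y⁻¹ ∈ Subgroup.centralizer (K : Set X) := fun t ht =>
      hcent ⟨t⁻¹, K.inv_mem ht, rfl⟩
    have hYmem : ∀ t ∈ (T : Subgroup X), t * (y * t⁻¹ * y⁻¹) ∈ Y := by
      intro t ht
      have h1 : t * y * t⁻¹ ∈ Y := by
        have := hYn.conj_mem ⟨y, hYT hyY⟩ (Subgroup.mem_subgroupOf.mpr hyY) ⟨t, ht⟩
        exact Subgroup.mem_subgroupOf.mp this
      have h2 := Y.mul_mem h1 (Y.inv_mem hyY)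
      have e : t * (y * t⁻¹ * y⁻¹) = t * y * t⁻¹ * y⁻¹ := by group
      rw [e]; exact h2
    set c₁ := y * t₁⁻¹ * y⁻¹ with hc₁
    set c₂ := y * t₂⁻¹ * y⁻¹ with hc₂
    have hab : (t₁ * c₁) * (t₂ * c₂) = (t₂ * c₂) * (t₁ * c₁) := by
      have := mul_comm' (⟨t₁ * c₁, hYmem t₁ ht₁T⟩ : ↥Y) ⟨t₂ * c₂, hYmem t₂ ht₂T⟩
      exact congrArg Subtype.val this
    have hc₁K : ∀ k ∈ K, k * c₁ = c₁ * k := fun k hk =>
      Subgroup.mem_centralizer_iff.mp (hc t₁ ht₁K) k hk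
    have hc₂K : ∀ k ∈ K, k * c₂ = c₂ * k := fun k hk =>
      Subgroup.mem_centralizer_iff.mp (hc t₂ ht₂K) k hk
    -- w = (t₂ t₁)⁻¹ (t₁ t₂) = c₂ c₁ (c₁ c₂)⁻¹
    have hw : (t₂ * t₁)⁻¹ * (t₁ * t₂) = c₂ * c₁ * (c₁ * c₂)⁻¹ := by
      have h1 : t₁ * t₂ * (c₁ * c₂) = t₂ * t₁ * (c₂ * c₁) := by
        calc t₁ * t₂ * (c₁ * c₂) = t₁ * (t₂ * c₁) * c₂ := by group
          _ = t₁ * (c₁ * t₂) * c₂ := by rw [hc₁K t₂ ht₂K]
          _ = (t₁ * c₁) * (t₂ * c₂) := by group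
          _ = (t₂ * c₂) * (t₁ * c₁) := hab
          _ = t₂ * (c₂ * t₁) * c₁ := by group
          _ = t₂ * (t₁ * c₂) * c₁ := by rw [hc₂K t₁ ht₁K]
          _ = t₂ * t₁ * (c₂ * c₁) := by group
      calc (t₂ * t₁)⁻¹ * (t₁ * t₂) = (t₂ * t₁)⁻¹ * (t₁ * t₂ * (c₁ * c₂)) * (c₁ * c₂)⁻¹ := by group
        _ = (t₂ * t₁)⁻¹ * (t₂ * t₁ * (c₂ * c₁)) * (c₁ * c₂)⁻¹ := by rw [h1]
        _ = c₂ * c₁ * (c₁ * c₂)⁻¹ := by group
    rw [hw]
    have hcK : c₂ * c₁ * (c₁ * c₂)⁻¹ ∈ Subgroup.centralizer (K : Set X) :=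
      Subgroup.mul_mem _ (Subgroup.mul_mem _ (hc t₂ ht₂K) (hc t₁ ht₁K))
        (Subgroup.inv_mem _ (Subgroup.mul_mem _ (hc t₁ ht₁K) (hc t₂ ht₂K)))
    exact Subgroup.mem_centralizer_iff.mp hcK k hk
  -- the Sylow subgroup of K / Z(K) coming from T ∩ K
  obtain ⟨Q, hQ⟩ := Cfsg.Agent.Lib.Helper1.subnormal_inf_sylow 2 K hK.1 T
  set π := QuotientGroup.mk' (Subgroup.center ↥K) with hπ
  have hπs : Function.Surjective π := QuotientGroup.mk'_surjective _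
  set P₀ : Sylow 2 (↥K ⧸ Subgroup.center ↥K) := Q.mapSurjective hπs with hP₀
  have hP₀c : ∀ a b : ↥(P₀ : Subgroup (↥K ⧸ Subgroup.center ↥K)), a * b = b * a := by
    rintro ⟨a, ha⟩ ⟨b, hb⟩
    apply Subtype.ext
    rw [hP₀, Sylow.coe_mapSurjective] at ha hb
    obtain ⟨s₁, hs₁, rfl⟩ := ha
    obtain ⟨s₂, hs₂, rfl⟩ := hb
    show π s₁ * π s₂ = π s₂ * π s₁
    rw [← map_mul, ← map_mul, hπ, QuotientGroup.mk'_apply, QuotientGroup.mk'_apply, eq_comm,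
      QuotientGroup.eq, Subgroup.mem_center_iff]
    intro k
    apply Subtype.ext
    have hs₁' : (s₁ : X) ∈ (T : Subgroup X) ⊓ K := by
      have : s₁ ∈ (Q : Subgroup ↥K) := hs₁
      rw [hQ] at this
      exact Subgroup.mem_inf.mpr ⟨Subgroup.mem_subgroupOf.mp this, s₁.2⟩
    have hs₂' : (s₂ : X) ∈ (T : Subgroup X) ⊓ K := by
      have : s₂ ∈ (Q : Subgroup ↥K) := hs₂
      rw [hQ] at this
      exact Subgroup.mem_inf.mpr ⟨Subgroup.mem_subgroupOf.mp this, s₂.2⟩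
    have := key s₁ hs₁' s₂ hs₂' k k.2
    simpa using this
  have e := Sylow.equiv P₀ P
  refine ⟨⟨fun a b => ?_⟩⟩
  have h1 := hP₀c (e.symm a) (e.symm b)
  have h2 := congrArg e h1
  simpa using h2

end Cfsg.Agent.S2925
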