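import Cfsg.Statements.S2929
import Cfsg.Agent.Lib.Helper2.AltOver2
import Cfsg.Agent.Lib.Helper2.Components
import Cfsg.Agent.Lib.Helper8.FStar

set_option autoImplicit false
set_option maxHeartbeats 1000000
set_option linter.unusedVariables false
set_option linter.style.longLine false
set_option linter.unusedSimpArgs false
set_option linter.deprecated false
set_option linter.style.haveILetI false
open Cfsg

namespace Cfsg.Agent.S2929

open Equiv Equiv.Perm
open Cfsg.Agent.Lib.Helper2.AltOver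

/-- Let n ≥ 5 and let H be a subgroup of the symmetric group of degree n whose generalized Fitting subgroup F*(H) is quasisimple. If H contains a Sylow 3-subgroup of the symmetric group, then F*(H) is isomorphic to an alternating group of degree m for some m ∈ {n − 2, n − 1, n}. -/
theorem result (n : ℕ) (hn : 5 ≤ n) (H : Subgroup (Equiv.Perm (Fin n))) (hF : Cfsg.IsQuasisimple ↥(Cfsg.generalizedFittingSubgroup ↥H)) (hS : ∃ P : Sylow 3 (Equiv.Perm (Fin n)), (P : Subgroup (Equiv.Perm (Fin n))) ≤ H) : ∃ m : ℕ, (m = n - 2 ∨ m = n - 1 ∨ m = n) ∧ Nonempty (↥(Cfsg.generalizedFittingSubgroup ↥H) ≃* ↥(alternatingGroup (Fin m))) := by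
  obtain ⟨P, hPH⟩ := hS
  haveI : Fact (Nat.Prime 3) := ⟨Nat.prime_three⟩
  have inv_app : ∀ (f : Perm (Fin n)) (x : Fin n), f⁻¹ (f x) = x := fun f x => by simp
  have app_inv : ∀ (f : Perm (Fin n)) (x : Fin n), f (f⁻¹ x) = x := fun f x => by simp
  haveI hFsn : (Cfsg.generalizedFittingSubgroup ↥H).Normal :=
    Cfsg.Agent.Lib.Helper8.generalizedFittingSubgroup_normal
  obtain ⟨K, hK⟩ : ∃ K : Subgroup (Perm (Fin n)),
      K = (Cfsg.generalizedFittingSubgroup ↥H).map H.subtype := ⟨_, rfl⟩
  have hKH : K ≤ H := by rw [hK]; exact Subgroup.map_subtype_le _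
  have hmemK : ∀ g : Perm (Fin n), g ∈ K ↔
      ∃ h : g ∈ H, (⟨g, h⟩ : H) ∈ Cfsg.generalizedFittingSubgroup ↥H := by
    intro g; rw [hK, Subgroup.mem_map]
    constructor
    · rintro ⟨x, hx, rfl⟩; exact ⟨x.2, hx⟩
    · rintro ⟨h, hx⟩; exact ⟨⟨g, h⟩, hx, rfl⟩
  have hKn : ∀ h ∈ H, ∀ k ∈ K, h * k * h⁻¹ ∈ K := by
    intro h hh k hk
    obtain ⟨hkH, hkF⟩ := (hmemK k).mp hk
    rw [hmemK]
    refine ⟨H.mul_mem (H.mul_mem hh hkH) (H.inv_mem hh), ?_⟩
    exact hFsn.conj_mem ⟨k, hkH⟩ hkF ⟨h, hh⟩
  have hKp : ⁅K, K⁆ = K := by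
    have h1 : ⁅Cfsg.generalizedFittingSubgroup ↥H, Cfsg.generalizedFittingSubgroup ↥H⁆ =
        Cfsg.generalizedFittingSubgroup ↥H := by
      haveI := hF.1
      exact Subgroup.isPerfect_iff.mp inferInstance
    rw [hK, ← Subgroup.map_commutator, h1]
  have hKq : ∀ X : Subgroup (Perm (Fin n)), X ≤ K → (∀ k ∈ K, ∀ x ∈ X, k * x * k⁻¹ ∈ X) →
      X = K ∨ ∀ x ∈ X, ∀ k ∈ K, k * x = x * k := by
    intro X hXK hXn
    haveI hX'n : (X.comap (H.subtype.comp (Cfsg.generalizedFittingSubgroup ↥H).subtype)).Normal := by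
      constructor
      intro y hy g
      rw [Subgroup.mem_comap] at hy ⊢
      rw [map_mul, map_mul, map_inv]
      apply hXn _ _ _ hy
      rw [hmemK]
      exact ⟨g.1.2, g.2⟩
    rcases Cfsg.Agent.Lib.Helper2.isQuasisimple_normal_eq_top_or_le_center hF
      (X.comap (H.subtype.comp (Cfsg.generalizedFittingSubgroup ↥H).subtype)) with h | h
    · left
      refine le_antisymm hXK ?_
      intro k hk
      obtain ⟨hkH, hkF⟩ := (hmemK k).mp hk
      have : (⟨⟨k, hkH⟩, hkF⟩ : ↥(Cfsg.generalizedFittingSubgroup ↥H)) ∈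
          X.comap (H.subtype.comp (Cfsg.generalizedFittingSubgroup ↥H).subtype) := by
        rw [h]; trivial
      exact this
    · right
      intro x hx k hk
      obtain ⟨hkH, hkF⟩ := (hmemK k).mp hk
      obtain ⟨hxH, hxF⟩ := (hmemK x).mp (hXK hx)
      have hxc : (⟨⟨x, hxH⟩, hxF⟩ : ↥(Cfsg.generalizedFittingSubgroup ↥H)) ∈
          Subgroup.center ↥(Cfsg.generalizedFittingSubgroup ↥H) := h hx
      have := Subgroup.mem_center_iff.mp hxc ⟨⟨k, hkH⟩, hkF⟩
      exact congrArg (fun y : ↥(Cfsg.generalizedFittingSubgroup ↥H) => ((y : ↥H) : Perm (Fin n))) this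
  have hKc : ∀ h ∈ H, (∀ k ∈ K, k * h = h * k) → h ∈ K := by
    intro h hh hcen
    rw [hmemK]
    refine ⟨hh, ?_⟩
    apply Cfsg.Agent.Lib.Helper8.centralizer_generalizedFittingSubgroup_le (G := ↥H)
    rw [Subgroup.mem_centralizer_iff]
    intro y hy
    apply Subtype.ext
    exact hcen y.1 ((hmemK y.1).mpr ⟨y.2, hy⟩)
  have hK1 : K ≠ ⊥ := by
    intro hbot
    haveI := hF.2
    obtain ⟨a, ha⟩ := exists_ne (1 : ↥(Cfsg.generalizedFittingSubgroup ↥H) ⧸
      Subgroup.center ↥(Cfsg.generalizedFittingSubgroup ↥H))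
    obtain ⟨x, rfl⟩ := QuotientGroup.mk_surjective a
    apply ha
    have hxK : ((x : ↥H) : Perm (Fin n)) ∈ K := (hmemK _).mpr ⟨x.1.2, x.2⟩
    rw [hbot, Subgroup.mem_bot] at hxK
    have : x = 1 := by
      apply Subtype.ext; apply Subtype.ext; exact hxK
    rw [this]; rfl
  -- a 3-cycle in H
  have h3 : ∀ c : Perm (Fin n), c.IsThreeCycle → IsPGroup 3 (Subgroup.zpowers c) := by
    intro c hc
    apply IsPGroup.of_card (n := 1)
    rw [Nat.card_zpowers, hc.orderOf, pow_one]
  obtain ⟨c0, hc0, hc0H⟩ : ∃ c0 : Perm (Fin n), c0.IsThreeCycle ∧ c0 ∈ H := by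
    have h01 : (⟨0, by omega⟩ : Fin n) ≠ ⟨1, by omega⟩ := by
      intro h; simp [Fin.ext_iff] at h
    have h02 : (⟨0, by omega⟩ : Fin n) ≠ ⟨2, by omega⟩ := by
      intro h; simp [Fin.ext_iff] at h
    have h12 : (⟨1, by omega⟩ : Fin n) ≠ ⟨2, by omega⟩ := by
      intro h; simp [Fin.ext_iff] at h
    have hc1 := isThreeCycle_swap_mul_swap_same h01 h02 h12
    obtain ⟨g, hg⟩ := exists_conj_mem_sylow P _ (h3 _ hc1)
    refine ⟨_, ?_, hPH hg⟩
    unfold IsThreeCycle
    rw [cycleType_conj]; exact hc1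
  obtain ⟨hc0K, Δ, h5, hKΔ, hmove⟩ := main_of_three_cycle hKH hKn hKp hKq hKc hK1 hc0 hc0H
  have hall : ∀ c ∈ H, c.IsThreeCycle → c ∈ K := fun c hcH hc =>
    (main_of_three_cycle hKH hKn hKp hKq hKc hK1 hc hcH).1
  have hKsupp : ∀ f ∈ K, f.support ⊆ Δ := by
    intro f hf
    rw [hKΔ] at hf
    obtain ⟨g, _, rfl⟩ := hf
    intro x hx
    obtain ⟨h, _⟩ := (mem_support_ofSubtype x g).mp hx
    exact h
  -- H preserves Δ
  have hkey : ∀ h ∈ H, ∀ x ∈ Δ, h x ∈ Δ := by
    intro h hh x hx
    obtain ⟨k, hk, hkx⟩ := hmove x hx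
    apply hKsupp (h * k * h⁻¹) (hKn h hh k hk)
    rw [mem_support]
    simp only [Perm.mul_apply, inv_app]
    intro he
    exact hkx (h.injective he)
  -- the bound
  have hbound : n ≤ Δ.card + 2 := by
    by_contra hlt
    rw [not_le] at hlt
    have hcompl : 2 < Δᶜ.card := by
      rw [Finset.card_compl, Fintype.card_fin]; omega
    obtain ⟨x, hx, y, hy, z, hz, hxy, hxz, hyz⟩ := Finset.two_lt_card.mp hcompl
    rw [Finset.mem_compl] at hx hy hz
    have hc1 := isThreeCycle_swap_mul_swap_same hxy hxz hyz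
    -- the stabilizer of Δ
    let M : Subgroup (Perm (Fin n)) :=
      { carrier := {σ | ∀ w, σ w ∈ Δ ↔ w ∈ Δ}
        one_mem' := fun w => Iff.rfl
        mul_mem' := fun {a b} ha hb w => (ha (b w)).trans (hb w)
        inv_mem' := fun {a} ha w => by
          have := ha (a⁻¹ w)
          rw [app_inv] at this
          exact this.symm }
    have hmemM : ∀ σ : Perm (Fin n), σ ∈ M ↔ ∀ w, σ w ∈ Δ ↔ w ∈ Δ := fun σ => Iff.rfl
    have hHM : H ≤ M := by
      intro h hh
      rw [hmemM]
      intro w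
      constructor
      · intro hw
        have := hkey h⁻¹ (H.inv_mem hh) _ hw
        rwa [inv_app] at this
      · exact hkey h hh w
    have hc1fix : ∀ w, w ≠ x → w ≠ y → w ≠ z → (swap x y * swap x z) w = w := by
      intro w h1 h2 h3
      rw [Perm.mul_apply, swap_apply_of_ne_of_ne h1 h3, swap_apply_of_ne_of_ne h1 h2]
    have hc1M : swap x y * swap x z ∈ M := by
      rw [hmemM]
      intro w
      by_cases hw : w ∈ Δ
      · have e : (swap x y * swap x z) w = w :=
          hc1fix w (fun h => hx (h ▸ hw)) (fun h => hy (h ▸ hw)) (fun h => hz (h ▸ hw))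
        rw [e]
      · constructor
        · intro hcw
          exfalso
          by_cases hfix : (swap x y * swap x z) w = w
          · rw [hfix] at hcw; exact hw hcw
          · -- w is one of x y z, and so is its image
            have hwxyz : w = x ∨ w = y ∨ w = z := by
              by_contra hcon
              rw [not_or, not_or] at hcon
              exact hfix (hc1fix w hcon.1 hcon.2.1 hcon.2.2)
            have himg : ∀ v, (swap x y * swap x z) v ≠ x → (swap x y * swap x z) v ≠ y →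
                (swap x y * swap x z) v ≠ z → (swap x y * swap x z) v = v := by
              intro v h1 h2 h3
              have := hc1fix _ h1 h2 h3
              exact (swap x y * swap x z).injective this
            have hcwxyz : (swap x y * swap x z) w = x ∨ (swap x y * swap x z) w = y ∨
                (swap x y * swap x z) w = z := by
              by_contra hcon
              rw [not_or, not_or] at hcon
              exact hfix (himg w hcon.1 hcon.2.1 hcon.2.2)
            rcases hcwxyz with e | e | e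
            · rw [e] at hcw; exact hx hcw
            · rw [e] at hcw; exact hy hcw
            · rw [e] at hcw; exact hz hcw
        · intro h; exact (hw h).elim
    have hPM : (P : Subgroup (Perm (Fin n))) ≤ M := hPH.trans hHM
    have hc1p : IsPGroup 3 (Subgroup.zpowers (⟨swap x y * swap x z, hc1M⟩ : M)) := by
      apply IsPGroup.of_card (n := 1)
      rw [Nat.card_zpowers, Subgroup.orderOf_mk, hc1.orderOf, pow_one]
    obtain ⟨m, hm⟩ := exists_conj_mem_sylow (P.subtype hPM) _ hc1p
    rw [Sylow.coe_subtype, Subgroup.mem_subgroupOf] at hm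
    have hm' : (m : Perm (Fin n)) * (swap x y * swap x z) * (m : Perm (Fin n))⁻¹ ∈
        (P : Subgroup (Perm (Fin n))) := hm
    have h3c : ((m : Perm (Fin n)) * (swap x y * swap x z) * (m : Perm (Fin n))⁻¹).IsThreeCycle := by
      unfold IsThreeCycle
      rw [cycleType_conj]; exact hc1
    have hinK := hall _ (hPH hm') h3c
    have hsup := hKsupp _ hinK
    have hcx : (swap x y * swap x z) x = z := by
      rw [Perm.mul_apply, swap_apply_left, swap_apply_of_ne_of_ne hxz.symm hyz.symm]
    have hmx : (m : Perm (Fin n)) x ∈ Δ := by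
      apply hsup
      rw [mem_support]
      simp only [Perm.mul_apply, inv_app]
      have hcx' : swap x y (swap x z x) = z := hcx
      rw [hcx']
      intro he
      exact hxz ((m : Perm (Fin n)).injective he).symm
    exact hx (((hmemM _).mp m.2 x).mp hmx)
  -- the isomorphisms
  have hcard : Δ.card ≤ n := by
    have := Finset.card_le_univ Δ
    rwa [Fintype.card_fin] at this
  refine ⟨Δ.card, by omega, ⟨?_⟩⟩
  have e1 : ↥(Cfsg.generalizedFittingSubgroup ↥H) ≃* ↥K :=
    ((Cfsg.generalizedFittingSubgroup ↥H).equivMapOfInjective H.subtype H.subtype_injective).trans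
      (MulEquiv.subgroupCongr hK.symm)
  have e2 : ↥K ≃* ↥(alternatingGroup Δ) :=
    (MulEquiv.subgroupCongr hKΔ).trans
      ((alternatingGroup Δ).equivMapOfInjective (ofSubtype : Perm Δ →* Perm (Fin n))
        ofSubtype_injective).symm
  have e3 : ↥(alternatingGroup Δ) ≃* ↥(alternatingGroup (Fin Δ.card)) :=
    Equiv.altCongrHom (Fintype.equivFinOfCardEq (Fintype.card_coe Δ))
  exact (e1.trans e2).trans e3

end Cfsg.Agent.S2929
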