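import Cfsg.Statements.S2930
import Cfsg.Agent.Lib.Helper2.ThreeMin3
import Cfsg.Agent.Lib.Helper2.ThreeMinA
import Cfsg.Agent.Lib.Helper8.FStar

set_option autoImplicit false
set_option maxHeartbeats 1000000
set_option linter.unusedVariables false
set_option linter.style.longLine false
set_option linter.unusedSimpArgs false
set_option linter.deprecated false
set_option linter.style.haveILetI false
open Cfsg

namespace Cfsg.Agent.S2930

open Equiv Equiv.Perm
open Cfsg.Agent.Lib.Helper2.ThreeMin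

/-- Let X be a finite 3-minimal group (a Sylow 3-subgroup is not normal and lies in a unique maximal subgroup) whose generalized Fitting subgroup is isomorphic to an alternating group of degree n ≥ 5. Then X = F*(X), and n = 6, n = 9, or n = 3ᵃ + 1 for some a ≥ 2. -/
theorem result {X : Type*} [Group X] [Finite X] (hX : Cfsg.IsPMinimal 3 X) (n : ℕ) (hn : 5 ≤ n) (hF : Nonempty (↥(Cfsg.generalizedFittingSubgroup X) ≃* ↥(alternatingGroup (Fin n)))) : Cfsg.generalizedFittingSubgroup X = ⊤ ∧ (n = 6 ∨ n = 9 ∨ ∃ a : ℕ, 2 ≤ a ∧ n = 3 ^ a + 1) := by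
  classical
  haveI : Fact (Nat.Prime 3) := ⟨Nat.prime_three⟩
  obtain ⟨e⟩ := hF
  haveI hFn : (Cfsg.generalizedFittingSubgroup X).Normal :=
    Cfsg.Agent.Lib.Helper8.generalizedFittingSubgroup_normal
  have hcent : Subgroup.centralizer (Cfsg.generalizedFittingSubgroup X : Set X) ≤
      Cfsg.generalizedFittingSubgroup X :=
    Cfsg.Agent.Lib.Helper8.centralizer_generalizedFittingSubgroup_le
  have hcardn : 5 ≤ Fintype.card (Fin n) := by rw [Fintype.card_fin]; exact hn
  -- the action of `X` on `Alt(n)` by automorphisms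
  obtain ⟨Φ, hΦ⟩ : ∃ Φ : X →* MulAut (alternatingGroup (Fin n)),
      ∀ x g, Φ x g = e (MulAut.conjNormal x (e.symm g)) :=
    ⟨(MulAut.congr e).toMonoidHom.comp MulAut.conjNormal, fun x g => rfl⟩
  -- 3-elements lie in F
  have h3F : ∀ x : X, (∃ k : ℕ, x ^ (3 ^ k) = 1) → x ∈ Cfsg.generalizedFittingSubgroup X := by
    rintro x ⟨k, hk⟩
    have hφ : (Φ x) ^ (3 ^ k) = 1 := by rw [← map_pow, hk, map_one]
    obtain ⟨a, ha⟩ := inner_of_three_power hcardn (Φ x) k hφ
    obtain ⟨f, hf⟩ : ∃ f : ↥(Cfsg.generalizedFittingSubgroup X), f = e.symm a := ⟨_, rfl⟩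
    have hcen : (f : X)⁻¹ * x ∈
        Subgroup.centralizer (Cfsg.generalizedFittingSubgroup X : Set X) := by
      rw [Subgroup.mem_centralizer_iff]
      intro h hh
      have h1 := ha (e ⟨h, hh⟩)
      rw [hΦ, MulEquiv.symm_apply_apply] at h1
      have h2 : MulAut.conjNormal x ⟨h, hh⟩ = f * ⟨h, hh⟩ * f⁻¹ := by
        apply e.injective
        rw [h1, map_mul, map_mul, map_inv, hf, MulEquiv.apply_symm_apply]
      have h3 := congrArg (fun y : ↥(Cfsg.generalizedFittingSubgroup X) => (y : X)) h2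
      simp only [MulAut.conjNormal_apply, Subgroup.coe_mul, Subgroup.coe_inv] at h3
      have h4 : x * h = (f : X) * h * (f : X)⁻¹ * x := by rw [← h3]; group
      calc h * ((f : X)⁻¹ * x) = (f : X)⁻¹ * ((f : X) * h * (f : X)⁻¹ * x) := by group
        _ = (f : X)⁻¹ * (x * h) := by rw [h4]
        _ = (f : X)⁻¹ * x * h := by group
    have h5 := hcent hcen
    have h6 : x = (f : X) * ((f : X)⁻¹ * x) := by group
    rw [h6]
    exact (Cfsg.generalizedFittingSubgroup X).mul_mem f.2 h5
  -- a Sylow 3-subgroup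
  obtain ⟨S⟩ : Nonempty (Sylow 3 X) := inferInstance
  have hSF : (S : Subgroup X) ≤ Cfsg.generalizedFittingSubgroup X := by
    intro x hx
    apply h3F
    obtain ⟨k, hk⟩ := S.isPGroup' ⟨x, hx⟩
    exact ⟨k, by simpa using congrArg Subtype.val hk⟩
  obtain ⟨hSnn, M, ⟨hMco, hSM⟩, hMuniq⟩ := hX S
  have hprop : ∀ H : Subgroup X, (S : Subgroup X) ≤ H → H ≠ ⊤ → H ≤ M := by
    intro H hSH hH
    rcases eq_top_or_exists_le_coatom H with h | ⟨M', hM', hHM'⟩
    · exact absurd h hH
    · rw [← hMuniq M' ⟨hM', hSH.trans hHM'⟩]; exact hHM'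
  -- F = ⊤
  have hFtop : Cfsg.generalizedFittingSubgroup X = ⊤ := by
    by_contra hne
    have h1 : Cfsg.generalizedFittingSubgroup X ≤ M := hprop _ hSF hne
    have h2 : Subgroup.normalizer ((S : Subgroup X) : Set X) ≤ M := by
      apply hprop _ Subgroup.le_normalizer
      intro h
      exact hSnn (Subgroup.normalizer_eq_top_iff.mp h)
    have h3 := Sylow.normalizer_sup_eq_top (S.subtype hSF)
    rw [Sylow.coe_subtype, Subgroup.subgroupOf_map_subtype, inf_eq_left.mpr hSF] at h3
    have h4 : (⊤ : Subgroup X) ≤ M := by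
      rw [← h3]; exact sup_le h2 h1
    exact hMco.1 (top_le_iff.mp h4)
  refine ⟨hFtop, ?_⟩
  -- transfer to the alternating group
  have hmemF : ∀ x : X, x ∈ Cfsg.generalizedFittingSubgroup X := by
    intro x; rw [hFtop]; trivial
  obtain ⟨ψ, hψ⟩ : ∃ ψ : ↥(Cfsg.generalizedFittingSubgroup X) →* Perm (Fin n),
      ∀ y, ψ y = ((e y : alternatingGroup (Fin n)) : Perm (Fin n)) :=
    ⟨(alternatingGroup (Fin n)).subtype.comp e.toMonoidHom, fun y => rfl⟩
  have hψinj : Function.Injective ψ := by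
    intro y y' h
    rw [hψ, hψ] at h
    exact e.injective (Subtype.ext h)
  have hψA : ∀ y, ψ y ∈ alternatingGroup (Fin n) := by
    intro y; rw [hψ]; exact (e y).2
  have hψsurj : ∀ g ∈ alternatingGroup (Fin n), ∃ y, ψ y = g := by
    intro g hg
    refine ⟨e.symm ⟨g, hg⟩, ?_⟩
    rw [hψ, MulEquiv.apply_symm_apply]
  have hPA : ((S : Subgroup X).subgroupOf (Cfsg.generalizedFittingSubgroup X)).map ψ ≤
      alternatingGroup (Fin n) := by
    rintro g ⟨y, -, rfl⟩
    exact hψA y
  have hP3 : IsPGroup 3 ↥(((S : Subgroup X).subgroupOf (Cfsg.generalizedFittingSubgroup X)).map ψ) :=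
    (S.isPGroup'.comap_subtype).map ψ
  have hMne : ¬ alternatingGroup (Fin n) ≤
      (M.subgroupOf (Cfsg.generalizedFittingSubgroup X)).map ψ := by
    intro hle
    apply hMco.1
    rw [eq_top_iff]
    intro x _
    obtain ⟨y, hy, hyx⟩ := hle (hψA ⟨x, hmemF x⟩)
    have := hψinj hyx
    rw [this] at hy
    exact Subgroup.mem_subgroupOf.mp hy
  have hmax : ∀ H : Subgroup (Perm (Fin n)),
      ((S : Subgroup X).subgroupOf (Cfsg.generalizedFittingSubgroup X)).map ψ ≤ H →
      H ≤ alternatingGroup (Fin n) → H ≠ alternatingGroup (Fin n) →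
      H ≤ (M.subgroupOf (Cfsg.generalizedFittingSubgroup X)).map ψ := by
    intro H hPH hHA hHne
    have hS0 : (S : Subgroup X) ≤ (H.comap ψ).map (Cfsg.generalizedFittingSubgroup X).subtype := by
      intro x hx
      refine ⟨⟨x, hSF hx⟩, ?_, rfl⟩
      rw [SetLike.mem_coe, Subgroup.mem_comap]
      apply hPH
      exact ⟨⟨x, hSF hx⟩, Subgroup.mem_subgroupOf.mpr hx, rfl⟩
    have hne0 : (H.comap ψ).map (Cfsg.generalizedFittingSubgroup X).subtype ≠ ⊤ := by
      intro htop
      apply hHne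
      apply le_antisymm hHA
      intro g hg
      obtain ⟨y, hy⟩ := hψsurj g hg
      have hyt : (y : X) ∈ (H.comap ψ).map (Cfsg.generalizedFittingSubgroup X).subtype := by
        rw [htop]; trivial
      obtain ⟨y', hy', hyy'⟩ := hyt
      have : y' = y := Subtype.ext hyy'
      rw [this, SetLike.mem_coe, Subgroup.mem_comap, hy] at hy'
      exact hy'
    have hle0 := hprop _ hS0 hne0
    intro g hg
    obtain ⟨y, hy⟩ := hψsurj g (hHA hg)
    refine ⟨y, ?_, hy⟩
    rw [SetLike.mem_coe, Subgroup.mem_subgroupOf]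
    apply hle0
    refine ⟨y, ?_, rfl⟩
    rw [SetLike.mem_coe, Subgroup.mem_comap, hy]
    exact hg
  have hcore := core hPA hmax hP3 hMne hcardn
  rw [Fintype.card_fin] at hcore
  exact hcore

end Cfsg.Agent.S2930
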