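import Cfsg.Statements.S2933
import Cfsg.Agent.Lib.Helper7.R33g

set_option autoImplicit false
open Cfsg

namespace Cfsg.Agent.S2933

/-- Let T be a 2-subgroup of a finite group G, V ≤ Z(T) a four-group, and t, ρ ∈ N_G(V) ∩ N_G(T) elements of order 2 and 3 with t commuting with ρ and with V. If [V, ρ] = V and C_T(t) = V, then T is elementary abelian of order 16, or homocyclic of rank 2 (ℤ/2ⁿ × ℤ/2ⁿ for some n ≥ 1), or isomorphic to a Sylow 2-subgroup of PSL₃(4) or of PSU₃(4). -/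
theorem result {G : Type*} [Group G] [Finite G] (T V : Subgroup G) (hT : IsPGroup 2 ↥T) (hVT : V ≤ T ⊓ Subgroup.centralizer (T : Set G)) (hV : Nat.card ↥V = 4 ∧ ∀ v ∈ V, v ^ 2 = 1) (t ρ : G) (ht : orderOf t = 2) (hρ : orderOf ρ = 3) (htn : t ∈ Subgroup.normalizer (V : Set G) ⊓ Subgroup.normalizer (T : Set G)) (hρn : ρ ∈ Subgroup.normalizer (V : Set G) ⊓ Subgroup.normalizer (T : Set G)) (htρ : t * ρ = ρ * t) (htV : t ∈ Subgroup.centralizer (V : Set G)) (hVρ : ⁅V, Subgroup.zpowers ρ⁆ = V) (hCt : T ⊓ Subgroup.centralizer ({t} : Set G) = V) : (Nat.card ↥T = 16 ∧ ∀ x ∈ T, x ^ 2 = 1) ∨ (∃ n : ℕ, 1 ≤ n ∧ Nonempty (↥T ≃* Multiplicative (ZMod (2 ^ n)) × Multiplicative (ZMod (2 ^ n)))) ∨ (∃ (F : Type) (_ : Field F) (_ : Fintype F), Fintype.card F = 4 ∧ ∀ P : Sylow 2 (Matrix.ProjectiveSpecialLinearGroup (Fin 3) F), Nonempty (↥T ≃* ↥(P : Subgroup (Matrix.ProjectiveSpecialLinearGroup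 (Fin 3) F)))) ∨ (∃ (F : Type) (_ : Field F) (_ : Fintype F), Fintype.card F = 16 ∧ ∀ P : Sylow 2 (Cfsg.PSU 3 F 4), Nonempty (↥T ≃* ↥(P : Subgroup (Cfsg.PSU 3 F 4)))) := by
  classical
  have : Fact (Nat.Prime 2) := ⟨Nat.prime_two⟩
  have htT : t ∈ Subgroup.normalizer (T : Set G) := (Subgroup.mem_inf.mp htn).2
  have hρT : ρ ∈ Subgroup.normalizer (T : Set G) := (Subgroup.mem_inf.mp hρn).2
  have hρV : ρ ∈ Subgroup.normalizer (V : Set G) := (Subgroup.mem_inf.mp hρn).1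
  have hρ3 : ρ ^ 3 = 1 := by rw [← hρ]; exact pow_orderOf_eq_one ρ
  have ht2 : t ^ 2 = 1 := by rw [← ht]; exact pow_orderOf_eq_one t
  have hρ3' : ρ * ρ * ρ = 1 := by rw [pow_succ, pow_two] at hρ3; exact hρ3
  have ht2' : t * t = 1 := by rw [pow_two] at ht2; exact ht2
  have hVleT : V ≤ T := fun v hv => (Subgroup.mem_inf.mp (hVT hv)).1
  obtain ⟨σ, hσ⟩ : ∃ σ : MulAut ↥T, ∀ y : ↥T, ((σ y : ↥T) : G) = ρ * y * ρ⁻¹ :=
    ⟨Cfsg.Agent.Lib.Helper7.R33.conjT T ρ hρT, fun y => rfl⟩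
  obtain ⟨τ, hτ⟩ : ∃ τ : MulAut ↥T, ∀ y : ↥T, ((τ y : ↥T) : G) = t * y * t⁻¹ :=
    ⟨Cfsg.Agent.Lib.Helper7.R33.conjT T t htT, fun y => rfl⟩
  have cube : ∀ y : ↥T, σ (σ (σ y)) = y := by
    intro y
    apply Subtype.ext
    rw [hσ, hσ, hσ]
    have e : ρ * (ρ * (ρ * (y : G) * ρ⁻¹) * ρ⁻¹) * ρ⁻¹ =
        (ρ * ρ * ρ) * (y : G) * (ρ * ρ * ρ)⁻¹ := by group
    rw [e, hρ3', one_mul, inv_one, mul_one]
  have t2 : ∀ y : ↥T, τ (τ y) = y := by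
    intro y
    apply Subtype.ext
    rw [hτ, hτ]
    have e : t * (t * (y : G) * t⁻¹) * t⁻¹ = (t * t) * (y : G) * (t * t)⁻¹ := by group
    rw [e, ht2', one_mul, inv_one, mul_one]
  have cm : ∀ y : ↥T, σ (τ y) = τ (σ y) := by
    intro y
    apply Subtype.ext
    rw [hσ, hτ, hτ, hσ]
    have e1 : ρ * (t * (y : G) * t⁻¹) * ρ⁻¹ = (ρ * t) * (y : G) * (ρ * t)⁻¹ := by group
    have e2 : t * (ρ * (y : G) * ρ⁻¹) * t⁻¹ = (t * ρ) * (y : G) * (t * ρ)⁻¹ := by group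
    rw [e1, e2, htρ]
  have hfixV : ∀ y : ↥T, τ y = y → (y : G) ∈ V := by
    intro y hy
    have h1 : t * (y : G) * t⁻¹ = (y : G) := by rw [← hτ, hy]
    have h2 : t * (y : G) = (y : G) * t := mul_inv_eq_iff_eq_mul.mp h1
    rw [← hCt]
    refine Subgroup.mem_inf.mpr ⟨y.2, ?_⟩
    rw [Subgroup.mem_centralizer_iff]
    intro g hg
    rw [Set.mem_singleton_iff] at hg
    rw [hg]
    exact h2
  have fx : Nat.card (Cfsg.Agent.Lib.Helper7.Q64.fixSub τ) ≤ 4 := by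
    rw [← hV.1]
    apply Nat.card_le_card_of_injective
      (fun y : ↥(Cfsg.Agent.Lib.Helper7.Q64.fixSub τ) =>
        (⟨((y : ↥T) : G), hfixV y ((Cfsg.Agent.Lib.Helper7.Q64.mem_fixSub τ _).mp y.2)⟩ : ↥V))
    intro a b hab
    have h1 : (((a : ↥T) : G)) = ((b : ↥T) : G) := congrArg (fun v : ↥V => (v : G)) hab
    exact Subtype.ext (Subtype.ext h1)
  have hA := Cfsg.Agent.Lib.Helper7.R33.fpf_of_comm_eq V hV.1 ρ hρ3 hρV hVρ
  have hfix : ∀ y : ↥T, τ y = y → σ y = y → y = 1 := by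
    intro y hy1 hy2
    have h1 : ρ * (y : G) * ρ⁻¹ = (y : G) := by rw [← hσ, hy2]
    exact Subtype.ext (hA _ (hfixV y hy1) h1)
  have hC4 := Cfsg.Agent.Lib.Helper7.R33.c4_of hT cube t2 cm fx hfix
  have hnt : 4 ≤ Nat.card ↥T := by
    rw [← hV.1]
    exact Subgroup.card_le_of_le hVleT
  rcases hC4.main hnt with ⟨h16, hex⟩ | ⟨n, hn, he⟩ | ⟨⟨e⟩⟩ | ⟨⟨e⟩⟩
  · left
    refine ⟨h16, fun x hx => ?_⟩
    have h1 := hex ⟨x, hx⟩
    exact congrArg Subtype.val h1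
  · right; left
    exact ⟨n, hn, he⟩
  · right; right; left
    refine ⟨Cfsg.Agent.Lib.Helper4.K4Field.K4, inferInstance, inferInstance,
      Cfsg.Agent.Lib.Helper4.K4Field.K4.card, fun P => ?_⟩
    have hfin : Finite (Matrix.ProjectiveSpecialLinearGroup (Fin 3)
        Cfsg.Agent.Lib.Helper4.K4Field.K4) :=
      Nat.finite_of_card_ne_zero (by rw [Cfsg.Agent.Lib.Helper7.Q64.card_PSL3_K4]; norm_num)
    obtain ⟨S, ⟨e'⟩⟩ := Cfsg.Agent.Lib.Helper7.Q64.exists_sylow_H4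
    exact ⟨(e.symm.trans e').trans (Sylow.equiv S P)⟩
  · right; right; right
    refine ⟨Cfsg.Agent.Lib.Helper3.PG.K16, inferInstance, inferInstance,
      Cfsg.Agent.Lib.Helper3.PG.K16.card, fun P => ?_⟩
    have hfin : Finite (Cfsg.PSU 3 Cfsg.Agent.Lib.Helper3.PG.K16 4) :=
      Nat.finite_of_card_ne_zero (by rw [Cfsg.Agent.Lib.Helper7.R33.card_PSU3_K16]; norm_num)
    obtain ⟨S, ⟨e'⟩⟩ := Cfsg.Agent.Lib.Helper7.R33.exists_sylow_M64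
    exact ⟨(e.symm.trans e').trans (Sylow.equiv S P)⟩

end Cfsg.Agent.S2933
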