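import Cfsg.Statements.S2939
import Mathlib
import Cfsg.Agent.Lib.Helper2.SylowControl

set_option autoImplicit false
open Cfsg

namespace Cfsg.Agent.S2939

open Cfsg.Agent.Lib.Helper2.SC

section Prefix

variable {G : Type*} [Group G]

/-- prefix products -/
def pre {n : ℕ} (y : Fin n → G) (k : ℕ) : G := ((List.ofFn y).take k).prod

theorem pre_zero {n : ℕ} (y : Fin n → G) : pre y 0 = 1 := by simp [pre]

theorem pre_succ {n : ℕ} (y : Fin n → G) (i : Fin n) : pre y (i.val + 1) = pre y i.val * y i := by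
  unfold pre
  rw [List.take_add_one, List.prod_append]
  congr 1
  rw [List.getElem?_ofFn]
  simp [i.2]

theorem pre_last {n : ℕ} (y : Fin n → G) : pre y n = (List.ofFn y).prod := by
  unfold pre
  rw [List.take_of_length_le (by simp)]

/-- reversed prefix products -/
def rpre {n : ℕ} (x : Fin n → G) (k : ℕ) : G := ((List.ofFn x).take k).reverse.prod

theorem rpre_zero {n : ℕ} (x : Fin n → G) : rpre x 0 = 1 := by simp [rpre]

theorem rpre_succ {n : ℕ} (x : Fin n → G) (i : Fin n) :
    rpre x (i.val + 1) = x i * rpre x i.val := by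
  unfold rpre
  rw [List.take_add_one, List.reverse_append, List.prod_append]
  congr 1
  rw [List.getElem?_ofFn]
  simp [i.2]

end Prefix

section Main

variable {G : Type*} [Group G] [Finite G] {p : ℕ} [Fact p.Prime]

theorem controls_of_strong (𝓕 : Set (Subgroup G)) (h𝓕 : Cfsg.IsNormalSet 𝓕)
    (h : Cfsg.FamilyStronglyControlsFusion p 𝓕) : Cfsg.ControlsSylowIntersections p 𝓕 := by
  intro S T hne hint
  obtain ⟨g, hg⟩ := MulAction.exists_smul_eq G S T
  have hT : (T : Subgroup G) = Cfsg.subgroupConjRight g⁻¹ (S : Subgroup G) := by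
    rw [← hg]
    have := coe_inv_smul_sylow S g⁻¹
    rwa [inv_inv] at this
  set D : Set G := (((S : Subgroup G) ⊓ (T : Subgroup G) : Subgroup G) : Set G) with hD
  have hDS : D ⊆ (S : Set G) := fun d hd => hd.1
  have hD1 : ∃ a ∈ D, a ≠ 1 := by
    obtain ⟨a, ha1⟩ := (Subgroup.ne_bot_iff_exists_ne_one.1 hint)
    exact ⟨a, a.2, fun h0 => ha1 (Subtype.ext h0)⟩
  have hDg : Cfsg.conjRight g D ⊆ (S : Set G) := by
    intro z hz
    rw [mem_conjRight_iff] at hz
    have h1 : g * z * g⁻¹ ∈ (T : Subgroup G) := hz.2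
    rw [hT, mem_scr_iff] at h1
    have e : g⁻¹ * (g * z * g⁻¹) * g⁻¹⁻¹ = z := by group
    rw [e] at h1
    exact h1
  obtain ⟨n, Y, y, y₀, hy₀, hY, hgy, hA⟩ := h S D g hDS hD1 hDg
  refine ⟨n, fun i => (pre y i.val) • S, fun i => Cfsg.subgroupConjRight (pre y i.val)⁻¹ (Y i),
    fun i => pre y i.val * y i * (pre y i.val)⁻¹, ?_, ?_, ?_⟩
  · show (pre y 0) • S = S
    rw [pre_zero, one_smul]
  · show (pre y n) • S = T
    rw [pre_last, ← hg]
    have h1 : (List.ofFn y).prod = g * y₀⁻¹ := by rw [hgy]; group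
    rw [h1, mul_smul]
    congr 1
    rw [Sylow.smul_eq_iff_mem_normalizer]
    exact Subgroup.inv_mem _ hy₀
  · intro i
    have hcoe : ∀ u : G, ((u • S : Sylow p G) : Subgroup G) =
        Cfsg.subgroupConjRight u⁻¹ (S : Subgroup G) := by
      intro u
      have := coe_inv_smul_sylow S u⁻¹
      rwa [inv_inv] at this
    have hsucc : pre y (i.succ : Fin (n+1)).val = pre y i.val * y i := by
      rw [Fin.val_succ]; exact pre_succ y i
    have hcast : pre y (i.castSucc : Fin (n+1)).val = pre y i.val := by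
      rw [Fin.val_castSucc]
    refine ⟨?_, ?_, ?_, ?_, ?_⟩
    · show _ ∈ Cfsg.sylowMembers p 𝓕 (((pre y (i.castSucc : Fin (n+1)).val) • S : Sylow p G) : Subgroup G)
      rw [hcast, hcoe]
      exact scr_mem_sylowMembers h𝓕 (hY i).1 _
    · show _ ∈ Cfsg.sylowMembers p 𝓕 (((pre y (i.succ : Fin (n+1)).val) • S : Sylow p G) : Subgroup G)
      rw [hsucc, hcoe, mul_inv_rev, ← scr_scr]
      apply scr_mem_sylowMembers h𝓕
      exact sylowMembers_scr_of_mem (Subgroup.inv_mem _ (hY i).2) (hY i).1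
    · rw [mem_scr_iff]
      have e : (pre y i.val)⁻¹ * (pre y i.val * y i * (pre y i.val)⁻¹) * (pre y i.val)⁻¹⁻¹ = y i := by
        group
      rw [e]; exact (hY i).2
    · show Cfsg.subgroupConjRight _ (((pre y (i.succ : Fin (n+1)).val) • S : Sylow p G) : Subgroup G) =
        (((pre y (i.castSucc : Fin (n+1)).val) • S : Sylow p G) : Subgroup G)
      rw [hcast, hsucc, hcoe, hcoe, scr_scr]
      congr 1
      group
    · intro d hd
      have hd' : d ∈ D := hd
      have h1 := hA i
      have h2 : (pre y (i.val + 1))⁻¹ * d * pre y (i.val + 1) ∈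
          Cfsg.conjRight (pre y (i.val + 1)) D := ⟨d, hd', rfl⟩
      have h3 := h1 h2
      rw [pre_succ] at h3
      refine ⟨?_, ?_⟩
      · show d ∈ (((pre y (i.succ : Fin (n+1)).val) • S : Sylow p G) : Subgroup G)
        rw [hsucc, hcoe, mem_scr_iff, inv_inv]
        exact h3.1
      · show d ∈ Cfsg.subgroupConjRight (pre y i.val)⁻¹ (Y i)
        rw [mem_scr_iff, inv_inv]
        have e : (pre y i.val)⁻¹ * d * pre y i.val =
            y i * ((pre y i.val * y i)⁻¹ * d * (pre y i.val * y i)) * (y i)⁻¹ := by group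
        rw [e]
        exact (Y i).mul_mem ((Y i).mul_mem (hY i).2 h3.2) ((Y i).inv_mem (hY i).2)

theorem strong_of_controls (𝓕 : Set (Subgroup G)) (h𝓕 : Cfsg.IsNormalSet 𝓕)
    (h : Cfsg.ControlsSylowIntersections p 𝓕) : Cfsg.FamilyStronglyControlsFusion p 𝓕 := by
  intro S A g hAS hA1 hAg
  by_cases hgN : g ∈ Subgroup.normalizer ((S : Subgroup G) : Set G)
  · exact ⟨0, Fin.elim0, Fin.elim0, g, hgN, fun i => i.elim0, by simp, fun i => i.elim0⟩
  have hcoe : ∀ u : G, ((u • S : Sylow p G) : Subgroup G) =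
      Cfsg.subgroupConjRight u⁻¹ (S : Subgroup G) := by
    intro u
    have := coe_inv_smul_sylow S u⁻¹
    rwa [inv_inv] at this
  have hne : S ≠ g • S := by
    intro h0
    apply hgN
    exact Sylow.smul_eq_iff_mem_normalizer.1 h0.symm
  have hAT : A ⊆ ((g • S : Sylow p G) : Subgroup G) := by
    intro a ha
    rw [SetLike.mem_coe, hcoe, mem_scr_iff, inv_inv]
    exact hAg ⟨a, ha, rfl⟩
  have hint : (S : Subgroup G) ⊓ ((g • S : Sylow p G) : Subgroup G) ≠ ⊥ := by
    obtain ⟨a, ha, ha1⟩ := hA1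
    intro h0
    apply ha1
    have : a ∈ (S : Subgroup G) ⊓ ((g • S : Sylow p G) : Subgroup G) := ⟨hAS ha, hAT ha⟩
    rw [h0] at this
    exact Subgroup.mem_bot.1 this
  obtain ⟨n, c, X, x, hc0, hcn, hchain⟩ := h S (g • S) hne hint
  -- all members of the chain are conjugated back to `S`
  have hcv : ∀ i : Fin (n + 1),
      Cfsg.subgroupConjRight (rpre x i.val) (c i : Subgroup G) = (S : Subgroup G) := by
    intro i
    induction i using Fin.induction with
    | zero =>
      show Cfsg.subgroupConjRight (rpre x 0) _ = _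
      rw [rpre_zero, scr_one, hc0]
    | succ i ih =>
      rw [Fin.val_succ, rpre_succ, ← scr_scr, (hchain i).2.2.2.1]
      rw [Fin.val_castSucc] at ih
      exact ih
  have hpre : ∀ k : ℕ, k ≤ n →
      pre (fun i : Fin n => (rpre x i.val)⁻¹ * x i * rpre x i.val) k = rpre x k := by
    intro k
    induction k with
    | zero => intro _; rw [pre_zero, rpre_zero]
    | succ k ih =>
      intro hk
      have h1 := pre_succ (fun i : Fin n => (rpre x i.val)⁻¹ * x i * rpre x i.val) ⟨k, hk⟩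
      have h2 := rpre_succ x ⟨k, hk⟩
      simp only at h1 h2
      rw [h1, h2, ih (Nat.le_of_succ_le hk)]
      group
  have hlast : Cfsg.subgroupConjRight (rpre x n)⁻¹ (S : Subgroup G) =
      Cfsg.subgroupConjRight g⁻¹ (S : Subgroup G) := by
    have h1 := hcv (Fin.last n)
    rw [hcn, Fin.val_last] at h1
    have h2 : Cfsg.subgroupConjRight (rpre x n)⁻¹ (S : Subgroup G) =
        ((g • S : Sylow p G) : Subgroup G) := by
      rw [← h1, scr_inv_scr]
    rw [h2, hcoe]
  refine ⟨n, fun i => Cfsg.subgroupConjRight (rpre x i.val) (X i),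
    fun i => (rpre x i.val)⁻¹ * x i * rpre x i.val, (rpre x n)⁻¹ * g, ?_, ?_, ?_, ?_⟩
  · rw [← scr_eq_self_iff_mem_normalizer, ← scr_scr, hlast, scr_scr, inv_mul_cancel, scr_one]
  · intro i
    refine ⟨?_, conj_mem_scr (hchain i).2.2.1⟩
    have h1 := scr_mem_sylowMembers h𝓕 (hchain i).1 (rpre x i.val)
    have h2 := hcv i.castSucc
    rw [Fin.val_castSucc] at h2
    rw [h2] at h1
    exact h1
  · rw [← pre_last, hpre n le_rfl]
    group
  · intro i
    show Cfsg.conjRight (pre (fun i : Fin n => (rpre x i.val)⁻¹ * x i * rpre x i.val) (i.val + 1)) A ⊆ _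
    rw [hpre _ i.2]
    intro a' ha'
    rw [mem_conjRight_iff] at ha'
    have ha : rpre x (i.val + 1) * a' * (rpre x (i.val + 1))⁻¹ ∈
        (S : Subgroup G) ⊓ ((g • S : Sylow p G) : Subgroup G) := ⟨hAS ha', hAT ha'⟩
    have h1 := (hchain i).2.2.2.2 ha
    refine ⟨?_, ?_⟩
    · have h2 := hcv i.succ
      rw [Fin.val_succ] at h2
      show a' ∈ (S : Subgroup G)
      rw [← h2, mem_scr_iff]
      exact h1.1
    · show a' ∈ Cfsg.subgroupConjRight (rpre x i.val) (X i)
      rw [mem_scr_iff]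
      have e : rpre x i.val * a' * (rpre x i.val)⁻¹ =
          (x i)⁻¹ * (rpre x (i.val + 1) * a' * (rpre x (i.val + 1))⁻¹) * x i := by
        rw [rpre_succ]; group
      rw [e]
      exact (X i).mul_mem ((X i).mul_mem ((X i).inv_mem (hchain i).2.2.1) h1.2) (hchain i).2.2.1

end Main

/-- Let p be a prime dividing the order of the finite group G and 𝓕 a family of subgroups of G closed under conjugation, with conjugates taken as X^g = g⁻¹Xg. Then 𝓕 controls Sylow p-intersections in G (any two distinct Sylow p-subgroups S and T with S ∩ T ≠ 1 are joined by a chain S = S₀, S₁, …, Sₙ = T of Sylow p-subgroups where, for each i, some member Xᵢ of 𝓕 meets both S_{i-1} and Sᵢ in Sylow p-subgroups of Xᵢ, satisfies S ∩ T ≤ Sᵢ ∩ Xᵢ, and contains an element xᵢ with Sᵢ^{xᵢ} = S_{i-1}) if and only if 𝓕 strongly controls p-fusion in G (whenever A is a subset of a Sylow p-subgroup S, A contains an element other than 1, and A^g ⊆ S, the element g factorises as g = y₁⋯yₙy with y ∈ N_G(S)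 and each yᵢ in a member Yᵢ of 𝓕 that meets S in a Sylow p-subgroup of Yᵢ, with A^{y₁⋯yᵢ} ⊆ S ∩ Yᵢ for each i). -/
theorem result {G : Type*} [Group G] [Finite G] {p : ℕ} [Fact p.Prime] (hdiv : p ∣ Nat.card G) (𝓕 : Set (Subgroup G)) (h𝓕 : Cfsg.IsNormalSet 𝓕) : Cfsg.ControlsSylowIntersections p 𝓕 ↔ Cfsg.FamilyStronglyControlsFusion p 𝓕 := by
  exact ⟨strong_of_controls 𝓕 h𝓕, controls_of_strong 𝓕 h𝓕⟩

end Cfsg.Agent.S2939
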