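import Cfsg.Statements.S2940

set_option autoImplicit false
open Cfsg

namespace Cfsg.Agent.S2940

open scoped Pointwise

/-- Let S be a Sylow p-subgroup of the finite group G and G₁, G₂ subgroups containing S with G = G₁G₂. Then for every g ∈ G there is a Sylow p-subgroup U of G with S ∩ S^g ≤ U ≤ G₁ ∩ G₂^g (conjugates taken as X^g = g⁻¹Xg). -/
theorem result {G : Type*} [Group G] [Finite G] {p : ℕ} [Fact p.Prime] (S : Sylow p G) (G₁ G₂ : Subgroup G) (h1 : (S : Subgroup G) ≤ G₁) (h2 : (S : Subgroup G) ≤ G₂) (hfact : ∀ g : G, ∃ g₁ ∈ G₁, ∃ g₂ ∈ G₂, g = g₁ * g₂) (g : G) : ∃ U : Sylow p G, (S : Subgroup G) ⊓ Cfsg.subgroupConjRight g (S : Subgroup G) ≤ (U : Subgroup G) ∧ (U : Subgroup G) ≤ G₁ ⊓ Cfsg.subgroupConjRight g G₂ := by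
  obtain ⟨a, ha, b, hb, hab⟩ := hfact g⁻¹
  set K : Subgroup G := G₁ ⊓ Cfsg.subgroupConjRight g G₂ with hK
  -- S' = a S a⁻¹
  have hS'K : ((a • S : Sylow p G) : Subgroup G) ≤ K := by
    intro x hx
    rw [Sylow.coe_subgroup_smul, Subgroup.mem_pointwise_smul_iff_inv_smul_mem] at hx
    simp only [MulAut.smul_def, MulAut.conj_inv_apply] at hx
    have hx1 : a⁻¹ * x * a ∈ (S : Subgroup G) := by simpa [MulAut.conj_apply] using hx
    refine ⟨?_, ?_⟩
    · have : x = a * (a⁻¹ * x * a) * a⁻¹ := by group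
      rw [this]
      exact G₁.mul_mem (G₁.mul_mem ha (h1 hx1)) (G₁.inv_mem ha)
    · unfold Cfsg.subgroupConjRight
      refine ⟨b⁻¹ * (a⁻¹ * x * a) * b, G₂.mul_mem (G₂.mul_mem (G₂.inv_mem hb) (h2 hx1)) hb, ?_⟩
      simp only [MulEquiv.coe_toMonoidHom, MulAut.conj_apply, hab]
      group
  have hSK : (S : Subgroup G) ⊓ Cfsg.subgroupConjRight g (S : Subgroup G) ≤ K := by
    refine inf_le_inf h1 ?_
    unfold Cfsg.subgroupConjRight
    exact Subgroup.map_mono h2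
  have hA : IsPGroup p (((S : Subgroup G) ⊓ Cfsg.subgroupConjRight g (S : Subgroup G)).subgroupOf K) := by
    have : IsPGroup p ((S : Subgroup G) ⊓ Cfsg.subgroupConjRight g (S : Subgroup G) : Subgroup G) :=
      S.isPGroup'.to_le inf_le_left
    exact this.comap_subtype
  obtain ⟨Q, hQ⟩ := hA.exists_le_sylow
  obtain ⟨k, hk⟩ := MulAction.exists_smul_eq K ((a • S : Sylow p G).subtype hS'K) Q
  refine ⟨(k : G) • (a • S), ?_, ?_⟩
  · intro x hx
    have hxK : x ∈ K := hSK hx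
    have hxQ : (⟨x, hxK⟩ : K) ∈ (Q : Subgroup K) := hQ (by rw [Subgroup.mem_subgroupOf]; exact hx)
    rw [← hk, Sylow.smul_subtype hS'K k] at hxQ
    rw [Sylow.coe_subtype, Subgroup.mem_subgroupOf] at hxQ
    exact hxQ
  · exact Sylow.smul_le hS'K k

end Cfsg.Agent.S2940
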