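import Cfsg.Statements.S2955
import Mathlib
import Cfsg.Agent.Lib.Helper2.SylowControl

set_option autoImplicit false
open Cfsg

namespace Cfsg.Agent.S2955

open Cfsg.Agent.Lib.Helper2.SC

/-- Let p be a prime dividing the order of the finite group G and 𝓕 a conjugation-closed family of subgroups that controls Sylow p-intersections in G. Suppose the Sylow p-subgroups of G are chain-connected: any two of them are joined by a chain of Sylow p-subgroups, consecutive ones distinct with nontrivial intersection, all containing the intersection of the two ends (equivalently, the graph on the Sylow p-subgroups whose edges are the distinct pairs meeting nontrivially is connected). Then for every Sylow p-subgroup S, G is generated by N_G(S) together with the members of 𝓕 that meet S in a Sylow p-subgroup of themselves. -/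
theorem result {G : Type*} [Group G] [Finite G] (p : ℕ) [Fact p.Prime] (hdiv : p ∣ Nat.card G)
    (𝓕 : Set (Subgroup G)) (h𝓕 : Cfsg.IsNormalSet 𝓕) (hc : Cfsg.ControlsSylowIntersections p 𝓕)
    (hconn : Cfsg.IsSylowChainConnected p G) (S : Sylow p G) :
    (⨆ X ∈ Cfsg.sylowMembers p 𝓕 (S : Subgroup G), X) ⊔ Subgroup.normalizer ((S : Subgroup G) : Set G) = ⊤ := by
  classical
  set T : Subgroup G := (⨆ X ∈ Cfsg.sylowMembers p 𝓕 (S : Subgroup G), X) ⊔
    Subgroup.normalizer ((S : Subgroup G) : Set G) with hT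
  have hXT : ∀ X ∈ Cfsg.sylowMembers p 𝓕 (S : Subgroup G), X ≤ T := fun X hX =>
    le_trans (le_biSup (fun X => X) hX) le_sup_left
  have hNT : Subgroup.normalizer ((S : Subgroup G) : Set G) ≤ T := le_sup_right
  -- the Sylow subgroups conjugate to `S` by elements of `T`
  let R : Set (Sylow p G) := {S' | ∃ t ∈ T, (S' : Subgroup G) = Cfsg.subgroupConjRight t (S : Subgroup G)}
  have hSR : S ∈ R := ⟨1, T.one_mem, by rw [scr_one]⟩
  -- one step
  have hstep : ∀ S' S'' : Sylow p G, S' ∈ R → ∀ X ∈ Cfsg.sylowMembers p 𝓕 (S' : Subgroup G),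
      ∀ x ∈ X, Cfsg.subgroupConjRight x (S'' : Subgroup G) = (S' : Subgroup G) → S'' ∈ R := by
    rintro S' S'' ⟨t, ht, hS'⟩ X hX x hx hconj
    rw [hS'] at hX
    have h1 := mem_sylowMembers_of_scr h𝓕 hX
    have h2 : Cfsg.subgroupConjRight t⁻¹ X ≤ T := hXT _ h1
    have h3 : t * x * t⁻¹ ∈ T := by
      apply h2
      have := conj_mem_scr (g := t⁻¹) hx
      rwa [inv_inv] at this
    have hxT : x ∈ T := by
      have : x = t⁻¹ * (t * x * t⁻¹) * t := by group
      rw [this]
      exact T.mul_mem (T.mul_mem (T.inv_mem ht) h3) ht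
    refine ⟨t * x⁻¹, T.mul_mem ht (T.inv_mem hxT), ?_⟩
    rw [← scr_scr, ← hS', ← hconj, scr_inv_scr]
  -- meeting Sylow subgroups
  have hmeet : ∀ S₁ S₂ : Sylow p G, S₁ ∈ R → S₁ ≠ S₂ →
      (S₁ : Subgroup G) ⊓ (S₂ : Subgroup G) ≠ ⊥ → S₂ ∈ R := by
    intro S₁ S₂ h1 hne hint
    obtain ⟨n, c, X, x, hc0, hcn, hchain⟩ := hc S₁ S₂ hne hint
    have hall : ∀ i : Fin (n + 1), c i ∈ R := by
      intro i
      induction i using Fin.induction with
      | zero => rw [hc0]; exact h1
      | succ i ih =>
        obtain ⟨hX1, -, hx, hconj, -⟩ := hchain i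
        exact hstep _ _ ih (X i) hX1 (x i) hx hconj
    rw [← hcn]; exact hall _
  -- all Sylow subgroups
  have hallR : ∀ S₂ : Sylow p G, S₂ ∈ R := by
    intro S₂
    obtain ⟨n, c, hc0, hcn, -, hchain⟩ := hconn S S₂
    have hall : ∀ i : Fin (n + 1), c i ∈ R := by
      intro i
      induction i using Fin.induction with
      | zero => rw [hc0]; exact hSR
      | succ i ih =>
        obtain ⟨hne, hint⟩ := hchain i
        exact hmeet _ _ ih hne hint
    rw [← hcn]; exact hall _
  rw [eq_top_iff]
  intro g _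
  obtain ⟨t, ht, hgt⟩ := hallR (g⁻¹ • S)
  rw [coe_inv_smul_sylow] at hgt
  -- `S^{g t⁻¹} = S`
  have h1 : Cfsg.subgroupConjRight (g * t⁻¹) (S : Subgroup G) = (S : Subgroup G) := by
    rw [← scr_scr, hgt, scr_inv_scr]
  rw [scr_eq_self_iff_mem_normalizer] at h1
  have : g = (g * t⁻¹) * t := by group
  rw [this]
  exact T.mul_mem (hNT h1) ht

end Cfsg.Agent.S2955
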