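import Cfsg.Statements.S2956
import Mathlib
import Cfsg.Agent.Lib.Helper3.SylowChain
-- import your own Cfsg.Agent.* helpers here

set_option autoImplicit false
open Cfsg

namespace Cfsg.Agent.S2956

open Cfsg.Agent.Lib.Helper2.SC Cfsg.Agent.Lib.Helper3.SChain
variable {G : Type*} [Group G] {p : ℕ} {f : Subgroup G → Set (Subgroup G)}


theorem exists_maximal_plocal [Finite G] {L : Subgroup G} (hL : IsPLocal p L) :
    ∃ M, L ≤ M ∧ IsMaximalPLocal p M := by
  obtain ⟨M, hLM, hM⟩ := Finite.exists_le_maximal (p := fun N : Subgroup G => IsPLocal p N) hL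
  refine ⟨M, hLM, hM.prop, ?_⟩
  intro N hN hMN
  exact le_antisymm (hM.le_of_ge hN hMN) hMN


theorem card_lt_of_lt' [Finite G] {A B : Subgroup G} (h : A < B) : Nat.card A < Nat.card B := by
  by_contra hc
  push Not at hc
  exact h.ne (Subgroup.eq_of_le_of_card_ge h.le hc)


theorem mconn_le_right {M D Q₁ Q₂ : Subgroup G} (h : MConn p f M D Q₁ Q₂) (hD : D ≤ Q₁) :
    D ≤ Q₂ := by
  induction h with
  | refl => exact hD
  | tail _ hbc _ =>
    obtain ⟨-, -, F, -, -, y, -, -, -, h8⟩ := hbc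
    exact h8


/-- direct link through the normalizer of a member of `f R₂` -/
theorem step_of_functor [Finite G] [hp : Fact p.Prime] (hf : IsNormalizerFunctor p f)
    {𝓕s : Set (Subgroup G)} {D F : Subgroup G} {R₁ R₂ : Sylow p G} {y : G}
    (hFs : Subgroup.normalizer (F : Set G) ∈ 𝓕s) (hF : F ∈ f (R₂ : Subgroup G))
    (hy : y ∈ Subgroup.normalizer (F : Set G))
    (hconj : subgroupConjRight y (R₂ : Subgroup G) = (R₁ : Subgroup G)) (hD : D ≤ (R₂ : Subgroup G)) :
    Step p 𝓕s D R₁ R₂ := by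
  have hR₂X : (R₂ : Subgroup G) ≤ Subgroup.normalizer (F : Set G) :=
    functor_le_normalizer hf R₂.isPGroup' hF
  have hR₁X : (R₁ : Subgroup G) ≤ Subgroup.normalizer (F : Set G) := by
    rw [← hconj]
    have := scr_mono (g := y) hR₂X
    rwa [scr_eq_self_of_mem hy] at this
  have hc : ∀ R : Sylow p G, (R : Subgroup G) ≤ Subgroup.normalizer (F : Set G) →
      Subgroup.normalizer (F : Set G) ∈ sylowMembers p 𝓕s (R : Subgroup G) := by
    intro R hR
    rw [mem_sylowMembers_iff]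
    refine ⟨hFs, ?_⟩
    rw [inf_eq_left.2 hR]
    exact ((isSylIn_top R).of_le hR le_top).2
  exact ⟨_, y, hc R₁ hR₁X, hc R₂ hR₂X, hy, hconj, le_inf hD (hD.trans hR₂X)⟩


/-- direct link through a member `M` of the family meeting `R₂` in a Sylow subgroup of `M` -/
theorem step_of_member [Finite G] [hp : Fact p.Prime]
    {𝓕s : Set (Subgroup G)} {D M : Subgroup G} {R₁ R₂ : Sylow p G} {m : G}
    (hMs : M ∈ 𝓕s) (hm : m ∈ M) (hS : IsSylIn p ((R₂ : Subgroup G) ⊓ M) M)
    (hconj : subgroupConjRight m (R₂ : Subgroup G) = (R₁ : Subgroup G))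
    (hD : D ≤ (R₂ : Subgroup G) ⊓ M) :
    Step p 𝓕s D R₁ R₂ := by
  refine ⟨M, m, ?_, ?_, hm, hconj, hD⟩
  · rw [mem_sylowMembers_iff]
    refine ⟨hMs, ?_⟩
    have : (R₁ : Subgroup G) ⊓ M = subgroupConjRight m ((R₂ : Subgroup G) ⊓ M) := by
      rw [scr_inf, hconj, scr_eq_self_of_mem hm]
    rw [this, card_scr]
    exact hS.2
  · rw [mem_sylowMembers_iff]
    exact ⟨hMs, hS.2⟩


theorem inner [Finite G] [hp : Fact p.Prime] (hf : IsNormalizerFunctor p f)
    (hf1 : ∀ P : Subgroup G, IsPGroup p ↥P → P ≠ ⊥ → ∀ F ∈ f P, F ≠ ⊥)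
    (𝓕s : Set (Subgroup G))
    (F1 : ∀ R : Sylow p G, ∀ F ∈ f (R : Subgroup G), Subgroup.normalizer (F : Set G) ∈ 𝓕s)
    (F2 : ∀ M : Subgroup G, IsMaximalPLocal p M → ¬ IsFunctorRegular p f M → M ∈ 𝓕s)
    (D : Subgroup G) (hD : D ≠ ⊥)
    (IHo : ∀ D' : Subgroup G, Nat.card D < Nat.card D' → ∀ S T : Sylow p G,
      D' ≤ (S : Subgroup G) → D' ≤ (T : Subgroup G) → Conn p 𝓕s D' S T) :
    ∀ k : ℕ, ∀ (L : Subgroup G) (R₁ R₂ : Sylow p G) (y : G),
      Nat.card G - Nat.card ↥((R₁ : Subgroup G) ⊓ L) = k → IsPLocal p L → y ∈ L →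
      subgroupConjRight y (R₁ : Subgroup G) = (R₂ : Subgroup G) →
      D ≤ (R₁ : Subgroup G) ⊓ L → D ≤ (R₂ : Subgroup G) →
      Nat.card D < Nat.card ↥((R₁ : Subgroup G) ⊓ L) → Conn p 𝓕s D R₁ R₂ := by
  intro k
  induction k using Nat.strong_induction_on with
  | _ k ih =>
  intro L R₁ R₂ y hk hL hyL hconj hDR₁ hDR₂ hlt
  set A₁ : Subgroup G := (R₁ : Subgroup G) ⊓ L with hA₁
  set A₂ : Subgroup G := (R₂ : Subgroup G) ⊓ L with hA₂
  have hA₂eq : A₂ = subgroupConjRight y A₁ := by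
    rw [hA₁, scr_inf, hconj, scr_eq_self_of_mem hyL]
  have hcardA : Nat.card A₂ = Nat.card A₁ := by rw [hA₂eq, card_scr]
  have hDL : D ≤ L := hDR₁.trans inf_le_right
  have hDA₂ : D ≤ A₂ := le_inf hDR₂ hDL
  have hA₁p : IsPGroup p A₁ := R₁.isPGroup'.to_le inf_le_left
  have hA₂p : IsPGroup p A₂ := R₂.isPGroup'.to_le inf_le_left
  obtain ⟨M, hLM, hMmax⟩ := exists_maximal_plocal hL
  obtain ⟨Q₁, hQ₁, hAQ₁⟩ := exists_isSylIn_ge hA₁p (inf_le_right.trans hLM)
  obtain ⟨Q₂, hQ₂, hAQ₂⟩ := exists_isSylIn_ge hA₂p (inf_le_right.trans hLM)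
  obtain ⟨R₁', hR₁'⟩ := exists_sylow_ge hQ₁.isPGroup
  obtain ⟨R₂', hR₂'⟩ := exists_sylow_ge hQ₂.isPGroup
  have hR₁'M : (R₁' : Subgroup G) ⊓ M = Q₁ :=
    hQ₁.eq_of_le (R₁'.isPGroup'.to_le inf_le_left) (le_inf hR₁' hQ₁.le) inf_le_right
  have hR₂'M : (R₂' : Subgroup G) ⊓ M = Q₂ :=
    hQ₂.eq_of_le (R₂'.isPGroup'.to_le inf_le_left) (le_inf hR₂' hQ₂.le) inf_le_right
  have c1 : Conn p 𝓕s D R₁ R₁' :=
    (IHo A₁ hlt R₁ R₁' inf_le_left (hAQ₁.trans hR₁')).mono subset_rfl hDR₁
  have c3 : Conn p 𝓕s D R₂' R₂ :=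
    (IHo A₂ (hcardA ▸ hlt) R₂' R₂ (hAQ₂.trans hR₂') inf_le_left).mono subset_rfl hDA₂
  suffices c2 : Conn p 𝓕s D R₁' R₂' from c1.trans (c2.trans c3)
  have hDQ₁ : D ≤ Q₁ := hDR₁.trans hAQ₁
  have hDQ₂ : D ≤ Q₂ := hDA₂.trans hAQ₂
  have hcQ₁ : Nat.card D < Nat.card Q₁ := lt_of_lt_of_le hlt (Subgroup.card_le_of_le hAQ₁)
  have hcQ₂ : Nat.card D < Nat.card Q₂ :=
    lt_of_lt_of_le (hcardA ▸ hlt) (Subgroup.card_le_of_le hAQ₂)
  by_cases hreg : IsFunctorRegular p f M
  · by_cases hQQ : Q₁ = Q₂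
    · exact (IHo Q₁ hcQ₁ R₁' R₂' hR₁' (hQQ ▸ hR₂')).mono subset_rfl hDQ₁
    · have hint : Q₁ ⊓ Q₂ ≠ ⊥ := by
        intro he
        apply hD
        apply le_antisymm _ bot_le
        rw [← he]
        exact le_inf hDQ₁ hDQ₂
      have hch : MConn p f M D Q₁ Q₂ :=
        ((regular_iff hf M).1 hreg Q₁ Q₂ hQ₁ hQ₂ hQQ hint).mono (le_inf hDQ₁ hDQ₂)
      have lift_back : ∀ B, MConn p f M D Q₁ B → ∀ R : Sylow p G, (R : Subgroup G) ⊓ M = B →
          ∃ R₀ : Sylow p G, (R₀ : Subgroup G) ⊓ M = Q₁ ∧ Conn p 𝓕s D R₀ R := by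
        intro B hB
        induction hB with
        | refl => exact fun R hR => ⟨R, hR, Conn.refl R⟩
        | @tail B C hQB hBC ih2 =>
          intro R hR
          have hDB : D ≤ B := mconn_le_right hQB hDQ₁
          obtain ⟨hBs, hCs, F, hFB, hFC, z, hzM, hzF, hzconj, hDC⟩ := hBC
          set R_B : Sylow p G := z⁻¹ • R with hR_B
          have hRBc : (R_B : Subgroup G) = subgroupConjRight z (R : Subgroup G) := sylow_scr R z
          have hRBM : (R_B : Subgroup G) ⊓ M = B := by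
            rw [hRBc, ← hzconj, ← hR, scr_inf, scr_eq_self_of_mem hzM]
          have hCR : C ≤ (R : Subgroup G) := hR ▸ inf_le_left
          have hBRB : B ≤ (R_B : Subgroup G) := hRBM ▸ inf_le_left
          have hstep : Conn p 𝓕s D R_B R := by
            by_cases hCeq : C = (R : Subgroup G)
            · apply Conn.single
              apply step_of_functor hf (F1 R F (hCeq ▸ hFC)) (hCeq ▸ hFC) hzF hRBc.symm
                (hDC.trans hCR)
            · have hCp : IsPGroup p C := hCs.isPGroup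
              have hBp : IsPGroup p B := hBs.isPGroup
              have hC1 : C ≠ ⊥ := by
                intro he
                apply hD
                rw [he] at hDC
                exact le_antisymm hDC bot_le
              have hFp : IsPGroup p F := hCp.to_le (functor_le hf hCp hFC)
              have hF1 : F ≠ ⊥ := hf1 C hCp hC1 F hFC
              have hL' : IsPLocal p (Subgroup.normalizer (F : Set G)) := ⟨F, hFp, hF1, rfl⟩
              have hcardBC : Nat.card B = Nat.card C := by rw [hBs.2, hCs.2]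
              have hBlt : B < (R_B : Subgroup G) := by
                refine lt_of_le_of_ne hBRB ?_
                intro he
                apply hCeq
                apply Subgroup.eq_of_le_of_card_ge hCR
                rw [← hcardBC, he, hRBc, card_scr]
              have h1 := lt_inf_normalizer R_B.isPGroup' hBlt
              have h2 : (R_B : Subgroup G) ⊓ Subgroup.normalizer (B : Set G) ≤
                  (R_B : Subgroup G) ⊓ Subgroup.normalizer (F : Set G) :=
                inf_le_inf_left _ (functor_normalizer_le hf hBp hFB)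
              have h3 : Nat.card B <
                  Nat.card ↥((R_B : Subgroup G) ⊓ Subgroup.normalizer (F : Set G)) :=
                lt_of_lt_of_le (card_lt_of_lt' h1) (Subgroup.card_le_of_le h2)
              have h4 : Nat.card A₁ ≤ Nat.card B := by
                rw [hBs.2, ← hQ₁.2]
                exact Subgroup.card_le_of_le hAQ₁
              have h5 : Nat.card ↥((R_B : Subgroup G) ⊓ Subgroup.normalizer (F : Set G)) ≤
                  Nat.card G := Subgroup.card_le_card_group _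
              refine ih _ ?_ (Subgroup.normalizer (F : Set G)) R_B R z⁻¹ rfl hL'
                (inv_mem hzF) ?_ ?_ (hDC.trans hCR) ?_
              · omega
              · rw [hRBc, scr_inv_scr]
              · exact le_inf (hDB.trans hBRB) (hDB.trans (functor_le_normalizer hf hBp hFB))
              · omega
          obtain ⟨R₀, hR₀, hc⟩ := ih2 R_B hRBM
          exact ⟨R₀, hR₀, hc.trans hstep⟩
      obtain ⟨R₀, hR₀, hc⟩ := lift_back Q₂ hch R₂' hR₂'M
      have hQ₁R₀ : Q₁ ≤ (R₀ : Subgroup G) := hR₀ ▸ inf_le_left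
      exact ((IHo Q₁ hcQ₁ R₁' R₀ hR₁' hQ₁R₀).mono subset_rfl hDQ₁).trans hc
  · obtain ⟨m, hmM, hm⟩ := hQ₁.exists_conj hQ₂
    set R₃ : Sylow p G := m⁻¹ • R₂' with hR₃
    have hR₃c : (R₃ : Subgroup G) = subgroupConjRight m (R₂' : Subgroup G) := sylow_scr R₂' m
    have hstep : Step p 𝓕s D R₃ R₂' := by
      apply step_of_member (F2 M hMmax hreg) hmM (hR₂'M ▸ hQ₂) hR₃c.symm
      rw [hR₂'M]
      exact hDQ₂
    have hQ₁R₃ : Q₁ ≤ (R₃ : Subgroup G) := by
      rw [hR₃c, ← hm]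
      exact scr_mono hR₂'
    exact ((IHo Q₁ hcQ₁ R₁' R₃ hR₁' hQ₁R₃).mono subset_rfl hDQ₁).trans (Conn.single hstep)



theorem outer [Finite G] [hp : Fact p.Prime] (hf : IsNormalizerFunctor p f)
    (hf1 : ∀ P : Subgroup G, IsPGroup p ↥P → P ≠ ⊥ → ∀ F ∈ f P, F ≠ ⊥)
    (𝓕s : Set (Subgroup G))
    (F1 : ∀ R : Sylow p G, ∀ F ∈ f (R : Subgroup G), Subgroup.normalizer (F : Set G) ∈ 𝓕s)
    (F2 : ∀ M : Subgroup G, IsMaximalPLocal p M → ¬ IsFunctorRegular p f M → M ∈ 𝓕s) :
    ∀ n : ℕ, ∀ D : Subgroup G, Nat.card G - Nat.card D = n → D ≠ ⊥ → ∀ S T : Sylow p G,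
      D ≤ (S : Subgroup G) → D ≤ (T : Subgroup G) → Conn p 𝓕s D S T := by
  intro n
  induction n using Nat.strong_induction_on with
  | _ n ih =>
  intro D hn hD S T hDS hDT
  have hcardD : 1 ≤ Nat.card D := Nat.card_pos
  have IHo : ∀ D' : Subgroup G, Nat.card D < Nat.card D' → ∀ S T : Sylow p G,
      D' ≤ (S : Subgroup G) → D' ≤ (T : Subgroup G) → Conn p 𝓕s D' S T := by
    intro D' hlt S' T' h1 h2
    have hD'1 : D' ≠ ⊥ := by
      intro he
      rw [he, Subgroup.card_bot] at hlt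
      omega
    have h3 : Nat.card D' ≤ Nat.card G := Subgroup.card_le_card_group _
    exact ih (Nat.card G - Nat.card D') (by omega) D' rfl hD'1 S' T' h1 h2
  have hin := inner hf hf1 𝓕s F1 F2 D hD IHo
  by_cases hE : Nat.card D < Nat.card ↥((S : Subgroup G) ⊓ (T : Subgroup G))
  · exact (IHo _ hE S T inf_le_left inf_le_right).mono subset_rfl (le_inf hDS hDT)
  · have hED : D = (S : Subgroup G) ⊓ (T : Subgroup G) :=
      Subgroup.eq_of_le_of_card_ge (le_inf hDS hDT) (not_lt.1 hE)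
    by_cases hST : S = T
    · rw [hST]
      exact Conn.refl T
    · have hDp : IsPGroup p D := S.isPGroup'.to_le hDS
      have hcST : Nat.card (S : Subgroup G) = Nat.card (T : Subgroup G) := by
        rw [(isSylIn_top S).2, (isSylIn_top T).2]
      have hDltS : D < (S : Subgroup G) := by
        refine lt_of_le_of_ne hDS ?_
        intro he
        apply hST
        apply Sylow.ext
        apply Subgroup.eq_of_le_of_card_ge _ hcST.ge
        rw [← he]
        exact hDT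
      have hDltT : D < (T : Subgroup G) := by
        refine lt_of_le_of_ne hDT ?_
        intro he
        apply hST
        apply Sylow.ext
        symm
        apply Subgroup.eq_of_le_of_card_ge _ hcST.le
        rw [← he]
        exact hDS
      set L : Subgroup G := Subgroup.normalizer (D : Set G) with hLdef
      have hL : IsPLocal p L := ⟨D, hDp, hD, rfl⟩
      have hNS := lt_inf_normalizer S.isPGroup' hDltS
      have hNT := lt_inf_normalizer T.isPGroup' hDltT
      obtain ⟨Q_S, hQS, hNSQ⟩ := exists_isSylIn_ge (S.isPGroup'.to_le inf_le_left)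
        (inf_le_right : (S : Subgroup G) ⊓ L ≤ L)
      obtain ⟨Q_T, hQT, hNTQ⟩ := exists_isSylIn_ge (T.isPGroup'.to_le inf_le_left)
        (inf_le_right : (T : Subgroup G) ⊓ L ≤ L)
      obtain ⟨S₁, hS₁⟩ := exists_sylow_ge hQS.isPGroup
      obtain ⟨T₁, hT₁⟩ := exists_sylow_ge hQT.isPGroup
      have c1 : Conn p 𝓕s D S S₁ :=
        (IHo _ (card_lt_of_lt' hNS) S S₁ inf_le_left (hNSQ.trans hS₁)).mono subset_rfl hNS.le
      have c4 : Conn p 𝓕s D T₁ T :=
        (IHo _ (card_lt_of_lt' hNT) T₁ T (hNTQ.trans hT₁) inf_le_left).mono subset_rfl hNT.le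
      obtain ⟨m, hmL, hm⟩ := hQS.exists_conj hQT
      set T₂ : Sylow p G := m⁻¹ • T₁ with hT₂
      have hT₂c : (T₂ : Subgroup G) = subgroupConjRight m (T₁ : Subgroup G) := sylow_scr T₁ m
      have hQST₂ : Q_S ≤ (T₂ : Subgroup G) := by
        rw [hT₂c, ← hm]
        exact scr_mono hT₁
      have hDQS : D ≤ Q_S := hNS.le.trans hNSQ
      have hcQS : Nat.card D < Nat.card Q_S :=
        lt_of_lt_of_le (card_lt_of_lt' hNS) (Subgroup.card_le_of_le hNSQ)
      have c2 : Conn p 𝓕s D S₁ T₂ := (IHo Q_S hcQS S₁ T₂ hS₁ hQST₂).mono subset_rfl hDQS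
      have c3 : Conn p 𝓕s D T₂ T₁ := by
        refine hin _ L T₂ T₁ m⁻¹ rfl hL (inv_mem hmL) ?_ ?_ ?_ ?_
        · rw [hT₂c, scr_inv_scr]
        · exact le_inf (hDQS.trans hQST₂) Subgroup.le_normalizer
        · exact (hNT.le.trans hNTQ).trans hT₁
        · exact lt_of_lt_of_le hcQS (Subgroup.card_le_of_le (le_inf hQST₂ hQS.le))
      exact c1.trans (c2.trans (c3.trans c4))


theorem result' {G : Type*} [Group G] [Finite G] (p : ℕ) [Fact p.Prime]
    (f : Subgroup G → Set (Subgroup G)) (hf : Cfsg.IsNormalizerFunctor p f)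
    (hf1 : ∀ P : Subgroup G, IsPGroup p ↥P → P ≠ ⊥ → ∀ F ∈ f P, F ≠ ⊥)
    (𝓕 𝓕' : Set (Subgroup G)) (h𝓕 : 𝓕 = Cfsg.functorFamily p f ⊤)
    (h𝓕' : 𝓕' = {M | Cfsg.IsMaximalPLocal p M ∧ ¬ Cfsg.IsFunctorRegular p f M}) :
    Cfsg.ControlsSylowIntersections p (𝓕 ∪ 𝓕') := by
  rw [controls_iff]
  intro S T _ hne
  refine outer hf hf1 (𝓕 ∪ 𝓕') ?_ ?_ _ _ rfl hne S T inf_le_left inf_le_right
  · intro R F hF
    left
    rw [h𝓕]
    obtain ⟨P, hP⟩ := (isSylIn_top R).exists_sylow
    refine ⟨P, F, ?_, ?_⟩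
    · rw [← hP] at hF
      exact hF
    · rw [top_inf_eq]
  · intro M hM hreg
    right
    rw [h𝓕']
    exact ⟨hM, hreg⟩





/-- Let p be a prime dividing the order of the finite group G, and f an assignment to every p-subgroup P of a set f(P) of subgroups of P, each normalized by N_G(P), compatible with conjugation, such that for P ≠ 1 the members of f(P) are nontrivial. Let 𝓕 be the family of the normalizers N_G(F) of the members F of f(S) over the Sylow p-subgroups S of G, and 𝓕' the family of the maximal p-local subgroups M of G that are singular for f (the corresponding family of normalizers inside M does not control Sylow p-intersections in M). Then 𝓕 ∪ 𝓕' controls Sylow p-intersections in G. -/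
theorem result {G : Type*} [Group G] [Finite G] (p : ℕ) [Fact p.Prime] (hdiv : p ∣ Nat.card G)
    (f : Subgroup G → Set (Subgroup G)) (hf : Cfsg.IsNormalizerFunctor p f)
    (hf1 : ∀ P : Subgroup G, IsPGroup p ↥P → P ≠ ⊥ → ∀ F ∈ f P, F ≠ ⊥)
    (𝓕 𝓕' : Set (Subgroup G)) (h𝓕 : 𝓕 = Cfsg.functorFamily p f ⊤)
    (h𝓕' : 𝓕' = {M | Cfsg.IsMaximalPLocal p M ∧ ¬ Cfsg.IsFunctorRegular p f M}) :
    Cfsg.ControlsSylowIntersections p (𝓕 ∪ 𝓕') := by
  exact result' p f hf hf1 𝓕 𝓕' h𝓕 h𝓕'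

end Cfsg.Agent.S2956
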