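import Cfsg.Statements.S2957
import Mathlib
import Cfsg.Agent.Lib.Helper3.SylowChain
import Cfsg.Agent.S2940
-- import your own Cfsg.Agent.* helpers here

set_option autoImplicit false
open Cfsg

namespace Cfsg.Agent.S2957

open Cfsg.Agent.Lib.Helper2.SC Cfsg.Agent.Lib.Helper3.SChain
variable {G : Type*} [Group G] {p : ℕ} {f : Subgroup G → Set (Subgroup G)}


theorem mstep_to_top [Finite G] [Fact p.Prime] {M D Q₁ Q₂ : Subgroup G}
    (hfac : (Nat.card M).factorization p = (Nat.card (⊤ : Subgroup G)).factorization p)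
    (h : MStep p f M D Q₁ Q₂) : MStep p f ⊤ D Q₁ Q₂ := by
  obtain ⟨h1, h2, F, h3, h4, y, h5, h6, h7, h8⟩ := h
  exact ⟨h1.to_le le_top hfac, h2.to_le le_top hfac, F, h3, h4, y, Subgroup.mem_top _, h6, h7, h8⟩


theorem mconn_to_top [Finite G] [Fact p.Prime] {M D Q₁ Q₂ : Subgroup G}
    (hfac : (Nat.card M).factorization p = (Nat.card (⊤ : Subgroup G)).factorization p)
    (h : MConn p f M D Q₁ Q₂) : MConn p f ⊤ D Q₁ Q₂ := by
  induction h with
  | refl => exact Relation.ReflTransGen.refl
  | tail _ hbc ih => exact ih.tail (mstep_to_top hfac hbc)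


theorem mstep_scr [Finite G] [Fact p.Prime] (hf : IsNormalizerFunctor p f) {D Q₁ Q₂ : Subgroup G}
    (h : MStep p f ⊤ D Q₁ Q₂) (g : G) :
    MStep p f ⊤ (subgroupConjRight g D) (subgroupConjRight g Q₁) (subgroupConjRight g Q₂) := by
  obtain ⟨h1, h2, F, h3, h4, y, h5, h6, h7, h8⟩ := h
  refine ⟨h1.scr (Subgroup.mem_top _), h2.scr (Subgroup.mem_top _), subgroupConjRight g F,
    functor_scr hf h1.isPGroup h3 g, functor_scr hf h2.isPGroup h4 g, g⁻¹ * y * g,
    Subgroup.mem_top _, ?_, ?_, scr_mono h8⟩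
  · rw [← scr_eq_self_iff_mem_normalizer, scr_scr]
    have : g * (g⁻¹ * y * g) = y * g := by group
    rw [this, ← scr_scr, scr_eq_self_iff_mem_normalizer.2 h6]
  · rw [scr_scr]
    have : g * (g⁻¹ * y * g) = y * g := by group
    rw [this, ← scr_scr, h7]


theorem mconn_scr [Finite G] [Fact p.Prime] (hf : IsNormalizerFunctor p f) {D Q₁ Q₂ : Subgroup G}
    (h : MConn p f ⊤ D Q₁ Q₂) (g : G) :
    MConn p f ⊤ (subgroupConjRight g D) (subgroupConjRight g Q₁) (subgroupConjRight g Q₂) := by
  induction h with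
  | refl => exact Relation.ReflTransGen.refl
  | tail _ hbc ih => exact ih.tail (mstep_scr hf hbc g)


theorem result' {G : Type*} [Group G] [Finite G] (p : ℕ) [Fact p.Prime]
    (f : Subgroup G → Set (Subgroup G)) (hf : Cfsg.IsNormalizerFunctor p f) (S : Sylow p G)
    (G₁ G₂ : Subgroup G) (h₁ : (S : Subgroup G) ≤ G₁) (h₂ : (S : Subgroup G) ≤ G₂)
    (hprod : ∀ g : G, ∃ g₁ ∈ G₁, ∃ g₂ ∈ G₂, g = g₁ * g₂)
    (hr₁ : Cfsg.IsFunctorRegular p f G₁) (hr₂ : Cfsg.IsFunctorRegular p f G₂) :
    Cfsg.IsFunctorRegular p f ⊤ := by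
  rw [regular_iff hf] at hr₁ hr₂ ⊢
  have hStop := isSylIn_top S
  have hfac₁ : (Nat.card G₁).factorization p = (Nat.card (⊤ : Subgroup G)).factorization p :=
    factorization_eq_of_le h₁ le_top hStop.2
  have hfac₂ : (Nat.card G₂).factorization p = (Nat.card (⊤ : Subgroup G)).factorization p :=
    factorization_eq_of_le h₂ le_top hStop.2
  -- the case Q₁ = S
  have key : ∀ g : G, MConn p f ⊤ ((S : Subgroup G) ⊓ subgroupConjRight g (S : Subgroup G))
      (S : Subgroup G) (subgroupConjRight g (S : Subgroup G)) ∨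
      (S : Subgroup G) ⊓ subgroupConjRight g (S : Subgroup G) = ⊥ := by
    intro g
    by_cases hD : (S : Subgroup G) ⊓ subgroupConjRight g (S : Subgroup G) = ⊥
    · exact Or.inr hD
    left
    obtain ⟨U, hDU, hU⟩ := Cfsg.Agent.S2940.result S G₁ G₂ h₁ h₂ hprod g
    have hUtop := isSylIn_top U
    set D := (S : Subgroup G) ⊓ subgroupConjRight g (S : Subgroup G) with hDdef
    -- part A
    have hA : MConn p f ⊤ D (S : Subgroup G) (U : Subgroup G) := by
      by_cases hSU : (S : Subgroup G) = (U : Subgroup G)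
      · rw [← hSU]
        exact Relation.ReflTransGen.refl
      · have h1 : IsSylIn p (S : Subgroup G) G₁ := hStop.of_le h₁ le_top
        have h2 : IsSylIn p (U : Subgroup G) G₁ := hUtop.of_le (hU.trans inf_le_left) le_top
        have h3 : (S : Subgroup G) ⊓ (U : Subgroup G) ≠ ⊥ := by
          intro he
          apply hD
          apply le_antisymm _ bot_le
          rw [← he]
          exact le_inf inf_le_left hDU
        have := hr₁ _ _ h1 h2 hSU h3
        exact mconn_to_top hfac₁ (this.mono (le_inf inf_le_left hDU))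
    -- part B
    have hB : MConn p f ⊤ D (U : Subgroup G) (subgroupConjRight g (S : Subgroup G)) := by
      set U' := subgroupConjRight g⁻¹ (U : Subgroup G) with hU'
      have hU'G₂ : U' ≤ G₂ := by
        have := scr_mono (g := g⁻¹) (hU.trans inf_le_right)
        rwa [scr_inv_scr] at this
      have hUU' : subgroupConjRight g U' = (U : Subgroup G) := scr_scr_inv g _
      by_cases hSU : U' = (S : Subgroup G)
      · rw [← hSU, hUU']
        exact Relation.ReflTransGen.refl
      · have h1 : IsSylIn p (S : Subgroup G) G₂ := hStop.of_le h₂ le_top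
        have h2 : IsSylIn p U' G₂ := (hUtop.scr (Subgroup.mem_top _)).of_le hU'G₂ le_top
        have h3 : U' ⊓ (S : Subgroup G) ≠ ⊥ := by
          intro he
          apply hD
          have h4 := congrArg (subgroupConjRight g) he
          rw [scr_inf, hUU'] at h4
          apply le_antisymm _ bot_le
          have h5 : subgroupConjRight g (⊥ : Subgroup G) = ⊥ := scr_eq_bot_iff.2 rfl
          rw [← h5, ← h4]
          exact le_inf hDU inf_le_right
        have h6 := mconn_scr hf (mconn_to_top hfac₂ (hr₂ _ _ h2 h1 hSU h3)) g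
        rw [scr_inf, hUU'] at h6
        exact h6.mono (le_inf hDU inf_le_right)
    exact hA.trans hB
  intro Q₁ Q₂ hQ₁ hQ₂ hne hint
  obtain ⟨a, -, ha⟩ := hQ₁.exists_conj hStop
  -- Q₂' = scr a⁻¹ Q₂
  have hQ₂' : IsSylIn p (subgroupConjRight a⁻¹ Q₂) ⊤ := hQ₂.scr (Subgroup.mem_top _)
  obtain ⟨g, -, hg⟩ := hQ₂'.exists_conj hStop
  rcases key g with h | h
  · have h1 := mconn_scr hf h a
    rw [scr_inf, hg, ha, scr_scr_inv] at h1
    exact h1
  · exfalso
    apply hint
    have h1 := congrArg (subgroupConjRight a) h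
    rw [scr_inf, hg, ha, scr_scr_inv] at h1
    rw [h1]
    exact scr_eq_bot_iff.2 rfl





/-- Let p be a prime dividing the order of the finite group G, f an equivariant assignment of a set of subgroups f(P) of P to every p-subgroup P, each normalized by N_G(P), and S a Sylow p-subgroup. If G = G₁G₂ for subgroups G₁, G₂ both containing S and both regular for f (in each Gᵢ, the family of normalizers in Gᵢ of the members of f(P), P a Sylow p-subgroup of Gᵢ, controls Sylow p-intersections), then G itself is regular for f. -/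
theorem result {G : Type*} [Group G] [Finite G] (p : ℕ) [Fact p.Prime] (hdiv : p ∣ Nat.card G)
    (f : Subgroup G → Set (Subgroup G)) (hf : Cfsg.IsNormalizerFunctor p f) (S : Sylow p G)
    (G₁ G₂ : Subgroup G) (h₁ : (S : Subgroup G) ≤ G₁) (h₂ : (S : Subgroup G) ≤ G₂)
    (hprod : ∀ g : G, ∃ g₁ ∈ G₁, ∃ g₂ ∈ G₂, g = g₁ * g₂)
    (hr₁ : Cfsg.IsFunctorRegular p f G₁) (hr₂ : Cfsg.IsFunctorRegular p f G₂) :
    Cfsg.IsFunctorRegular p f ⊤ := by
  exact result' p f hf S G₁ G₂ h₁ h₂ hprod hr₁ hr₂

end Cfsg.Agent.S2957
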