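import Cfsg.Statements.S2958

set_option autoImplicit false
open Cfsg

namespace Cfsg.Agent.S2958

/-- Let X, A, B be subgroups of a group G such that G is generated by the conjugates of X and every conjugate of X is contained in A or in B. Then A = G or B = G. -/
theorem result {G : Type*} [Group G] (X A B : Subgroup G) (hgen : (⨆ g : G, X.map (MulAut.conj g).toMonoidHom) = ⊤) (hcover : ∀ g : G, X.map (MulAut.conj g).toMonoidHom ≤ A ∨ X.map (MulAut.conj g).toMonoidHom ≤ B) : A = ⊤ ∨ B = ⊤ := by
  classical
  by_cases hall : ∀ g : G, X.map (MulAut.conj g).toMonoidHom ≤ A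
  · left
    rw [eq_top_iff, ← hgen]
    exact iSup_le hall
  · right
    push Not at hall
    obtain ⟨g₀, hg₀⟩ := hall
    -- N = join of conjugates not in A
    set N : Subgroup G := ⨆ g : {g : G // ¬ X.map (MulAut.conj g).toMonoidHom ≤ A},
      X.map (MulAut.conj (g : G)).toMonoidHom with hN
    have hNB : N ≤ B := by
      refine iSup_le ?_
      rintro ⟨g, hg⟩
      rcases hcover g with h | h
      · exact absurd h hg
      · exact h
    have hconj : ∀ (a g : G), (X.map (MulAut.conj g).toMonoidHom).map (MulAut.conj a).toMonoidHom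
        = X.map (MulAut.conj (a * g)).toMonoidHom := by
      intro a g
      rw [Subgroup.map_map]
      congr 1
      ext x
      simp [MulAut.conj_apply, mul_assoc]
    -- A normalizes N
    have hAN : ∀ a ∈ A, N.map (MulAut.conj a).toMonoidHom ≤ N := by
      intro a ha
      rw [hN, Subgroup.map_iSup]
      refine iSup_le ?_
      rintro ⟨g, hg⟩
      rw [hconj]
      have : ¬ X.map (MulAut.conj (a * g)).toMonoidHom ≤ A := by
        intro h
        apply hg
        intro y hy
        have hy' : a * y * a⁻¹ ∈ X.map (MulAut.conj (a * g)).toMonoidHom := by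
          rw [← hconj]
          exact ⟨y, hy, by simp [MulAut.conj_apply]⟩
        have := h hy'
        have h2 : y = a⁻¹ * (a * y * a⁻¹) * a := by group
        rw [h2]
        exact A.mul_mem (A.mul_mem (A.inv_mem ha) this) ha
      exact le_iSup (fun g : {g : G // ¬ X.map (MulAut.conj g).toMonoidHom ≤ A} =>
        X.map (MulAut.conj (g : G)).toMonoidHom) ⟨a * g, this⟩
    -- normalizer of N contains all conjugates
    have hnorm : ∀ g : G, X.map (MulAut.conj g).toMonoidHom ≤ Subgroup.normalizer (N : Set G) := by
      intro g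
      by_cases hg : X.map (MulAut.conj g).toMonoidHom ≤ A
      · intro a ha
        have haA := hg ha
        rw [Subgroup.mem_normalizer_iff]
        intro n
        constructor
        · intro hn
          exact hAN a haA ⟨n, hn, by simp [MulAut.conj_apply]⟩
        · intro hn
          have h3 : (MulAut.conj a⁻¹).toMonoidHom (a * n * a⁻¹) ∈ N :=
            hAN a⁻¹ (A.inv_mem haA) ⟨a * n * a⁻¹, hn, rfl⟩
          have h4 : (MulAut.conj a⁻¹).toMonoidHom (a * n * a⁻¹) = n := by
            simp [mul_assoc]
          rwa [h4] at h3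
      · have : X.map (MulAut.conj g).toMonoidHom ≤ N :=
          le_iSup (fun g : {g : G // ¬ X.map (MulAut.conj g).toMonoidHom ≤ A} =>
            X.map (MulAut.conj (g : G)).toMonoidHom) ⟨g, hg⟩
        exact this.trans Subgroup.le_normalizer
    have hNnormal : Subgroup.normalizer (N : Set G) = ⊤ := by
      rw [eq_top_iff, ← hgen]
      exact iSup_le hnorm
    have hNn : N.Normal := Subgroup.normalizer_eq_top_iff.mp hNnormal
    have hg₀N : X.map (MulAut.conj g₀).toMonoidHom ≤ N :=
      le_iSup (fun g : {g : G // ¬ X.map (MulAut.conj g).toMonoidHom ≤ A} =>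
        X.map (MulAut.conj (g : G)).toMonoidHom) ⟨g₀, hg₀⟩
    have hallN : ∀ g : G, X.map (MulAut.conj g).toMonoidHom ≤ N := by
      intro g
      have h1 : X.map (MulAut.conj g).toMonoidHom
          = (X.map (MulAut.conj g₀).toMonoidHom).map (MulAut.conj (g * g₀⁻¹)).toMonoidHom := by
        rw [hconj]; simp
      rw [h1]
      rintro _ ⟨y, hy, rfl⟩
      have := hNn.conj_mem y (hg₀N hy) (g * g₀⁻¹)
      have h5 : (MulAut.conj (g * g₀⁻¹)).toMonoidHom y = g * g₀⁻¹ * y * (g * g₀⁻¹)⁻¹ := by
        simp [MulAut.conj_apply, mul_assoc]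
      rw [h5]
      exact this
    rw [eq_top_iff]
    refine le_trans ?_ hNB
    rw [← hgen]
    exact iSup_le hallN

end Cfsg.Agent.S2958
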