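import Cfsg.Statements.S2960
import Cfsg.Agent.Lib.Helper7.CharP

set_option autoImplicit false
open Cfsg

namespace Cfsg.Agent.S2960

open Cfsg.Agent.Lib.Helper7

/-- A normal `p`-subgroup of a subgroup containing the Sylow subgroup `T` lies in `T`. -/
theorem le_sylow_of_normalized {G : Type*} [Group G] {p : ℕ} (T : Sylow p G) (C : Subgroup G)
    (hC : IsPGroup p C) (hTC : (T : Subgroup G) ≤ Subgroup.normalizer (C : Set G)) :
    C ≤ (T : Subgroup G) := by
  have h1 : IsPGroup p ((T : Subgroup G) ⊔ C : Subgroup G) :=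
    IsPGroup.to_sup_of_normal_right' T.2 hC hTC
  have h2 := sylow_eq_of_le_isPGroup T h1 le_sup_left
  rw [← h2]
  exact le_sup_right

/-- Let G be a finite group of characteristic p (C_G(O_p(G)) ≤ O_p(G)), p prime, T a Sylow p-subgroup of G and Q a normal subgroup of T with C_T(Q) ≤ Q. Then C_G(Q) ≤ Q. -/
theorem result {G : Type*} [Group G] [Finite G] {p : ℕ} [Fact p.Prime] (hG : Subgroup.centralizer (Cfsg.pCore p G : Set G) ≤ Cfsg.pCore p G) (T : Sylow p G) (Q : Subgroup G) (hQT : Q ≤ (T : Subgroup G)) (hQn : (T : Subgroup G) ≤ Subgroup.normalizer (Q : Set G)) (hC : (T : Subgroup G) ⊓ Subgroup.centralizer (Q : Set G) ≤ Q) : Subgroup.centralizer (Q : Set G) ≤ Q := by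
  set R := Cfsg.pCore p G with hRdef
  have hRn : R.Normal := pCore_normal p G
  have hRp : IsPGroup p R := pCore_isPGroup p G
  have hRT : R ≤ (T : Subgroup G) := pCore_le_sylow T
  set C := Subgroup.centralizer (Q : Set G) with hCdef
  have hCp : IsPGroup p C := by
    apply isPGroup_of_forall_coprime_eq_one
    intro x hxC hx
    set A := Subgroup.zpowers x with hA
    have hAC : A ≤ C := by rw [hA, Subgroup.zpowers_le]; exact hxC
    have hQA : ⁅Q, A⁆ = ⊥ := by
      rw [Subgroup.commutator_comm, Subgroup.commutator_eq_bot_iff_le_centralizer]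
      exact hAC
    have hRQ : ⁅R, Q⁆ ≤ Q := by
      rw [Subgroup.commutator_comm]
      exact Subgroup.le_normalizer_iff_commutator_le_left.mp (hRT.trans hQn)
    have h1 : ⁅⁅R, Q⁆, A⁆ = ⊥ := le_bot_iff.mp (hQA ▸ Subgroup.commutator_mono hRQ le_rfl)
    have h2 : ⁅⁅Q, A⁆, R⁆ = ⊥ := by rw [hQA]; exact Subgroup.commutator_bot_left _
    have h3 : ⁅⁅A, R⁆, Q⁆ = ⊥ := Subgroup.commutator_commutator_eq_bot_of_rotate h1 h2
    have h4 : ⁅A, R⁆ ≤ C := Subgroup.commutator_eq_bot_iff_le_centralizer.mp h3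
    have h5 : ⁅A, R⁆ ≤ R := by
      rw [Subgroup.commutator_comm]
      exact Subgroup.le_normalizer_iff_commutator_le_left.mp
        (by rw [Subgroup.normalizer_eq_top]; exact le_top)
    have h6 : ⁅R, A⁆ ≤ Q := by
      rw [Subgroup.commutator_comm]
      exact (le_inf (h5.trans hRT) h4).trans hC
    have hq : ⁅⁅R, A⁆, A⁆ = ⊥ := le_bot_iff.mp (hQA ▸ Subgroup.commutator_mono h6 le_rfl)
    have hxR := mem_centralizer_of_quadratic_coprime R hRp x hx
      (by rw [Subgroup.normalizer_eq_top]; exact Subgroup.mem_top x) hq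
    exact eq_one_of_mem_isPGroup_of_coprime hRp (hG hxR) hx
  have hTC : (T : Subgroup G) ≤ Subgroup.normalizer (C : Set G) :=
    hQn.trans (normalizer_le_normalizer_centralizer Q)
  have hCT : C ≤ (T : Subgroup G) := le_sylow_of_normalized T C hCp hTC
  exact (le_inf hCT le_rfl).trans hC

end Cfsg.Agent.S2960
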