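import Cfsg.Statements.S2963
import Mathlib

set_option autoImplicit false
open Cfsg

namespace Cfsg.Agent.S2963

/-- Let n be odd. If the symmetric group of degree n is a minimal parabolic group for the prime 2, that is, a Sylow 2-subgroup is not normal and lies in exactly one maximal subgroup, then n = 2^m + 1 for some natural number m. -/
theorem result (n : ℕ) (hn : Odd n) (h : Cfsg.IsPMinimal 2 (Equiv.Perm (Fin n))) : ∃ m : ℕ, n = 2 ^ m + 1 := by
  classical
  haveI : Fact (Nat.Prime 2) := ⟨Nat.prime_two⟩
  obtain ⟨S⟩ : Nonempty (Sylow 2 (Equiv.Perm (Fin n))) := inferInstance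
  obtain ⟨hnn, M, ⟨hMco, hSM⟩, hMuniq⟩ := h S
  -- `n ≥ 2`
  have hn2 : 2 ≤ n := by
    by_contra hlt
    push Not at hlt
    apply hnn
    have : Subsingleton (Equiv.Perm (Fin n)) := by
      have : Subsingleton (Fin n) := by
        rw [Fin.subsingleton_iff_le_one]; omega
      infer_instance
    have hS : (S : Subgroup (Equiv.Perm (Fin n))) = ⊤ := Subsingleton.elim _ _
    rw [hS]; infer_instance
  haveI : Nontrivial (Fin n) := Fin.nontrivial_iff_two_le.2 hn2
  -- a fixed point of `S`
  have hcard : ¬ 2 ∣ Nat.card (Fin n) := by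
    rw [Nat.card_eq_fintype_card, Fintype.card_fin]
    exact hn.not_two_dvd_nat
  obtain ⟨x, hx⟩ := IsPGroup.nonempty_fixed_point_of_prime_not_dvd_card
    (show IsPGroup 2 ↥(S : Subgroup (Equiv.Perm (Fin n))) from S.isPGroup') (Fin n) hcard
  have hx' : ∀ g ∈ (S : Subgroup (Equiv.Perm (Fin n))), g x = x := fun g hg => hx ⟨g, hg⟩
  -- the point stabilizer is the maximal subgroup
  have hH1 : IsCoatom (MulAction.stabilizer (Equiv.Perm (Fin n)) x) :=
    (MulAction.isCoatom_stabilizer_iff_preprimitive (Equiv.Perm (Fin n)) x).2 inferInstance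
  have hSH1 : (S : Subgroup (Equiv.Perm (Fin n))) ≤ MulAction.stabilizer (Equiv.Perm (Fin n)) x := by
    intro g hg
    rw [MulAction.mem_stabilizer_iff]
    exact hx' g hg
  have hM1 : MulAction.stabilizer (Equiv.Perm (Fin n)) x = M := hMuniq _ ⟨hH1, hSH1⟩
  -- another point and its orbit
  obtain ⟨y, hyx⟩ := exists_ne x
  set B : Set (Fin n) := MulAction.orbit ↥(S : Subgroup (Equiv.Perm (Fin n))) y with hB
  have hxB : x ∉ B := by
    intro hxB
    obtain ⟨g, hg⟩ := hxB
    have h1 : (g : Equiv.Perm (Fin n)) y = x := hg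
    have h2 : (g : Equiv.Perm (Fin n)) x = x := hx' g g.2
    exact hyx ((g : Equiv.Perm (Fin n)).injective (h1.trans h2.symm))
  -- the orbit together with `x` is everything
  have hall : ∀ z : Fin n, z ∈ B ∨ z = x := by
    by_contra hcon
    push Not at hcon
    obtain ⟨z, hzB, hzx⟩ := hcon
    -- the set stabilizer of `B ∪ {x}`
    let H2 : Subgroup (Equiv.Perm (Fin n)) :=
      { carrier := {g | ∀ i, (i ∈ B ∨ i = x) ↔ (g i ∈ B ∨ g i = x)}
        one_mem' := fun i => Iff.rfl
        mul_mem' := fun {a b} ha hb i => (hb i).trans (ha (b i))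
        inv_mem' := fun {a} ha i => by
          have := ha (a⁻¹ i)
          have e : a (a⁻¹ i) = i := by simp
          rw [e] at this
          exact this.symm }
    have hSH2 : (S : Subgroup (Equiv.Perm (Fin n))) ≤ H2 := by
      intro g hg i
      constructor
      · rintro (hi | rfl)
        · left
          obtain ⟨s, rfl⟩ := hi
          exact ⟨⟨g, hg⟩ * s, rfl⟩
        · right; exact hx' g hg
      · rintro (hi | hi)
        · left
          obtain ⟨s, hs⟩ := hi
          refine ⟨(⟨g, hg⟩ : ↥(S : Subgroup (Equiv.Perm (Fin n))))⁻¹ * s, ?_⟩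
          show (g⁻¹ * (s : Equiv.Perm (Fin n))) y = i
          have hs' : (s : Equiv.Perm (Fin n)) y = g i := hs
          rw [Equiv.Perm.mul_apply, hs']; simp
        · right
          have h2 : g x = x := hx' g hg
          exact g.injective (hi.trans h2.symm)
    have hH2top : H2 ≠ ⊤ := by
      intro htop
      have : Equiv.swap x z ∈ H2 := by rw [htop]; exact Subgroup.mem_top _
      have h1 := (this x).1 (Or.inr rfl)
      rw [Equiv.swap_apply_left] at h1
      rcases h1 with h1 | h1
      · exact hzB h1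
      · exact hzx h1
    obtain ⟨M2, hM2co, hH2M2⟩ := (eq_top_or_exists_le_coatom H2).resolve_left hH2top
    have hM2 : M2 = M := hMuniq _ ⟨hM2co, hSH2.trans hH2M2⟩
    -- but `H2` moves `x`
    have hsw : Equiv.swap x y ∈ H2 := by
      intro i
      by_cases hix : i = x
      · subst hix
        rw [Equiv.swap_apply_left]
        exact ⟨fun _ => Or.inl (MulAction.mem_orbit_self y), fun _ => Or.inr rfl⟩
      · by_cases hiy : i = y
        · subst hiy
          rw [Equiv.swap_apply_right]
          exact ⟨fun _ => Or.inr rfl, fun _ => Or.inl (MulAction.mem_orbit_self i)⟩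
        · rw [Equiv.swap_apply_of_ne_of_ne hix hiy]
    have : Equiv.swap x y ∈ MulAction.stabilizer (Equiv.Perm (Fin n)) x := by
      rw [hM1, ← hM2]; exact hH2M2 hsw
    rw [MulAction.mem_stabilizer_iff] at this
    have h3 : (Equiv.swap x y) x = x := this
    rw [Equiv.swap_apply_left] at h3
    exact hyx h3
  -- count
  have hBcard : B.ncard = n - 1 := by
    have hBeq : B = {x}ᶜ := by
      ext z
      simp only [Set.mem_compl_iff, Set.mem_singleton_iff]
      constructor
      · intro hz hzx; exact hxB (hzx ▸ hz)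
      · intro hzx
        rcases hall z with h1 | h1
        · exact h1
        · exact absurd h1 hzx
    rw [hBeq, Set.ncard_compl, Set.ncard_singleton, Nat.card_eq_fintype_card, Fintype.card_fin]
  have hdvd : B.ncard ∣ Nat.card ↥(S : Subgroup (Equiv.Perm (Fin n))) := by
    rw [hB, ← MulAction.index_stabilizer]
    exact Subgroup.index_dvd_card _
  obtain ⟨k, hk⟩ := IsPGroup.iff_card.1 S.isPGroup'
  rw [hk, hBcard] at hdvd
  obtain ⟨m, -, hm⟩ := (Nat.dvd_prime_pow Nat.prime_two).1 hdvd
  exact ⟨m, by omega⟩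


end Cfsg.Agent.S2963
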