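import Cfsg.Statements.S2968
import Cfsg.Agent.Lib.Helper7.Isolated
import Cfsg.Agent.Lib.Helper7.SylowAux

set_option autoImplicit false
open Cfsg

namespace Cfsg.Agent.S2968

open Cfsg.Agent.Lib.Helper7

theorem key {G : Type*} [Group G] [Finite G] {p : ℕ} [Fact p.Prime] (P : Sylow p G) (x : G)
    (hxP : x ∈ (P : Subgroup G)) (hx : ∃ k : ℕ, orderOf x = p ^ k) (hiso : Cfsg.IsIsolated x)
    (k : ℤ) (g : G) (hw : g * x ^ k * g⁻¹ ∈ (P : Subgroup G)) : g * x ^ k * g⁻¹ = x ^ k := by
  set w := g * x ^ k * g⁻¹ with hwdef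
  set y := g * x * g⁻¹ with hy
  have hwy : w = y ^ k := by
    rw [hwdef, hy, conj_zpow]
  have hPc : (P : Subgroup G) ≤ Subgroup.centralizer {x} :=
    isolated_le_centralizer hiso _ P.isPGroup' hxP
  have hxH : x ∈ Subgroup.centralizer ({w} : Set G) := by
    rw [Subgroup.mem_centralizer_singleton_iff]
    have := Subgroup.mem_centralizer_singleton_iff.mp (hPc hw)
    exact this.symm
  have hyH : y ∈ Subgroup.centralizer ({w} : Set G) := by
    rw [Subgroup.mem_centralizer_singleton_iff, hwy]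
    exact ((Commute.refl y).zpow_right k).eq
  have hyp : IsPGroup p (Subgroup.zpowers y) := by
    apply isPGroup_zpowers
    obtain ⟨m, hm⟩ := hx
    exact ⟨m, by rw [← hm]; exact orderOf_conj_eq g x⟩
  have hxp : IsPGroup p (Subgroup.zpowers x) := isPGroup_zpowers hx
  obtain ⟨n, hn, R, hR, _, hyR, hxR⟩ := exists_conj_le_common_pSubgroup
    (Subgroup.centralizer ({w} : Set G)) (Subgroup.zpowers y) (Subgroup.zpowers x) hyp hxp
    (by rwa [Subgroup.zpowers_le]) (by rwa [Subgroup.zpowers_le])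
  have hyR' : y ∈ R := hyR (Subgroup.mem_zpowers y)
  have hxR' : n * x * n⁻¹ ∈ R := hxR ⟨x, Subgroup.mem_zpowers x, by simp [MulAut.conj_apply]⟩
  have hyiso : Cfsg.IsIsolated y := isolated_conj hiso g
  have hc := isolated_le_centralizer hyiso R hR hyR' hxR'
  rw [Subgroup.mem_centralizer_singleton_iff] at hc
  have e : n * x * n⁻¹ = (n * g⁻¹) * y * (n * g⁻¹)⁻¹ := by rw [hy]; group
  rw [e] at hc
  have h3 : (n * g⁻¹) * y * (n * g⁻¹)⁻¹ = y := hyiso _ hc.symm
  rw [← e] at h3
  have h4 : w = n * x ^ k * n⁻¹ := by rw [hwy, ← h3, conj_zpow]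
  rw [Subgroup.mem_centralizer_singleton_iff] at hn
  have h5 : x ^ k = n⁻¹ * w * n := by rw [h4]; group
  rw [h5]
  calc w = n⁻¹ * (n * w) := by group
    _ = n⁻¹ * (w * n) := by rw [hn]
    _ = n⁻¹ * w * n := by group


/-- Let G be a finite group, p a prime, P a Sylow p-subgroup of G and x ∈ P an element of p-power order which is isolated in G (the only conjugate of x commuting with x is x itself). Then x lies in the centre of P, and the subgroup generated by x is both strongly closed and weakly closed in P with respect to G. -/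
theorem result {G : Type*} [Group G] [Finite G] {p : ℕ} [Fact p.Prime] (P : Sylow p G) (x : G) (hxP : x ∈ (P : Subgroup G)) (hx : ∃ k : ℕ, orderOf x = p ^ k) (hiso : Cfsg.IsIsolated x) : x ∈ (P : Subgroup G) ⊓ Subgroup.centralizer ((P : Subgroup G) : Set G) ∧ Cfsg.IsStronglyClosed (Subgroup.zpowers x) (P : Subgroup G) ∧ Cfsg.IsWeaklyClosed (Subgroup.zpowers x) (P : Subgroup G) := by
  have hPc : (P : Subgroup G) ≤ Subgroup.centralizer {x} :=
    isolated_le_centralizer hiso _ P.isPGroup' hxP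
  have hzP : Subgroup.zpowers x ≤ (P : Subgroup G) := by rwa [Subgroup.zpowers_le]
  refine ⟨Subgroup.mem_inf.mpr ⟨hxP, ?_⟩, ⟨hzP, ?_⟩, ⟨hzP, ?_⟩⟩
  · rw [Subgroup.mem_centralizer_iff]
    intro h hh
    exact (Subgroup.mem_centralizer_singleton_iff.mp (hPc hh))
  · intro z hz g hg
    obtain ⟨k, rfl⟩ := Subgroup.mem_zpowers_iff.mp hz
    rw [key P x hxP hx hiso k g hg]
    exact hz
  · intro g hg
    have h1 : g * x ^ (1 : ℤ) * g⁻¹ ∈ (P : Subgroup G) := by
      apply hg
      exact ⟨x, Subgroup.mem_zpowers x, by simp [MulAut.conj_apply]⟩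
    have h2 := key P x hxP hx hiso 1 g h1
    simp only [zpow_one] at h2
    rw [MonoidHom.map_zpowers]
    congr 1

end Cfsg.Agent.S2968
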