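import Cfsg.Statements.S2969
import Cfsg.Agent.Lib.Helper7.Isolated
import Cfsg.Agent.Lib.Helper7.SylowAux

set_option autoImplicit false
open Cfsg

namespace Cfsg.Agent.S2969

open Cfsg.Agent.Lib.Helper7

/-- Let G be a finite group, p a prime and x ∈ G an element of p-power order which is isolated in G. If R is a p-subgroup of G containing x, then N_G(R) ≤ C_G(x); in particular x lies in the centre of R. Moreover, if x lies in a normal subgroup N of a subgroup H of G, then H = N·C_H(x). -/
theorem result {G : Type*} [Group G] [Finite G] {p : ℕ} [Fact p.Prime] (x : G) (hx : ∃ k : ℕ, orderOf x = p ^ k) (hiso : Cfsg.IsIsolated x) : (∀ R : Subgroup G, IsPGroup p ↥R → x ∈ R → Subgroup.normalizer (R : Set G) ≤ Subgroup.centralizer ({x} : Set G)) ∧ (∀ H N : Subgroup G, N ≤ H → H ≤ Subgroup.normalizer (N : Set G) → x ∈ N → N ⊔ (H ⊓ Subgroup.centralizer ({x} : Set G)) = H) := by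
  refine ⟨fun R hR hxR => isolated_normalizer_le_centralizer hiso R hR hxR, ?_⟩
  intro H N hNH hHN hxN
  apply le_antisymm
  · exact sup_le hNH inf_le_left
  · intro h hh
    have hy : h * x * h⁻¹ ∈ N := (Subgroup.mem_normalizer_iff.mp (hHN hh) x).mp hxN
    have hxp : IsPGroup p (Subgroup.zpowers x) := isPGroup_zpowers hx
    have hyp : IsPGroup p (Subgroup.zpowers (h * x * h⁻¹)) := by
      apply isPGroup_zpowers
      obtain ⟨k, hk⟩ := hx
      refine ⟨k, ?_⟩
      rw [← hk]
      exact orderOf_conj_eq h x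
    obtain ⟨n, hn, R, hR, hRN, hxR, hyR⟩ := exists_conj_le_common_pSubgroup N
      (Subgroup.zpowers x) (Subgroup.zpowers (h * x * h⁻¹)) hxp hyp
      (by rwa [Subgroup.zpowers_le]) (by rwa [Subgroup.zpowers_le])
    have hxR' : x ∈ R := hxR (Subgroup.mem_zpowers x)
    have hyR' : n * (h * x * h⁻¹) * n⁻¹ ∈ R :=
      hyR ⟨h * x * h⁻¹, Subgroup.mem_zpowers _, by simp [MulAut.conj_apply]⟩
    have hc := isolated_le_centralizer hiso R hR hxR' hyR'
    rw [Subgroup.mem_centralizer_singleton_iff] at hc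
    have e : n * (h * x * h⁻¹) * n⁻¹ = (n * h) * x * (n * h)⁻¹ := by group
    rw [e] at hc
    have h3 : (n * h) * x * (n * h)⁻¹ = x := hiso _ hc.symm
    have h4 : n * h ∈ H ⊓ Subgroup.centralizer ({x} : Set G) := by
      refine Subgroup.mem_inf.mpr ⟨H.mul_mem (hNH hn) hh, ?_⟩
      rw [Subgroup.mem_centralizer_singleton_iff]
      calc (n * h) * x = ((n * h) * x * (n * h)⁻¹) * (n * h) := by group
        _ = x * (n * h) := by rw [h3]
    have e2 : h = n⁻¹ * (n * h) := by group
    rw [e2]
    exact Subgroup.mul_mem_sup (N.inv_mem hn) h4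

end Cfsg.Agent.S2969
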