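import Cfsg.Statements.S2971
import Mathlib
import Cfsg.Agent.Lib.Helper7.Isolated2
import Cfsg.Agent.Lib.Lead.UniqueP
-- import your own Cfsg.Agent.* helpers here

set_option autoImplicit false
open Cfsg

namespace Cfsg.Agent.S2971

open Cfsg.Agent.Lib.Lead.UniqueP Cfsg.Agent.Lib.Helper7


theorem mem_zpowers_of_rank_one {G : Type*} [Group G] [Finite G] (p : ℕ) [hp : Fact p.Prime]
    (hrk : Cfsg.PRankLE p 1 G) (z w : G) (hz : orderOf z = p) (hw : w ^ p = 1)
    (hzw : z * w = w * z) : w ∈ Subgroup.zpowers z := by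
  have hcomm : ∀ a ∈ ({z, w} : Set G), ∀ b ∈ ({z, w} : Set G), a * b = b * a := by
    intro a ha b hb
    rcases ha with rfl | rfl <;> rcases hb with rfl | rfl
    · rfl
    · exact hzw
    · exact hzw.symm
    · rfl
  set E := Subgroup.closure ({z, w} : Set G) with hE
  have hEc : IsMulCommutative E := Subgroup.isMulCommutative_closure hcomm
  have hzE : z ∈ E := Subgroup.subset_closure (by simp)
  have hwE : w ∈ E := Subgroup.subset_closure (by simp)
  have hexp : ∀ a ∈ E, a ^ p = 1 := by
    intro a ha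
    induction ha using Subgroup.closure_induction with
    | mem a ha =>
      rcases ha with rfl | rfl
      · rw [← hz]; exact pow_orderOf_eq_one _
      · exact hw
    | one => simp
    | mul a b ha hb iha ihb =>
      have hab : Commute a b := by
        have := hEc.is_comm.comm ⟨a, ha⟩ ⟨b, hb⟩
        exact congrArg Subtype.val this
      rw [hab.mul_pow, iha, ihb, one_mul]
    | inv a ha iha => rw [inv_pow, iha, inv_one]
  have hcard := hrk E hEc hexp
  rw [pow_one] at hcard
  have hle : Subgroup.zpowers z ≤ E := by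
    rw [Subgroup.zpowers_le]; exact hzE
  have heq : Subgroup.zpowers z = E := by
    apply Subgroup.eq_of_le_of_card_ge hle
    rw [Nat.card_zpowers, hz]; exact hcard
  rw [heq]; exact hwE


theorem sylow_cyclic {G : Type*} [Group G] [Finite G] (p : ℕ) [hp : Fact p.Prime] (hp2 : p ≠ 2)
    (hrk : Cfsg.PRankLE p 1 G) (P : Sylow p G) : IsCyclic ↥(P : Subgroup G) := by
  apply odd_aux p hp2 _ _ rfl P.2
  intro x y hx hy hx1
  -- a central element of order p
  haveI : Nontrivial ↥(P : Subgroup G) := ⟨⟨x, 1, hx1⟩⟩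
  have hcen := P.2.center_nontrivial
  have hcp : IsPGroup p (Subgroup.center ↥(P : Subgroup G)) := P.2.to_subgroup _
  have hdvd : p ∣ Nat.card (Subgroup.center ↥(P : Subgroup G)) := by
    obtain ⟨k, hk⟩ := IsPGroup.iff_card.1 hcp
    have hk0 : k ≠ 0 := by
      rintro rfl
      rw [pow_zero] at hk
      have := (Nat.card_eq_one_iff_unique.1 hk).1
      exact not_nontrivial _ hcen
    rw [hk]; exact dvd_pow_self p hk0
  obtain ⟨z, hz⟩ := exists_prime_orderOf_dvd_card' p hdvd
  have hzG : orderOf ((z : ↥(P : Subgroup G)) : G) = p := by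
    rw [Subgroup.orderOf_coe, Subgroup.orderOf_coe]; exact hz
  have hzc : ∀ w : ↥(P : Subgroup G), ((z : ↥(P : Subgroup G)) : G) * w = w * ((z : ↥(P : Subgroup G)) : G) := by
    intro w
    have := Subgroup.mem_center_iff.1 z.2 w
    exact (congrArg Subtype.val this).symm
  have hxz := mem_zpowers_of_rank_one p hrk _ (x : G) hzG
    (by rw [← Subgroup.coe_pow, hx]; rfl) (hzc x)
  have hyz := mem_zpowers_of_rank_one p hrk _ (y : G) hzG
    (by rw [← Subgroup.coe_pow, hy]; rfl) (hzc y)
  -- zpowers x = zpowers z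
  have hxo : orderOf (x : G) = p := by
    apply orderOf_eq_prime
    · rw [← Subgroup.coe_pow, hx]; rfl
    · intro h; exact hx1 (Subtype.ext h)
  have hle : Subgroup.zpowers (x : G) ≤ Subgroup.zpowers ((z : ↥(P : Subgroup G)) : G) := by
    rw [Subgroup.zpowers_le]; exact hxz
  have heq : Subgroup.zpowers (x : G) = Subgroup.zpowers ((z : ↥(P : Subgroup G)) : G) := by
    apply Subgroup.eq_of_le_of_card_ge hle
    rw [Nat.card_zpowers, Nat.card_zpowers, hxo, hzG]
  rw [← heq] at hyz
  obtain ⟨k, hk⟩ := hyz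
  exact ⟨k, Subtype.ext (by rw [Subgroup.coe_zpow]; exact hk)⟩




/-- with a normal `p`-complement and abelian Sylow `p`-subgroups every element is central modulo `O_{p'}`. -/
theorem inZStar_of_complement {G : Type*} [Group G] [Finite G] (p : ℕ) [hp : Fact p.Prime]
    (h : Cfsg.HasNormalPComplement p G)
    (hab : ∀ P : Sylow p G, ∀ a b : ↥(P : Subgroup G), a * b = b * a) (x : G) :
    Cfsg.InZStar p x := by
  obtain ⟨P, N, hN, hc⟩ := h
  have hNcard : (Nat.card N).Coprime p := by
    have h3 : (P : Subgroup G).index = Nat.card N := hc.index_eq_card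
    rw [← h3, Nat.coprime_comm, Nat.Prime.coprime_iff_not_dvd hp.out]
    exact P.not_dvd_index
  have hNle : N ≤ pPrimeCore p G := le_sSup ⟨hN, hNcard⟩
  have hdec : ∀ g : G, ∃ n ∈ N, ∃ a ∈ (P : Subgroup G), g = n * a := by
    intro g
    obtain ⟨⟨⟨n, hn⟩, ⟨a, ha⟩⟩, hna⟩ := hc.2 g
    exact ⟨n, hn, a, ha, hna.symm⟩
  intro g
  apply hNle
  obtain ⟨n, hn, a, ha, rfl⟩ := hdec g
  obtain ⟨m, hm, b, hb, rfl⟩ := hdec x
  rw [← QuotientGroup.eq_one_iff]
  have e1 : ((n * a : G) : G ⧸ N) = (a : G ⧸ N) := by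
    rw [QuotientGroup.mk_mul, (QuotientGroup.eq_one_iff n).2 hn, one_mul]
  have e2 : ((m * b : G) : G ⧸ N) = (b : G ⧸ N) := by
    rw [QuotientGroup.mk_mul, (QuotientGroup.eq_one_iff m).2 hm, one_mul]
  rw [QuotientGroup.mk_mul, QuotientGroup.mk_mul, QuotientGroup.mk_mul, QuotientGroup.mk_inv,
    QuotientGroup.mk_inv, e1, e2]
  have hab' : a * b = b * a := congrArg Subtype.val (hab P ⟨a, ha⟩ ⟨b, hb⟩)
  rw [← QuotientGroup.mk_inv, ← QuotientGroup.mk_inv, ← QuotientGroup.mk_mul, ← QuotientGroup.mk_mul,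
    ← QuotientGroup.mk_mul]
  have : a * b * a⁻¹ * b⁻¹ = 1 := by rw [hab']; group
  rw [this]; rfl


theorem main {G : Type*} [Group G] [Finite G] {p : ℕ} [Fact p.Prime] (hp : p ≠ 2) (hrk : Cfsg.PRankLE p 1 G) (x : G) (hx : orderOf x = p) (hiso : Cfsg.IsIsolated x) : Cfsg.InZStar p x := by
  have hcyc := sylow_cyclic p hp hrk
  have hx1 : x ≠ 1 := by
    rintro rfl
    rw [orderOf_one] at hx
    exact (Fact.out : p.Prime).one_lt.ne hx
  have h := isolated_cyclic_hasNormalPComplement (x := x) ⟨1, by rw [hx, pow_one]⟩ hx1 hiso hcyc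
  apply inZStar_of_complement p h _ x
  intro P a b
  haveI := hcyc P
  exact comm_of_isCyclic a b





/-- Let G be a finite group and p an odd prime such that G has p-rank at most 1 (no elementary abelian subgroup of order p²). If x ∈ G is an isolated element of order p, then x is central modulo the largest normal subgroup of G of order prime to p. -/
theorem result {G : Type*} [Group G] [Finite G] {p : ℕ} [Fact p.Prime] (hp : p ≠ 2) (hrk : Cfsg.PRankLE p 1 G) (x : G) (hx : orderOf x = p) (hiso : Cfsg.IsIsolated x) : Cfsg.InZStar p x := by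
  exact main hp hrk x hx hiso

end Cfsg.Agent.S2971
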