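import Cfsg.Statements.S2972
import Mathlib
import Cfsg.Agent.Lib.Helper7.Isolated2
import Cfsg.Agent.Lib.Helper8.PComp5
-- import your own Cfsg.Agent.* helpers here

set_option autoImplicit false
open Cfsg

namespace Cfsg.Agent.S2972

open Cfsg.Agent.Lib.Helper7 Cfsg.Agent.Lib.Helper8.PComp Pointwise
open scoped commutatorElement


/-- a minimal counterexample to the `Z*_p` statement -/
structure MC {G : Type*} [Group G] (p : ℕ) (x : G) : Prop where
  hx : orderOf x = p
  hiso : Cfsg.IsIsolated x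
  hnz : ¬ Cfsg.InZStar p x
  hmin : ∀ (H : Subgroup G) (hxH : x ∈ H), H ≠ ⊤ → Cfsg.InZStar p (⟨x, hxH⟩ : ↥H)
  hquot : ∀ (N : Subgroup G) [N.Normal], N ≠ ⊥ → Cfsg.InZStar p (QuotientGroup.mk x : G ⧸ N)

theorem not_central {G : Type*} [Group G] {p : ℕ} {x : G} (h : MC p x) :
    ¬ ∀ g : G, g * x * g⁻¹ = x := by
  intro hc
  apply h.hnz
  intro g
  rw [hc g, mul_inv_cancel]
  exact Subgroup.one_mem _


theorem core_eq_bot {G : Type*} [Group G] [Finite G] {p : ℕ} [Fact p.Prime] {x : G} (h : MC p x) :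
    pPrimeCore p G = ⊥ := by
  by_contra hne
  apply h.hnz
  intro g
  have h1 := h.hquot (pPrimeCore p G) hne (QuotientGroup.mk g)
  rw [Cfsg.Agent.Lib.Helper1.pPrimeCore_quotient_eq_bot p, Subgroup.mem_bot] at h1
  rw [← QuotientGroup.eq_one_iff]
  simpa using h1


theorem le_core_of_subnormal {G : Type*} [Group G] [Finite G] {p : ℕ} [Fact p.Prime] {x : G}
    (h : MC p x) (W : Subgroup G) (hW : W.IsSubnormal) (hc : (Nat.card W).Coprime p) : W = ⊥ := by
  rw [eq_bot_iff, ← core_eq_bot h]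
  exact le_pPrimeCore_of_isSubnormal p hW hc


theorem eq_top_of_normal_of_mem {G : Type*} [Group G] [Finite G] {p : ℕ} [Fact p.Prime] {x : G}
    (h : MC p x) (K : Subgroup G) [hK : K.Normal] (hxK : x ∈ K) : K = ⊤ := by
  by_contra hne
  apply not_central h
  have h1 := h.hmin K hxK hne
  have hcore : pPrimeCore p ↥K = ⊥ := by
    have h2 := map_pPrimeCore_subtype p hK.isSubnormal
    rw [core_eq_bot h, bot_inf_eq] at h2
    exact (Subgroup.map_eq_bot_iff_of_injective _ (Subgroup.subtype_injective K)).1 h2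
  have hcent : ∀ k ∈ K, k * x * k⁻¹ = x := by
    intro k hk
    have := h1 ⟨k, hk⟩
    rw [hcore, Subgroup.mem_bot] at this
    have := congrArg Subtype.val this
    have e : k * x * k⁻¹ * x⁻¹ = 1 := by simpa using this
    exact mul_inv_eq_one.1 e
  intro g
  apply h.hiso g
  have hgK : g * x * g⁻¹ ∈ K := hK.conj_mem x hxK g
  have := hcent _ hgK
  show x * (g * x * g⁻¹) = (g * x * g⁻¹) * x
  exact (mul_inv_eq_iff_eq_mul.1 this).symm




/-- minimal normal subgroups -/
def IsMinNormal {G : Type*} [Group G] (N : Subgroup G) : Prop :=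
  N.Normal ∧ N ≠ ⊥ ∧ ∀ M : Subgroup G, M.Normal → M ≠ ⊥ → M ≤ N → M = N


theorem exists_minNormal {G : Type*} [Group G] [Finite G] [Nontrivial G] :
    ∃ N : Subgroup G, IsMinNormal N := by
  classical
  have hfin : {N : Subgroup G | N.Normal ∧ N ≠ ⊥}.Finite := Set.toFinite _
  have hne : {N : Subgroup G | N.Normal ∧ N ≠ ⊥}.Nonempty :=
    ⟨⊤, inferInstance, top_ne_bot⟩
  obtain ⟨N, hN, hmin⟩ := hfin.exists_minimal hne
  refine ⟨N, hN.1, hN.2, ?_⟩
  intro M hM hMb hMN
  exact le_antisymm hMN (hmin ⟨hM, hMb⟩ hMN)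


/-- if `N⟨x⟩` is proper then `x` centralizes `N` -/
theorem centralizes_of_ne_top {G : Type*} [Group G] [Finite G] {p : ℕ} [hp : Fact p.Prime] {x : G}
    (h : MC p x) (N : Subgroup G) (hN : IsMinNormal N) (hH : N ⊔ Subgroup.zpowers x ≠ ⊤) :
    ∀ n ∈ N, n * x * n⁻¹ * x⁻¹ = 1 := by
  haveI := hN.1
  intro n hn
  set H := N ⊔ Subgroup.zpowers x with hHdef
  have hxH : x ∈ H := le_sup_right (a := N) (Subgroup.mem_zpowers x)
  have hNH : N ≤ H := le_sup_left
  have h1 := h.hmin H hxH hH ⟨n, hNH hn⟩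
  set OH := (pPrimeCore p ↥H).map H.subtype with hOH
  have hc1 : n * x * n⁻¹ * x⁻¹ ∈ OH := ⟨_, h1, by simp⟩
  have hc2 : n * x * n⁻¹ * x⁻¹ ∈ N := by
    have : n * x * n⁻¹ * x⁻¹ = n * (x * n⁻¹ * x⁻¹) := by group
    rw [this]
    exact N.mul_mem hn (hN.1.conj_mem _ (N.inv_mem hn) x)
  -- W = N ⊓ OH is a subnormal p'-subgroup
  have hHnorm : H ≤ Subgroup.normalizer (OH : Set G) := by
    intro a ha
    rw [Subgroup.mem_normalizer_iff]
    intro b
    constructor
    · rintro ⟨b', hb', rfl⟩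
      exact ⟨⟨a, ha⟩ * b' * ⟨a, ha⟩⁻¹, (Cfsg.pPrimeCore_normal p ↥H).conj_mem b' hb' ⟨a, ha⟩, by simp⟩
    · rintro ⟨c', hc', hc'eq⟩
      have hbH : b ∈ H := by
        have : b = a⁻¹ * (a * b * a⁻¹) * a := by group
        rw [this, ← hc'eq]
        exact H.mul_mem (H.mul_mem (H.inv_mem ha) c'.2) ha
      refine ⟨⟨b, hbH⟩, ?_, rfl⟩
      have : (⟨b, hbH⟩ : ↥H) = ⟨a, ha⟩⁻¹ * c' * ⟨a, ha⟩⁻¹⁻¹ := by
        apply Subtype.ext
        simp only [Subgroup.coe_mul, Subgroup.coe_inv, inv_inv]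
        have e : (c' : G) = a * b * a⁻¹ := hc'eq
        rw [e]; group
      rw [this]
      exact (Cfsg.pPrimeCore_normal p ↥H).conj_mem c' hc' _
  have hWsub : (N ⊓ OH).IsSubnormal := by
    apply isSubnormal_of_le_normalizer hN.1.isSubnormal inf_le_left
    refine le_trans (le_inf ?_ (hNH.trans hHnorm)) Subgroup.inf_normalizer_le_normalizer_inf
    exact Subgroup.le_normalizer
  have hWc : (Nat.card ↥(N ⊓ OH)).Coprime p := by
    have h2 : Nat.card ↥(N ⊓ OH) ∣ Nat.card OH := Subgroup.card_dvd_of_le inf_le_right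
    have h3 : Nat.card OH = Nat.card (pPrimeCore p ↥H) := by
      rw [hOH, Subgroup.card_map_of_injective (Subgroup.subtype_injective H)]
    rw [h3] at h2
    exact Nat.Coprime.coprime_dvd_left h2 (Cfsg.Agent.Lib.Helper1.pPrimeCore_card_coprime p)
  have hW := le_core_of_subnormal h _ hWsub hWc
  have : n * x * n⁻¹ * x⁻¹ ∈ N ⊓ OH := ⟨hc2, hc1⟩
  rw [hW, Subgroup.mem_bot] at this
  exact this




theorem le_center_of_ne_top {G : Type*} [Group G] [Finite G] {p : ℕ} [hp : Fact p.Prime] {x : G}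
    (h : MC p x) (N : Subgroup G) (hN : IsMinNormal N) (hH : N ⊔ Subgroup.zpowers x ≠ ⊤) :
    ∀ n ∈ N, ∀ g : G, g * n = n * g := by
  haveI := hN.1
  have h1 := centralizes_of_ne_top h N hN hH
  have hx : x ∈ Subgroup.centralizer (N : Set G) := by
    rw [Subgroup.mem_centralizer_iff]
    intro n hn
    have := h1 n hn
    have e : n * x * n⁻¹ = x := mul_inv_eq_one.1 this
    exact mul_inv_eq_iff_eq_mul.1 e
  have htop := eq_top_of_normal_of_mem h (Subgroup.centralizer (N : Set G)) hx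
  intro n hn g
  have hg : g ∈ Subgroup.centralizer (N : Set G) := by rw [htop]; trivial
  rw [Subgroup.mem_centralizer_iff] at hg
  exact (hg n hn).symm


theorem card_eq_of_ne_top {G : Type*} [Group G] [Finite G] {p : ℕ} [hp : Fact p.Prime] {x : G}
    (h : MC p x) (N : Subgroup G) (hN : IsMinNormal N) (hH : N ⊔ Subgroup.zpowers x ≠ ⊤) :
    Nat.card N = p := by
  haveI := hN.1
  have hcen := le_center_of_ne_top h N hN hH
  -- a prime dividing |N|
  have hcard1 : Nat.card N ≠ 1 := by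
    intro h1
    exact hN.2.1 (Subgroup.card_eq_one.1 h1)
  obtain ⟨q, hq, hqN⟩ := Nat.exists_prime_and_dvd hcard1
  haveI := Fact.mk hq
  obtain ⟨n₀, hn₀⟩ := exists_prime_orderOf_dvd_card' q hqN
  have hn₀G : orderOf (n₀ : G) = q := by rw [Subgroup.orderOf_coe]; exact hn₀
  have hZn : (Subgroup.zpowers (n₀ : G)).Normal := by
    refine ⟨fun a ha g => ?_⟩
    have haN : a ∈ N := by
      obtain ⟨k, rfl⟩ := ha
      exact N.zpow_mem n₀.2 k
    have : g * a * g⁻¹ = a := by rw [hcen a haN g]; group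
    rw [this]; exact ha
  have hZne : Subgroup.zpowers (n₀ : G) ≠ ⊥ := by
    intro hb
    have h0 : (n₀ : G) = 1 := by
      have : (n₀ : G) ∈ (⊥ : Subgroup G) := hb ▸ Subgroup.mem_zpowers _
      simpa using this
    rw [h0, orderOf_one] at hn₀G
    exact hq.one_lt.ne hn₀G
  have hZle : Subgroup.zpowers (n₀ : G) ≤ N := by
    rw [Subgroup.zpowers_le]; exact n₀.2
  have hZeq := hN.2.2 _ hZn hZne hZle
  have hcardq : Nat.card N = q := by rw [← hZeq, Nat.card_zpowers, hn₀G]
  by_cases hqp : q = p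
  · rw [hcardq, hqp]
  · exfalso
    apply hN.2.1
    apply le_core_of_subnormal h N hN.1.isSubnormal
    rw [hcardq]
    exact (Nat.coprime_primes hq hp.out).2 hqp




theorem le_normalizer_of_conj_mem {G : Type*} [Group G] {H K : Subgroup G}
    (h : ∀ k ∈ K, ∀ y ∈ H, k * y * k⁻¹ ∈ H) : K ≤ Subgroup.normalizer (H : Set G) := by
  intro k hk
  rw [Subgroup.mem_normalizer_iff]
  intro y
  constructor
  · exact h k hk y
  · intro hy
    have := h k⁻¹ (K.inv_mem hk) _ hy
    simpa [mul_assoc] using this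


/-- a central normal `p`-subgroup `N` with `M / N` a `p'`-group, `M` normal: then `M = N`. -/
theorem eq_of_central_coprime {G : Type*} [Group G] [Finite G] {p : ℕ} [hp : Fact p.Prime] {x : G}
    (h : MC p x) (N M : Subgroup G) [hMn : M.Normal] (hNM : N ≤ M)
    (hcen : ∀ n ∈ N, ∀ g : G, g * n = n * g) (hNcard : Nat.card N = p)
    (hidx : (N.relIndex M).Coprime p) : M ≤ N := by
  haveI hN'n : (N.subgroupOf M).Normal := by
    refine ⟨fun a ha g => ?_⟩
    rw [Subgroup.mem_subgroupOf] at ha ⊢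
    have : ((g * a * g⁻¹ : ↥M) : G) = (a : G) := by
      simp only [Subgroup.coe_mul, Subgroup.coe_inv]
      rw [hcen _ ha (g : G)]; group
    rw [this]; exact ha
  have hN'card : Nat.card (N.subgroupOf M) = p := by
    rw [Nat.card_congr (Subgroup.subgroupOfEquivOfLe hNM).toEquiv, hNcard]
  have hcop : Nat.Coprime (Nat.card (N.subgroupOf M)) (N.subgroupOf M).index := by
    rw [hN'card]
    exact hidx.symm
  obtain ⟨Q', hQ'⟩ := Subgroup.exists_right_complement'_of_coprime hcop
  have hQ'card : Nat.card Q' = N.relIndex M := hQ'.symm.index_eq_card.symm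
  set Q := Q'.map M.subtype with hQ
  have hQM : Q ≤ M := Subgroup.map_subtype_le _
  have hQn : M ≤ Subgroup.normalizer (Q : Set G) := by
    apply le_normalizer_of_conj_mem
    intro m hm y hy
    obtain ⟨y', hy', rfl⟩ := hy
    obtain ⟨⟨⟨n', hn'⟩, ⟨q', hq'⟩⟩, hnq⟩ := hQ'.2 ⟨m, hm⟩
    simp only at hnq
    have hn'N : (n' : G) ∈ N := Subgroup.mem_subgroupOf.1 hn'
    have hm_eq : m = (n' : G) * (q' : G) := by
      have := congrArg Subtype.val hnq
      simpa using this.symm
    refine ⟨q' * y' * q'⁻¹, Q'.mul_mem (Q'.mul_mem hq' hy') (Q'.inv_mem hq'), ?_⟩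
    simp only [Subgroup.subtype_apply, Subgroup.coe_mul, Subgroup.coe_inv]
    rw [hm_eq]
    have e : (n' : G) * (q' : G) * (y' : G) * ((n' : G) * (q' : G))⁻¹ =
        ((n' : G) * ((q' : G) * (y' : G) * (q' : G)⁻¹)) * (n' : G)⁻¹ := by group
    rw [e, ← hcen _ hn'N]; group
  have hQsub : Q.IsSubnormal := isSubnormal_of_le_normalizer hMn.isSubnormal hQM hQn
  have hQc : (Nat.card Q).Coprime p := by
    rw [hQ, Subgroup.card_map_of_injective (Subgroup.subtype_injective M), hQ'card]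
    exact hidx
  have hQbot := le_core_of_subnormal h Q hQsub hQc
  have hQ'bot : Q' = ⊥ :=
    (Subgroup.map_eq_bot_iff_of_injective _ (Subgroup.subtype_injective M)).1 hQbot
  have htop : N.subgroupOf M = ⊤ := by
    rw [← Subgroup.index_eq_one, hQ'.symm.index_eq_card, hQ'bot, Subgroup.card_bot]
  exact Subgroup.subgroupOf_eq_top.1 htop




theorem sup_eq_top {G : Type*} [Group G] [Finite G] {p : ℕ} [hp : Fact p.Prime] {x : G}
    (h : MC p x) (N : Subgroup G) (hN : IsMinNormal N) : N ⊔ Subgroup.zpowers x = ⊤ := by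
  by_contra hH
  haveI := hN.1
  have hcen := le_center_of_ne_top h N hN hH
  have hcard := card_eq_of_ne_top h N hN hH
  set M := (pPrimeCore p (G ⧸ N)).comap (QuotientGroup.mk' N) with hM
  haveI hMn : M.Normal := Subgroup.Normal.comap (Cfsg.pPrimeCore_normal p _) _
  have hNM : N ≤ M := by
    intro n hn
    rw [hM, Subgroup.mem_comap]
    have : (QuotientGroup.mk' N) n = 1 := (QuotientGroup.eq_one_iff n).2 hn
    rw [this]; exact Subgroup.one_mem _
  have hidx : (N.relIndex M).Coprime p := by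
    have h1 : N = (⊥ : Subgroup (G ⧸ N)).comap (QuotientGroup.mk' N) := by
      have := QuotientGroup.ker_mk' N
      rw [MonoidHom.ker] at this
      exact this.symm
    have h2 : N.relIndex M = Nat.card (pPrimeCore p (G ⧸ N)) := by
      conv_lhs => rw [h1]
      rw [Subgroup.relIndex_comap, hM,
        Subgroup.map_comap_eq_self_of_surjective (QuotientGroup.mk'_surjective N),
        Subgroup.relIndex_bot_left]
    rw [h2]
    exact Cfsg.Agent.Lib.Helper1.pPrimeCore_card_coprime p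
  have hMN := eq_of_central_coprime h N M hNM hcen hcard hidx
  apply not_central h
  intro g
  apply h.hiso g
  have h1 := h.hquot N hN.2.1 (QuotientGroup.mk g)
  have h2 : g * x * g⁻¹ * x⁻¹ ∈ M := by
    rw [hM, Subgroup.mem_comap]
    simpa using h1
  have h3 := hcen _ (hMN h2)
  -- g x g⁻¹ = c x with c central
  have e : g * x * g⁻¹ = (g * x * g⁻¹ * x⁻¹) * x := by group
  show x * (g * x * g⁻¹) = (g * x * g⁻¹) * x
  rw [e, ← mul_assoc, h3 x]




theorem simple_like {G : Type*} [Group G] [Finite G] {p : ℕ} [hp : Fact p.Prime] {x : G}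
    (h : MC p x) (N : Subgroup G) (hN : IsMinNormal N) (hNx : N ⊔ Subgroup.zpowers x = ⊤)
    (S : Subgroup G) (hSN : S ≤ N) (hn : N ≤ Subgroup.normalizer (S : Set G)) :
    S = ⊥ ∨ S = N := by
  by_contra hcon
  push Not at hcon
  obtain ⟨hSb, hSne⟩ := hcon
  haveI := hN.1
  -- normal core is trivial
  have hcore : S.normalCore = ⊥ := by
    by_contra hb
    have := hN.2.2 S.normalCore inferInstance hb ((Subgroup.normalCore_le S).trans hSN)
    apply hSne
    exact le_antisymm hSN (this ▸ Subgroup.normalCore_le S)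
  -- decomposition of elements
  have hdec : ∀ g : G, ∃ n ∈ N, ∃ i : ℤ, g = n * x ^ i := by
    intro g
    have hg : g ∈ ((N ⊔ Subgroup.zpowers x : Subgroup G) : Set G) := by rw [hNx]; trivial
    rw [Subgroup.normal_mul] at hg
    obtain ⟨n, hn', y, ⟨i, rfl⟩, rfl⟩ := Set.mem_mul.1 hg
    exact ⟨n, hn', i, rfl⟩
  -- Sylow containing x
  have hxp : IsPGroup p (Subgroup.zpowers x) := isPGroup_zpowers ⟨1, by rw [h.hx, pow_one]⟩
  obtain ⟨P, hP⟩ := hxp.exists_le_sylow
  have hxP : x ∈ (P : Subgroup G) := hP (Subgroup.mem_zpowers x)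
  have hPc := isolated_le_centralizer h.hiso P P.2 hxP
  -- S is a p'-group
  have hScop : (Nat.card S).Coprime p := by
    rw [Nat.coprime_comm, Nat.Prime.coprime_iff_not_dvd hp.out]
    intro hdvd
    obtain ⟨s, hs⟩ := exists_prime_orderOf_dvd_card' p hdvd
    have hs1 : (s : G) ≠ 1 := by
      intro h1
      have : s = 1 := Subtype.ext h1
      rw [this, orderOf_one] at hs
      exact hp.out.one_lt.ne hs
    have hsp : IsPGroup p (Subgroup.zpowers (s : G)) :=
      isPGroup_zpowers ⟨1, by rw [Subgroup.orderOf_coe, hs, pow_one]⟩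
    obtain ⟨Q, hQ⟩ := hsp.exists_le_sylow
    obtain ⟨g, hg⟩ := MulAction.exists_smul_eq G Q P
    have htP : g * (s : G) * g⁻¹ ∈ (P : Subgroup G) := by
      rw [← hg]
      exact ⟨s, hQ (Subgroup.mem_zpowers _), rfl⟩
    obtain ⟨n, hnN, i, hgi⟩ := hdec g⁻¹
    have hgeq : g = x ^ (-i) * n⁻¹ := by
      have := congrArg (fun z => z⁻¹) hgi
      simp only [inv_inv, mul_inv_rev] at this
      rw [this, zpow_neg]
    set t := g * (s : G) * g⁻¹ with ht
    have htx : Commute x t := by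
      have := hPc htP
      rw [Subgroup.mem_centralizer_iff] at this
      exact (this x rfl)
    have hs' : n⁻¹ * (s : G) * n ∈ S := by
      have := (Subgroup.mem_normalizer_iff.1 (hn (N.inv_mem hnN)) (s : G)).1 s.2
      simpa using this
    have hteq : t = n⁻¹ * (s : G) * n := by
      have e1 : t = x ^ (-i) * (n⁻¹ * (s : G) * n) * (x ^ (-i))⁻¹ := by
        rw [ht, hgeq]; group
      have e2 : x ^ i * t * (x ^ i)⁻¹ = t := by
        have := (htx.zpow_left i).eq
        rw [this]; group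
      rw [← e2, e1]; group
    have htS : t ∈ S := hteq ▸ hs'
    have htcore : t ∈ S.normalCore := by
      intro b
      obtain ⟨n', hn'N, j, rfl⟩ := hdec b
      have e2 : x ^ j * t * (x ^ j)⁻¹ = t := by
        have := (htx.zpow_left j).eq
        rw [this]; group
      have e3 : n' * x ^ j * t * (n' * x ^ j)⁻¹ = n' * (x ^ j * t * (x ^ j)⁻¹) * n'⁻¹ := by group
      rw [e3, e2]
      exact (Subgroup.mem_normalizer_iff.1 (hn hn'N) t).1 htS
    rw [hcore, Subgroup.mem_bot] at htcore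
    apply hs1
    have : (s : G) = g⁻¹ * t * g := by rw [ht]; group
    rw [this, htcore]; group
  exact hSb (le_core_of_subnormal h S
    (isSubnormal_of_le_normalizer hN.1.isSubnormal hSN hn) hScop)




theorem not_comm {G : Type*} [Group G] [Finite G] {p : ℕ} [hp : Fact p.Prime] {x : G}
    (h : MC p x) (N : Subgroup G) (hN : IsMinNormal N) : ¬ IsMulCommutative ↥N := by
  intro hc
  haveI := hN.1
  have hNx := sup_eq_top h N hN
  have hcomm : ∀ a ∈ N, ∀ b ∈ N, a * b = b * a := by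
    intro a ha b hb
    exact congrArg Subtype.val (hc.is_comm.comm ⟨a, ha⟩ ⟨b, hb⟩)
  have hcard1 : Nat.card N ≠ 1 := by
    intro h1
    exact hN.2.1 (Subgroup.card_eq_one.1 h1)
  obtain ⟨q, hq, hqN⟩ := Nat.exists_prime_and_dvd hcard1
  haveI := Fact.mk hq
  obtain ⟨n₀, hn₀⟩ := exists_prime_orderOf_dvd_card' q hqN
  have hn₀G : orderOf (n₀ : G) = q := by rw [Subgroup.orderOf_coe]; exact hn₀
  have hZle : Subgroup.zpowers (n₀ : G) ≤ N := by
    rw [Subgroup.zpowers_le]; exact n₀.2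
  have hZn : N ≤ Subgroup.normalizer ((Subgroup.zpowers (n₀ : G) : Subgroup G) : Set G) := by
    apply le_normalizer_of_conj_mem
    intro k hk y hy
    have : k * y * k⁻¹ = y := by rw [hcomm k hk y (hZle hy)]; group
    rw [this]; exact hy
  have hZne : Subgroup.zpowers (n₀ : G) ≠ ⊥ := by
    intro hb
    have h0 : (n₀ : G) = 1 := by
      have : (n₀ : G) ∈ (⊥ : Subgroup G) := hb ▸ Subgroup.mem_zpowers _
      simpa using this
    rw [h0, orderOf_one] at hn₀G
    exact hq.one_lt.ne hn₀G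
  have hZeq := (simple_like h N hN hNx _ hZle hZn).resolve_left hZne
  have hcardq : Nat.card N = q := by rw [← hZeq, Nat.card_zpowers, hn₀G]
  have hqp : q = p := by
    by_contra hqp
    apply hN.2.1
    apply le_core_of_subnormal h N hN.1.isSubnormal
    rw [hcardq]
    exact (Nat.coprime_primes hq hp.out).2 hqp
  -- G is a p-group
  have hGcard : Nat.card G ∣ p * p := by
    have h1 := Cfsg.Agent.Lib.Helper2.card_sup_mul_card_inf (Subgroup.zpowers x) N
    rw [sup_comm, hNx, Subgroup.card_top, Nat.card_zpowers, h.hx, hcardq, hqp] at h1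
    exact ⟨_, h1.symm⟩
  have hGp : IsPGroup p G := by
    obtain ⟨k, -, hk⟩ := (Nat.dvd_prime_pow hp.out).1 (by rw [sq]; exact hGcard : Nat.card G ∣ p ^ 2)
    exact IsPGroup.of_card hk
  have hx : (⊤ : Subgroup G) ≤ Subgroup.centralizer {x} :=
    isolated_le_centralizer h.hiso ⊤ (hGp.to_subgroup _) (Subgroup.mem_top x)
  apply not_central h
  intro g
  have := hx (Subgroup.mem_top g)
  rw [Subgroup.mem_centralizer_iff] at this
  rw [← this x rfl]; group




theorem comm_eq {G : Type*} [Group G] [Finite G] {p : ℕ} [hp : Fact p.Prime] {x : G}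
    (h : MC p x) (N : Subgroup G) (hN : IsMinNormal N) : commutator G = N := by
  haveI := hN.1
  have hNx := sup_eq_top h N hN
  have hdec : ∀ g : G, ∃ n ∈ N, ∃ i : ℤ, g = n * x ^ i := by
    intro g
    have hg : g ∈ ((N ⊔ Subgroup.zpowers x : Subgroup G) : Set G) := by rw [hNx]; trivial
    rw [Subgroup.normal_mul] at hg
    obtain ⟨n, hn', y, ⟨i, rfl⟩, rfl⟩ := Set.mem_mul.1 hg
    exact ⟨n, hn', i, rfl⟩
  have hle : commutator G ≤ N := by
    rw [commutator_def, Subgroup.commutator_le]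
    intro g₁ _ g₂ _
    obtain ⟨n₁, hn₁, i, rfl⟩ := hdec g₁
    obtain ⟨n₂, hn₂, j, rfl⟩ := hdec g₂
    rw [← QuotientGroup.eq_one_iff]
    have e1 : ((n₁ * x ^ i : G) : G ⧸ N) = (x : G ⧸ N) ^ i := by
      rw [QuotientGroup.mk_mul, (QuotientGroup.eq_one_iff n₁).2 hn₁, one_mul, QuotientGroup.mk_zpow]
    have e2 : ((n₂ * x ^ j : G) : G ⧸ N) = (x : G ⧸ N) ^ j := by
      rw [QuotientGroup.mk_mul, (QuotientGroup.eq_one_iff n₂).2 hn₂, one_mul, QuotientGroup.mk_zpow]
    have : ((⁅n₁ * x ^ i, n₂ * x ^ j⁆ : G) : G ⧸ N) = ⁅((n₁ * x ^ i : G) : G ⧸ N), ((n₂ * x ^ j : G) : G ⧸ N)⁆ := by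
      rw [commutatorElement_def, commutatorElement_def]
      simp only [QuotientGroup.mk_mul, QuotientGroup.mk_inv]
    rw [this, e1, e2, commutatorElement_def]
    have hc : Commute ((x : G ⧸ N) ^ i) ((x : G ⧸ N) ^ j) := Commute.zpow_zpow_self _ i j
    rw [hc.eq]; group
  have hne : commutator G ≠ ⊥ := by
    intro hb
    apply not_central h
    intro g
    have : ⁅g, x⁆ ∈ commutator G := by
      rw [commutator_def]
      exact Subgroup.commutator_mem_commutator (Subgroup.mem_top g) (Subgroup.mem_top x)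
    rw [hb, Subgroup.mem_bot, commutatorElement_def] at this
    exact mul_inv_eq_one.1 this
  exact hN.2.2 _ inferInstance hne hle


theorem main {G : Type*} [Group G] [Finite G] {p : ℕ} [Fact p.Prime] (x : G) (hx : orderOf x = p) (hiso : Cfsg.IsIsolated x) (hnz : ¬ Cfsg.InZStar p x) (hmin : ∀ (H : Subgroup G) (hxH : x ∈ H), H ≠ ⊤ → Cfsg.InZStar p (⟨x, hxH⟩ : ↥H)) (hquot : ∀ (N : Subgroup G) [N.Normal], N ≠ ⊥ → Cfsg.InZStar p (QuotientGroup.mk x : G ⧸ N)) : IsSimpleGroup ↥(commutator G) ∧ ¬ IsMulCommutative ↥(commutator G) ∧ commutator G ⊔ Subgroup.zpowers x = ⊤ := by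
  have h : MC p x := ⟨hx, hiso, hnz, hmin, hquot⟩
  have hx1 : x ≠ 1 := by
    rintro rfl
    rw [orderOf_one] at hx
    exact (Fact.out : p.Prime).one_lt.ne hx
  haveI : Nontrivial G := ⟨⟨x, 1, hx1⟩⟩
  obtain ⟨N, hN⟩ := exists_minNormal (G := G)
  have hNx := sup_eq_top h N hN
  rw [comm_eq h N hN]
  refine ⟨?_, not_comm h N hN, hNx⟩
  haveI : Nontrivial ↥N := (Subgroup.nontrivial_iff_ne_bot N).2 hN.2.1
  refine ⟨fun T hT => ?_⟩
  have hS1 : T.map N.subtype ≤ N := Subgroup.map_subtype_le _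
  have hS2 : N ≤ Subgroup.normalizer ((T.map N.subtype : Subgroup G) : Set G) := by
    apply le_normalizer_of_conj_mem
    rintro n hn _ ⟨t, ht, rfl⟩
    exact ⟨⟨n, hn⟩ * t * ⟨n, hn⟩⁻¹, hT.conj_mem t ht ⟨n, hn⟩, by simp⟩
  rcases simple_like h N hN hNx _ hS1 hS2 with h1 | h1
  · left
    exact (Subgroup.map_eq_bot_iff_of_injective _ (Subgroup.subtype_injective N)).1 h1
  · right
    rw [eq_top_iff]
    intro t _
    have : (t : G) ∈ T.map N.subtype := by rw [h1]; exact t.2
    obtain ⟨t', ht', ht'eq⟩ := this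
    have : t' = t := Subtype.ext ht'eq
    rw [← this]; exact ht'





/-- Let G be a finite group, p a prime and x ∈ G an isolated element of order p (the only conjugate of x commuting with x is x) which is not central modulo the largest normal subgroup of order prime to p, while x is central modulo the largest normal subgroup of order prime to p in every proper subgroup containing x, and the image of x is so in every quotient of G by a nontrivial normal subgroup (a minimal counterexample to the Z*_p statement). Then the derived subgroup G' is a non-abelian simple group and G = G'⟨x⟩. -/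
theorem result {G : Type*} [Group G] [Finite G] {p : ℕ} [Fact p.Prime] (x : G) (hx : orderOf x = p) (hiso : Cfsg.IsIsolated x) (hnz : ¬ Cfsg.InZStar p x) (hmin : ∀ (H : Subgroup G) (hxH : x ∈ H), H ≠ ⊤ → Cfsg.InZStar p (⟨x, hxH⟩ : ↥H)) (hquot : ∀ (N : Subgroup G) [N.Normal], N ≠ ⊥ → Cfsg.InZStar p (QuotientGroup.mk x : G ⧸ N)) : IsSimpleGroup ↥(commutator G) ∧ ¬ IsMulCommutative ↥(commutator G) ∧ commutator G ⊔ Subgroup.zpowers x = ⊤ := by
  exact main x hx hiso hnz hmin hquot

end Cfsg.Agent.S2972
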