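import Cfsg.Statements.S2975
import Mathlib
import Cfsg.Agent.Lib.Helper7.Isolated2
import Cfsg.Agent.Lib.Helper3.Irrational
import Cfsg.Agent.S2972
import Cfsg.Agent.S2020
-- import your own Cfsg.Agent.* helpers here

set_option autoImplicit false
open Cfsg

namespace Cfsg.Agent.S2975

open Pointwise Cfsg.Agent.Lib.Helper7 Cfsg.Agent.S2972 Cfsg.Agent.Lib.Helper3


/-- An element `x` of prime order `p` normalizing a `p'`-subgroup `R` normalizes some Sylow
`q`-subgroup of `R`. -/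
theorem exists_invariant_sylow {G : Type*} [Group G] [Finite G] (p q : ℕ) [hp : Fact p.Prime]
    [hq : Fact q.Prime] (R : Subgroup G) (x : G) (hx : x ∈ Subgroup.normalizer (R : Set G))
    (hxp : x ^ p = 1) (hR : (Nat.card R).Coprime p) :
    ∃ T : Sylow q ↥R, ∀ r : ↥R, r ∈ T ↔
      (⟨x * r * x⁻¹, (Subgroup.mem_normalizer_iff.1 hx r).1 r.2⟩ : ↥R) ∈ T := by
  set x' : Subgroup.normalizer (R : Set G) := ⟨x, hx⟩ with hx'
  have hAp : IsPGroup p (Subgroup.zpowers x') := by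
    rw [IsPGroup.iff_card, Nat.card_zpowers]
    have hx'p : x' ^ p = 1 := Subtype.ext (by simpa using hxp)
    have := orderOf_dvd_of_pow_eq_one hx'p
    rcases (Nat.dvd_prime hp.out).1 this with h | h
    · exact ⟨0, by rw [h, pow_zero]⟩
    · exact ⟨1, by rw [h, pow_one]⟩
  have hcard : ¬ p ∣ Nat.card (Sylow q ↥R) := by
    intro hdvd
    obtain T : Sylow q ↥R := default
    have h1 : Nat.card (Sylow q ↥R) ∣ Nat.card ↥R :=
      (T.card_dvd_index).trans (Subgroup.index_dvd_card _)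
    exact hp.out.one_lt.ne' (Nat.eq_one_of_dvd_coprimes hR.symm (dvd_refl p) (hdvd.trans h1))
  obtain ⟨T, hT⟩ := hAp.nonempty_fixed_point_of_prime_not_dvd_card (Sylow q ↥R) hcard
  refine ⟨T, ?_⟩
  have hfix : x' • T = T := hT ⟨x', Subgroup.mem_zpowers x'⟩
  have hfix' : x' • (T : Subgroup ↥R) = (T : Subgroup ↥R) := by
    have := congrArg (fun S : Sylow q ↥R => (S : Subgroup ↥R)) hfix
    simpa [Sylow.pointwise_smul_def] using this
  intro r
  have hsm : (x' • r : ↥R) = ⟨x * r * x⁻¹, (Subgroup.mem_normalizer_iff.1 hx r).1 r.2⟩ := rfl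
  rw [← hsm]
  constructor
  · intro hr
    have : x' • r ∈ x' • (T : Subgroup ↥R) := Subgroup.smul_mem_pointwise_smul_iff.2 hr
    rw [hfix'] at this
    exact this
  · intro hr
    have hr' : x' • r ∈ x' • (T : Subgroup ↥R) := by rw [hfix']; exact hr
    exact Subgroup.smul_mem_pointwise_smul_iff.1 hr'




theorem trans_part {G : Type*} [Group G] [Finite G] {p q : ℕ} [hp : Fact p.Prime] [Fact q.Prime]
    (x : G) (hx : orderOf x = p) (hiso : Cfsg.IsIsolated x)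
    (S₁ S₂ : Sylow q G) (h1 : x ∈ Subgroup.normalizer ((S₁ : Subgroup G) : Set G))
    (h2 : x ∈ Subgroup.normalizer ((S₂ : Subgroup G) : Set G)) :
    ∃ c ∈ Subgroup.centralizer ({x} : Set G),
      (S₁ : Subgroup G).map (MulAut.conj c).toMonoidHom = (S₂ : Subgroup G) := by
  obtain ⟨g, hg⟩ := MulAction.exists_smul_eq G S₁ S₂
  set H := Subgroup.normalizer ((S₁ : Subgroup G) : Set G) with hH
  have hx'H : g⁻¹ * x * g ∈ H := by
    apply Sylow.smul_eq_iff_mem_normalizer.1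
    rw [mul_smul, mul_smul, hg, Sylow.smul_eq_iff_mem_normalizer.2 h2, ← hg, inv_smul_smul]
  -- Sylow p-subgroups of H
  have hp1 : IsPGroup p (Subgroup.zpowers (⟨x, h1⟩ : ↥H)) := by
    apply isPGroup_zpowers
    refine ⟨1, ?_⟩
    rw [pow_one, ← hx]
    exact (Subgroup.orderOf_mk x h1)
  have hp2 : IsPGroup p (Subgroup.zpowers (⟨g⁻¹ * x * g, hx'H⟩ : ↥H)) := by
    apply isPGroup_zpowers
    refine ⟨1, ?_⟩
    rw [pow_one, Subgroup.orderOf_mk, ← hx]
    have := (MulAut.conj g⁻¹).orderOf_eq x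
    simpa using this
  obtain ⟨P₀, hP₀⟩ := hp1.exists_le_sylow
  obtain ⟨P₁, hP₁⟩ := hp2.exists_le_sylow
  obtain ⟨y, hy⟩ := MulAction.exists_smul_eq ↥H P₁ P₀
  have hmem : y * ⟨g⁻¹ * x * g, hx'H⟩ * y⁻¹ ∈ (P₀ : Subgroup ↥H) := by
    rw [← hy, Sylow.coe_subgroup_smul, Subgroup.mem_pointwise_smul_iff_inv_smul_mem]
    simp only [MulAut.smul_def, map_inv, MulAut.inv_apply, MulAut.conj_symm_apply]
    have : y⁻¹ * (y * ⟨g⁻¹ * x * g, hx'H⟩ * y⁻¹) * y = ⟨g⁻¹ * x * g, hx'H⟩ := by group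
    rw [this]
    exact hP₁ (Subgroup.mem_zpowers _)
  have hP₀G : IsPGroup p ((P₀ : Subgroup ↥H).map H.subtype) := P₀.2.map _
  have hxP₀ : x ∈ (P₀ : Subgroup ↥H).map H.subtype :=
    ⟨⟨x, h1⟩, hP₀ (Subgroup.mem_zpowers _), rfl⟩
  have hcen := isolated_le_centralizer hiso _ hP₀G hxP₀
  have hmemG : (y : G) * (g⁻¹ * x * g) * (y : G)⁻¹ ∈ (P₀ : Subgroup ↥H).map H.subtype :=
    ⟨_, hmem, by simp⟩
  have hcomm := hcen hmemG
  rw [Subgroup.mem_centralizer_iff] at hcomm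
  have e : (y : G) * (g⁻¹ * x * g) * (y : G)⁻¹ = ((y : G) * g⁻¹) * x * ((y : G) * g⁻¹)⁻¹ := by group
  have hfix : ((y : G) * g⁻¹) * x * ((y : G) * g⁻¹)⁻¹ = x := by
    apply hiso
    rw [← e]
    exact (hcomm x rfl)
  refine ⟨g * (y : G)⁻¹, ?_, ?_⟩
  · rw [Subgroup.mem_centralizer_iff]
    intro z hz
    rw [Set.mem_singleton_iff] at hz
    subst hz
    have h3 : ((y : G) * g⁻¹) * z = z * ((y : G) * g⁻¹) := mul_inv_eq_iff_eq_mul.1 hfix
    have h4 : g * (y : G)⁻¹ = ((y : G) * g⁻¹)⁻¹ := by group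
    rw [h4]
    have := congrArg (fun w => ((y : G) * g⁻¹)⁻¹ * w * ((y : G) * g⁻¹)⁻¹) h3
    simpa [mul_assoc] using this
  · have hyn : (y : G)⁻¹ • S₁ = S₁ :=
      Sylow.smul_eq_iff_mem_normalizer.2 (H.inv_mem y.2)
    have : (g * (y : G)⁻¹) • S₁ = S₂ := by rw [mul_smul, hyn, hg]
    have h5 := congrArg (fun S : Sylow q G => (S : Subgroup G)) this
    simp only [Sylow.coe_subgroup_smul] at h5
    rw [← h5]
    rfl




theorem part1_p {G : Type*} [Group G] [Finite G] {p : ℕ} [hp : Fact p.Prime] (x : G)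
    (hx : orderOf x = p) (Q : Subgroup G) (hQ : IsPGroup p ↥Q)
    (hxQ : x ∈ Subgroup.normalizer (Q : Set G))
    (hmax : ∀ R : Subgroup G, IsPGroup p ↥R → x ∈ Subgroup.normalizer (R : Set G) → Q ≤ R → R = Q) :
    ∃ S : Sylow p G, (S : Subgroup G) = Q := by
  have hxp : IsPGroup p (Subgroup.zpowers x) := isPGroup_zpowers ⟨1, by rw [hx, pow_one]⟩
  have h1 : IsPGroup p ↥(Q ⊔ Subgroup.zpowers x) := by
    apply hQ.to_sup_of_normal_left' hxp
    rw [Subgroup.zpowers_le]; exact hxQ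
  have hxR : x ∈ Q ⊔ Subgroup.zpowers x := le_sup_right (a := Q) (Subgroup.mem_zpowers x)
  have h2 := hmax _ h1 (Subgroup.le_normalizer hxR) le_sup_left
  have hxQ' : x ∈ Q := h2 ▸ hxR
  obtain ⟨P, hP⟩ := hQ.exists_le_sylow
  have h3 := hmax P P.2 (Subgroup.le_normalizer (hP hxQ')) hP
  exact ⟨P, h3⟩


/-- In a `q`-group `T` properly containing `Q`, the normalizer of `Q` in `T` is bigger than `Q`. -/
theorem normalizer_grows {G : Type*} [Group G] [Finite G] {q : ℕ} [hq : Fact q.Prime]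
    (Q T : Subgroup G) (hT : IsPGroup q ↥T) (hQT : Q ≤ T) (hne : T ≠ Q) :
    ∃ t ∈ T, t ∈ Subgroup.normalizer (Q : Set G) ∧ t ∉ Q := by
  haveI : Group.IsNilpotent ↥T := hT.isNilpotent
  have hnc : NormalizerCondition ↥T := Group.normalizerCondition_of_isNilpotent
  have hlt : Q.subgroupOf T < ⊤ := by
    rw [lt_top_iff_ne_top]
    intro h
    apply hne
    exact le_antisymm (Subgroup.subgroupOf_eq_top.1 h) hQT
  have h1 := hnc _ hlt
  obtain ⟨t, htn, htQ⟩ := SetLike.exists_of_lt h1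
  refine ⟨t, t.2, ?_, fun h => htQ (Subgroup.mem_subgroupOf.2 h)⟩
  rw [Subgroup.mem_normalizer_iff]
  intro a
  rw [Subgroup.mem_normalizer_iff] at htn
  constructor
  · intro ha
    have := (htn ⟨a, hQT ha⟩).1 (Subgroup.mem_subgroupOf.2 ha)
    exact Subgroup.mem_subgroupOf.1 this
  · intro ha
    have haT : a ∈ T := by
      have : a = (t : G)⁻¹ * ((t : G) * a * (t : G)⁻¹) * t := by group
      rw [this]
      exact T.mul_mem (T.mul_mem (T.inv_mem t.2) (hQT ha)) t.2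
    have := (htn ⟨a, haT⟩).2 (Subgroup.mem_subgroupOf.2 ha)
    exact Subgroup.mem_subgroupOf.1 this




/-- the setup in the normalizer `H` of a maximal `x`-invariant `q`-subgroup -/
theorem setup_q {G : Type*} [Group G] [Finite G] {p q : ℕ} [hp : Fact p.Prime] [hq : Fact q.Prime]
    (hqp : q ≠ p) {x : G} (h : MC p x) (Q : Subgroup G) (hQ : IsPGroup q ↥Q)
    (hxQ : x ∈ Subgroup.normalizer (Q : Set G)) (hQne : Q ≠ ⊥) :
    ∃ R : Subgroup G, R ≤ Subgroup.normalizer (Q : Set G) ∧ (Nat.card R).Coprime p ∧ Q ≤ R ∧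
      (∀ a ∈ Subgroup.normalizer (Q : Set G), ∀ r ∈ R, a * r * a⁻¹ ∈ R) ∧
      (∀ k ∈ Subgroup.normalizer (Q : Set G), x * k * x⁻¹ * k⁻¹ ∈ R) := by
  set H := Subgroup.normalizer (Q : Set G) with hH
  have hQcop : (Nat.card Q).Coprime p := by
    obtain ⟨k, hk⟩ := IsPGroup.iff_card.1 hQ
    rw [hk]
    exact Nat.Coprime.pow_left k ((Nat.coprime_primes hq.out hp.out).2 hqp)
  have hHne : H ≠ ⊤ := by
    intro htop
    apply hQne
    haveI : Q.Normal := Subgroup.normalizer_eq_top_iff.1 htop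
    exact le_core_of_subnormal h Q (Subgroup.Normal.isSubnormal inferInstance) hQcop
  have hZ := h.hmin H hxQ hHne
  refine ⟨(pPrimeCore p ↥H).map H.subtype, Subgroup.map_subtype_le _, ?_, ?_, ?_, ?_⟩
  · rw [Subgroup.card_map_of_injective (Subgroup.subtype_injective H)]
    exact Cfsg.Agent.Lib.Helper1.pPrimeCore_card_coprime p
  · intro a ha
    have hn : (Q.subgroupOf H).Normal := Subgroup.normal_in_normalizer
    have hc : (Nat.card (Q.subgroupOf H)).Coprime p := by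
      rw [Nat.card_congr (Subgroup.subgroupOfEquivOfLe Subgroup.le_normalizer).toEquiv]
      exact hQcop
    have hle := Cfsg.Agent.Lib.Helper1.le_pPrimeCore hn hc
    exact ⟨⟨a, Subgroup.le_normalizer ha⟩, hle (Subgroup.mem_subgroupOf.2 ha), rfl⟩
  · rintro a ha _ ⟨r, hr, rfl⟩
    exact ⟨⟨a, ha⟩ * r * ⟨a, ha⟩⁻¹, (Cfsg.pPrimeCore_normal p ↥H).conj_mem r hr ⟨a, ha⟩, by simp⟩
  · intro k hk
    have h1 := hZ ⟨k, hk⟩
    have h2 := (pPrimeCore p ↥H).inv_mem h1
    refine ⟨_, h2, ?_⟩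
    simp only [Subgroup.subtype_apply, Subgroup.coe_inv, Subgroup.coe_mul]
    group




/-- every `q`-element of `C_H(x)` lies in `Q` -/
theorem q_elt_mem {G : Type*} [Group G] [Finite G] {q : ℕ} [hq : Fact q.Prime]
    (x : G) (Q : Subgroup G) (hQ : IsPGroup q ↥Q)
    (hxQ : x ∈ Subgroup.normalizer (Q : Set G))
    (hmax : ∀ R : Subgroup G, IsPGroup q ↥R → x ∈ Subgroup.normalizer (R : Set G) → Q ≤ R → R = Q)
    (c : G) (hcH : c ∈ Subgroup.normalizer (Q : Set G)) (hcx : c * x = x * c) (v : ℕ)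
    (hcq : c ^ q ^ v = 1) : c ∈ Q := by
  have hcp : IsPGroup q (Subgroup.zpowers c) := by
    rw [IsPGroup.iff_card, Nat.card_zpowers]
    obtain ⟨j, -, hj⟩ := (Nat.dvd_prime_pow hq.out).1 (orderOf_dvd_of_pow_eq_one hcq)
    exact ⟨j, hj⟩
  have h1 : IsPGroup q ↥(Q ⊔ Subgroup.zpowers c) := by
    apply hQ.to_sup_of_normal_left' hcp
    rw [Subgroup.zpowers_le]; exact hcH
  have hxc : x ∈ Subgroup.normalizer ((Subgroup.zpowers c : Subgroup G) : Set G) := by
    apply Subgroup.centralizer_le_normalizer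
    rw [Subgroup.mem_centralizer_iff]
    rintro _ ⟨j, rfl⟩
    exact ((show Commute c x from hcx).zpow_left j).eq
  have hxn : x ∈ Subgroup.normalizer ((Q ⊔ Subgroup.zpowers c : Subgroup G) : Set G) :=
    Subgroup.normalizer_inf_normalizer_le_normalizer_sup _ _ ⟨hxQ, hxc⟩
  have h2 := hmax _ h1 hxn le_sup_left
  rw [← h2]
  exact le_sup_right (a := Q) (Subgroup.mem_zpowers c)


/-- every `q`-element of `H` lies in `R` -/
theorem q_elt_mem_R {G : Type*} [Group G] [Finite G] {p q : ℕ} [hp : Fact p.Prime]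
    [hq : Fact q.Prime] (x : G) (hxo : orderOf x = p) (Q : Subgroup G) (hQ : IsPGroup q ↥Q)
    (hxQ : x ∈ Subgroup.normalizer (Q : Set G))
    (hmax : ∀ R : Subgroup G, IsPGroup q ↥R → x ∈ Subgroup.normalizer (R : Set G) → Q ≤ R → R = Q)
    (R : Subgroup G) (hRH : R ≤ Subgroup.normalizer (Q : Set G)) (hRc : (Nat.card R).Coprime p)
    (hQR : Q ≤ R)
    (hRn : ∀ a ∈ Subgroup.normalizer (Q : Set G), ∀ r ∈ R, a * r * a⁻¹ ∈ R)
    (hK : ∀ k ∈ Subgroup.normalizer (Q : Set G), x * k * x⁻¹ * k⁻¹ ∈ R)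
    (t : G) (htH : t ∈ Subgroup.normalizer (Q : Set G)) (k : ℕ) (htq : t ^ q ^ k = 1) : t ∈ R := by
  have hxp : x ^ p = 1 := hxo ▸ pow_orderOf_eq_one x
  have hA := Cfsg.Agent.S2020.stepA p (Subgroup.normalizer (Q : Set G)) R hRH hRc x hxp
    (fun o ho => hRn x hxQ o ho) hK
  obtain ⟨c, hc, o, ho, rfl⟩ := hA t htH
  have hcH : c ∈ Subgroup.normalizer (Q : Set G) := (Subgroup.mem_inf.1 hc).1
  have hcx : c * x = x * c := by
    have := (Subgroup.mem_inf.1 hc).2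
    rw [Subgroup.mem_centralizer_iff] at this
    exact (this x rfl).symm
  -- split the order of c
  have hn0 : orderOf c ≠ 0 := (orderOf_pos c).ne'
  obtain ⟨v, m, hqm, hvm⟩ := Nat.exists_eq_pow_mul_and_not_dvd hn0 q hq.out.ne_one
  have hcm : c ^ m ∈ R := by
    apply hQR
    apply q_elt_mem x Q hQ hxQ hmax (c ^ m) (Subgroup.pow_mem _ hcH m)
      ((show Commute c x from hcx).pow_left m).eq v
    rw [← pow_mul, mul_comm, ← hvm, pow_orderOf_eq_one]
  -- c ^ q ^ k ∈ R: work modulo R inside H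
  have hcq : c ^ q ^ k ∈ R := by
    -- (c * o) ^ n ∈ c ^ n * R
    have key : ∀ n : ℕ, ∃ r ∈ R, (c * o) ^ n = c ^ n * r := by
      intro n
      induction n with
      | zero => exact ⟨1, R.one_mem, by simp⟩
      | succ n ih =>
        obtain ⟨r, hr, hrn⟩ := ih
        refine ⟨(c⁻¹ * r * c⁻¹⁻¹) * o, R.mul_mem (hRn _ (Subgroup.inv_mem _ hcH) r hr) ho, ?_⟩
        rw [pow_succ, hrn, pow_succ]; group
    obtain ⟨r, hr, hrn⟩ := key (q ^ k)
    rw [htq] at hrn
    have : c ^ q ^ k = r⁻¹ := by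
      have := congrArg (fun z => z * r⁻¹) hrn
      simpa using this.symm
    rw [this]; exact R.inv_mem hr
  have hcR : c ∈ R := by
    apply mem_of_pow_mem_of_pow_mem_coprime R c (q ^ k) m _ hcq hcm
    exact Nat.Coprime.pow_left k ((Nat.Prime.coprime_iff_not_dvd hq.out).2 hqm)
  exact R.mul_mem hcR ho




theorem le_normalizer_of_conj_mem' {G : Type*} [Group G] {H K : Subgroup G}
    (h : ∀ k ∈ K, ∀ y ∈ H, k * y * k⁻¹ ∈ H) : K ≤ Subgroup.normalizer (H : Set G) :=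
  Cfsg.Agent.S2972.le_normalizer_of_conj_mem h


theorem part1_q {G : Type*} [Group G] [Finite G] {p q : ℕ} [hp : Fact p.Prime]
    [hq : Fact q.Prime] (x : G) (hxo : orderOf x = p) (Q : Subgroup G) (hQ : IsPGroup q ↥Q)
    (hxQ : x ∈ Subgroup.normalizer (Q : Set G))
    (hmax : ∀ R : Subgroup G, IsPGroup q ↥R → x ∈ Subgroup.normalizer (R : Set G) → Q ≤ R → R = Q)
    (R : Subgroup G) (hRH : R ≤ Subgroup.normalizer (Q : Set G)) (hRc : (Nat.card R).Coprime p)
    (hQR : Q ≤ R)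
    (hRn : ∀ a ∈ Subgroup.normalizer (Q : Set G), ∀ r ∈ R, a * r * a⁻¹ ∈ R)
    (hK : ∀ k ∈ Subgroup.normalizer (Q : Set G), x * k * x⁻¹ * k⁻¹ ∈ R) :
    ∃ S : Sylow q G, (S : Subgroup G) = Q := by
  have hxp : x ^ p = 1 := hxo ▸ pow_orderOf_eq_one x
  have hxR : x ∈ Subgroup.normalizer (R : Set G) := by
    have : Subgroup.zpowers x ≤ Subgroup.normalizer (R : Set G) := by
      apply le_normalizer_of_conj_mem'
      rintro _ ⟨j, rfl⟩ r hr
      exact hRn _ (Subgroup.zpow_mem _ hxQ j) r hr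
    exact this (Subgroup.mem_zpowers x)
  obtain ⟨T₀, hT₀⟩ := exists_invariant_sylow p q R x hxR hxp hRc
  -- Q ≤ T₀
  haveI hQ'n : (Q.subgroupOf R).Normal := by
    apply Subgroup.normal_subgroupOf_of_le_normalizer
    exact hRH
  have hQ'T₀ : Q.subgroupOf R ≤ (T₀ : Subgroup ↥R) := by
    have h1 : IsPGroup q ↥(Q.subgroupOf R ⊔ (T₀ : Subgroup ↥R)) :=
      IsPGroup.to_sup_of_normal_left (hQ.comap_subtype) T₀.2
    have := T₀.is_maximal' h1 le_sup_right
    rw [← this]; exact le_sup_left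
  set T₀G := (T₀ : Subgroup ↥R).map R.subtype with hT₀G
  have hQT₀G : Q ≤ T₀G := by
    intro a ha
    exact ⟨⟨a, hQR ha⟩, hQ'T₀ (Subgroup.mem_subgroupOf.2 ha), rfl⟩
  have hxT₀G : x ∈ Subgroup.normalizer (T₀G : Set G) := by
    have : Subgroup.zpowers x ≤ Subgroup.normalizer (T₀G : Set G) := by
      apply le_normalizer_of_conj_mem'
      have hstep : ∀ y ∈ T₀G, x * y * x⁻¹ ∈ T₀G := by
        rintro _ ⟨r, hr, rfl⟩
        exact ⟨_, (hT₀ r).1 hr, rfl⟩
      -- powers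
      have hpow : ∀ n : ℕ, ∀ y ∈ T₀G, x ^ n * y * (x ^ n)⁻¹ ∈ T₀G := by
        intro n
        induction n with
        | zero => intro y hy; simpa using hy
        | succ n ih =>
          intro y hy
          have := hstep _ (ih y hy)
          have e : x ^ (n + 1) * y * (x ^ (n + 1))⁻¹ = x * (x ^ n * y * (x ^ n)⁻¹) * x⁻¹ := by
            rw [pow_succ']; group
          rw [e]; exact this
      rintro a ha y hy
      obtain ⟨n, rfl⟩ := (Submonoid.mem_powers_iff _ _).mp (mem_powers_iff_mem_zpowers.mpr ha)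
      exact hpow n y hy
    exact this (Subgroup.mem_zpowers x)
  have hT₀Gq : IsPGroup q ↥T₀G := T₀.2.map _
  have hT₀GQ : T₀G = Q := hmax T₀G hT₀Gq hxT₀G hQT₀G
  -- Q is a Sylow q-subgroup
  refine ⟨⟨Q, hQ, ?_⟩, rfl⟩
  intro T hT hQT
  by_contra hne
  obtain ⟨t, htT, htn, htQ⟩ := normalizer_grows Q T hT hQT hne
  obtain ⟨k, hk⟩ := (IsPGroup.iff_orderOf.1 hT) ⟨t, htT⟩
  have htq : t ^ q ^ k = 1 := by
    have := pow_orderOf_eq_one (⟨t, htT⟩ : ↥T)
    rw [hk] at this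
    exact congrArg Subtype.val this
  have htR := q_elt_mem_R x hxo Q hQ hxQ hmax R hRH hRc hQR hRn hK t htn k htq
  -- the q-group ⟨Q, t⟩ inside R
  have htp : IsPGroup q (Subgroup.zpowers t) := by
    rw [IsPGroup.iff_card, Nat.card_zpowers]
    obtain ⟨j, -, hj⟩ := (Nat.dvd_prime_pow hq.out).1 (orderOf_dvd_of_pow_eq_one htq)
    exact ⟨j, hj⟩
  have h1 : IsPGroup q ↥(Q ⊔ Subgroup.zpowers t) := by
    apply hQ.to_sup_of_normal_left' htp
    rw [Subgroup.zpowers_le]; exact htn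
  have hle : Q ⊔ Subgroup.zpowers t ≤ R := sup_le hQR (by rw [Subgroup.zpowers_le]; exact htR)
  have h2 : IsPGroup q ↥((Q ⊔ Subgroup.zpowers t).subgroupOf R) := h1.comap_subtype
  have h3 : (T₀ : Subgroup ↥R) ≤ (Q ⊔ Subgroup.zpowers t).subgroupOf R := by
    intro r hr
    rw [Subgroup.mem_subgroupOf]
    have : (r : G) ∈ T₀G := ⟨r, hr, rfl⟩
    rw [hT₀GQ] at this
    exact le_sup_left (b := Subgroup.zpowers t) this
  have h4 := T₀.is_maximal' h2 h3
  have h5 : (⟨t, htR⟩ : ↥R) ∈ (T₀ : Subgroup ↥R) := by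
    rw [← h4, Subgroup.mem_subgroupOf]
    exact le_sup_right (a := Q) (Subgroup.mem_zpowers t)
  apply htQ
  rw [← hT₀GQ]
  exact ⟨_, h5, rfl⟩




theorem main {G : Type*} [Group G] [Finite G] {p : ℕ} [Fact p.Prime] (x : G) (hx : orderOf x = p) (hiso : Cfsg.IsIsolated x) (hnz : ¬ Cfsg.InZStar p x) (hmin : ∀ (H : Subgroup G) (hxH : x ∈ H), H ≠ ⊤ → Cfsg.InZStar p (⟨x, hxH⟩ : ↥H)) (hquot : ∀ (N : Subgroup G) [N.Normal], N ≠ ⊥ → Cfsg.InZStar p (QuotientGroup.mk x : G ⧸ N)) (q : ℕ) [Fact q.Prime] : (∀ Q : Subgroup G, IsPGroup q ↥Q → x ∈ Subgroup.normalizer (Q : Set G) → (∀ R : Subgroup G, IsPGroup q ↥R → x ∈ Subgroup.normalizer (R : Set G) → Q ≤ R → R = Q) → Q = ⊥ ∨ ∃ S : Sylow q G, (S : Subgroup G) = Q) ∧ (∀ S₁ S₂ : Sylow q G, x ∈ Subgroup.normalizer ((S₁ : Subgroup G) : Set G) → x ∈ Subgroup.normalizer ((S₂ : Subgroup G) : Set G) → ∃ c ∈ Subgroup.centralizer ({x} : Set G), (S₁ : Subgroup G).map (MulAut.conj c).toMonoidHom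 = (S₂ : Subgroup G)) := by
  have h : MC p x := ⟨hx, hiso, hnz, hmin, hquot⟩
  refine ⟨?_, fun S₁ S₂ h1 h2 => trans_part x hx hiso S₁ S₂ h1 h2⟩
  intro Q hQ hxQ hmax
  by_cases hQb : Q = ⊥
  · left; exact hQb
  right
  by_cases hqp : q = p
  · subst hqp
    exact part1_p x hx Q hQ hxQ hmax
  · obtain ⟨R, hRH, hRc, hQR, hRn, hK⟩ := setup_q hqp h Q hQ hxQ hQb
    exact part1_q x hx Q hQ hxQ hmax R hRH hRc hQR hRn hK





/-- Let G be a finite group, p a prime and x ∈ G an isolated element of order p (the only conjugate of x commuting with x is x) which is not central modulo the largest normal subgroup of order prime to p, while x is central modulo the largest normal subgroup of order prime to p in every proper subgroup containing x, and the image of x is so in every quotient of G by a nontrivial normal subgroup (a minimal counterexample to the Z*_p statement). Then for every prime q, every q-subgroup of G that is normalized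 by x and maximal among the q-subgroups normalized by x is either trivial or a Sylow q-subgroup of G; and C_G(x) permutes the x-invariant Sylow q-subgroups of G transitively by conjugation. -/
theorem result {G : Type*} [Group G] [Finite G] {p : ℕ} [Fact p.Prime] (x : G) (hx : orderOf x = p) (hiso : Cfsg.IsIsolated x) (hnz : ¬ Cfsg.InZStar p x) (hmin : ∀ (H : Subgroup G) (hxH : x ∈ H), H ≠ ⊤ → Cfsg.InZStar p (⟨x, hxH⟩ : ↥H)) (hquot : ∀ (N : Subgroup G) [N.Normal], N ≠ ⊥ → Cfsg.InZStar p (QuotientGroup.mk x : G ⧸ N)) (q : ℕ) [Fact q.Prime] : (∀ Q : Subgroup G, IsPGroup q ↥Q → x ∈ Subgroup.normalizer (Q : Set G) → (∀ R : Subgroup G, IsPGroup q ↥R → x ∈ Subgroup.normalizer (R : Set G) → Q ≤ R → R = Q) → Q = ⊥ ∨ ∃ S : Sylow q G, (S : Subgroup G) = Q) ∧ (∀ S₁ S₂ : Sylow q G, x ∈ Subgroup.normalizer ((S₁ : Subgroup G) : Set G) → x ∈ Subgroup.normalizer ((S₂ : Subgroup G) : Set G) → ∃ c ∈ Subgroup.centralizer ({x} : Set G), (S₁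 : Subgroup G).map (MulAut.conj c).toMonoidHom = (S₂ : Subgroup G)) := by
  exact main x hx hiso hnz hmin hquot q

end Cfsg.Agent.S2975
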