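import Cfsg.Statements.S2989
import Cfsg.Agent.Lib.Helper7.CL2989Main
import Cfsg.Agent.Lib.Helper6.PUPsl

set_option autoImplicit false
open Cfsg

namespace Cfsg.Agent.S2989

/-- Let G be a finite group and S a Sylow p-subgroup of G in the basic pushing-up situation (G ≠ 1, C_G(O_p(G)) ≤ O_p(G), S lies in a unique maximal subgroup of G, and some quotient of G is isomorphic to PSL₂ over a field of order a power of p), and suppose that S centralizes Z(J(S)), where J(S) is generated by the abelian subgroups of S of largest order (that is, J̃(S) = C_S(Z(J(S))) = S). Call a subgroup R of S centrally large if |R|·|Z(R)| is as large as possible among subgroups of S, and let S_Φ be the subgroup generated by the Frattini subgroups Φ(Q) of those minimal centrally large subgroups Q of S whose Ω₁(Z(Q)) has the largest order among minimal centrally large subgroups. Then Z(S) or S_Φ is normal in G; and if S_Φ = 1, the minimal centrally large subgroups of S are exactly the abelian subgroups of S of largest order, and at least one of them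 is elementary abelian. -/
theorem result {G : Type*} [Group G] [Finite G] {p : ℕ} [Fact p.Prime] (S : Subgroup G) (hE : Cfsg.IsPushingUpSituation p S) (hJ : S ≤ Subgroup.centralizer (Cfsg.centerThompsonAOf S : Set G)) : ((S ⊓ Subgroup.centralizer (S : Set G)).Normal ∨ ((Cfsg.frattiniOfMinimalCLJoin p ↥S).map S.subtype).Normal) ∧ (Cfsg.frattiniOfMinimalCLJoin p ↥S = ⊥ → (∀ Q : Subgroup ↥S, Cfsg.IsMinimalCentrallyLarge Q ↔ Q ∈ Cfsg.maxAbelianSubgroups ↥S) ∧ ∃ A ∈ Cfsg.maxAbelianSubgroups ↥S, Cfsg.IsElementaryAbelian p A) := by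
  obtain ⟨-, ⟨P, rfl⟩, hE₁, hE₂, K, hK, F, hField, hFin, n, hF, ⟨e⟩⟩ := hE
  obtain ⟨M, ⟨hM, hSM⟩, huniq⟩ := hE₂
  have hn : 1 ≤ n := by
    rcases Nat.eq_zero_or_pos n with h0 | h0
    · exfalso
      rw [h0, pow_zero] at hF
      have := Fintype.one_lt_card (α := F)
      omega
    · exact h0
  refine ⟨?_, ?_⟩
  · exact Cfsg.Agent.Lib.Helper7.CL2989.main_abstract P M (e.toMonoidHom.comp (QuotientGroup.mk' K))
      ⟨hM, hSM, fun M' h1 h2 => huniq M' ⟨h1, h2⟩,
        e.surjective.comp (QuotientGroup.mk'_surjective K),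
        Cfsg.Agent.Lib.Helper6.PU.psl2_like F p n hn hF, hn⟩ hE₁
  · intro h
    exact Cfsg.Agent.Lib.Helper1.CL2989b.part2_2989 ↥(P : Subgroup G) P.isPGroup' h

end Cfsg.Agent.S2989
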