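import Cfsg.Statements.S2990
import Cfsg.Agent.Lib.Helper6.CLMain
import Cfsg.Agent.Lib.Helper6.PUPsl
import Cfsg.Agent.Lib.Helper1.CL2989b

set_option autoImplicit false
open Cfsg

namespace Cfsg.Agent.S2990

/-- Let G be a finite group and S a Sylow p-subgroup of G in the basic pushing-up situation (G ≠ 1, C_G(O_p(G)) ≤ O_p(G), S lies in a unique maximal subgroup of G, and some quotient of G is isomorphic to PSL₂ over a field of order a power of p), and suppose that S centralizes Z(J(S)), where J(S) is generated by the abelian subgroups of S of largest order (that is, J̃(S) = C_S(Z(J(S))) = S). Call a subgroup R of S centrally large if |R|·|Z(R)| is as large as possible among subgroups of S, let Q be a minimal centrally large subgroup of S and let S_MCL be the subgroup generated by all minimal centrally large subgroups of S. Then the derived subgroup [Q, Q] is characteristic in S; Z(S) ∩ [Q, Q] or S_MCL is normal in G; and if [Q, Q] = 1, the minimal centrally large subgroups of S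 are exactly the abelian subgroups of S of largest order. -/
theorem result {G : Type*} [Group G] [Finite G] {p : ℕ} [Fact p.Prime] (S : Subgroup G) (hE : Cfsg.IsPushingUpSituation p S) (hJ : S ≤ Subgroup.centralizer (Cfsg.centerThompsonAOf S : Set G)) (Q : Subgroup ↥S) (hQ : Cfsg.IsMinimalCentrallyLarge Q) : (⁅Q, Q⁆).Characteristic ∧ (((S ⊓ Subgroup.centralizer (S : Set G)) ⊓ (⁅Q, Q⁆).map S.subtype).Normal ∨ ((Cfsg.minimalCentrallyLargeJoin ↥S).map S.subtype).Normal) ∧ (⁅Q, Q⁆ = ⊥ → ∀ R : Subgroup ↥S, Cfsg.IsMinimalCentrallyLarge R ↔ R ∈ Cfsg.maxAbelianSubgroups ↥S) := by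
  obtain ⟨-, ⟨P, hPS⟩, hE₁, ⟨M, ⟨hM, hSM⟩, huniq⟩, K, hK, F, hFf, hFt, n, hF, ⟨e⟩⟩ := hE
  subst hPS
  have hn : 1 ≤ n := by
    rcases Nat.eq_zero_or_pos n with h0 | h0
    · exfalso
      rw [h0, pow_zero] at hF
      have h2 := Fintype.one_lt_card (α := F)
      omega
    · exact h0
  have hs : Cfsg.Agent.Lib.Helper6.PU.Setup p n P M
      (e.toMonoidHom.comp (QuotientGroup.mk' K)) :=
    ⟨hM, hSM, fun M' h1 h2 => huniq M' ⟨h1, h2⟩,
      e.surjective.comp (QuotientGroup.mk'_surjective K),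
      Cfsg.Agent.Lib.Helper6.PU.psl2_like F p n hn hF, hn⟩
  obtain ⟨h1, h3⟩ := Cfsg.Agent.Lib.Helper1.CL2989b.part13_2990 (p := p) ↥(P : Subgroup G)
    P.isPGroup' Q hQ
  refine ⟨h1, ?_, h3⟩
  have h2 := Cfsg.Agent.Lib.Helper6.CLM.s2990_part2 P M _ hs hE₁ (Q.map (P : Subgroup G).subtype)
    ((Cfsg.Agent.Lib.Helper4.CL4.mclin_map (P : Subgroup G) Q).mp hQ)
  rw [Subgroup.map_commutator]
  exact h2

end Cfsg.Agent.S2990
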