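import Cfsg.Statements.S2998
import Cfsg.Agent.Lib.Helper7.SylowAux

set_option autoImplicit false
open Cfsg

namespace Cfsg.Agent.S2998

open Cfsg.Agent.Lib.Helper7

/-- Let G be a finite group, p a prime, P a Sylow p-subgroup of G and x ∈ P an element such that N_G(R) ≤ C_G(x) for every nontrivial subgroup R of P. Then P ≤ C_G(x); every G-conjugate of x lying in P equals x (so g ∈ C_G(x) whenever g x g⁻¹ ∈ P); and for every normal subgroup N of G, the image of x in G ⧸ N has the same property with respect to the image of P: the normalizer of every nontrivial subgroup of the image of P centralizes the image of x. -/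
theorem result {G : Type*} [Group G] [Finite G] {p : ℕ} [Fact p.Prime] (P : Sylow p G) (x : G) (hxP : x ∈ (P : Subgroup G)) (hlc : ∀ R : Subgroup G, R ≤ (P : Subgroup G) → R ≠ ⊥ → Subgroup.normalizer (R : Set G) ≤ Subgroup.centralizer ({x} : Set G)) : (P : Subgroup G) ≤ Subgroup.centralizer ({x} : Set G) ∧ (∀ g : G, g * x * g⁻¹ ∈ (P : Subgroup G) → g * x * g⁻¹ = x) ∧ ∀ (N : Subgroup G) [N.Normal], ∀ R : Subgroup (G ⧸ N), R ≤ (P : Subgroup G).map (QuotientGroup.mk' N) → R ≠ ⊥ → Subgroup.normalizer (R : Set (G ⧸ N)) ≤ Subgroup.centralizer ({(QuotientGroup.mk x : G ⧸ N)} : Set (G ⧸ N)) := by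
  classical
  -- part 1
  have h1 : (P : Subgroup G) ≤ Subgroup.centralizer ({x} : Set G) := by
    by_cases hP : (P : Subgroup G) = ⊥
    · intro y hy
      rw [hP, Subgroup.mem_bot] at hy
      subst hy
      exact Subgroup.one_mem _
    · exact Subgroup.le_normalizer.trans (hlc _ le_rfl hP)
  -- part 2
  have h2 : ∀ g : G, g * x * g⁻¹ ∈ (P : Subgroup G) → g * x * g⁻¹ = x := by
    intro g hg
    by_cases hx1 : x = 1
    · subst hx1; simp
    set y := g * x * g⁻¹ with hy
    have hy1 : y ≠ 1 := by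
      intro h
      apply hx1
      have : x = g⁻¹ * y * g := by rw [hy]; group
      rw [this, h]; group
    have hzy : Subgroup.zpowers y ≤ (P : Subgroup G) := by rwa [Subgroup.zpowers_le]
    have hzy1 : Subgroup.zpowers y ≠ ⊥ := by
      rw [Ne, Subgroup.zpowers_eq_bot]; exact hy1
    have hCy : Subgroup.centralizer ({y} : Set G) ≤ Subgroup.centralizer ({x} : Set G) := by
      refine le_trans ?_ (hlc _ hzy hzy1)
      intro c hc
      rw [Subgroup.mem_centralizer_singleton_iff] at hc
      rw [Subgroup.mem_normalizer_iff]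
      intro z
      have key : ∀ z ∈ Subgroup.zpowers y, c * z * c⁻¹ = z := by
        intro z hz
        obtain ⟨k, rfl⟩ := Subgroup.mem_zpowers_iff.mp hz
        have : Commute c (y ^ k) := (show Commute c y from hc).zpow_right k
        calc c * y ^ k * c⁻¹ = (y ^ k * c) * c⁻¹ := by rw [this.eq]
          _ = y ^ k := by group
      constructor
      · intro hz
        rw [key z hz]; exact hz
      · intro hz
        have := key _ hz
        have e : z = c⁻¹ * (c * z * c⁻¹) * c := by group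
        have hc' : Commute c⁻¹ (c * z * c⁻¹) := by
          obtain ⟨k, hk⟩ := Subgroup.mem_zpowers_iff.mp hz
          rw [← hk]
          exact ((show Commute c y from hc).zpow_right k).inv_left
        rw [e, hc'.eq]
        have : c * z * c⁻¹ * c⁻¹ * c = c * z * c⁻¹ := by group
        rw [this]; exact hz
    -- g P g⁻¹ ≤ C(y) ≤ C(x)
    have hgP : ((P : Subgroup G).map (MulAut.conj g).toMonoidHom) ≤ Subgroup.centralizer ({x} : Set G) := by
      refine le_trans ?_ hCy
      rintro _ ⟨u, hu, rfl⟩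
      have := Subgroup.mem_centralizer_singleton_iff.mp (h1 hu)
      rw [Subgroup.mem_centralizer_singleton_iff, hy]
      simp only [MulEquiv.coe_toMonoidHom, MulAut.conj_apply]
      calc g * u * g⁻¹ * (g * x * g⁻¹) = g * (u * x) * g⁻¹ := by group
        _ = g * (x * u) * g⁻¹ := by rw [this]
        _ = g * x * g⁻¹ * (g * u * g⁻¹) := by group
    obtain ⟨n, hn, R, hR, _, hPR, hgR⟩ := exists_conj_le_common_pSubgroup
      (Subgroup.centralizer ({x} : Set G)) (P : Subgroup G)
      ((P : Subgroup G).map (MulAut.conj g).toMonoidHom) P.isPGroup'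
      (P.isPGroup'.map _) h1 hgP
    have hRP : R = P := sylow_eq_of_le_isPGroup P hR hPR
    have hng : n * g ∈ Subgroup.normalizer ((P : Subgroup G) : Set G) := by
      apply mem_normalizer_of_map_conj_le
      rintro _ ⟨u, hu, rfl⟩
      rw [← hRP]
      apply hgR
      refine ⟨g * u * g⁻¹, ⟨u, hu, rfl⟩, ?_⟩
      simp [MulAut.conj_apply, mul_assoc]
    have hP1 : (P : Subgroup G) ≠ ⊥ := by
      intro h
      apply hx1
      rw [h, Subgroup.mem_bot] at hxP
      exact hxP
    have hngx := hlc _ le_rfl hP1 hng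
    have hgx : g ∈ Subgroup.centralizer ({x} : Set G) := by
      have : g = n⁻¹ * (n * g) := by group
      rw [this]
      exact Subgroup.mul_mem _ (Subgroup.inv_mem _ hn) hngx
    rw [Subgroup.mem_centralizer_singleton_iff] at hgx
    rw [hy, hgx]; group
  refine ⟨h1, h2, ?_⟩
  -- part 3
  intro N _ Rb hRb hRb1 gb hgb
  obtain ⟨g, rfl⟩ := QuotientGroup.mk_surjective gb
  set R₁ : Subgroup G := Rb.comap (QuotientGroup.mk' N) with hR₁
  set R : Subgroup G := R₁ ⊓ (P : Subgroup G) with hR
  have hRP : R ≤ (P : Subgroup G) := inf_le_right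
  have hRne : R ≠ ⊥ := by
    obtain ⟨rb, hrb, hrb1⟩ := Rb.bot_or_exists_ne_one.resolve_left hRb1
    obtain ⟨r, hr, rfl⟩ := hRb hrb
    intro h
    apply hrb1
    have : r ∈ R := ⟨hrb, hr⟩
    rw [h, Subgroup.mem_bot] at this
    rw [this]; simp
  have hgR₁ : ∀ r ∈ R₁, g * r * g⁻¹ ∈ R₁ := by
    intro r hr
    rw [hR₁, Subgroup.mem_comap] at hr ⊢
    have := (Subgroup.mem_normalizer_iff.mp hgb _).mp hr
    simpa using this
  have hNR₁ : N ≤ R₁ := by
    intro n hn
    rw [hR₁, Subgroup.mem_comap]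
    have : (QuotientGroup.mk' N) n = 1 := (QuotientGroup.eq_one_iff n).mpr hn
    rw [this]; exact Rb.one_mem
  have hR₁PN : R₁ ≤ (P : Subgroup G) ⊔ N := by
    intro r hr
    rw [hR₁, Subgroup.mem_comap] at hr
    obtain ⟨u, hu, hur⟩ := hRb hr
    have : u⁻¹ * r ∈ N := by
      rw [← QuotientGroup.eq]
      exact hur
    have e : r = u * (u⁻¹ * r) := by group
    rw [e]
    exact Subgroup.mul_mem_sup hu this
  -- the conjugate g R g⁻¹ is a p-subgroup of P ⊔ N
  have hB : IsPGroup p (R.map (MulAut.conj g).toMonoidHom) := (P.isPGroup'.to_le hRP).map _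
  have hBle : R.map (MulAut.conj g).toMonoidHom ≤ (P : Subgroup G) ⊔ N := by
    rintro _ ⟨r, hr, rfl⟩
    exact hR₁PN (hgR₁ r hr.1)
  obtain ⟨m, hm, R', hR', _, hPR', hBR'⟩ := exists_conj_le_common_pSubgroup
    ((P : Subgroup G) ⊔ N) (P : Subgroup G) (R.map (MulAut.conj g).toMonoidHom) P.isPGroup' hB
    le_sup_left hBle
  have hR'P : R' = P := sylow_eq_of_le_isPGroup P hR' hPR'
  obtain ⟨u, hu, n, hn, rfl⟩ := Subgroup.mem_sup_of_normal_right.mp hm
  -- g' = n * g
  have hg' : n * g ∈ Subgroup.normalizer (R : Set G) := by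
    apply mem_normalizer_of_map_conj_le
    rintro _ ⟨r, hr, rfl⟩
    refine ⟨?_, ?_⟩
    · have := hgR₁ r hr.1
      have e : (MulAut.conj (n * g)).toMonoidHom r = n * (g * r * g⁻¹) * n⁻¹ := by
        simp [MulAut.conj_apply, mul_assoc]
      rw [e]
      exact R₁.mul_mem (R₁.mul_mem (hNR₁ hn) this) (R₁.inv_mem (hNR₁ hn))
    · have h3 : (u * n) * (g * r * g⁻¹) * (u * n)⁻¹ ∈ (P : Subgroup G) := by
        rw [← hR'P]
        apply hBR'
        exact ⟨g * r * g⁻¹, ⟨r, hr, rfl⟩, by simp [MulAut.conj_apply, mul_assoc]⟩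
      have e : (MulAut.conj (n * g)).toMonoidHom r = u⁻¹ * ((u * n) * (g * r * g⁻¹) * (u * n)⁻¹) * u := by
        simp only [MulEquiv.coe_toMonoidHom, MulAut.conj_apply]
        group
      rw [e]
      exact (P : Subgroup G).mul_mem ((P : Subgroup G).mul_mem ((P : Subgroup G).inv_mem hu) h3) hu
  have hcx := hlc R hRP hRne hg'
  rw [Subgroup.mem_centralizer_singleton_iff] at hcx ⊢
  have hmk : (QuotientGroup.mk (n * g) : G ⧸ N) = QuotientGroup.mk g := by
    rw [QuotientGroup.mk_mul]
    have : (QuotientGroup.mk n : G ⧸ N) = 1 := (QuotientGroup.eq_one_iff n).mpr hn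
    rw [this, one_mul]
  rw [← hmk, ← QuotientGroup.mk_mul, ← QuotientGroup.mk_mul, hcx]

end Cfsg.Agent.S2998
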