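import Cfsg.Statements.S3003
import Cfsg.Agent.Lib.Helper7.Generation4
import Cfsg.Agent.Lib.Helper7.SylowAux

set_option autoImplicit false
open Cfsg

namespace Cfsg.Agent.S3003

open Cfsg.Agent.Lib.Helper7

theorem s3003_part1 {G : Type*} [Group G] [Finite G] {p : ℕ} [Fact p.Prime] (Q : Subgroup G)
    (hQp : IsPGroup p ↥Q) (hlarge : Cfsg.IsLarge Q) (G₁ : Subgroup G) (hQG : Q ≤ G₁)
    (R : Subgroup G) (hR : (Nat.card ↥R).Coprime p) (hGR : G₁ ≤ Subgroup.normalizer (R : Set G))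
    (U : Subgroup G)
    (h : ∃ x ∈ U, x ≠ 1 ∧ ∃ g ∈ G₁, g * x * g⁻¹ ∈ Q ⊓ Subgroup.centralizer (Q : Set G)) :
    R ⊓ Subgroup.centralizer (U : Set G) = ⊥ := by
  obtain ⟨x, hxU, hx1, g, hg, hz⟩ := h
  set z := g * x * g⁻¹ with hzdef
  have hz1 : z ≠ 1 := by
    intro h1
    apply hx1
    have : x = g⁻¹ * z * g := by rw [hzdef]; group
    rw [this, h1]; group
  obtain ⟨hzQ, hzC⟩ := Subgroup.mem_inf.mp hz
  set D : Subgroup G := R ⊓ Subgroup.centralizer ({z} : Set G) with hD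
  have hDN : D ≤ Subgroup.normalizer (Q : Set G) := by
    have h1 : Subgroup.zpowers z ≤ Subgroup.centralizer (Q : Set G) := by
      rw [Subgroup.zpowers_le]; exact hzC
    have h2 : Subgroup.zpowers z ≠ ⊥ := by
      rw [Ne, Subgroup.zpowers_eq_bot]; exact hz1
    exact inf_le_right.trans ((centralizer_singleton_le_normalizer_zpowers z).trans
      (hlarge.2 _ h1 h2))
  have hQD : Q ≤ Subgroup.normalizer (D : Set G) := by
    apply Cfsg.Agent.Lib.Helper1.le_normalizer_inf (hQG.trans hGR)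
    refine le_trans ?_ Subgroup.le_normalizer
    intro q hq
    rw [Subgroup.mem_centralizer_singleton_iff]
    exact (Subgroup.mem_centralizer_iff.mp hzC q hq)
  have hDQ : D ⊓ Q = ⊥ := by
    apply disjoint_iff.mp
    apply Subgroup.disjoint_of_coprime_natCard
    obtain ⟨k, hk⟩ := IsPGroup.iff_card.mp hQp
    rw [hk]
    apply Nat.Coprime.pow_right
    exact Nat.Coprime.coprime_dvd_left (Subgroup.card_dvd_of_le inf_le_left) hR
  have hcomm : ⁅D, Q⁆ = ⊥ := by
    rw [eq_bot_iff, ← hDQ]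
    apply le_inf
    · exact Subgroup.le_normalizer_iff_commutator_le_left.mp hQD
    · rw [Subgroup.commutator_comm]
      exact Subgroup.le_normalizer_iff_commutator_le_left.mp hDN
  have hDbot : D = ⊥ := by
    rw [eq_bot_iff, ← hDQ]
    apply le_inf le_rfl
    rw [Subgroup.commutator_eq_bot_iff_le_centralizer] at hcomm
    exact hcomm.trans hlarge.1
  rw [eq_bot_iff]
  intro r hr
  obtain ⟨hrR, hrC⟩ := Subgroup.mem_inf.mp hr
  have h1 : g * r * g⁻¹ ∈ D := by
    refine Subgroup.mem_inf.mpr ⟨(Subgroup.mem_normalizer_iff.mp (hGR hg) r).mp hrR, ?_⟩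
    rw [Subgroup.mem_centralizer_singleton_iff]
    have := Subgroup.mem_centralizer_iff.mp hrC x hxU
    rw [hzdef]
    calc g * r * g⁻¹ * (g * x * g⁻¹) = g * (r * x) * g⁻¹ := by group
      _ = g * (x * r) * g⁻¹ := by rw [this]
      _ = g * x * g⁻¹ * (g * r * g⁻¹) := by group
  rw [hDbot, Subgroup.mem_bot] at h1
  rw [Subgroup.mem_bot]
  have : r = g⁻¹ * (g * r * g⁻¹) * g := by group
  rw [this, h1]; group

/-- Let G be a finite group, p a prime and Q a large p-subgroup of G: C_G(Q) ≤ Q and N_G(U) ≤ N_G(Q) for every nontrivial subgroup U of C_G(Q). Let Q ≤ G₁ ≤ G, let R be a subgroup of order prime to p normalized by G₁, and let U ≤ G₁ be a p-subgroup. If U contains a nontrivial element which is G₁-conjugate to an element of Z(Q), then C_R(U) = 1. In particular, if U is elementary abelian of order at least p² and every maximal subgroup of U contains a nontrivial element G₁-conjugate into Z(Q), then R = 1. -/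
theorem result {G : Type*} [Group G] [Finite G] {p : ℕ} [Fact p.Prime] (Q : Subgroup G) (hQp : IsPGroup p ↥Q) (hlarge : Cfsg.IsLarge Q) (G₁ : Subgroup G) (hQG : Q ≤ G₁) (R : Subgroup G) (hR : (Nat.card ↥R).Coprime p) (hGR : G₁ ≤ Subgroup.normalizer (R : Set G)) (U : Subgroup G) (hUG : U ≤ G₁) (hUp : IsPGroup p ↥U) : ((∃ x ∈ U, x ≠ 1 ∧ ∃ g ∈ G₁, g * x * g⁻¹ ∈ Q ⊓ Subgroup.centralizer (Q : Set G)) → R ⊓ Subgroup.centralizer (U : Set G) = ⊥) ∧ (Cfsg.IsElementaryAbelian p U → p ^ 2 ≤ Nat.card ↥U → (∀ U₀ : Subgroup G, U₀ ≤ U → IsCoatom (U₀.subgroupOf U) → ∃ x ∈ U₀, x ≠ 1 ∧ ∃ g ∈ G₁, g * x * g⁻¹ ∈ Q ⊓ Subgroup.centralizer (Q : Set G)) → R = ⊥) := by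
  have hp : p.Prime := Fact.out
  have part1 := s3003_part1 Q hQp hlarge G₁ hQG R hR hGR
  refine ⟨part1 U, ?_⟩
  rintro ⟨hUc, hUe⟩ hU2 hco
  have hU1 : U ≠ ⊥ := by
    intro hb
    rw [hb, Subgroup.card_bot] at hU2
    have : 2 ^ 2 ≤ p ^ 2 := Nat.pow_le_pow_left hp.two_le 2
    omega
  have hR' : ¬ p ∣ Nat.card R := by
    rw [← Nat.Prime.coprime_iff_not_dvd hp]
    exact hR.symm
  rw [eq_bot_iff]
  apply le_of_coatom_centralizers_le U R ⊥ hUc hUe hU1 (hUG.trans hGR) hR'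
  intro V hVU hV
  rw [part1 V (hco V hVU hV)]


end Cfsg.Agent.S3003
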