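import Cfsg.Statements.S3011
import Mathlib
import Cfsg.Agent.S0200

set_option autoImplicit false
open Cfsg

namespace Cfsg.Agent.S3011

theorem eq_one_of_sq_of_odd {G : Type*} [Group G] {x : G} (ho : Odd (orderOf x)) (h2 : x * x = 1) :
    x = 1 := by
  have h1 : orderOf x ∣ 2 := orderOf_dvd_of_pow_eq_one (by rw [pow_two]; exact h2)
  have h3 : orderOf x = 1 := by
    rcases (Nat.dvd_prime Nat.prime_two).1 h1 with h | h
    · exact h
    · rw [h] at ho; exact absurd ho (by decide)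
  exact orderOf_eq_one_iff.1 h3

theorem comm_of_sq_comm {G : Type*} [Group G] {x y : G} (ho : Odd (orderOf x))
    (h2 : (x * x) * y = y * (x * x)) : x * y = y * x := by
  obtain ⟨m, hm⟩ := ho
  have hx : x = (x * x) ^ (m + 1) := by
    rw [← pow_two, ← pow_mul]
    have : 2 * (m + 1) = orderOf x + 1 := by omega
    rw [this, pow_succ, pow_orderOf_eq_one, one_mul]
  have hc : Commute (x * x) y := h2
  have := hc.pow_left (m + 1)
  rw [← hx] at this
  exact this

theorem eq_one_of_inverts_of_comm {G : Type*} [Group G] {w h : G} (ho : Odd (orderOf h))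
    (hinv : w * h * w⁻¹ = h⁻¹) (hc : w * h = h * w) : h = 1 := by
  apply eq_one_of_sq_of_odd ho
  have : w * h * w⁻¹ = h := by rw [hc]; group
  rw [this] at hinv
  calc h * h = h * h⁻¹ := by rw [← hinv]
    _ = 1 := mul_inv_cancel h

/-- the core configuration is contradictory -/
theorem sidki_core {G : Type*} [Group G] (V : Subgroup G) (hS : Cfsg.IsSidkiPair V)
    (a b h k : G) (ha : a ∈ V) (hb : b ∈ V) (hab : a * b = b * a)
    (hV : ∀ w ∈ V, w = 1 ∨ w = a ∨ w = b ∨ w = a * b)
    (hho : Odd (orderOf h)) (hh1 : h ≠ 1) (hko : Odd (orderOf k)) (hk1 : k ≠ 1)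
    (hah : a * h * a⁻¹ = h⁻¹) (hbh : b * h = h * b)
    (hbk : b * k * b⁻¹ = k⁻¹) (hak : a * k = k * a) : False := by
  have hak' : a * k * a⁻¹ = k := by rw [hak]; group
  have hak'' : a * k⁻¹ * a⁻¹ = k⁻¹ := by
    have : a * k⁻¹ * a⁻¹ = (a * k * a⁻¹)⁻¹ := by group
    rw [this, hak']
  have hbh' : b * h * b⁻¹ = h := by rw [hbh]; group
  have hbk'' : b * k⁻¹ * b⁻¹ = k := by
    have : b * k⁻¹ * b⁻¹ = (b * k * b⁻¹)⁻¹ := by group
    rw [this, hbk, inv_inv]
  -- h' = k⁻¹ h k
  have hh'o : Odd (orderOf (k⁻¹ * h * k)) := by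
    have : orderOf (k⁻¹ * h * k) = orderOf h := by
      have hsc : SemiconjBy k⁻¹ h (k⁻¹ * h * k) := by unfold SemiconjBy; group
      exact (hsc.orderOf_eq k⁻¹).symm
    rw [this]; exact hho
  have hh'1 : k⁻¹ * h * k ≠ 1 := by
    intro h0
    apply hh1
    have : h = k * (k⁻¹ * h * k) * k⁻¹ := by group
    rw [this, h0]; group
  have hah' : a * (k⁻¹ * h * k) * a⁻¹ = (k⁻¹ * h * k)⁻¹ := by
    have : a * (k⁻¹ * h * k) * a⁻¹ = (a * k⁻¹ * a⁻¹) * (a * h * a⁻¹) * (a * k * a⁻¹) := by group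
    rw [this, hak'', hah, hak']; group
  have hbh'' : b * (k⁻¹ * h * k) * b⁻¹ = k * h * k⁻¹ := by
    have : b * (k⁻¹ * h * k) * b⁻¹ = (b * k⁻¹ * b⁻¹) * (b * h * b⁻¹) * (b * k * b⁻¹) := by group
    rw [this, hbk'', hbh', hbk]
  obtain ⟨w, hwV, hw1, hwc⟩ := hS (k⁻¹ * h * k) a ha hh'o hah'
  rcases hV w hwV with rfl | rfl | rfl | rfl
  · exact hw1 rfl
  · exact hh'1 (eq_one_of_inverts_of_comm hh'o hah' hwc)
  · -- b centralizes h'
    have h1 : w * (k⁻¹ * h * k) * w⁻¹ = k⁻¹ * h * k := by rw [hwc]; group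
    rw [hbh''] at h1
    have h2 : (k * k) * h = h * (k * k) := by
      calc (k * k) * h = k * (k * h * k⁻¹) * k := by group
        _ = k * (k⁻¹ * h * k) * k := by rw [h1]
        _ = h * (k * k) := by group
    have hkh : k * h = h * k := comm_of_sq_comm hko h2
    have hcomm : Commute h k := hkh.symm
    have hhko : Odd (orderOf (h * k)) := by
      have hd := hcomm.orderOf_mul_dvd_lcm
      have hl : Odd (Nat.lcm (orderOf h) (orderOf k)) := by
        rw [Nat.odd_iff] at hho hko ⊢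
        by_contra hcon
        have h2l : 2 ∣ Nat.lcm (orderOf h) (orderOf k) := by omega
        have hcop1 : Nat.Coprime (orderOf h) 2 := by
          rw [Nat.coprime_two_right]; exact Nat.odd_iff.2 hho
        have hcop2 : Nat.Coprime (orderOf k) 2 := by
          rw [Nat.coprime_two_right]; exact Nat.odd_iff.2 hko
        have hcop : Nat.Coprime (Nat.lcm (orderOf h) (orderOf k)) 2 :=
          Nat.Coprime.coprime_dvd_left (Nat.lcm_dvd_mul _ _) (Nat.Coprime.mul_left hcop1 hcop2)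
        have := Nat.Coprime.eq_one_of_dvd hcop.symm h2l
        omega
      obtain ⟨q, hq⟩ := hd
      rw [hq] at hl
      exact (Nat.odd_mul.1 hl).1
    have hhk1 : h * k ≠ 1 := by
      intro h0
      have hk' : k = h⁻¹ := (eq_inv_of_mul_eq_one_right h0)
      apply hh1
      apply eq_one_of_sq_of_odd hho
      have e1 : a * h⁻¹ * a⁻¹ = h⁻¹ := by rw [← hk']; exact hak'
      have e2 : a * h⁻¹ * a⁻¹ = h := by
        have : a * h⁻¹ * a⁻¹ = (a * h * a⁻¹)⁻¹ := by group
        rw [this, hah, inv_inv]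
      have hhi : h = h⁻¹ := e2.symm.trans e1
      calc h * h = h * h⁻¹ := congrArg (fun t => h * t) hhi
        _ = 1 := mul_inv_cancel h
    have hchk : (a * w) * (h * k) * (a * w)⁻¹ = (h * k)⁻¹ := by
      have : (a * w) * (h * k) * (a * w)⁻¹ =
          a * ((w * h * w⁻¹) * (w * k * w⁻¹)) * a⁻¹ := by group
      rw [this, hbh', hbk]
      have : a * (h * k⁻¹) * a⁻¹ = (a * h * a⁻¹) * (a * k⁻¹ * a⁻¹) := by group
      rw [this, hah, hak'', mul_inv_rev]
      exact hcomm.inv_inv.eq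
    obtain ⟨w', hw'V, hw'1, hw'c⟩ := hS (h * k) (a * w) (V.mul_mem ha hb) hhko hchk
    rcases hV w' hw'V with rfl | rfl | rfl | rfl
    · exact hw'1 rfl
    · -- a centralizes hk
      have e1 : w' * (h * k) * w'⁻¹ = h * k := by rw [hw'c]; group
      have e2 : w' * (h * k) * w'⁻¹ = (w' * h * w'⁻¹) * (w' * k * w'⁻¹) := by group
      rw [e2, hah, hak'] at e1
      have : h⁻¹ = h := mul_right_cancel e1
      apply hh1
      apply eq_one_of_sq_of_odd hho
      calc h * h = h * h⁻¹ := by rw [this]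
        _ = 1 := mul_inv_cancel h
    · have e1 : w' * (h * k) * w'⁻¹ = h * k := by rw [hw'c]; group
      have e2 : w' * (h * k) * w'⁻¹ = (w' * h * w'⁻¹) * (w' * k * w'⁻¹) := by group
      rw [e2, hbh', hbk] at e1
      have : k⁻¹ = k := mul_left_cancel e1
      apply hk1
      apply eq_one_of_sq_of_odd hko
      calc k * k = k * k⁻¹ := by rw [this]
        _ = 1 := mul_inv_cancel k
    · exact hhk1 (eq_one_of_inverts_of_comm hhko hchk hw'c)
  · -- ab centralizes h'
    have h1 : (a * b) * (k⁻¹ * h * k) * (a * b)⁻¹ = k⁻¹ * h * k := by rw [hwc]; group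
    have h2 : (a * b) * (k⁻¹ * h * k) * (a * b)⁻¹ = k * h⁻¹ * k⁻¹ := by
      have : (a * b) * (k⁻¹ * h * k) * (a * b)⁻¹ = a * (b * (k⁻¹ * h * k) * b⁻¹) * a⁻¹ := by group
      rw [this, hbh'']
      have : a * (k * h * k⁻¹) * a⁻¹ = (a * k * a⁻¹) * (a * h * a⁻¹) * (a * k⁻¹ * a⁻¹) := by group
      rw [this, hak', hah, hak'']
    rw [h2] at h1
    -- k² inverts h
    obtain ⟨g, hg⟩ : ∃ g, g = k * k := ⟨_, rfl⟩
    have h3 : g * h * g⁻¹ = h⁻¹ := by
      have e : g * h * g⁻¹ = (k * (k * h⁻¹ * k⁻¹) * k⁻¹)⁻¹ := by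
        rw [hg]; simp only [mul_inv_rev, inv_inv, mul_assoc]
      rw [e, h1]; group
    have e1 : g * h = h⁻¹ * g := by
      calc g * h = (g * h * g⁻¹) * g := by group
        _ = h⁻¹ * g := by rw [h3]
    have e2 : g * h⁻¹ = h * g := by
      have e3 : g * h⁻¹ * g⁻¹ = h := by
        have : g * h⁻¹ * g⁻¹ = (g * h * g⁻¹)⁻¹ := by group
        rw [this, h3, inv_inv]
      calc g * h⁻¹ = (g * h⁻¹ * g⁻¹) * g := by group
        _ = h * g := by rw [e3]
    have h4 : (g * g) * h = h * (g * g) := by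
      calc (g * g) * h = g * (g * h) := by rw [mul_assoc]
        _ = g * (h⁻¹ * g) := by rw [e1]
        _ = (g * h⁻¹) * g := by rw [mul_assoc]
        _ = (h * g) * g := by rw [e2]
        _ = h * (g * g) := by rw [mul_assoc]
    have hk2o : Odd (orderOf g) := by
      have hd : orderOf g ∣ orderOf k := by
        rw [hg, ← pow_two]; exact orderOf_pow_dvd 2
      obtain ⟨q, hq⟩ := hd
      rw [hq] at hko
      exact (Nat.odd_mul.1 hko).1
    have h5 : g * h = h * g := comm_of_sq_comm hk2o h4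
    exact hh1 (eq_one_of_inverts_of_comm hho h3 h5)

/-- Let G be a finite group and V a nontrivial elementary abelian 2-subgroup of G of order at most 4 such that, whenever an element of V inverts an element h of G of odd order, some nontrivial element of V commutes with h. Then V meets O₂(G) nontrivially. (The case of order at most 4 has a short argument from the Baer–Suzuki theorem.) -/
theorem result {G : Type*} [Group G] [Finite G] (V : Subgroup G) (hV : Cfsg.IsElementaryAbelian 2 V) (hV1 : V ≠ ⊥) (hS : Cfsg.IsSidkiPair V) (h4 : Nat.card V ≤ 4) : V ⊓ Cfsg.pCore 2 G ≠ ⊥ := by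
  classical
  by_contra hcon
  -- every nontrivial element of V is an involution outside every normal 2-subgroup
  have hVc : ∀ x ∈ V, ∀ y ∈ V, x * y = y * x := fun x hx y hy =>
    congrArg Subtype.val (@mul_comm' _ _ hV.1 (⟨x, hx⟩ : V) ⟨y, hy⟩)
  have hsq : ∀ x ∈ V, x * x = 1 := fun x hx => by
    have := hV.2 x hx; rwa [pow_two] at this
  have hinv : ∀ x ∈ V, x⁻¹ = x := fun x hx => inv_eq_of_mul_eq_one_right (hsq x hx)
  have hord : ∀ x ∈ V, x ≠ 1 → orderOf x = 2 := by
    intro x hx hx1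
    have h1 : orderOf x ∣ 2 := orderOf_dvd_of_pow_eq_one (hV.2 x hx)
    rcases (Nat.dvd_prime Nat.prime_two).1 h1 with h | h
    · exact absurd (orderOf_eq_one_iff.1 h) hx1
    · exact h
  have hnot : ∀ x ∈ V, x ≠ 1 → ∀ N : Subgroup G, N.Normal → IsPGroup 2 N → x ∉ N := by
    intro x hx hx1 N hN hNp hxN
    have hxc : x ∈ Cfsg.pCore 2 G := (le_sSup (show N ∈ {N : Subgroup G | N.Normal ∧ IsPGroup 2 N}
      from ⟨hN, hNp⟩)) hxN
    have hxi : x ∈ V ⊓ Cfsg.pCore 2 G := Subgroup.mem_inf.2 ⟨hx, hxc⟩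
    rw [hcon, Subgroup.mem_bot] at hxi
    exact hx1 hxi
  -- each nontrivial v inverts some h, centralized by some w ≠ v
  have hstep : ∀ v ∈ V, v ≠ 1 → ∃ h : G, h ≠ 1 ∧ Odd (orderOf h) ∧ v * h * v⁻¹ = h⁻¹ ∧
      ∃ w ∈ V, w ≠ 1 ∧ w ≠ v ∧ w * h = h * w := by
    intro v hv hv1
    obtain ⟨h, hh1, hho, hvh⟩ := Cfsg.Agent.S0200.result v (hord v hv hv1) (hnot v hv hv1)
    obtain ⟨w, hw, hw1, hwc⟩ := hS h v hv hho hvh
    refine ⟨h, hh1, hho, hvh, w, hw, hw1, ?_, hwc⟩
    rintro rfl
    exact hh1 (eq_one_of_inverts_of_comm hho hvh hwc)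
  obtain ⟨v, hv, hv1⟩ : ∃ v ∈ V, v ≠ 1 := by
    obtain ⟨⟨v, hv⟩, hv1⟩ := (Subgroup.ne_bot_iff_exists_ne_one).1 hV1
    exact ⟨v, hv, fun h => hv1 (Subtype.ext h)⟩
  obtain ⟨h, hh1, hho, hvh, b, hb, hb1, hbv, hbh⟩ := hstep v hv hv1
  obtain ⟨k, hk1, hko, hbk, u, hu, hu1, hub, huk⟩ := hstep b hb hb1
  -- V = {1, v, b, v b}
  have hfour : ∀ x y : G, x ∈ V → y ∈ V → x ≠ 1 → y ≠ 1 → x ≠ y →
      ∀ w ∈ V, w = 1 ∨ w = x ∨ w = y ∨ w = x * y := by
    intro x y hx hy hx1 hy1 hxy w hw
    by_contra hne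
    push Not at hne
    obtain ⟨hw1, hwx, hwy, hwxy⟩ := hne
    have hxy1 : x * y ≠ 1 := by
      intro h0
      apply hxy
      have : x = y⁻¹ := eq_inv_of_mul_eq_one_left h0
      rw [this, hinv y hy]
    have hxyx : x * y ≠ x := by
      intro h0; apply hy1
      have : x * y = x * 1 := by rw [h0, mul_one]
      exact mul_left_cancel this
    have hxyy : x * y ≠ y := by
      intro h0; apply hx1
      have : x * y = 1 * y := by rw [h0, one_mul]
      exact mul_right_cancel this
    let s : Finset G := {1, x, y, x * y, w}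
    have hcard : s.card = 5 := by
      simp only [s]
      rw [Finset.card_insert_of_notMem, Finset.card_insert_of_notMem,
        Finset.card_insert_of_notMem, Finset.card_insert_of_notMem, Finset.card_singleton]
      · simp only [Finset.mem_singleton]; exact fun h => hwxy h.symm
      · simp only [Finset.mem_insert, Finset.mem_singleton, not_or]
        exact ⟨fun h => hxyy h.symm, fun h => hwy h.symm⟩
      · simp only [Finset.mem_insert, Finset.mem_singleton, not_or]
        exact ⟨hxy, fun h => hxyx h.symm, fun h => hwx h.symm⟩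
      · simp only [Finset.mem_insert, Finset.mem_singleton, not_or]
        exact ⟨fun h => hx1 h.symm, fun h => hy1 h.symm, fun h => hxy1 h.symm, fun h => hw1 h.symm⟩
    have hsub : (s : Set G) ⊆ (V : Set G) := by
      intro z hz
      simp only [s, Finset.coe_insert, Finset.coe_singleton, Set.mem_insert_iff,
        Set.mem_singleton_iff] at hz
      rcases hz with rfl | rfl | rfl | rfl | rfl
      · exact V.one_mem
      · exact hx
      · exact hy
      · exact V.mul_mem hx hy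
      · exact hw
    have h1 := Set.ncard_le_ncard hsub (Set.toFinite _)
    rw [Set.ncard_coe_finset, hcard] at h1
    have h2 : Nat.card V = (V : Set G).ncard := rfl
    omega
  have hVvb := hfour v b hv hb hv1 hb1 (fun h => hbv h.symm)
  have hvinv : v⁻¹ = v := hinv v hv
  have hbinv : b⁻¹ = b := hinv b hb
  rcases hVvb u hu with rfl | rfl | rfl | rfl
  · exact hu1 rfl
  · -- u = v
    exact sidki_core V hS u b h k hu hb (hVc u hu b hb) hVvb hho hh1 hko hk1 hvh hbh hbk huk
  · exact hub rfl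
  · -- u = v * b
    have hvb : v * b = b * v := hVc v hv b hb
    have hV' : ∀ w ∈ V, w = 1 ∨ w = v * b ∨ w = b ∨ w = (v * b) * b := by
      intro w hw
      have e : (v * b) * b = v := by rw [mul_assoc, hsq b hb, mul_one]
      rw [e]
      rcases hVvb w hw with h | h | h | h
      · exact Or.inl h
      · exact Or.inr (Or.inr (Or.inr h))
      · exact Or.inr (Or.inr (Or.inl h))
      · exact Or.inr (Or.inl h)
    have hbh' : b * h * b⁻¹ = h := by rw [hbh]; group
    have hvbh : (v * b) * h * (v * b)⁻¹ = h⁻¹ := by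
      have : (v * b) * h * (v * b)⁻¹ = v * (b * h * b⁻¹) * v⁻¹ := by group
      rw [this, hbh', hvh]
    exact sidki_core V hS (v * b) b h k hu hb (hVc _ hu b hb) hV' hho hh1 hko hk1 hvbh hbh hbk huk

end Cfsg.Agent.S3011
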