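import Cfsg.Statements.S3012

set_option autoImplicit false
open Cfsg

namespace Cfsg.Agent.S3012


/-- Let G be a finite group, V a nontrivial elementary abelian 2-subgroup of G satisfying the Sidki pair condition (every odd-order element inverted by an element of V commutes with a nontrivial element of V), and K a normal subgroup of G with V ∩ K = 1. Then the image of V in G/K satisfies the Sidki pair condition in G/K. -/
theorem result {G : Type*} [Group G] [Finite G] (V K : Subgroup G) [K.Normal] (hV : Cfsg.IsElementaryAbelian 2 V) (hV1 : V ≠ ⊥) (hS : Cfsg.IsSidkiPair V) (hVK : V ⊓ K = ⊥) : Cfsg.IsSidkiPair (V.map (QuotientGroup.mk' K)) := by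
  obtain ⟨_, hV2⟩ := hV
  intro hb vb hvb hodd hinvb
  obtain ⟨v, hv, rfl⟩ := hvb
  obtain ⟨h, rfl⟩ := QuotientGroup.mk'_surjective K hb
  have hv2 : v ^ 2 = 1 := hV2 v hv
  have hvinv : v⁻¹ = v := by
    rw [inv_eq_iff_mul_eq_one, ← pow_two, hv2]
  set h₁ : G := v * h * v⁻¹ * h⁻¹ with hh₁
  have hinv1 : v * h₁ * v⁻¹ = h₁⁻¹ := by
    rw [hh₁]
    have e1 : v * (v * h * v⁻¹ * h⁻¹) * v⁻¹ = (v * v) * h * v⁻¹ * h⁻¹ * v⁻¹ := by group
    have e2 : (v * h * v⁻¹ * h⁻¹)⁻¹ = h * v * h⁻¹ * v⁻¹ := by group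
    rw [e1, e2, ← pow_two, hv2, one_mul]
    nth_rewrite 1 [hvinv]
    rfl
  have ho1 : orderOf h₁ ≠ 0 := (orderOf_pos h₁).ne'
  obtain ⟨a, m', hm', ha⟩ := Nat.exists_eq_two_pow_mul_odd ho1
  set h₂ : G := h₁ ^ (2 ^ a) with hh₂
  have ho2 : orderOf h₂ = m' := by
    rw [hh₂, orderOf_pow_of_dvd (by positivity) ⟨m', ha⟩, ha]
    exact Nat.mul_div_cancel_left m' (by positivity)
  have hinv2 : v * h₂ * v⁻¹ = h₂⁻¹ := by
    rw [hh₂, ← conj_pow, hinv1, inv_pow]
  obtain ⟨w, hwV, hw1, hwh⟩ := hS h₂ v hv (ho2 ▸ hm') hinv2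
  refine ⟨QuotientGroup.mk' K w, ⟨w, hwV, rfl⟩, ?_, ?_⟩
  · intro h1
    apply hw1
    have hwK : w ∈ K := (QuotientGroup.eq_one_iff w).mp h1
    have : w ∈ V ⊓ K := ⟨hwV, hwK⟩
    rw [hVK, Subgroup.mem_bot] at this
    exact this
  · set hq : G ⧸ K := QuotientGroup.mk' K h with hhq
    set vq : G ⧸ K := QuotientGroup.mk' K v with hvq
    set wq : G ⧸ K := QuotientGroup.mk' K w with hwq
    have e1 : QuotientGroup.mk' K h₂ = (hq⁻¹) ^ (2 ^ (a + 1)) := by
      rw [hh₂, map_pow, hh₁]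
      simp only [map_mul, map_inv]
      rw [← hhq, ← hvq, hinvb, ← pow_two, ← pow_mul, pow_succ, mul_comm]
    have hcomm : Commute wq ((hq⁻¹) ^ (2 ^ (a + 1))) := by
      rw [← e1]
      show QuotientGroup.mk' K w * QuotientGroup.mk' K h₂ = QuotientGroup.mk' K h₂ * QuotientGroup.mk' K w
      rw [← map_mul, ← map_mul, hwh]
    have hoddinv : Odd (orderOf hq⁻¹) := by rwa [orderOf_inv]
    have hc : (2 ^ (a + 1) : ℕ).Coprime (orderOf hq⁻¹) :=
      Nat.Coprime.pow_left _ (Odd.coprime_two_right hoddinv).symm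
    obtain ⟨m, hm⟩ := exists_pow_eq_self_of_coprime hc
    have h3 : Commute wq hq⁻¹ := by
      rw [← hm]
      exact hcomm.pow_right m
    have h4 : Commute wq hq := by
      have := h3.inv_right
      rwa [inv_inv] at this
    exact h4.eq

end Cfsg.Agent.S3012
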