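import Cfsg.Statements.S3013

set_option autoImplicit false
open Cfsg

namespace Cfsg.Agent.S3013


/-- If `w` commutes with `y ^ 2` and `y` has odd order then `w` commutes with `y`. -/
theorem commute_of_commute_sq {G : Type*} [Group G] {w y : G} (hy : Odd (orderOf y))
    (h : Commute w (y ^ 2)) : Commute w y := by
  have hc : (2 : ℕ).Coprime (orderOf y) := (Odd.coprime_two_right hy).symm
  obtain ⟨m, hm⟩ := exists_pow_eq_self_of_coprime hc
  rw [← hm]
  exact h.pow_right m


/-- Let G be a finite group and V a nontrivial elementary abelian 2-subgroup of G satisfying the Sidki pair condition. Let v ∈ V and let x be an element of odd order inverted by v, and put C = C_G(v) ∩ C_G(x), the centralizer of the dihedral subgroup generated by v and x. Then C ∩ V is nontrivial and satisfies the Sidki pair condition inside C: every odd-order element of C inverted by an element of C ∩ V commutes with a nontrivial element of C ∩ V. -/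
theorem result {G : Type*} [Group G] [Finite G] (V : Subgroup G) (hV : Cfsg.IsElementaryAbelian 2 V) (hV1 : V ≠ ⊥) (hS : Cfsg.IsSidkiPair V) (v x : G) (hv : v ∈ V) (hx : Odd (orderOf x)) (hinv : v * x * v⁻¹ = x⁻¹) (C : Subgroup G) (hC : C = Subgroup.centralizer ({v} : Set G) ⊓ Subgroup.centralizer ({x} : Set G)) : C ⊓ V ≠ ⊥ ∧ Cfsg.IsSidkiPair ((C ⊓ V).subgroupOf C) := by
  subst hC
  obtain ⟨hVab, hV2⟩ := hV
  have hVcomm : ∀ a ∈ V, ∀ b ∈ V, a * b = b * a := by
    intro a ha b hb
    have := hVab.is_comm.comm (⟨a, ha⟩ : V) ⟨b, hb⟩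
    exact congrArg Subtype.val this
  -- key : an element of V commuting with h * x (h in C inverted-type) commutes with x and h
  have key : ∀ (h w : G), w ∈ V → Commute h x → Commute v h → Commute w (h * x) →
      Commute w x ∧ Commute w h := by
    intro h w hw hhx hvh hwhx
    have hwv : Commute w v := hVcomm w hw v hv
    -- w commutes with v (h x) v⁻¹ = h x⁻¹
    have e1 : v * (h * x) * v⁻¹ = h * x⁻¹ := by
      calc v * (h * x) * v⁻¹ = (v * h) * (x * v⁻¹) := by group
        _ = (h * v) * (x * v⁻¹) := by rw [hvh.eq]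
        _ = h * (v * x * v⁻¹) := by group
        _ = h * x⁻¹ := by rw [hinv]
    have h2 : Commute w (h * x⁻¹) := by
      rw [← e1]
      exact (hwv.mul_right hwhx).mul_right hwv.inv_right
    have e2 : x ^ 2 = (h * x⁻¹)⁻¹ * (h * x) := by
      have : (h * x⁻¹)⁻¹ * (h * x) = x * (h⁻¹ * h) * x := by group
      rw [this, inv_mul_cancel, mul_one, pow_two]
    have h3 : Commute w (x ^ 2) := by
      rw [e2]
      exact h2.inv_right.mul_right hwhx
    have h4 : Commute w x := commute_of_commute_sq hx h3
    refine ⟨h4, ?_⟩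
    have e3 : h = (h * x) * x⁻¹ := by group
    rw [e3]
    exact hwhx.mul_right h4.inv_right
  constructor
  · -- nontrivial
    obtain ⟨w, hwV, hw1, hwx⟩ := hS x v hv hx hinv
    intro hbot
    apply hw1
    have : w ∈ (Subgroup.centralizer ({v} : Set G) ⊓ Subgroup.centralizer ({x} : Set G)) ⊓ V := by
      refine ⟨⟨?_, ?_⟩, hwV⟩
      · exact Subgroup.mem_centralizer_singleton_iff.mpr (hVcomm w hwV v hv)
      · exact Subgroup.mem_centralizer_singleton_iff.mpr hwx
    rw [hbot, Subgroup.mem_bot] at this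
    exact this
  · intro h u hu hh hinvh
    -- unpack
    obtain ⟨h, hhC⟩ := h
    obtain ⟨u, huC⟩ := u
    rw [Subgroup.mem_subgroupOf] at hu
    simp only at hu
    have huV : u ∈ V := hu.2
    have hhv : Commute v h := by
      have := Subgroup.mem_centralizer_singleton_iff.mp hhC.1
      exact this.symm
    have hhx : Commute h x := Subgroup.mem_centralizer_singleton_iff.mp hhC.2
    have hux : Commute u x := Subgroup.mem_centralizer_singleton_iff.mp huC.2
    have hinvh' : u * h * u⁻¹ = h⁻¹ := by
      have := congrArg Subtype.val hinvh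
      simpa using this
    have hoh : Odd (orderOf h) := by
      have : orderOf (⟨h, hhC⟩ : ↥(Subgroup.centralizer ({v} : Set G) ⊓ Subgroup.centralizer ({x} : Set G))) = orderOf h :=
        Subgroup.orderOf_mk h hhC
      rwa [this] at hh
    -- (u v) inverts h x
    have hodd : Odd (orderOf (h * x)) := by
      have hd := hhx.orderOf_mul_dvd_mul_orderOf
      exact Odd.of_dvd_nat (hoh.mul hx) hd
    have hinv2 : (u * v) * (h * x) * (u * v)⁻¹ = (h * x)⁻¹ := by
      have e1 : v * h * v⁻¹ = h := by
        calc v * h * v⁻¹ = (h * v) * v⁻¹ := by rw [hhv.eq]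
          _ = h := by group
      have e2 : u * x⁻¹ * u⁻¹ = x⁻¹ := by
        calc u * x⁻¹ * u⁻¹ = (x⁻¹ * u) * u⁻¹ := by rw [hux.inv_right.eq]
          _ = x⁻¹ := by group
      calc (u * v) * (h * x) * (u * v)⁻¹ = u * ((v * h * v⁻¹) * (v * x * v⁻¹)) * u⁻¹ := by group
        _ = u * (h * x⁻¹) * u⁻¹ := by rw [e1, hinv]
        _ = (u * h * u⁻¹) * (u * x⁻¹ * u⁻¹) := by group
        _ = h⁻¹ * x⁻¹ := by rw [hinvh', e2]
        _ = (h * x)⁻¹ := by rw [hhx.eq]; group
    obtain ⟨w, hwV, hw1, hwhx⟩ := hS (h * x) (u * v) (V.mul_mem huV hv) hodd hinv2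
    obtain ⟨hwx, hwh⟩ := key h w hwV hhx hhv hwhx
    have hwC : w ∈ Subgroup.centralizer ({v} : Set G) ⊓ Subgroup.centralizer ({x} : Set G) :=
      ⟨Subgroup.mem_centralizer_singleton_iff.mpr (hVcomm w hwV v hv),
        Subgroup.mem_centralizer_singleton_iff.mpr hwx⟩
    refine ⟨⟨w, hwC⟩, ?_, ?_, ?_⟩
    · rw [Subgroup.mem_subgroupOf]
      exact ⟨hwC, hwV⟩
    · intro h1
      apply hw1
      exact congrArg Subtype.val h1
    · apply Subtype.ext
      simpa using hwh.eq

end Cfsg.Agent.S3013
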