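import Cfsg.Statements.S3014
import Mathlib.GroupTheory.Transfer
import Mathlib.Tactic

set_option autoImplicit false
open Cfsg

namespace Cfsg.Agent.S3014

open MulAction Subgroup

/-- transfer evaluation in the "Frobenius-like" situation -/
theorem transfer_eq {G A : Type*} [Group G] [CommGroup A] (M : Subgroup G) [M.FiniteIndex] (φ : M →* A)
    (H : Subgroup G) (hφ : ∀ x : M, (x : G) ∈ H → φ x = 1)
    (P1 : ∀ y h : G, h ∈ H → y⁻¹ * h * y ∈ M → y⁻¹ * h * y ∈ H)
    (P2 : ∀ m ∈ M, m ∉ H → ∀ y : G, y ∉ M → y⁻¹ * m * y ∉ M) (m : M) :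
    MonoidHom.transfer φ (m : G) = φ m := by
  classical
  haveI : Finite (G ⧸ M) := Subgroup.finite_quotient_of_finiteIndex
  haveI := Fintype.ofFinite (Quotient (orbitRel (zpowers (m : G)) (G ⧸ M)))
  rw [MonoidHom.transfer_eq_prod_quotient_orbitRel_zpowers_quot]
  have key1 : ∀ (y : G) (n : ℕ) (hmem : y⁻¹ * (m : G) ^ n * y ∈ M), y ∉ M → φ ⟨_, hmem⟩ = 1 := by
    intro y n hmem hy
    apply hφ
    have hmn : (m : G) ^ n ∈ M := M.pow_mem m.2 n
    have hH : (m : G) ^ n ∈ H := by
      by_contra hcon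
      exact P2 _ hmn hcon y hy hmem
    exact P1 y _ hH hmem
  have key0 : ∀ (y : G) (n : ℕ) (hmem : y⁻¹ * (m : G) ^ n * y ∈ M), y ∈ M → n = 1 → φ ⟨_, hmem⟩ = φ m := by
    intro y n hmem hy hn
    subst hn
    have : (⟨_, hmem⟩ : M) = (⟨y, hy⟩ : M)⁻¹ * m * ⟨y, hy⟩ := by
      apply Subtype.ext
      simp
    rw [this, map_mul, map_mul, map_inv, mul_comm, mul_inv_cancel_left]
  let q₀ : Quotient (orbitRel (zpowers (m : G)) (G ⧸ M)) := Quotient.mk'' ((1 : G) : G ⧸ M)
  rw [Finset.prod_eq_single q₀]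
  · -- the trivial orbit
    have h1 : (q₀.out : G ⧸ M) = ((1 : G) : G ⧸ M) := by
      have h2 : orbitRel (zpowers (m : G)) (G ⧸ M) q₀.out ((1 : G) : G ⧸ M) :=
        Quotient.exact' (Quotient.out_eq' q₀)
      rw [orbitRel_apply] at h2
      obtain ⟨⟨z, hz⟩, hz2⟩ := h2
      rw [← hz2]
      show ((z * 1 : G) : G ⧸ M) = ((1 : G) : G ⧸ M)
      rw [mul_one, QuotientGroup.eq, mul_one]
      apply M.inv_mem
      exact (zpowers_le.mpr m.2) hz
    apply key0
    · have := QuotientGroup.out_eq' (q₀.out)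
      rw [h1] at this ⊢
      rw [QuotientGroup.eq] at this
      have h3 := M.inv_mem this
      simpa using h3
    · rw [Function.minimalPeriod_eq_one_iff_isFixedPt, h1]
      show (((m : G) * 1 : G) : G ⧸ M) = ((1 : G) : G ⧸ M)
      rw [mul_one, QuotientGroup.eq, mul_one]
      exact M.inv_mem m.2
  · intro q _ hq
    apply key1
    intro hy
    apply hq
    have h1 := QuotientGroup.out_eq' (q.out)
    have h2 : ((q.out.out : G) : G ⧸ M) = ((1 : G) : G ⧸ M) := by
      rw [QuotientGroup.eq, mul_one]; exact M.inv_mem hy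
    rw [h2] at h1
    rw [← Quotient.out_eq' q, ← h1]
  · intro h
    exact absurd (Finset.mem_univ _) h

theorem result {G : Type*} [Group G] [Finite G] (H M : Subgroup G) (hHM : H ≤ M) (hcl : ∀ g : G, (H ⊔ H.map (MulAut.conj g).toMonoidHom) ⊓ M = H) (hmaxH : IsCoatom (H.subgroupOf M)) (hmaxM : IsCoatom M) : Subgroup.normalClosure (H : Set G) ⊓ M = H := by
  classical
  -- elementwise closure
  have E0 : ∀ g h : G, h ∈ H → g * h * g⁻¹ ∈ M → g * h * g⁻¹ ∈ H := by
    intro g h hh hm
    have h1 : g * h * g⁻¹ ∈ H.map (MulAut.conj g).toMonoidHom := Subgroup.mem_map.mpr ⟨h, hh, rfl⟩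
    have h2 : g * h * g⁻¹ ∈ (H ⊔ H.map (MulAut.conj g).toMonoidHom) ⊓ M :=
      Subgroup.mem_inf.mpr ⟨(le_sup_right : _ ≤ H ⊔ H.map (MulAut.conj g).toMonoidHom) h1, hm⟩
    rwa [hcl g] at h2
  have P1 : ∀ y h : G, h ∈ H → y⁻¹ * h * y ∈ M → y⁻¹ * h * y ∈ H := by
    intro y h hh hm
    have := E0 y⁻¹ h hh (by rwa [inv_inv])
    rwa [inv_inv] at this
  -- H is normal in M
  have hHn : (H.subgroupOf M).Normal := by
    refine ⟨fun n hn x => ?_⟩
    rw [Subgroup.mem_subgroupOf] at hn ⊢
    exact E0 x n hn (M.mul_mem (M.mul_mem x.2 n.2) (M.inv_mem x.2))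
  -- generation
  have C2 : ∀ x ∈ M, x ∉ H → M ≤ H ⊔ zpowers x := by
    intro x hxM hxH
    have hlt : H.subgroupOf M < (H ⊔ zpowers x).subgroupOf M := by
      refine lt_of_le_of_ne ?_ ?_
      · intro a ha
        rw [Subgroup.mem_subgroupOf] at ha ⊢
        exact (le_sup_left : H ≤ H ⊔ zpowers x) ha
      · intro heq
        apply hxH
        have : (⟨x, hxM⟩ : M) ∈ (H ⊔ zpowers x).subgroupOf M := by
          rw [Subgroup.mem_subgroupOf]
          exact (le_sup_right : zpowers x ≤ H ⊔ zpowers x) (mem_zpowers x)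
        rw [← heq, Subgroup.mem_subgroupOf] at this
        exact this
    have := hmaxH.2 _ hlt
    rwa [Subgroup.subgroupOf_eq_top] at this
  -- reduce to finding a normal subgroup
  suffices hK : ∃ K : Subgroup G, K.Normal ∧ H ≤ K ∧ K ⊓ M ≤ H by
    obtain ⟨K, hKn, hHK, hKM⟩ := hK
    apply le_antisymm
    · have : Subgroup.normalClosure (H : Set G) ≤ K := Subgroup.normalClosure_le_normal hHK
      exact (inf_le_inf_right M this).trans hKM
    · exact le_inf Subgroup.le_normalClosure hHM
  by_cases hMn : M.Normal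
  · -- H is normal
    refine ⟨H, ⟨fun n hn g => ?_⟩, le_rfl, inf_le_left⟩
    exact E0 g n hn (hMn.conj_mem n (hHM hn) g)
  by_cases hA : ∃ m ∈ M, m ∉ H ∧ ∃ g : G, g ∉ M ∧ g⁻¹ * m * g ∈ M
  · obtain ⟨m, hmM, hmH, g, hgM, hm'M⟩ := hA
    set m' := g⁻¹ * m * g with hm'
    set Hg := H.map (MulAut.conj g).toMonoidHom with hHg
    set K := H ⊔ Hg with hK
    have hKM : K ⊓ M = H := hcl g
    have hm'H : m' ∉ H := by
      intro h
      apply hmH
      have h1 : m ∈ Hg := Subgroup.mem_map.mpr ⟨m', h, by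
        show g * m' * g⁻¹ = m
        rw [hm']; group⟩
      have h2 : m ∈ K ⊓ M := Subgroup.mem_inf.mpr ⟨(le_sup_right : Hg ≤ K) h1, hmM⟩
      rwa [hKM] at h2
    -- conjugation by elements of M fixes H
    have conjM : ∀ x ∈ M, H.map (MulAut.conj x).toMonoidHom = H := by
      intro x hx
      have hle : H.map (MulAut.conj x).toMonoidHom ≤ H := by
        intro a ha
        obtain ⟨h, hh, rfl⟩ := Subgroup.mem_map.mp ha
        exact E0 x h hh (M.mul_mem (M.mul_mem hx (hHM hh)) (M.inv_mem hx))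
      exact Subgroup.eq_of_le_of_card_ge hle (Subgroup.card_map_of_injective (MulAut.conj x).injective).ge
    have conjK : K.map (MulAut.conj m).toMonoidHom = K := by
      rw [hK, Subgroup.map_sup, conjM m hmM]
      congr 1
      rw [hHg, Subgroup.map_map]
      have h1 : (MulAut.conj m).toMonoidHom.comp (MulAut.conj g).toMonoidHom
          = (MulAut.conj g).toMonoidHom.comp (MulAut.conj m').toMonoidHom := by
        ext a
        show m * (g * a * g⁻¹) * m⁻¹ = g * (m' * a * m'⁻¹) * g⁻¹
        rw [hm']; group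
      rw [h1, ← Subgroup.map_map, conjM m' hm'M]
    have hmN : m ∈ Subgroup.normalizer (K : Set G) := by
      rw [Subgroup.mem_normalizer_iff]
      intro k
      constructor
      · intro hk
        rw [← conjK]
        exact Subgroup.mem_map.mpr ⟨k, hk, rfl⟩
      · intro hk
        rw [← conjK] at hk
        obtain ⟨k', hk', hkk⟩ := Subgroup.mem_map.mp hk
        have : k' = k := (MulAut.conj m).injective hkk
        rwa [← this]
    -- L = K ⊔ zpowers m = ⊤
    have hML : M ≤ K ⊔ zpowers m :=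
      (C2 m hmM hmH).trans (sup_le_sup_right (le_sup_left : H ≤ K) _)
    have hMgL : M.map (MulAut.conj g).toMonoidHom ≤ K ⊔ zpowers m := by
      have h1 : M.map (MulAut.conj g).toMonoidHom ≤ (H ⊔ zpowers m').map (MulAut.conj g).toMonoidHom :=
        Subgroup.map_mono (C2 m' hm'M hm'H)
      refine h1.trans ?_
      rw [Subgroup.map_sup, MonoidHom.map_zpowers]
      have : (MulAut.conj g).toMonoidHom m' = m := by
        show g * m' * g⁻¹ = m
        rw [hm']; group
      rw [this]
      exact sup_le_sup_right (le_sup_right : Hg ≤ K) _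
    have hMg : ¬ M.map (MulAut.conj g).toMonoidHom ≤ M := by
      intro hle
      have heq : M.map (MulAut.conj g).toMonoidHom = M :=
        Subgroup.eq_of_le_of_card_ge hle (Subgroup.card_map_of_injective (MulAut.conj g).injective).ge
      -- g normalizes M
      have hgN : g ∈ Subgroup.normalizer (M : Set G) := by
        rw [Subgroup.mem_normalizer_iff]
        intro k
        constructor
        · intro hk
          rw [← heq]
          exact Subgroup.mem_map.mpr ⟨k, hk, rfl⟩
        · intro hk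
          rw [← heq] at hk
          obtain ⟨k', hk', hkk⟩ := Subgroup.mem_map.mp hk
          have : k' = k := (MulAut.conj g).injective hkk
          rwa [← this]
      have hNM : Subgroup.normalizer (M : Set G) = M := by
        by_contra hne
        have hlt : M < Subgroup.normalizer (M : Set G) := lt_of_le_of_ne Subgroup.le_normalizer (Ne.symm hne)
        have := hmaxM.2 _ hlt
        exact hMn (Subgroup.normalizer_eq_top_iff.mp this)
      rw [hNM] at hgN
      exact hgM hgN
    have hLtop : K ⊔ zpowers m = ⊤ := by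
      by_contra hne
      have h1 : M = K ⊔ zpowers m := by
        by_contra hne'
        exact hne (hmaxM.2 _ (lt_of_le_of_ne hML hne'))
      rw [← h1] at hMgL
      exact hMg hMgL
    have hKn : K.Normal := by
      rw [← Subgroup.normalizer_eq_top_iff, eq_top_iff, ← hLtop]
      exact sup_le Subgroup.le_normalizer (zpowers_le.mpr hmN)
    exact ⟨K, hKn, le_sup_left, hKM.le⟩
  · -- transfer
    push Not at hA
    have P2 : ∀ m ∈ M, m ∉ H → ∀ y : G, y ∉ M → y⁻¹ * m * y ∉ M := hA
    -- the quotient M/H is cyclic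
    obtain ⟨x₀, hx₀⟩ : ∃ x₀ : M, x₀ ∉ H.subgroupOf M := by
      by_contra hall
      push Not at hall
      exact hmaxH.1 (eq_top_iff.mpr fun x _ => hall x)
    haveI := hHn
    have hcyc : IsCyclic (M ⧸ H.subgroupOf M) := by
      refine ⟨⟨QuotientGroup.mk x₀, fun a => ?_⟩⟩
      obtain ⟨a, rfl⟩ := QuotientGroup.mk_surjective a
      let Z : Subgroup M := (zpowers (QuotientGroup.mk x₀ : M ⧸ H.subgroupOf M)).comap (QuotientGroup.mk' (H.subgroupOf M))
      have hlt : H.subgroupOf M < Z := by
        refine lt_of_le_of_ne ?_ ?_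
        · intro b hb
          show (QuotientGroup.mk b : M ⧸ H.subgroupOf M) ∈ zpowers _
          rw [(QuotientGroup.eq_one_iff b).mpr hb]
          exact one_mem _
        · intro heq
          apply hx₀
          rw [heq]
          show (QuotientGroup.mk x₀ : M ⧸ H.subgroupOf M) ∈ zpowers _
          exact mem_zpowers _
      have hZ := hmaxH.2 _ hlt
      have : a ∈ Z := by rw [hZ]; trivial
      exact this
    letI : CommGroup (M ⧸ H.subgroupOf M) := IsCyclic.commGroup
    let φ : M →* M ⧸ H.subgroupOf M := QuotientGroup.mk' (H.subgroupOf M)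
    have hφ : ∀ x : M, (x : G) ∈ H → φ x = 1 := by
      intro x hx
      exact (QuotientGroup.eq_one_iff x).mpr (Subgroup.mem_subgroupOf.mpr hx)
    have T := transfer_eq M φ H hφ P1 P2
    refine ⟨(MonoidHom.transfer φ).ker, inferInstance, ?_, ?_⟩
    · intro h hh
      rw [MonoidHom.mem_ker]
      have := T ⟨h, hHM hh⟩
      rw [hφ _ hh] at this
      exact this
    · intro x hx
      obtain ⟨h1, h2⟩ := Subgroup.mem_inf.mp hx
      rw [MonoidHom.mem_ker] at h1
      have := T ⟨x, h2⟩
      rw [h1] at this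
      have h3 : (⟨x, h2⟩ : M) ∈ H.subgroupOf M := (QuotientGroup.eq_one_iff _).mp this.symm
      exact Subgroup.mem_subgroupOf.mp h3

end Cfsg.Agent.S3014
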