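import Cfsg.Statements.S3015
import Mathlib
import Cfsg.Agent.S3014
import Cfsg.Agent.Lib.Helper2.PGroup

set_option autoImplicit false
open Cfsg

namespace Cfsg.Agent.S3015

theorem comm_of_pgroup {G : Type*} [Group G] [Finite G] [IsSimpleGroup G] {p : ℕ} [Fact p.Prime]
    (h : IsPGroup p G) : IsMulCommutative G := by
  have h1 : Subgroup.center G ≠ ⊥ := by
    have := h.center_nontrivial
    intro h2
    rw [h2] at this
    exact not_nontrivial _ this
  have h2 : Subgroup.center G = ⊤ := ((Subgroup.center G).normal_of_characteristic.eq_bot_or_eq_top).resolve_left h1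
  refine ⟨⟨fun a b => ?_⟩⟩
  have ha : a ∈ Subgroup.center G := by rw [h2]; trivial
  exact ((Subgroup.mem_center_iff.1 ha) b).symm

theorem normalizer_eq_of_coatom {G : Type*} [Group G] (M : Subgroup G) (hM : IsCoatom M)
    (hn : ¬ M.Normal) : Subgroup.normalizer (M : Set G) = M := by
  rcases eq_or_lt_of_le (Subgroup.le_normalizer (H := M)) with h | h
  · exact h.symm
  · exfalso
    exact hn (Subgroup.normalizer_eq_top_iff.1 (hM.2 _ h))

theorem card_map_conj {G : Type*} [Group G] (H : Subgroup G) (g : G) :
    Nat.card (H.map (MulAut.conj g).toMonoidHom) = Nat.card H :=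
  Subgroup.card_map_of_injective (MulAut.conj g).injective

theorem mem_normalizer_of_map_eq {G : Type*} [Group G] (R : Subgroup G) (y : G)
    (h : R.map (MulAut.conj y).toMonoidHom = R) : y ∈ Subgroup.normalizer (R : Set G) := by
  rw [Subgroup.mem_normalizer_iff]
  intro x
  constructor
  · intro hx
    rw [← h]
    exact ⟨x, hx, rfl⟩
  · intro hx
    rw [← h] at hx
    obtain ⟨r, hr, hrx⟩ := hx
    have : r = x := by
      have h1 : y * r * y⁻¹ = y * x * y⁻¹ := hrx
      have h2 := mul_right_cancel h1
      exact mul_left_cancel h2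
    rw [← this]
    exact hr

theorem map_eq_of_mem_normalizer {G : Type*} [Group G] (R : Subgroup G) (y : G)
    (h : y ∈ Subgroup.normalizer (R : Set G)) : R.map (MulAut.conj y).toMonoidHom = R := by
  apply le_antisymm
  · rintro _ ⟨x, hx, rfl⟩
    exact (Subgroup.mem_normalizer_iff.1 h x).1 hx
  · intro x hx
    refine ⟨y⁻¹ * x * y, ?_, ?_⟩
    · have := (Subgroup.mem_normalizer_iff.1 (Subgroup.inv_mem _ h) x).1 hx
      simpa using this
    · show y * (y⁻¹ * x * y) * y⁻¹ = x
      group

theorem between_of_prime_relIndex {G : Type*} [Group G] {H M L : Subgroup G} (hHM : H ≤ M)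
    (hidx : (H.relIndex M).Prime) (hHL : H ≤ L) (hLM : L ≤ M) : L = H ∨ L = M := by
  have hcoH : IsCoatom (H.subgroupOf M) := Lib.Helper2.isCoatom_of_index_prime hidx rfl
  rcases eq_or_lt_of_le (Subgroup.subgroupOf_mono M hHL) with h | h
  · left
    have := (Subgroup.subgroupOf_inj.1 h)
    rw [inf_eq_left.2 hHM, inf_eq_left.2 hLM] at this
    exact this.symm
  · right
    have := hcoH.2 _ h
    rw [Subgroup.subgroupOf_eq_top] at this
    exact le_antisymm hLM this

/-- Let G be a finite non-abelian simple group, M a maximal subgroup of G and H a normal subgroup of M of prime index in M. Then G is generated by H together with one of its conjugates. -/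
theorem result {G : Type*} [Group G] [Finite G] [IsSimpleGroup G] (hG : ¬ IsMulCommutative G) (M H : Subgroup G) (hmaxM : IsCoatom M) (hHM : H ≤ M) (hHn : (H.subgroupOf M).Normal) (hidx : (H.relIndex M).Prime) : ∃ g : G, H ⊔ H.map (MulAut.conj g).toMonoidHom = ⊤ := by
  classical
  by_contra hcon
  push Not at hcon
  have hMtop : M ≠ ⊤ := hmaxM.1
  set p := H.relIndex M with hp
  haveI : Fact p.Prime := ⟨hidx⟩
  have hcard : Nat.card H * p = Nat.card M := Lib.Helper2.card_mul_relIndex hHM
  have hMn : M.Normal → M = ⊥ := fun h => (h.eq_bot_or_eq_top).resolve_right hMtop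
  have hcoH : IsCoatom (H.subgroupOf M) := Lib.Helper2.isCoatom_of_index_prime hidx rfl
  by_cases hH : H = ⊥
  · -- M has prime order
    have hcM : Nat.card M = p := by
      rw [← hcard, hH, Subgroup.card_bot, one_mul]
    have hMne : M ≠ ⊥ := by
      intro h
      rw [h, Subgroup.card_bot] at hcM
      exact hidx.one_lt.ne hcM
    have hMp : IsPGroup p M := IsPGroup.of_card (n := 1) (by rw [hcM, pow_one])
    obtain ⟨P, hP⟩ := hMp.exists_le_sylow
    have hPM : (P : Subgroup G) = M := by
      rcases eq_or_lt_of_le hP with h | h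
      · exact h.symm
      · exfalso
        have h1 := hmaxM.2 _ h
        have h2 : IsPGroup p G := by
          have := P.2
          rw [h1] at this
          exact this.of_equiv Subgroup.topEquiv
        exact hG (comm_of_pgroup h2)
    have hnorm : Subgroup.normalizer ((P : Subgroup G) : Set G) = M := by
      rw [hPM]
      exact normalizer_eq_of_coatom M hmaxM (fun h => hMne (hMn h))
    haveI : IsCyclic M := isCyclic_of_prime_card hcM
    have hcent : Subgroup.normalizer ((P : Subgroup G) : Set G) ≤ Subgroup.centralizer ((P : Subgroup G) : Set G) := by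
      rw [hnorm, hPM]
      intro x hx y hy
      have := IsCyclic.commGroup.mul_comm (⟨y, hy⟩ : M) ⟨x, hx⟩
      exact congrArg Subtype.val this
    have hcompl := MonoidHom.ker_transferSylow_isComplement' P hcent
    rcases (MonoidHom.normal_ker (MonoidHom.transferSylow P hcent)).eq_bot_or_eq_top with h | h
    · rw [h, Subgroup.isComplement'_bot_left, hPM] at hcompl
      exact hMtop hcompl
    · rw [h, Subgroup.isComplement'_top_left, hPM] at hcompl
      exact hMne hcompl
  · -- H ≠ ⊥
    have hHtop : H ≠ ⊤ := fun h => hMtop (top_le_iff.1 (h ▸ hHM))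
    have hMne : M ≠ ⊥ := fun h => hH (le_bot_iff.1 (h ▸ hHM))
    have hNM : Subgroup.normalizer (M : Set G) = M :=
      normalizer_eq_of_coatom M hmaxM (fun h => hMne (hMn h))
    have hNH : Subgroup.normalizer (H : Set G) = M := by
      have h1 : M ≤ Subgroup.normalizer (H : Set G) := Subgroup.normal_subgroupOf_iff_le_normalizer hHM |>.1 hHn
      rcases eq_or_lt_of_le h1 with h | h
      · exact h.symm
      · exfalso
        have h2 : H.Normal := Subgroup.normalizer_eq_top_iff.1 (hmaxM.2 _ h)
        rcases h2.eq_bot_or_eq_top with h3 | h3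
        · exact hH h3
        · exact hHtop h3
    have hnc : Subgroup.normalClosure (H : Set G) = ⊤ := by
      rcases (Subgroup.normalClosure_normal (s := (H : Set G))).eq_bot_or_eq_top with h | h
      · exfalso
        apply hH
        rw [eq_bot_iff, ← h]
        exact Subgroup.le_normalClosure
      · exact h
    have hHneM : H ≠ M := by
      intro h
      rw [h] at hcard
      have : Nat.card M * p = Nat.card M * 1 := by rw [hcard, mul_one]
      have h2 := Nat.eq_of_mul_eq_mul_left Nat.card_pos this
      exact hidx.one_lt.ne' h2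
    -- find g with H ⊔ H^g = M
    obtain ⟨g, hg⟩ : ∃ g : G, (H ⊔ H.map (MulAut.conj g).toMonoidHom) ⊓ M ≠ H := by
      by_contra h
      push Not at h
      have := Cfsg.Agent.S3014.result H M hHM h hcoH hmaxM
      rw [hnc, top_inf_eq] at this
      exact hHneM this.symm
    set Hg := H.map (MulAut.conj g).toMonoidHom with hHg
    have h1 : (H ⊔ Hg) ⊓ M = M :=
      (between_of_prime_relIndex hHM hidx (le_inf le_sup_left hHM) inf_le_right).resolve_left hg
    have h2 : M ≤ H ⊔ Hg := inf_eq_right.1 h1
    have h3 : H ⊔ Hg = M := by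
      rcases eq_or_lt_of_le h2 with h | h
      · exact h.symm
      · exact absurd (hmaxM.2 _ h) (hcon g)
    have hHgM : Hg ≤ M := h3 ▸ le_sup_right
    have hHgne : Hg ≠ H := by
      intro h
      apply hg
      rw [h, sup_idem, inf_eq_left.2 hHM]
    have hgM : g ∉ M := by
      intro h
      apply hHgne
      rw [← hNH] at h
      exact map_eq_of_mem_normalizer H g h
    -- R = subgroup generated by p'-elements of M
    set R : Subgroup G := Subgroup.closure {x : G | x ∈ M ∧ (orderOf x).Coprime p} with hR
    have hRH : R ≤ H := by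
      rw [hR, Subgroup.closure_le]
      rintro x ⟨hxM, hxp⟩
      -- image in M/H has order dividing p and orderOf x
      haveI := hHn
      let q : M →* M ⧸ H.subgroupOf M := QuotientGroup.mk' _
      have hq1 : orderOf (q ⟨x, hxM⟩) ∣ p := by
        have : Nat.card (M ⧸ H.subgroupOf M) = p := rfl
        rw [← this]
        exact orderOf_dvd_natCard _
      have hq2 : orderOf (q ⟨x, hxM⟩) ∣ orderOf x := by
        have := orderOf_dvd_of_pow_eq_one (x := q ⟨x, hxM⟩) (n := orderOf x) (by
          rw [← map_pow]
          have : (⟨x, hxM⟩ : M) ^ orderOf x = 1 := by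
            apply Subtype.ext
            simp [pow_orderOf_eq_one]
          rw [this, map_one])
        exact this
      have hq3 : orderOf (q ⟨x, hxM⟩) = 1 := Nat.eq_one_of_dvd_coprimes hxp hq2 hq1
      rw [orderOf_eq_one_iff] at hq3
      have := (QuotientGroup.eq_one_iff _).1 hq3
      exact Subgroup.mem_subgroupOf.1 this
    have hRnorm : ∀ y : G, (∀ x ∈ H, y * x * y⁻¹ ∈ M) →
        y ∈ Subgroup.normalizer (R : Set G) := by
      intro y hy
      have hle : R.map (MulAut.conj y).toMonoidHom ≤ R := by
        rw [hR, MonoidHom.map_closure, Subgroup.closure_le]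
        rintro _ ⟨x, ⟨hxM, hxp⟩, rfl⟩
        apply Subgroup.subset_closure
        have hxH : x ∈ H := hRH (Subgroup.subset_closure ⟨hxM, hxp⟩)
        refine ⟨hy x hxH, ?_⟩
        show (orderOf (y * x * y⁻¹)).Coprime p
        rw [show orderOf (y * x * y⁻¹) = orderOf x from
          orderOf_injective (MulAut.conj y).toMonoidHom (MulAut.conj y).injective x]
        exact hxp
      have heq : R.map (MulAut.conj y).toMonoidHom = R :=
        Subgroup.eq_of_le_of_card_ge hle (card_map_conj R y).ge
      exact mem_normalizer_of_map_eq R y heq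
    have hgR : g ∈ Subgroup.normalizer (R : Set G) := by
      apply hRnorm
      intro x hx
      exact hHgM ⟨x, hx, rfl⟩
    have hMR : M ≤ Subgroup.normalizer (R : Set G) := by
      intro y hy
      apply hRnorm
      intro x hx
      exact M.mul_mem (M.mul_mem hy (hHM hx)) (M.inv_mem hy)
    have hRbot : R = ⊥ := by
      have h4 : M < Subgroup.normalizer (R : Set G) :=
        lt_of_le_of_ne hMR (fun h => hgM (h ▸ hgR))
      have h5 : R.Normal := Subgroup.normalizer_eq_top_iff.1 (hmaxM.2 _ h4)
      rcases h5.eq_bot_or_eq_top with h6 | h6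
      · exact h6
      · exact absurd (top_le_iff.1 (h6 ▸ hRH)) hHtop
    have hMp : IsPGroup p M := by
      intro x
      obtain ⟨k, m', hm', hkm⟩ := Nat.exists_eq_pow_mul_and_not_dvd (orderOf_pos x).ne' p hidx.ne_one
      refine ⟨k, ?_⟩
      have h4 : orderOf (x ^ p ^ k) = m' := by
        rw [orderOf_pow' x (pow_ne_zero k hidx.ne_zero), hkm,
          Nat.gcd_eq_right (Dvd.intro _ rfl),
          Nat.mul_div_cancel_left _ (pow_pos hidx.pos k)]
      have h5 : ((x ^ p ^ k : M) : G) ∈ R := by
        apply Subgroup.subset_closure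
        refine ⟨(x ^ p ^ k : M).2, ?_⟩
        rw [Subgroup.orderOf_coe, h4]
        exact ((Nat.Prime.coprime_iff_not_dvd hidx).2 hm').symm
      rw [hRbot, Subgroup.mem_bot] at h5
      exact Subtype.ext h5
    -- normalizer growth
    have hcHg : Nat.card Hg = Nat.card H := card_map_conj H g
    have hHglt : Hg < M := by
      apply lt_of_le_of_ne hHgM
      intro h
      rw [h] at hcHg
      rw [hcHg] at hcard
      have : Nat.card H * p = Nat.card H * 1 := by rw [hcard, mul_one]
      have h2 := Nat.eq_of_mul_eq_mul_left Nat.card_pos this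
      exact hidx.one_lt.ne' h2
    have hgrow : Hg < M ⊓ Subgroup.normalizer (Hg : Set G) := by
      have : Group.IsNilpotent M := hMp.isNilpotent
      have nc := Group.normalizerCondition_of_isNilpotent (G := M)
      have h1 : Hg.subgroupOf M < ⊤ := by
        rw [lt_top_iff_ne_top, Ne, Subgroup.subgroupOf_eq_top]
        exact not_le_of_gt hHglt
      have h2 := nc _ h1
      rw [← Subgroup.subgroupOf_normalizer_eq hHglt.le] at h2
      obtain ⟨x, hx, hxR⟩ := SetLike.exists_of_lt h2
      rw [Subgroup.mem_subgroupOf] at hx hxR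
      apply lt_of_le_of_ne (le_inf hHglt.le Subgroup.le_normalizer)
      intro he
      apply hxR
      rw [he]
      exact Subgroup.mem_inf.2 ⟨x.2, hx⟩
    have hNHg : Subgroup.normalizer (Hg : Set G) = M.map (MulAut.conj g).toMonoidHom := by
      rw [hHg, ← Subgroup.map_equiv_normalizer_eq H (MulAut.conj g), hNH]
    rw [hNHg] at hgrow
    have hrel : Hg.relIndex M = p := by
      have h4 := Lib.Helper2.card_mul_relIndex hHgM
      rw [hcHg, ← hcard] at h4
      exact Nat.eq_of_mul_eq_mul_left Nat.card_pos h4
    have h5 := between_of_prime_relIndex hHgM (hrel ▸ hidx) hgrow.le inf_le_left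
    rcases h5 with h5 | h5
    · exact hgrow.ne' h5
    · have h6 : M ≤ M.map (MulAut.conj g).toMonoidHom := inf_eq_left.1 h5
      have h7 : M.map (MulAut.conj g).toMonoidHom = M :=
        (Subgroup.eq_of_le_of_card_ge h6 (card_map_conj M g).le).symm
      have h8 := mem_normalizer_of_map_eq M g h7
      rw [hNM] at h8
      exact hgM h8

end Cfsg.Agent.S3015
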