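import Cfsg.Statements.S3020
import Cfsg.Agent.Lib.Helper7.StronglyEmbedded
import Cfsg.Agent.Lib.Helper7.CharP
import Cfsg.Agent.Lib.Helper2.Cores

set_option autoImplicit false
open Cfsg

namespace Cfsg.Agent.S3020

open Cfsg.Agent.Lib.Helper7

/-- Let G be a finite group, p a prime and H an abelian p-subgroup of G that is extremely closed (for every g, the subgroup generated by H and g H g⁻¹ meets N_G(H) exactly in H). Then for every g ∈ G, the subgroup T generated by H and g H g⁻¹ is the product of H with O_{p'}(T), and H meets O_{p'}(T) trivially; that is, O_{p'}(T) is a normal p-complement of H in T. -/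
theorem result {G : Type*} [Group G] [Finite G] {p : ℕ} [Fact p.Prime] (H : Subgroup G) (hHp : IsPGroup p H) (hHab : IsMulCommutative H) (hcl : Cfsg.IsExtremelyClosed H) (g : G) (T : Subgroup G) (hT : T = H ⊔ H.map (MulAut.conj g).toMonoidHom) : H ⊔ (Cfsg.pPrimeCore p ↥T).map T.subtype = T ∧ H ⊓ (Cfsg.pPrimeCore p ↥T).map T.subtype = ⊥ := by
  have hp : p.Prime := Fact.out
  have hHT : H ≤ T := hT ▸ le_sup_left
  have hTN : T ⊓ Subgroup.normalizer (H : Set G) = H := by rw [hT]; exact hcl g
  set H' : Subgroup ↥T := H.subgroupOf T with hH'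
  have hH'p : IsPGroup p H' := hHp.comap_subtype
  have hmapH' : H'.map T.subtype = H := Subgroup.map_subgroupOf_eq_of_le hHT
  -- `N_T(H') = H'`
  have hNH' : Subgroup.normalizer (H' : Set ↥T) ≤ H' := by
    intro n hn
    rw [hH', Subgroup.mem_subgroupOf, ← hTN]
    refine Subgroup.mem_inf.mpr ⟨n.2, ?_⟩
    have := Subgroup.le_normalizer_map T.subtype ⟨n, hn, rfl⟩
    rwa [hmapH'] at this
  obtain ⟨S, hS⟩ := hH'p.exists_le_sylow
  have hH'S : H' = S :=
    eq_of_inf_normalizer_eq H' S S.2 hS (inf_le_right.trans hNH')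
  have hab : ∀ a ∈ H', ∀ b ∈ H', a * b = b * a := by
    intro a ha b hb
    rw [hH', Subgroup.mem_subgroupOf] at ha hb
    have := mul_comm' (⟨a, ha⟩ : H) ⟨b, hb⟩
    apply Subtype.ext
    have h2 := congrArg Subtype.val this
    simpa using h2
  have hNC : Subgroup.normalizer ((S : Subgroup ↥T) : Set ↥T) ≤
      Subgroup.centralizer ((S : Subgroup ↥T) : Set ↥T) := by
    rw [← hH'S]
    intro n hn
    rw [Subgroup.mem_centralizer_iff]
    intro v hv
    exact hab v hv n (hNH' hn)
  have hcomp := MonoidHom.ker_transferSylow_isComplement' S hNC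
  set K := (MonoidHom.transferSylow S hNC).ker with hK
  have hKn : K.Normal := MonoidHom.normal_ker _
  have hKc : (Nat.card K).Coprime p := by
    have h1 : Nat.card K = (S : Subgroup ↥T).index := hcomp.index_eq_card.symm
    rw [h1]
    exact ((Nat.Prime.coprime_iff_not_dvd hp).mpr S.not_dvd_index).symm
  have hKO : K ≤ Cfsg.pPrimeCore p ↥T := Cfsg.Agent.Lib.Helper2.le_pPrimeCore hKc
  have hOc := Cfsg.Agent.Lib.Helper2.pPrimeCore_card_coprime (G := ↥T) p
  have hsup : H' ⊔ Cfsg.pPrimeCore p ↥T = ⊤ := by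
    rw [eq_top_iff, ← hcomp.sup_eq_top, hH'S, sup_comm]
    exact sup_le_sup_left hKO _
  have hinf : H' ⊓ Cfsg.pPrimeCore p ↥T = ⊥ := by
    rw [eq_bot_iff]
    intro z hz
    obtain ⟨hz1, hz2⟩ := Subgroup.mem_inf.mp hz
    rw [Subgroup.mem_bot]
    apply eq_one_of_mem_isPGroup_of_coprime hH'p hz1
    have : orderOf z ∣ Nat.card (Cfsg.pPrimeCore p ↥T) := by
      have := orderOf_dvd_natCard (⟨z, hz2⟩ : Cfsg.pPrimeCore p ↥T)
      rwa [Subgroup.orderOf_mk] at this
    exact Nat.Coprime.coprime_dvd_left this hOc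
  constructor
  · have := congrArg (Subgroup.map T.subtype) hsup
    rw [Subgroup.map_sup, hmapH', ← MonoidHom.range_eq_map, Subgroup.range_subtype] at this
    exact this
  · have := congrArg (Subgroup.map T.subtype) hinf
    rw [Subgroup.map_inf _ _ _ T.subtype_injective, hmapH', Subgroup.map_bot] at this
    exact this

end Cfsg.Agent.S3020
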