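import Cfsg.Statements.S3021
import Cfsg.Agent.Lib.Helper7.SylowAux
import Mathlib.GroupTheory.Nilpotent

set_option autoImplicit false
open Cfsg

namespace Cfsg.Agent.S3021

open Cfsg.Agent.Lib.Helper7

/-- In a finite `p`-group `Q`, a subgroup `H` whose normalizer in a subgroup `T ≥ H` of `Q` is `H`
itself equals `T`. -/
theorem eq_of_normalizer_inf_eq {G : Type*} [Group G] [Finite G] {p : ℕ} [Fact p.Prime]
    (H T : Subgroup G) (hT : IsPGroup p T) (hHT : H ≤ T)
    (hN : T ⊓ Subgroup.normalizer (H : Set G) = H) : H = T := by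
  classical
  have : Group.IsNilpotent T := hT.isNilpotent
  have hnc : NormalizerCondition T := Group.normalizerCondition_of_isNilpotent
  by_contra hne
  have hlt : H.subgroupOf T < ⊤ := by
    rw [lt_top_iff_ne_top]
    intro h
    apply hne
    apply le_antisymm hHT
    rw [Subgroup.subgroupOf_eq_top] at h
    exact h
  obtain ⟨u, hu, huH⟩ := SetLike.exists_of_lt (hnc _ hlt)
  apply huH
  rw [Subgroup.mem_subgroupOf]
  have : (u : G) ∈ T ⊓ Subgroup.normalizer (H : Set G) := by
    refine Subgroup.mem_inf.mpr ⟨u.2, ?_⟩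
    rw [Subgroup.mem_normalizer_iff]
    intro x
    constructor
    · intro hx
      have := (Subgroup.mem_normalizer_iff.mp hu ⟨x, hHT hx⟩).mp (by rwa [Subgroup.mem_subgroupOf])
      rw [Subgroup.mem_subgroupOf] at this
      simpa using this
    · intro hx
      have hxT : x ∈ T := by
        have h1 : (u : G) * x * (u : G)⁻¹ ∈ T := hHT hx
        have e : x = (u : G)⁻¹ * ((u : G) * x * (u : G)⁻¹) * (u : G) := by group
        rw [e]
        exact T.mul_mem (T.mul_mem (T.inv_mem u.2) h1) u.2
      have := (Subgroup.mem_normalizer_iff.mp hu ⟨x, hxT⟩).mpr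
        (by rw [Subgroup.mem_subgroupOf]; simpa using hx)
      rwa [Subgroup.mem_subgroupOf] at this
  rw [hN] at this
  exact this


/-- Let G be a finite group, p a prime and H a p-subgroup of G that is extremely closed (for every g, the subgroup generated by H and g H g⁻¹ meets N_G(H) exactly in H). Then every p-subgroup Q of G containing H has N_G(Q) ≤ N_G(H); in particular every Sylow p-subgroup P of G containing H normalizes H, and H is strongly closed in P with respect to G. -/
theorem result {G : Type*} [Group G] [Finite G] {p : ℕ} [Fact p.Prime] (H : Subgroup G) (hHp : IsPGroup p H) (hcl : Cfsg.IsExtremelyClosed H) : (∀ Q : Subgroup G, IsPGroup p Q → H ≤ Q → Subgroup.normalizer (Q : Set G) ≤ Subgroup.normalizer (H : Set G)) ∧ ∀ P : Sylow p G, H ≤ (P : Subgroup G) → (P : Subgroup G) ≤ Subgroup.normalizer (H : Set G) ∧ Cfsg.IsStronglyClosed H (P : Subgroup G) := by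
  have part1 : ∀ Q : Subgroup G, IsPGroup p Q → H ≤ Q →
      Subgroup.normalizer (Q : Set G) ≤ Subgroup.normalizer (H : Set G) := by
    intro Q hQ hHQ n hn
    apply mem_normalizer_of_map_conj_le
    set T := H ⊔ H.map (MulAut.conj n).toMonoidHom with hT
    have hHnQ : H.map (MulAut.conj n).toMonoidHom ≤ Q := by
      rintro _ ⟨x, hx, rfl⟩
      exact (Subgroup.mem_normalizer_iff.mp hn x).mp (hHQ hx)
    have hTQ : T ≤ Q := sup_le hHQ hHnQ
    have hTp : IsPGroup p T := hQ.to_le hTQ
    have hHT : H = T := eq_of_normalizer_inf_eq H T hTp le_sup_left (hcl n)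
    exact le_sup_right.trans hHT.ge
  refine ⟨part1, ?_⟩
  intro P hHP
  have hPN : (P : Subgroup G) ≤ Subgroup.normalizer (H : Set G) :=
    Subgroup.le_normalizer.trans (part1 P P.isPGroup' hHP)
  refine ⟨hPN, hHP, ?_⟩
  intro x hx g hg
  have h1 : g * x * g⁻¹ ∈ (H ⊔ H.map (MulAut.conj g).toMonoidHom) ⊓ Subgroup.normalizer (H : Set G) := by
    refine Subgroup.mem_inf.mpr ⟨?_, hPN hg⟩
    apply Subgroup.mem_sup_right
    exact ⟨x, hx, rfl⟩
  rw [hcl g] at h1
  exact h1

end Cfsg.Agent.S3021
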