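import Cfsg.Statements.S3025
import Mathlib
import Cfsg.Agent.Lib.Helper8.MinNormalH

set_option autoImplicit false
open Cfsg

namespace Cfsg.Agent.S3025

/-- Let F be a finite group and H a nontrivial subgroup of F that is contained in every nontrivial subgroup of F which H normalizes. Then F has a nontrivial normal subgroup N contained in every nontrivial normal subgroup of F (a unique minimal normal subgroup), N is simple, and one of the following holds: C_F(N) = 1; or H = N has prime order p, C_F(N) is cyclic of order a power of p, and F/C_F(N) is cyclic of order dividing p − 1; or H = N has order 2, N is central in F, and F is a generalized quaternion group. -/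
theorem result {F : Type*} [Group F] [Finite F] (H : Subgroup F) (hH : H ≠ ⊥)
    (hmin : ∀ R : Subgroup F, R ≠ ⊥ → H ≤ Subgroup.normalizer (R : Set F) → H ≤ R) :
    ∃ N : Subgroup F, N.Normal ∧ N ≠ ⊥ ∧ (∀ M : Subgroup F, M.Normal → M ≠ ⊥ → N ≤ M) ∧ IsSimpleGroup ↥N ∧
      (Subgroup.centralizer (N : Set F) = ⊥ ∨
       (H = N ∧ (Nat.card N).Prime ∧ IsCyclic ↥(Subgroup.centralizer (N : Set F)) ∧
          (∃ k : ℕ, 1 ≤ k ∧ Nat.card ↥(Subgroup.centralizer (N : Set F)) = Nat.card N ^ k) ∧
          (∃ g : F, Subgroup.centralizer (N : Set F) ⊔ Subgroup.zpowers g = ⊤) ∧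
          (Subgroup.centralizer (N : Set F)).index ∣ Nat.card N - 1) ∨
       (H = N ∧ Nat.card N = 2 ∧ Subgroup.centralizer (N : Set F) = ⊤ ∧
          ∃ k : ℕ, 1 ≤ k ∧ Nonempty (F ≃* QuaternionGroup (2 ^ k)))) := by
  classical
  obtain ⟨hN1, hNmin, hsimple⟩ := Helper8.MinNormalH.simple_closure H hH hmin
  obtain ⟨N, hN⟩ : ∃ N, N = Subgroup.normalClosure (H : Set F) := ⟨_, rfl⟩
  rw [← hN] at hN1 hNmin hsimple
  haveI hNn : N.Normal := hN ▸ Subgroup.normalClosure_normal
  have hHN : H ≤ N := hN ▸ Subgroup.le_normalClosure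
  refine ⟨N, hNn, hN1, hNmin, hsimple, ?_⟩
  by_cases hC1 : Subgroup.centralizer (N : Set F) = ⊥
  · exact Or.inl hC1
  right
  have hCn : (Subgroup.centralizer (N : Set F)).Normal := inferInstance
  have hNC : N ≤ Subgroup.centralizer (N : Set F) := hNmin _ hCn hC1
  obtain ⟨hHeq, hp, hk, hgen, hidx, hcq⟩ :=
    Helper8.MinNormalH.abelian_case H N hH hHN hsimple hmin hNC
  by_cases hcyc : IsCyclic ↥(Subgroup.centralizer (N : Set F))
  · exact Or.inl ⟨hHeq, hp, hcyc, hk, hgen, hidx⟩
  · right
    rcases hcq with h | ⟨h2, n, ⟨e⟩⟩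
    · exact absurd h hcyc
    · have htop : Subgroup.centralizer (N : Set F) = ⊤ := by
        rw [h2] at hidx
        have : (Subgroup.centralizer (N : Set F)).index = 1 := Nat.dvd_one.1 hidx
        exact Subgroup.index_eq_one.1 this
      refine ⟨hHeq, h2, htop, n, ?_, ?_⟩
      · by_contra hn
        have hn0 : n = 0 := by omega
        rw [hn0, pow_zero] at e
        apply hcyc
        haveI := QuaternionGroup.quaternionGroup_one_isCyclic
        exact isCyclic_of_surjective e.symm.toMonoidHom e.symm.surjective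
      · exact ⟨(Subgroup.topEquiv.symm.trans (MulEquiv.subgroupCongr htop.symm)).trans e⟩

end Cfsg.Agent.S3025
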