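import Cfsg.Statements.S3036
import Cfsg.Agent.Lib.Helper7.ProdSet

set_option autoImplicit false
open Cfsg

namespace Cfsg.Agent.S3036

open scoped Pointwise
open Cfsg.Agent.Lib.Helper7

variable {G : Type*} [Group G]

/-- the Chermak–Delgado measure -/
noncomputable def meas (H : Subgroup G) : ℕ :=
  Nat.card H * Nat.card (Subgroup.centralizer (H : Set G))

theorem centralizer_sup (H K : Subgroup G) :
    Subgroup.centralizer ((H ⊔ K : Subgroup G) : Set G)
      = Subgroup.centralizer (H : Set G) ⊓ Subgroup.centralizer (K : Set G) := by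
  apply le_antisymm
  · refine le_inf (Subgroup.centralizer_le ?_) (Subgroup.centralizer_le ?_)
    · exact_mod_cast (le_sup_left : H ≤ H ⊔ K)
    · exact_mod_cast (le_sup_right : K ≤ H ⊔ K)
  · intro g hg
    obtain ⟨h1, h2⟩ := Subgroup.mem_inf.mp hg
    rw [Subgroup.mem_centralizer_iff] at h1 h2 ⊢
    intro y hy
    have hle : H ⊔ K ≤ Subgroup.centralizer {g} := by
      refine sup_le ?_ ?_
      · intro h hh
        rw [Subgroup.mem_centralizer_iff]
        intro z hz
        rw [Set.mem_singleton_iff] at hz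
        subst hz
        exact (h1 h hh).symm
      · intro h hh
        rw [Subgroup.mem_centralizer_iff]
        intro z hz
        rw [Set.mem_singleton_iff] at hz
        subst hz
        exact (h2 h hh).symm
    have := hle hy
    rw [Subgroup.mem_centralizer_iff] at this
    exact (this g rfl).symm

theorem sup_centralizer_le (H K : Subgroup G) :
    Subgroup.centralizer (H : Set G) ⊔ Subgroup.centralizer (K : Set G)
      ≤ Subgroup.centralizer ((H ⊓ K : Subgroup G) : Set G) := by
  refine sup_le (Subgroup.centralizer_le ?_) (Subgroup.centralizer_le ?_)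
  · exact_mod_cast (inf_le_left : H ⊓ K ≤ H)
  · exact_mod_cast (inf_le_right : H ⊓ K ≤ K)

/-- the lattice property -/
theorem cd_sup [Finite G] (H K : Subgroup G) (ms : ℕ) (hmax : ∀ L : Subgroup G, meas L ≤ ms)
    (hH : meas H = ms) (hK : meas K = ms) :
    meas (H ⊔ K) = ms ∧ ((H ⊔ K : Subgroup G) : Set G) = (H : Set G) * (K : Set G) := by
  have e1 := card_mul_card_le_card_sup_mul_card_inf H K
  have e2 := card_mul_card_le_card_sup_mul_card_inf (Subgroup.centralizer (H : Set G))
    (Subgroup.centralizer (K : Set G))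
  rw [← centralizer_sup] at e2
  have e3 : Nat.card ↥(Subgroup.centralizer (H : Set G) ⊔ Subgroup.centralizer (K : Set G))
      ≤ Nat.card (Subgroup.centralizer ((H ⊓ K : Subgroup G) : Set G)) :=
    Subgroup.card_le_of_le (sup_centralizer_le H K)
  have hs := hmax (H ⊔ K)
  have hi := hmax (H ⊓ K)
  unfold meas at *
  set a := Nat.card H
  set b := Nat.card K
  set s := Nat.card ↥(H ⊔ K)
  set i := Nat.card ↥(H ⊓ K)
  set cH := Nat.card (Subgroup.centralizer (H : Set G))
  set cK := Nat.card (Subgroup.centralizer (K : Set G))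
  set cs := Nat.card (Subgroup.centralizer ((H ⊔ K : Subgroup G) : Set G))
  set ci := Nat.card (Subgroup.centralizer ((H ⊓ K : Subgroup G) : Set G))
  set cc := Nat.card ↥(Subgroup.centralizer (H : Set G) ⊔ Subgroup.centralizer (K : Set G))
  have hcHpos : 0 < cH := Nat.card_pos
  have hcKpos : 0 < cK := Nat.card_pos
  have hapos : 0 < a := Nat.card_pos
  have hbpos : 0 < b := Nat.card_pos
  have hmspos : 0 < ms := by rw [← hH]; positivity
  have e4 : cH * cK ≤ ci * cs := e2.trans (Nat.mul_le_mul_right _ e3)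
  -- ms * ms ≤ (s*cs) * (i*ci)
  have e5 : ms * ms ≤ (s * cs) * (i * ci) := by
    calc ms * ms = (a * cH) * (b * cK) := by rw [hH, hK]
      _ = (a * b) * (cH * cK) := by ring
      _ ≤ (s * i) * (ci * cs) := Nat.mul_le_mul e1 e4
      _ = (s * cs) * (i * ci) := by ring
  have e6 : (s * cs) * (i * ci) ≤ (s * cs) * ms := Nat.mul_le_mul_left _ hi
  have e7 : ms ≤ s * cs := by
    have : ms * ms ≤ (s * cs) * ms := e5.trans e6
    exact Nat.le_of_mul_le_mul_right this hmspos
  have e8 : s * cs = ms := le_antisymm hs e7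
  refine ⟨e8, ?_⟩
  apply sup_eq_mul_set_of_card_eq
  -- s * i = a * b
  have e9 : (s * i) * (cH * cK) ≤ (a * b) * (cH * cK) := by
    calc (s * i) * (cH * cK) ≤ (s * i) * (ci * cs) := Nat.mul_le_mul_left _ e4
      _ = (s * cs) * (i * ci) := by ring
      _ ≤ ms * ms := Nat.mul_le_mul hs hi
      _ = (a * cH) * (b * cK) := by rw [hH, hK]
      _ = (a * b) * (cH * cK) := by ring
  have e10 : s * i ≤ a * b := Nat.le_of_mul_le_mul_right e9 (Nat.mul_pos hcHpos hcKpos)
  exact le_antisymm e10 e1

/-- conjugation invariance of the measure -/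
theorem meas_conj (x : G) (K : Subgroup G) : meas (K.map (MulAut.conj x).toMonoidHom) = meas K := by
  unfold meas
  have h1 : Nat.card (K.map (MulAut.conj x).toMonoidHom) = Nat.card K :=
    Subgroup.card_map_of_injective (MulAut.conj x).injective
  have h2 : Subgroup.centralizer ((K.map (MulAut.conj x).toMonoidHom : Subgroup G) : Set G)
      = (Subgroup.centralizer (K : Set G)).map (MulAut.conj x).toMonoidHom := by
    ext g
    rw [Subgroup.mem_centralizer_iff, Subgroup.mem_map]
    constructor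
    · intro h
      refine ⟨x⁻¹ * g * x, ?_, ?_⟩
      · rw [Subgroup.mem_centralizer_iff]
        intro k hk
        have := h (x * k * x⁻¹) (Subgroup.mem_map.mpr ⟨k, hk, rfl⟩)
        calc k * (x⁻¹ * g * x) = x⁻¹ * ((x * k * x⁻¹) * g) * x := by group
          _ = x⁻¹ * (g * (x * k * x⁻¹)) * x := by rw [this]
          _ = x⁻¹ * g * x * k := by group
      · show x * (x⁻¹ * g * x) * x⁻¹ = g
        group
    · rintro ⟨c, hc, rfl⟩ y hy
      obtain ⟨k, hk, rfl⟩ := Subgroup.mem_map.mp hy
      rw [Subgroup.mem_centralizer_iff] at hc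
      have := hc k hk
      show x * k * x⁻¹ * (x * c * x⁻¹) = x * c * x⁻¹ * (x * k * x⁻¹)
      calc x * k * x⁻¹ * (x * c * x⁻¹) = x * (k * c) * x⁻¹ := by group
        _ = x * (c * k) * x⁻¹ := by rw [this]
        _ = x * c * x⁻¹ * (x * k * x⁻¹) := by group
  rw [h1, h2, Subgroup.card_map_of_injective (MulAut.conj x).injective]

theorem result {G : Type*} [Group G] [Finite G] [IsSimpleGroup G] (hG : ¬ IsMulCommutative G) (A : Subgroup G) (hA1 : A ≠ ⊥) (hA2 : A ≠ ⊤) : Nat.card A * Nat.card ↥(Subgroup.centralizer (A : Set G)) < Nat.card G := by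
  classical
  by_contra hcon
  rw [not_lt] at hcon
  -- the center is trivial
  have hZ : Subgroup.center G = ⊥ := by
    rcases (inferInstance : (Subgroup.center G).Normal).eq_bot_or_eq_top with h | h
    · exact h
    · exfalso
      apply hG
      refine ⟨⟨fun a b => ?_⟩⟩
      have : b ∈ Subgroup.center G := by rw [h]; trivial
      exact Subgroup.mem_center_iff.mp this a
  have mtop : meas (⊤ : Subgroup G) = Nat.card G := by
    unfold meas
    rw [Subgroup.coe_top, Subgroup.centralizer_univ, hZ, Subgroup.card_top, Subgroup.card_bot, mul_one]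
  have mbot : meas (⊥ : Subgroup G) = Nat.card G := by
    unfold meas
    have : Subgroup.centralizer ((⊥ : Subgroup G) : Set G) = ⊤ := by
      rw [eq_top_iff]
      intro g _
      rw [Subgroup.mem_centralizer_iff]
      intro h hh
      have : h = 1 := hh
      subst this
      simp
    rw [this, Subgroup.card_top, Subgroup.card_bot, one_mul]
  -- maximum measure
  obtain ⟨M₀, hM₀⟩ := Finite.exists_max (fun H : Subgroup G => meas H)
  set ms := meas M₀ with hms
  have hmax : ∀ L : Subgroup G, meas L ≤ ms := hM₀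
  -- a proper nontrivial member
  have hex : ∃ H : Subgroup G, H ≠ ⊥ ∧ H ≠ ⊤ ∧ meas H = ms := by
    by_cases h : ms = Nat.card G
    · refine ⟨A, hA1, hA2, le_antisymm (hmax A) ?_⟩
      rw [h]; exact hcon
    · refine ⟨M₀, ?_, ?_, rfl⟩
      · intro h'
        apply h
        rw [hms, h', mbot]
      · intro h'
        apply h
        rw [hms, h', mtop]
  obtain ⟨H₀, hH₀⟩ := hex
  obtain ⟨K, -, hKmax⟩ := Finite.exists_le_maximal (p := fun H : Subgroup G => H ≠ ⊥ ∧ H ≠ ⊤ ∧ meas H = ms) hH₀
  obtain ⟨⟨hK1, hK2, hKm⟩, hKmax'⟩ := hKmax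
  -- K is not normal
  have hnn : ∃ x : G, K.map (MulAut.conj x).toMonoidHom ≠ K := by
    by_contra hall
    push Not at hall
    have : K.Normal := by
      refine ⟨fun n hn x => ?_⟩
      rw [← hall x]
      exact Subgroup.mem_map.mpr ⟨n, hn, rfl⟩
    rcases this.eq_bot_or_eq_top with h | h
    · exact hK1 h
    · exact hK2 h
  obtain ⟨x, hx⟩ := hnn
  set K' := K.map (MulAut.conj x).toMonoidHom with hK'
  have hK'm : meas K' = ms := by rw [hK', meas_conj, hKm]
  obtain ⟨hsm, hset⟩ := cd_sup K K' ms hmax hKm hK'm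
  have hcard : Nat.card K' = Nat.card K := Subgroup.card_map_of_injective (MulAut.conj x).injective
  have hnle : ¬ K' ≤ K := by
    intro hle
    exact hx (Subgroup.eq_of_le_of_card_ge hle hcard.ge)
  have htop : K ⊔ K' = ⊤ := by
    by_contra hne
    have h1 : K ⊔ K' ≠ ⊥ := by
      intro h
      apply hK1
      rw [eq_bot_iff, ← h]
      exact le_sup_left
    have h2 := hKmax' ⟨h1, hne, hsm⟩ le_sup_left
    exact hnle (le_sup_right.trans h2)
  have hxm : x⁻¹ ∈ ((K ⊔ K' : Subgroup G) : Set G) := by rw [htop]; trivial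
  rw [hset] at hxm
  obtain ⟨k₁, hk₁, k', hk', hkk⟩ := Set.mem_mul.mp hxm
  obtain ⟨k₂, hk₂, rfl⟩ := Subgroup.mem_map.mp hk'
  have hxK : x ∈ K := by
    have h1 : k₁ * (x * k₂ * x⁻¹) = x⁻¹ := hkk
    have h3 : k₁ * x * k₂ = 1 := by
      calc k₁ * x * k₂ = (k₁ * (x * k₂ * x⁻¹)) * x := by group
        _ = 1 := by rw [h1]; group
    have h2 : x = k₁⁻¹ * k₂⁻¹ := by
      calc x = k₁⁻¹ * (k₁ * x * k₂) * k₂⁻¹ := by group
        _ = k₁⁻¹ * k₂⁻¹ := by rw [h3]; group
    rw [h2]
    exact K.mul_mem (K.inv_mem hk₁) (K.inv_mem hk₂)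
  apply hnle
  intro y hy
  obtain ⟨k, hk, rfl⟩ := Subgroup.mem_map.mp hy
  exact K.mul_mem (K.mul_mem hxK hk) (K.inv_mem hxK)

end Cfsg.Agent.S3036
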