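import Cfsg.Statements.S3037
import Mathlib
import Cfsg.Agent.Lib.Helper7.ChermakDelgado

set_option autoImplicit false
open Cfsg

namespace Cfsg.Agent.S3037


open Cfsg.Agent.Lib.Helper7

section

variable {X : Type*} [Group X] [Finite X]

/-- The measure `|H|^α · |C_V(H)|`. -/
noncomputable def meas (V : Subgroup X) (α : ℝ) (H : Subgroup X) : ℝ :=
  (Nat.card H : ℝ) ^ α * (Nat.card ↥(V ⊓ Subgroup.centralizer (H : Set X)) : ℝ)

theorem meas_pos (V : Subgroup X) (α : ℝ) (H : Subgroup X) : 0 < meas V α H := by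
  unfold meas
  apply mul_pos
  · exact Real.rpow_pos_of_pos (by exact_mod_cast Nat.card_pos) _
  · exact_mod_cast Nat.card_pos

/-- Supermodularity of the measure. -/
theorem meas_supermodular (V : Subgroup X) {α : ℝ} (hα : 0 < α) (H K : Subgroup X) :
    meas V α H * meas V α K ≤ meas V α (H ⊔ K) * meas V α (H ⊓ K) := by
  unfold meas
  have h1 : ((Nat.card H : ℝ) ^ α) * ((Nat.card K : ℝ) ^ α) ≤
      ((Nat.card (H ⊔ K : Subgroup X) : ℝ) ^ α) * ((Nat.card (H ⊓ K : Subgroup X) : ℝ) ^ α) := by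
    rw [← Real.mul_rpow (Nat.cast_nonneg _) (Nat.cast_nonneg _),
      ← Real.mul_rpow (Nat.cast_nonneg _) (Nat.cast_nonneg _)]
    apply Real.rpow_le_rpow (by positivity) _ hα.le
    exact_mod_cast card_mul_card_le_card_sup_mul_card_inf H K
  have h2 : (Nat.card ↥(V ⊓ Subgroup.centralizer (H : Set X)) : ℝ) *
      (Nat.card ↥(V ⊓ Subgroup.centralizer (K : Set X)) : ℝ) ≤
      (Nat.card ↥(V ⊓ Subgroup.centralizer ((H ⊔ K : Subgroup X) : Set X)) : ℝ) *
      (Nat.card ↥(V ⊓ Subgroup.centralizer ((H ⊓ K : Subgroup X) : Set X)) : ℝ) := by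
    have h3 := card_mul_card_le_card_sup_mul_card_inf (V ⊓ Subgroup.centralizer (H : Set X))
      (V ⊓ Subgroup.centralizer (K : Set X))
    have h4 : (V ⊓ Subgroup.centralizer (H : Set X)) ⊓ (V ⊓ Subgroup.centralizer (K : Set X)) =
        V ⊓ Subgroup.centralizer ((H ⊔ K : Subgroup X) : Set X) := by
      rw [centralizer_sup_eq]
      ext x
      simp only [Subgroup.mem_inf]
      tauto
    have h5 : (V ⊓ Subgroup.centralizer (H : Set X)) ⊔ (V ⊓ Subgroup.centralizer (K : Set X)) ≤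
        V ⊓ Subgroup.centralizer ((H ⊓ K : Subgroup X) : Set X) := by
      apply sup_le
      · exact inf_le_inf_left _ (le_sup_left.trans (centralizer_sup_le_centralizer_inf H K))
      · exact inf_le_inf_left _ (le_sup_right.trans (centralizer_sup_le_centralizer_inf H K))
    rw [h4] at h3
    have h6 := Subgroup.card_le_of_le h5
    have h7 : Nat.card ↥(V ⊓ Subgroup.centralizer (H : Set X)) *
        Nat.card ↥(V ⊓ Subgroup.centralizer (K : Set X)) ≤
        Nat.card ↥(V ⊓ Subgroup.centralizer ((H ⊔ K : Subgroup X) : Set X)) *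
        Nat.card ↥(V ⊓ Subgroup.centralizer ((H ⊓ K : Subgroup X) : Set X)) := by
      calc _ ≤ _ := h3
        _ ≤ Nat.card ↥(V ⊓ Subgroup.centralizer ((H ⊓ K : Subgroup X) : Set X)) *
            Nat.card ↥(V ⊓ Subgroup.centralizer ((H ⊔ K : Subgroup X) : Set X)) :=
          Nat.mul_le_mul_right _ h6
        _ = _ := mul_comm _ _
    exact_mod_cast h7
  have hp1 : (0:ℝ) ≤ (Nat.card H : ℝ) ^ α := Real.rpow_nonneg (Nat.cast_nonneg _) _
  have hp2 : (0:ℝ) ≤ (Nat.card K : ℝ) ^ α := Real.rpow_nonneg (Nat.cast_nonneg _) _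
  have hp3 : (0:ℝ) ≤ (Nat.card (H ⊔ K : Subgroup X) : ℝ) ^ α := Real.rpow_nonneg (Nat.cast_nonneg _) _
  have hp4 : (0:ℝ) ≤ (Nat.card (H ⊓ K : Subgroup X) : ℝ) ^ α := Real.rpow_nonneg (Nat.cast_nonneg _) _
  calc (Nat.card H : ℝ) ^ α * (Nat.card ↥(V ⊓ Subgroup.centralizer (H : Set X)) : ℝ) *
        ((Nat.card K : ℝ) ^ α * (Nat.card ↥(V ⊓ Subgroup.centralizer (K : Set X)) : ℝ))
      = ((Nat.card H : ℝ) ^ α * (Nat.card K : ℝ) ^ α) *
        ((Nat.card ↥(V ⊓ Subgroup.centralizer (H : Set X)) : ℝ) *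
          (Nat.card ↥(V ⊓ Subgroup.centralizer (K : Set X)) : ℝ)) := by ring
    _ ≤ ((Nat.card (H ⊔ K : Subgroup X) : ℝ) ^ α * (Nat.card (H ⊓ K : Subgroup X) : ℝ) ^ α) *
        ((Nat.card ↥(V ⊓ Subgroup.centralizer ((H ⊔ K : Subgroup X) : Set X)) : ℝ) *
          (Nat.card ↥(V ⊓ Subgroup.centralizer ((H ⊓ K : Subgroup X) : Set X)) : ℝ)) := by
        apply mul_le_mul h1 h2 (by positivity) (by positivity)
    _ = _ := by ring

theorem inf_centralizer_conj (V : Subgroup X) (H : Subgroup X) {g : X}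
    (hg : g ∈ Subgroup.normalizer (V : Set X)) :
    V ⊓ Subgroup.centralizer ((H.map (MulAut.conj g).toMonoidHom : Subgroup X) : Set X) =
      (V ⊓ Subgroup.centralizer (H : Set X)).map (MulAut.conj g).toMonoidHom := by
    have hinj : Function.Injective (MulAut.conj g).toMonoidHom := (MulAut.conj g).injective
    rw [Subgroup.map_inf _ _ _ hinj]
    have hV : V.map (MulAut.conj g).toMonoidHom = V :=
      Subgroup.mem_normalizer_iff_map_conj_eq.1 hg
    rw [hV]
    congr 1
    ext x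
    simp only [Subgroup.mem_centralizer_iff, Subgroup.mem_map, SetLike.mem_coe,
      MulEquiv.coe_toMonoidHom, MulAut.conj_apply]
    constructor
    · intro hx
      refine ⟨g⁻¹ * x * g, ?_, by group⟩
      intro h hh
      have := hx (g * h * g⁻¹) ⟨h, hh, rfl⟩
      calc h * (g⁻¹ * x * g) = g⁻¹ * ((g * h * g⁻¹) * x) * g := by group
        _ = g⁻¹ * (x * (g * h * g⁻¹)) * g := by rw [this]
        _ = g⁻¹ * x * g * h := by group
    · rintro ⟨y, hy, rfl⟩
      rintro _ ⟨h, hh, rfl⟩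
      have := hy h hh
      calc g * h * g⁻¹ * (g * y * g⁻¹) = g * (h * y) * g⁻¹ := by group
        _ = g * (y * h) * g⁻¹ := by rw [this]
        _ = g * y * g⁻¹ * (g * h * g⁻¹) := by group

/-- Conjugation invariance of the measure under elements normalizing `V`. -/
theorem meas_conj (V : Subgroup X) (α : ℝ) (H : Subgroup X) {g : X}
    (hg : g ∈ Subgroup.normalizer (V : Set X)) :
    meas V α (H.map (MulAut.conj g).toMonoidHom) = meas V α H := by
  unfold meas
  have hinj : Function.Injective (MulAut.conj g).toMonoidHom := (MulAut.conj g).injective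
  have h1 : Nat.card ↥(H.map (MulAut.conj g).toMonoidHom) = Nat.card H :=
    Subgroup.card_map_of_injective hinj
  rw [h1, inf_centralizer_conj V H hg, Subgroup.card_map_of_injective hinj]

end

/-- Let V and G be subgroups of a finite group with V an elementary abelian p-group (p prime) on which G acts faithfully and irreducibly by conjugation: G normalizes V, G ∩ C(V) = 1, and the only subgroups of V normalized by G are 1 and V. If for some nontrivial subgroup A of G and some real α > 0 one has |V| ≤ |A|^α · |C_V(A)|, then |V| ≤ |G|^α. -/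
theorem result {X : Type*} [Group X] [Finite X] {p : ℕ} [Fact p.Prime] (V G : Subgroup X) (hV : Cfsg.IsElementaryAbelian p V)
    (hGV : G ≤ Subgroup.normalizer (V : Set X)) (hfaith : G ⊓ Subgroup.centralizer (V : Set X) = ⊥)
    (hirr : ∀ W : Subgroup X, W ≤ V → G ≤ Subgroup.normalizer (W : Set X) → W = ⊥ ∨ W = V)
    (A : Subgroup X) (hA : A ≤ G) (hA1 : A ≠ ⊥) (α : ℝ) (hα : 0 < α)
    (hbig : (Nat.card V : ℝ) ≤ (Nat.card A : ℝ) ^ α * (Nat.card ↥(V ⊓ Subgroup.centralizer (A : Set X)) : ℝ)) :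
    (Nat.card V : ℝ) ≤ (Nat.card G : ℝ) ^ α := by
  classical
  let 𝓢 : Set (Subgroup X) := {H | H ≤ G ∧ H ≠ ⊥}
  have hA𝓢 : A ∈ 𝓢 := ⟨hA, hA1⟩
  obtain ⟨H₀, hH₀, hH₀max⟩ := Set.exists_max_image 𝓢 (meas V α) (Set.toFinite _) ⟨A, hA𝓢⟩
  set m := meas V α H₀ with hm
  have hmpos : 0 < m := meas_pos V α H₀
  have hVm : (Nat.card V : ℝ) ≤ m := le_trans hbig (hH₀max A hA𝓢)
  let 𝓢' : Set (Subgroup X) := {H | H ∈ 𝓢 ∧ meas V α H = m}
  obtain ⟨H, hH, hHmax⟩ := Set.exists_max_image 𝓢' (fun H => Nat.card H) (Set.toFinite _)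
    ⟨H₀, hH₀, rfl⟩
  obtain ⟨⟨hHG, hH1⟩, hHm⟩ := hH
  -- `H` is normalized by `G`
  have hnorm : ∀ g ∈ G, H.map (MulAut.conj g).toMonoidHom = H := by
    intro g hg
    set K := H.map (MulAut.conj g).toMonoidHom with hK
    have hinj : Function.Injective (MulAut.conj g).toMonoidHom := (MulAut.conj g).injective
    have hKG : K ≤ G := by
      rintro _ ⟨h, hh, rfl⟩
      exact G.mul_mem (G.mul_mem hg (hHG hh)) (G.inv_mem hg)
    have hKm : meas V α K = m := by rw [hK, meas_conj V α H (hGV hg), hHm]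
    have hcard : Nat.card K = Nat.card H := Subgroup.card_map_of_injective hinj
    have hsup𝓢 : H ⊔ K ∈ 𝓢 := by
      refine ⟨sup_le hHG hKG, ?_⟩
      intro h0
      apply hH1
      exact le_bot_iff.1 (h0 ▸ le_sup_left)
    have hinfm : meas V α (H ⊓ K) ≤ m := by
      by_cases h0 : H ⊓ K = ⊥
      · rw [h0]
        unfold meas
        rw [Subgroup.card_bot, Nat.cast_one, Real.one_rpow, one_mul]
        refine le_trans ?_ hVm
        exact_mod_cast Subgroup.card_le_of_le inf_le_left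
      · exact hH₀max _ ⟨inf_le_left.trans hHG, h0⟩
    have hsupm : meas V α (H ⊔ K) ≤ m := hH₀max _ hsup𝓢
    have hsm := meas_supermodular V hα H K
    rw [hHm, hKm] at hsm
    have h1 : m * m ≤ meas V α (H ⊔ K) * m :=
      le_trans hsm (mul_le_mul_of_nonneg_left hinfm (meas_pos V α _).le)
    have h2 : m ≤ meas V α (H ⊔ K) := le_of_mul_le_mul_right h1 hmpos
    have h3 : H ⊔ K ∈ 𝓢' := ⟨hsup𝓢, le_antisymm hsupm h2⟩
    have h4 : Nat.card (H ⊔ K : Subgroup X) ≤ Nat.card H := hHmax _ h3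
    have h5 : H = H ⊔ K := Subgroup.eq_of_le_of_card_ge le_sup_left h4
    have h6 : K ≤ H := by rw [h5]; exact le_sup_right
    exact Subgroup.eq_of_le_of_card_ge h6 hcard.ge
  -- `C_V(H)` is `G`-invariant
  have hW : G ≤ Subgroup.normalizer ((V ⊓ Subgroup.centralizer (H : Set X) : Subgroup X) : Set X) := by
    intro g hg
    rw [Subgroup.mem_normalizer_iff_map_conj_eq]
    have h1 := inf_centralizer_conj V H (hGV hg)
    rw [hnorm g hg] at h1
    exact h1.symm
  rcases hirr _ inf_le_left hW with h0 | h0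
  · have h1 : m = (Nat.card H : ℝ) ^ α := by
      rw [← hHm]; unfold meas
      rw [h0, Subgroup.card_bot, Nat.cast_one, mul_one]
    have h2 : (Nat.card H : ℝ) ^ α ≤ (Nat.card G : ℝ) ^ α := by
      apply Real.rpow_le_rpow (Nat.cast_nonneg _) _ hα.le
      exact_mod_cast Subgroup.card_le_of_le hHG
    rw [h1] at hVm
    exact le_trans hVm h2
  · exfalso
    apply hH1
    have h1 : V ≤ Subgroup.centralizer (H : Set X) := inf_eq_left.1 h0
    have h2 : H ≤ Subgroup.centralizer (V : Set X) := Subgroup.le_centralizer_iff.1 h1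
    exact le_bot_iff.1 (hfaith ▸ le_inf hHG h2)

end Cfsg.Agent.S3037
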