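import Cfsg.Statements.S3043
import Cfsg.Agent.Lib.Helper7.TIV6
import Cfsg.Agent.Lib.Helper7.TIV7
import Cfsg.Agent.Lib.Helper5.S3043D
import Cfsg.Agent.Lib.Helper5.S3043E
import Cfsg.Agent.Lib.Helper9.S3043ZC

set_option autoImplicit false
open Cfsg

namespace Cfsg.Agent.S3043

open Cfsg.Agent.Lib.Helper7.TIV in
/-- Let M be a nontrivial subgroup of a finite group G meeting each of its other conjugates trivially, with N_G(M) = M · C_{N_G(M)}(z) for some involution z ∈ N_G(M), and with C_G(x) of odd order for every nontrivial x ∈ M. Then one of the following holds: M is normal in G; the number of involutions of G is at most |G : M|; G is isomorphic to PGL₂(F) or to PSL₂(F) for a finite field F with |F| = |M|, M is an elementary abelian p-group for the characteristic p of F, and |F| ≡ 1 (mod 4) in the PSL₂ case; G is isomorphic to PSL₂(F) with |F| = 2^e, e > 1, and M is cyclic of order 2^e + 1; or for some d ≥ 1, G has an elementary abelian normal subgroup of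 order 2^{2d} complemented by N_G(M), and N_G(M) is dihedral of order 2(2^d + 1). -/
theorem result {G : Type*} [Group G] [Finite G] (M : Subgroup G) (hM1 : M ≠ ⊥)
    (hTI : ∀ g : G, M ⊓ M.map (MulAut.conj g).toMonoidHom ≠ ⊥ → M.map (MulAut.conj g).toMonoidHom = M)
    (z : G) (hz : orderOf z = 2) (hzN : z ∈ Subgroup.normalizer (M : Set G))
    (hfac : M ⊔ (Subgroup.normalizer (M : Set G) ⊓ Subgroup.centralizer ({z} : Set G)) = Subgroup.normalizer (M : Set G))
    (hodd : ∀ x ∈ M, x ≠ 1 → Odd (Nat.card ↥(Subgroup.centralizer ({x} : Set G)))) :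
    M.Normal ∨
    Nat.card {g : G // orderOf g = 2} ≤ M.index ∨
    (∃ (F : Type) (_ : Field F) (_ : Fintype F) (p : ℕ) (_ : Fact p.Prime) (_ : CharP F p), Fintype.card F = Nat.card M ∧ Cfsg.IsElementaryAbelian p M ∧
        (Nonempty (G ≃* (GL (Fin 2) F ⧸ Subgroup.center (GL (Fin 2) F))) ∨
         (Fintype.card F % 4 = 1 ∧ Nonempty (G ≃* Matrix.ProjectiveSpecialLinearGroup (Fin 2) F)))) ∨
    (∃ (F : Type) (_ : Field F) (_ : Fintype F) (e : ℕ), 1 < e ∧ Fintype.card F = 2 ^ e ∧ IsCyclic ↥M ∧ Nat.card M = 2 ^ e + 1 ∧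
        Nonempty (G ≃* Matrix.ProjectiveSpecialLinearGroup (Fin 2) F)) ∨
    (∃ (d : ℕ) (E : Subgroup G), 1 ≤ d ∧ E.Normal ∧ Cfsg.IsElementaryAbelian 2 E ∧ Nat.card E = 2 ^ (2 * d) ∧
        E ⊓ Subgroup.normalizer (M : Set G) = ⊥ ∧ E ⊔ Subgroup.normalizer (M : Set G) = ⊤ ∧
        Nonempty (↥(Subgroup.normalizer (M : Set G)) ≃* DihedralGroup (2 ^ d + 1))) := by
  classical
  by_cases hnn : M.Normal
  · exact Or.inl hnn
  by_cases hB : Nat.card {g : G // orderOf g = 2} ≤ M.index
  · exact Or.inr (Or.inl hB)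
  right; right
  have S : Setup M z := ⟨hM1, hTI, hz, hzN, hfac, hodd⟩
  obtain ⟨g₀, hg₀⟩ := S.exists_out hnn
  obtain ⟨hstar, hklt, hcount⟩ := S.star_aux (not_le.mp hB)
  rcases S.dichotomy hstar hg₀ with hCz | hk2
  · -- the Zassenhaus branch
    left
    obtain ⟨u, hu2, huN, -, hKu, huinv⟩ := S.exists_u hstar hg₀
    have hcore := Cfsg.Agent.Lib.Helper9.S3043.zcore M (NN M) (KK M z) z u hM1 S.M_le_N S.K_le_N
      S.inf_K (fun y hy => S.decomp hy) (fun y hy x hx => S.conj_mem hy hx)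
      (fun x hx y hy => S.comm hx hy) (fun a ha b hb => S.K_comm hstar hg₀ ha hb)
      hz S.z_mem_K S.z_inv (fun x hx hx1 c _ hcx => S.odd_of_commute hx hx1 hcx)
      (fun g hg => S.semireg hstar hg) (S.index_Z hstar hCz) hu2 huN hKu huinv hCz
      (S.count_Z hstar hcount hCz)
    exact caseZ M (NN M) (KK M z) z u S.M_le_N S.K_le_N (fun y hy x hx => S.conj_mem hy hx)
      (fun x hx y hy => S.comm hx hy) hz S.z_mem_K (S.index_Z hstar hCz) huN hKu S.card_N hcore
  · right
    rcases S.caseK2 hstar hklt hcount hg₀ hk2 with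
      ⟨e, he, hconj, hCcard, hG, hMcard⟩ | ⟨d, v, hd, hMcard, hNcard, hG, hv2, hvz⟩
    · left
      have hCe : ∀ a ∈ Subgroup.centralizer ({z} : Set G), a ^ 2 = 1 := by
        intro a ha
        rw [pow_two]; exact S.cent_sq hstar hk2 ha
      have hCc : ∀ a ∈ Subgroup.centralizer ({z} : Set G),
          ∀ b ∈ Subgroup.centralizer ({z} : Set G), a * b = b * a := by
        intro a ha b hb
        have h1 : a * a = 1 := S.cent_sq hstar hk2 ha
        have h2 : b * b = 1 := S.cent_sq hstar hk2 hb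
        have h3 : (a * b) * (a * b) = 1 := S.cent_sq hstar hk2 (mul_mem ha hb)
        have h4 : a⁻¹ = a := inv_eq_of_mul_eq_one_left h1
        have h5 : b⁻¹ = b := inv_eq_of_mul_eq_one_left h2
        have h6 : (a * b)⁻¹ = a * b := inv_eq_of_mul_eq_one_left h3
        calc a * b = (a * b)⁻¹ := h6.symm
          _ = b⁻¹ * a⁻¹ := mul_inv_rev a b
          _ = b * a := by rw [h4, h5]
      obtain ⟨F, hF, hFt, hFcard, hcyc, hiso⟩ :=
        Cfsg.Agent.Lib.Helper5.S3043D.pieceD M z e he hz hconj hCc hCe hCcard hG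
          (fun x hx y hy => S.comm hx hy) hMcard
      exact ⟨F, hF, hFt, e, he, hFcard, hcyc, hMcard, hiso⟩
    · right
      obtain ⟨E, hEn, hEe, hEcard, hEN, hEN', hiso⟩ :=
        Cfsg.Agent.Lib.Helper5.S3043E.pieceE M (NN M) z v d hd hM1 S.M_le_N (fun g hg => S.ti' hg)
          (fun x hx y hy => S.comm hx hy) hMcard hNcard hz hzN S.z_inv
          (fun x hx hx1 => S.cent_le_M hk2 hx hx1)
          (fun t ht ht2 => S.invol_N_conj ht ht2) hG hv2 hvz
      exact ⟨d, E, hd, hEn, hEe, hEcard, hEN, hEN', hiso⟩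

end Cfsg.Agent.S3043
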