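import Cfsg.Statements.S3053
import Mathlib
import Cfsg.Agent.Lib.Helper1.ClassTwo
import Cfsg.Agent.Lib.Helper3.SylowChain

set_option autoImplicit false
open Cfsg

namespace Cfsg.Agent.S3053

open scoped commutatorElement
open Cfsg.Agent.Lib.Helper1

variable {G : Type*} [Group G]

/-- ambient-group data of an extraspecial subgroup of order `p³` and exponent `p²` -/
structure ES (p : ℕ) (P Z : Subgroup G) : Prop where
  le : Z ≤ P
  central : ∀ z ∈ Z, ∀ a ∈ P, a * z = z * a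
  comm : ∀ a ∈ P, ∀ b ∈ P, ⁅a, b⁆ ∈ Z
  cardZ : Nat.card Z = p
  cent : ∀ a ∈ P, (∀ b ∈ P, a * b = b * a) → a ∈ Z
  cardP : Nat.card P = p ^ 3
  exp : ∃ a ∈ P, a ^ p ≠ 1

/-- in a group of prime order every element is a power of any nontrivial element -/
theorem exists_pow_eq_of_card_prime [Finite G] {p : ℕ} [hp : Fact p.Prime] {Z : Subgroup G}
    (hZ : Nat.card Z = p)
    {z : G} (hz : z ∈ Z) (hz1 : z ≠ 1) {ζ : G} (hζ : ζ ∈ Z) : ∃ k : ℕ, ζ = z ^ k := by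
  have h1 : Subgroup.zpowers z ≤ Z := by rw [Subgroup.zpowers_le]; exact hz
  have hfo : IsOfFinOrder z := isOfFinOrder_of_finite z
  have ho : orderOf z = p := by
    have h2 : orderOf (⟨z, hz⟩ : Z) ∣ p := hZ ▸ orderOf_dvd_natCard _
    rw [Subgroup.orderOf_mk] at h2
    rcases (Nat.dvd_prime hp.out).1 h2 with h | h
    · exact absurd (orderOf_eq_one_iff.1 h) hz1
    · exact h
  have h3 : Subgroup.zpowers z = Z := by
    apply Subgroup.eq_of_le_of_card_ge h1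
    rw [Nat.card_zpowers, ho, hZ]
  have h4 : ζ ∈ Subgroup.zpowers z := h3 ▸ hζ
  rw [← hfo.mem_powers_iff_mem_zpowers] at h4
  obtain ⟨k, hk⟩ := h4
  exact ⟨k, hk.symm⟩

section

set_option linter.unusedSectionVars false

variable [Finite G] {p : ℕ} [hp : Fact p.Prime] {P Z : Subgroup G}

theorem ES.pow_Z (h : ES p P Z) {z : G} (hz : z ∈ Z) : z ^ p = 1 := by
  have h1 : (⟨z, hz⟩ : Z) ^ Nat.card Z = 1 := pow_card_eq_one'
  rw [h.cardZ] at h1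
  exact congrArg Subtype.val h1

theorem ES.isPGroup (h : ES p P Z) : IsPGroup p P := IsPGroup.of_card h.cardP

theorem ES.commCentral (h : ES p P Z) : CommCentral ↥P := by
  intro x y z
  have h1 := h.comm x x.2 y y.2
  have h2 := h.central _ h1 z z.2
  apply Subtype.ext
  simp only [Subgroup.coe_mul, commutatorElement_def, Subgroup.coe_inv]
  simp only [commutatorElement_def] at h2
  exact h2.symm

theorem ES.mul_pow (h : ES p P Z) (hp2 : p ≠ 2) {a b : G} (ha : a ∈ P) (hb : b ∈ P) :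
    (a * b) ^ p = a ^ p * b ^ p := by
  have hc : (⁅(⟨b, hb⟩ : ↥P), (⟨a, ha⟩ : ↥P)⁆ : ↥P) ^ p = 1 := by
    apply Subtype.ext
    have := h.pow_Z (h.comm b hb a ha)
    simp only [commutatorElement_def] at this
    simp only [Subgroup.coe_pow, commutatorElement_def, Subgroup.coe_mul, Subgroup.coe_inv,
      Subgroup.coe_one]
    exact this
  have := h.commCentral.mul_pow_prime_eq hp.out hp2 ⟨a, ha⟩ ⟨b, hb⟩ hc
  exact congrArg Subtype.val this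

theorem ES.comm_mul_left (h : ES p P Z) {a b c : G} (ha : a ∈ P) (hb : b ∈ P) (hc : c ∈ P) :
    ⁅a * b, c⁆ = ⁅a, c⁆ * ⁅b, c⁆ :=
  congrArg Subtype.val (h.commCentral.comm_mul_left ⟨a, ha⟩ ⟨b, hb⟩ ⟨c, hc⟩)

theorem ES.comm_mul_right (h : ES p P Z) {a b c : G} (ha : a ∈ P) (hb : b ∈ P) (hc : c ∈ P) :
    ⁅a, b * c⁆ = ⁅a, b⁆ * ⁅a, c⁆ :=
  congrArg Subtype.val (h.commCentral.comm_mul_right ⟨a, ha⟩ ⟨b, hb⟩ ⟨c, hc⟩)

theorem ES.comm_pow_left (h : ES p P Z) {a b : G} (ha : a ∈ P) (hb : b ∈ P) (n : ℕ) :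
    ⁅a ^ n, b⁆ = ⁅a, b⁆ ^ n :=
  congrArg Subtype.val (h.commCentral.comm_pow_left ⟨a, ha⟩ ⟨b, hb⟩ n)

theorem ES.pow_mem (h : ES p P Z) {a : G} (ha : a ∈ P) : a ^ p ∈ Z := by
  apply h.cent _ (P.pow_mem ha p)
  intro b hb
  have h1 : ⁅a ^ p, b⁆ = 1 := by
    rw [h.comm_pow_left ha hb, h.pow_Z (h.comm a ha b hb)]
  exact commutatorElement_eq_one_iff_mul_comm.1 h1

/-- the `p`-power endomorphism of `P` -/
def ES.powHom (h : ES p P Z) (hp2 : p ≠ 2) : ↥P →* ↥P where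
  toFun x := x ^ p
  map_one' := one_pow p
  map_mul' x y := Subtype.ext (by
    simp only [Subgroup.coe_pow, Subgroup.coe_mul]
    exact h.mul_pow hp2 x.2 y.2)

/-- `Ω₁(P)` -/
def ES.V (h : ES p P Z) (hp2 : p ≠ 2) : Subgroup G := (h.powHom hp2).ker.map P.subtype

theorem ES.mem_V (h : ES p P Z) (hp2 : p ≠ 2) {a : G} : a ∈ h.V hp2 ↔ a ∈ P ∧ a ^ p = 1 := by
  unfold ES.V
  rw [Subgroup.mem_map]
  constructor
  · rintro ⟨x, hx, rfl⟩
    refine ⟨x.2, ?_⟩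
    rw [MonoidHom.mem_ker] at hx
    exact congrArg Subtype.val hx
  · rintro ⟨ha, hap⟩
    refine ⟨⟨a, ha⟩, ?_, rfl⟩
    rw [MonoidHom.mem_ker]
    exact Subtype.ext hap

theorem ES.V_le (h : ES p P Z) (hp2 : p ≠ 2) : h.V hp2 ≤ P := fun _ ha => ((h.mem_V hp2).1 ha).1

theorem ES.Z_le_V (h : ES p P Z) (hp2 : p ≠ 2) : Z ≤ h.V hp2 := fun _ hz =>
  (h.mem_V hp2).2 ⟨h.le hz, h.pow_Z hz⟩

theorem ES.card_V (h : ES p P Z) (hp2 : p ≠ 2) : Nat.card (h.V hp2) = p ^ 2 := by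
  unfold ES.V
  rw [Subgroup.card_map_of_injective P.subtype_injective]
  set φ := h.powHom hp2 with hφ
  have h1 : Nat.card φ.ker * Nat.card φ.range = Nat.card P := by
    rw [← Nat.card_congr (QuotientGroup.quotientKerEquivRange φ).toEquiv, mul_comm]
    exact (Subgroup.card_eq_card_quotient_mul_card_subgroup φ.ker).symm
  have h2 : φ.range ≤ Z.subgroupOf P := by
    rintro _ ⟨x, rfl⟩
    rw [Subgroup.mem_subgroupOf]
    exact h.pow_mem x.2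
  have h3 : Nat.card (Z.subgroupOf P) = p := by
    rw [← h.cardZ]
    exact Nat.card_congr (Subgroup.subgroupOfEquivOfLe h.le).toEquiv
  have h4 : Nat.card φ.range ∣ p := h3 ▸ Subgroup.card_dvd_of_le h2
  have h5 : Nat.card φ.range ≠ 1 := by
    intro he
    obtain ⟨a, ha, hap⟩ := h.exp
    have h6 : φ.range = ⊥ := Subgroup.card_eq_one.1 he
    have h7 : φ ⟨a, ha⟩ ∈ φ.range := ⟨_, rfl⟩
    rw [h6, Subgroup.mem_bot] at h7
    exact hap (congrArg Subtype.val h7)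
  have h6 : Nat.card φ.range = p := by
    rcases (Nat.dvd_prime hp.out).1 h4 with h | h
    · exact absurd h h5
    · exact h
  rw [h6, h.cardP] at h1
  have hp0 : 0 < p := hp.out.pos
  have : Nat.card φ.ker * p = p ^ 2 * p := by rw [h1]; ring
  exact Nat.eq_of_mul_eq_mul_right hp0 this

theorem ES.V_comm (h : ES p P Z) (hp2 : p ≠ 2) {a b : G} (ha : a ∈ h.V hp2) (hb : b ∈ h.V hp2) :
    a * b = b * a := by
  have := (IsPGroup.isMulCommutative_of_card_eq_prime_sq (h.card_V hp2)).is_comm.comm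
    ⟨a, ha⟩ ⟨b, hb⟩
  exact congrArg Subtype.val this

/-- centralizer in `P` of a noncentral element of `Ω₁(P)` -/
theorem ES.mem_V_of_comm (h : ES p P Z) (hp2 : p ≠ 2) {x y : G} (hx : x ∈ h.V hp2) (hxZ : x ∉ Z)
    (hy : y ∈ P) (hyx : y * x = x * y) : y ∈ h.V hp2 := by
  set C : Subgroup G := P ⊓ Subgroup.centralizer {x} with hC
  have hVC : h.V hp2 ≤ C := by
    intro v hv
    refine Subgroup.mem_inf.2 ⟨h.V_le hp2 hv, ?_⟩
    rw [Subgroup.mem_centralizer_singleton_iff]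
    exact h.V_comm hp2 hv hx
  have hCP : C ≠ P := by
    intro he
    apply hxZ
    apply h.cent x (h.V_le hp2 hx)
    intro b hb
    have : b ∈ C := he ▸ hb
    have := Subgroup.mem_centralizer_singleton_iff.1 (Subgroup.mem_inf.1 this).2
    exact this.symm
  have hCp : IsPGroup p C := h.isPGroup.to_le inf_le_left
  obtain ⟨k, hk⟩ := hCp.exists_card_eq
  have h1 : p ^ 2 ∣ p ^ k := by
    rw [← hk, ← h.card_V hp2]; exact Subgroup.card_dvd_of_le hVC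
  have h2 : 2 ≤ k := (Nat.pow_dvd_pow_iff_le_right hp.out.one_lt).1 h1
  have h3 : p ^ k ∣ p ^ 3 := by
    rw [← hk, ← h.cardP]; exact Subgroup.card_dvd_of_le inf_le_left
  have h4 : k ≤ 3 := (Nat.pow_dvd_pow_iff_le_right hp.out.one_lt).1 h3
  have h5 : k ≠ 3 := by
    intro he
    apply hCP
    apply Subgroup.eq_of_le_of_card_ge inf_le_left
    rw [hk, he, h.cardP]
  have h6 : k = 2 := by omega
  have h7 : h.V hp2 = C := by
    apply Subgroup.eq_of_le_of_card_ge hVC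
    rw [hk, h6, h.card_V hp2]
  rw [h7]
  exact Subgroup.mem_inf.2 ⟨hy, Subgroup.mem_centralizer_singleton_iff.2 hyx⟩

theorem ES.comm_ne_one (h : ES p P Z) (hp2 : p ≠ 2) {x y : G} (hx : x ∈ h.V hp2) (hxZ : x ∉ Z)
    (hy : y ∈ P) (hyV : y ∉ h.V hp2) : ⁅y, x⁆ ≠ 1 := by
  intro he
  exact hyV (h.mem_V_of_comm hp2 hx hxZ hy (commutatorElement_eq_one_iff_mul_comm.1 he))

theorem ES.exists_not_mem_V (h : ES p P Z) (hp2 : p ≠ 2) : ∃ y ∈ P, y ∉ h.V hp2 := by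
  by_contra hc
  push Not at hc
  have h1 : P ≤ h.V hp2 := hc
  have h2 := Subgroup.card_le_of_le h1
  rw [h.cardP, h.card_V hp2] at h2
  have := hp.out.one_lt
  have h3 : p ^ 2 < p ^ 3 := Nat.pow_lt_pow_right this (by norm_num)
  omega

end


section

set_option linter.unusedSectionVars false

open Cfsg.Agent.Lib.Helper3.SChain Cfsg.Agent.Lib.Helper2.SC

variable [Finite G] {p : ℕ} [hp : Fact p.Prime] {P Z : Subgroup G}

/-- in a cyclic group of prime order any nontrivial element generates -/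
theorem mem_zpowers_of_mem_zpowers {x ξ : G} (hx : x ^ p = 1)
    (hξ : ξ ∈ Subgroup.zpowers x) (hξ1 : ξ ≠ 1) : x ∈ Subgroup.zpowers ξ := by
  have hx1 : x ≠ 1 := by
    rintro rfl
    rw [Subgroup.zpowers_one_eq_bot, Subgroup.mem_bot] at hξ
    exact hξ1 hξ
  have ho : orderOf x = p := orderOf_eq_prime hx hx1
  have hc : Nat.card (Subgroup.zpowers x) = p := by rw [Nat.card_zpowers, ho]
  obtain ⟨k, hk⟩ := exists_pow_eq_of_card_prime hc hξ hξ1 (Subgroup.mem_zpowers x)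
  rw [hk]
  exact Subgroup.npow_mem_zpowers _ _

theorem conj_pow' (g a : G) (k : ℕ) : g * a ^ k * g⁻¹ = (g * a * g⁻¹) ^ k := (conj_pow).symm

/-- `V` is normalized by `P` -/
theorem ES.conj_mem_V (h : ES p P Z) (hp2 : p ≠ 2) {a v : G} (ha : a ∈ P) (hv : v ∈ h.V hp2) :
    a * v * a⁻¹ ∈ h.V hp2 := by
  rw [h.mem_V hp2] at hv ⊢
  refine ⟨P.mul_mem (P.mul_mem ha hv.1) (P.inv_mem ha), ?_⟩
  rw [← conj_pow', hv.2]; group

theorem ES.comm_inv_right (h : ES p P Z) {a b : G} (ha : a ∈ P) (hb : b ∈ P) :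
    ⁅a, b⁻¹⁆ = ⁅a, b⁆⁻¹ := by
  have h1 := h.comm_mul_right ha hb (P.inv_mem hb)
  rw [mul_inv_cancel, commutatorElement_one_right] at h1
  exact (inv_eq_of_mul_eq_one_right h1.symm).symm

theorem ES.comm_pow_right (h : ES p P Z) {a b : G} (ha : a ∈ P) (hb : b ∈ P) (n : ℕ) :
    ⁅a, b ^ n⁆ = ⁅a, b⁆ ^ n :=
  congrArg Subtype.val (h.commCentral.comm_pow_right ⟨a, ha⟩ ⟨b, hb⟩ n)

/-- `V = Z × ⟨ξ⟩` -/
theorem ES.exists_decomp (h : ES p P Z) (hp2 : p ≠ 2) {ξ : G} (hξ : ξ ∈ h.V hp2) (hξZ : ξ ∉ Z)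
    {v : G} (hv : v ∈ h.V hp2) : ∃ u ∈ Z, ∃ j : ℕ, v = u * (ξ ^ j)⁻¹ := by
  obtain ⟨y₀, hy₀, hy₀V⟩ := h.exists_not_mem_V hp2
  have hζ₀ : ⁅y₀, ξ⁆ ∈ Z := h.comm y₀ hy₀ ξ (h.V_le hp2 hξ)
  have hζ₀1 : ⁅y₀, ξ⁆ ≠ 1 := h.comm_ne_one hp2 hξ hξZ hy₀ hy₀V
  have hc : (⁅y₀, v⁆)⁻¹ ∈ Z := Z.inv_mem (h.comm y₀ hy₀ v (h.V_le hp2 hv))
  obtain ⟨j, hj⟩ := exists_pow_eq_of_card_prime h.cardZ hζ₀ hζ₀1 hc
  have hξj : ξ ^ j ∈ h.V hp2 := (h.V hp2).pow_mem hξ j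
  have hu : v * ξ ^ j ∈ h.V hp2 := (h.V hp2).mul_mem hv hξj
  have h1 : ⁅y₀, v * ξ ^ j⁆ = 1 := by
    rw [h.comm_mul_right hy₀ (h.V_le hp2 hv) (h.V_le hp2 hξj),
      h.comm_pow_right hy₀ (h.V_le hp2 hξ), ← hj, mul_inv_cancel]
  refine ⟨v * ξ ^ j, ?_, j, by group⟩
  by_contra hnZ
  exact h.comm_ne_one hp2 hu hnZ hy₀ hy₀V h1

/-- `t` inverts `V` elementwise -/
def ES.Inverts (h : ES p P Z) (hp2 : p ≠ 2) (t : G) : Prop := ∀ v ∈ h.V hp2, t * v * t⁻¹ = v⁻¹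

theorem ES.inverts_of (h : ES p P Z) (hp2 : p ≠ 2) {z ξ t : G} (hz : z ∈ Z) (hz1 : z ≠ 1)
    (hξ : ξ ∈ h.V hp2) (hξZ : ξ ∉ Z) (h1 : t * z * t⁻¹ = z⁻¹) (h2 : t * ξ * t⁻¹ = ξ⁻¹) :
    h.Inverts hp2 t := by
  intro v hv
  obtain ⟨u, hu, j, rfl⟩ := h.exists_decomp hp2 hξ hξZ hv
  obtain ⟨i, rfl⟩ := exists_pow_eq_of_card_prime h.cardZ hz hz1 hu
  have hcomm : Commute (z ^ i) (ξ ^ j) :=
    (show Commute z ξ from h.V_comm hp2 (h.Z_le_V hp2 hz) hξ).pow_pow i j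
  have e : t * (z ^ i * (ξ ^ j)⁻¹) * t⁻¹ = (t * z * t⁻¹) ^ i * ((t * ξ * t⁻¹) ^ j)⁻¹ := by
    rw [← conj_pow', ← conj_pow']; group
  rw [e, h1, h2, inv_pow, inv_pow, inv_inv, mul_inv_rev, inv_inv]
  exact (hcomm.inv_left).eq

theorem ES.Inverts.inv (h : ES p P Z) (hp2 : p ≠ 2) {t : G} (ht : h.Inverts hp2 t) :
    h.Inverts hp2 t⁻¹ := by
  intro v hv
  have := ht v⁻¹ ((h.V hp2).inv_mem hv)
  rw [inv_inv] at this
  calc t⁻¹ * v * t⁻¹⁻¹ = t⁻¹ * (t * v⁻¹ * t⁻¹) * t⁻¹⁻¹ := by rw [this]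
    _ = v⁻¹ := by group

end

section

set_option linter.unusedSectionVars false

open Cfsg.Agent.Lib.Helper3.SChain Cfsg.Agent.Lib.Helper2.SC

variable [Finite G] {p : ℕ} [hp : Fact p.Prime] {P Z : Subgroup G}

/-- Step B: a conjugating element can be chosen in the normalizer of `V` -/
theorem ES.exists_normalizing (h : ES p P Z) (hp2 : p ≠ 2) (hS : IsSylIn p P ⊤) {z g : G}
    (hz : z ∈ Z) (hx : g * z * g⁻¹ ∈ P) :
    ∃ n : G, n * z * n⁻¹ = g * z * g⁻¹ ∧ ∀ v ∈ h.V hp2, n⁻¹ * v * n ∈ h.V hp2 := by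
  set x := g * z * g⁻¹ with hxdef
  have hxp : x ^ p = 1 := by rw [hxdef, ← conj_pow', h.pow_Z hz]; group
  have hxV : x ∈ h.V hp2 := (h.mem_V hp2).2 ⟨hx, hxp⟩
  set Cx : Subgroup G := Subgroup.centralizer {x} with hCx
  set Q := subgroupConjRight g⁻¹ P with hQdef
  have hQ : IsSylIn p Q ⊤ := hS.scr (Subgroup.mem_top _)
  have hQC : Q ≤ Cx := by
    intro a ha
    rw [mem_scr_iff] at ha
    rw [Subgroup.mem_centralizer_singleton_iff]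
    have h1 := h.central z hz _ ha
    rw [inv_inv] at h1
    calc a * x = g * ((g⁻¹ * a * g) * z) * g⁻¹ := by rw [hxdef]; group
      _ = g * (z * (g⁻¹ * a * g)) * g⁻¹ := by rw [h1]
      _ = x * a := by rw [hxdef]; group
  have hQ' : IsSylIn p Q Cx := hQ.of_le hQC le_top
  have hVC : h.V hp2 ≤ Cx := by
    intro v hv
    rw [Subgroup.mem_centralizer_singleton_iff]
    exact h.V_comm hp2 hv hxV
  obtain ⟨Q', hQ'S, hVQ'⟩ := exists_isSylIn_ge (h.isPGroup.to_le (h.V_le hp2)) hVC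
  obtain ⟨m, hm, hmQ⟩ := hQ'S.exists_conj hQ'
  refine ⟨m⁻¹ * g, ?_, ?_⟩
  · have hmx : m * x = x * m := Subgroup.mem_centralizer_singleton_iff.1 hm
    calc m⁻¹ * g * z * (m⁻¹ * g)⁻¹ = m⁻¹ * (x * m) := by rw [hxdef]; group
      _ = m⁻¹ * (m * x) := by rw [hmx]
      _ = x := by group
  · intro v hv
    have h1 : v ∈ subgroupConjRight m Q := hmQ ▸ hVQ' hv
    rw [mem_scr_iff, hQdef, mem_scr_iff, inv_inv] at h1
    have hv' := (h.mem_V hp2).1 hv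
    have e : (m⁻¹ * g)⁻¹ * v * (m⁻¹ * g) = g⁻¹ * (m * v * m⁻¹) * g := by group
    rw [h.mem_V hp2, e]
    refine ⟨h1, ?_⟩
    have e2 : g⁻¹ * (m * v * m⁻¹) * g = (g⁻¹ * m) * v * (g⁻¹ * m)⁻¹ := by group
    rw [e2, ← conj_pow', hv'.2]; group

theorem rotation_aux {y r z ξ : G} (hyz : y * z * y⁻¹ = z) (hrz : r * z * r⁻¹ = ξ * z)
    (hrξ : r * ξ * r⁻¹ = ξ) (hyξ : y * ξ * y⁻¹ = z⁻¹ * ξ) (hzξ : z * ξ = ξ * z) :
    (y * r * y) * z * (y * r * y)⁻¹ = ξ ∧ (y * r * y) * ξ * (y * r * y)⁻¹ = z⁻¹ := by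
  constructor
  · calc (y * r * y) * z * (y * r * y)⁻¹ = y * (r * (y * z * y⁻¹) * r⁻¹) * y⁻¹ := by group
      _ = y * (ξ * z) * y⁻¹ := by rw [hyz, hrz]
      _ = (y * ξ * y⁻¹) * (y * z * y⁻¹) := by group
      _ = z⁻¹ * ξ * z := by rw [hyξ, hyz]
      _ = z⁻¹ * (ξ * z) := by group
      _ = ξ := by rw [← hzξ]; group
  · calc (y * r * y) * ξ * (y * r * y)⁻¹ = y * (r * (y * ξ * y⁻¹) * r⁻¹) * y⁻¹ := by group
      _ = y * (r * (z⁻¹ * ξ) * r⁻¹) * y⁻¹ := by rw [hyξ]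
      _ = y * ((r * z * r⁻¹)⁻¹ * (r * ξ * r⁻¹)) * y⁻¹ := by group
      _ = y * ((ξ * z)⁻¹ * ξ) * y⁻¹ := by rw [hrz, hrξ]
      _ = y * (z⁻¹ * (ξ⁻¹ * ξ)) * y⁻¹ := by group
      _ = (y * z * y⁻¹)⁻¹ := by group
      _ = z⁻¹ := by rw [hyz]

/-- Step C -/
theorem ES.exists_rotation (h : ES p P Z) (hp2 : p ≠ 2) {z n : G} (hz : z ∈ Z) (hz1 : z ≠ 1)
    (hxP : n * z * n⁻¹ ∈ P) (hxZ : n * z * n⁻¹ ∉ Z)
    (hn : ∀ v ∈ h.V hp2, n⁻¹ * v * n ∈ h.V hp2) :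
    ∃ ξ ∈ h.V hp2, ξ ∉ Z ∧ ∃ w : G, w * z * w⁻¹ = ξ ∧ w * ξ * w⁻¹ = z⁻¹ := by
  set x := n * z * n⁻¹ with hxdef
  have hxp : x ^ p = 1 := by rw [hxdef, ← conj_pow', h.pow_Z hz]; group
  have hxV : x ∈ h.V hp2 := (h.mem_V hp2).2 ⟨hxP, hxp⟩
  set v := n⁻¹ * z * n with hvdef
  have hv : v ∈ h.V hp2 := hn z (h.Z_le_V hp2 hz)
  have hvZ : v ∉ Z := by
    intro hvZ
    obtain ⟨k, hk⟩ := exists_pow_eq_of_card_prime h.cardZ hz hz1 hvZ
    have h1 : z = x ^ k := by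
      rw [hxdef, ← conj_pow', ← hk, hvdef]; group
    have h2 : z ∈ Subgroup.zpowers x := h1 ▸ Subgroup.npow_mem_zpowers _ _
    have h3 := mem_zpowers_of_mem_zpowers hxp h2 hz1
    have h4 : Subgroup.zpowers z ≤ Z := by rw [Subgroup.zpowers_le]; exact hz
    exact hxZ (h4 h3)
  obtain ⟨y₀, hy₀, hy₀V⟩ := h.exists_not_mem_V hp2
  have hζ₁ : ⁅y₀, v⁆ ∈ Z := h.comm y₀ hy₀ v (h.V_le hp2 hv)
  have hζ₁1 : ⁅y₀, v⁆ ≠ 1 := h.comm_ne_one hp2 hv hvZ hy₀ hy₀V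
  set ζ₁ := ⁅y₀, v⁆ with hζ₁def
  set ξ := n * ζ₁ * n⁻¹ with hξdef
  obtain ⟨k₁, hk₁⟩ := exists_pow_eq_of_card_prime h.cardZ hz hz1 hζ₁
  have hξx : ξ = x ^ k₁ := by rw [hξdef, hk₁, hxdef, conj_pow']
  have hξV : ξ ∈ h.V hp2 := hξx ▸ (h.V hp2).pow_mem hxV k₁
  have hξ1 : ξ ≠ 1 := by
    intro he
    apply hζ₁1
    have : ζ₁ = n⁻¹ * ξ * n := by rw [hξdef]; group
    rw [this, he]; group
  have hξZ : ξ ∉ Z := by
    intro hξZ
    have h2 : ξ ∈ Subgroup.zpowers x := hξx ▸ Subgroup.npow_mem_zpowers _ _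
    have h3 := mem_zpowers_of_mem_zpowers hxp h2 hξ1
    have h4 : Subgroup.zpowers ξ ≤ Z := by rw [Subgroup.zpowers_le]; exact hξZ
    exact hxZ (h4 h3)
  refine ⟨ξ, hξV, hξZ, ?_⟩
  set r := n * y₀ * n⁻¹ with hrdef
  have hrz : r * z * r⁻¹ = ξ * z := by
    rw [hrdef, hξdef, hζ₁def, hvdef, commutatorElement_def]; group
  have hrξ : r * ξ * r⁻¹ = ξ := by
    have := h.central ζ₁ hζ₁ y₀ hy₀
    calc r * ξ * r⁻¹ = n * (y₀ * ζ₁) * y₀⁻¹ * n⁻¹ := by rw [hrdef, hξdef]; group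
      _ = n * (ζ₁ * y₀) * y₀⁻¹ * n⁻¹ := by rw [this]
      _ = ξ := by rw [hξdef]; group
  have hζ₀ : ⁅y₀, ξ⁆ ∈ Z := h.comm y₀ hy₀ ξ (h.V_le hp2 hξV)
  have hζ₀1 : ⁅y₀, ξ⁆ ≠ 1 := h.comm_ne_one hp2 hξV hξZ hy₀ hy₀V
  obtain ⟨k, hk⟩ := exists_pow_eq_of_card_prime h.cardZ hζ₀ hζ₀1 (Z.inv_mem hz)
  set y := y₀ ^ k with hydef
  have hy : y ∈ P := P.pow_mem hy₀ k
  have hyz : y * z * y⁻¹ = z := by
    rw [h.central z hz y hy]; group
  have hyξ : y * ξ * y⁻¹ = z⁻¹ * ξ := by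
    have h1 : ⁅y, ξ⁆ = z⁻¹ := by rw [hydef, h.comm_pow_left hy₀ (h.V_le hp2 hξV), ← hk]
    rw [← h1, commutatorElement_def]; group
  have hzξ : z * ξ = ξ * z := h.V_comm hp2 (h.Z_le_V hp2 hz) hξV
  exact ⟨y * r * y, rotation_aux hyz hrz hrξ hyξ hzξ⟩

end

section

set_option linter.unusedSectionVars false

open Cfsg.Agent.Lib.Helper3.SChain Cfsg.Agent.Lib.Helper2.SC

variable [Finite G] {p : ℕ} [hp : Fact p.Prime] {P Z : Subgroup G}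

/-- Step D: Frattini argument -/
theorem ES.exists_normalizer_inverting (h : ES p P Z) (hp2 : p ≠ 2) (hS : IsSylIn p P ⊤)
    {t₀ : G} (ht₀ : h.Inverts hp2 t₀) :
    ∃ t : G, (∀ u ∈ P, t * u * t⁻¹ ∈ P) ∧ h.Inverts hp2 t := by
  set C : Subgroup G := Subgroup.centralizer (h.V hp2 : Set G) with hC
  have hPC : ∀ a ∈ P, ∀ c ∈ C, a * c * a⁻¹ ∈ C := by
    intro a ha c hc
    rw [hC, Subgroup.mem_centralizer_iff] at hc ⊢
    intro v hv
    have hv' : a⁻¹ * v * a ∈ h.V hp2 := by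
      have := h.conj_mem_V hp2 (P.inv_mem ha) hv
      rwa [inv_inv] at this
    have h1 := hc _ hv'
    calc v * (a * c * a⁻¹) = a * ((a⁻¹ * v * a) * c) * a⁻¹ := by group
      _ = a * (c * (a⁻¹ * v * a)) * a⁻¹ := by rw [h1]
      _ = a * c * a⁻¹ * v := by group
  have hPN : P ≤ Subgroup.normalizer (C : Set G) := by
    intro a ha
    rw [Subgroup.mem_normalizer_iff]
    intro c
    constructor
    · exact hPC a ha c
    · intro hc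
      have := hPC a⁻¹ (P.inv_mem ha) _ hc
      rw [inv_inv] at this
      have e : a⁻¹ * (a * c * a⁻¹) * a = c := by group
      rwa [e] at this
  -- commutators `[t₀, a]` centralize `V`
  have hcomm : ∀ a ∈ P, t₀ * a * t₀⁻¹ * a⁻¹ ∈ C := by
    intro a ha
    rw [hC, Subgroup.mem_centralizer_iff]
    intro v hv
    have hv1 : a⁻¹ * v * a ∈ h.V hp2 := by
      have := h.conj_mem_V hp2 (P.inv_mem ha) hv
      rwa [inv_inv] at this
    have h1 : t₀⁻¹ * (a⁻¹ * v * a) * t₀ = (a⁻¹ * v * a)⁻¹ := by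
      have := (ht₀.inv h hp2) _ hv1
      rwa [inv_inv] at this
    have h2 : t₀ * v⁻¹ * t₀⁻¹ = v := by
      have := ht₀ _ ((h.V hp2).inv_mem hv)
      rwa [inv_inv] at this
    have e : (t₀ * a * t₀⁻¹ * a⁻¹) * v * (t₀ * a * t₀⁻¹ * a⁻¹)⁻¹ = v := by
      calc (t₀ * a * t₀⁻¹ * a⁻¹) * v * (t₀ * a * t₀⁻¹ * a⁻¹)⁻¹
          = t₀ * (a * (t₀⁻¹ * (a⁻¹ * v * a) * t₀) * a⁻¹) * t₀⁻¹ := by group
        _ = t₀ * (a * (a⁻¹ * v * a)⁻¹ * a⁻¹) * t₀⁻¹ := by rw [h1]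
        _ = t₀ * v⁻¹ * t₀⁻¹ := by group
        _ = v := h2
    calc v * (t₀ * a * t₀⁻¹ * a⁻¹)
        = ((t₀ * a * t₀⁻¹ * a⁻¹) * v * (t₀ * a * t₀⁻¹ * a⁻¹)⁻¹) * (t₀ * a * t₀⁻¹ * a⁻¹) := by
          rw [e]
      _ = (t₀ * a * t₀⁻¹ * a⁻¹) * v := by group
  set M : Subgroup G := P ⊔ C with hM
  have hP1 : IsSylIn p P M := hS.of_le le_sup_left le_top
  have hQle : subgroupConjRight t₀⁻¹ P ≤ M := by
    intro u hu
    rw [mem_scr_iff, inv_inv] at hu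
    have e : u = (t₀ * (t₀⁻¹ * u * t₀) * t₀⁻¹ * (t₀⁻¹ * u * t₀)⁻¹) * (t₀⁻¹ * u * t₀) := by group
    rw [e]
    exact M.mul_mem (le_sup_right (a := P) (hcomm _ hu)) (le_sup_left (b := C) hu)
  have hP2 : IsSylIn p (subgroupConjRight t₀⁻¹ P) M :=
    (hS.scr (Subgroup.mem_top _)).of_le hQle le_top
  obtain ⟨m, hm, hmP⟩ := hP2.exists_conj hP1
  -- `scr m P = scr t₀⁻¹ P`
  have hm' : m ∈ ((P ⊔ C : Subgroup G) : Set G) := hm
  rw [Subgroup.coe_mul_of_left_le_normalizer_right P C hPN] at hm'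
  obtain ⟨a, ha, c, hc, rfl⟩ := hm'
  have hcV : ∀ v ∈ h.V hp2, c * v * c⁻¹ = v := by
    intro v hv
    have := (Subgroup.mem_centralizer_iff.1 hc) v hv
    rw [← this]; group
  refine ⟨c * t₀, ?_, ?_⟩
  · intro u hu
    have h1 : t₀ * u * t₀⁻¹ ∈ subgroupConjRight t₀⁻¹ P := by
      rw [mem_scr_iff, inv_inv]
      have e : t₀⁻¹ * (t₀ * u * t₀⁻¹) * t₀ = u := by group
      rwa [e]
    rw [← hmP, mem_scr_iff] at h1
    have h2 := P.mul_mem (P.mul_mem (P.inv_mem ha) h1) ha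
    have e : a⁻¹ * (a * c * (t₀ * u * t₀⁻¹) * (a * c)⁻¹) * a = c * t₀ * u * (c * t₀)⁻¹ := by group
    rwa [e] at h2
  · intro v hv
    have e : c * t₀ * v * (c * t₀)⁻¹ = c * (t₀ * v * t₀⁻¹) * c⁻¹ := by group
    rw [e, ht₀ v hv]
    exact hcV _ ((h.V hp2).inv_mem hv)

/-- Step E -/
theorem ES.no_inverting (h : ES p P Z) (hp2 : p ≠ 2) {t : G} (htP : ∀ u ∈ P, t * u * t⁻¹ ∈ P)
    (ht : h.Inverts hp2 t) {ξ : G} (hξ : ξ ∈ h.V hp2) (hξZ : ξ ∉ Z) : False := by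
  obtain ⟨y₀, hy₀, hy₀V⟩ := h.exists_not_mem_V hp2
  have hξP := h.V_le hp2 hξ
  have hζ₀ : ⁅y₀, ξ⁆ ∈ Z := h.comm y₀ hy₀ ξ hξP
  have hζ₀1 : ⁅y₀, ξ⁆ ≠ 1 := h.comm_ne_one hp2 hξ hξZ hy₀ hy₀V
  set y₁ := t * y₀ * t⁻¹ with hy₁def
  have hy₁ : y₁ ∈ P := htP y₀ hy₀
  have hy₁p : y₁ ^ p = (y₀ ^ p)⁻¹ := by
    rw [hy₁def, ← conj_pow']
    exact ht _ (h.Z_le_V hp2 (h.pow_mem hy₀))
  have h1 : (y₁ * y₀) ^ p = 1 := by
    rw [h.mul_pow hp2 hy₁ hy₀, hy₁p, inv_mul_cancel]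
  have h2 : y₁ * y₀ ∈ h.V hp2 := (h.mem_V hp2).2 ⟨P.mul_mem hy₁ hy₀, h1⟩
  have h3 : ⁅y₁ * y₀, ξ⁆ = 1 :=
    commutatorElement_eq_one_iff_mul_comm.2 (h.V_comm hp2 h2 hξ)
  rw [h.comm_mul_left hy₁ hy₀ hξP] at h3
  have h4 : ⁅y₁, ξ⁆ = ⁅y₀, ξ⁆ := by
    have e1 : ξ = t * ξ⁻¹ * t⁻¹ := by
      have := ht _ ((h.V hp2).inv_mem hξ)
      rw [inv_inv] at this
      exact this.symm
    have e2 : ⁅y₁, ξ⁆ = t * ⁅y₀, ξ⁻¹⁆ * t⁻¹ := by
      conv_lhs => rw [e1, hy₁def]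
      simp only [commutatorElement_def]; group
    rw [e2, h.comm_inv_right hy₀ hξP, ht _ (h.Z_le_V hp2 (Z.inv_mem hζ₀)), inv_inv]
  rw [h4] at h3
  have h5 : ⁅y₀, ξ⁆ ^ 2 = 1 := by rw [pow_two]; exact h3
  have h6 : ⁅y₀, ξ⁆ ^ p = 1 := h.pow_Z hζ₀
  have h7 : orderOf ⁅y₀, ξ⁆ ∣ Nat.gcd 2 p :=
    Nat.dvd_gcd (orderOf_dvd_of_pow_eq_one h5) (orderOf_dvd_of_pow_eq_one h6)
  have h8 : Nat.gcd 2 p = 1 := by
    rw [Nat.coprime_primes Nat.prime_two hp.out |>.2 (Ne.symm hp2)]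
  rw [h8, Nat.dvd_one, orderOf_eq_one_iff] at h7
  exact hζ₀1 h7

/-- the main statement in `ES` form -/
theorem ES.strongly_closed (h : ES p P Z) (hp2 : p ≠ 2) (hS : IsSylIn p P ⊤) {z g : G}
    (hz : z ∈ Z) (hx : g * z * g⁻¹ ∈ P) : g * z * g⁻¹ ∈ Z := by
  by_contra hxZ
  have hz1 : z ≠ 1 := by
    rintro rfl
    apply hxZ
    have : g * 1 * g⁻¹ = 1 := by group
    rw [this]; exact Z.one_mem
  obtain ⟨n, hn1, hn2⟩ := h.exists_normalizing hp2 hS hz hx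
  rw [← hn1] at hx hxZ
  obtain ⟨ξ, hξ, hξZ, w, hw1, hw2⟩ := h.exists_rotation hp2 hz hz1 hx hxZ hn2
  have ht₀ : h.Inverts hp2 (w * w) := by
    apply h.inverts_of hp2 hz hz1 hξ hξZ
    · calc w * w * z * (w * w)⁻¹ = w * (w * z * w⁻¹) * w⁻¹ := by group
        _ = z⁻¹ := by rw [hw1, hw2]
    · calc w * w * ξ * (w * w)⁻¹ = w * (w * ξ * w⁻¹) * w⁻¹ := by group
        _ = (w * z * w⁻¹)⁻¹ := by rw [hw2]; group
        _ = ξ⁻¹ := by rw [hw1]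
  obtain ⟨t, htP, ht⟩ := h.exists_normalizer_inverting hp2 hS ht₀
  exact h.no_inverting hp2 htP ht hξ hξZ

end

theorem result' {G : Type*} [Group G] [Finite G]
    {p : ℕ} [Fact p.Prime] (hp : p ≠ 2) (P : Sylow p G) (hE : Cfsg.IsExtraspecial p ↥P)
    (hcard : Nat.card P = p ^ 3) (hexp : Monoid.exponent ↥P = p ^ 2) :
    Cfsg.IsStronglyClosed ((Subgroup.center ↥P).map (P : Subgroup G).subtype) (P : Subgroup G) := by
  have hpr : p.Prime := Fact.out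
  have hES : ES p (P : Subgroup G) ((Subgroup.center ↥P).map (P : Subgroup G).subtype) := by
    refine ⟨Subgroup.map_subtype_le _, ?_, ?_, ?_, ?_, hcard, ?_⟩
    · rintro _ ⟨c, hc, rfl⟩ a ha
      have := (Subgroup.mem_center_iff.1 hc) ⟨a, ha⟩
      exact congrArg Subtype.val this
    · intro a ha b hb
      have h1 : ⁅(⟨a, ha⟩ : ↥P), (⟨b, hb⟩ : ↥P)⁆ ∈ commutator ↥P :=
        Subgroup.commutator_mem_commutator (Subgroup.mem_top _) (Subgroup.mem_top _)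
      rw [hE.1.2.2] at h1
      exact ⟨_, h1, rfl⟩
    · rw [Subgroup.card_map_of_injective (Subgroup.subtype_injective _)]
      exact hE.2
    · intro a ha hab
      refine ⟨⟨a, ha⟩, ?_, rfl⟩
      refine Subgroup.mem_center_iff.2 ?_
      intro b
      apply Subtype.ext
      exact (hab b b.2).symm
    · by_contra hc
      push Not at hc
      have h1 : Monoid.exponent ↥P ∣ p := by
        apply Monoid.exponent_dvd_of_forall_pow_eq_one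
        intro a
        apply Subtype.ext
        exact hc a a.2
      rw [hexp] at h1
      have h2 := Nat.le_of_dvd hpr.pos h1
      have h3 : p < p ^ 2 := by
        calc p = p ^ 1 := (pow_one p).symm
          _ < p ^ 2 := Nat.pow_lt_pow_right hpr.one_lt (by norm_num)
      omega
  refine ⟨hES.le, ?_⟩
  intro x hx g hg
  exact hES.strongly_closed hp (Cfsg.Agent.Lib.Helper3.SChain.isSylIn_top P) hx hg

/-- Let p be an odd prime and G a finite group with a Sylow p-subgroup P that is extraspecial of order p³ and exponent p². Then the centre of P is strongly closed in P with respect to G: a G-conjugate of an element of Z(P) that lies in P already lies in Z(P). In particular a nontrivial central element of P is conjugate in G to no noncentral element of P. -/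
theorem result {G : Type*} [Group G] [Finite G]
    {p : ℕ} [Fact p.Prime] (hp : p ≠ 2) (P : Sylow p G) (hE : Cfsg.IsExtraspecial p ↥P)
    (hcard : Nat.card P = p ^ 3) (hexp : Monoid.exponent ↥P = p ^ 2) :
    Cfsg.IsStronglyClosed ((Subgroup.center ↥P).map (P : Subgroup G).subtype) (P : Subgroup G) := by
  exact result' hp P hE hcard hexp

end Cfsg.Agent.S3053
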