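import Cfsg.Statements.S3054
import Mathlib
import Cfsg.Agent.Lib.Helper8.XSPk

set_option autoImplicit false
open Cfsg

namespace Cfsg.Agent.S3054

/-- Let p be an odd prime and G a finite group with a Sylow p-subgroup P that is extraspecial of order p³ and exponent p. Suppose P contains three distinct subgroups A of order p² (each is elementary abelian of rank 2) such that every automorphism of A of order p is induced by conjugation by an element of G; equivalently the automorphism group induced on A by its normalizer contains the special linear group of A. Then p ≤ 13. -/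
theorem result {G : Type*} [Group G] [Finite G]
    {p : ℕ} [Fact p.Prime] (hp : p ≠ 2) (P : Sylow p G) (hE : Cfsg.IsExtraspecial p ↥P)
    (hcard : Nat.card P = p ^ 3) (hexp : Monoid.exponent ↥P = p)
    (A : Fin 3 → Subgroup G) (hA : Function.Injective A) (hAP : ∀ i, A i ≤ (P : Subgroup G))
    (hAcard : ∀ i, Nat.card ↥(A i) = p ^ 2)
    (hSL : ∀ i, ∀ φ : MulAut ↥(A i), orderOf φ = p → ∃ g : G, ∀ a : ↥(A i), (φ a : G) = g * (a : G) * g⁻¹) :
    p ≤ 13 := by
  classical
  have hexpT : ∀ a : ↥P, a ^ p = 1 := by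
    intro a
    have h := Monoid.pow_exponent_eq_one a
    rwa [hexp] at h
  have hexpG : ∀ a ∈ P, a ^ p = 1 := by
    intro a ha
    have := congrArg Subtype.val (hexpT ⟨a, ha⟩)
    simpa using this
  obtain ⟨z, hzP, hz1, hzc⟩ := Lib.Helper8.XSP.exists_z P hE hexpT
  have hzp : z ^ p = 1 := hexpG z hzP
  have hy : ∀ i, ∃ y ∈ A i, y ∉ Subgroup.zpowers z := fun i =>
    Lib.Helper8.XSP.exists_not_mem_zpowers z hz1 hzp (A i) (hAcard i)
  choose y hyA hyz using hy
  have hzA : ∀ i, z ∈ A i := fun i =>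
    Lib.Helper8.XSP.z_mem P z hzP hzc hcard hz1 hzp (A i) (hAP i) (hAcard i)
  have hyP : ∀ i, y i ∈ P := fun i => hAP i (hyA i)
  have hind : ∀ i j, i ≠ j → y i * y j ≠ y j * y i := by
    intro i j hij hcomm
    have h1 : y j ∈ A i :=
      Lib.Helper8.XSP.cent_in P z hzP hzc hcard (A i) (hAP i) (hAcard i) (y i) (hyA i) (hyz i) (y j) (hyP j)
        hcomm.symm
    have h2 : A j ≤ A i := by
      intro a ha
      have hcommAj := IsPGroup.commutative_of_card_eq_prime_sq (hAcard j)
      have h3 : a * y j = y j * a := congrArg Subtype.val (hcommAj ⟨a, ha⟩ ⟨y j, hyA j⟩)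
      exact Lib.Helper8.XSP.cent_in P z hzP hzc hcard (A i) (hAP i) (hAcard i) (y j) h1 (hyz j) a (hAP j ha) h3
    have h3 : A j = A i := Subgroup.eq_of_le_of_card_ge h2 (by rw [hAcard i, hAcard j])
    exact hij (hA h3).symm
  have hrad : ∀ i, ∀ s : ZMod p, ∃ g : G,
      g * z * g⁻¹ = z * Lib.Helper8.XSP.zp (y i) s ∧ g * y i * g⁻¹ = y i := by
    intro i s
    have hyp : y i ^ p = 1 := hexpG _ (hyP i)
    have hy1 : y i ≠ 1 := fun h => hyz i (h ▸ one_mem _)
    exact Lib.Helper8.XSP.rad_of_sl (A i) (hAcard i) (fun a ha => hexpG a (hAP i ha)) z (y i) (hzA i) (hyA i)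
      hy1 (Lib.Helper8.XSP.not_mem_zpowers_swap hzp hyp hz1 (hyz i)) (hSL i) s
  obtain ⟨l, hl⟩ := Lib.Helper8.XSP.exists_prim_root (p := p)
  have hB := Lib.Helper8.XSP.bridge P hE hcard hexp z hzP hzc y hyP hind hrad l (orderOf (l ^ 3)) rfl
  by_contra hcon
  push Not at hcon
  have h17 : 17 ≤ p := by
    have hpr := (Fact.out : p.Prime)
    by_contra h
    push Not at h
    interval_cases p <;> revert hpr <;> decide
  have h6 := Lib.Helper8.XSP.six_le_order l hl h17
  have := hB.1 h6
  simp at this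

end Cfsg.Agent.S3054
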