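import Cfsg.Statements.S3055
import Mathlib
import Cfsg.Agent.Lib.Helper8.XSPl

set_option autoImplicit false
open Cfsg

namespace Cfsg.Agent.S3055

/-- Let p be an odd prime and G a finite group with a Sylow p-subgroup P that is extraspecial of order p³ and exponent p. If all nonidentity elements of P are conjugate in G, then p ≤ 7. -/
theorem result {G : Type*} [Group G] [Finite G]
    {p : ℕ} [Fact p.Prime] (hp : p ≠ 2) (P : Sylow p G) (hE : Cfsg.IsExtraspecial p ↥P)
    (hcard : Nat.card P = p ^ 3) (hexp : Monoid.exponent ↥P = p)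
    (hconj : ∀ x y : ↥P, x ≠ 1 → y ≠ 1 → ∃ g : G, g * (x : G) * g⁻¹ = (y : G)) :
    p ≤ 7 := by
  classical
  have hexpT : ∀ a : ↥P, a ^ p = 1 := by
    intro a
    have h := Monoid.pow_exponent_eq_one a
    rwa [hexp] at h
  obtain ⟨z, hzP, hz1, hzc⟩ := Lib.Helper8.XSP.exists_z P hE hexpT
  have hp1 : 1 < p := (Fact.out : p.Prime).one_lt
  obtain ⟨yT, hne'⟩ := Lib.Helper8.XSP.exists_family hE hcard hexpT
  have hne : ∀ t t' : ZMod p, t ≠ t' → yT t * yT t' ≠ yT t' * yT t := fun t t' htt h =>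
    htt (hne' t t' h)
  have hind : ∀ t t' : ZMod p, t ≠ t' → (yT t : G) * (yT t' : G) ≠ (yT t' : G) * (yT t : G) := by
    intro t t' htt h
    exact hne t t' htt (Subtype.ext h)
  have hyz : ∀ t, (yT t : G) ∉ Subgroup.zpowers z := by
    intro t hmem
    have ht : t ≠ t + 1 := by
      intro h
      have h0 : (1 : ZMod p) = 0 := by
        have := congrArg (fun u => u - t) h
        simpa using this.symm
      have : Fact (1 < p) := ⟨hp1⟩
      exact one_ne_zero h0
    apply hind t (t + 1) ht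
    obtain ⟨k, hk⟩ := Subgroup.mem_zpowers_iff.mp hmem
    have hc := Lib.Helper8.XSP.z_central P z hzP hzc (yT (t + 1) : G) (yT (t + 1)).2
    rw [← hk]
    exact ((Commute.zpow_right (show Commute ((yT (t + 1) : ↥P) : G) z from hc) k).eq).symm
  have hrad : ∀ t, ∀ s : ZMod p, ∃ g : G,
      g * z * g⁻¹ = z * Lib.Helper8.XSP.zp (yT t : G) s ∧ g * (yT t : G) * g⁻¹ = (yT t : G) :=
    fun t s => Lib.Helper8.XSP.rad_of_conj P hE hexpT z hzP hzc hz1 hconj (yT t : G) (yT t).2
      (hyz t) s
  obtain ⟨l, hl⟩ := Lib.Helper8.XSP.exists_prim_root (p := p)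
  have hB := Lib.Helper8.XSP.bridge P hE hcard hexp z hzP hzc (fun t => (yT t : G))
    (fun t => (yT t).2) hind hrad l (orderOf (l ^ 3)) rfl
  rw [Nat.card_zmod] at hB
  by_contra hcon
  push Not at hcon
  have hpr := (Fact.out : p.Prime)
  have hcases : p = 11 ∨ p = 13 ∨ 17 ≤ p := by
    by_contra h
    push Not at h
    obtain ⟨h1, h2, h3⟩ := h
    interval_cases p <;> first | omega | (revert hpr; decide)
  have hoc := Lib.Helper8.XSP.order_cube l hl
  rcases hcases with h | h | h
  · have hg : Nat.gcd (p - 1) 3 = 1 := by rw [h]; norm_num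
    rw [hg, mul_one] at hoc
    have := hB.1 (by omega)
    omega
  · have hg : Nat.gcd (p - 1) 3 = 3 := by rw [h]; norm_num
    rw [hg] at hoc
    have := hB.2 (by omega)
    omega
  · have := hB.1 (Lib.Helper8.XSP.six_le_order l hl h)
    omega

end Cfsg.Agent.S3055
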