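import Cfsg.Statements.S3059
import Cfsg.Agent.Lib.Helper7.StronglyEmbedded
import Cfsg.Agent.Lib.Helper7.PResidual

set_option autoImplicit false
open Cfsg

namespace Cfsg.Agent.S3059

open Cfsg.Agent.Lib.Helper7

/-- Let p be a prime and H a strongly p-embedded subgroup of the finite group G in the classical sense: H is proper, p divides the order of H, and H ∩ gHg⁻¹ has order prime to p for every g outside H. Then for every normal subgroup N of G of order divisible by p, G = H · O^p(N), where O^p(N) is the subgroup generated by the elements of N of order prime to p. -/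
theorem result {G : Type*} [Group G] [Finite G]
    (p : ℕ) [Fact p.Prime] (H : Subgroup G) (hH : H ≠ ⊤) (hpH : p ∣ Nat.card H)
    (hse : ∀ g : G, g ∉ H → ¬ p ∣ Nat.card ↥(H ⊓ H.map (MulAut.conj g).toMonoidHom))
    (N : Subgroup G) [N.Normal] (hN : p ∣ Nat.card N) :
    H ⊔ Subgroup.closure {g : G | g ∈ N ∧ (orderOf g).Coprime p} = ⊤ := by
  have hloc : NormalizersOfPSubgroupsLE p H := local_of_classical hse
  obtain ⟨P, hPH⟩ := exists_sylow_le_of_local hloc hpH
  -- an element of order p in P ⊓ N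
  obtain ⟨x, hx⟩ := exists_prime_orderOf_dvd_card' p hN
  have hxo : orderOf (x : G) = p := by rw [← hx]; exact (Subgroup.orderOf_coe x)
  have hzp : IsPGroup p (Subgroup.zpowers (x : G)) := by
    apply IsPGroup.of_card (n := 1)
    rw [Nat.card_zpowers, hxo, pow_one]
  obtain ⟨P', hP'⟩ := hzp.exists_le_sylow
  obtain ⟨g, hg⟩ := MulAction.exists_smul_eq G P P'
  set x' : G := g⁻¹ * x * g with hx'
  have hx'P : x' ∈ (P : Subgroup G) := by
    have h1 : (x : G) ∈ (P' : Subgroup G) := hP' (Subgroup.mem_zpowers _)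
    rw [← hg, sylow_smul_coe_eq_map, mem_map_conj_iff] at h1
    exact h1
  have hx'N : x' ∈ N := by
    have := ‹N.Normal›.conj_mem x x.2 g⁻¹
    simpa [hx'] using this
  have hx'o : orderOf x' = p := by
    rw [← hxo]
    have := orderOf_conj_eq g⁻¹ (x : G)
    simpa [hx'] using this
  have hx'1 : x' ≠ 1 := by
    intro h1
    rw [h1, orderOf_one] at hx'o
    exact (Nat.Prime.one_lt Fact.out).ne hx'o
  -- a Sylow subgroup of N containing x'
  have hzp' : IsPGroup p (Subgroup.zpowers (⟨x', hx'N⟩ : N)) := by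
    apply IsPGroup.of_card (n := 1)
    rw [Nat.card_zpowers, pow_one, Subgroup.orderOf_mk, hx'o]
  obtain ⟨S, hS⟩ := hzp'.exists_le_sylow
  have hx'S : x' ∈ (S : Subgroup N).map N.subtype :=
    ⟨⟨x', hx'N⟩, hS (Subgroup.mem_zpowers _), rfl⟩
  have hS'p : IsPGroup p ((S : Subgroup N).map N.subtype) := S.isPGroup'.map _
  obtain ⟨P'', hP''⟩ := hS'p.exists_le_sylow
  have hP''H : (P'' : Subgroup G) ≤ H := by
    apply sylow_le_of_inf_ne_bot hloc
    intro hb
    apply hx'1
    have : x' ∈ (P'' : Subgroup G) ⊓ H := ⟨hP'' hx'S, hPH hx'P⟩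
    rw [hb, Subgroup.mem_bot] at this
    exact this
  have hS'1 : (S : Subgroup N).map N.subtype ≠ ⊥ := by
    intro hb
    apply hx'1
    rw [hb, Subgroup.mem_bot] at hx'S
    exact hx'S
  have hNS : Subgroup.normalizer (((S : Subgroup N).map N.subtype : Subgroup G) : Set G) ≤ H :=
    hloc _ (hP''.trans hP''H) hS'p hS'1
  have hHN : H ⊔ N = ⊤ := by
    rw [eq_top_iff, ← Sylow.normalizer_sup_eq_top S]
    exact sup_le_sup_right hNS N
  rw [eq_top_iff, ← hHN]
  refine sup_le le_sup_left ?_
  exact (normal_le_sylow_sup_pResidual N P).trans (sup_le_sup_right hPH _)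

end Cfsg.Agent.S3059
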