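import Cfsg.Statements.S3064
import Cfsg.Agent.Lib.Helper7.IsolatedCentral2
import Cfsg.Agent.Lib.Helper7.StronglyEmbedded

set_option autoImplicit false
open Cfsg

namespace Cfsg.Agent.S3064

open Cfsg.Agent.Lib.Helper7

/-- Let S be a Sylow p-subgroup of the finite group G and x an element of S such that (i) x is the only G-conjugate of x lying in S, and (ii) x centralizes every subgroup of order prime to p that it normalizes. Then x lies in the centre of G. -/
theorem result {G : Type*} [Group G] [Finite G] {p : ℕ} [Fact p.Prime]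
    (S : Sylow p G) (x : G) (hx : x ∈ S)
    (hU : ∀ g : G, g⁻¹ * x * g ∈ S → g⁻¹ * x * g = x)
    (hb : ∀ H : Subgroup G, (Nat.card H).Coprime p → (∀ h ∈ H, x * h * x⁻¹ ∈ H) → ∀ h ∈ H, x * h = h * x) :
    x ∈ Subgroup.center G := by

  have hSp : IsPGroup p ↥(S : Subgroup G) := S.isPGroup'
  have hxp : ∃ k : ℕ, x ^ (p ^ k) = 1 := by
    obtain ⟨k, hk⟩ := hSp ⟨x, hx⟩
    refine ⟨k, ?_⟩
    have := congrArg Subtype.val hk
    simpa using this
  have hiso : IsIsolated x := by
    intro g hcomm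
    set y : G := g * x * g⁻¹ with hy
    have hxpg : IsPGroup p ↥(Subgroup.zpowers x) := hSp.to_le (by rw [Subgroup.zpowers_le]; exact hx)
    have hypg : IsPGroup p ↥(Subgroup.zpowers y) := by
      have : Subgroup.zpowers y = (Subgroup.zpowers x).map (MulAut.conj g).toMonoidHom := by
        rw [MonoidHom.map_zpowers]; rfl
      rw [this]
      exact hxpg.map _
    have hnorm : Subgroup.zpowers y ≤ Subgroup.normalizer ((Subgroup.zpowers x : Subgroup G) : Set G) := by
      refine le_trans ?_ (Subgroup.centralizer_le_normalizer _)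
      rw [Subgroup.zpowers_le, Subgroup.mem_centralizer_iff]
      intro z hz
      obtain ⟨j, rfl⟩ := hz
      exact ((hcomm.zpow_left j).eq)
    have hR : IsPGroup p ↥(Subgroup.zpowers x ⊔ Subgroup.zpowers y) :=
      IsPGroup.to_sup_of_normal_left' hxpg hypg hnorm
    obtain ⟨S', hS'⟩ := hR.exists_le_sylow
    obtain ⟨a, ha⟩ := MulAction.exists_smul_eq G S S'
    have hxS' : x ∈ (S' : Subgroup G) := hS' (le_sup_left (a := Subgroup.zpowers x) (Subgroup.mem_zpowers x))
    have hyS' : y ∈ (S' : Subgroup G) := hS' (le_sup_right (a := Subgroup.zpowers x) (Subgroup.mem_zpowers y))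
    rw [← ha, sylow_smul_coe_eq_map] at hxS' hyS'
    obtain ⟨x₁, hx₁, hx₁e⟩ := hxS'
    obtain ⟨y₁, hy₁, hy₁e⟩ := hyS'
    have hx₁' : x₁ = a⁻¹ * x * a := by
      have : a * x₁ * a⁻¹ = x := hx₁e
      rw [← this]; group
    have hy₁' : y₁ = (g⁻¹ * a)⁻¹ * x * (g⁻¹ * a) := by
      have : a * y₁ * a⁻¹ = y := hy₁e
      have e : y₁ = a⁻¹ * y * a := by rw [← this]; group
      rw [e, hy]; group
    have h1 := hU a (hx₁' ▸ hx₁)
    have h2 := hU (g⁻¹ * a) (hy₁' ▸ hy₁)
    have h3 : a⁻¹ * y * a = a⁻¹ * x * a := by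
      rw [h1, ← h2, hy]; group
    have := mul_left_cancel (mul_right_cancel h3)
    exact this
  exact isolated_mem_center (p := p) (Nat.card G) G rfl x hxp hiso hb


end Cfsg.Agent.S3064
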