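import Cfsg.Statements.S3073
import Cfsg.Agent.S1988

set_option autoImplicit false
universe u
open Cfsg

namespace Cfsg.Agent.S3073

open Cfsg.Agent.Lib.Helper7

/-- For an odd prime p, every finite p-group S has a characteristic subgroup K with C_S(K) ≤ K such that, whenever S is (isomorphic to) a Sylow p-subgroup of a finite group G, G has a normal p-complement if and only if N_G(K)/C_G(K) is a p-group, i.e. every element of N_G(K) of order prime to p centralizes K (K transported into G along the isomorphism). -/
theorem result (p : ℕ) [Fact p.Prime] (hp : p ≠ 2)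
    (S : Type u) [Group S] [Finite S] (hS : IsPGroup p S) :
    ∃ K : Subgroup S, K.Characteristic ∧ Subgroup.centralizer (K : Set S) ≤ K ∧
      ∀ (G : Type u) [Group G] [Finite G] (P : Sylow p G) (e : ↥(P : Subgroup G) ≃* S),
        Cfsg.HasNormalPComplement p G ↔
          ∀ g ∈ Subgroup.normalizer (((K.comap (e : ↥(P : Subgroup G) →* S)).map (P : Subgroup G).subtype : Subgroup G) : Set G),
            (orderOf g).Coprime p →
              g ∈ Subgroup.centralizer (((K.comap (e : ↥(P : Subgroup G) →* S)).map (P : Subgroup G).subtype : Subgroup G) : Set G) := by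

  have hW := isCharPFunctor_kInfLower.{u} p
  haveI : Group.IsNilpotent S := hS.isNilpotent
  refine ⟨kInfLower S, ?_, (centralizer_kInf_le (P := S)).1, ?_⟩
  · rw [Subgroup.characteristic_iff_map_eq]
    intro φ
    exact hW.2 S S hS φ
  · intro G _ _ P e
    have hK : ((kInfLower S).comap (e : ↥(P : Subgroup G) →* S)).map (P : Subgroup G).subtype =
        inducedFunctor (G := G) kInfLower (P : Subgroup G) := by
      unfold inducedFunctor
      congr 1
      have h1 := hW.2 ↥(P : Subgroup G) S P.isPGroup' e
      rw [← h1]
      exact Subgroup.comap_map_eq_self_of_injective e.injective _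
    rw [hK]
    have hWc : IsConjugacyFunctor p (inducedFunctor (G := G) kInfLower) :=
      isConjugacyFunctor_inducedFunctor hW
    constructor
    · intro hG g hgN hgo
      exact (pn_top_iff.mpr hG).centralizes le_top
        (P.isPGroup'.to_le (hWc _ P.isPGroup').1) (Subgroup.mem_top g) hgN hgo
    · intro h
      exact Cfsg.Agent.S1988.result hp P (Or.inr h)


end Cfsg.Agent.S3073
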