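import Cfsg.Statements.S3075
import Mathlib.Tactic

set_option autoImplicit false
open Cfsg

namespace Cfsg.Agent.S3075

variable {N : Type*} [Group N]

theorem card_mul_le' [Finite N] (A H K : Subgroup N) (hH : H ≤ A) (hK : K ≤ A) (h : H ⊓ K = ⊥) :
    Nat.card H * Nat.card K ≤ Nat.card A := by
  rw [← Nat.card_prod]
  apply Nat.card_le_card_of_injective
    (fun p : H × K => (⟨(p.1 : N) * (p.2 : N), A.mul_mem (hH p.1.2) (hK p.2.2)⟩ : A))
  rintro ⟨⟨a, ha⟩, ⟨b, hb⟩⟩ ⟨⟨a', ha'⟩, ⟨b', hb'⟩⟩ hab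
  simp only [Subtype.mk.injEq] at hab
  have h1 : a'⁻¹ * a = b' * b⁻¹ := by
    rw [inv_mul_eq_iff_eq_mul, ← mul_assoc, eq_mul_inv_iff_mul_eq]; exact hab
  have h2 : a'⁻¹ * a ∈ H ⊓ K := by
    refine Subgroup.mem_inf.mpr ⟨H.mul_mem (H.inv_mem ha') ha, ?_⟩
    rw [h1]; exact K.mul_mem hb' (K.inv_mem hb)
  rw [h, Subgroup.mem_bot] at h2
  have h3 : a = a' := by rw [inv_mul_eq_one] at h2; exact h2.symm
  subst h3
  have h4 : b = b' := mul_left_cancel hab
  subst h4
  rfl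

theorem comm_of_cyclic (H : Subgroup N) [hHn : H.Normal] [IsCyclic H] (x y : N) (h : N) (hh : h ∈ H) :
    ((y * x)⁻¹ * (x * y)) * h = h * ((y * x)⁻¹ * (x * y)) := by
  obtain ⟨⟨g, hg⟩, hgen⟩ := IsCyclic.exists_generator (α := H)
  have pw : ∀ x : N, ∃ i : ℤ, ∀ h ∈ H, x * h * x⁻¹ = h ^ i := by
    intro x
    have h1 : x * g * x⁻¹ ∈ H := hHn.conj_mem g hg x
    obtain ⟨i, hi⟩ := Subgroup.mem_zpowers_iff.mp (hgen ⟨_, h1⟩)
    refine ⟨i, fun h hh => ?_⟩
    obtain ⟨k, hk⟩ := Subgroup.mem_zpowers_iff.mp (hgen ⟨h, hh⟩)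
    have hi' : g ^ i = x * g * x⁻¹ := by simpa using congrArg Subtype.val hi
    have hk' : g ^ k = h := by simpa using congrArg Subtype.val hk
    rw [← hk', ← conj_zpow, ← hi', ← zpow_mul, ← zpow_mul, mul_comm]
  obtain ⟨i, hi⟩ := pw x
  obtain ⟨j, hj⟩ := pw y
  have E : (x * y) * h * (x * y)⁻¹ = (y * x) * h * (y * x)⁻¹ := by
    have e1 : (x * y) * h * (x * y)⁻¹ = x * (y * h * y⁻¹) * x⁻¹ := by group
    have e2 : (y * x) * h * (y * x)⁻¹ = y * (x * h * x⁻¹) * y⁻¹ := by group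
    rw [e1, e2, hj h hh, hi h hh, hi _ (H.zpow_mem hh j), hj _ (H.zpow_mem hh i), ← zpow_mul, ← zpow_mul,
      mul_comm]
  calc (y * x)⁻¹ * (x * y) * h = (y * x)⁻¹ * ((x * y) * h * (x * y)⁻¹) * (x * y) := by group
    _ = (y * x)⁻¹ * ((y * x) * h * (y * x)⁻¹) * (x * y) := by rw [E]
    _ = h * ((y * x)⁻¹ * (x * y)) := by group

theorem core [Finite N] {p : ℕ} [hpF : Fact p.Prime] (hp : p ≠ 2) (A : Subgroup N) [hAn : A.Normal]
    (hAc : ∀ a ∈ A, ∀ b ∈ A, a * b = b * a) (hAp : ∀ a ∈ A, a ^ p = 1) (hAcard : Nat.card A = p ^ 2)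
    (hAself : Subgroup.centralizer (A : Set N) = A)
    (t : N) (ht2 : t * t = 1) (htA : t ∉ A) (htc : ∀ n : N, n * t * n⁻¹ * t⁻¹ ∈ A)
    (hnab : ¬ ∀ x y : N, (y * x)⁻¹ * (x * y) ∈ A) :
    ∃ U : Subgroup N, A ⊓ U = ⊥ ∧ A ⊔ U = ⊤ := by
  classical
  have hpodd : Odd p := hpF.out.odd_of_ne_two hp
  obtain ⟨m, hm⟩ := hpodd
  have sqrt : ∀ a ∈ A, (a ^ (m + 1)) ^ 2 = a := by
    intro a ha
    rw [← pow_mul, show (m + 1) * 2 = p + 1 by omega, pow_succ, hAp a ha, one_mul]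
  have uniq : ∀ a ∈ A, a * a = 1 → a = 1 := by
    intro a ha h
    have := sqrt a ha
    rw [← pow_mul, mul_comm, pow_mul, pow_two, h, one_pow] at this
    exact this.symm
  have tinv : t⁻¹ = t := inv_eq_of_mul_eq_one_right ht2
  have tauA : ∀ a ∈ A, t * a * t⁻¹ ∈ A := fun a ha => hAn.conj_mem a ha t
  have tautau : ∀ a, t * (t * a * t⁻¹) * t⁻¹ = a := by
    intro a
    rw [tinv]
    calc t * (t * a * t) * t = (t * t) * a * (t * t) := by group
      _ = a := by rw [ht2, one_mul, mul_one]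
  have conjA : ∀ c ∈ A, ∀ b ∈ A, c * b * c⁻¹ = b := by
    intro c hc b hb
    rw [mul_inv_eq_iff_eq_mul]; exact hAc c hc b hb
  let Ap : Subgroup N :=
    { carrier := {a | a ∈ A ∧ t * a * t⁻¹ = a}
      one_mem' := ⟨A.one_mem, by simp⟩
      mul_mem' := by
        rintro a b ⟨ha, ha'⟩ ⟨hb, hb'⟩
        refine ⟨A.mul_mem ha hb, ?_⟩
        rw [← conj_mul, ha', hb']
      inv_mem' := by
        rintro a ⟨ha, ha'⟩
        refine ⟨A.inv_mem ha, ?_⟩
        rw [← conj_inv, ha'] }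
  let Am : Subgroup N :=
    { carrier := {a | a ∈ A ∧ t * a * t⁻¹ = a⁻¹}
      one_mem' := ⟨A.one_mem, by simp⟩
      mul_mem' := by
        rintro a b ⟨ha, ha'⟩ ⟨hb, hb'⟩
        refine ⟨A.mul_mem ha hb, ?_⟩
        rw [← conj_mul, ha', hb', ← mul_inv_rev, hAc b hb a ha]
      inv_mem' := by
        rintro a ⟨ha, ha'⟩
        refine ⟨A.inv_mem ha, ?_⟩
        rw [← conj_inv, ha'] }
  have memAp : ∀ a, a ∈ Ap ↔ a ∈ A ∧ t * a * t⁻¹ = a := fun a => Iff.rfl
  have memAm : ∀ a, a ∈ Am ↔ a ∈ A ∧ t * a * t⁻¹ = a⁻¹ := fun a => Iff.rfl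
  have hApA : Ap ≤ A := fun a ha => ha.1
  have hAmA : Am ≤ A := fun a ha => ha.1
  have twist : ∀ n : N, ∃ c ∈ A, ∀ a, t * (n * a * n⁻¹) * t⁻¹ = n * (c * (t * a * t⁻¹) * c⁻¹) * n⁻¹ := by
    intro n
    refine ⟨n⁻¹ * t * n * t⁻¹, by simpa using htc n⁻¹, fun a => by group⟩
  have hApn : Ap.Normal := by
    refine ⟨fun a ha n => ?_⟩
    obtain ⟨c, hc, hcn⟩ := twist n
    refine ⟨hAn.conj_mem a ha.1 n, ?_⟩
    rw [hcn, ha.2, conjA c hc a ha.1]
  have hAmn : Am.Normal := by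
    refine ⟨fun a ha n => ?_⟩
    obtain ⟨c, hc, hcn⟩ := twist n
    refine ⟨hAn.conj_mem a ha.1 n, ?_⟩
    rw [hcn, ha.2, conjA c hc _ (A.inv_mem ha.1), conj_inv]
  have hinf : Ap ⊓ Am = ⊥ := by
    rw [eq_bot_iff]
    intro a ha
    obtain ⟨h1, h2⟩ := Subgroup.mem_inf.mp ha
    rw [Subgroup.mem_bot]
    apply uniq a h1.1
    have := h1.2.symm.trans h2.2
    rw [eq_inv_iff_mul_eq_one] at this
    exact this
  have plus_mem : ∀ b ∈ A, b * (t * b * t⁻¹) ∈ Ap := by
    intro b hb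
    refine ⟨A.mul_mem hb (tauA b hb), ?_⟩
    rw [← conj_mul, tautau, hAc _ (tauA b hb) b hb]
  have minus_mem : ∀ b ∈ A, b * (t * b * t⁻¹)⁻¹ ∈ Am := by
    intro b hb
    refine ⟨A.mul_mem hb (A.inv_mem (tauA b hb)), ?_⟩
    rw [← conj_mul, ← conj_inv, tautau, mul_inv_rev, inv_inv]
  have decomp : ∀ a ∈ A, ∃ u ∈ Ap, ∃ v ∈ Am, a = u * v := by
    intro a ha
    have hb : a ^ (m + 1) ∈ A := A.pow_mem ha _
    refine ⟨_, plus_mem _ hb, _, minus_mem _ hb, ?_⟩
    set b := a ^ (m + 1) with hbdef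
    set c := t * b * t⁻¹ with hcdef
    have hc : c ∈ A := tauA b hb
    have : b * c * (b * c⁻¹) = b ^ 2 := by
      rw [hAc b hb c hc, mul_assoc, ← mul_assoc b b, hAc (b * b) (A.mul_mem hb hb) _ (A.inv_mem hc), ← mul_assoc,
        mul_inv_cancel, one_mul, pow_two]
    rw [this, sqrt a ha]
  -- card of Ap
  have hdvd : Nat.card Ap ∣ p ^ 2 := hAcard ▸ Subgroup.card_dvd_of_le hApA
  obtain ⟨k, hk2, hk⟩ := (Nat.dvd_prime_pow hpF.out).mp hdvd
  have key : ∀ a ∈ A, t * a * t⁻¹ = a⁻¹ := by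
    interval_cases k
    · -- Ap trivial
      rw [pow_zero, Subgroup.card_eq_one] at hk
      intro a ha
      have := plus_mem a ha
      rw [hk, Subgroup.mem_bot] at this
      exact (eq_inv_of_mul_eq_one_right this)
    · -- both cyclic
      exfalso
      rw [pow_one] at hk
      have hle := card_mul_le' A Ap Am hApA hAmA hinf
      rw [hk, hAcard, pow_two] at hle
      have hle' : Nat.card Am ≤ p := Nat.le_of_mul_le_mul_left hle hpF.out.pos
      have hdvd' : Nat.card Am ∣ p ^ 2 := hAcard ▸ Subgroup.card_dvd_of_le hAmA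
      obtain ⟨j, hj2, hj⟩ := (Nat.dvd_prime_pow hpF.out).mp hdvd'
      have hj1 : j ≤ 1 := by
        by_contra hcon
        have : j = 2 := by omega
        subst this
        rw [hj] at hle'
        have := hpF.out.one_lt
        nlinarith
      have hdp : Nat.card Am ∣ p := by
        rw [hj]; exact (pow_dvd_pow p hj1).trans (by rw [pow_one])
      have : IsCyclic Ap := isCyclic_of_prime_card hk
      have : IsCyclic Am := isCyclic_of_card_dvd_prime hdp
      apply hnab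
      intro x y
      rw [← hAself, Subgroup.mem_centralizer_iff]
      intro a ha
      obtain ⟨u, hu, v, hv, rfl⟩ := decomp a ha
      have h1 := comm_of_cyclic Ap x y u hu
      have h2 := comm_of_cyclic Am x y v hv
      rw [mul_assoc, ← h2, ← mul_assoc, ← h1, mul_assoc]
    · -- Ap = A
      exfalso
      apply htA
      rw [← hAself, Subgroup.mem_centralizer_iff]
      have hEq : Ap = A := Subgroup.eq_of_le_of_card_ge hApA (by rw [hk, hAcard])
      intro a ha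
      rw [← hEq] at ha
      have := ha.2
      rw [mul_inv_eq_iff_eq_mul] at this
      exact this.symm
  refine ⟨Subgroup.centralizer {t}, ?_, ?_⟩
  · rw [eq_bot_iff]
    intro a ha
    obtain ⟨h1, h2⟩ := Subgroup.mem_inf.mp ha
    rw [Subgroup.mem_bot]
    apply uniq a h1
    rw [Subgroup.mem_centralizer_iff] at h2
    have h3 := h2 t rfl
    have h4 := key a h1
    rw [h3, mul_inv_cancel_right] at h4
    rw [eq_inv_iff_mul_eq_one] at h4
    exact h4
  · rw [eq_top_iff]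
    intro n _
    -- c' = t⁻¹ n⁻¹ t n ∈ A
    have hc : t⁻¹ * n⁻¹ * t * n ∈ A := by
      have h1 := htc n⁻¹
      have h2 := hAn.conj_mem _ h1 t⁻¹
      have : t⁻¹ * (n⁻¹ * t * n⁻¹⁻¹ * t⁻¹) * t⁻¹⁻¹ = t⁻¹ * n⁻¹ * t * n := by group
      rwa [this] at h2
    set c := t⁻¹ * n⁻¹ * t * n with hcdef
    set a := c ^ (m + 1) with hadef
    have ha : a ∈ A := A.pow_mem hc _
    have ha2 : a * a = c := by rw [← pow_two]; exact sqrt c hc
    have hw : n * a⁻¹ ∈ Subgroup.centralizer {t} := by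
      rw [Subgroup.mem_centralizer_iff]
      intro h hh
      rw [Set.mem_singleton_iff] at hh
      subst hh
      -- t * (n a⁻¹) = (n a⁻¹) * t
      have h1 : n⁻¹ * h * n = h * c := by rw [hcdef]; group
      have h2 : a⁻¹ * h * a = h * (a * a) := by
        have := key a ha
        have h3 : h⁻¹ * a⁻¹ * h = a := by
          have h4 : h * a⁻¹ * h⁻¹ = a := by rw [← conj_inv, this, inv_inv]
          rw [tinv] at h4 ⊢; exact h4
        calc a⁻¹ * h * a = h * (h⁻¹ * a⁻¹ * h) * a := by group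
          _ = h * (a * a) := by rw [h3, mul_assoc]
      rw [ha2, ← h1] at h2
      -- a⁻¹ h a = n⁻¹ h n
      calc h * (n * a⁻¹) = n * (n⁻¹ * h * n) * a⁻¹ := by group
        _ = n * (a⁻¹ * h * a) * a⁻¹ := by rw [h2]
        _ = n * a⁻¹ * h := by group
    have : n = (n * a⁻¹) * a := by group
    rw [this]
    exact (A ⊔ Subgroup.centralizer {t}).mul_mem (Subgroup.mem_sup_right hw) (Subgroup.mem_sup_left ha)

theorem result {N : Type*} [Group N] [Finite N] {p : ℕ} [Fact p.Prime] (hp : p ≠ 2)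
    (A : Subgroup N) [A.Normal] (hAcomm : IsMulCommutative A) (hAcard : Nat.card A = p ^ 2) (hAexp : Monoid.exponent ↥A = p)
    (hAself : Subgroup.centralizer (A : Set N) = A)
    {F : Type*} [Field F] [Fintype F] (hF : Fintype.card F = p) (e : N ⧸ A ≃* Matrix.SpecialLinearGroup (Fin 2) F) :
    ∃ U : Subgroup N, A ⊓ U = ⊥ ∧ A ⊔ U = ⊤ := by
  classical
  have hpP : p.Prime := Fact.out
  have hpodd : Odd p := hpP.odd_of_ne_two hp
  have hAc : ∀ a ∈ A, ∀ b ∈ A, a * b = b * a := by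
    intro a ha b hb
    have := hAcomm.is_comm.comm (⟨a, ha⟩ : A) ⟨b, hb⟩
    exact congrArg Subtype.val this
  have hAp : ∀ a ∈ A, a ^ p = 1 := by
    intro a ha
    have := Monoid.pow_exponent_eq_one (⟨a, ha⟩ : A)
    rw [hAexp] at this
    exact congrArg Subtype.val this
  -- the central involution of SL₂
  let z : Matrix.SpecialLinearGroup (Fin 2) F := ⟨-1, by simp [Matrix.det_neg]⟩
  have hzc : ∀ M : Matrix.SpecialLinearGroup (Fin 2) F, M * z = z * M := by
    intro M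
    apply Subtype.ext
    show M.1 * (-1) = (-1) * M.1
    rw [mul_neg_one, neg_one_mul]
  have hzz : z * z = 1 := by
    apply Subtype.ext
    show (-1 : Matrix (Fin 2) (Fin 2) F) * (-1) = 1
    rw [mul_neg_one, neg_neg]
  have h2F : (2 : F) ≠ 0 := by
    intro h
    have h1 : addOrderOf (1 : F) ∣ 2 := by
      apply addOrderOf_dvd_of_nsmul_eq_zero
      rw [nsmul_eq_mul, mul_one]; exact_mod_cast h
    have h2 : addOrderOf (1 : F) ∣ p := by
      have := addOrderOf_dvd_card (x := (1 : F))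
      rwa [hF] at this
    have h3 : addOrderOf (1 : F) ∣ Nat.gcd 2 p := Nat.dvd_gcd h1 h2
    have h4 : Nat.gcd 2 p = 1 := by
      rw [Nat.coprime_primes Nat.prime_two hpP |>.mpr (Ne.symm hp)]
    rw [h4, Nat.dvd_one, AddMonoid.addOrderOf_eq_one_iff] at h3
    exact one_ne_zero h3
  have hz1 : z ≠ 1 := by
    intro h
    have h1 := congrArg (fun M : Matrix.SpecialLinearGroup (Fin 2) F => M.1 0 0) h
    simp only [z] at h1
    have h2 : (-1 : F) = 1 := by simpa using h1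
    apply h2F
    have : (2 : F) = 1 - (-1) := by ring
    rw [this, h2, sub_self]
  have hzp : z ^ p = z := by
    obtain ⟨m, hm⟩ := hpodd
    rw [hm, pow_succ, pow_mul, pow_two, hzz, one_pow, one_mul]
  -- pull back to N
  obtain ⟨x, hx⟩ := QuotientGroup.mk_surjective (s := A) (e.symm z)
  have hx2 : x * x ∈ A := by
    rw [← QuotientGroup.eq_one_iff, QuotientGroup.mk_mul, hx, ← map_mul, hzz, map_one]
  set t := x ^ p with htdef
  have hpt : (QuotientGroup.mk t : N ⧸ A) = e.symm z := by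
    rw [htdef, QuotientGroup.mk_pow, hx, ← map_pow, hzp]
  have ht2 : t * t = 1 := by
    rw [htdef, ← pow_add, ← two_mul, pow_mul, pow_two]
    exact hAp _ hx2
  have htA : t ∉ A := by
    intro h
    rw [← QuotientGroup.eq_one_iff, hpt] at h
    apply hz1
    have := congrArg e h
    rwa [MulEquiv.apply_symm_apply, map_one] at this
  have htc : ∀ n : N, n * t * n⁻¹ * t⁻¹ ∈ A := by
    intro n
    rw [← QuotientGroup.eq_one_iff]
    simp only [QuotientGroup.mk_mul, QuotientGroup.mk_inv, hpt]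
    apply e.injective
    simp only [map_mul, map_inv, MulEquiv.apply_symm_apply, map_one]
    rw [hzc, mul_assoc z, mul_inv_cancel, mul_one, mul_inv_cancel]
  have hnab : ¬ ∀ x y : N, (y * x)⁻¹ * (x * y) ∈ A := by
    intro h
    have hcomm : ∀ X Y : N ⧸ A, X * Y = Y * X := by
      intro X Y
      obtain ⟨x, rfl⟩ := QuotientGroup.mk_surjective X
      obtain ⟨y, rfl⟩ := QuotientGroup.mk_surjective Y
      have := h x y
      rw [← QuotientGroup.eq_one_iff, QuotientGroup.mk_mul, QuotientGroup.mk_inv, inv_mul_eq_one] at this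
      rw [← QuotientGroup.mk_mul, ← QuotientGroup.mk_mul, this]
    let M1 : Matrix.SpecialLinearGroup (Fin 2) F := ⟨!![1, 1; 0, 1], by simp [Matrix.det_fin_two_of]⟩
    let M2 : Matrix.SpecialLinearGroup (Fin 2) F := ⟨!![1, 0; 1, 1], by simp [Matrix.det_fin_two_of]⟩
    have h1 := hcomm (e.symm M1) (e.symm M2)
    rw [← map_mul, ← map_mul] at h1
    have h2 := e.symm.injective h1
    have h3 : ((!![1, 1; 0, 1] * !![1, 0; 1, 1] : Matrix (Fin 2) (Fin 2) F)) 0 0
        = ((!![1, 0; 1, 1] * !![1, 1; 0, 1] : Matrix (Fin 2) (Fin 2) F)) 0 0 :=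
      congrArg (fun M : Matrix.SpecialLinearGroup (Fin 2) F => M.1 0 0) h2
    simp [Matrix.mul_apply, Fin.sum_univ_two] at h3
  exact core hp A hAc hAp hAcard hAself t ht2 htA htc hnab

end Cfsg.Agent.S3075
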