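import Cfsg.Statements.S3076
import Mathlib
import Cfsg.Agent.Lib.Helper8.PreimOp

set_option autoImplicit false
open Cfsg

namespace Cfsg.Agent.S3076

open Cfsg.Agent.Lib.Helper7 Cfsg.Agent.Lib.Helper8 in
theorem s3076_aux {G : Type*} [Group G] [Finite G] {p : ℕ} [Fact p.Prime] (P : Sylow p G) (H : Subgroup G) (hHP : H ≤ (P : Subgroup G)) (hSyl : ¬ p ∣ ((P : Subgroup G) ⊓ Subgroup.normalizer (H : Set G)).relIndex (Subgroup.normalizer (H : Set G))) [hC : ((Subgroup.centralizer (H : Set G)).subgroupOf (Subgroup.normalizer (H : Set G))).Normal] :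
    (H ≤ (PreimOp.opPre p ((Subgroup.centralizer (H : Set G)).subgroupOf (Subgroup.normalizer (H : Set G)))).map (Subgroup.normalizer (H : Set G)).subtype ∧ ¬ p ∣ H.relIndex ((PreimOp.opPre p ((Subgroup.centralizer (H : Set G)).subgroupOf (Subgroup.normalizer (H : Set G)))).map (Subgroup.normalizer (H : Set G)).subtype)) ↔ ((P : Subgroup G) ⊓ Subgroup.centralizer (H : Set G) ≤ H ∧ (Cfsg.pPrimePCore p ↥(Subgroup.normalizer (H : Set G))).map (Subgroup.normalizer (H : Set G)).subtype = H ⊔ Subgroup.centralizer (H : Set G)) := by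
  classical
  obtain ⟨L, hL⟩ : ∃ L : Subgroup G, L = Subgroup.normalizer (H : Set G) := ⟨_, rfl⟩
  obtain ⟨Cg, hCg⟩ : ∃ Cg : Subgroup G, Cg = Subgroup.centralizer (H : Set G) := ⟨_, rfl⟩
  revert hC
  rw [← hL] at hSyl ⊢
  rw [← hCg]
  intro hC
  have hHL : H ≤ L := by rw [hL]; exact Subgroup.le_normalizer
  have hCL : Cg ≤ L := by rw [hL, hCg]; exact Subgroup.centralizer_le_normalizer _
  obtain ⟨H', hH'⟩ : ∃ H' : Subgroup ↥L, H' = H.subgroupOf L := ⟨_, rfl⟩
  have hH'n : H'.Normal := by
    rw [hH']; subst hL; exact Subgroup.normal_in_normalizer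
  obtain ⟨C', hC'⟩ : ∃ C' : Subgroup ↥L, C' = Cg.subgroupOf L := ⟨_, rfl⟩
  revert hC
  rw [← hC']
  intro hC
  have hHp : IsPGroup p H := P.isPGroup'.to_le hHP
  have hH'p : IsPGroup p H' := by
    rw [hH']; exact hHp.comap_of_injective L.subtype L.subtype_injective
  have hC'eq : C' = Subgroup.centralizer (H' : Set ↥L) := by
    ext x
    rw [hC', Subgroup.mem_subgroupOf, hCg, Subgroup.mem_centralizer_iff,
      Subgroup.mem_centralizer_iff]
    constructor
    · intro h y hy
      rw [SetLike.mem_coe, hH', Subgroup.mem_subgroupOf] at hy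
      exact Subtype.ext (h y hy)
    · intro h y hy
      have := h ⟨y, hHL hy⟩ (by rw [SetLike.mem_coe, hH', Subgroup.mem_subgroupOf]; exact hy)
      exact congrArg Subtype.val this
  have hsyl : IsSylowIn p ((P : Subgroup G) ⊓ L) L :=
    ⟨inf_le_right, P.isPGroup'.to_le inf_le_left, hSyl⟩
  obtain ⟨S', hS'⟩ := hsyl.exists_sylow
  have key := PreimOp.main H' hH'p C' hC'eq S'
  have hmapH : H'.map L.subtype = H := by
    rw [hH', Subgroup.subgroupOf_map_subtype]; exact inf_eq_left.mpr hHL
  have hmapC : C'.map L.subtype = Cg := by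
    rw [hC', Subgroup.subgroupOf_map_subtype]; exact inf_eq_left.mpr hCL
  have hH'le : H' ≤ PreimOp.opPre p C' := by
    apply PreimOp.le_opPre p C' hH'n
    intro h hh
    obtain ⟨k, hk⟩ := hH'p ⟨h, hh⟩
    refine ⟨k, ?_⟩
    have : h ^ (p ^ k) = 1 := by
      have := congrArg Subtype.val hk
      simpa using this
    rw [this]; exact C'.one_mem
  have e0 : H ≤ (PreimOp.opPre p C').map L.subtype := by
    rw [← hmapH]; exact Subgroup.map_mono hH'le
  have e1 : H.relIndex ((PreimOp.opPre p C').map L.subtype) = H'.relIndex (PreimOp.opPre p C') := by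
    have := Subgroup.relIndex_map_map_of_injective H' (PreimOp.opPre p C') L.subtype_injective
    rw [hmapH] at this
    exact this
  have e2 : ((P : Subgroup G) ⊓ Cg ≤ H) ↔ ((S' : Subgroup ↥L) ⊓ C' ≤ H') := by
    constructor
    · intro h x hx
      rw [hH', Subgroup.mem_subgroupOf]
      apply h
      obtain ⟨hx1, hx2⟩ := Subgroup.mem_inf.mp hx
      rw [hS', Subgroup.mem_subgroupOf] at hx1
      rw [hC', Subgroup.mem_subgroupOf] at hx2
      exact ⟨hx1.1, hx2⟩
    · intro h y hy
      have hyL : y ∈ L := hCL hy.2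
      have : (⟨y, hyL⟩ : ↥L) ∈ H' := by
        apply h
        refine Subgroup.mem_inf.mpr ⟨?_, ?_⟩
        · rw [hS', Subgroup.mem_subgroupOf]; exact ⟨hy.1, hyL⟩
        · rw [hC', Subgroup.mem_subgroupOf]; exact hy.2
      rw [hH', Subgroup.mem_subgroupOf] at this
      exact this
  have e3 : ((Cfsg.pPrimePCore p ↥L).map L.subtype = H ⊔ Cg) ↔
      (Cfsg.pPrimePCore p ↥L = H' ⊔ C') := by
    constructor
    · intro h
      apply Subgroup.map_injective L.subtype_injective
      rw [h, Subgroup.map_sup, hmapH, hmapC]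
    · intro h
      rw [h, Subgroup.map_sup, hmapH, hmapC]
  rw [e1, e2, e3]
  constructor
  · rintro ⟨-, h⟩
    exact key.mp h
  · intro h
    exact ⟨e0, key.mpr h⟩

/-- Let P be a Sylow p-subgroup of the finite group G and H ≤ P a subgroup with N_P(H) a Sylow p-subgroup of N_G(H). Let N be the preimage in N_G(H) of O_p(N_G(H)/C_G(H)). Then H is a Sylow p-subgroup of N if and only if C_P(H) ≤ H and O_{p',p}(N_G(H)) = H·C_G(H). -/
theorem result {G : Type*} [Group G] [Finite G] {p : ℕ} [Fact p.Prime]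
    (P : Sylow p G) (H : Subgroup G) (hHP : H ≤ (P : Subgroup G))
    (hSyl : ¬ p ∣ ((P : Subgroup G) ⊓ Subgroup.normalizer (H : Set G)).relIndex (Subgroup.normalizer (H : Set G)))
    [hC : ((Subgroup.centralizer (H : Set G)).subgroupOf (Subgroup.normalizer (H : Set G))).Normal] :
    (H ≤ ((Cfsg.pCore p (↥(Subgroup.normalizer (H : Set G)) ⧸
              (Subgroup.centralizer (H : Set G)).subgroupOf (Subgroup.normalizer (H : Set G)))).comap
            (QuotientGroup.mk' _)).map (Subgroup.normalizer (H : Set G)).subtype ∧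
      ¬ p ∣ H.relIndex (((Cfsg.pCore p (↥(Subgroup.normalizer (H : Set G)) ⧸
              (Subgroup.centralizer (H : Set G)).subgroupOf (Subgroup.normalizer (H : Set G)))).comap
            (QuotientGroup.mk' _)).map (Subgroup.normalizer (H : Set G)).subtype)) ↔
    ((P : Subgroup G) ⊓ Subgroup.centralizer (H : Set G) ≤ H ∧
      (Cfsg.pPrimePCore p ↥(Subgroup.normalizer (H : Set G))).map (Subgroup.normalizer (H : Set G)).subtype =
        H ⊔ Subgroup.centralizer (H : Set G)) := by
  exact s3076_aux P H hHP hSyl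

end Cfsg.Agent.S3076
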