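import Cfsg.Statements.S3087
import Mathlib

set_option autoImplicit false
open Cfsg

namespace Cfsg.Agent.S3087


theorem card_inf_mul_card_sup {V : Type*} [AddCommGroup V] [Finite V] (p : ℕ) [Fact p.Prime]
    [Module (ZMod p) V] (X Y : Submodule (ZMod p) V) :
    Nat.card ↥(X ⊓ Y) * Nat.card ↥(X ⊔ Y) = Nat.card ↥X * Nat.card ↥Y := by
  have hfin : Module.Finite (ZMod p) V := Module.Finite.of_finite
  rw [Module.natCard_eq_pow_finrank (K := ZMod p) (V := ↥(X ⊓ Y)),
    Module.natCard_eq_pow_finrank (K := ZMod p) (V := ↥(X ⊔ Y)),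
    Module.natCard_eq_pow_finrank (K := ZMod p) (V := ↥X),
    Module.natCard_eq_pow_finrank (K := ZMod p) (V := ↥Y), ← pow_add, ← pow_add,
    ← Submodule.finrank_sup_add_finrank_inf_eq X Y, add_comm]


/-- Let p be a prime, G a finite group acting linearly on a finite vector space V over the field with p elements, W a G-invariant subspace, and A a subgroup of G with |A|·|C_V(A)| ≥ |B|·|C_V(B)| for every subgroup B of A. Then |A|·|C_W(A)| ≥ |B|·|C_W(B)| for every subgroup B of A that contains C_A(W); that is, the image of A in the group induced on W satisfies the same maximality condition. -/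
theorem result {G V : Type*} [Group G] [Finite G] [AddCommGroup V] [Finite V] (p : ℕ) [Fact p.Prime] [Module (ZMod p) V]
    (ρ : Representation (ZMod p) G V) (W : Submodule (ZMod p) V) (hW : ∀ g : G, ∀ w ∈ W, ρ g w ∈ W)
    (A : Subgroup G)
    (hP : ∀ B : Subgroup G, B ≤ A →
      Nat.card ↥B * Nat.card {v : V // ∀ b ∈ B, ρ b v = v} ≤ Nat.card ↥A * Nat.card {v : V // ∀ a ∈ A, ρ a v = v})
    (B : Subgroup G) (hBA : B ≤ A) (hCB : ∀ a ∈ A, (∀ w ∈ W, ρ a w = w) → a ∈ B) :
    Nat.card ↥B * Nat.card {w : W // ∀ b ∈ B, ρ b w = w} ≤ Nat.card ↥A * Nat.card {w : W // ∀ a ∈ A, ρ a w = w} := by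
  classical
  let F : Subgroup G → Submodule (ZMod p) V := fun B =>
    { carrier := {v | ∀ b ∈ B, ρ b v = v}
      add_mem' := by
        intro x y hx hy b hb
        rw [map_add, hx b hb, hy b hb]
      zero_mem' := by
        intro b _
        rw [map_zero]
      smul_mem' := by
        intro c x hx b hb
        rw [map_smul, hx b hb] }
  have e1 : ∀ B : Subgroup G, Nat.card {v : V // ∀ b ∈ B, ρ b v = v} = Nat.card ↥(F B) :=
    fun B => rfl
  have e2 : ∀ B : Subgroup G, Nat.card {w : W // ∀ b ∈ B, ρ b w = w} = Nat.card ↥(F B ⊓ W) := by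
    intro B
    apply Nat.card_congr
    exact
      { toFun := fun w => ⟨w.1.1, ⟨w.2, w.1.2⟩⟩
        invFun := fun v => ⟨⟨v.1, v.2.2⟩, v.2.1⟩
        left_inv := fun w => rfl
        right_inv := fun v => rfl }
  rw [e2 B, e2 A]
  have h1 := hP B hBA
  rw [e1 B, e1 A] at h1
  have hFle : F A ≤ F B := by
    intro v hv b hb
    exact hv b (hBA hb)
  have hsup : Nat.card ↥(F A ⊔ W) ≤ Nat.card ↥(F B ⊔ W) :=
    Nat.card_mono (Set.toFinite _) (show ((F A ⊔ W : Submodule (ZMod p) V) : Set V) ⊆ (F B ⊔ W : Submodule (ZMod p) V) from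
      sup_le_sup_right hFle W)
  have kB := card_inf_mul_card_sup p (F B) W
  have kA := card_inf_mul_card_sup p (F A) W
  have hpos : 0 < Nat.card ↥(F B ⊔ W) := Nat.card_pos
  apply Nat.le_of_mul_le_mul_right _ hpos
  calc Nat.card ↥B * Nat.card ↥(F B ⊓ W) * Nat.card ↥(F B ⊔ W)
      = Nat.card ↥B * Nat.card ↥(F B) * Nat.card ↥W := by rw [mul_assoc, kB, ← mul_assoc]
    _ ≤ Nat.card ↥A * Nat.card ↥(F A) * Nat.card ↥W := Nat.mul_le_mul_right _ h1
    _ = Nat.card ↥A * Nat.card ↥(F A ⊓ W) * Nat.card ↥(F A ⊔ W) := by rw [mul_assoc, ← kA, ← mul_assoc]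
    _ ≤ Nat.card ↥A * Nat.card ↥(F A ⊓ W) * Nat.card ↥(F B ⊔ W) := Nat.mul_le_mul_left _ hsup

end Cfsg.Agent.S3087
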