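import Cfsg.Statements.S3153
import Cfsg.Agent.Lib.Helper5.SRCU15
import Cfsg.Agent.Lib.Helper4.SRCU2
import Cfsg.Agent.Lib.Helper4.SRCU3
import Cfsg.Agent.Lib.Helper9.SRCU4
import Cfsg.Agent.Lib.Helper3.SRCU6v
import Cfsg.Agent.Lib.Helper7.SRCU7
import Cfsg.Agent.Lib.Helper3.SRCU8
import Cfsg.Agent.Lib.Helper1.FittingCentralizer
import Cfsg.Agent.Lib.Helper1.PLengthOne

set_option autoImplicit false
open Cfsg

namespace Cfsg.Agent.S3153


theorem result {X : Type*} [Group X] [Finite X] (P : Subgroup X) (hP : Cfsg.IsStandardSubgroup P)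
    (hr : Cfsg.PRankLE 2 1 ↥(Subgroup.centralizer (P : Set X))) (hZ : Odd (Nat.card ↥(Subgroup.center ↥P)))
    (S : Sylow 2 ↥(Subgroup.normalizer (P : Set X))) (t : X) (ht : orderOf t = 2) (htS : t ∈ (S : Subgroup ↥(Subgroup.normalizer (P : Set X))).map (Subgroup.normalizer (P : Set X)).subtype)
    (htP : t ∈ Subgroup.centralizer (P : Set X))
    (g : X) (hgN : ∀ s ∈ (S : Subgroup ↥(Subgroup.normalizer (P : Set X))).map (Subgroup.normalizer (P : Set X)).subtype, g * s * g⁻¹ ∈ (S : Subgroup ↥(Subgroup.normalizer (P : Set X))).map (Subgroup.normalizer (P : Set X)).subtype)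
    (hgS : g ∉ (S : Subgroup ↥(Subgroup.normalizer (P : Set X))).map (Subgroup.normalizer (P : Set X)).subtype) (hg2 : g ^ 2 ∈ (S : Subgroup ↥(Subgroup.normalizer (P : Set X))).map (Subgroup.normalizer (P : Set X)).subtype)
    (hgt : g * t * g⁻¹ ∈ P ⊔ Subgroup.centralizer (P : Set X)) :
    ⁅P, Cfsg.oddCore X⁆ = ⊥ ∧
      ∀ L : Subgroup X, Cfsg.IsPComponent 2 L → P ≤ L → (∀ l ∈ L, t * l * t⁻¹ ∈ L) → Cfsg.IsQuasisimple ↥L := by
  obtain ⟨hq, hK, -, hN⟩ := hP
  have hT : IsPGroup 2 ↥((S : Subgroup ↥(Subgroup.normalizer (P : Set X))).map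
      (Subgroup.normalizer (P : Set X)).subtype) := S.isPGroup'.map _
  have hTN : (S : Subgroup ↥(Subgroup.normalizer (P : Set X))).map
      (Subgroup.normalizer (P : Set X)).subtype ≤ Subgroup.normalizer (P : Set X) :=
    Subgroup.map_subtype_le _
  -- step 1
  have hCt : ∀ x : X, x * t = t * x → x ∈ Subgroup.normalizer (P : Set X) :=
    fun x hx => Cfsg.Agent.Lib.Helper5.SRC.U1 P hK hN t ht htP x hx
  -- step 2
  have hcen : ∀ y ∈ (S : Subgroup ↥(Subgroup.normalizer (P : Set X))).map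
      (Subgroup.normalizer (P : Set X)).subtype, y * t = t * y :=
    fun y hy => Cfsg.Agent.Lib.Helper4.SRC.U2 P hr _ hT hTN t ht htS htP y hy
  have ht2 : t ^ 2 = 1 := by rw [← ht]; exact pow_orderOf_eq_one t
  have htt : t * t = 1 := by rw [← pow_two]; exact ht2
  -- step 3
  obtain ⟨s, hsdef⟩ : ∃ s : X, s = g * t * g⁻¹ := ⟨_, rfl⟩
  have hsT : s ∈ (S : Subgroup ↥(Subgroup.normalizer (P : Set X))).map
      (Subgroup.normalizer (P : Set X)).subtype := by rw [hsdef]; exact hgN t htS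
  have hs2 : orderOf s = 2 := by
    rw [hsdef, ← ht, ← MulAut.conj_apply]
    exact MulEquiv.orderOf_eq _ _
  have hst : s * t = t * s := hcen s hsT
  have hne : s ≠ t := by
    intro h
    have hg : g * t = t * g := by
      calc g * t = (g * t * g⁻¹) * g := by group
        _ = t * g := by rw [← hsdef, h]
    exact hgS (Cfsg.Agent.Lib.Helper4.SRC.U3 _ S g (hCt g hg) hgN hg2)
  have hgsg : g * s * g⁻¹ = t := by
    have h1 := hcen (g ^ 2) hg2
    calc g * s * g⁻¹ = g ^ 2 * t * (g ^ 2)⁻¹ := by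
          rw [hsdef]; simp only [pow_two, mul_inv_rev, mul_assoc]
      _ = t := by rw [h1, mul_inv_cancel_right]
  -- step 4
  obtain ⟨p, hpP, hp2, hsp⟩ := Cfsg.Agent.Lib.Helper9.SRC.U4 P hr hZ t ht htP s hs2 hst hne (hsdef ▸ hgt)
  have hPt : ∀ y ∈ P, y * t = t * y := fun y hy => (Subgroup.mem_centralizer_iff.1 htP) y hy
  -- the odd core
  have hWn : (Cfsg.oddCore X).Normal := Cfsg.Agent.Lib.Helper1.pPrimeCore_normal 2
  have hWodd : Odd (Nat.card ↥(Cfsg.oddCore X)) :=
    (Cfsg.Agent.Lib.Helper1.pPrimeCore_card_coprime (G := X) 2).odd_of_right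
  -- step 5
  have h5 : ∀ w ∈ Cfsg.oddCore X, w * t = t * w → w ∈ Subgroup.centralizer (P : Set X) :=
    fun w hw hwt => Cfsg.Agent.Lib.Helper5.SRC.U5 P hq p hpP hp2 t hCt w hw hwt
  -- anything commuting with `p` and `t` commutes with `s`
  have hcs : ∀ w : X, w * p = p * w → w * t = t * w → w * s = s * w := by
    intro w hwp hwt
    rcases hsp with h | h
    · rw [h]; exact hwp
    · rw [h, ← mul_assoc, hwp, mul_assoc, hwt, mul_assoc]
  have hcts : ∀ w : X, w * t = t * w → w * s = s * w → w * (t * s) = (t * s) * w := by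
    intro w hwt hws
    rw [← mul_assoc, hwt, mul_assoc, hws, mul_assoc]
  -- step 6
  have hWD : Cfsg.oddCore X ≤ Subgroup.centralizer {t * s} := by
    apply Cfsg.Agent.Lib.Helper3.SRC.U6 (Cfsg.oddCore X) hWodd t s ht hs2 hst hne
    · intro w hw hwt
      have hwP := h5 w hw hwt
      have hwp : w * p = p * w := ((Subgroup.mem_centralizer_iff.1 hwP) p hpP).symm
      rw [Subgroup.mem_centralizer_iff]
      intro h hh
      rw [Set.mem_singleton_iff] at hh
      subst hh
      exact (hcts w hwt (hcs w hwp hwt)).symm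
    · intro w hw hws
      have hw' : g⁻¹ * w * g ∈ Cfsg.oddCore X := by
        have := hWn.conj_mem w hw g⁻¹
        rwa [inv_inv] at this
      have hw't : g⁻¹ * w * g * t = t * (g⁻¹ * w * g) := by
        calc g⁻¹ * w * g * t = g⁻¹ * (w * (g * t * g⁻¹)) * g := by group
          _ = g⁻¹ * ((g * t * g⁻¹) * w) * g := by rw [← hsdef, hws]
          _ = t * (g⁻¹ * w * g) := by group
      have hw'P := h5 _ hw' hw't
      have hw'p : p * (g⁻¹ * w * g) = (g⁻¹ * w * g) * p :=
        (Subgroup.mem_centralizer_iff.1 hw'P) p hpP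
      have hwgp : w * (g * p * g⁻¹) = (g * p * g⁻¹) * w := by
        calc w * (g * p * g⁻¹) = g * ((g⁻¹ * w * g) * p) * g⁻¹ := by group
          _ = g * (p * (g⁻¹ * w * g)) * g⁻¹ := by rw [hw'p]
          _ = (g * p * g⁻¹) * w := by group
      have hwt : w * t = t * w := by
        rcases hsp with h | h
        · have : t = g * p * g⁻¹ := by rw [← hgsg, h]
          rw [this]; exact hwgp
        · have : t = (g * p * g⁻¹) * s := by
            calc t = g * s * g⁻¹ := hgsg.symm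
              _ = g * (p * t) * g⁻¹ := by rw [← h]
              _ = (g * p * g⁻¹) * (g * t * g⁻¹) := by group
              _ = (g * p * g⁻¹) * s := by rw [← hsdef]
          rw [this]
          calc w * (g * p * g⁻¹ * s) = (w * (g * p * g⁻¹)) * s := by simp only [mul_assoc]
            _ = (g * p * g⁻¹) * (w * s) := by rw [hwgp]; simp only [mul_assoc]
            _ = (g * p * g⁻¹ * s) * w := by rw [hws]; simp only [mul_assoc]
      rw [Subgroup.mem_centralizer_iff]
      intro h hh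
      rw [Set.mem_singleton_iff] at hh
      subst hh
      exact (hcts w hwt hws).symm
    · intro w _ hwts
      rw [Subgroup.mem_centralizer_iff]
      intro h hh
      rw [Set.mem_singleton_iff] at hh
      subst hh
      exact hwts.symm
  have hu : ∀ w ∈ Cfsg.oddCore X, (t * s) * w = w * (t * s) := by
    intro w hw
    exact (Subgroup.mem_centralizer_iff.1 (hWD hw)) (t * s) (Set.mem_singleton _)
  -- step 7
  have hup : ∀ x ∈ P, x * (t * s) * x⁻¹ * (t * s)⁻¹ = x * p * x⁻¹ * p⁻¹ := by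
    intro x hx
    rcases hsp with h | h
    · have hcP : x * p * x⁻¹ * p⁻¹ ∈ P :=
        P.mul_mem (P.mul_mem (P.mul_mem hx hpP) (P.inv_mem hx)) (P.inv_mem hpP)
      have hc := hPt _ hcP
      calc x * (t * s) * x⁻¹ * (t * s)⁻¹ = (x * t) * p * x⁻¹ * p⁻¹ * t⁻¹ := by
            rw [h]; simp only [mul_inv_rev, mul_assoc]
        _ = t * (x * p * x⁻¹ * p⁻¹) * t⁻¹ := by rw [hPt x hx]; simp only [mul_assoc]
        _ = (x * p * x⁻¹ * p⁻¹) * t * t⁻¹ := by rw [← hc]
        _ = x * p * x⁻¹ * p⁻¹ := mul_inv_cancel_right _ _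
    · have hts : t * s = p := by
        rw [h, ← mul_assoc, ← hPt p hpP, mul_assoc, htt, mul_one]
      rw [hts]
  have hclaim1 : ⁅P, Cfsg.oddCore X⁆ = ⊥ :=
    Cfsg.Agent.Lib.Helper7.SRC.U7 P hq hZ (Cfsg.oddCore X) p hpP hp2 (t * s) hu hup
  exact ⟨hclaim1, fun L hL hPL _ => Cfsg.Agent.Lib.Helper3.SRC.U8 P hq hclaim1 L hL hPL⟩

end Cfsg.Agent.S3153
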