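import Cfsg.Statements.S3154
import Cfsg.Agent.Lib.Helper8.L34Defs
import Cfsg.Agent.Lib.Helper8.L34UH
import Cfsg.Agent.Lib.Helper8.L34UI
import Cfsg.Agent.Lib.Helper7.L34UA
import Cfsg.Agent.Lib.Helper6.L34UB1
import Cfsg.Agent.Lib.Helper6.L34UB2
import Cfsg.Agent.Lib.Helper9.L34UC1
import Cfsg.Agent.Lib.Helper9.L34UC2
import Cfsg.Agent.Lib.Helper5.L34UD
import Cfsg.Agent.Lib.Helper2.L34UE
import Cfsg.Agent.Lib.Helper2.L34UG
import Cfsg.Agent.Lib.Helper3.L34UF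
import Cfsg.Agent.Lib.Helper1.L34UJ
import Cfsg.Agent.Lib.Helper6.UniGL4
import Cfsg.Agent.Lib.Helper4.L34a

set_option autoImplicit false
open Cfsg

namespace Cfsg.Agent.S3154

open Cfsg.Agent.Lib.Helper8.L34

theorem result {X : Type*} [Group X] [Finite X] (hq : Cfsg.IsQuasisimple X) (hZ : Cfsg.IsElementaryAbelian 2 (Subgroup.center X))
    {F : Type*} [Field F] [Fintype F] (hF : Fintype.card F = 4) (hXL : Nonempty ((X ⧸ Subgroup.center X) ≃* Matrix.ProjectiveSpecialLinearGroup (Fin 3) F))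
    (T : Sylow 2 X) (H K : Subgroup X) (hHK : H ≠ K) (hHT : H ≤ T) (hKT : K ≤ T) (hZH : Subgroup.center X ≤ H) (hZK : Subgroup.center X ≤ K)
    (hH : Cfsg.IsElementaryAbelian 2 (H.map (QuotientGroup.mk' (Subgroup.center X))) ∧ Nat.card ↥(H.map (QuotientGroup.mk' (Subgroup.center X))) = 16)
    (hK : Cfsg.IsElementaryAbelian 2 (K.map (QuotientGroup.mk' (Subgroup.center X))) ∧ Nat.card ↥(K.map (QuotientGroup.mk' (Subgroup.center X))) = 16) :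
    Cfsg.IsElementaryAbelian 2 H ∧ Cfsg.IsElementaryAbelian 2 K ∧
      H ⊓ K = (Subgroup.center ↥(H ⊔ K)).map (H ⊔ K).subtype ∧
      (∃ C : Subgroup X, C ≤ Subgroup.normalizer (H : Set X) ∧ C ⊓ H = ⊥ ∧ H ⊔ C = Subgroup.normalizer (H : Set X) ∧
        Nonempty (↥C ≃* Matrix.ProjectiveSpecialLinearGroup (Fin 2) F)) ∧
      (∃ C : Subgroup X, C ≤ Subgroup.normalizer (K : Set X) ∧ C ⊓ K = ⊥ ∧ K ⊔ C = Subgroup.normalizer (K : Set X) ∧
        Nonempty (↥C ≃* Matrix.ProjectiveSpecialLinearGroup (Fin 2) F)) := by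
  classical
  have hchar : CharP F 2 := Cfsg.Agent.Lib.Helper4.L34.charP_two_of_even (by rw [hF])
  have hp2 : Fact (Nat.Prime 2) := ⟨Nat.prime_two⟩
  obtain ⟨φ⟩ := hXL
  -- the concrete side
  have hfinS : Finite (Matrix.SpecialLinearGroup (Fin 3) F) := inferInstance
  have hfinP : Finite (Matrix.ProjectiveSpecialLinearGroup (Fin 3) F) := Quotient.finite _
  have hodd := Cfsg.Agent.Lib.Helper7.L34UA.UA_center_pow_three (F := F)
  have hUp : IsPGroup 2 ↥(U F) := IsPGroup.of_card (n := 6) (by rw [Cfsg.Agent.Lib.Helper7.L34UA.UA_card_U hF]; norm_num)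
  have hdisj := Cfsg.Agent.Lib.Helper2.L34UG.UG_disjoint_center (U F) hUp hodd
  have hUp' : IsPGroup 2 ↥(A1 F ⊔ A2 F) := by rw [Cfsg.Agent.Lib.Helper7.L34UA.UA_sup_eq_U]; exact hUp
  have hUp'' : IsPGroup 2 ↥(A2 F ⊔ A1 F) := by rw [sup_comm, Cfsg.Agent.Lib.Helper7.L34UA.UA_sup_eq_U]; exact hUp
  have hcen' : ∀ z ∈ A1 F ⊔ A2 F, (∀ w ∈ A1 F ⊔ A2 F, z * w = w * z) → z ∈ A1 F ⊓ A2 F := by
    rw [Cfsg.Agent.Lib.Helper7.L34UA.UA_sup_eq_U]; exact Cfsg.Agent.Lib.Helper7.L34UA.UA_center_U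
  have hcen'' : ∀ z ∈ A2 F ⊔ A1 F, (∀ w ∈ A2 F ⊔ A1 F, z * w = w * z) → z ∈ A2 F ⊓ A1 F := by
    rw [sup_comm, inf_comm, Cfsg.Agent.Lib.Helper7.L34UA.UA_sup_eq_U]; exact Cfsg.Agent.Lib.Helper7.L34UA.UA_center_U
  have f12 := Cfsg.Agent.Lib.Helper2.L34UE.UE_facts_of_leviData (F := F) (A1 F) (A2 F) (L1 F) (X12 F) hodd hUp' hcen'
    ⟨Cfsg.Agent.Lib.Helper6.L34UB1.UB1_normalizer_A1 hF, Cfsg.Agent.Lib.Helper9.L34UC1.L1_le_normalizer, Cfsg.Agent.Lib.Helper9.L34UC1.trans_A1, Cfsg.Agent.Lib.Helper9.L34UC1.disj_A1, Cfsg.Agent.Lib.Helper5.L34UD.UD_L1_iso hF, Cfsg.Agent.Lib.Helper7.L34UA.UA_X12_le_A2,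
      Cfsg.Agent.Lib.Helper5.L34UD.UD_X12_sylow hF⟩
  have f21 := Cfsg.Agent.Lib.Helper2.L34UE.UE_facts_of_leviData (F := F) (A2 F) (A1 F) (L2 F) (X23 F) hodd hUp'' hcen''
    ⟨Cfsg.Agent.Lib.Helper6.L34UB2.UB2_normalizer_A2 hF, Cfsg.Agent.Lib.Helper9.L34UC2.L2_le_normalizer, Cfsg.Agent.Lib.Helper9.L34UC2.trans_A2, Cfsg.Agent.Lib.Helper9.L34UC2.disj_A2, Cfsg.Agent.Lib.Helper5.L34UD.UD_L2_iso hF, Cfsg.Agent.Lib.Helper7.L34UA.UA_X23_le_A1,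
      Cfsg.Agent.Lib.Helper5.L34UD.UD_X23_sylow hF⟩
  have hcl := Cfsg.Agent.Lib.Helper2.L34UG.UG_classify_map (U F) (A1 F) (A2 F) hdisj (fun A hA h2 hc => Cfsg.Agent.Lib.Helper7.L34UA.UA_eq_A1_or_A2 hF A hA h2 hc)
  have hUbp : IsPGroup 2 ↥((U F).map (QuotientGroup.mk' (Subgroup.center (Matrix.SpecialLinearGroup (Fin 3) F)))) :=
    hUp.map _
  have hUcard : ∀ T : Sylow 2 (Matrix.ProjectiveSpecialLinearGroup (Fin 3) F),
      Nat.card ↥(T : Subgroup (Matrix.ProjectiveSpecialLinearGroup (Fin 3) F)) =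
        Nat.card ↥((U F).map (QuotientGroup.mk' (Subgroup.center (Matrix.SpecialLinearGroup (Fin 3) F)))) := by
    intro T
    rw [Cfsg.Agent.Lib.Helper2.L34UG.UG_card_map (U F) hdisj, Cfsg.Agent.Lib.Helper7.L34UA.UA_card_U hF,
      Cfsg.Agent.Lib.Helper6.UniGL.card_sylow_PSL (F := F) 2 3 (by norm_num) T, hF]
    rfl
  -- the quotient
  set π := QuotientGroup.mk' (Subgroup.center X) with hπ
  have hsurj : Function.Surjective π := QuotientGroup.mk'_surjective _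
  let Tb : Sylow 2 (X ⧸ Subgroup.center X) := T.mapSurjective hsurj
  have hTb : (Tb : Subgroup (X ⧸ Subgroup.center X)) = (T : Subgroup X).map π := Sylow.coe_mapSurjective hsurj T
  have hHTb : H.map π ≤ Tb := by rw [hTb]; exact Subgroup.map_mono hHT
  have hKTb : K.map π ≤ Tb := by rw [hTb]; exact Subgroup.map_mono hKT
  have hcomapH : (H.map π).comap π = H := by
    rw [Subgroup.comap_map_eq, QuotientGroup.ker_mk']
    exact sup_eq_left.mpr hZH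
  have hcomapK : (K.map π).comap π = K := by
    rw [Subgroup.comap_map_eq, QuotientGroup.ker_mk']
    exact sup_eq_left.mpr hZK
  have hHKb : H.map π ≠ K.map π := by
    intro h
    apply hHK
    rw [← hcomapH, ← hcomapK, h]
  have hKHb : K.map π ≠ H.map π := fun h => hHKb h.symm
  have fHK : Facts F (H.map π) (K.map π) :=
    Cfsg.Agent.Lib.Helper3.L34UF.UF_facts_of_iso _ _ _ hUcard hUbp hcl f12 f21 φ Tb _ _ hHKb hHTb hKTb hH.1.2 hK.1.2 hH.2 hK.2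
  have fKH : Facts F (K.map π) (H.map π) :=
    Cfsg.Agent.Lib.Helper3.L34UF.UF_facts_of_iso _ _ _ hUcard hUbp hcl f12 f21 φ Tb _ _ hKHb hKTb hHTb hK.1.2 hH.1.2 hK.2 hH.2
  have hHe : Cfsg.IsElementaryAbelian 2 H := Cfsg.Agent.Lib.Helper8.L34UH.UH_elemAb_of_trans hZ H hZH hH.1.2 hH.2 fHK.trans
  have hKe : Cfsg.IsElementaryAbelian 2 K := Cfsg.Agent.Lib.Helper8.L34UH.UH_elemAb_of_trans hZ K hZK hK.1.2 hK.2 fKH.trans
  refine ⟨hHe, hKe, Cfsg.Agent.Lib.Helper8.L34UI.UI_inf_eq_center H K hZH hZK hHe.1 hKe.1 fHK.center, ?_, ?_⟩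
  · obtain ⟨C, D, h1, h2, h3, h4, h5, h6⟩ := fHK.compl
    exact Cfsg.Agent.Lib.Helper1.L34UJ.UJ_exists_complement hZ H K hZH hZK hKe C D h1 h2 h3 h4 h5 h6
  · obtain ⟨C, D, h1, h2, h3, h4, h5, h6⟩ := fKH.compl
    exact Cfsg.Agent.Lib.Helper1.L34UJ.UJ_exists_complement hZ K H hZK hZH hHe C D h1 h2 h3 h4 h5 h6

end Cfsg.Agent.S3154
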