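import Cfsg.Statements.S3155
import Mathlib

set_option autoImplicit false
open Cfsg

namespace Cfsg.Agent.S3155

abbrev V := ZMod 4 × ZMod 4 × ZMod 4

theorem fr : Module.finrank (ZMod 4) V = 3 := by
  haveI : Fact (1 < 4) := ⟨by norm_num⟩
  show Module.finrank (ZMod 4) (ZMod 4 × ZMod 4 × ZMod 4) = 3
  rw [Module.finrank_prod, Module.finrank_prod, Module.finrank_self]

theorem no_sqrt (F : V →ₗ[ZMod 4] V) (h : F ∘ₗ F = -LinearMap.id) : False := by
  haveI : Fact (1 < 4) := ⟨by norm_num⟩
  have h1 : LinearMap.det (F ∘ₗ F) = LinearMap.det F * LinearMap.det F := by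
    rw [← Module.End.mul_eq_comp, map_mul]
  have h2 : LinearMap.det (-LinearMap.id : V →ₗ[ZMod 4] V) = -1 := by
    have : (-LinearMap.id : V →ₗ[ZMod 4] V) = (-1 : ZMod 4) • LinearMap.id := by
      ext <;> simp
    rw [this, LinearMap.det_smul, fr]
    simp
    decide
  rw [h, h2] at h1
  have : ∀ x : ZMod 4, x * x ≠ -1 := by decide
  exact this _ h1.symm

/-- Let B be the direct product of three cyclic groups of order 4. Then the automorphism of B inverting every element is not the square of any automorphism of B. -/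
theorem result {B : Type*} [CommGroup B] [Finite B] (hB : Nonempty (B ≃* Multiplicative (ZMod 4 × ZMod 4 × ZMod 4)))
    (τ : B ≃* B) : τ.trans τ ≠ MulEquiv.inv B := by
  intro hτ
  obtain ⟨e⟩ := hB
  have hττ : ∀ b : B, τ (τ b) = b⁻¹ := by
    intro b
    have := congrArg (fun φ : B ≃* B => φ b) hτ
    simpa using this
  let φ : Multiplicative V →* Multiplicative V :=
    e.toMonoidHom.comp (τ.toMonoidHom.comp e.symm.toMonoidHom)
  let f : V →+ V := AddMonoidHom.toMultiplicative.symm φ
  have hf : ∀ v : V, f v = Multiplicative.toAdd (e (τ (e.symm (Multiplicative.ofAdd v)))) := by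
    intro v; rfl
  apply no_sqrt (f.toZModLinearMap 4)
  apply LinearMap.ext
  intro v
  show f (f v) = -v
  rw [hf, hf]
  simp only [ofAdd_toAdd, MulEquiv.symm_apply_apply, hττ, map_inv, MulEquiv.apply_symm_apply]
  rfl

end Cfsg.Agent.S3155
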