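import Cfsg.Statements.S3157
import Cfsg.Agent.Lib.Helper7.Q3b
import Cfsg.Agent.Lib.Helper7.Q5

set_option autoImplicit false
open Cfsg

namespace Cfsg.Agent.S3157

/-- Let T be a non-abelian group of order 64 admitting automorphisms ρ of order 3 and x of order 2 with x ρ x⁻¹ = ρ⁻¹ (so they generate a symmetric group of degree 3), where ρ fixes only the identity. Then T is isomorphic to a Sylow 2-subgroup of the projective special linear group of dimension 3 over the field with 4 elements, and the subgroup of fixed points of x is dihedral of order 8 or quaternion of order 8. -/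
theorem result {T : Type*} [Group T] [Finite T] (hT : Nat.card T = 64) (hna : ¬ IsMulCommutative T) (ρ x : MulAut T) (hρ : orderOf ρ = 3) (hx : orderOf x = 2)
    (hxr : x * ρ * x⁻¹ = ρ⁻¹) (hfp : ∀ y : T, ρ y = y → y = 1) (C : Subgroup T) (hC : ∀ y : T, y ∈ C ↔ x y = y) :
    (∃ (F : Type) (_ : Field F) (_ : Fintype F), Fintype.card F = 4 ∧
        ∃ S : Sylow 2 (Matrix.ProjectiveSpecialLinearGroup (Fin 3) F), Nonempty (T ≃* ↥(S : Subgroup (Matrix.ProjectiveSpecialLinearGroup (Fin 3) F)))) ∧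
      (Nonempty (↥C ≃* DihedralGroup 4) ∨ Nonempty (↥C ≃* QuaternionGroup 2)) := by
  have hρ3 : ρ ^ 3 = 1 := by rw [← hρ]; exact pow_orderOf_eq_one ρ
  have hx2 : x ^ 2 = 1 := by rw [← hx]; exact pow_orderOf_eq_one x
  have cube : ∀ y : T, ρ (ρ (ρ y)) = y := by
    intro y
    have h1 := congrArg (fun f : MulAut T => f y) hρ3
    simpa [pow_succ, MulAut.mul_apply] using h1
  have x2 : ∀ u : T, x (x u) = u := by
    intro u
    have h1 := congrArg (fun f : MulAut T => f u) hx2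
    simpa [pow_succ, MulAut.mul_apply] using h1
  have hfpf : Cfsg.Agent.Lib.Helper7.Q64.FPF3 ρ := ⟨cube, hfp⟩
  have hna' : ¬ ∀ a b : T, a * b = b * a := fun h => hna ⟨⟨h⟩⟩
  have hSp := Cfsg.Agent.Lib.Helper7.Q64.sp64_of hT hna' hfpf
  have r1 : ∀ u : T, x (ρ u) = ρ (ρ (x u)) := by
    intro u
    have h1 := congrArg (fun f : MulAut T => f (x u)) hxr
    simp only [MulAut.mul_apply, MulAut.inv_apply_self] at h1
    rw [h1]
    have h2 : ρ⁻¹ (x u) = ρ⁻¹ (ρ (ρ (ρ (x u)))) := by rw [cube]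
    rw [h2, MulAut.inv_apply_self]
  have hXH : Cfsg.Agent.Lib.Helper7.Q64.XH ρ x C := ⟨hSp, hT, hna', x2, r1, hC⟩
  obtain ⟨⟨a, b, ha, hb, hab⟩, hCiso⟩ := hXH.final
  obtain ⟨e⟩ := Cfsg.Agent.Lib.Helper7.Q64.iso_of_involutions hSp hT a b ha hb hab
  obtain ⟨S, ⟨e'⟩⟩ := Cfsg.Agent.Lib.Helper7.Q64.exists_sylow_H4
  exact ⟨⟨Cfsg.Agent.Lib.Helper4.K4Field.K4, inferInstance, inferInstance,
    Cfsg.Agent.Lib.Helper4.K4Field.K4.card, S, ⟨e.symm.trans e'⟩⟩, hCiso⟩

end Cfsg.Agent.S3157
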