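import Cfsg.Statements.S3158
import Cfsg.Agent.Lib.Helper1.Nilpotent

set_option autoImplicit false
open Cfsg

namespace Cfsg.Agent.S3158

/-- Let U be a group of order q² with q = 2^n ≥ 2, and y an automorphism of U of order q − 1 all of whose nontrivial powers fix only the identity. Let V be a proper normal y-invariant subgroup of U such that V and U/V are elementary abelian 2-groups and there is an isomorphism from V to U/V commuting with the actions of y. Then U is abelian. -/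
theorem result {U : Type*} [Group U] [Finite U] (n : ℕ) (hn : 1 ≤ n) (hU : Nat.card U = (2 ^ n) ^ 2)
    (y : MulAut U) (hy : orderOf y = 2 ^ n - 1) (hfp : ∀ k : ℕ, y ^ k ≠ 1 → ∀ u : U, (y ^ k) u = u → u = 1)
    (V : Subgroup U) [V.Normal] (hV : V ≠ ⊤) (hyV : ∀ v ∈ V, y v ∈ V)
    (hVe : ∀ v ∈ V, v ^ 2 = 1) (hQe : ∀ u : U, u ^ 2 ∈ V) (hQc : ∀ u w : U, u * w * u⁻¹ * w⁻¹ ∈ V)
    (φ : ↥V ≃* U ⧸ V) (hφ : ∀ (v : ↥V) (u : U), (QuotientGroup.mk u : U ⧸ V) = φ v → φ ⟨y v, hyV v v.2⟩ = QuotientGroup.mk (y u)) :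
    IsMulCommutative U := by
  classical
  haveI : Fintype U := Fintype.ofFinite U
  have hq2 : 2 ≤ 2 ^ n := by
    calc 2 = 2 ^ 1 := by norm_num
      _ ≤ 2 ^ n := Nat.pow_le_pow_right (by norm_num) hn
  -- |V| = q
  have hcV : Nat.card V = 2 ^ n := by
    have h1 := Subgroup.card_eq_card_quotient_mul_card_subgroup V
    rw [← Nat.card_congr φ.toEquiv, hU, ← pow_two] at h1
    exact (Nat.pow_left_injective (n := 2) (by norm_num) h1).symm
  -- powers of y preserve V
  have hyk : ∀ (k : ℕ) (v : U), v ∈ V → (y ^ k) v ∈ V := by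
    intro k
    induction k with
    | zero => intro v hv; simpa using hv
    | succ k ih =>
      intro v hv
      rw [pow_succ', MulAut.mul_apply]
      exact hyV _ (ih v hv)
  -- transitivity on nonidentity elements of V
  have htrans : ∀ v₀ ∈ V, v₀ ≠ 1 → ∀ v ∈ V, v ≠ 1 → ∃ k : ℕ, v = (y ^ k) v₀ := by
    intro v₀ hv₀ hv₀1 v hv hv1
    set T : Finset U := (Finset.univ.filter (fun u => u ∈ V)).erase 1 with hT
    set S : Finset U := (Finset.range (2 ^ n - 1)).image (fun k => (y ^ k) v₀) with hS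
    have hTcard : T.card = 2 ^ n - 1 := by
      rw [hT, Finset.card_erase_of_mem (by simp [V.one_mem])]
      have : (Finset.univ.filter (fun u => u ∈ V)).card = Nat.card V := by
        rw [Nat.card_eq_fintype_card, Fintype.card_subtype]
      rw [this, hcV]
    have hinj : Set.InjOn (fun k => (y ^ k) v₀) (Finset.range (2 ^ n - 1) : Set ℕ) := by
      have key : ∀ i j : ℕ, i < j → j < 2 ^ n - 1 → (y ^ i) v₀ = (y ^ j) v₀ → False := by
        intro i j hij hj h
        have hj' : y ^ j = y ^ i * y ^ (j - i) := by rw [← pow_add]; congr 1; omega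
        rw [hj', MulAut.mul_apply] at h
        have h' := (y ^ i).injective h
        have hne : y ^ (j - i) ≠ 1 := by
          apply pow_ne_one_of_lt_orderOf (by omega)
          rw [hy]; omega
        exact hv₀1 (hfp (j - i) hne v₀ h'.symm)
      intro i hi j hj h
      simp only [Finset.coe_range, Set.mem_Iio] at hi hj
      rcases lt_trichotomy i j with hlt | heq | hgt
      · exact (key i j hlt hj h).elim
      · exact heq
      · exact (key j i hgt hi h.symm).elim
    have hScard : S.card = 2 ^ n - 1 := by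
      rw [hS, Finset.card_image_of_injOn hinj, Finset.card_range]
    have hST : S ⊆ T := by
      intro u hu
      rw [hS, Finset.mem_image] at hu
      obtain ⟨k, _, rfl⟩ := hu
      rw [hT, Finset.mem_erase, Finset.mem_filter]
      refine ⟨?_, Finset.mem_univ _, hyk k v₀ hv₀⟩
      intro h
      apply hv₀1
      apply (y ^ k).injective
      rw [h, map_one]
    have hEq : S = T := Finset.eq_of_subset_of_card_le hST (by rw [hTcard, hScard])
    have hvT : v ∈ T := by
      rw [hT, Finset.mem_erase, Finset.mem_filter]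
      exact ⟨hv1, Finset.mem_univ _, hv⟩
    rw [← hEq, hS, Finset.mem_image] at hvT
    obtain ⟨k, _, hk⟩ := hvT
    exact ⟨k, hk.symm⟩
  -- V is central
  have hVne : V ≠ ⊥ := by
    intro h
    rw [h, Subgroup.card_bot] at hcV
    omega
  have hcentral : ∀ v ∈ V, ∀ u : U, v * u = u * v := by
    haveI : Fact (Nat.Prime 2) := ⟨Nat.prime_two⟩
    have hP : IsPGroup 2 U := IsPGroup.of_card (n := 2 * n) (by rw [hU, ← pow_mul, mul_comm])
    haveI : Group.IsNilpotent U := hP.isNilpotent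
    have hne := Cfsg.Agent.Lib.Helper1.normal_inf_center_ne_bot V hVne
    obtain ⟨z, hz, hz1⟩ := (Subgroup.ne_bot_iff_exists_ne_one).1 hne |> fun ⟨z, hz⟩ =>
      (⟨z.1, z.2, fun h => hz (Subtype.ext h)⟩ : ∃ z : U, z ∈ V ⊓ Subgroup.center U ∧ z ≠ 1)
    rw [Subgroup.mem_inf, Subgroup.mem_center_iff] at hz
    intro v hv u
    by_cases hv1 : v = 1
    · rw [hv1, one_mul, mul_one]
    obtain ⟨k, rfl⟩ := htrans z hz.1 hz1 v hv hv1
    obtain ⟨u', rfl⟩ := (y ^ k).surjective u
    rw [← map_mul, ← map_mul, hz.2 u']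
  -- squares depend only on the coset
  have hsq : ∀ a b : U, (QuotientGroup.mk a : U ⧸ V) = QuotientGroup.mk b → a ^ 2 = b ^ 2 := by
    intro a b hab
    have hz : a⁻¹ * b ∈ V := QuotientGroup.eq.1 hab
    have hb : b = a * (a⁻¹ * b) := by group
    set z := a⁻¹ * b with hzdef
    rw [hb, pow_two, pow_two]
    have hc := hcentral z hz a
    have hz2 := hVe z hz
    symm
    calc a * z * (a * z) = a * (z * a) * z := by simp only [mul_assoc]
      _ = a * (a * z) * z := by rw [hc]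
      _ = a * a * z ^ 2 := by rw [pow_two]; simp only [mul_assoc]
      _ = a * a := by rw [hz2, mul_one]
  -- the squaring function through φ
  have hF : ∀ v : ↥V, ∃ w : U, ∀ u : U, (QuotientGroup.mk u : U ⧸ V) = φ v → u ^ 2 = w := by
    intro v
    obtain ⟨u₀, hu₀⟩ := QuotientGroup.mk_surjective (φ v)
    exact ⟨u₀ ^ 2, fun u hu => hsq u u₀ (hu.trans hu₀.symm)⟩
  choose F hFspec using hF
  have hFV : ∀ v : ↥V, F v ∈ V := by
    intro v
    obtain ⟨u₀, hu₀⟩ := QuotientGroup.mk_surjective (φ v)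
    rw [← hFspec v u₀ hu₀]
    exact hQe u₀
  have hFone : F 1 = 1 := by
    have h1 : (QuotientGroup.mk (1 : U) : U ⧸ V) = φ 1 := by rw [map_one]; rfl
    rw [← hFspec 1 1 h1, one_pow]
  -- equivariance
  have hFy : ∀ (k : ℕ) (v : ↥V), F ⟨(y ^ k) v, hyk k v v.2⟩ = (y ^ k) (F v) := by
    intro k
    induction k with
    | zero => intro v; simp
    | succ k ih =>
      intro v
      obtain ⟨u₀, hu₀⟩ := QuotientGroup.mk_surjective (φ ⟨(y ^ k) v, hyk k v v.2⟩)
      have h1 := hφ ⟨(y ^ k) v, hyk k v v.2⟩ u₀ hu₀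
      have h2 : (⟨(y ^ (k + 1)) v, hyk (k + 1) v v.2⟩ : ↥V) =
          ⟨y ((⟨(y ^ k) v, hyk k v v.2⟩ : ↥V) : U), hyV _ (hyk k v v.2)⟩ := by
        apply Subtype.ext
        show (y ^ (k + 1)) (v : U) = y ((y ^ k) (v : U))
        rw [pow_succ', MulAut.mul_apply]
      rw [h2, ← hFspec _ (y u₀) h1.symm, ← map_pow, hFspec _ u₀ hu₀, ih v, pow_succ',
        MulAut.mul_apply]
  -- a nonidentity element of V
  obtain ⟨v₀, hv₀, hv₀1⟩ : ∃ v₀ : U, v₀ ∈ V ∧ v₀ ≠ 1 := by
    obtain ⟨z, hz⟩ := (Subgroup.ne_bot_iff_exists_ne_one).1 hVne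
    exact ⟨z.1, z.2, fun h => hz (Subtype.ext h)⟩
  -- every u is a representative
  have hrep : ∀ u : U, ∃ v : ↥V, (QuotientGroup.mk u : U ⧸ V) = φ v := by
    intro u
    exact ⟨φ.symm (QuotientGroup.mk u), by rw [MulEquiv.apply_symm_apply]⟩
  by_cases hcase : F ⟨v₀, hv₀⟩ = 1
  · -- all squares trivial
    have hall : ∀ u : U, u ^ 2 = 1 := by
      intro u
      obtain ⟨v, hv⟩ := hrep u
      rw [hFspec v u hv]
      by_cases hv1 : (v : U) = 1
      · have : v = 1 := Subtype.ext hv1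
        rw [this, hFone]
      · obtain ⟨k, hk⟩ := htrans v₀ hv₀ hv₀1 v v.2 hv1
        have : v = ⟨(y ^ k) ((⟨v₀, hv₀⟩ : ↥V) : U), hyk k v₀ hv₀⟩ := Subtype.ext hk
        rw [this, hFy k ⟨v₀, hv₀⟩, hcase, map_one]
    refine ⟨⟨fun a b => ?_⟩⟩
    have h1 := hall (a * b)
    have ha := hall a
    have hb := hall b
    rw [pow_two] at h1 ha hb
    calc a * b = a * (a * b * (a * b)) * b := by rw [h1, mul_one]
      _ = (a * a) * (b * a) * (b * b) := by group
      _ = b * a := by rw [ha, hb, one_mul, mul_one]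
  · -- F is a power of y on V
    have hw1 : F ⟨v₀, hv₀⟩ ≠ 1 := hcase
    obtain ⟨m, hm⟩ := htrans v₀ hv₀ hv₀1 (F ⟨v₀, hv₀⟩) (hFV _) hw1
    have hFm : ∀ v : ↥V, F v = (y ^ m) (v : U) := by
      intro v
      by_cases hv1 : (v : U) = 1
      · have : v = 1 := Subtype.ext hv1
        rw [this, hFone]; simp
      · obtain ⟨k, hk⟩ := htrans v₀ hv₀ hv₀1 v v.2 hv1
        have : v = ⟨(y ^ k) ((⟨v₀, hv₀⟩ : ↥V) : U), hyk k v₀ hv₀⟩ := Subtype.ext hk
        rw [this, hFy k ⟨v₀, hv₀⟩, hm]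
        show (y ^ k) ((y ^ m) v₀) = (y ^ m) ((y ^ k) v₀)
        rw [← MulAut.mul_apply, ← MulAut.mul_apply, ← pow_add, ← pow_add, add_comm]
    refine ⟨⟨fun a b => ?_⟩⟩
    obtain ⟨v, hv⟩ := hrep a
    obtain ⟨w, hw⟩ := hrep b
    have hab : (QuotientGroup.mk (a * b) : U ⧸ V) = φ (v * w) := by
      rw [map_mul, ← hv, ← hw]; rfl
    have h1 := hFspec (v * w) (a * b) hab
    rw [hFm, Subgroup.coe_mul, map_mul, ← hFm v, ← hFm w, ← hFspec v a hv, ← hFspec w b hw] at h1
    rw [pow_two, pow_two, pow_two] at h1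
    have h2 : a * (b * a) * b = a * (a * b) * b := by
      calc a * (b * a) * b = a * b * (a * b) := by group
        _ = a * a * (b * b) := h1
        _ = a * (a * b) * b := by group
    exact (mul_left_cancel (mul_right_cancel h2)).symm

end Cfsg.Agent.S3158
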