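import Cfsg.Statements.S3163
import Mathlib

set_option autoImplicit false
set_option linter.style.haveILetI false
open Cfsg

namespace Cfsg.Agent.S3163

section
variable {S : Type*} [Group S]

theorem mem_centralizer_singleton (a s : S) :
    s ∈ Subgroup.centralizer ({a} : Set S) ↔ a * s = s * a := by
  rw [Subgroup.mem_centralizer_iff]
  simp

/-- The symmetric core of the argument. -/
structure Setup (A B : Subgroup S) : Prop where
  commA : ∀ a ∈ A, ∀ a' ∈ A, a * a' = a' * a
  commB : ∀ b ∈ B, ∀ b' ∈ B, b * b' = b' * b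
  sqA : ∀ a ∈ A, a * a = 1
  sqB : ∀ b ∈ B, b * b = 1
  prod : ∀ s : S, ∃ a ∈ A, ∃ b ∈ B, s = a * b
  centA : ∀ a ∈ A, a ∉ B → ∀ s : S, a * s = s * a → s ∈ A
  centB : ∀ b ∈ B, b ∉ A → ∀ s : S, b * s = s * b → s ∈ B

theorem Setup.symm {A B : Subgroup S} (h : Setup A B) : Setup B A where
  commA := h.commB
  commB := h.commA
  sqA := h.sqB
  sqB := h.sqA
  prod := by
    intro s
    obtain ⟨a, ha, b, hb, hs⟩ := h.prod s⁻¹
    refine ⟨b⁻¹, B.inv_mem hb, a⁻¹, A.inv_mem ha, ?_⟩
    rw [← mul_inv_rev, ← hs, inv_inv]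
  centA := h.centB
  centB := h.centA

/-- involutions lie in `A ∪ B` -/
theorem Setup.invol {A B : Subgroup S} (h : Setup A B) (t : S) (ht : t * t = 1) : t ∈ A ∨ t ∈ B := by
  obtain ⟨a, ha, b, hb, rfl⟩ := h.prod t
  by_cases haB : a ∈ B
  · right; exact B.mul_mem haB hb
  · left
    have ha' : a⁻¹ = a := inv_eq_of_mul_eq_one_right (h.sqA a ha)
    have hb' : b⁻¹ = b := inv_eq_of_mul_eq_one_right (h.sqB b hb)
    have hcomm : a * b = b * a := by
      have h1 : b * a * b = a⁻¹ := by
        apply eq_inv_of_mul_eq_one_right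
        calc a * (b * a * b) = a * b * (a * b) := by group
          _ = 1 := ht
      rw [ha'] at h1
      calc a * b = (b * a * b) * b := by rw [h1]
        _ = b * a * (b * b) := by group
        _ = b * a := by rw [h.sqB b hb, mul_one]
    exact A.mul_mem ha (h.centA a ha haB b hcomm)

/-- a subgroup of exponent 2 lies in `A` or in `B` -/
theorem Setup.le_or_le {A B : Subgroup S} (h : Setup A B) (E : Subgroup S) (hE : ∀ e ∈ E, e * e = 1) :
    E ≤ A ∨ E ≤ B := by
  by_contra hcon
  rw [not_or] at hcon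
  obtain ⟨hEA, hEB⟩ := hcon
  rw [SetLike.not_le_iff_exists] at hEA hEB
  obtain ⟨e1, he1, he1A⟩ := hEA
  obtain ⟨e2, he2, he2B⟩ := hEB
  have he1B : e1 ∈ B := (h.invol e1 (hE e1 he1)).resolve_left he1A
  have he2A : e2 ∈ A := (h.invol e2 (hE e2 he2)).resolve_right he2B
  rcases h.invol (e1 * e2) (hE _ (E.mul_mem he1 he2)) with h3 | h3
  · apply he1A
    have : e1 = (e1 * e2) * e2⁻¹ := by group
    rw [this]
    exact A.mul_mem h3 (A.inv_mem he2A)
  · apply he2B
    have : e2 = e1⁻¹ * (e1 * e2) := by group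
    rw [this]
    exact B.mul_mem (B.inv_mem he1B) h3

theorem Setup.center_mem {A B : Subgroup S} (h : Setup A B) (z : S) (hzA : z ∈ A) (hzB : z ∈ B) (s : S) :
    z * s = s * z := by
  obtain ⟨a, ha, b, hb, rfl⟩ := h.prod s
  calc z * (a * b) = (z * a) * b := by group
    _ = (a * z) * b := by rw [h.commA z hzA a ha]
    _ = a * (z * b) := by group
    _ = a * (b * z) := by rw [h.commB z hzB b hb]
    _ = a * b * z := by group

/-- `A` is normal when `A ≰ B`. -/
theorem Setup.normalA {A B : Subgroup S} (h : Setup A B) (hAB : ¬ A ≤ B) : A.Normal := by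
  -- B normalizes A
  have hB : ∀ b ∈ B, ∀ a ∈ A, b * a * b⁻¹ ∈ A := by
    intro b hb a ha
    let E : Subgroup S := A.map (MulAut.conj b).toMonoidHom
    have hE : ∀ e ∈ E, e * e = 1 := by
      rintro _ ⟨a', ha', rfl⟩
      simp only [MulEquiv.toMonoidHom_eq_coe, MonoidHom.coe_coe, MulAut.conj_apply]
      calc b * a' * b⁻¹ * (b * a' * b⁻¹) = b * (a' * a') * b⁻¹ := by group
        _ = 1 := by rw [h.sqA a' ha']; group
    have hmem : b * a * b⁻¹ ∈ E := ⟨a, ha, by simp⟩
    rcases h.le_or_le E hE with h1 | h1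
    · exact h1 hmem
    · exfalso
      apply hAB
      intro a' ha'
      have h2 : b * a' * b⁻¹ ∈ B := h1 ⟨a', ha', by simp⟩
      have : a' = b⁻¹ * (b * a' * b⁻¹) * b := by group
      rw [this]
      exact B.mul_mem (B.mul_mem (B.inv_mem hb) h2) hb
  constructor
  intro a ha s
  obtain ⟨a₁, ha₁, b₁, hb₁, rfl⟩ := h.prod s
  have : a₁ * b₁ * a * (a₁ * b₁)⁻¹ = a₁ * (b₁ * a * b₁⁻¹) * a₁⁻¹ := by group
  rw [this]
  exact A.mul_mem (A.mul_mem ha₁ (hB b₁ hb₁ a ha)) (A.inv_mem ha₁)

/-- `A ⊔ B = ⊤` -/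
theorem Setup.sup_eq_top {A B : Subgroup S} (h : Setup A B) : B ⊔ A = ⊤ := by
  rw [eq_top_iff]
  intro s _
  obtain ⟨a, ha, b, hb, rfl⟩ := h.prod s
  exact (B ⊔ A).mul_mem (Subgroup.mem_sup_right ha) (Subgroup.mem_sup_left hb)

/-- the bound on centralizers -/
theorem Setup.card_centralizer_le [Finite S] {A B : Subgroup S} (h : Setup A B) (hAB : ¬ A ≤ B)
    (x : S) (hxA : x ∉ A) (hxB : x ∉ B) :
    Nat.card (Subgroup.centralizer ({x} : Set S)) ≤ Nat.card B := by
  haveI := h.normalA hAB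
  set C := Subgroup.centralizer ({x} : Set S) with hC
  obtain ⟨a, ha, b, hb, hx⟩ := h.prod x
  have haB : a ∉ B := fun hh => hxB (by rw [hx]; exact B.mul_mem hh hb)
  have hbA : b ∉ A := fun hh => hxA (by rw [hx]; exact A.mul_mem ha hh)
  -- A ⊓ C ≤ A ⊓ B
  have hle : A ⊓ C ≤ A ⊓ B := by
    rintro a' ⟨ha', hc'⟩
    refine ⟨ha', ?_⟩
    have ha' : a' ∈ A := ha'
    have hc' : a' ∈ Subgroup.centralizer ({x} : Set S) := hc'
    show a' ∈ B
    rw [mem_centralizer_singleton, hx] at hc'
    -- a * b * a' = a' * a * b ⇒ b a' = a' b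
    apply h.centB b hb hbA
    have h1 := h.commA a ha a' ha'
    calc b * a' = a⁻¹ * (a * b * a') := by group
      _ = a⁻¹ * (a' * (a * b)) := by rw [hc']
      _ = a⁻¹ * ((a' * a) * b) := by group
      _ = a⁻¹ * ((a * a') * b) := by rw [h1]
      _ = a' * b := by group
  have h1 : Nat.card (A ⊓ C : Subgroup S) * A.relIndex C = Nat.card C := by
    have := Subgroup.relIndex_mul_relIndex (⊥ : Subgroup S) (A ⊓ C) C bot_le inf_le_right
    rwa [Subgroup.relIndex_bot_left, Subgroup.relIndex_bot_left, Subgroup.inf_relIndex_right] at this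
  have h2 : Nat.card (A ⊓ B : Subgroup S) * A.relIndex B = Nat.card B := by
    have := Subgroup.relIndex_mul_relIndex (⊥ : Subgroup S) (A ⊓ B) B bot_le inf_le_right
    rwa [Subgroup.relIndex_bot_left, Subgroup.relIndex_bot_left, Subgroup.inf_relIndex_right] at this
  have h3 : A.relIndex C ≤ A.relIndex B := by
    have h4 : A.relIndex (B ⊔ A) = A.relIndex B := Subgroup.relIndex_sup_right B A
    rw [h.sup_eq_top] at h4
    rw [← h4]
    apply Subgroup.relIndex_le_of_le_right le_top
    rw [Subgroup.relIndex_top_right]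
    exact Subgroup.index_ne_zero_of_finite
  have h5 : Nat.card (A ⊓ C : Subgroup S) ≤ Nat.card (A ⊓ B : Subgroup S) :=
    Subgroup.card_le_of_le hle
  calc Nat.card C = Nat.card (A ⊓ C : Subgroup S) * A.relIndex C := h1.symm
    _ ≤ Nat.card (A ⊓ B : Subgroup S) * A.relIndex B := Nat.mul_le_mul h5 h3
    _ = Nat.card B := h2

end

/-- Let S be a non-abelian finite 2-group which is the product S = AB of two elementary abelian subgroups A and B, and suppose that the centralizer in S of every element of A outside B is exactly A. Then the centralizer of every element of B outside A is exactly B; A and B are maximal elementary abelian subgroups of S and the only ones; the centre of S is A ∩ B; and every element of S outside A ∪ B has centralizer of order at most min(|A|, |B|). -/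
theorem result {S : Type*} [Group S] [Finite S] (hS : IsPGroup 2 S) (hna : ¬ IsMulCommutative S) (A B : Subgroup S)
    (hA : Cfsg.IsElementaryAbelian 2 A) (hB : Cfsg.IsElementaryAbelian 2 B) (hAB : ∀ s : S, ∃ a ∈ A, ∃ b ∈ B, s = a * b)
    (hC : ∀ a ∈ A, a ∉ B → Subgroup.centralizer ({a} : Set S) = A) :
    (∀ b ∈ B, b ∉ A → Subgroup.centralizer ({b} : Set S) = B) ∧
      (∀ E : Subgroup S, Cfsg.IsElementaryAbelian 2 E → (∀ E' : Subgroup S, Cfsg.IsElementaryAbelian 2 E' → E ≤ E' → E' = E) → E = A ∨ E = B) ∧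
      (∀ E' : Subgroup S, Cfsg.IsElementaryAbelian 2 E' → A ≤ E' → E' = A) ∧ (∀ E' : Subgroup S, Cfsg.IsElementaryAbelian 2 E' → B ≤ E' → E' = B) ∧
      Subgroup.center S = A ⊓ B ∧
      (∀ x : S, x ∉ A → x ∉ B → Nat.card ↥(Subgroup.centralizer ({x} : Set S)) ≤ min (Nat.card ↥A) (Nat.card ↥B)) := by
  classical
  have commA : ∀ a ∈ A, ∀ a' ∈ A, a * a' = a' * a := by
    intro a ha a' ha'
    have := hA.1.is_comm.comm (⟨a, ha⟩ : A) ⟨a', ha'⟩
    exact congrArg Subtype.val this
  have commB : ∀ b ∈ B, ∀ b' ∈ B, b * b' = b' * b := by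
    intro a ha a' ha'
    have := hB.1.is_comm.comm (⟨a, ha⟩ : B) ⟨a', ha'⟩
    exact congrArg Subtype.val this
  have sqA : ∀ a ∈ A, a * a = 1 := fun a ha => by rw [← pow_two]; exact hA.2 a ha
  have sqB : ∀ b ∈ B, b * b = 1 := fun b hb => by rw [← pow_two]; exact hB.2 b hb
  have centA : ∀ a ∈ A, a ∉ B → ∀ s : S, a * s = s * a → s ∈ A := by
    intro a ha haB s hs
    rw [← hC a ha haB, mem_centralizer_singleton]
    exact hs
  have centB : ∀ b ∈ B, b ∉ A → ∀ s : S, b * s = s * b → s ∈ B := by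
    intro b hb hbA s hs
    obtain ⟨a', ha', b', hb', rfl⟩ := hAB s
    by_cases ha'B : a' ∈ B
    · exact B.mul_mem ha'B hb'
    · exfalso
      apply hbA
      apply centA a' ha' ha'B b
      -- a' commutes with b
      have h1 := commB b hb b' hb'
      have h2 : b * a' = a' * b := by
        calc b * a' = (b * (a' * b')) * b'⁻¹ := by group
          _ = (a' * b' * b) * b'⁻¹ := by rw [hs]
          _ = a' * (b' * b) * b'⁻¹ := by group
          _ = a' * (b * b') * b'⁻¹ := by rw [h1]
          _ = a' * b := by group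
      exact h2.symm
  have hset : Setup A B := ⟨commA, commB, sqA, sqB, hAB, centA, centB⟩
  have hcommS : ∀ (K : Subgroup S), (∀ s : S, s ∈ K) → (∀ k ∈ K, ∀ k' ∈ K, k * k' = k' * k) → False := by
    intro K hall hK
    apply hna
    exact ⟨⟨fun a b => hK a (hall a) b (hall b)⟩⟩
  have hAnB : ¬ A ≤ B := by
    intro h
    apply hcommS B _ commB
    intro s
    obtain ⟨a, ha, b, hb, rfl⟩ := hAB s
    exact B.mul_mem (h ha) hb
  have hBnA : ¬ B ≤ A := by
    intro h
    apply hcommS A _ commA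
    intro s
    obtain ⟨a, ha, b, hb, rfl⟩ := hAB s
    exact A.mul_mem ha (h hb)
  have hexp : ∀ E : Subgroup S, Cfsg.IsElementaryAbelian 2 E → ∀ e ∈ E, e * e = 1 :=
    fun E hE e he => by rw [← pow_two]; exact hE.2 e he
  refine ⟨?_, ?_, ?_, ?_, ?_, ?_⟩
  · intro b hb hbA
    ext s
    rw [mem_centralizer_singleton]
    constructor
    · exact centB b hb hbA s
    · intro hs
      exact commB b hb s hs
  · intro E hE hmax
    rcases hset.le_or_le E (hexp E hE) with h | h
    · left; exact (hmax A hA h).symm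
    · right; exact (hmax B hB h).symm
  · intro E' hE' hle
    rcases hset.le_or_le E' (hexp E' hE') with h | h
    · exact le_antisymm h hle
    · exact absurd (le_trans hle h) hAnB
  · intro E' hE' hle
    rcases hset.le_or_le E' (hexp E' hE') with h | h
    · exact absurd (le_trans hle h) hBnA
    · exact le_antisymm h hle
  · ext z
    rw [Subgroup.mem_center_iff, Subgroup.mem_inf]
    constructor
    · intro hz
      rw [SetLike.not_le_iff_exists] at hAnB hBnA
      obtain ⟨a₀, ha₀, ha₀B⟩ := hAnB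
      obtain ⟨b₀, hb₀, hb₀A⟩ := hBnA
      exact ⟨centA a₀ ha₀ ha₀B z (hz a₀), centB b₀ hb₀ hb₀A z (hz b₀)⟩
    · rintro ⟨hzA, hzB⟩ g
      exact (hset.center_mem z hzA hzB g).symm
  · intro x hxA hxB
    apply le_min
    · exact hset.symm.card_centralizer_le hBnA x hxB hxA
    · exact hset.card_centralizer_le hAnB x hxA hxB

end Cfsg.Agent.S3163
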