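import Cfsg.Statements.S3164
import Cfsg.Agent.Lib.Helper9.SSXV0
import Cfsg.Agent.Lib.Helper7.SSXV1
import Cfsg.Agent.Lib.Helper7.SSXV1b
import Cfsg.Agent.Lib.Helper7.SSXV4
import Cfsg.Agent.Lib.Helper7.SSXV5
import Cfsg.Agent.Lib.Helper6.SSXV6
import Cfsg.Agent.Lib.Helper2.SSXV7
import Cfsg.Agent.Lib.Helper6.SSXV8
import Cfsg.Agent.Lib.Helper5.SRCU15
import Cfsg.Agent.Lib.Helper2.Components3

set_option autoImplicit false
open Cfsg

namespace Cfsg.Agent.S3164

/-- Let A be a standard subgroup of a finite group G whose centralizer has cyclic Sylow 2-subgroups, t an involution centralizing A, and X the normal closure of A in G. If X has a t-invariant 2-subgroup R with [R, t] nontrivial and contained in A, then X is semisimple (X equals its own layer, a central product of quasisimple groups) and the centre of X has odd order. -/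
theorem result {G : Type*} [Group G] [Finite G] (A : Subgroup G) (hA : Cfsg.IsStandardSubgroup A)
    (hcyc : ∀ R : Sylow 2 ↥(Subgroup.centralizer (A : Set G)), IsCyclic ↥(R : Subgroup ↥(Subgroup.centralizer (A : Set G)))) (t : G) (ht : orderOf t = 2) (htA : t ∈ Subgroup.centralizer (A : Set G))
    (R : Subgroup G) (hR2 : IsPGroup 2 ↥R) (hRX : R ≤ Subgroup.normalClosure (A : Set G)) (hRt : ∀ r ∈ R, t * r * t⁻¹ ∈ R)
    (hc1 : ⁅R, Subgroup.zpowers t⁆ ≠ ⊥) (hc2 : ⁅R, Subgroup.zpowers t⁆ ≤ A) :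
    Cfsg.layer ↥(Subgroup.normalClosure (A : Set G)) = ⊤ ∧ Odd (Nat.card ↥(Subgroup.center ↥(Subgroup.normalClosure (A : Set G)))) := by
  obtain ⟨hq, hK, -, hN⟩ := hA
  have hr : Cfsg.PRankLE 2 1 ↥(Subgroup.centralizer (A : Set G)) := Cfsg.Agent.Lib.Helper9.SSX.V0 hcyc
  have hCt : ∀ x : G, x * t = t * x → x ∈ Subgroup.normalizer (A : Set G) :=
    fun x hx => Cfsg.Agent.Lib.Helper5.SRC.U1 A hK hN t ht htA x hx
  obtain ⟨r, -, ha1, haA, haA'⟩ := Cfsg.Agent.Lib.Helper7.SSX.V1 A R t hc1 hc2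
  obtain ⟨ha2, -, -⟩ := Cfsg.Agent.Lib.Helper7.SSX.V1b A hr t ht htA r ha1 haA
  have hO : ⁅A, Cfsg.oddCore G⁆ = ⊥ := Cfsg.Agent.Lib.Helper7.SSX.V4 A hq hr t ht htA hCt r ha1 haA haA'
  have hkey : ∀ M : Subgroup G, M.Normal → Even (Nat.card ↥M) → A ≤ M := by
    intro M hMn hM
    haveI := hMn
    exact Cfsg.Agent.Lib.Helper7.SSX.V5 A hq hr t ht htA hCt r ha1 haA M hM
  have hAE : A ≤ Cfsg.layer G := Cfsg.Agent.Lib.Helper6.SSX.V6 A hq _ haA ha2 hO hkey
  have hEn : (Cfsg.layer G).Normal := Cfsg.Agent.Lib.Helper2.layer_normal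
  have hXE : Subgroup.normalClosure (A : Set G) ≤ Cfsg.layer G :=
    Subgroup.normalClosure_le_normal hAE
  have hAX : A ≤ Subgroup.normalClosure (A : Set G) := Subgroup.le_normalClosure
  have hperfA : ⁅A, A⁆ = A := Subgroup.isPerfect_iff.1 hq.1
  have hperf : ⁅Subgroup.normalClosure (A : Set G), Subgroup.normalClosure (A : Set G)⁆ =
      Subgroup.normalClosure (A : Set G) := by
    apply le_antisymm
    · exact Subgroup.commutator_le_left _ _
    · apply Subgroup.normalClosure_le_normal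
      calc (A : Set G) = ((⁅A, A⁆ : Subgroup G) : Set G) := by rw [hperfA]
        _ ⊆ _ := Subgroup.commutator_mono hAX hAX
  refine ⟨Cfsg.Agent.Lib.Helper2.SSX.V7 _ hXE hperf,
    Cfsg.Agent.Lib.Helper6.SSX.V8 _ (fun Q hQn hQ => Cfsg.Agent.Lib.Helper2.SSX.V9 A hq hkey Q hQn hQ)⟩

end Cfsg.Agent.S3164
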