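import Cfsg.Statements.S3166
import Mathlib

set_option autoImplicit false
open Cfsg

namespace Cfsg.Agent.S3166

theorem even_case (q x : ℤ) (hq : 2 ≤ q) (hx : 0 ≤ x) (h : q^4 - q^3 + q^2 - q + 1 = x^2) : False := by
  have h1 : (2*q^2 - q)^2 < (2*x)^2 := by nlinarith
  have h2 : (2*x)^2 < (2*q^2 - q + 1)^2 := by nlinarith
  have ha : 0 ≤ 2*q^2 - q := by nlinarith
  have h3 : 2*q^2 - q < 2*x := lt_of_pow_lt_pow_left₀ 2 (by linarith) h1
  have h4 : 2*x < 2*q^2 - q + 1 := lt_of_pow_lt_pow_left₀ 2 (by linarith) h2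
  omega

theorem cube_case (q t : ℤ) (hq : 2 ≤ q) (ht : 1 ≤ t) (h : q^4 - q^3 + q^2 - q + 1 = (1 + t*q)^3) : False := by
  -- t^3 < q
  have h1 : t^3 < q := by
    by_contra hcon
    rw [not_lt] at hcon
    have : t^3 * q^3 ≥ q * q^3 := by
      apply mul_le_mul_of_nonneg_right hcon (by positivity)
    nlinarith [sq_nonneg q, sq_nonneg t, mul_pos (by linarith : (0:ℤ) < t) (by linarith : (0:ℤ) < q)]
  -- q ∣ 3t+1
  have h2 : q ∣ 3*t + 1 := by
    have : q * (3*t+1) = q * (q * (q^2 + 1 - q - 3*t^2 - t^3*q)) := by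
      ring_nf; ring_nf at h; linarith
    have := mul_left_cancel₀ (by linarith : q ≠ 0) this
    exact ⟨_, this⟩
  have h3 : q ≤ 3*t+1 := Int.le_of_dvd (by linarith) h2
  have h4 : t = 1 := by
    by_contra hne
    have : 2 ≤ t := by omega
    nlinarith [sq_nonneg t]
  subst h4
  have h5 : q ≤ 4 := by linarith
  interval_cases q <;> norm_num at h

/-- Let q = 2^n with n ≥ 1. If q⁴ − q³ + q² − q + 1 is a power p^m of a prime p, then m = 1: the value is never a prime power with exponent greater than 1. -/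
theorem result (n p m : ℕ) (hn : 1 ≤ n) (hp : p.Prime) (h : (2 ^ n) ^ 4 - (2 ^ n) ^ 3 + (2 ^ n) ^ 2 - 2 ^ n + 1 = p ^ m) : m = 1 := by
  obtain ⟨q, hq⟩ : ∃ q : ℕ, q = 2 ^ n := ⟨_, rfl⟩
  rw [← hq] at h
  have hq2 : 2 ≤ q := by
    rw [hq]
    calc 2 = 2 ^ 1 := by norm_num
      _ ≤ 2 ^ n := Nat.pow_le_pow_right (by norm_num) hn
  have h43 : q ^ 3 ≤ q ^ 4 := Nat.pow_le_pow_right (by omega) (by norm_num)
  have h21 : q ≤ q ^ 2 := by nlinarith
  -- integer form
  have hZ : (q : ℤ) ^ 4 - (q : ℤ) ^ 3 + (q : ℤ) ^ 2 - (q : ℤ) + 1 = (p : ℤ) ^ m := by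
    have : q ^ 4 + q ^ 2 + 1 = p ^ m + q ^ 3 + q := by omega
    have := congrArg (Nat.cast : ℕ → ℤ) this
    push_cast at this
    linarith
  have hqZ : (2 : ℤ) ≤ (q : ℤ) := by exact_mod_cast hq2
  have hpZ : (2 : ℤ) ≤ (p : ℤ) := by exact_mod_cast hp.two_le
  -- m ≠ 0
  have hm0 : m ≠ 0 := by
    rintro rfl
    rw [pow_zero] at hZ
    nlinarith [sq_nonneg ((q : ℤ)), sq_nonneg ((q:ℤ)^2)]
  by_contra hm1
  have hm2 : 2 ≤ m := by omega
  rcases Nat.even_or_odd m with hev | hodd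
  · obtain ⟨k, hk⟩ := hev
    apply even_case (q : ℤ) ((p : ℤ) ^ k) hqZ (by positivity)
    rw [hZ, hk, ← pow_mul]
    congr 1
    omega
  · -- m odd
    -- p is odd
    have hpodd : Odd p := by
      rcases hp.eq_two_or_odd' with h2 | h2
      · exfalso
        have hdvd : (2 : ℤ) ∣ (p : ℤ) ^ m := by
          rw [h2]
          exact dvd_pow_self _ hm0
        rw [← hZ] at hdvd
        have hqev : (2 : ℤ) ∣ (q : ℤ) := by
          rw [hq]; push_cast
          exact dvd_pow_self _ (by omega)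
        obtain ⟨r, hr⟩ := hqev
        have hoddN : Odd ((q : ℤ) ^ 4 - (q : ℤ) ^ 3 + (q : ℤ) ^ 2 - (q : ℤ) + 1) :=
          ⟨8 * r ^ 4 - 4 * r ^ 3 + 2 * r ^ 2 - r, by rw [hr]; ring⟩
        exact (Int.not_even_iff_odd.2 hoddN) (even_iff_two_dvd.2 hdvd)
      · exact h2
    -- geometric sum
    have hgeom := geom_sum_mul (p : ℤ) m
    set S : ℤ := ∑ i ∈ Finset.range m, (p : ℤ) ^ i with hS
    have hSodd : Odd S := by
      have hSn : S = ((∑ i ∈ Finset.range m, p ^ i : ℕ) : ℤ) := by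
        rw [hS]; push_cast; rfl
      rw [hSn]
      have : Odd (∑ i ∈ Finset.range m, p ^ i) := by
        rw [Finset.odd_sum_iff_odd_card_odd]
        have : (Finset.range m).filter (fun i => Odd (p ^ i)) = Finset.range m := by
          apply Finset.filter_true_of_mem
          intro i _
          exact Odd.pow hpodd
        rw [this, Finset.card_range]
        exact hodd
      exact_mod_cast this
    have hdvd : (q : ℤ) ∣ S * ((p : ℤ) - 1) := by
      rw [hgeom, ← hZ]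
      exact ⟨(q : ℤ) ^ 3 - (q : ℤ) ^ 2 + (q : ℤ) - 1, by ring⟩
    have hcop : IsCoprime (q : ℤ) S := by
      rw [hq]; push_cast
      apply IsCoprime.pow_left
      rw [Int.isCoprime_iff_gcd_eq_one]
      obtain ⟨r, hr⟩ := hSodd
      rw [hr]
      simp
    have hdvd2 : (q : ℤ) ∣ (p : ℤ) - 1 := hcop.dvd_of_dvd_mul_left hdvd
    obtain ⟨t, ht⟩ := hdvd2
    have ht1 : 1 ≤ t := by
      by_contra hcon
      rw [not_le] at hcon
      have : (q : ℤ) * t ≤ 0 := by
        apply mul_nonpos_of_nonneg_of_nonpos (by linarith) (by omega)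
      linarith
    have hpq : (p : ℤ) = 1 + t * q := by linarith
    -- m ≤ 3
    have hm3 : m = 3 := by
      by_contra hne
      have hm4 : 4 ≤ m := by
        obtain ⟨r, hr⟩ := hodd
        omega
      have h1 : (p : ℤ) ^ 4 ≤ (p : ℤ) ^ m := pow_le_pow_right₀ (by linarith) hm4
      have h2 : ((q : ℤ) + 1) ^ 4 ≤ (p : ℤ) ^ 4 := by
        apply pow_le_pow_left₀ (by linarith)
        rw [hpq]
        nlinarith
      rw [← hZ] at h1
      nlinarith [sq_nonneg ((q : ℤ)), sq_nonneg ((q:ℤ)^2), pow_pos (by linarith : (0:ℤ) < q) 3]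
    apply cube_case (q : ℤ) t hqZ ht1
    rw [hZ, hm3, hpq]

end Cfsg.Agent.S3166
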