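import Cfsg.Statements.S3174
import Cfsg.Agent.Lib.Helper3.RuSylDefs
import Cfsg.Agent.Lib.Helper3.RuSylA
import Cfsg.Agent.Lib.Helper3.RuSylB
import Cfsg.Agent.Lib.Helper1.RuSylC
import Cfsg.Agent.Lib.Helper8.RuSylD
import Cfsg.Agent.Lib.Helper9.RuSylE
import Cfsg.Agent.Lib.Helper9.RuSylF
import Cfsg.Agent.Lib.Helper3.RuSylI

set_option autoImplicit false
open Cfsg

namespace Cfsg.Agent.S3174

open Cfsg.Agent.Lib.Helper3.RuSyl

/-- the arithmetic of step (3). -/
theorem arith_ru (d w φ t : ℕ) (hd : d ≤ 8) (hφ : φ ≤ 8) (hw : w ≤ φ * 2 ^ d) (hm : d * w = t)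
    (ht : 2 ^ 14 ≤ t) : d = 8 ∧ w = 2 ^ 11 ∧ φ = 8 ∧ t = 2 ^ 14 := by
  interval_cases d <;> norm_num at hw hm ht ⊢ <;> omega

/-- Let T be a finite 2-group of order at least 2^14 in which the fourth term of the upper central series has order 16. Let W be the centralizer in T of the third term Z₃(T), and suppose the Frattini subgroup of W has order at most 8 and lies in every subgroup of W of index at most 16. Then T has order exactly 2^14; the derived subgroup of W and the Frattini subgroup of W both equal Z₃(T), which is elementary abelian of order 8; the centre of W has order 8; W is normal in T with quotient dihedral of order 8; and W modulo its derived subgroup is elementary abelian of order 2^8. -/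
theorem result {T : Type*} [Group T] [Finite T]
    (hT : IsPGroup 2 T) (ha : 2 ^ 14 ≤ Nat.card T) (hb : Nat.card ↥(Subgroup.upperCentralSeries T 4) = 16)
    (W : Subgroup T) (hW : W = Subgroup.centralizer ((Subgroup.upperCentralSeries T 3 : Subgroup T) : Set T))
    (hc : Nat.card ↥(frattini ↥W) ≤ 8) (hd : ∀ U : Subgroup ↥W, U.index ≤ 16 → frattini ↥W ≤ U) :
    Nat.card T = 2 ^ 14 ∧
      (commutator ↥W).map W.subtype = Subgroup.upperCentralSeries T 3 ∧
      (frattini ↥W).map W.subtype = Subgroup.upperCentralSeries T 3 ∧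
      Nat.card ↥(Subgroup.center ↥W) = 8 ∧
      Nat.card ↥(Subgroup.upperCentralSeries T 3) = 8 ∧ (∀ z ∈ Subgroup.upperCentralSeries T 3, z ^ 2 = 1) ∧
      (∃ (_ : W.Normal), Nonempty (T ⧸ W ≃* DihedralGroup 4)) ∧
      Nat.card (↥W ⧸ commutator ↥W) = 2 ^ 8 ∧ (∀ x : ↥W ⧸ commutator ↥W, x ^ 2 = 1) := by
  have hbig : 16 < Nat.card T := lt_of_lt_of_le (by norm_num) ha
  have C := Cfsg.Agent.Lib.Helper3.RuSylB.chain_of_ucs hT hb hbig
  have nW : W.Normal := Cfsg.Agent.Lib.Helper8.RuSylD.normalW C hW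
  have F := Cfsg.Agent.Lib.Helper1.RuSylC.fratLike_of_frattini hT W hd
  have hcardΦ : Nat.card ↥((frattini ↥W).map W.subtype) = Nat.card ↥(frattini ↥W) :=
    Subgroup.card_map_of_injective (Subgroup.subtype_injective W)
  have S : Setting (Subgroup.upperCentralSeries T 1) (Subgroup.upperCentralSeries T 2)
      (Subgroup.upperCentralSeries T 3) (Subgroup.upperCentralSeries T 4) W
      ((frattini ↥W).map W.subtype) :=
    ⟨hT, C, hW, F, by rw [hcardΦ]; exact hc, ha⟩
  have hidx : W.index ≤ 8 := Cfsg.Agent.Lib.Helper8.RuSylD.index_le C hW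
  have hcore := Cfsg.Agent.Lib.Helper9.RuSylE.core_bound S
  have hmul : W.index * Nat.card ↥W = Nat.card T := Subgroup.index_mul_card W
  obtain ⟨h8, hW11, hΦ8, hT14⟩ := arith_ru W.index (Nat.card ↥W) _ (Nat.card T) hidx S.cardΦ hcore hmul ha
  have hΦ : (frattini ↥W).map W.subtype = Subgroup.upperCentralSeries T 3 := by
    have hle := Cfsg.Agent.Lib.Helper3.RuSylA.le_Z3_of_card C _ F.normal hΦ8.le
    exact Subgroup.eq_of_le_of_card_ge hle (by rw [C.c3, hΦ8])
  have hZ3W : Subgroup.upperCentralSeries T 3 ≤ W := hΦ ▸ F.le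
  have hcomm : (commutator ↥W).map W.subtype = Subgroup.upperCentralSeries T 3 := by
    rw [Subgroup.map_subtype_commutator]
    exact Cfsg.Agent.Lib.Helper9.RuSylF.commutator_eq S hΦ hW11
  have hcen : (Subgroup.center ↥W).map W.subtype = Subgroup.upperCentralSeries T 3 := by
    apply le_antisymm
    · rintro x ⟨w, hw, rfl⟩
      rw [SetLike.mem_coe, Subgroup.mem_center_iff] at hw
      refine Cfsg.Agent.Lib.Helper3.RuSylI.center_le S hΦ h8 hW11 (w : T) w.2 ?_
      intro y hy
      have := hw ⟨y, hy⟩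
      exact (congrArg Subtype.val this).symm
    · intro z hz
      refine ⟨⟨z, hZ3W hz⟩, ?_, rfl⟩
      rw [SetLike.mem_coe, Subgroup.mem_center_iff]
      intro g
      have hg : (g : T) ∈ Subgroup.centralizer ((Subgroup.upperCentralSeries T 3 : Subgroup T) : Set T) :=
        hW ▸ g.2
      rw [Subgroup.mem_centralizer_iff] at hg
      exact Subtype.ext (hg z hz).symm
  have hcardcomm : Nat.card ↥(commutator ↥W) = 8 := by
    rw [← Subgroup.card_map_of_injective (Subgroup.subtype_injective W), hcomm, C.c3]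
  refine ⟨hT14, hcomm, hΦ, ?_, C.c3, Cfsg.Agent.Lib.Helper9.RuSylF.Z3_sq S hΦ hW11,
    ⟨nW, Cfsg.Agent.Lib.Helper8.RuSylD.dihedral C hW h8⟩, ?_, ?_⟩
  · rw [← Subgroup.card_map_of_injective (Subgroup.subtype_injective W), hcen, C.c3]
  · have h1 : (commutator ↥W).index * Nat.card ↥(commutator ↥W) = Nat.card ↥W :=
      Subgroup.index_mul_card _
    rw [hcardcomm, hW11] at h1
    rw [← Subgroup.index_eq_card]
    norm_num at h1 ⊢
    omega
  · intro x
    induction x using QuotientGroup.induction_on with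
    | H w =>
      rw [← QuotientGroup.mk_pow, QuotientGroup.eq_one_iff]
      have h2 : (w : T) ^ 2 ∈ (commutator ↥W).map W.subtype := by
        rw [hcomm, ← hΦ]
        exact F.sq w w.2
      obtain ⟨c, hc', hce⟩ := h2
      have : c = w ^ 2 := Subtype.ext (by simpa using hce)
      rw [← this]
      exact hc'

end Cfsg.Agent.S3174
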