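import Cfsg.Statements.S3175
import Cfsg.Agent.S3174
import Cfsg.Agent.Lib.Lead.RVC
import Cfsg.Agent.Lib.Helper8.RVA9
import Cfsg.Agent.Lib.Helper6.RVB1
import Cfsg.Agent.Lib.Helper6.RVB23
import Cfsg.Agent.Lib.Helper6.RVB5
import Cfsg.Agent.Lib.Helper1.RVB4

set_option autoImplicit false
open Cfsg

namespace Cfsg.Agent.S3175

open Cfsg.Agent.Lib

theorem D4_nonab : (DihedralGroup.r 1 : DihedralGroup 4) * DihedralGroup.sr 0 * (DihedralGroup.r 1)⁻¹ *
    (DihedralGroup.sr 0)⁻¹ ≠ 1 := by
  decide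

/-- Let G be a finite group whose Sylow 2-subgroup T has order at least 2^14 and whose upper central series has fourth term of order 16; let W be the centralizer in T of the third term, and suppose the Frattini subgroup of W has order at most 8 and lies in every subgroup of W of index at most 16. Then the normalizer of T in G has a normal 2-complement, and W is weakly closed in T with respect to G. -/
theorem result {G : Type*} [Group G] [Finite G]
    (T : Sylow 2 G) (ha : 2 ^ 14 ≤ Nat.card ↥(T : Subgroup G))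
    (hb : Nat.card ↥(Subgroup.upperCentralSeries ↥(T : Subgroup G) 4) = 16)
    (W : Subgroup ↥(T : Subgroup G))
    (hW : W = Subgroup.centralizer ((Subgroup.upperCentralSeries ↥(T : Subgroup G) 3 : Subgroup ↥(T : Subgroup G)) : Set ↥(T : Subgroup G)))
    (hc : Nat.card ↥(frattini ↥W) ≤ 8)
    (hd : ∀ U : Subgroup ↥W, U.index ≤ 16 → frattini ↥W ≤ U) :
    Cfsg.HasNormalPComplement 2 ↥(Subgroup.normalizer ((T : Subgroup G) : Set G)) ∧
      Cfsg.IsWeaklyClosed (W.map (T : Subgroup G).subtype) (T : Subgroup G) := by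
  have hPg : IsPGroup 2 ↥(T : Subgroup G) := T.isPGroup'
  obtain ⟨hcard, hcomm, hfrat, hcen, hZ, -, ⟨hWn, ⟨eD⟩⟩, -, -⟩ :=
    Cfsg.Agent.S3174.result hPg ha hb W hW hc hd
  have hbig : 16 < Nat.card ↥(T : Subgroup G) := by rw [hcard]; norm_num
  refine ⟨?_, ?_⟩
  · exact Helper8.RVA9.npc_of_aut_trivial T
      (fun φ hφ => Lead.RVC.aut_trivial hPg hb hbig W hW hcomm φ hφ)
  · refine Helper6.RVB5.wc_of_unique (T : Subgroup G) W ?_
    rintro X ⟨e⟩
    have hidx : W.index = 8 := by
      rw [Subgroup.index, Nat.card_congr eD.toEquiv, DihedralGroup.nat_card]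
    have hWZ : ∀ w ∈ W, ∀ z ∈ Subgroup.upperCentralSeries ↥(T : Subgroup G) 3, w * z = z * w := by
      intro w hw z hz
      rw [hW, Subgroup.mem_centralizer_iff] at hw
      exact (hw z hz).symm
    have hcent : ∀ x : ↥(T : Subgroup G),
        (∀ z ∈ Subgroup.upperCentralSeries ↥(T : Subgroup G) 3, x * z = z * x) → x ∈ W := by
      intro x hx
      rw [hW, Subgroup.mem_centralizer_iff]
      intro z hz
      exact (hx z hz).symm
    have hnonab : ∃ a b : ↥(T : Subgroup G), a * b * a⁻¹ * b⁻¹ ∉ W := by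
      obtain ⟨a, ha'⟩ := QuotientGroup.mk_surjective (s := W) (eD.symm (DihedralGroup.r 1))
      obtain ⟨b, hb'⟩ := QuotientGroup.mk_surjective (s := W) (eD.symm (DihedralGroup.sr 0))
      refine ⟨a, b, fun hmem => D4_nonab ?_⟩
      have h1 : ((a * b * a⁻¹ * b⁻¹ : ↥(T : Subgroup G)) : ↥(T : Subgroup G) ⧸ W) = 1 :=
        (QuotientGroup.eq_one_iff _).mpr hmem
      have h2 := congrArg eD h1
      simpa [QuotientGroup.mk_mul, QuotientGroup.mk_inv, ha', hb'] using h2
    obtain ⟨hI, hZc⟩ := Helper6.RVB1.intrinsic_of_conclusions hcard W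
      (Subgroup.upperCentralSeries ↥(T : Subgroup G) 3) hidx hcomm hfrat hcen hZ hWZ hd
    have hIX := Helper6.RVB23.intrinsic_of_equiv e hI
    have hSW := Helper6.RVB23.shape_of_intrinsic W hI
    rw [hZc] at hSW
    have hSX := Helper6.RVB23.shape_of_intrinsic X hIX
    exact Helper1.RVB4.wc_core W (Subgroup.upperCentralSeries ↥(T : Subgroup G) 3) X _ hSW hSX hcent hidx hnonab

end Cfsg.Agent.S3175
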