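import Cfsg.Statements.S3178
import Mathlib
import Cfsg.Agent.S0111
import Cfsg.Agent.S3864
import Cfsg.Agent.Lib.Helper2.PGroup
import Cfsg.Agent.Lib.Helper2.QDFusA
import Cfsg.Agent.Lib.Helper7.CyclicCharZStar

set_option autoImplicit false
open Cfsg

namespace Cfsg.Agent.S3178

open Cfsg.Agent.Lib.Helper2

/-- Groups with a modular Sylow 2-subgroup have a normal 2-complement. Let S, of order 2^(n+1) with n ≥ 3, be a Sylow 2-subgroup of a finite group G, and suppose S contains an element a of order 2^n and an involution b with b a b⁻¹ = a^(2^(n-1) + 1); so S is the non-abelian 2-group with a cyclic subgroup of index 2 that is neither dihedral, semidihedral nor generalized quaternion. Then G has a normal 2-complement. -/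
theorem result {G : Type*} [Group G] [Finite G]
    (S : Sylow 2 G) (n : ℕ) (hn : 3 ≤ n) (hS : Nat.card ↥(S : Subgroup G) = 2 ^ (n + 1))
    (a b : G) (ha : a ∈ (S : Subgroup G)) (hb : b ∈ (S : Subgroup G))
    (hao : orderOf a = 2 ^ n) (hbo : orderOf b = 2) (hrel : b * a * b⁻¹ = a ^ (2 ^ (n - 1) + 1)) :
    Cfsg.HasNormalPComplement 2 G := by
  haveI : Fact (Nat.Prime 2) := ⟨Nat.prime_two⟩
  obtain ⟨m, rfl⟩ : ∃ m, n = m + 3 := ⟨n - 3, by omega⟩
  have e1 : m + 3 - 1 = m + 2 := rfl
  rw [e1] at hrel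
  obtain ⟨z, hz⟩ : ∃ z, z = a ^ (2 ^ (m + 2)) := ⟨_, rfl⟩
  have hb2 : b * b = 1 := by rw [← sq, ← hbo, pow_orderOf_eq_one]
  have hbinv : b⁻¹ = b := inv_eq_of_mul_eq_one_left hb2
  have hapow : a ^ (2 ^ (m + 3)) = 1 := by rw [← hao, pow_orderOf_eq_one]
  -- reduction of exponents
  have hred : ∀ j k t : ℕ, j = k + 2 ^ (m + 3) * t → a ^ j = a ^ k := by
    intro j k t h
    rw [h, pow_add, pow_mul, hapow, one_pow, mul_one]
  have hz2 : z ^ 2 = 1 := by
    rw [hz, ← pow_mul]
    have := hred (2 ^ (m + 2) * 2) 0 1 (by ring)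
    rw [this, pow_zero]
  have hz1 : z ≠ 1 := by
    rw [hz]
    apply pow_ne_one_of_lt_orderOf (by positivity)
    rw [hao]
    exact Nat.pow_lt_pow_right (by norm_num) (by omega)
  have hzo : orderOf z = 2 := orderOf_eq_prime hz2 hz1
  -- F1 : b commutes with z
  have hbz : b * z * b⁻¹ = z := by
    rw [hz, ← conj_pow, hrel, ← pow_mul]
    exact hred _ _ (2 ^ (m + 1)) (by ring)
  -- F2 : b commutes with a^2
  have hbc : b * a ^ 2 * b⁻¹ = a ^ 2 := by
    rw [← conj_pow, hrel, ← pow_mul]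
    exact hred _ _ 1 (by ring)
  -- the cyclic maximal subgroup
  obtain ⟨Q, hQ⟩ : ∃ Q : Subgroup G, Q = Subgroup.zpowers a := ⟨_, rfl⟩
  have haQ : a ∈ Q := by rw [hQ]; exact Subgroup.mem_zpowers a
  have hzQ : z ∈ Q := by rw [hz]; exact Subgroup.pow_mem _ haQ _
  have hQS : Q ≤ (S : Subgroup G) := by rw [hQ, Subgroup.zpowers_le]; exact ha
  have hQcard : Nat.card ↥Q = 2 ^ (m + 3) := by rw [hQ, Nat.card_zpowers, hao]
  haveI hQcyc : IsCyclic ↥Q := by rw [hQ]; infer_instance
  have hQrel : Q.relIndex (S : Subgroup G) = 2 := by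
    have h1 := card_mul_relIndex hQS
    rw [hQcard, hS, pow_succ (2) (m + 3)] at h1
    exact Nat.eq_of_mul_eq_mul_left (by positivity) h1
  have hidx : (Q.subgroupOf (S : Subgroup G)).index = 2 := hQrel
  have hQcomm : ∀ x ∈ Q, z * x = x * z := by
    intro x hx
    rw [hQ] at hx
    obtain ⟨k, rfl⟩ := Subgroup.mem_zpowers_iff.1 hx
    rw [hz]
    exact (((Commute.refl a).zpow_left k).pow_right _).eq.symm
  have hbQ : b ∉ Q := by
    intro hbQ
    rw [hQ] at hbQ
    obtain ⟨k, hk⟩ := Subgroup.mem_zpowers_iff.1 hbQ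
    have hc : Commute b a := hk ▸ (Commute.refl a).zpow_left k
    have h1 : b * a * b⁻¹ = a := by rw [hc.eq, mul_inv_cancel_right]
    rw [hrel, pow_succ] at h1
    have h2 : a ^ 2 ^ (m + 2) = 1 := by
      have := mul_right_cancel (h1.trans (one_mul a).symm)
      exact this
    exact hz1 (hz.trans h2)
  -- uniqueness of the involution of Q
  have huniq : ∀ y ∈ Q, orderOf y = 2 → y = z := by
    intro y hy hyo
    have h1 : orderOf (⟨y, hy⟩ : ↥Q) = 2 := by rw [Subgroup.orderOf_mk]; exact hyo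
    have h2 : orderOf (⟨z, hzQ⟩ : ↥Q) = 2 := by rw [Subgroup.orderOf_mk]; exact hzo
    have := Cfsg.Agent.Lib.Helper7.eq_of_orderOf_two_of_isCyclic h1 h2
    exact congrArg Subtype.val this
  have hconjo : ∀ (k y : G), orderOf (k * y * k⁻¹) = orderOf y := by
    intro k y
    have := orderOf_injective (MulAut.conj k).toMonoidHom (MulAut.conj k).injective y
    simpa [MulAut.conj_apply] using this
  have hsqQ : ∀ x ∈ (S : Subgroup G), x ^ 2 ∈ Q := by
    intro x hx
    have := Subgroup.sq_mem_of_index_two hidx (⟨x, hx⟩ : ↥(S : Subgroup G))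
    rw [Subgroup.mem_subgroupOf] at this
    simpa using this
  rcases Cfsg.Agent.S0111.result S Q hQS hQrel b hbo hb hbQ with ⟨M, hMn, hMi, hbM⟩ | ⟨g, hg⟩
  · -- G has a normal subgroup of index 2 avoiding b
    haveI := hMn
    have hSM : ¬ (S : Subgroup G) ≤ M := fun h => hbM (h hb)
    have hsup : (S : Subgroup G) ⊔ M = ⊤ := by
      rw [sup_comm]
      exact sup_eq_top_of_index_prime Nat.prime_two hMi hSM
    have hTrel : ((S : Subgroup G) ⊓ M).relIndex (S : Subgroup G) = 2 := by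
      rw [Subgroup.inf_relIndex_left]
      have h1 : M.relIndex (S : Subgroup G) ∣ 2 := by
        have := Subgroup.relIndex_dvd_index_of_normal M (S : Subgroup G)
        rwa [hMi] at this
      rcases (Nat.dvd_prime Nat.prime_two).1 h1 with h | h
      · exact absurd (Subgroup.relIndex_eq_one.1 h) hSM
      · exact h
    have hTcard : Nat.card ↥((S : Subgroup G) ⊓ M) = 2 ^ (m + 3) := by
      have h1 := card_mul_relIndex (inf_le_left : (S : Subgroup G) ⊓ M ≤ (S : Subgroup G))
      rw [hTrel, hS, pow_succ (2) (m + 3)] at h1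
      exact Nat.eq_of_mul_eq_mul_right (by norm_num) h1
    have key : ∀ x ∈ (S : Subgroup G) ⊓ M, orderOf x = 2 ^ (m + 3) →
        IsCyclic ↥((S : Subgroup G) ⊓ M) := by
      intro x hx hxo
      apply isCyclic_of_orderOf_eq_card (⟨x, hx⟩ : ↥((S : Subgroup G) ⊓ M))
      rw [Subgroup.orderOf_mk, hxo, hTcard]
    have hcyc : IsCyclic ↥((S : Subgroup G) ⊓ M) := by
      by_cases haM : a ∈ M
      · exact key a ⟨ha, haM⟩ hao
      · have habM : a * b ∈ M := (Subgroup.mul_mem_iff_of_index_two hMi).2 (iff_of_false haM hbM)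
        have hab2 : (a * b) ^ 2 = a ^ (2 ^ (m + 2) + 2) := by
          have h1 : (a * b) ^ 2 = a * (b * a * b⁻¹) := by rw [hbinv, sq]; group
          rw [h1, hrel, ← pow_succ']
        have habz : (a * b) ^ 2 ^ (m + 2) = z := by
          have h2 : 2 ^ (m + 2) = 2 * 2 ^ (m + 1) := by ring
          rw [h2, pow_mul, hab2, ← pow_mul, hz]
          exact hred _ _ (2 ^ m) (by ring)
        refine key (a * b) ⟨Subgroup.mul_mem _ ha hb, habM⟩ ?_
        apply orderOf_eq_prime_pow (p := 2) (n := m + 2)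
        · rw [habz]; exact hz1
        · rw [pow_succ, pow_mul, habz]; exact hz2
    exact Cfsg.Agent.S3864.hasNormalPComplement_of_cyclic_inf S M hcyc hsup
  · -- b would be conjugate to z : impossible
    exfalso
    have hgz : g * b * g⁻¹ = z := huniq _ hg ((hconjo g b).trans hbo)
    obtain ⟨L, hL⟩ : ∃ L : Subgroup G, L = Subgroup.centralizer ({z} : Set G) := ⟨_, rfl⟩
    have hLmem : ∀ x : G, x ∈ L ↔ z * x = x * z := by
      intro x
      rw [hL, Subgroup.mem_centralizer_iff]
      simp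
    have hbL : z * b = b * z := by
      have := hbz
      rw [mul_inv_eq_iff_eq_mul] at this
      exact this.symm
    have hSL : (S : Subgroup G) ≤ L := by
      intro x hx
      rw [hLmem]
      by_cases hxQ : x ∈ Q
      · exact hQcomm x hxQ
      · have h1 : x * b ∈ Q := by
          have := (Subgroup.mul_mem_iff_of_index_two hidx (a := (⟨x, hx⟩ : ↥(S : Subgroup G)))
            (b := (⟨b, hb⟩ : ↥(S : Subgroup G)))).2
            (iff_of_false (by rw [Subgroup.mem_subgroupOf]; exact hxQ)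
              (by rw [Subgroup.mem_subgroupOf]; exact hbQ))
          rw [Subgroup.mem_subgroupOf] at this
          simpa using this
        have h2 := hQcomm _ h1
        have h3 : x = (x * b) * b := by rw [mul_assoc, hb2, mul_one]
        rw [h3, ← mul_assoc, h2, mul_assoc, hbL, ← mul_assoc]
    -- c = a^2 commutes with b
    have hcb : b * a ^ 2 = a ^ 2 * b := by
      have := hbc
      rw [mul_inv_eq_iff_eq_mul] at this
      exact this
    obtain ⟨c1, hc1⟩ : ∃ c1, c1 = g * a ^ 2 * g⁻¹ := ⟨_, rfl⟩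
    have hc1L : c1 ∈ L := by
      rw [hLmem, ← hgz, hc1]
      have : g * b * g⁻¹ * (g * a ^ 2 * g⁻¹) = g * (b * a ^ 2) * g⁻¹ := by group
      rw [this, hcb]
      group
    have hc1pow : c1 ^ 2 ^ (m + 2) = 1 := by
      rw [hc1, conj_pow, ← pow_mul]
      have := hred (2 * 2 ^ (m + 2)) 0 1 (by ring)
      rw [this, pow_zero, mul_one, mul_inv_cancel]
    have hR : IsPGroup 2 ↥(Subgroup.zpowers c1) := by
      rintro ⟨x, hx⟩
      obtain ⟨j, rfl⟩ := Subgroup.mem_zpowers_iff.1 hx
      refine ⟨m + 2, Subtype.ext ?_⟩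
      rw [Subgroup.coe_pow, Subgroup.coe_one]
      show (c1 ^ j) ^ 2 ^ (m + 2) = 1
      rw [← zpow_natCast, ← zpow_mul, mul_comm, zpow_mul, zpow_natCast, hc1pow, one_zpow]
    obtain ⟨h, hhL, hh⟩ := Cfsg.Agent.Lib.Helper2.QDFusA.exists_conj_mem_of_le S hSL
      (Subgroup.zpowers_le.2 hc1L) hR
    have hc2S : h * c1 * h⁻¹ ∈ (S : Subgroup G) := hh c1 (Subgroup.mem_zpowers c1)
    have hc2 : h * c1 * h⁻¹ = (h * g) * a ^ 2 * (h * g)⁻¹ := by rw [hc1]; group
    have hw : (h * c1 * h⁻¹) ^ 2 ^ (m + 1) = (h * g) * z * (h * g)⁻¹ := by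
      rw [hc2, conj_pow, ← pow_mul, hz]
      congr 2
      exact hred _ _ 0 (by ring)
    have hwQ : (h * c1 * h⁻¹) ^ 2 ^ (m + 1) ∈ Q := by
      have h2 : 2 ^ (m + 1) = 2 * 2 ^ m := by ring
      rw [h2, pow_mul]
      exact Subgroup.pow_mem _ (hsqQ _ hc2S) _
    have hkz : (h * g) * z * (h * g)⁻¹ = z := by
      apply huniq
      · rw [← hw]; exact hwQ
      · exact (hconjo _ z).trans hzo
    have hkb : (h * g) * b * (h * g)⁻¹ = z := by
      have : (h * g) * b * (h * g)⁻¹ = h * (g * b * g⁻¹) * h⁻¹ := by group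
      rw [this, hgz]
      have h1 := (hLmem h).1 hhL
      rw [← h1, mul_inv_cancel_right]
    have hzb : z = b := by
      have := hkz.trans hkb.symm
      exact mul_left_cancel (mul_right_cancel this)
    exact hbQ (hzb ▸ hzQ)

end Cfsg.Agent.S3178
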