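import Cfsg.Statements.S3179
import Cfsg.Agent.Lib.Helper4.GL52
import Cfsg.Agent.Lib.Helper4.GL52b
import Cfsg.Agent.Lib.Helper4.SzB4
import Cfsg.Agent.S0280
import Cfsg.Agent.Lib.Helper4.PSL2Graph

set_option autoImplicit false
open Cfsg

namespace Cfsg.Agent.S3179

/-- Let X be a section of the general linear group GL(5, 2), that is, a quotient of a subgroup of it. If X is isomorphic to PSL(2, 2^n) for some n ≥ 2, to a Suzuki group over the field with 2^(2m+1) elements for some m ≥ 1, or to PSU(3, 2^n) for some n ≥ 2, then X is isomorphic to PSL(2, 4). -/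
theorem result {H : Subgroup (GL (Fin 5) (ZMod 2))}
    {K : Subgroup ↥H} [K.Normal]
    (hX : (∃ (n : ℕ) (F : Type) (_ : Field F) (_ : Fintype F), 2 ≤ n ∧ Fintype.card F = 2 ^ n ∧
        Nonempty (↥H ⧸ K ≃* Matrix.ProjectiveSpecialLinearGroup (Fin 2) F)) ∨
      (∃ (m : ℕ) (F : Type) (_ : Field F) (_ : Fintype F), 1 ≤ m ∧ Fintype.card F = 2 ^ (2 * m + 1) ∧
        Nonempty (↥H ⧸ K ≃* ↥(Cfsg.Lie.Sz F (2 ^ (m + 1))))) ∨
      (∃ (n : ℕ) (F : Type) (_ : Field F) (_ : Fintype F), 2 ≤ n ∧ Fintype.card F = 4 ^ n ∧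
        Nonempty (↥H ⧸ K ≃* Cfsg.PSU 3 F (2 ^ n)))) :
    ∃ (F : Type) (_ : Field F) (_ : Fintype F), Fintype.card F = 4 ∧
      Nonempty (↥H ⧸ K ≃* Matrix.ProjectiveSpecialLinearGroup (Fin 2) F) := by
  classical
  -- the order of GL₅(2)
  have hGL : Nat.card (GL (Fin 5) (ZMod 2)) = 9999360 := by
    rw [Matrix.card_GL_field]
    simp [Fin.prod_univ_five]
  have hdvd : Nat.card (↥H ⧸ K) ∣ 9999360 := by
    rw [← hGL]
    exact (Subgroup.card_quotient_dvd_card K).trans (Subgroup.card_subgroup_dvd_card H)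
  rcases hX with ⟨n, F, iF, iFt, hn, hF, ⟨e⟩⟩ | ⟨m, F, iF, iFt, hm, hF, ⟨e⟩⟩ | ⟨n, F, iF, iFt, hn, hF, ⟨e⟩⟩
  · -- PSL₂(2^n)
    haveI : CharP F 2 := Cfsg.Agent.Lib.Helper4.GL52.charP_two_of_card (n := n) (by omega) hF
    have hcard : Nat.card (Matrix.ProjectiveSpecialLinearGroup (Fin 2) F) = 2 ^ n * ((2 ^ n) ^ 2 - 1) := by
      have h1 := Subgroup.card_eq_card_quotient_mul_card_subgroup
        (Subgroup.center (Matrix.SpecialLinearGroup (Fin 2) F))
      have hc : Nat.card (Subgroup.center (Matrix.SpecialLinearGroup (Fin 2) F)) = 1 := by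
        rw [Cfsg.Agent.Lib.Helper4.center_SL2_eq_bot, Subgroup.card_bot]
      rw [hc, mul_one, Cfsg.Agent.Lib.Helper4.card_SL2, hF] at h1
      exact h1.symm
    rw [Nat.card_congr e.toEquiv, hcard] at hdvd
    have hn10 : n ≤ 10 := by
      have h1 : 2 ^ n ∣ 2 ^ 10 * 9765 := (dvd_mul_right _ _).trans hdvd
      have h2 : Nat.Coprime (2 ^ n) 9765 := Nat.Coprime.pow_left n (by norm_num)
      have h3 := h2.dvd_of_dvd_mul_right h1
      exact (Nat.pow_dvd_pow_iff_le_right (by norm_num)).1 h3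
    interval_cases n
    · exact ⟨F, iF, iFt, by rw [hF]; norm_num, ⟨e⟩⟩
    · -- n = 3 : element of order 9
      exfalso
      obtain ⟨x, hx⟩ := Cfsg.Agent.Lib.Helper4.GL52.exists_order_nine (F := F) (by rw [hF]; norm_num)
      have hy : orderOf (e.symm x) = 9 := by rw [MulEquiv.orderOf_eq, hx]
      obtain ⟨h, hh⟩ := QuotientGroup.mk_surjective (e.symm x)
      have h9 : 9 ∣ orderOf h := by
        rw [← hy, ← hh]
        exact orderOf_map_dvd (QuotientGroup.mk' K) h
      obtain ⟨c, hc⟩ := h9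
      have hpos : 0 < orderOf h := orderOf_pos h
      have hc0 : c ≠ 0 := by rintro rfl; omega
      have ha : orderOf (h ^ c) = 9 := by
        rw [orderOf_pow_of_dvd hc0 (by rw [hc]; exact dvd_mul_left _ _), hc]
        exact Nat.mul_div_cancel _ (Nat.pos_of_ne_zero hc0)
      have hA : orderOf ((h ^ c : ↥H) : GL (Fin 5) (ZMod 2)) = 9 := by
        rw [Subgroup.orderOf_coe, ha]
      have h3 := Cfsg.Agent.Lib.Helper4.GL52.pow_three_eq_one _
        (by rw [← hA]; exact pow_orderOf_eq_one _)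
      have := orderOf_dvd_of_pow_eq_one h3
      rw [hA] at this
      omega
    all_goals (exfalso; revert hdvd; norm_num)
  · -- Suzuki
    exfalso
    have e' := (Cfsg.Agent.Lib.Helper4.Suz.szEquiv (F := F) hF hm)
    have hcard := Cfsg.Agent.Lib.Helper4.Suz.card_Sz (F := F) hF hm
    rw [Nat.card_congr (e.trans e'.symm).toEquiv, hcard] at hdvd
    have hm2 : m ≤ 2 := by
      have h1 : (2 ^ (2 * m + 1)) ^ 2 ∣ 2 ^ 10 * 9765 :=
        ((dvd_mul_right _ _).trans (dvd_mul_right _ _)).trans hdvd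
      have h2 : Nat.Coprime ((2 ^ (2 * m + 1)) ^ 2) 9765 :=
        Nat.Coprime.pow_left 2 (Nat.Coprime.pow_left _ (by norm_num))
      have h3 := h2.dvd_of_dvd_mul_right h1
      rw [← pow_mul] at h3
      have := (Nat.pow_dvd_pow_iff_le_right (by norm_num)).1 h3
      omega
    interval_cases m <;> (revert hdvd; norm_num)
  · -- PSU₃
    exfalso
    have hF' : Fintype.card F = (2 ^ n) ^ 2 := by
      rw [hF, ← pow_mul, mul_comm, pow_mul]; norm_num
    have hcard := Cfsg.Agent.S0280.result (F := F) (q := 2 ^ n) hF' 3 (by norm_num)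
    rw [← Nat.card_congr e.toEquiv] at hcard
    have hn3 : n ≤ 3 := by
      have h0 : (2 ^ n) ^ 3 ∣ Nat.gcd 3 (2 ^ n + 1) * ((2 ^ n + 1) * Nat.card (↥H ⧸ K)) := by
        rw [hcard]
        norm_num
      have hc1 : Nat.Coprime ((2 ^ n) ^ 3) (Nat.gcd 3 (2 ^ n + 1)) := by
        apply Nat.Coprime.coprime_dvd_right (Nat.gcd_dvd_right _ _)
        apply Nat.Coprime.pow_left
        simp
      have hc2 : Nat.Coprime ((2 ^ n) ^ 3) (2 ^ n + 1) := by
        apply Nat.Coprime.pow_left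
        simp
      have h1 := hc2.dvd_of_dvd_mul_left (hc1.dvd_of_dvd_mul_left h0)
      have h1' : (2 ^ n) ^ 3 ∣ 2 ^ 10 * 9765 := h1.trans hdvd
      have h2 : Nat.Coprime ((2 ^ n) ^ 3) 9765 :=
        Nat.Coprime.pow_left 3 (Nat.Coprime.pow_left _ (by norm_num))
      have h3 := h2.dvd_of_dvd_mul_right h1'
      rw [← pow_mul] at h3
      have := (Nat.pow_dvd_pow_iff_le_right (by norm_num)).1 h3
      omega
    interval_cases n
    · -- q = 4 : 13 divides
      have h13 : 13 ∣ Nat.gcd 3 (2 ^ 2 + 1) * ((2 ^ 2 + 1) * Nat.card (↥H ⧸ K)) := by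
        rw [hcard]; norm_num [Finset.prod_range_succ]
      have hp : Nat.Prime 13 := by norm_num
      rcases (hp.dvd_mul).1 h13 with h | h
      · revert h; norm_num
      rcases (hp.dvd_mul).1 h with h | h
      · revert h; norm_num
      · have := h.trans hdvd
        revert this; norm_num
    · -- q = 8 : 19 divides
      have h19 : 19 ∣ Nat.gcd 3 (2 ^ 3 + 1) * ((2 ^ 3 + 1) * Nat.card (↥H ⧸ K)) := by
        rw [hcard]; norm_num [Finset.prod_range_succ]
      have hp : Nat.Prime 19 := by norm_num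
      rcases (hp.dvd_mul).1 h19 with h | h
      · revert h; norm_num
      rcases (hp.dvd_mul).1 h with h | h
      · revert h; norm_num
      · have := h.trans hdvd
        revert this; norm_num

end Cfsg.Agent.S3179
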