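import Cfsg.Statements.S3180
import Mathlib

set_option autoImplicit false
set_option linter.style.haveILetI false
open Cfsg

namespace Cfsg.Agent.S3180

open scoped Pointwise

/-- If `g W g⁻¹ ≤ P` for a weakly closed subgroup `W` of `P` then `g` normalizes `W`. -/
theorem mem_normalizer_of_weaklyClosed {J : Type*} [Group J] (W P : Subgroup J)
    (hW : Cfsg.IsWeaklyClosed W P) (g : J) (h : ∀ w ∈ W, g * w * g⁻¹ ∈ P) :
    g ∈ Subgroup.normalizer (W : Set J) := by
  rw [Subgroup.mem_normalizer_iff_map_conj_eq]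
  apply hW.2 g
  rintro _ ⟨w, hw, rfl⟩
  exact h w hw

theorem conj_in_subgroup {J : Type*} [Group J] [Finite J]
    {p : ℕ} [Fact p.Prime] (P : Sylow p J) (W : Subgroup J) (hW : Cfsg.IsWeaklyClosed W (P : Subgroup J))
    (H : Subgroup J) (hWH : W ≤ H) (g : J) (hgWH : ∀ w ∈ W, g * w * g⁻¹ ∈ H) :
    ∃ h ∈ H, h⁻¹ * g ∈ Subgroup.normalizer (W : Set J) := by
  classical
  have hWp : IsPGroup p W := P.2.to_le hW.1
  -- the conjugate subgroup
  set Wg : Subgroup J := W.map (MulAut.conj g).toMonoidHom with hWg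
  have hWgp : IsPGroup p Wg := hWp.map _
  have hWgH : Wg ≤ H := by
    rintro _ ⟨w, hw, rfl⟩
    exact hgWH w hw
  obtain ⟨Q1, hQ1⟩ := (hWp.comap_subtype (K := H)).exists_le_sylow
  obtain ⟨Q2, hQ2⟩ := (hWgp.comap_subtype (K := H)).exists_le_sylow
  obtain ⟨h, hh⟩ := MulAction.exists_smul_eq H Q2 Q1
  -- h • Q2 = Q1
  set R1 : Subgroup J := (Q1 : Subgroup H).map H.subtype with hR1
  have hR1p : IsPGroup p R1 := Q1.2.map _
  obtain ⟨S, hS⟩ := hR1p.exists_le_sylow
  obtain ⟨k, hk⟩ := MulAction.exists_smul_eq J S P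
  -- k • S = P
  have hWR1 : ∀ w ∈ W, w ∈ R1 := by
    intro w hw
    refine ⟨⟨w, hWH hw⟩, hQ1 ?_, rfl⟩
    exact hw
  have hconjS : ∀ s ∈ (S : Subgroup J), k * s * k⁻¹ ∈ (P : Subgroup J) := by
    intro s hs
    rw [← hk]
    exact ⟨s, hs, rfl⟩
  have hk_norm : k ∈ Subgroup.normalizer (W : Set J) := by
    apply mem_normalizer_of_weaklyClosed W P hW
    intro w hw
    exact hconjS w (hS (hWR1 w hw))
  -- elements of Wg conjugated by h lie in R1
  have hWgR1 : ∀ w ∈ W, (h : J) * (g * w * g⁻¹) * (h : J)⁻¹ ∈ R1 := by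
    intro w hw
    have h1 : g * w * g⁻¹ ∈ Wg := ⟨w, hw, rfl⟩
    have h2 : (⟨g * w * g⁻¹, hWgH h1⟩ : H) ∈ (Q2 : Subgroup H) := hQ2 h1
    have h3 : h * (⟨g * w * g⁻¹, hWgH h1⟩ : H) * h⁻¹ ∈ (Q1 : Subgroup H) := by
      rw [← hh]
      exact ⟨_, h2, rfl⟩
    exact ⟨_, h3, rfl⟩
  have hkhg : k * h * g ∈ Subgroup.normalizer (W : Set J) := by
    apply mem_normalizer_of_weaklyClosed W P hW
    intro w hw
    have := hconjS _ (hS (hWgR1 w hw))
    have e : k * h * g * w * (k * h * g)⁻¹ = k * ((h : J) * (g * w * g⁻¹) * (h : J)⁻¹) * k⁻¹ := by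
      group
    rw [e]
    exact this
  -- so h * g normalizes W
  have hhg : (h : J) * g ∈ Subgroup.normalizer (W : Set J) := by
    have := (Subgroup.normalizer (W : Set J)).mul_mem
      ((Subgroup.normalizer (W : Set J)).inv_mem hk_norm) hkhg
    have e : k⁻¹ * (k * h * g) = h * g := by group
    rw [e] at this
    exact this
  refine ⟨(h : J)⁻¹, H.inv_mem h.2, ?_⟩
  rw [inv_inv]
  exact hhg

/-- Let P be a Sylow p-subgroup of a finite group J and P₁ a subgroup of P that is weakly closed in P with respect to J. If J acts on a set and two points, each fixed by every element of P₁, lie in one J-orbit, then they lie in one orbit of the normalizer of P₁ in J. -/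
theorem result {J : Type*} [Group J] [Finite J]
    {p : ℕ} [Fact p.Prime] (P : Sylow p J) (P₁ : Subgroup J) (hW : Cfsg.IsWeaklyClosed P₁ (P : Subgroup J))
    {Ω : Type*} [MulAction J Ω] (x y : Ω) (hx : ∀ g ∈ P₁, g • x = x) (hy : ∀ g ∈ P₁, g • y = y)
    (hc : ∃ g : J, g • x = y) :
    ∃ g ∈ Subgroup.normalizer (P₁ : Set J), g • x = y := by
  obtain ⟨g, hg⟩ := hc
  obtain ⟨h, hh, hn⟩ := conj_in_subgroup P P₁ hW (MulAction.stabilizer J y) (fun w hw => hy w hw) g
    (by
      intro w hw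
      rw [MulAction.mem_stabilizer_iff, mul_smul, mul_smul, ← hg, inv_smul_smul, hx w hw])
  refine ⟨h⁻¹ * g, hn, ?_⟩
  rw [mul_smul, hg]
  have : h • y = y := hh
  rw [inv_smul_eq_iff, this]

end Cfsg.Agent.S3180
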