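import Cfsg.Statements.S3203
import Mathlib

set_option autoImplicit false
set_option linter.style.haveILetI false
open Cfsg

namespace Cfsg.Agent.S3203

section Internal
variable {S₀ : Type*} [Group S₀]

theorem ea_comm {E : Subgroup S₀} (hE : Cfsg.IsElementaryAbelian 2 E) :
    ∀ a ∈ E, ∀ b ∈ E, a * b = b * a := by
  intro a ha b hb
  have := hE.1.is_comm.comm (⟨a, ha⟩ : E) ⟨b, hb⟩
  exact congrArg Subtype.val this

theorem ea_of {E : Subgroup S₀} (h1 : ∀ a ∈ E, ∀ b ∈ E, a * b = b * a) (h2 : ∀ a ∈ E, a ^ 2 = 1) :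
    Cfsg.IsElementaryAbelian 2 E :=
  ⟨⟨⟨fun a b => Subtype.ext (h1 a a.2 b b.2)⟩⟩, h2⟩

/-- image of an elementary abelian subgroup under an isomorphism -/
theorem ea_map {T₀ : Type*} [Group T₀] (φ : S₀ ≃* T₀) {E : Subgroup S₀} (hE : Cfsg.IsElementaryAbelian 2 E) :
    Cfsg.IsElementaryAbelian 2 (E.map φ.toMonoidHom) := by
  apply ea_of
  · rintro _ ⟨a, ha, rfl⟩ _ ⟨b, hb, rfl⟩
    simp only [MulEquiv.toMonoidHom_eq_coe, MonoidHom.coe_coe]
    rw [← map_mul, ← map_mul, ea_comm hE a ha b hb]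
  · rintro _ ⟨a, ha, rfl⟩
    simp only [MulEquiv.toMonoidHom_eq_coe, MonoidHom.coe_coe]
    rw [← map_pow, hE.2 a ha, map_one]

/-- maximality among elementary abelian subgroups -/
def IsMaxEA (C : Subgroup S₀) : Prop :=
  Cfsg.IsElementaryAbelian 2 C ∧ ∀ D : Subgroup S₀, Cfsg.IsElementaryAbelian 2 D → C ≤ D → D = C

theorem maxEA_map (φ : S₀ ≃* S₀) {C : Subgroup S₀} (hC : IsMaxEA C) : IsMaxEA (C.map φ.toMonoidHom) := by
  refine ⟨ea_map φ hC.1, ?_⟩
  intro D hD hle
  have h1 : C ≤ D.map φ.symm.toMonoidHom := by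
    intro c hc
    exact ⟨φ c, hle ⟨c, hc, rfl⟩, by simp⟩
  have h2 := hC.2 _ (ea_map φ.symm hD) h1
  rw [← h2, Subgroup.map_map]
  ext x
  simp

/-- every elementary abelian subgroup lies in a maximal one -/
theorem exists_maxEA [Finite S₀] (E : Subgroup S₀) (hE : Cfsg.IsElementaryAbelian 2 E) :
    ∃ M : Subgroup S₀, IsMaxEA M ∧ E ≤ M := by
  classical
  -- induction on the codimension
  have key : ∀ (n : ℕ) (E : Subgroup S₀), Cfsg.IsElementaryAbelian 2 E → Nat.card S₀ - Nat.card E = n →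
      ∃ M : Subgroup S₀, IsMaxEA M ∧ E ≤ M := by
    intro n
    induction n using Nat.strong_induction_on with
    | _ n ih =>
      intro E hE hn
      by_cases hmax : ∀ D : Subgroup S₀, Cfsg.IsElementaryAbelian 2 D → E ≤ D → D = E
      · exact ⟨E, ⟨hE, hmax⟩, le_rfl⟩
      · push Not at hmax
        obtain ⟨D, hD, hED, hne⟩ := hmax
        have hlt : Nat.card E < Nat.card D := by
          by_contra hcon
          rw [not_lt] at hcon
          exact hne (Subgroup.eq_of_le_of_card_ge hED hcon).symm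
        have hDle : Nat.card D ≤ Nat.card S₀ := Subgroup.card_le_card_group D
        obtain ⟨M, hM, hDM⟩ := ih (Nat.card S₀ - Nat.card D) (by omega) D hD rfl
        exact ⟨M, hM, le_trans hED hDM⟩
  exact key _ E hE rfl

structure TwoMax (A B : Subgroup S₀) : Prop where
  ne : A ≠ B
  maxA : IsMaxEA A
  maxB : IsMaxEA B
  only : ∀ C : Subgroup S₀, IsMaxEA C → C = A ∨ C = B
  prod : ∀ s : S₀, ∃ a ∈ A, ∃ b ∈ B, a * b = s

theorem TwoMax.le_or_le [Finite S₀] {A B : Subgroup S₀} (h : TwoMax A B) (E : Subgroup S₀)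
    (hE : Cfsg.IsElementaryAbelian 2 E) : E ≤ A ∨ E ≤ B := by
  obtain ⟨M, hM, hEM⟩ := exists_maxEA E hE
  rcases h.only M hM with rfl | rfl
  · exact Or.inl hEM
  · exact Or.inr hEM

theorem TwoMax.symm {A B : Subgroup S₀} (h : TwoMax A B) : TwoMax B A where
  ne := h.ne.symm
  maxA := h.maxB
  maxB := h.maxA
  only := fun C hC => (h.only C hC).symm
  prod := by
    intro s
    obtain ⟨a, ha, b, hb, hs⟩ := h.prod s⁻¹
    refine ⟨b⁻¹, B.inv_mem hb, a⁻¹, A.inv_mem ha, ?_⟩
    rw [← mul_inv_rev, hs, inv_inv]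

/-- an automorphism permutes `{A, B}` -/
theorem TwoMax.map_eq (φ : S₀ ≃* S₀) {A B : Subgroup S₀} (h : TwoMax A B) :
    (A.map φ.toMonoidHom = A ∧ B.map φ.toMonoidHom = B) ∨
      (A.map φ.toMonoidHom = B ∧ B.map φ.toMonoidHom = A) := by
  have hinj : A.map φ.toMonoidHom ≠ B.map φ.toMonoidHom := by
    intro heq
    apply h.ne
    exact Subgroup.map_injective φ.injective heq
  rcases h.only _ (maxEA_map φ h.maxA) with h1 | h1 <;> rcases h.only _ (maxEA_map φ h.maxB) with h2 | h2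
  · exact absurd (h1.trans h2.symm) hinj
  · exact Or.inl ⟨h1, h2⟩
  · exact Or.inr ⟨h1, h2⟩
  · exact absurd (h1.trans h2.symm) hinj

/-- `A` is normal -/
theorem TwoMax.normalA {A B : Subgroup S₀} (h : TwoMax A B) : A.Normal := by
  have hB : ∀ b ∈ B, ∀ a ∈ A, b * a * b⁻¹ ∈ A := by
    intro b hb a ha
    rcases h.map_eq (MulAut.conj b) with ⟨h1, -⟩ | ⟨-, h2⟩
    · rw [← h1]
      exact ⟨a, ha, by simp⟩
    · exfalso
      apply h.ne
      -- conj b B = B always
      have h3 : B.map (MulAut.conj b).toMonoidHom = B := by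
        ext x
        constructor
        · rintro ⟨y, hy, rfl⟩
          simp only [MulEquiv.toMonoidHom_eq_coe, MonoidHom.coe_coe, MulAut.conj_apply]
          exact B.mul_mem (B.mul_mem hb hy) (B.inv_mem hb)
        · intro hx
          refine ⟨b⁻¹ * x * b, B.mul_mem (B.mul_mem (B.inv_mem hb) hx) hb, ?_⟩
          simp only [MulEquiv.toMonoidHom_eq_coe, MonoidHom.coe_coe, MulAut.conj_apply]
          group
      rw [h3] at h2
      exact h2.symm
  constructor
  intro a ha s
  obtain ⟨a₁, ha₁, b₁, hb₁, rfl⟩ := h.prod s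
  have : a₁ * b₁ * a * (a₁ * b₁)⁻¹ = a₁ * (b₁ * a * b₁⁻¹) * a₁⁻¹ := by group
  rw [this]
  exact A.mul_mem (A.mul_mem ha₁ (hB b₁ hb₁ a ha)) (A.inv_mem ha₁)

/-- `A` is self-centralizing -/
theorem TwoMax.self_cent {A B : Subgroup S₀} (h : TwoMax A B) (s : S₀)
    (hs : ∀ a ∈ A, a * s = s * a) : s ∈ A := by
  obtain ⟨a₁, ha₁, b, hb, rfl⟩ := h.prod s
  have hcA := ea_comm h.maxA.1
  have hbc : ∀ a ∈ A, a * b = b * a := by
    intro a ha
    have h1 := hs a ha
    have h2 := hcA a ha a₁ ha₁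
    calc a * b = a₁⁻¹ * (a₁ * a) * b := by group
      _ = a₁⁻¹ * (a * a₁) * b := by rw [h2]
      _ = a₁⁻¹ * (a * (a₁ * b)) := by group
      _ = a₁⁻¹ * (a₁ * b * a) := by rw [h1]
      _ = b * a := by group
  have hb2 : b ^ 2 = 1 := h.maxB.1.2 b hb
  -- E = closure (A ∪ {b})
  have hgen : ∀ x ∈ (A : Set S₀) ∪ {b}, ∀ y ∈ (A : Set S₀) ∪ {b}, x * y = y * x := by
    intro x hx y hy
    rcases hx with hx | hx <;> rcases hy with hy | hy
    · exact hcA x hx y hy
    · rw [Set.mem_singleton_iff] at hy; subst hy; exact hbc x hx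
    · rw [Set.mem_singleton_iff] at hx; subst hx; exact (hbc y hy).symm
    · rw [Set.mem_singleton_iff] at hx hy; subst hx; subst hy; rfl
  have hEc : IsMulCommutative (Subgroup.closure ((A : Set S₀) ∪ {b})) :=
    Subgroup.isMulCommutative_closure hgen
  have hEcomm : ∀ x ∈ Subgroup.closure ((A : Set S₀) ∪ {b}), ∀ y ∈ Subgroup.closure ((A : Set S₀) ∪ {b}),
      x * y = y * x := by
    intro x hx y hy
    have := hEc.is_comm.comm (⟨x, hx⟩ : Subgroup.closure ((A : Set S₀) ∪ {b})) ⟨y, hy⟩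
    exact congrArg Subtype.val this
  have hE2 : ∀ x ∈ Subgroup.closure ((A : Set S₀) ∪ {b}), x ^ 2 = 1 := by
    intro x hx
    induction hx using Subgroup.closure_induction with
    | mem x hx =>
      rcases hx with hx | hx
      · exact h.maxA.1.2 x hx
      · rw [Set.mem_singleton_iff] at hx; subst hx; exact hb2
    | one => simp
    | mul x y hx hy ihx ihy =>
      have := hEcomm x hx y hy
      rw [pow_two] at *
      calc x * y * (x * y) = x * (y * x) * y := by group
        _ = x * (x * y) * y := by rw [this]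
        _ = (x * x) * (y * y) := by group
        _ = 1 := by rw [ihx, ihy, one_mul]
    | inv x hx ihx => rw [inv_pow, ihx, inv_one]
  have hEA : Cfsg.IsElementaryAbelian 2 (Subgroup.closure ((A : Set S₀) ∪ {b})) := ⟨hEc, hE2⟩
  have hAE : A ≤ Subgroup.closure ((A : Set S₀) ∪ {b}) :=
    fun a ha => Subgroup.subset_closure (Or.inl ha)
  have := h.maxA.2 _ hEA hAE
  have hbA : b ∈ A := by
    rw [← this]
    exact Subgroup.subset_closure (Or.inr rfl)
  exact A.mul_mem ha₁ hbA

end Internal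

section External
open scoped Pointwise
variable {G : Type*} [Group G]

/-- conjugation by a normalizing element as an automorphism of the subgroup -/
def conjEquiv (T : Subgroup G) (x : G) (hx : ∀ t ∈ T, x * t * x⁻¹ ∈ T)
    (hx' : ∀ t ∈ T, x⁻¹ * t * x ∈ T) : T ≃* T where
  toFun t := ⟨x * t * x⁻¹, hx t t.2⟩
  invFun t := ⟨x⁻¹ * t * x, hx' t t.2⟩
  left_inv t := by ext; simp [mul_assoc]
  right_inv t := by ext; simp [mul_assoc]
  map_mul' a b := by ext; simp [mul_assoc]

def cj (g : G) (H : Subgroup G) : Subgroup G := H.map (MulAut.conj g).toMonoidHom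

theorem mem_cj {g x : G} {H : Subgroup G} : x ∈ cj g H ↔ g⁻¹ * x * g ∈ H := by
  constructor
  · rintro ⟨y, hy, rfl⟩
    have : g⁻¹ * ((MulAut.conj g).toMonoidHom y) * g = y := by
      simp [mul_assoc]
    rw [this]
    exact hy
  · intro h
    exact ⟨g⁻¹ * x * g, h, by simp [mul_assoc]⟩

theorem cj_mul (g h : G) (H : Subgroup G) : cj g (cj h H) = cj (g * h) H := by
  ext x
  simp only [mem_cj, mul_inv_rev, mul_assoc]

theorem cj_one (H : Subgroup G) : cj 1 H = H := by
  ext x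
  simp [mem_cj]

theorem cj_mono (g : G) {H K : Subgroup G} (h : H ≤ K) : cj g H ≤ cj g K := by
  intro x hx
  rw [mem_cj] at hx ⊢
  exact h hx

theorem card_cj (g : G) (H : Subgroup G) : Nat.card (cj g H) = Nat.card H :=
  Subgroup.card_map_of_injective (MulAut.conj g).injective

theorem cj_inv_cj (g : G) (H : Subgroup G) : cj g⁻¹ (cj g H) = H := by
  rw [cj_mul, inv_mul_cancel, cj_one]

theorem cj_cj_inv (g : G) (H : Subgroup G) : cj g (cj g⁻¹ H) = H := by
  rw [cj_mul, mul_inv_cancel, cj_one]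

theorem ea_cj (g : G) {H : Subgroup G} (hH : Cfsg.IsElementaryAbelian 2 H) :
    Cfsg.IsElementaryAbelian 2 (cj g H) := ea_map (MulAut.conj g) hH

theorem cj_eq_iff_mem_normalizer (g : G) (H : Subgroup G) :
    cj g H = H ↔ g ∈ Subgroup.normalizer (H : Set G) := by
  rw [Subgroup.mem_normalizer_iff_map_conj_eq]
  rfl

theorem cj_eq_of_mem {g : G} {H : Subgroup G} (hg : g ∈ H) : cj g H = H := by
  rw [cj_eq_iff_mem_normalizer]
  exact Subgroup.le_normalizer hg

/-- Sylow conjugacy inside a subgroup -/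
theorem sylow_conj_in [Finite G] (S : Sylow 2 G) (H R : Subgroup G) (hSH : (S : Subgroup G) ≤ H) (hRH : R ≤ H)
    (hR : IsPGroup 2 R) : ∃ m ∈ H, cj m R ≤ (S : Subgroup G) := by
  haveI : Fact (Nat.Prime 2) := ⟨Nat.prime_two⟩
  have hR' : IsPGroup 2 (R.subgroupOf H) :=
    IsPGroup.of_equiv hR (Subgroup.subgroupOfEquivOfLe hRH).symm
  obtain ⟨Q, hQ⟩ := hR'.exists_le_sylow
  obtain ⟨m, hm⟩ := MulAction.exists_smul_eq H Q (S.subtype hSH)
  refine ⟨m, m.2, ?_⟩
  intro x hx
  rw [mem_cj] at hx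
  have hxH : (m : G)⁻¹ * x * m ∈ H := hRH hx
  have h1 : (⟨(m : G)⁻¹ * x * m, hxH⟩ : H) ∈ R.subgroupOf H := by
    rw [Subgroup.mem_subgroupOf]
    exact hx
  have h2 := hQ h1
  have h4 : (MulAut.conj m • (⟨(m : G)⁻¹ * x * m, hxH⟩ : H)) ∈ MulAut.conj m • (Q : Subgroup H) :=
    Subgroup.smul_mem_pointwise_smul_iff.2 h2
  rw [← Sylow.coe_subgroup_smul, hm, Sylow.coe_subtype, Subgroup.mem_subgroupOf] at h4
  have h5 : ((MulAut.conj m • (⟨(m : G)⁻¹ * x * m, hxH⟩ : H) : H) : G) = x := by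
    rw [MulAut.smul_def, MulAut.conj_apply]
    simp only [Subgroup.coe_mul, Subgroup.coe_inv]
    group
  rw [h5] at h4
  exact h4

variable (S : Sylow 2 G)

/-- push a subgroup of the Sylow subgroup up to `G` -/
def up (A : Subgroup ↥(S : Subgroup G)) : Subgroup G := A.map (S : Subgroup G).subtype

theorem mem_up {A : Subgroup ↥(S : Subgroup G)} {x : G} :
    x ∈ up S A ↔ ∃ hx : x ∈ (S : Subgroup G), (⟨x, hx⟩ : ↥(S : Subgroup G)) ∈ A := by
  constructor
  · rintro ⟨y, hy, rfl⟩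
    exact ⟨y.2, hy⟩
  · rintro ⟨hx, h⟩
    exact ⟨⟨x, hx⟩, h, rfl⟩

theorem up_le (A : Subgroup ↥(S : Subgroup G)) : up S A ≤ (S : Subgroup G) := by
  intro x hx
  rw [mem_up] at hx
  exact hx.1

theorem up_injective {A B : Subgroup ↥(S : Subgroup G)} (h : up S A = up S B) : A = B :=
  Subgroup.map_injective (Subgroup.subtype_injective _) h

theorem card_up (A : Subgroup ↥(S : Subgroup G)) : Nat.card (up S A) = Nat.card A :=
  Subgroup.card_map_of_injective (Subgroup.subtype_injective _)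

theorem ea_up {A : Subgroup ↥(S : Subgroup G)} (hA : Cfsg.IsElementaryAbelian 2 A) :
    Cfsg.IsElementaryAbelian 2 (up S A) := by
  apply ea_of
  · rintro _ ⟨a, ha, rfl⟩ _ ⟨b, hb, rfl⟩
    have := ea_comm hA a ha b hb
    exact congrArg Subtype.val this
  · rintro _ ⟨a, ha, rfl⟩
    have := hA.2 a ha
    exact congrArg Subtype.val this

variable {S} {A B : Subgroup ↥(S : Subgroup G)}

theorem ext_le_or_le [Finite G] (h : TwoMax A B) (E : Subgroup G) (hES : E ≤ (S : Subgroup G))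
    (hE : Cfsg.IsElementaryAbelian 2 E) : E ≤ up S A ∨ E ≤ up S B := by
  have hE' : Cfsg.IsElementaryAbelian 2 (E.subgroupOf (S : Subgroup G)) := by
    apply ea_of
    · intro a ha b hb
      rw [Subgroup.mem_subgroupOf] at ha hb
      apply Subtype.ext
      exact ea_comm hE _ ha _ hb
    · intro a ha
      rw [Subgroup.mem_subgroupOf] at ha
      apply Subtype.ext
      exact hE.2 _ ha
  rcases h.le_or_le _ hE' with h1 | h1
  · left
    intro e he
    rw [mem_up]
    exact ⟨hES he, h1 (by rw [Subgroup.mem_subgroupOf]; exact he)⟩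
  · right
    intro e he
    rw [mem_up]
    exact ⟨hES he, h1 (by rw [Subgroup.mem_subgroupOf]; exact he)⟩

theorem ext_self_cent (h : TwoMax A B) (s : G) (hs : s ∈ (S : Subgroup G))
    (hc : ∀ a ∈ up S A, a * s = s * a) : s ∈ up S A := by
  rw [mem_up]
  refine ⟨hs, h.self_cent ⟨s, hs⟩ ?_⟩
  intro a ha
  apply Subtype.ext
  exact hc a ⟨a, ha, rfl⟩

theorem ext_normal (h : TwoMax A B) (s : G) (hs : s ∈ (S : Subgroup G)) : cj s (up S A) = up S A := by
  have hn := h.normalA
  ext x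
  rw [mem_cj, mem_up, mem_up]
  constructor
  · rintro ⟨hx, hxA⟩
    have hxS : x ∈ (S : Subgroup G) := by
      have : x = s * (s⁻¹ * x * s) * s⁻¹ := by group
      rw [this]
      exact Subgroup.mul_mem _ (Subgroup.mul_mem _ hs hx) (Subgroup.inv_mem _ hs)
    refine ⟨hxS, ?_⟩
    have := hn.conj_mem _ hxA ⟨s, hs⟩
    convert this using 1
    apply Subtype.ext
    simp only [Subgroup.coe_mul, Subgroup.coe_inv]
    group
  · rintro ⟨hx, hxA⟩
    refine ⟨Subgroup.mul_mem _ (Subgroup.mul_mem _ (Subgroup.inv_mem _ hs) hx) hs, ?_⟩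
    have := hn.conj_mem _ hxA (⟨s, hs⟩ : ↥(S : Subgroup G))⁻¹
    convert this using 1
    apply Subtype.ext
    simp only [Subgroup.coe_mul, Subgroup.coe_inv, inv_inv]

theorem ext_conj (h : TwoMax A B) (n : G) (hn : cj n (S : Subgroup G) = (S : Subgroup G)) :
    (cj n (up S A) = up S A ∧ cj n (up S B) = up S B) ∨
      (cj n (up S A) = up S B ∧ cj n (up S B) = up S A) := by
  have hx1 : ∀ t ∈ (S : Subgroup G), n * t * n⁻¹ ∈ (S : Subgroup G) := by
    intro t ht
    rw [← hn, mem_cj]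
    convert ht using 1
    group
  have hx2 : ∀ t ∈ (S : Subgroup G), n⁻¹ * t * n ∈ (S : Subgroup G) := by
    intro t ht
    rw [← hn, mem_cj] at ht
    exact ht
  have key : ∀ C : Subgroup ↥(S : Subgroup G),
      up S (C.map (conjEquiv (S : Subgroup G) n hx1 hx2).toMonoidHom) = cj n (up S C) := by
    intro C
    ext x
    rw [mem_cj, mem_up, mem_up]
    constructor
    · rintro ⟨hx, c, hc, hcx⟩
      have hcx' : n * c * n⁻¹ = x := congrArg Subtype.val hcx
      have : n⁻¹ * x * n = c := by rw [← hcx']; group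
      refine ⟨by rw [this]; exact c.2, ?_⟩
      have hc' : c ∈ C := hc
      have he : (⟨n⁻¹ * x * n, by rw [this]; exact c.2⟩ : ↥(S : Subgroup G)) = c := Subtype.ext this
      rw [he]
      exact hc' 
    · rintro ⟨hx, hxC⟩
      have hxS : x ∈ (S : Subgroup G) := by
        have : x = n * (n⁻¹ * x * n) * n⁻¹ := by group
        rw [this]
        exact hx1 _ hx
      refine ⟨hxS, ⟨n⁻¹ * x * n, hx⟩, hxC, ?_⟩
      apply Subtype.ext
      show n * (n⁻¹ * x * n) * n⁻¹ = x
      group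
  rcases h.map_eq (conjEquiv (S : Subgroup G) n hx1 hx2) with ⟨h1, h2⟩ | ⟨h1, h2⟩
  · left
    rw [← key, ← key, h1, h2]
    exact ⟨rfl, rfl⟩
  · right
    rw [← key, ← key, h1, h2]
    exact ⟨rfl, rfl⟩


theorem up_ne (h : TwoMax A B) : up S A ≠ up S B := fun heq => h.ne (up_injective S heq)

/-- the normalizer of `S` cannot swap `A` and `B` -/
theorem no_swap [Finite G] (h : TwoMax A B) (n : G) (hn : cj n (S : Subgroup G) = (S : Subgroup G)) :
    cj n (up S A) = up S A := by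
  rcases ext_conj h n hn with ⟨h1, -⟩ | ⟨h1, h2⟩
  · exact h1
  exfalso
  -- even powers fix
  have heven : ∀ j : ℕ, cj (n ^ (2 * j)) (up S A) = up S A ∧ cj (n ^ (2 * j)) (up S B) = up S B := by
    intro j
    induction j with
    | zero => simp [cj_one]
    | succ j ih =>
      have : n ^ (2 * (j + 1)) = n ^ (2 * j) * n * n := by
        rw [mul_add, pow_add, mul_one, pow_two, mul_assoc]
      rw [this, ← cj_mul, ← cj_mul, ← cj_mul, ← cj_mul, h1, h2, h1]
      exact ih
  have hodd : ∀ r : ℕ, Odd r → cj (n ^ r) (up S A) = up S B := by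
    rintro r ⟨j, rfl⟩
    rw [pow_add, pow_one, ← cj_mul, h1]
    exact (heven j).2
  have ho : orderOf n ≠ 0 := (orderOf_pos n).ne'
  obtain ⟨k, r, hr, hkr⟩ := Nat.exists_eq_two_pow_mul_odd ho
  have hm2 : (n ^ r) ^ (2 ^ k) = 1 := by
    rw [← pow_mul, mul_comm, ← hkr, pow_orderOf_eq_one]
  have hmN : n ^ r ∈ Subgroup.normalizer ((S : Subgroup G) : Set G) := by
    apply Subgroup.pow_mem
    rw [← cj_eq_iff_mem_normalizer]
    exact hn
  have hz : IsPGroup 2 (Subgroup.zpowers (n ^ r)) := by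
    obtain ⟨j, -, hj⟩ := (Nat.dvd_prime_pow Nat.prime_two).1 (orderOf_dvd_of_pow_eq_one hm2)
    apply IsPGroup.of_card (n := j)
    rw [Nat.card_zpowers, hj]
  have hinf := hz.inf_normalizer_sylow S
  have hmS : n ^ r ∈ (S : Subgroup G) := by
    have : n ^ r ∈ Subgroup.zpowers (n ^ r) ⊓ (S : Subgroup G) := by
      rw [← hinf]
      exact ⟨Subgroup.mem_zpowers _, hmN⟩
    exact this.2
  have h3 := ext_normal h (n ^ r) hmS
  rw [hodd r hr] at h3
  exact up_ne h h3.symm

/-- `A` is weakly closed -/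
theorem weak [Finite G] (h : TwoMax A B) (g : G) (hg : cj g (up S A) ≤ (S : Subgroup G)) :
    cj g (up S A) = up S A := by
  have hEA : Cfsg.IsElementaryAbelian 2 (cj g (up S A)) := ea_cj g (ea_up S h.maxA.1)
  rcases ext_le_or_le h _ hg hEA with h1 | h1
  · apply Subgroup.eq_of_le_of_card_ge h1
    rw [card_cj]
  exfalso
  -- B'' = cj g⁻¹ B' contains A' and is elementary abelian
  have hA'B'' : up S A ≤ cj g⁻¹ (up S B) := by
    have := cj_mono g⁻¹ h1
    rwa [cj_inv_cj] at this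
  have hB''EA : Cfsg.IsElementaryAbelian 2 (cj g⁻¹ (up S B)) := ea_cj g⁻¹ (ea_up S h.maxB.1)
  -- S ≤ N(A')
  have hSN : (S : Subgroup G) ≤ Subgroup.normalizer (up S A : Set G) := by
    intro s hs
    rw [← cj_eq_iff_mem_normalizer]
    exact ext_normal h s hs
  have hB''N : cj g⁻¹ (up S B) ≤ Subgroup.normalizer (up S A : Set G) := by
    intro x hx
    apply Subgroup.centralizer_le_normalizer
    rw [Subgroup.mem_centralizer_iff]
    intro a ha
    exact ea_comm hB''EA a (hA'B'' ha) x hx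
  have hB''p : IsPGroup 2 (cj g⁻¹ (up S B)) := by
    intro x
    refine ⟨1, ?_⟩
    apply Subtype.ext
    rw [pow_one]
    exact hB''EA.2 x x.2
  obtain ⟨m, hmN, hm⟩ := sylow_conj_in S _ _ hSN hB''N hB''p
  have hmA : cj m (up S A) = up S A := by
    rw [cj_eq_iff_mem_normalizer]
    exact hmN
  have hle : cj m (cj g⁻¹ (up S B)) ≤ up S A := by
    intro x hx
    apply ext_self_cent h x (hm hx)
    intro a ha
    have haa : a ∈ cj m (cj g⁻¹ (up S B)) := by
      rw [← hmA] at ha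
      exact cj_mono m hA'B'' ha
    exact ea_comm (ea_cj m hB''EA) a haa x hx
  have hcard1 : Nat.card (up S B) ≤ Nat.card (up S A) := by
    have := Subgroup.card_le_of_le hle
    rwa [card_cj, card_cj] at this
  have heq : cj g (up S A) = up S B := by
    apply Subgroup.eq_of_le_of_card_ge h1
    rw [card_cj]
    exact hcard1
  -- S and cj g S both normalize B'
  have hSNB : (S : Subgroup G) ≤ Subgroup.normalizer (up S B : Set G) := by
    intro s hs
    rw [← cj_eq_iff_mem_normalizer]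
    exact ext_normal h.symm s hs
  have hgSNB : cj g (S : Subgroup G) ≤ Subgroup.normalizer (up S B : Set G) := by
    intro x hx
    rw [mem_cj] at hx
    rw [← cj_eq_iff_mem_normalizer]
    have hxg : x * g = g * (g⁻¹ * x * g) := by group
    rw [← heq, cj_mul, hxg, ← cj_mul, ext_normal h _ hx]
  have hgSp : IsPGroup 2 (cj g (S : Subgroup G)) := S.isPGroup'.map _
  obtain ⟨m, hmN, hm⟩ := sylow_conj_in S _ _ hSNB hgSNB hgSp
  have hm' : cj m (cj g (S : Subgroup G)) = (S : Subgroup G) := by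
    apply Subgroup.eq_of_le_of_card_ge hm
    rw [card_cj, card_cj]
  rw [cj_mul] at hm'
  have h5 := no_swap h (m * g) hm'
  rw [← cj_mul, heq] at h5
  have h6 : cj m (up S B) = up S B := by
    rw [cj_eq_iff_mem_normalizer]
    exact hmN
  rw [h6] at h5
  exact up_ne h h5.symm


end External

/-- Let S be a Sylow 2-subgroup of a finite group G having exactly two subgroups A ≠ B that are maximal among its elementary abelian subgroups, with S = AB. Then A and B are each weakly closed in S with respect to G, and the normalizer of S normalizes both A and B. -/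
theorem result {G : Type*} [Group G] [Finite G] (S : Sylow 2 G)
    (A B : Subgroup ↥(S : Subgroup G)) (hAB : A ≠ B)
    (hA : Cfsg.IsElementaryAbelian 2 A ∧ ∀ C : Subgroup ↥(S : Subgroup G), Cfsg.IsElementaryAbelian 2 C → A ≤ C → C = A)
    (hB : Cfsg.IsElementaryAbelian 2 B ∧ ∀ C : Subgroup ↥(S : Subgroup G), Cfsg.IsElementaryAbelian 2 C → B ≤ C → C = B)
    (honly : ∀ C : Subgroup ↥(S : Subgroup G), Cfsg.IsElementaryAbelian 2 C →
      (∀ D : Subgroup ↥(S : Subgroup G), Cfsg.IsElementaryAbelian 2 D → C ≤ D → D = C) → C = A ∨ C = B)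
    (hprod : ∀ s : ↥(S : Subgroup G), ∃ a ∈ A, ∃ b ∈ B, a * b = s)
    (A' B' : Subgroup G) (hA' : A' = A.map (S : Subgroup G).subtype) (hB' : B' = B.map (S : Subgroup G).subtype) :
    Cfsg.IsWeaklyClosed A' (S : Subgroup G) ∧ Cfsg.IsWeaklyClosed B' (S : Subgroup G) ∧
      Subgroup.normalizer ((S : Subgroup G) : Set G) ≤ Subgroup.normalizer (A' : Set G) ⊓ Subgroup.normalizer (B' : Set G) := by
  have h : TwoMax A B := ⟨hAB, hA, hB, fun C hC => honly C hC.1 hC.2, hprod⟩
  have hA'' : A' = up S A := hA'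
  have hB'' : B' = up S B := hB'
  rw [hA'', hB'']
  refine ⟨⟨up_le S A, fun g hg => weak h g hg⟩, ⟨up_le S B, fun g hg => weak h.symm g hg⟩, ?_⟩
  intro n hn
  rw [← cj_eq_iff_mem_normalizer] at hn
  exact ⟨(cj_eq_iff_mem_normalizer _ _).1 (no_swap h n hn),
    (cj_eq_iff_mem_normalizer _ _).1 (no_swap h.symm n hn)⟩

end Cfsg.Agent.S3203
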