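import Cfsg.Statements.S3183
import Mathlib
import Cfsg.Agent.S3203
-- import your own Cfsg.Agent.* helpers here

set_option autoImplicit false
set_option linter.style.haveILetI false
open Cfsg

namespace Cfsg.Agent.S3183

open scoped Pointwise
open Cfsg.Agent.S3203 (cj mem_cj sylow_conj_in)

section
variable {G : Type*} [Group G]

theorem mem_ZZ {U : Subgroup G} {z : G} :
    z ∈ (Subgroup.center ↥U).map U.subtype ↔ z ∈ U ∧ ∀ u ∈ U, u * z = z * u := by
  constructor
  · rintro ⟨c, hc, rfl⟩
    refine ⟨c.2, ?_⟩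
    intro u hu
    have := Subgroup.mem_center_iff.1 hc ⟨u, hu⟩
    exact congrArg Subtype.val this
  · rintro ⟨hz, hcomm⟩
    refine ⟨⟨z, hz⟩, ?_, rfl⟩
    show (⟨z, hz⟩ : ↥U) ∈ Subgroup.center ↥U
    rw [Subgroup.mem_center_iff]
    intro u
    exact Subtype.ext (hcomm u u.2)

theorem mem_smul_sylow {m y : G} {U : Sylow 2 G} :
    y ∈ ((m • U : Sylow 2 G) : Subgroup G) ↔ m⁻¹ * y * m ∈ (U : Subgroup G) := by
  rw [Sylow.coe_subgroup_smul, Subgroup.mem_pointwise_smul_iff_inv_smul_mem, MulAut.smul_def,
    ← map_inv, MulAut.conj_apply, inv_inv]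

theorem sylow_card_eq [Finite G] (S T : Sylow 2 G) : Nat.card (S : Subgroup G) = Nat.card (T : Subgroup G) := by
  haveI : Fact (Nat.Prime 2) := ⟨Nat.prime_two⟩
  rw [Sylow.card_eq_multiplicity, Sylow.card_eq_multiplicity]

theorem lemA [Finite G]
    (hCI : ∀ S T : Sylow 2 G, S ≠ T → ∃ U : Sylow 2 G,
      (S : Subgroup G) ⊓ (T : Subgroup G) ≤ (Subgroup.center ↥(U : Subgroup G)).map (U : Subgroup G).subtype) :
    ∀ (k : ℕ) (S T : Sylow 2 G), S ≠ T →
      Nat.card (S : Subgroup G) - Nat.card ((S : Subgroup G) ⊓ (T : Subgroup G) : Subgroup G) = k →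
      ∀ d ∈ (S : Subgroup G) ⊓ (T : Subgroup G), ∀ s ∈ (S : Subgroup G), s * d = d * s := by
  haveI : Fact (Nat.Prime 2) := ⟨Nat.prime_two⟩
  intro k
  induction k using Nat.strong_induction_on with
  | _ k ih =>
    intro S T hST hk
    obtain ⟨U, hU⟩ := hCI S T hST
    set D : Subgroup G := (S : Subgroup G) ⊓ (T : Subgroup G) with hD
    have hU' : ∀ d ∈ D, d ∈ (U : Subgroup G) ∧ ∀ u ∈ (U : Subgroup G), u * d = d * u :=
      fun d hd => mem_ZZ.1 (hU hd)
    -- U ≤ N(D)
    have hUN : (U : Subgroup G) ≤ Subgroup.normalizer (D : Set G) := by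
      intro u hu
      rw [Subgroup.mem_normalizer_iff]
      intro h
      constructor
      · intro hh
        have := (hU' h hh).2 u hu
        rw [this, mul_inv_cancel_right]
        exact hh
      · intro hh
        have := (hU' _ hh).2 u hu
        have h2 : h = u⁻¹ * (u * h * u⁻¹) * u := by group
        have h3 : u⁻¹ * (u * h * u⁻¹) * u = u * h * u⁻¹ := by
          calc u⁻¹ * (u * h * u⁻¹) * u = u⁻¹ * ((u * h * u⁻¹) * u) := by group
            _ = u⁻¹ * (u * (u * h * u⁻¹)) := by rw [this]
            _ = u * h * u⁻¹ := by group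
        rw [h2, h3]
        exact hh
    have hSNp : IsPGroup 2 ((S : Subgroup G) ⊓ Subgroup.normalizer (D : Set G) : Subgroup G) :=
      S.isPGroup'.to_le inf_le_left
    obtain ⟨m, hmN, hm⟩ := sylow_conj_in U _ _ hUN inf_le_right hSNp
    have hSNR : (S : Subgroup G) ⊓ Subgroup.normalizer (D : Set G) ≤ ((m⁻¹ • U : Sylow 2 G) : Subgroup G) := by
      intro y hy
      rw [mem_smul_sylow, inv_inv]
      apply hm
      rw [mem_cj]
      convert hy using 1
      group
    have hDZR : ∀ d ∈ D, ∀ ρ ∈ ((m⁻¹ • U : Sylow 2 G) : Subgroup G), ρ * d = d * ρ := by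
      intro d hd ρ hρ
      rw [mem_smul_sylow, inv_inv] at hρ
      have hmd : m * d * m⁻¹ ∈ D := (Subgroup.mem_normalizer_iff.1 hmN d).1 hd
      have := (hU' _ hmd).2 _ hρ
      have h2 : m * (ρ * d) * m⁻¹ = m * (d * ρ) * m⁻¹ := by
        calc m * (ρ * d) * m⁻¹ = (m * ρ * m⁻¹) * (m * d * m⁻¹) := by group
          _ = (m * d * m⁻¹) * (m * ρ * m⁻¹) := this
          _ = m * (d * ρ) * m⁻¹ := by group
      exact mul_left_cancel (mul_right_cancel h2)
    by_cases hRS : (m⁻¹ • U : Sylow 2 G) = S
    · intro d hd s hs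
      rw [← hRS] at hs
      exact hDZR d hd s hs
    · -- D < S ⊓ N
      have hDS : D ≤ (S : Subgroup G) := inf_le_left
      have hDne : D ≠ (S : Subgroup G) := by
        intro heq
        apply hST
        have hle : (S : Subgroup G) ≤ (T : Subgroup G) := by
          rw [← heq]; exact inf_le_right
        have := Subgroup.eq_of_le_of_card_ge hle (le_of_eq (sylow_card_eq T S))
        exact Sylow.ext this
      have hlt : D.subgroupOf (S : Subgroup G) < ⊤ := by
        rw [lt_top_iff_ne_top]
        intro h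
        rw [Subgroup.subgroupOf_eq_top] at h
        exact hDne (le_antisymm hDS h)
      haveI : Group.IsNilpotent ↥(S : Subgroup G) := S.isPGroup'.isNilpotent
      have hnc := Group.normalizerCondition_of_isNilpotent (G := ↥(S : Subgroup G)) _ hlt
      rw [← Subgroup.subgroupOf_normalizer_eq hDS] at hnc
      obtain ⟨y, hyN, hyD⟩ := SetLike.exists_of_lt hnc
      rw [Subgroup.mem_subgroupOf] at hyN hyD
      have hDSN : D ≤ (S : Subgroup G) ⊓ Subgroup.normalizer (D : Set G) :=
        le_inf hDS Subgroup.le_normalizer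
      have hcardlt : Nat.card D < Nat.card ((S : Subgroup G) ⊓ Subgroup.normalizer (D : Set G) : Subgroup G) := by
        by_contra hcon
        rw [not_lt] at hcon
        have := Subgroup.eq_of_le_of_card_ge hDSN hcon
        apply hyD
        rw [this]
        exact ⟨y.2, hyN⟩
      have hle2 : (S : Subgroup G) ⊓ Subgroup.normalizer (D : Set G) ≤
          (S : Subgroup G) ⊓ ((m⁻¹ • U : Sylow 2 G) : Subgroup G) := le_inf inf_le_left hSNR
      have hc2 := Subgroup.card_le_of_le hle2
      have hc3 : Nat.card ((S : Subgroup G) ⊓ ((m⁻¹ • U : Sylow 2 G) : Subgroup G) : Subgroup G) ≤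
          Nat.card (S : Subgroup G) := Subgroup.card_le_of_le inf_le_left
      have hc4 : Nat.card D ≤ Nat.card (S : Subgroup G) := Subgroup.card_le_of_le hDS
      have := ih (Nat.card (S : Subgroup G) -
        Nat.card ((S : Subgroup G) ⊓ ((m⁻¹ • U : Sylow 2 G) : Subgroup G) : Subgroup G)) (by omega) S
        (m⁻¹ • U) (fun h => hRS h.symm) rfl
      intro d hd s hs
      exact this d (hle2 (hDSN hd)) s hs

end

/-- Let G be a finite group in which the intersection of any two distinct Sylow 2-subgroups is contained in the centre of some Sylow 2-subgroup, and let S be a Sylow 2-subgroup. Then for every x in S the centralizer of x in S is a Sylow 2-subgroup of the centralizer of x in G (no 2-subgroup centralizing x is larger), and for every other Sylow 2-subgroup T the intersection S ∩ T lies in both the centre of S and the centre of T. -/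
theorem result {G : Type*} [Group G] [Finite G]
    (hCI : ∀ S T : Sylow 2 G, S ≠ T → ∃ U : Sylow 2 G,
      (S : Subgroup G) ⊓ (T : Subgroup G) ≤ (Subgroup.center ↥(U : Subgroup G)).map (U : Subgroup G).subtype)
    (S : Sylow 2 G) :
    (∀ x ∈ (S : Subgroup G), ∀ P : Subgroup G, IsPGroup 2 ↥P → P ≤ Subgroup.centralizer ({x} : Set G) →
        Nat.card ↥P ≤ Nat.card ↥((S : Subgroup G) ⊓ Subgroup.centralizer ({x} : Set G))) ∧
    (∀ T : Sylow 2 G, T ≠ S →
        (S : Subgroup G) ⊓ (T : Subgroup G) ≤
          (Subgroup.center ↥(S : Subgroup G)).map (S : Subgroup G).subtype ⊓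
            (Subgroup.center ↥(T : Subgroup G)).map (T : Subgroup G).subtype) := by
  haveI : Fact (Nat.Prime 2) := ⟨Nat.prime_two⟩
  have hA := lemA hCI
  constructor
  · intro x hx P hP hPC
    by_cases hcen : ∀ s ∈ (S : Subgroup G), s * x = x * s
    · have hSC : (S : Subgroup G) ≤ Subgroup.centralizer ({x} : Set G) := by
        intro s hs
        rw [Subgroup.mem_centralizer_iff]
        intro h hh
        rw [Set.mem_singleton_iff] at hh
        subst hh
        exact (hcen s hs).symm
      rw [inf_eq_left.2 hSC]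
      obtain ⟨Q, hQ⟩ := hP.exists_le_sylow
      calc Nat.card P ≤ Nat.card (Q : Subgroup G) := Subgroup.card_le_of_le hQ
        _ = Nat.card (S : Subgroup G) := sylow_card_eq Q S
    · push Not at hcen
      obtain ⟨s, hs, hsx⟩ := hcen
      have hzx : IsPGroup 2 (Subgroup.zpowers x) :=
        S.isPGroup'.to_le (Subgroup.zpowers_le.2 hx)
      have hPn : P ≤ Subgroup.normalizer ((Subgroup.zpowers x : Subgroup G) : Set G) := by
        intro g hg
        have hgx : x * g = g * x := by
          have := Subgroup.mem_centralizer_iff.1 (hPC hg) x rfl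
          exact this
        have hgk : ∀ k : ℤ, g * x ^ k * g⁻¹ = x ^ k := by
          intro k
          have : Commute g (x ^ k) := (Commute.zpow_right hgx.symm k)
          rw [this.eq, mul_inv_cancel_right]
        rw [Subgroup.mem_normalizer_iff]
        intro h
        constructor
        · rintro ⟨k, rfl⟩
          simp only
          rw [hgk]
          exact ⟨k, rfl⟩
        · rintro ⟨k, hk⟩
          simp only at hk
          have hc : Commute g (x ^ k) := (Commute.zpow_right hgx.symm k)
          have : h = x ^ k := by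
            calc h = g⁻¹ * (g * h * g⁻¹) * g := by group
              _ = g⁻¹ * (x ^ k * g) := by rw [← hk, mul_assoc]
              _ = g⁻¹ * (g * x ^ k) := by rw [hc.eq]
              _ = x ^ k := by group
          rw [this]
          exact ⟨k, rfl⟩
      obtain ⟨Q, hQ⟩ := (hP.to_sup_of_normal_right' hzx hPn).exists_le_sylow
      have hxQ : x ∈ (Q : Subgroup G) := hQ (le_sup_right (a := P) (Subgroup.mem_zpowers x))
      have hQS : Q = S := by
        by_contra hne
        exact hsx (hA _ S Q (fun h => hne h.symm) rfl x ⟨hx, hxQ⟩ s hs)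
      rw [hQS] at hQ
      exact Subgroup.card_le_of_le (le_inf (le_trans le_sup_left hQ) hPC)
  · intro T hTS d hd
    refine ⟨mem_ZZ.2 ⟨hd.1, fun u hu => hA _ S T (fun h => hTS h.symm) rfl d hd u hu⟩,
      mem_ZZ.2 ⟨hd.2, fun u hu => hA _ T S hTS rfl d ⟨hd.2, hd.1⟩ u hu⟩⟩

end Cfsg.Agent.S3183
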