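import Cfsg.Statements.S3190
import Mathlib

set_option autoImplicit false
set_option linter.style.haveILetI false
open Cfsg

namespace Cfsg.Agent.S3190

/-- A nontrivial normal subgroup of a finite `p`-group meets the centre nontrivially. -/
theorem exists_central {P : Type*} [Group P] [Finite P] {p : ℕ} [Fact p.Prime] (hP : IsPGroup p P)
    (N : Subgroup P) [N.Normal] (hN : N ≠ ⊥) : ∃ z ∈ N, z ≠ 1 ∧ z ∈ Subgroup.center P := by
  letI : MulAction P N := MulAction.compHom N (MulAut.conjNormal (H := N))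
  have hsmul : ∀ (g : P) (n : N), ((g • n : N) : P) = g * n * g⁻¹ := fun g n => rfl
  have hpN : p ∣ Nat.card N := by
    obtain ⟨k, hk⟩ := IsPGroup.iff_card.1 (hP.to_subgroup N)
    rw [hk]
    have hk0 : k ≠ 0 := by
      rintro rfl
      rw [pow_zero] at hk
      exact hN ((Subgroup.card_eq_one).1 hk)
    exact dvd_pow_self _ hk0
  have h1 : (1 : N) ∈ MulAction.fixedPoints P N := by
    intro g
    apply Subtype.ext
    rw [hsmul]
    simp
  obtain ⟨b, hb, hne⟩ := hP.exists_fixed_point_of_prime_dvd_card_of_fixed_point N hpN h1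
  refine ⟨b, b.2, ?_, ?_⟩
  · intro h
    exact hne (Subtype.ext h.symm)
  · rw [Subgroup.mem_center_iff]
    intro g
    have := congrArg Subtype.val (hb g)
    rw [hsmul] at this
    calc g * (b : P) = (g * b * g⁻¹) * g := by group
      _ = b * g := by rw [this]

/-- Let p be an odd prime and, inside a finite group, let P be a p-subgroup normalized by a Klein four-group T. Let R be a subgroup of P, normal in P and normalized by T, such that P is the product of R with the centralizer of T in P. If T centralizes the centre of P, then T centralizes the centre of R. -/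
theorem result {X : Type*} [Group X] [Finite X]
    {p : ℕ} (hp : p.Prime) (hodd : Odd p) (P T R : Subgroup X) (hP : IsPGroup p ↥P) (hT : IsKleinFour ↥T)
    (hTP : T ≤ Subgroup.normalizer (P : Set X)) (hRP : R ≤ P) (hRn : (R.subgroupOf P).Normal)
    (hTR : T ≤ Subgroup.normalizer (R : Set X)) (hfac : R ⊔ (P ⊓ Subgroup.centralizer (T : Set X)) = P)
    (hZ : T ≤ Subgroup.centralizer (((Subgroup.center ↥P).map P.subtype : Subgroup X) : Set X)) :
    T ≤ Subgroup.centralizer (((Subgroup.center ↥R).map R.subtype : Subgroup X) : Set X) := by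
  classical
  haveI : Fact p.Prime := ⟨hp⟩
  -- membership in Z(R) as a subgroup of X
  have hmemA : ∀ a : X, a ∈ (Subgroup.center ↥R).map R.subtype ↔ a ∈ R ∧ ∀ r ∈ R, r * a = a * r := by
    intro a
    constructor
    · rintro ⟨z, hz, rfl⟩
      refine ⟨z.2, fun r hr => ?_⟩
      have := (Subgroup.mem_center_iff.1 hz) ⟨r, hr⟩
      exact congrArg Subtype.val this
    · rintro ⟨haR, hcomm⟩
      refine ⟨⟨a, haR⟩, ?_, rfl⟩
      exact Subgroup.mem_center_iff.2 (fun r => Subtype.ext (hcomm r.1 r.2))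
  intro t ht
  -- t² = 1
  have ht2 : t * t = 1 := by
    have h1 : (⟨t, ht⟩ : T) ^ 2 = 1 := by
      rw [← hT.exponent_two]
      exact Monoid.pow_exponent_eq_one _
    have := congrArg Subtype.val h1
    simpa [pow_two] using this
  have htinv : t⁻¹ = t := inv_eq_of_mul_eq_one_right ht2
  -- normality of R in P, elementwise
  have hRnorm : ∀ g ∈ P, ∀ r ∈ R, g * r * g⁻¹ ∈ R := by
    intro g hg r hr
    have := hRn.conj_mem ⟨r, hRP hr⟩ (by rw [Subgroup.mem_subgroupOf]; exact hr) ⟨g, hg⟩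
    rw [Subgroup.mem_subgroupOf] at this
    exact this
  -- t normalizes R
  have htR : ∀ r, r ∈ R ↔ t * r * t⁻¹ ∈ R := fun r => (Subgroup.mem_normalizer_iff.1 (hTR ht)) r
  -- the subgroup W of elements of Z(R) inverted by t
  let W : Subgroup X :=
    { carrier := {a | (a ∈ R ∧ ∀ r ∈ R, r * a = a * r) ∧ t * a * t⁻¹ = a⁻¹}
      one_mem' := by
        refine ⟨⟨R.one_mem, fun r _ => by simp⟩, by simp⟩
      mul_mem' := by
        rintro a b ⟨⟨haR, hac⟩, hat⟩ ⟨⟨hbR, hbc⟩, hbt⟩
        refine ⟨⟨R.mul_mem haR hbR, fun r hr => ?_⟩, ?_⟩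
        · rw [← mul_assoc, hac r hr, mul_assoc, hbc r hr, mul_assoc]
        · have : t * (a * b) * t⁻¹ = (t * a * t⁻¹) * (t * b * t⁻¹) := by group
          rw [this, hat, hbt, mul_inv_rev]
          have hab : a * b = b * a := (hbc a haR)
          have : a⁻¹ * b⁻¹ = (b * a)⁻¹ := by rw [mul_inv_rev]
          rw [this, ← hab, mul_inv_rev]
      inv_mem' := by
        rintro a ⟨⟨haR, hac⟩, hat⟩
        refine ⟨⟨R.inv_mem haR, fun r hr => ?_⟩, ?_⟩
        · have := hac r hr
          calc r * a⁻¹ = a⁻¹ * (a * r) * a⁻¹ := by group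
            _ = a⁻¹ * (r * a) * a⁻¹ := by rw [this]
            _ = a⁻¹ * r := by group
        · have : t * a⁻¹ * t⁻¹ = (t * a * t⁻¹)⁻¹ := by group
          rw [this, hat] }
  have hWmem : ∀ a, a ∈ W ↔ (a ∈ R ∧ ∀ r ∈ R, r * a = a * r) ∧ t * a * t⁻¹ = a⁻¹ := fun a => Iff.rfl
  have hWP : W ≤ P := fun a ha => hRP ha.1.1
  -- P normalizes W
  have hRW : R ≤ Subgroup.normalizer (W : Set X) := by
    intro g hg
    rw [Subgroup.mem_normalizer_iff]
    intro a
    constructor
    · intro ha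
      have : g * a * g⁻¹ = a := by
        rw [ha.1.2 g hg]; group
      rw [this]; exact ha
    · intro ha
      -- g a g⁻¹ ∈ W, and g⁻¹ ∈ R commutes with it
      have h1 := ha.1.2 g⁻¹ (R.inv_mem hg)
      have : a = g * a * g⁻¹ := by
        calc a = g⁻¹ * (g * a * g⁻¹) * g := by group
          _ = (g * a * g⁻¹) * g⁻¹ * g := by rw [h1]
          _ = g * a * g⁻¹ := by group
      rw [this]; exact ha
  have hCW : P ⊓ Subgroup.centralizer (T : Set X) ≤ Subgroup.normalizer (W : Set X) := by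
    have key : ∀ g, g ∈ P ⊓ Subgroup.centralizer (T : Set X) → ∀ a ∈ W, g * a * g⁻¹ ∈ W := by
      rintro g ⟨hgP, hgC⟩ a ⟨⟨haR, hac⟩, hat⟩
      have hgt : t * g = g * t := (Subgroup.mem_centralizer_iff.1 hgC) t ht
      refine ⟨⟨hRnorm g hgP a haR, fun r hr => ?_⟩, ?_⟩
      · have hr' : g⁻¹ * r * g ∈ R := by
          have := hRnorm g⁻¹ (P.inv_mem hgP) r hr
          rwa [inv_inv] at this
        have := hac _ hr'
        calc r * (g * a * g⁻¹) = g * ((g⁻¹ * r * g) * a) * g⁻¹ := by group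
          _ = g * (a * (g⁻¹ * r * g)) * g⁻¹ := by rw [this]
          _ = g * a * g⁻¹ * r := by group
      · have hgt' : t * g * t⁻¹ = g := by rw [hgt]; group
        calc t * (g * a * g⁻¹) * t⁻¹ = (t * g * t⁻¹) * (t * a * t⁻¹) * (t * g * t⁻¹)⁻¹ := by group
          _ = g * a⁻¹ * g⁻¹ := by rw [hgt', hat]
          _ = (g * a * g⁻¹)⁻¹ := by group
    intro g hg
    rw [Subgroup.mem_normalizer_iff]
    intro a
    constructor
    · exact key g hg a
    · intro ha
      have hg' : g⁻¹ ∈ P ⊓ Subgroup.centralizer (T : Set X) := Subgroup.inv_mem _ hg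
      have := key g⁻¹ hg' _ ha
      have e : g⁻¹ * (g * a * g⁻¹) * g⁻¹⁻¹ = a := by group
      rwa [e] at this
  have hPW : P ≤ Subgroup.normalizer (W : Set X) := by
    rw [← hfac]
    exact sup_le hRW hCW
  -- W is trivial
  have hWbot : W = ⊥ := by
    by_contra hne
    haveI : (W.subgroupOf P).Normal := Subgroup.normal_subgroupOf_of_le_normalizer hPW
    have hne' : W.subgroupOf P ≠ ⊥ := by
      intro h
      apply hne
      rw [Subgroup.eq_bot_iff_forall]
      intro a ha
      have : (⟨a, hWP ha⟩ : P) ∈ W.subgroupOf P := by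
        rw [Subgroup.mem_subgroupOf]; exact ha
      rw [h, Subgroup.mem_bot] at this
      exact congrArg Subtype.val this
    obtain ⟨z, hzW, hz1, hzc⟩ := exists_central hP (W.subgroupOf P) hne'
    rw [Subgroup.mem_subgroupOf] at hzW
    -- t centralizes z
    have hzZ : (z : X) ∈ (Subgroup.center ↥P).map P.subtype := ⟨z, hzc, rfl⟩
    have h1 : (z : X) * t = t * (z : X) := (Subgroup.mem_centralizer_iff.1 (hZ ht)) _ hzZ
    have h2 : t * (z : X) * t⁻¹ = (z : X)⁻¹ := hzW.2
    have h3 : (z : X) = (z : X)⁻¹ := by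
      rw [← h2, ← h1]; group
    have h4 : (z : X) ^ 2 = 1 := by
      rw [pow_two]
      nth_rewrite 1 [h3]
      group
    -- z has odd order
    obtain ⟨k, hk⟩ := (hP.to_subgroup (Subgroup.zpowers z)) ⟨z, Subgroup.mem_zpowers z⟩
    have hk' : z ^ p ^ k = 1 := by
      have := congrArg Subtype.val hk
      simpa using this
    have hk'' : (z : X) ^ p ^ k = 1 := by
      have := congrArg Subtype.val hk'
      simpa using this
    have hcop : Nat.Coprime 2 (p ^ k) := by
      apply Nat.Coprime.pow_right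
      rw [Nat.coprime_comm, Nat.coprime_two_right]
      exact hodd
    have : (z : X) ^ (Nat.gcd 2 (p ^ k)) = 1 := by
      exact pow_gcd_eq_one.2 ⟨h4, hk''⟩
    rw [hcop, pow_one] at this
    apply hz1
    exact Subtype.ext this
  -- conclude
  rw [Subgroup.mem_centralizer_iff]
  intro a ha
  rw [SetLike.mem_coe, hmemA] at ha
  -- b = a⁻¹ * (t a t⁻¹) lies in W
  have htaR : t * a * t⁻¹ ∈ R := (htR a).1 ha.1
  have htac : ∀ r ∈ R, r * (t * a * t⁻¹) = (t * a * t⁻¹) * r := by
    intro r hr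
    have hr' : t⁻¹ * r * t ∈ R := by
      have := (htR (t⁻¹ * r * t)).2 (by
        have : t * (t⁻¹ * r * t) * t⁻¹ = r := by group
        rw [this]; exact hr)
      exact this
    have := ha.2 _ hr'
    calc r * (t * a * t⁻¹) = t * ((t⁻¹ * r * t) * a) * t⁻¹ := by group
      _ = t * (a * (t⁻¹ * r * t)) * t⁻¹ := by rw [this]
      _ = t * a * t⁻¹ * r := by group
  have hb : a⁻¹ * (t * a * t⁻¹) ∈ W := by
    rw [hWmem]
    refine ⟨⟨R.mul_mem (R.inv_mem ha.1) htaR, fun r hr => ?_⟩, ?_⟩
    · have h1 := ha.2 r hr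
      have h2 := htac r hr
      have h3 : r * a⁻¹ = a⁻¹ * r := by
        calc r * a⁻¹ = a⁻¹ * (a * r) * a⁻¹ := by group
          _ = a⁻¹ * (r * a) * a⁻¹ := by rw [h1]
          _ = a⁻¹ * r := by group
      calc r * (a⁻¹ * (t * a * t⁻¹)) = (r * a⁻¹) * (t * a * t⁻¹) := (mul_assoc _ _ _).symm
        _ = (a⁻¹ * r) * (t * a * t⁻¹) := by rw [h3]
        _ = a⁻¹ * (r * (t * a * t⁻¹)) := mul_assoc _ _ _
        _ = a⁻¹ * ((t * a * t⁻¹) * r) := by rw [h2]
        _ = a⁻¹ * (t * a * t⁻¹) * r := (mul_assoc _ _ _).symm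
    · have hcomm : a * (t * a * t⁻¹) = (t * a * t⁻¹) * a := (htac a ha.1)
      have e1 : t * (a⁻¹ * (t * a * t⁻¹)) * t⁻¹ = (t * a * t⁻¹)⁻¹ * ((t * t) * a * (t * t)⁻¹) := by group
      rw [e1, ht2]
      simp only [one_mul, inv_one, mul_one, mul_inv_rev, inv_inv]
  rw [hWbot, Subgroup.mem_bot] at hb
  have : t * a * t⁻¹ = a := by
    have := congrArg (fun x => a * x) hb
    simpa using this
  calc a * t = (t * a * t⁻¹) * t := by rw [this]
    _ = t * a := by group

end Cfsg.Agent.S3190
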