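import Mathlib
import Cfsg.Statements.S3196
import Cfsg.Agent.Lib.Lead.PFam

set_option autoImplicit false

open Cfsg

namespace Cfsg.Agent.S3196

theorem result {G : Type*} [Group G] [Finite G]
    {p : ℕ} (hp : p.Prime) (K : Set (Subgroup G)) (hK : ∀ X ∈ K, Nat.card ↥X = p)
    (hKc : ∀ X ∈ K, ∀ g : G, X.map (MulAut.conj g).toMonoidHom ∈ K)
    (hex : ∃ X ∈ K, ∃ Y ∈ K, X ≠ Y ∧ ∀ x ∈ X, ∀ y ∈ Y, x * y = y * x)
    (ha : ∀ X ∈ K, ∀ Y ∈ K, X ≠ Y → (∀ x ∈ X, ∀ y ∈ Y, x * y = y * x) →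
      ∀ Z : Subgroup G, Z ≤ X ⊔ Y → Nat.card ↥Z = p → Z ∈ K)
    (hb : ∀ X ∈ K, ∀ Y ∈ K, X ≠ Y → (∀ x ∈ X, ∀ y ∈ Y, x * y = y * x) →
      ∀ W ∈ K, (X ⊔ Y) ⊓ Subgroup.centralizer (W : Set G) ≠ ⊥) :
    (∃ V ∈ K, (∀ W ∈ K, ∀ v ∈ V, ∀ w ∈ W, v * w = w * v) ∧ V ≤ Cfsg.pCore p G) ∧ ¬ IsSimpleGroup G := by
  classical
  have H : Cfsg.Agent.Lib.Lead.PFam.Hyp p K := ⟨hp, hK, hKc, ha, hb⟩
  obtain ⟨X, hX, Y, hY, hne, hcomm⟩ := hex
  obtain ⟨x, hxD, rfl⟩ := Cfsg.Agent.Lib.Lead.PFam.exists_gen H hX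
  obtain ⟨y, hyD, rfl⟩ := Cfsg.Agent.Lib.Lead.PFam.exists_gen H hY
  have hxy : Commute x y :=
    hcomm x (Subgroup.mem_zpowers x) y (Subgroup.mem_zpowers y)
  obtain ⟨c, hcD, hcu⟩ := Cfsg.Agent.Lib.Lead.PFam.exists_universal H hxD hyD hxy hne
  have hS : ∀ s ∈ Group.conjugatesOfSet ({c} : Set G),
      s ∈ Cfsg.Agent.Lib.Lead.PFam.D K ∧ ∀ u ∈ Cfsg.Agent.Lib.Lead.PFam.D K, Commute s u := by
    intro s hs
    obtain ⟨a, ha', hconj⟩ := Group.mem_conjugatesOfSet_iff.1 hs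
    rw [Set.mem_singleton_iff] at ha'
    subst ha'
    obtain ⟨g, rfl⟩ := isConj_iff.1 hconj
    refine ⟨Cfsg.Agent.Lib.Lead.PFam.conj_mem H hcD g, fun u hu => ?_⟩
    have h1 : Commute a (g⁻¹ * u * g⁻¹⁻¹) :=
      hcu _ (Cfsg.Agent.Lib.Lead.PFam.conj_mem H hu g⁻¹)
    have h2 : Commute (g * a * g⁻¹) (g * (g⁻¹ * u * g⁻¹⁻¹) * g⁻¹) := by
      show g * a * g⁻¹ * (g * (g⁻¹ * u * g⁻¹⁻¹) * g⁻¹) =
        g * (g⁻¹ * u * g⁻¹⁻¹) * g⁻¹ * (g * a * g⁻¹)
      have e := h1.eq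
      calc g * a * g⁻¹ * (g * (g⁻¹ * u * g⁻¹⁻¹) * g⁻¹)
          = g * (a * (g⁻¹ * u * g⁻¹⁻¹)) * g⁻¹ := by group
        _ = g * ((g⁻¹ * u * g⁻¹⁻¹) * a) * g⁻¹ := by rw [e]
        _ = g * (g⁻¹ * u * g⁻¹⁻¹) * g⁻¹ * (g * a * g⁻¹) := by group
    have e2 : g * (g⁻¹ * u * g⁻¹⁻¹) * g⁻¹ = u := by group
    rwa [e2] at h2
  have hNS : ∀ n ∈ Subgroup.normalClosure ({c} : Set G),
      ∀ u ∈ Cfsg.Agent.Lib.Lead.PFam.D K, Commute n u := by
    intro n hn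
    have hn' : n ∈ Subgroup.closure (Group.conjugatesOfSet ({c} : Set G)) := hn
    refine Subgroup.closure_induction
      (p := fun n _ => ∀ u ∈ Cfsg.Agent.Lib.Lead.PFam.D K, Commute n u) ?_ ?_ ?_ ?_ hn'
    · intro s hs; exact (hS s hs).2
    · intro u _; exact Commute.one_left u
    · intro a b _ _ ha hb u hu; exact (ha u hu).mul_left (hb u hu)
    · intro a _ ha u hu; exact (ha u hu).inv_left
  have hNN : ∀ n ∈ Subgroup.normalClosure ({c} : Set G),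
      ∀ m ∈ Subgroup.normalClosure ({c} : Set G), Commute n m := by
    intro n hn m hm
    have hm' : m ∈ Subgroup.closure (Group.conjugatesOfSet ({c} : Set G)) := hm
    refine Subgroup.closure_induction (p := fun m _ => Commute n m) ?_ ?_ ?_ ?_ hm'
    · intro s hs; exact hNS n hn s (hS s hs).1
    · exact Commute.one_right n
    · intro a b _ _ ha hb; exact ha.mul_right hb
    · intro a _ ha; exact ha.inv_right
  have hNp : ∀ n ∈ Subgroup.normalClosure ({c} : Set G), n ^ p = 1 := by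
    intro n hn
    have hn' : n ∈ Subgroup.closure (Group.conjugatesOfSet ({c} : Set G)) := hn
    refine Subgroup.closure_induction (p := fun n _ => n ^ p = 1) ?_ ?_ ?_ ?_ hn'
    · intro s hs
      rw [← Cfsg.Agent.Lib.Lead.PFam.orderOf_of_mem_D H (hS s hs).1]
      exact pow_orderOf_eq_one s
    · exact one_pow p
    · intro a b ha hb hap hbp
      rw [(hNN a ha b hb).mul_pow, hap, hbp, one_mul]
    · intro a _ hap
      rw [inv_pow, hap, inv_one]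
  have hP : IsPGroup p ↥(Subgroup.normalClosure ({c} : Set G)) := by
    rintro ⟨n, hn⟩
    refine ⟨1, Subtype.ext ?_⟩
    simpa using hNp n hn
  have hcN : c ∈ Subgroup.normalClosure ({c} : Set G) :=
    Subgroup.subset_normalClosure (Set.mem_singleton c)
  refine ⟨⟨Subgroup.zpowers c, hcD, ?_, ?_⟩, ?_⟩
  · intro W hW v hv w hw
    obtain ⟨w0, hw0D, rfl⟩ := Cfsg.Agent.Lib.Lead.PFam.exists_gen H hW
    exact (Cfsg.Agent.Lib.Lead.PFam.comm_zpowers (hcu w0 hw0D) hv hw).eq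
  · have hNle : Subgroup.normalClosure ({c} : Set G) ≤ Cfsg.pCore p G :=
      le_sSup ⟨Subgroup.normalClosure_normal, hP⟩
    exact le_trans (Subgroup.zpowers_le.2 hcN) hNle
  · intro hs
    haveI := hs
    rcases IsSimpleGroup.eq_bot_or_eq_top_of_normal (Subgroup.normalClosure ({c} : Set G))
      Subgroup.normalClosure_normal with h | h
    · rw [h, Subgroup.mem_bot] at hcN
      exact Cfsg.Agent.Lib.Lead.PFam.ne_one_of_mem_D H hcD hcN
    · have hall : ∀ a b : G, Commute a b := fun a b =>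
        hNN a (h ▸ Subgroup.mem_top a) b (h ▸ Subgroup.mem_top b)
      have hnorm : ∀ z : G, (Subgroup.zpowers z).Normal := fun z =>
        ⟨fun n hn g => by rw [(hall g n).eq, mul_inv_cancel_right]; exact hn⟩
      have hnb : ∀ z ∈ Cfsg.Agent.Lib.Lead.PFam.D K, Subgroup.zpowers z ≠ ⊥ := by
        intro z hz e
        have hm := Subgroup.mem_zpowers z
        rw [e, Subgroup.mem_bot] at hm
        exact Cfsg.Agent.Lib.Lead.PFam.ne_one_of_mem_D H hz hm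
      rcases IsSimpleGroup.eq_bot_or_eq_top_of_normal _ (hnorm x) with e | e
      · exact hnb x hxD e
      rcases IsSimpleGroup.eq_bot_or_eq_top_of_normal _ (hnorm y) with e' | e'
      · exact hnb y hyD e'
      exact hne (e.trans e'.symm)

end Cfsg.Agent.S3196
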