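import Cfsg.Statements.S3201
import Mathlib
import Cfsg.Agent.Lib.Helper8.QQ3
import Cfsg.Agent.Lib.Helper1.FrattiniP

set_option autoImplicit false
open Cfsg

namespace Cfsg.Agent.S3201

/-- Let S be a finite 2-group whose centre Z(S) has n ≥ 2 distinct maximal subgroups C₁, …, Cₙ with trivial intersection such that each quotient S/Cᵢ is a non-abelian group with exactly one involution (a generalized quaternion group). Then S is the internal direct product of an elementary abelian subgroup and a non-abelian subgroup with exactly one involution. -/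
theorem result {S : Type*} [Group S] [Finite S]
    (hS : IsPGroup 2 S) (n : ℕ) (hn : 2 ≤ n) (C : Fin n → Subgroup ↥(Subgroup.center S))
    (hCmax : ∀ i, IsCoatom (C i)) (hCinj : Function.Injective C) (hCint : ⨅ i, C i = ⊥)
    (hCq : ∀ i, ∃ (_ : ((C i).map (Subgroup.center S).subtype).Normal),
      ¬ IsMulCommutative (S ⧸ (C i).map (Subgroup.center S).subtype) ∧
      ∃! x : S ⧸ (C i).map (Subgroup.center S).subtype, orderOf x = 2) :
    ∃ E Q : Subgroup S, Cfsg.IsInternalDirectProduct E Q ⊤ ∧ Cfsg.IsElementaryAbelian 2 E ∧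
      ¬ IsMulCommutative ↥Q ∧ ∃! x : ↥Q, orderOf x = 2 := by
  haveI : Fact (Nat.Prime 2) := ⟨Nat.prime_two⟩
  have hZ2 : IsPGroup 2 ↥(Subgroup.center S) := hS.to_subgroup _
  have hidx : ∀ i, (C i).index = 2 := fun i =>
    Cfsg.Agent.Lib.Helper1.index_eq_prime_of_isCoatom 2 hZ2 (C i) (hCmax i)
  haveI hn : ∀ i, ((C i).map (Subgroup.center S).subtype).Normal := fun i =>
    let ⟨h, _⟩ := hCq i; h
  have hq : ∀ i, ¬ IsMulCommutative (S ⧸ (C i).map (Subgroup.center S).subtype) ∧
      ∃! x : S ⧸ (C i).map (Subgroup.center S).subtype, orderOf x = 2 := fun i =>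
    let ⟨_, h⟩ := hCq i; h
  have hCZ : ∀ i, (C i).map (Subgroup.center S).subtype ≤ Subgroup.center S := by
    rintro i _ ⟨x, _, rfl⟩
    exact x.2
  have hbot : ∀ z : ↥(Subgroup.center S), (∀ i, z ∈ C i) → z = 1 := by
    intro z hz
    have : z ∈ ⨅ i, C i := Subgroup.mem_iInf.mpr hz
    rw [hCint, Subgroup.mem_bot] at this
    exact this
  have hsq : ∀ z ∈ Subgroup.center S, z ^ 2 = 1 := by
    intro z hz
    have h1 : (⟨z, hz⟩ : ↥(Subgroup.center S)) ^ 2 = 1 :=
      hbot _ (fun i => Subgroup.sq_mem_of_index_two (hidx i) _)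
    have := congrArg Subtype.val h1
    simpa using this
  have hcard : ∀ i, Nat.card ((C i).map (Subgroup.center S).subtype) =
      Nat.card ((C ⟨0, by omega⟩).map (Subgroup.center S).subtype) := by
    intro i
    rw [Subgroup.card_map_of_injective (Subgroup.subtype_injective _),
      Subgroup.card_map_of_injective (Subgroup.subtype_injective _)]
    have h1 := (C i).card_mul_index
    have h2 := (C ⟨0, by omega⟩).card_mul_index
    rw [hidx] at h1 h2
    omega
  have hint : ∀ x : S, (∀ i, x ∈ (C i).map (Subgroup.center S).subtype) → x = 1 := by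
    intro x hx
    have hxZ : x ∈ Subgroup.center S := hCZ ⟨0, by omega⟩ (hx ⟨0, by omega⟩)
    have h1 : (⟨x, hxZ⟩ : ↥(Subgroup.center S)) = 1 := by
      apply hbot
      intro i
      obtain ⟨y, hy, hyx⟩ := hx i
      have : y = ⟨x, hxZ⟩ := Subtype.ext hyx
      rw [← this]
      exact hy
    exact congrArg Subtype.val h1
  exact Cfsg.Agent.Lib.Helper8.QQ.exists_direct_decomposition hS
    (fun i => (C i).map (Subgroup.center S).subtype) ⟨0, by omega⟩ hCZ hsq hcard hint hq

end Cfsg.Agent.S3201
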