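import Cfsg.Statements.S3208
import Mathlib

set_option autoImplicit false
set_option linter.style.haveILetI false
open Cfsg

namespace Cfsg.Agent.S3208

/-- conjugation by a normalizing element as an automorphism of the subgroup -/
def conjEquiv {G : Type*} [Group G] (T : Subgroup G) (x : G) (hx : ∀ t ∈ T, x * t * x⁻¹ ∈ T)
    (hx' : ∀ t ∈ T, x⁻¹ * t * x ∈ T) : T ≃* T where
  toFun t := ⟨x * t * x⁻¹, hx t t.2⟩
  invFun t := ⟨x⁻¹ * t * x, hx' t t.2⟩
  left_inv t := by ext; simp [mul_assoc]
  right_inv t := by ext; simp [mul_assoc]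
  map_mul' a b := by ext; simp [mul_assoc]

theorem zpow_of_order_two {G : Type*} [Group G] (j : G) (hj : orderOf j = 2) (k : ℤ) :
    j ^ k = 1 ∨ j ^ k = j := by
  have hj2 : j ^ (2 : ℤ) = 1 := by
    have := pow_orderOf_eq_one j
    rw [hj] at this
    exact_mod_cast this
  rcases Int.even_or_odd' k with ⟨m, hm | hm⟩
  · left
    rw [hm, zpow_mul, hj2, one_zpow]
  · right
    rw [hm, zpow_add, zpow_mul, hj2, one_zpow, one_mul, zpow_one]

/-- Let j be an involution of a finite group G, H a subgroup of G, and T a Sylow 2-subgroup of H ∩ C_G(j) containing j such that ⟨j⟩ is a characteristic subgroup of T. Then T is a Sylow 2-subgroup of H. -/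
theorem result {G : Type*} [Group G] [Finite G]
    (j : G) (hj : orderOf j = 2) (H T : Subgroup G) (hT : T ≤ H ⊓ Subgroup.centralizer ({j} : Set G)) (h2 : IsPGroup 2 ↥T)
    (hSyl : ¬ 2 ∣ T.relIndex (H ⊓ Subgroup.centralizer ({j} : Set G))) (hjT : j ∈ T)
    (hchar : ((Subgroup.zpowers j).subgroupOf T).Characteristic) :
    ¬ 2 ∣ T.relIndex H := by
  classical
  intro hdvd
  haveI : Fact (Nat.Prime 2) := ⟨Nat.prime_two⟩
  have hTH : T ≤ H := le_trans hT inf_le_left
  obtain ⟨n, hn⟩ := IsPGroup.iff_card.1 h2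
  -- work inside H
  have hcardT' : Nat.card (T.subgroupOf H) = 2 ^ n := by
    rw [← hn]
    exact Nat.card_congr (Subgroup.subgroupOfEquivOfLe hTH).toEquiv
  have hdvd' : 2 ^ (n + 1) ∣ Nat.card H := by
    rw [← Subgroup.card_mul_index (T.subgroupOf H), hcardT', pow_succ]
    exact Nat.mul_dvd_mul_left _ hdvd
  obtain ⟨K', hK'card, hK'le⟩ := Sylow.exists_subgroup_card_pow_succ hdvd' hcardT'
  set K : Subgroup G := K'.map H.subtype with hK
  have hKH : K ≤ H := by
    rintro _ ⟨x, _, rfl⟩
    exact x.2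
  have hTK : T ≤ K := by
    intro t ht
    exact ⟨⟨t, hTH ht⟩, hK'le ht, rfl⟩
  have hKcard : Nat.card K = 2 ^ (n + 1) := by
    rw [hK, Subgroup.card_map_of_injective H.subtype_injective, hK'card]
  -- T has index 2 in K
  have hidx : (T.subgroupOf K).index = 2 := by
    have h1 := Subgroup.card_mul_index (T.subgroupOf K)
    have h3 : Nat.card (T.subgroupOf K) = 2 ^ n := by
      rw [← hn]
      exact Nat.card_congr (Subgroup.subgroupOfEquivOfLe hTK).toEquiv
    rw [h3, hKcard, pow_succ] at h1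
    exact Nat.eq_of_mul_eq_mul_left (by positivity) h1
  have hnormal : (T.subgroupOf K).Normal := Subgroup.normal_of_index_eq_two hidx
  have hconj : ∀ x ∈ K, ∀ t ∈ T, x * t * x⁻¹ ∈ T := by
    intro x hx t ht
    have := hnormal.conj_mem ⟨t, hTK ht⟩ (by rw [Subgroup.mem_subgroupOf]; exact ht) ⟨x, hx⟩
    rw [Subgroup.mem_subgroupOf] at this
    exact this
  -- every element of K centralizes j
  have hj1 : j ≠ 1 := by
    intro h
    rw [h, orderOf_one] at hj
    omega
  have hKC : K ≤ Subgroup.centralizer ({j} : Set G) := by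
    intro x hx
    have hx1 : ∀ t ∈ T, x * t * x⁻¹ ∈ T := hconj x hx
    have hx2 : ∀ t ∈ T, x⁻¹ * t * x ∈ T := by
      intro t ht
      have := hconj x⁻¹ (K.inv_mem hx) t ht
      rw [inv_inv] at this
      exact this
    have hmap := (Subgroup.characteristic_iff_map_le.1 hchar) (conjEquiv T x hx1 hx2)
    have hjmem : (⟨j, hjT⟩ : T) ∈ (Subgroup.zpowers j).subgroupOf T := by
      rw [Subgroup.mem_subgroupOf]
      exact Subgroup.mem_zpowers j
    have h3 : (conjEquiv T x hx1 hx2) ⟨j, hjT⟩ ∈ (Subgroup.zpowers j).subgroupOf T :=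
      hmap ⟨_, hjmem, rfl⟩
    rw [Subgroup.mem_subgroupOf] at h3
    have h4 : x * j * x⁻¹ ∈ Subgroup.zpowers j := h3
    rw [Subgroup.mem_zpowers_iff] at h4
    obtain ⟨k, hk⟩ := h4
    rw [Subgroup.mem_centralizer_iff]
    intro y hy
    rw [Set.mem_singleton_iff] at hy
    subst hy
    rcases zpow_of_order_two y hj k with h5 | h5
    · exfalso
      rw [h5] at hk
      apply hj1
      have : y = x⁻¹ * (x * y * x⁻¹) * x := by group
      rw [this, ← hk]
      group
    · rw [h5] at hk
      have : x * y = (x * y * x⁻¹) * x := by group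
      rw [this, ← hk]
  -- contradiction
  have hKle : K ≤ H ⊓ Subgroup.centralizer ({j} : Set G) := le_inf hKH hKC
  have h5 := Subgroup.relIndex_mul_relIndex T K _ hTK hKle
  apply hSyl
  rw [← h5]
  have : T.relIndex K = 2 := hidx
  rw [this]
  exact Dvd.intro _ rfl

end Cfsg.Agent.S3208
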