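import Cfsg.Statements.S3222
import Cfsg.Agent.Lib.Helper1.Dw6

set_option autoImplicit false
open Cfsg

namespace Cfsg.Agent.S3222

/-- Let G be a finite group of even order such that (1) some involution t lying in the centre of a Sylow 2-subgroup of G has C_G(t) ≅ Z₂ × S₄, and (2) every Sylow 2-subgroup S of G satisfies C_G(S′) = S, where S′ is the derived subgroup of S. Then G = C_G(t) if G is solvable, and G ≅ S₆ otherwise. -/
theorem result {G : Type*} [Group G] [Finite G] (hev : Even (Nat.card G))
    (t : G) (ht : orderOf t = 2) (T : Sylow 2 G) (htT : t ∈ (T : Subgroup G)) (htc : ∀ s ∈ (T : Subgroup G), s * t = t * s)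
    (e : ↥(Subgroup.centralizer ({t} : Set G)) ≃* (Multiplicative (ZMod 2) × Equiv.Perm (Fin 4)))
    (h2 : ∀ S : Sylow 2 G, Subgroup.centralizer ((⁅(S : Subgroup G), (S : Subgroup G)⁆ : Subgroup G) : Set G) = (S : Subgroup G)) :
    (Group.IsSolvable G → Subgroup.centralizer ({t} : Set G) = ⊤) ∧
      (¬ Group.IsSolvable G → Nonempty (G ≃* Equiv.Perm (Fin 6))) := by
  obtain ⟨e0, h⟩ := Cfsg.Agent.Lib.Helper1.Dw.exists_hyp t ht T htc e h2
  haveI hsolvS4 : Group.IsSolvable (Equiv.Perm (Fin 4)) :=
    Cfsg.Agent.Lib.Helper1.Dv.perm_solvable_le_four (by simp)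
  have hsolvC : Group.IsSolvable (Multiplicative (ZMod 2) × Equiv.Perm (Fin 4)) := inferInstance
  constructor
  · intro hs
    by_cases hiso : Cfsg.IsIsolatedInvolution t
    · exact h.iso_case hiso
    · exfalso
      obtain ⟨φ⟩ := h.noniso_case hiso
      have h6 : Group.IsSolvable (Equiv.Perm (Fin 6)) :=
        Group.isSolvable_of_surjective (f := φ.toMonoidHom) φ.surjective
      have h5 : (5 : Cardinal) ≤ Cardinal.mk (Fin 6) := by
        rw [Cardinal.mk_fin]
        exact_mod_cast (by norm_num : (5 : ℕ) ≤ 6)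
      exact Equiv.Perm.not_solvable (Fin 6) h5 h6
  · intro hns
    by_cases hiso : Cfsg.IsIsolatedInvolution t
    · exfalso
      apply hns
      have hC := h.iso_case hiso
      let ψ : G ≃* Multiplicative (ZMod 2) × Equiv.Perm (Fin 4) :=
        (Subgroup.topEquiv.symm.trans (MulEquiv.subgroupCongr hC.symm)).trans e
      exact Group.isSolvable_of_isSolvable_injective (f := ψ.toMonoidHom) ψ.injective
    · exact h.noniso_case hiso

end Cfsg.Agent.S3222
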