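import Cfsg.Statements.S3246
import Cfsg.Agent.Lib.Helper8.CTTDefs
import Cfsg.Agent.Lib.Helper8.CTT3a
import Cfsg.Agent.Lib.Helper8.CTT5
import Cfsg.Agent.Lib.Helper8.CTT7c
import Cfsg.Agent.Lib.Helper8.CTT8
import Cfsg.Agent.Lib.Helper1.CTTU2
import Cfsg.Agent.Lib.Helper1.CTTU3b
import Cfsg.Agent.Lib.Helper1.CTTU6
import Cfsg.Agent.Lib.Helper2.CTTU7b
import Cfsg.Agent.Lib.Helper3.CTTU4
import Cfsg.Agent.Lib.Helper3.CTTU7a

set_option autoImplicit false
open Cfsg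

namespace Cfsg.Agent.S3246

open Cfsg.Agent.Lib.Helper7 Cfsg.Agent.Lib.Helper8.CTT

/-- alternative (ii) gives the abstract hypothesis -/
theorem hyp_of_centralizers {G : Type*} [Group G] [Finite G]
    (h : ∀ t : G, orderOf t = 2 → Cfsg.IsPConstrained 2 ↥(Subgroup.centralizer ({t} : Set G)) ∧
        Cfsg.oddCore ↥(Subgroup.centralizer ({t} : Set G)) = ⊥) : Hyp G := by
  intro e he
  exact ⟨_, _, le_rfl, cons_of_constrained _ (h e he).1 (h e he).2⟩

/-- a group all of whose elements of odd order are trivial is a 2-group -/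
theorem isPGroup_of_odd_trivial {G : Type*} [Group G] [Finite G] (K : Subgroup G)
    (h : ∀ y ∈ K, Odd (orderOf y) → y = 1) : IsPGroup 2 ↥K := by
  intro k
  obtain ⟨a, m, hm, ho⟩ := Nat.exists_eq_pow_mul_and_not_dvd (orderOf_pos (k : G)).ne' 2
    (by norm_num)
  refine ⟨a, ?_⟩
  have hmem : (k : G) ^ 2 ^ a ∈ K := K.pow_mem k.2 _
  have hord : Odd (orderOf ((k : G) ^ 2 ^ a)) := by
    have h1 : ((k : G) ^ 2 ^ a) ^ m = 1 := by
      rw [← pow_mul, ← ho]; exact pow_orderOf_eq_one _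
    have h2 : orderOf ((k : G) ^ 2 ^ a) ∣ m := orderOf_dvd_of_pow_eq_one h1
    have h3 : Odd m := Nat.odd_iff.mpr (Nat.two_dvd_ne_zero.mp hm)
    exact Odd.of_dvd_nat h3 h2
  have := h _ hmem hord
  apply Subtype.ext
  simpa using this

/-- order two from `a ^ 2 = 1`, `a ≠ 1` -/
theorem orderOf_two {G : Type*} [Group G] {a : G} (h2 : a ^ 2 = 1) (h1 : a ≠ 1) : orderOf a = 2 :=
  orderOf_eq_prime h2 h1

/-- the fixed-point-freeness of an involution `a ∈ S` with at most two `S`-conjugates -/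
theorem fpf_of {G : Type*} [Group G] [Finite G] (hyp : Hyp G) (S : Sylow 2 G) (X : Subgroup G)
    (hX : Odd (Nat.card ↥X)) (hSX : (S : Subgroup G) ≤ Subgroup.normalizer (X : Set G))
    (a b : G) (ha : orderOf a = 2)
    (hab : ∀ s ∈ (S : Subgroup G), s * a * s⁻¹ = a ∨ s * a * s⁻¹ = b) :
    ∀ x ∈ X, x * a = a * x → x = 1 := by
  obtain ⟨H, Q, hH, hQ⟩ := hyp a ha
  exact Cfsg.Agent.Lib.Helper8.CTT5.cent_trivial ((S : Subgroup G) ⊓ Subgroup.centralizer ({a} : Set G)) X H Q a hX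
    (inf_le_left.trans hSX) inf_le_right hH hQ (Cfsg.Agent.Lib.Helper3.CTTU4.index_two S a b hab H Q hH hQ)

theorem part1 {G : Type*} [Group G] [Finite G] (hyp : Hyp G)
    (S : Sylow 2 G) (A : Subgroup G) (hA : Cfsg.IsSCN (S : Subgroup G) A)
    (hA3 : ¬ Cfsg.PRankLE 2 2 ↥A) (X : Subgroup G) (hX : Odd (Nat.card ↥X))
    (hSX : (S : Subgroup G) ≤ Subgroup.normalizer (X : Set G)) : X = ⊥ := by
  obtain ⟨E, hES, hSE, hE2, hEc, hcard⟩ := Cfsg.Agent.Lib.Helper8.CTT3a.exists_E S A hA hA3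
  obtain ⟨z, e, hzE, heE, hz1, he1, hez, hzS, heS⟩ := Cfsg.Agent.Lib.Helper1.CTTU3b.exists_z_e S E hES hSE hE2 hEc hcard
  have hzo : orderOf z = 2 := orderOf_two (hE2 z hzE) hz1
  have heo : orderOf e = 2 := orderOf_two (hE2 e heE) he1
  have hezE : e * z ∈ E := E.mul_mem heE hzE
  have hez1 : e * z ≠ 1 := by
    intro h
    apply hez
    have h3 : z * z = 1 := by rw [← pow_two]; exact hE2 z hzE
    calc e = e * (z * z) := by rw [h3, mul_one]
      _ = (e * z) * z := by group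
      _ = z := by rw [h, one_mul]
  have hezo : orderOf (e * z) = 2 := orderOf_two (hE2 _ hezE) hez1
  have hzz : z * z = 1 := by rw [← pow_two]; exact hE2 z hzE
  apply Cfsg.Agent.Lib.Helper1.CTTU6.eq_bot_of_fpf X hX z e hzo heo hezo (hSX (hES hzE)) (hSX (hES heE))
  · exact fpf_of hyp S X hX hSX z z hzo (fun s hs => Or.inl (hzS s hs))
  · exact fpf_of hyp S X hX hSX e (e * z) heo heS
  · apply fpf_of hyp S X hX hSX (e * z) e hezo
    intro s hs
    have h1 : s * (e * z) * s⁻¹ = (s * e * s⁻¹) * (s * z * s⁻¹) := by group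
    rw [h1, hzS s hs]
    rcases heS s hs with h | h
    · left; rw [h]
    · right; rw [h, mul_assoc, hzz, mul_one]

theorem part2 {G : Type*} [Group G] [Finite G] (hyp : Hyp G) (T : Subgroup G)
    (hT : IsPGroup 2 ↥T) (hT1 : T ≠ ⊥) :
    Cfsg.IsPConstrained 2 ↥(Subgroup.normalizer (T : Set G)) := by
  obtain ⟨e, heT, heo, hec⟩ := Cfsg.Agent.Lib.Helper8.CTT7c.exists_central_involution T hT hT1
  obtain ⟨H, Q, hH, hQ⟩ := hyp e heo
  have hCT : Subgroup.centralizer (T : Set G) ≤ H := by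
    refine le_trans ?_ hH
    apply Subgroup.centralizer_le
    intro x hx
    rw [Set.mem_singleton_iff] at hx
    rw [hx]; exact heT
  have hTH : T ≤ H := by
    refine le_trans ?_ hH
    intro t ht
    rw [Subgroup.mem_centralizer_iff]
    intro x hx
    rw [Set.mem_singleton_iff] at hx
    rw [hx]; exact (hec t ht).symm
  have hTP : T ≤ pCoreIn 2 (Subgroup.normalizer (T : Set G)) :=
    le_pCoreIn Subgroup.le_normalizer hT le_rfl
  apply Cfsg.Agent.Lib.Helper8.CTT8.constrained_of_isPGroup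
  apply isPGroup_of_odd_trivial
  rintro y ⟨hyL, hyC⟩ hyo
  have hyT : y ∈ Subgroup.centralizer (T : Set G) := Subgroup.centralizer_le hTP hyC
  exact Cfsg.Agent.Lib.Helper2.CTTU7b.eq_one_of_odd T H Q hT hTH hQ y (hCT hyT) hyT hyo
    (Cfsg.Agent.Lib.Helper3.CTTU7a.centralizes_CQT T H Q hT hCT hQ y hyL hyC hyo)

theorem result {G : Type*} [Group G] [Finite G]
    (S : Sylow 2 G) (A : Subgroup G) (hA : Cfsg.IsSCN (S : Subgroup G) A) (hA3 : ¬ Cfsg.PRankLE 2 2 ↥A)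
    (h : (∀ M : Subgroup G, Cfsg.IsMaximalTwoLocal M → Cfsg.IsPConstrained 2 ↥M ∧ Cfsg.oddCore ↥M = ⊥) ∨
      (∀ t : G, orderOf t = 2 → Cfsg.IsPConstrained 2 ↥(Subgroup.centralizer ({t} : Set G)) ∧
        Cfsg.oddCore ↥(Subgroup.centralizer ({t} : Set G)) = ⊥)) :
    (∀ X : Subgroup G, Odd (Nat.card ↥X) → (S : Subgroup G) ≤ Subgroup.normalizer (X : Set G) → X = ⊥) ∧
      (∀ T : Subgroup G, IsPGroup 2 ↥T → T ≠ ⊥ → Cfsg.IsPConstrained 2 ↥(Subgroup.normalizer (T : Set G))) := by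
  have hyp : Hyp G := by
    rcases h with h | h
    · exact Cfsg.Agent.Lib.Helper1.CTTU2.hyp_of_maximal h
    · exact hyp_of_centralizers h
  exact ⟨fun X hX hSX => part1 hyp S A hA hA3 X hX hSX, fun T hT hT1 => part2 hyp T hT hT1⟩

end Cfsg.Agent.S3246
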