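import Cfsg.Statements.S3266
import Cfsg.Agent.Lib.Helper3.OddGraphB

set_option maxHeartbeats 4000000
set_option maxRecDepth 100000
set_option linter.unusedVariables false
set_option linter.deprecated false

set_option autoImplicit false
open Cfsg

namespace Cfsg.Agent.S3266

open Cfsg.Agent.Lib.Helper3.OddGraph


open Cfsg.Agent.Lib.Helper3.OddGraph in
theorem orderOf_of_isConj {G : Type*} [Group G] {a b : G} (h : IsConj a b) : orderOf b = orderOf a := by
  rw [isConj_iff] at h
  obtain ⟨c, hc⟩ := h
  have : b = MulAut.conj c a := by rw [← hc]; simp [MulAut.conj_apply]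
  rw [this]
  exact MulEquiv.orderOf_eq _ _

open Cfsg.Agent.Lib.Helper3.OddGraph in
theorem not_central_of_tr {F : Type*} [Field F] (h2 : (2 : F) ≠ 0) (Z : SL F) (htr : Z.1.trace = 0) :
    Z ∉ Subgroup.center (SL F) := by
  intro hc
  rw [mem_center_iff_entries] at hc
  obtain ⟨h01, h10, h⟩ := hc
  rw [tr_eq, ← h] at htr
  have h0 : Z.1 0 0 = 0 := by
    have : (2 : F) * Z.1 0 0 = 0 := by linear_combination htr
    exact (mul_eq_zero.mp this).resolve_left h2
  have := det_eq Z
  rw [h01, h0] at this
  simp at this

/-- Let F be a finite field with at least 4 elements and let X be a conjugacy class of involutions of PSL(2, F). The graph on X joining two distinct involutions whose product has odd order is connected and has diameter exactly 2. -/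
theorem result {F : Type*} [Field F] [Fintype F] (hF : 4 ≤ Fintype.card F)
    (t : Matrix.ProjectiveSpecialLinearGroup (Fin 2) F) (ht : orderOf t = 2) :
    (SimpleGraph.fromRel fun x y : {x : Matrix.ProjectiveSpecialLinearGroup (Fin 2) F // IsConj t x} =>
        Odd (orderOf (x.1 * y.1))).Connected ∧
      (SimpleGraph.fromRel fun x y : {x : Matrix.ProjectiveSpecialLinearGroup (Fin 2) F // IsConj t x} =>
        Odd (orderOf (x.1 * y.1))).diam = 2 := by
  classical
  haveI hfin : Finite (Matrix.ProjectiveSpecialLinearGroup (Fin 2) F) := Cfsg.Agent.Lib.Helper3.OddGraph.finite_PSL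
  have hlift : ∀ x : PSL F, IsConj t x →
      ∃ A : SL F, pr A = x ∧ A.1.trace = 0 ∧ A ∉ Subgroup.center (SL F) := by
    intro x hx
    obtain ⟨A, rfl⟩ := pr_surj x
    have ho : orderOf (pr A) = 2 := by rw [orderOf_of_isConj hx]; exact ht
    exact ⟨A, rfl, tr_of_order_two A ho⟩
  have hmem : ∀ A : SL F, A.1.trace = 0 → A ∉ Subgroup.center (SL F) → IsConj t (pr A) := by
    intro A hA hAc
    obtain ⟨T, hT, hTtr, hTc⟩ := hlift t (IsConj.refl t)
    rw [← hT]
    exact isConj_pr_of_tr T A hTtr hTc hA hAc
  haveI : Nonempty {x : Matrix.ProjectiveSpecialLinearGroup (Fin 2) F // IsConj t x} :=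
    ⟨⟨t, IsConj.refl t⟩⟩
  -- generic non-adjacent pair
  have hpair : ∀ U V : SL F, U.1.trace = 0 → U ∉ Subgroup.center (SL F) → V.1.trace = 0 →
      V ∉ Subgroup.center (SL F) → (U * V).1.trace = 0 → (U * V) ∉ Subgroup.center (SL F) →
      (V * U).1.trace = 0 → (V * U) ∉ Subgroup.center (SL F) →
      ∃ u v : {x : Matrix.ProjectiveSpecialLinearGroup (Fin 2) F // IsConj t x}, u ≠ v ∧
        ¬ (SimpleGraph.fromRel fun x y : {x : Matrix.ProjectiveSpecialLinearGroup (Fin 2) F // IsConj t x} =>
          Odd (orderOf (x.1 * y.1))).Adj u v := by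
    intro U V hU hUc hV hVc hUV hUVc hVU hVUc
    have o1 : orderOf (pr U * pr V) = 2 := by rw [← map_mul]; exact order_two_of_tr _ hUV hUVc
    have o2 : orderOf (pr V * pr U) = 2 := by rw [← map_mul]; exact order_two_of_tr _ hVU hVUc
    have oU : orderOf (pr U) = 2 := order_two_of_tr _ hU hUc
    refine ⟨⟨pr U, hmem U hU hUc⟩, ⟨pr V, hmem V hV hVc⟩, ?_, ?_⟩
    · intro h
      have h' : pr U = pr V := congrArg Subtype.val h
      rw [← h'] at o1
      have : pr U * pr U = 1 := by
        have hp := pow_orderOf_eq_one (pr U)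
        rw [oU, pow_two] at hp
        exact hp
      rw [this, orderOf_one] at o1
      omega
    · rw [SimpleGraph.fromRel_adj]
      rintro ⟨_, h | h⟩
      · simp only at h
        rw [o1] at h
        exact absurd h (by decide)
      · simp only at h
        rw [o2] at h
        exact absurd h (by decide)
  refine connected_diam_two _ ?_ ?_
  · -- common neighbour
    rintro ⟨x, hx⟩ ⟨y, hy⟩ huv hadj
    rw [SimpleGraph.fromRel_adj] at hadj
    have hno : ¬ Odd (orderOf (x * y)) := fun h => hadj ⟨huv, Or.inl h⟩
    obtain ⟨X, rfl, hXtr, hXc⟩ := hlift x hx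
    obtain ⟨Y, rfl, hYtr, hYc⟩ := hlift y hy
    rw [← map_mul] at hno
    have key : ∃ Z : SL F, Z.1.trace = 0 ∧ Z ∉ Subgroup.center (SL F) ∧
        Odd (orderOf (pr (X * Z))) ∧ Odd (orderOf (pr (Z * Y))) := by
      have hX11 : X.1 1 1 = - X.1 0 0 := by rw [tr_eq] at hXtr; linear_combination hXtr
      have hY11 : Y.1 1 1 = - Y.1 0 0 := by rw [tr_eq] at hYtr; linear_combination hYtr
      by_cases h2 : (2 : F) = 0
      · have hτ : (X * Y).1.trace = 0 := by
          by_contra h
          exact hno (odd_order_of_tr_ne_zero h2 _ h)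
        rw [tr_mul, hX11, hY11] at hτ
        have hτ' : X.1 0 1 * Y.1 1 0 + X.1 1 0 * Y.1 0 1 = 0 := by
          linear_combination hτ - X.1 0 0 * Y.1 0 0 * h2
        have hXnc : X.1 0 1 ≠ 0 ∨ X.1 1 0 ≠ 0 := by
          by_contra h
          push Not at h
          apply hXc
          rw [mem_center_iff_entries]
          refine ⟨h.1, h.2, ?_⟩
          rw [hX11]
          linear_combination X.1 0 0 * h2
        have hYnc : Y.1 0 1 ≠ 0 ∨ Y.1 1 0 ≠ 0 := by
          by_contra h
          push Not at h
          apply hYc
          rw [mem_center_iff_entries]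
          refine ⟨h.1, h.2, ?_⟩
          rw [hY11]
          linear_combination Y.1 0 0 * h2
        by_cases hL : X.1 0 1 ≠ 0 ∧ Y.1 0 1 ≠ 0
        · refine ⟨mk2 1 0 1 1 (by ring), ?_, ?_, ?_, ?_⟩
          · rw [tr_eq]; simp; linear_combination h2
          · rw [mem_center_iff_entries]; simp
          · apply odd_order_of_tr_ne_zero h2
            rw [tr_mul, hX11]; simp
            exact hL.1
          · apply odd_order_of_tr_ne_zero h2
            rw [tr_mul, hY11]; simp
            exact hL.2
        · by_cases hU : X.1 1 0 ≠ 0 ∧ Y.1 1 0 ≠ 0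
          · refine ⟨mk2 1 1 0 1 (by ring), ?_, ?_, ?_, ?_⟩
            · rw [tr_eq]; simp; linear_combination h2
            · rw [mem_center_iff_entries]; simp
            · apply odd_order_of_tr_ne_zero h2
              rw [tr_mul, hX11]; simp
              exact hU.1
            · apply odd_order_of_tr_ne_zero h2
              rw [tr_mul, hY11]; simp
              exact hU.2
          · exfalso
            rw [not_and_or, not_not, not_not] at hL hU
            rcases hL with hL | hL
            · have h10 : X.1 1 0 ≠ 0 := hXnc.resolve_left (by rw [hL]; simp)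
              have hY10 : Y.1 1 0 = 0 := hU.resolve_left h10
              have hY01 : Y.1 0 1 ≠ 0 := hYnc.resolve_right (by rw [hY10]; simp)
              rw [hL, zero_mul, zero_add] at hτ'
              exact (mul_ne_zero h10 hY01) hτ'
            · have h10 : Y.1 1 0 ≠ 0 := hYnc.resolve_left (by rw [hL]; simp)
              have hX10 : X.1 1 0 = 0 := hU.resolve_right h10
              have hX01 : X.1 0 1 ≠ 0 := hXnc.resolve_right (by rw [hX10]; simp)
              rw [hL, mul_zero, add_zero] at hτ'
              exact (mul_ne_zero hX01 h10) hτ'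
      · -- odd characteristic
        have hτ4 : (X * Y).1.trace ^ 2 - 4 ≠ 0 := by
          intro h
          have h' : ((X * Y).1.trace - 2) * ((X * Y).1.trace + 2) = 0 := by linear_combination h
          rcases mul_eq_zero.mp h' with h' | h'
          · exact hno (odd_order_unipotent h2 _ 1 (by ring) (by linear_combination h'))
          · exact hno (odd_order_unipotent h2 _ (-1) (by ring) (by linear_combination h'))
        by_cases hsq : IsSquare (-1 : F)
        · obtain ⟨i, hi⟩ := hsq
          obtain ⟨Z, hZtr, hZ1, hZ2⟩ := exists_z X Y hXtr hYtr hτ4 2 2 (i * ((X * Y).1.trace + 2))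
            (by linear_combination (-((X * Y).1.trace + 2) ^ 2) * hi)
          refine ⟨Z, hZtr, not_central_of_tr h2 Z hZtr, ?_, ?_⟩
          · exact odd_order_unipotent h2 _ 1 (by ring) (by rw [hZ1]; ring)
          · exact odd_order_unipotent h2 _ 1 (by ring) (by rw [hZ2]; ring)
        · have hq : Fintype.card F % 4 = 3 := by
            by_contra h
            exact hsq (FiniteField.isSquare_neg_one_iff.mpr h)
          have hnsq : ¬ IsSquare ((X * Y).1.trace ^ 2 - 4) := by
            rintro ⟨r, hr⟩
            have hr0 : r ≠ 0 := by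
              intro h0
              apply hτ4
              rw [hr, h0]; ring
            exact hno (odd_order_hyperbolic hq _ r hr0 (by rw [hr]; ring))
          obtain ⟨μ, -, hμ⟩ := Finset.exists_mem_notMem_of_card_lt_card
            (s := ({0, 1, -1} : Finset F)) (t := Finset.univ)
            (lt_of_le_of_lt Finset.card_le_three (by rw [Finset.card_univ]; omega))
          simp only [Finset.mem_insert, Finset.mem_singleton, not_or] at hμ
          obtain ⟨hμ0, hμ1, hμm1⟩ := hμ
          have h1 : (μ + μ⁻¹) ^ 2 - 4 = (μ - μ⁻¹) ^ 2 := by field_simp; ring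
          have hδ₁ : μ - μ⁻¹ ≠ 0 := by
            intro h
            have h' : (μ - 1) * (μ + 1) = 0 := by
              have : μ * (μ - μ⁻¹) = 0 := by rw [h, mul_zero]
              rw [mul_sub, mul_inv_cancel₀ hμ0] at this
              linear_combination this
            rcases mul_eq_zero.mp h' with h' | h'
            · exact hμ1 (by linear_combination h')
            · exact hμm1 (by linear_combination h')
          obtain ⟨t₂, δ₂, ρ, ht₂, hδ₂, hρ⟩ := exists_hyp hsq _ _ _ hnsq h1 hδ₁
          obtain ⟨Z, hZtr, hZ1, hZ2⟩ := exists_z X Y hXtr hYtr hτ4 (μ + μ⁻¹) t₂ ρ hρ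
          refine ⟨Z, hZtr, not_central_of_tr h2 Z hZtr, ?_, ?_⟩
          · exact odd_order_hyperbolic hq _ _ hδ₁ (by rw [hZ1]; exact h1)
          · exact odd_order_hyperbolic hq _ _ hδ₂ (by rw [hZ2]; exact ht₂)
    obtain ⟨Z, hZtr, hZc, ho1, ho2⟩ := key
    refine ⟨⟨pr Z, hmem Z hZtr hZc⟩, ?_, ?_⟩
    · rw [SimpleGraph.fromRel_adj]
      refine ⟨?_, Or.inl (by simp only; rw [← map_mul]; exact ho1)⟩
      intro h
      have h' : pr X = pr Z := congrArg Subtype.val h
      apply hno
      rw [map_mul, h', ← map_mul]; exact ho2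
    · rw [SimpleGraph.fromRel_adj]
      refine ⟨?_, Or.inl (by simp only; rw [← map_mul]; exact ho2)⟩
      intro h
      have h' : pr Z = pr Y := congrArg Subtype.val h
      apply hno
      rw [map_mul, ← h', ← map_mul]; exact ho1
  · -- a non-adjacent pair
    by_cases h2 : (2 : F) = 0
    · obtain ⟨c, -, hc⟩ := Finset.exists_mem_notMem_of_card_lt_card
        (s := ({0, 1} : Finset F)) (t := Finset.univ)
        (lt_of_le_of_lt Finset.card_le_two (by rw [Finset.card_univ]; omega))
      simp only [Finset.mem_insert, Finset.mem_singleton, not_or] at hc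
      obtain ⟨hc0, hc1⟩ := hc
      have hc1' : 1 + c ≠ 0 := by
        intro h
        apply hc1
        linear_combination h - h2
      apply hpair (mk2 1 1 0 1 (by ring)) (mk2 1 c 0 1 (by ring))
      · rw [tr_eq]; simp; linear_combination h2
      · rw [mem_center_iff_entries]; simp
      · rw [tr_eq]; simp; linear_combination h2
      · rw [mem_center_iff_entries]; simp [hc0]
      · rw [tr_mul]; simp; linear_combination h2
      · rw [mem_center_iff_entries, mul01]; simp
        intro h; exact absurd (by linear_combination h) hc1'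
      · rw [tr_mul]; simp; linear_combination h2
      · rw [mem_center_iff_entries, mul01]; simp
        intro h; exact absurd (by linear_combination h) hc1'
    · obtain ⟨r, s, hrs⟩ := sum_two_squares h2 (-1 : F)
      apply hpair J0 (mk2 r s s (-r) (by linear_combination (-1 : F) * hrs))
      · rw [tr_eq]; simp [J0]
      · exact not_central_of_tr h2 _ (by rw [tr_eq]; simp [J0])
      · rw [tr_eq]; simp
      · exact not_central_of_tr h2 _ (by rw [tr_eq]; simp)
      · rw [tr_mul]; simp [J0]
      · exact not_central_of_tr h2 _ (by rw [tr_mul]; simp [J0])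
      · rw [tr_mul]; simp [J0]
      · exact not_central_of_tr h2 _ (by rw [tr_mul]; simp [J0])

end Cfsg.Agent.S3266
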