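import Cfsg.Statements.S3276
import Mathlib

set_option autoImplicit false
set_option linter.style.haveILetI false
open Cfsg

namespace Cfsg.Agent.S3276

section
variable {G : Type*} [Group G]

theorem sq_of_order_two (a : G) (ha : orderOf a = 2) : a * a = 1 := by
  have := pow_orderOf_eq_one a
  rwa [ha, pow_two] at this

theorem inv_of_order_two (a : G) (ha : orderOf a = 2) : a⁻¹ = a :=
  inv_eq_of_mul_eq_one_right (sq_of_order_two a ha)

/-- dihedral relation -/
theorem conj_pow (a b : G) (ha : a * a = 1) (hb : b * b = 1) (n : ℕ) :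
    a * (a * b) ^ n * a = ((a * b) ^ n)⁻¹ := by
  have ha' : a⁻¹ = a := inv_eq_of_mul_eq_one_right ha
  have hb' : b⁻¹ = b := inv_eq_of_mul_eq_one_right hb
  have h1 : a * (a * b) * a⁻¹ = (a * b)⁻¹ := by
    rw [mul_inv_rev, ha', hb']
    calc a * (a * b) * a = (a * a) * b * a := by group
      _ = b * a := by rw [ha, one_mul]
  have h2 : a * (a * b) ^ n * a⁻¹ = (a * (a * b) * a⁻¹) ^ n := by
    rw [_root_.conj_pow]
  rw [← inv_pow, ← h1, ← h2, ha']

theorem conj_pow' (a b : G) (ha : a * a = 1) (hb : b * b = 1) (n : ℕ) :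
    b * (a * b) ^ n * b = ((a * b) ^ n)⁻¹ := by
  have ha' : a⁻¹ = a := inv_eq_of_mul_eq_one_right ha
  have hb' : b⁻¹ = b := inv_eq_of_mul_eq_one_right hb
  have h1 : b * (a * b) * b⁻¹ = (a * b)⁻¹ := by
    rw [mul_inv_rev, ha', hb']
    calc b * (a * b) * b = b * a * (b * b) := by group
      _ = b * a := by rw [hb, mul_one]
  have h2 : b * (a * b) ^ n * b⁻¹ = (b * (a * b) * b⁻¹) ^ n := by
    rw [_root_.conj_pow]
  rw [← inv_pow, ← h1, ← h2, hb']

/-- Two non-conjugate involutions in a finite group commute with a common involution. -/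
theorem exists_central_involution [Finite G] (a b : G) (ha : orderOf a = 2) (hb : orderOf b = 2)
    (hnc : ¬ IsConj a b) : ∃ z : G, orderOf z = 2 ∧ Commute z a ∧ Commute z b := by
  have ha2 := sq_of_order_two a ha
  have hb2 := sq_of_order_two b hb
  have ha' := inv_of_order_two a ha
  have hb' := inv_of_order_two b hb
  set c := a * b with hc
  set n := orderOf c with hn
  have hnpos : 0 < n := orderOf_pos c
  rcases Nat.even_or_odd' n with ⟨m, hm | hm⟩
  · -- n = 2m
    have hmpos : 0 < m := by omega
    refine ⟨c ^ m, ?_, ?_, ?_⟩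
    · rw [orderOf_pow_of_dvd hmpos.ne' ⟨2, by rw [← hn, hm, mul_comm]⟩, ← hn, hm]
      exact Nat.mul_div_cancel _ hmpos
    · -- commute with a
      have h1 := conj_pow a b ha2 hb2 m
      have h2 : (c ^ m)⁻¹ = c ^ m := by
        apply inv_eq_of_mul_eq_one_right
        rw [← pow_add, ← two_mul, ← hm, hn]
        exact pow_orderOf_eq_one c
      rw [h2] at h1
      show c ^ m * a = a * c ^ m
      calc c ^ m * a = (a * a) * c ^ m * a := by rw [ha2, one_mul]
        _ = a * (a * c ^ m * a) := by group
        _ = a * c ^ m := by rw [h1]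
    · have h1 := conj_pow' a b ha2 hb2 m
      have h2 : (c ^ m)⁻¹ = c ^ m := by
        apply inv_eq_of_mul_eq_one_right
        rw [← pow_add, ← two_mul, ← hm, hn]
        exact pow_orderOf_eq_one c
      rw [h2] at h1
      show c ^ m * b = b * c ^ m
      calc c ^ m * b = (b * b) * c ^ m * b := by rw [hb2, one_mul]
        _ = b * (b * c ^ m * b) := by group
        _ = b * c ^ m := by rw [h1]
  · -- n odd: a and b are conjugate
    exfalso
    apply hnc
    rw [isConj_iff]
    refine ⟨c ^ m, ?_⟩
    have h1 := conj_pow a b ha2 hb2 m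
    -- a * (c^m)⁻¹ = c^m * a
    have h3 : a * (c ^ m)⁻¹ = c ^ m * a := by
      rw [← h1]
      calc a * (a * c ^ m * a) = (a * a) * c ^ m * a := by group
        _ = c ^ m * a := by rw [ha2, one_mul]
    have h4 : c ^ (2 * m + 1) = 1 := by rw [← hm, hn]; exact pow_orderOf_eq_one c
    calc c ^ m * a * (c ^ m)⁻¹ = c ^ m * (a * (c ^ m)⁻¹) := by group
      _ = c ^ m * (c ^ m * a) := by rw [h3]
      _ = c ^ (2 * m) * a := by rw [← mul_assoc, ← pow_add, two_mul]
      _ = (c ^ (2 * m + 1) * c⁻¹) * a := by rw [pow_succ]; group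
      _ = c⁻¹ * a := by rw [h4, one_mul]
      _ = b⁻¹ * a⁻¹ * a := by rw [hc, mul_inv_rev]
      _ = b := by rw [hb']; group

end

/-- Let x and y be commuting, non-conjugate involutions of a finite group G, and suppose that for every involution u commuting with x, each conjugate of y that commutes with u also commutes with y. Then the normal closure of y is a proper, normal, elementary abelian 2-subgroup of G; and if y is the only involution of that normal closure commuting with x, it has order at most 4. -/
theorem result {G : Type*} [Group G] [Finite G] (x y : G) (hx : orderOf x = 2) (hy : orderOf y = 2)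
    (hxy : Commute x y) (hnc : ¬ IsConj x y)
    (hstar : ∀ u : G, orderOf u = 2 → Commute u x → ∀ g : G, Commute (g * y * g⁻¹) u → Commute (g * y * g⁻¹) y) :
    Subgroup.normalClosure ({y} : Set G) ≠ ⊤ ∧ Cfsg.IsElementaryAbelian 2 (Subgroup.normalClosure ({y} : Set G)) ∧
      ((∀ u ∈ Subgroup.normalClosure ({y} : Set G), orderOf u = 2 → Commute u x → u = y) →
        Nat.card ↥(Subgroup.normalClosure ({y} : Set G)) ≤ 4) := by
  classical
  have hx2 := sq_of_order_two x hx
  have hy2 := sq_of_order_two y hy
  have hx' := inv_of_order_two x hx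
  have hx1 : x ≠ 1 := by
    rintro rfl
    rw [orderOf_one] at hx; omega
  have hy1 : y ≠ 1 := by
    rintro rfl
    rw [orderOf_one] at hy; omega
  -- every conjugate of y commutes with y
  have hconj_comm : ∀ g : G, Commute (g * y * g⁻¹) y := by
    intro g
    have hord : orderOf (g * y * g⁻¹) = 2 := by
      have : g * y * g⁻¹ = MulAut.conj g y := by simp
      rw [this, MulEquiv.orderOf_eq, hy]
    have hnc' : ¬ IsConj x (g * y * g⁻¹) := by
      intro h
      apply hnc
      refine h.trans ?_
      rw [isConj_comm, isConj_iff]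
      exact ⟨g, rfl⟩
    obtain ⟨z, hz, hzx, hzy⟩ := exists_central_involution x (g * y * g⁻¹) hx hord hnc'
    exact hstar z hz hzx g hzy.symm
  -- any two conjugates commute
  have hcc : ∀ g h : G, Commute (g * y * g⁻¹) (h * y * h⁻¹) := by
    intro g h
    have h1 := hconj_comm (h⁻¹ * g)
    have h2 : h * ((h⁻¹ * g) * y * (h⁻¹ * g)⁻¹) * h⁻¹ = g * y * g⁻¹ := by group
    rw [← h2]
    show h * (h⁻¹ * g * y * (h⁻¹ * g)⁻¹) * h⁻¹ * (h * y * h⁻¹) = h * y * h⁻¹ * (h * (h⁻¹ * g * y * (h⁻¹ * g)⁻¹) * h⁻¹)
    have h3 := h1.eq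
    calc h * (h⁻¹ * g * y * (h⁻¹ * g)⁻¹) * h⁻¹ * (h * y * h⁻¹)
        = h * ((h⁻¹ * g * y * (h⁻¹ * g)⁻¹) * y) * h⁻¹ := by group
      _ = h * (y * (h⁻¹ * g * y * (h⁻¹ * g)⁻¹)) * h⁻¹ := by rw [h3]
      _ = h * y * h⁻¹ * (h * (h⁻¹ * g * y * (h⁻¹ * g)⁻¹) * h⁻¹) := by group
  set N := Subgroup.normalClosure ({y} : Set G) with hN
  have hgen : ∀ a ∈ Group.conjugatesOfSet ({y} : Set G), ∃ g : G, a = g * y * g⁻¹ := by
    intro a ha
    rw [Group.mem_conjugatesOfSet_iff] at ha
    obtain ⟨b, hb, hba⟩ := ha
    rw [Set.mem_singleton_iff] at hb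
    subst hb
    rw [isConj_iff] at hba
    obtain ⟨g, hg⟩ := hba
    exact ⟨g, hg.symm⟩
  have hNcomm : IsMulCommutative N := by
    apply Subgroup.isMulCommutative_closure
    intro a ha b hb
    obtain ⟨g, rfl⟩ := hgen a ha
    obtain ⟨h, rfl⟩ := hgen b hb
    exact (hcc g h).eq
  have hNc : ∀ a ∈ N, ∀ b ∈ N, a * b = b * a := by
    intro a ha b hb
    have := hNcomm.is_comm.comm (⟨a, ha⟩ : N) ⟨b, hb⟩
    exact congrArg Subtype.val this
  have hNsq : ∀ a ∈ N, a ^ 2 = 1 := by
    intro a ha
    induction ha using Subgroup.closure_induction with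
    | mem a ha =>
      obtain ⟨g, rfl⟩ := hgen a ha
      rw [pow_two]
      calc g * y * g⁻¹ * (g * y * g⁻¹) = g * (y * y) * g⁻¹ := by group
        _ = 1 := by rw [hy2]; group
    | one => simp
    | mul a b ha hb iha ihb =>
      have := hNc a ha b hb
      rw [pow_two] at *
      calc a * b * (a * b) = a * (b * a) * b := by group
        _ = a * (a * b) * b := by rw [this]
        _ = (a * a) * (b * b) := by group
        _ = 1 := by rw [iha, ihb, one_mul]
    | inv a ha iha =>
      rw [inv_pow, iha, inv_one]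
  have hyN : y ∈ N := Subgroup.subset_normalClosure (Set.mem_singleton y)
  refine ⟨?_, ⟨hNcomm, hNsq⟩, ?_⟩
  · -- N ≠ ⊤
    intro htop
    have hall : ∀ a b : G, a * b = b * a := by
      intro a b
      exact hNc a (by rw [htop]; trivial) b (by rw [htop]; trivial)
    -- N = zpowers y
    have hle : N ≤ Subgroup.zpowers y := by
      rw [hN, Subgroup.normalClosure]
      rw [Subgroup.closure_le]
      intro a ha
      obtain ⟨g, rfl⟩ := hgen a ha
      have : g * y * g⁻¹ = y := by rw [hall g y]; group
      rw [this]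
      exact Subgroup.mem_zpowers y
    have hxz : x ∈ Subgroup.zpowers y := hle (by rw [htop]; trivial)
    rw [Subgroup.mem_zpowers_iff] at hxz
    obtain ⟨k, hk⟩ := hxz
    have hyz : y ^ (2 : ℤ) = 1 := by
      have : y ^ 2 = 1 := by rw [pow_two]; exact hy2
      exact_mod_cast this
    rcases Int.even_or_odd' k with ⟨m, hm | hm⟩
    · apply hx1
      rw [← hk, hm, zpow_mul, hyz, one_zpow]
    · apply hnc
      have : x = y := by
        rw [← hk, hm, zpow_add, zpow_mul, hyz, one_zpow, one_mul, zpow_one]
      rw [this]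
  · -- card N ≤ 4
    intro honly
    have hNn : N.Normal := Subgroup.normalClosure_normal
    -- centralizer of x in N
    have hCN : ∀ n ∈ N, n * x = x * n → n = 1 ∨ n = y := by
      intro n hn hnx
      by_cases h1 : n = 1
      · exact Or.inl h1
      · right
        apply honly n hn _ hnx
        apply orderOf_eq_prime
        · exact hNsq n hn
        · exact h1
    -- the map f
    have hxn : ∀ n ∈ N, x * n * x⁻¹ ∈ N := fun n hn => hNn.conj_mem n hn x
    let f : N →* N :=
      { toFun := fun n => ⟨n * (x * n * x⁻¹), N.mul_mem n.2 (hxn n n.2)⟩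
        map_one' := by
          apply Subtype.ext
          simp
        map_mul' := by
          intro a b
          apply Subtype.ext
          show (a : G) * b * (x * ((a : G) * b) * x⁻¹) = a * (x * a * x⁻¹) * (b * (x * b * x⁻¹))
          have h1 := hNc (b : G) b.2 (x * a * x⁻¹) (hxn a a.2)
          calc (a : G) * b * (x * ((a : G) * b) * x⁻¹)
              = a * (b * (x * a * x⁻¹)) * (x * b * x⁻¹) := by group
            _ = a * ((x * a * x⁻¹) * b) * (x * b * x⁻¹) := by rw [h1]
            _ = a * (x * a * x⁻¹) * (b * (x * b * x⁻¹)) := by group }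
    have hf : ∀ n : N, ((f n : N) : G) = n * (x * n * x⁻¹) := fun n => rfl
    -- C = {1, y} as a subset of N
    let C : Set N := {1, ⟨y, hyN⟩}
    have hCcard : C.ncard ≤ 2 := by
      have := Set.ncard_insert_le (1 : N) ({⟨y, hyN⟩} : Set N)
      rw [Set.ncard_singleton] at this
      exact this
    have hrange : (f.range : Set N) ⊆ C := by
      rintro _ ⟨n, rfl⟩
      have hcomm : ((f n : N) : G) * x = x * ((f n : N) : G) := by
        rw [hf]
        have h1 := hNc (n : G) n.2 (x * n * x⁻¹) (hxn n n.2)
        calc (n : G) * (x * n * x⁻¹) * x = (x * n * x⁻¹) * n * x := by rw [h1]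
          _ = x * (n * (x⁻¹ * n * x)) := by group
          _ = x * (n * (x * n * x⁻¹)) := by rw [hx']
      rcases hCN _ (f n).2 hcomm with h | h
      · left; exact Subtype.ext h
      · right; exact Subtype.ext h
    have hker : (f.ker : Set N) ⊆ C := by
      intro n hn
      have h1 : ((f n : N) : G) = 1 := by
        have : f n = 1 := hn
        rw [this]; rfl
      rw [hf] at h1
      have hsq : (n : G) * n = 1 := by
        have := hNsq n n.2
        rwa [pow_two] at this
      have hcomm : (n : G) * x = x * n := by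
        have h2 : x * n * x⁻¹ = (n : G)⁻¹ := by
          exact (inv_eq_of_mul_eq_one_right h1).symm
        have h3 : (n : G)⁻¹ = n := inv_eq_of_mul_eq_one_right hsq
        rw [h3] at h2
        calc (n : G) * x = (x * n * x⁻¹) * x := by rw [h2]
          _ = x * n := by group
      rcases hCN _ n.2 hcomm with h | h
      · left; exact Subtype.ext h
      · right; exact Subtype.ext h
    have h1 : Nat.card f.range ≤ 2 := by
      rw [← Nat.card_coe_set_eq] at hCcard
      have := Set.ncard_le_ncard hrange (Set.toFinite _)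
      rw [← Nat.card_coe_set_eq, ← Nat.card_coe_set_eq] at this
      exact le_trans this hCcard
    have h2 : Nat.card f.ker ≤ 2 := by
      rw [← Nat.card_coe_set_eq] at hCcard
      have := Set.ncard_le_ncard hker (Set.toFinite _)
      rw [← Nat.card_coe_set_eq, ← Nat.card_coe_set_eq] at this
      exact le_trans this hCcard
    have h3 : Nat.card f.ker * f.ker.index = Nat.card N := Subgroup.card_mul_index _
    rw [Subgroup.index_ker] at h3
    calc Nat.card N = Nat.card f.ker * Nat.card f.range := h3.symm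
      _ ≤ 2 * 2 := Nat.mul_le_mul h2 h1
      _ = 4 := by norm_num

end Cfsg.Agent.S3276
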