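import Cfsg.Statements.S3279
import Cfsg.Agent.Lib.Helper2.ZS10
import Cfsg.Agent.Lib.Helper2.D8Syl
import Cfsg.Agent.Lib.Helper2.ExtraSp3
import Cfsg.Agent.Lib.Helper6.InvSylow2
import Cfsg.Agent.Lib.Helper1.PLengthOne
-- import your own Cfsg.Agent.* helpers here

set_option autoImplicit false
open Cfsg
open Cfsg.Agent.Lib.Helper2.ExtraSp Cfsg.Agent.Lib.Helper2.D8Syl

namespace Cfsg.Agent.S3279

section helpers
variable {G : Type*} [Group G]

theorem inv_of_sq {u : G} (h : u * u = 1) : u⁻¹ = u := inv_eq_of_mul_eq_one_left h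

theorem sq_of_order_two {u : G} (h : orderOf u = 2) : u * u = 1 := by
  rw [← pow_two, ← h]; exact pow_orderOf_eq_one u

theorem ne_one_of_order_two {u : G} (h : orderOf u = 2) : u ≠ 1 := by
  intro h1; rw [h1, orderOf_one] at h; norm_num at h

theorem order_two_of {u : G} (h1 : u ≠ 1) (h2 : u * u = 1) : orderOf u = 2 :=
  orderOf_eq_prime (by rw [pow_two]; exact h2) h1

theorem conj_order_two {u : G} (h : orderOf u = 2) (k : G) : orderOf (k * u * k⁻¹) = 2 := by
  apply order_two_of
  · intro h1
    apply ne_one_of_order_two h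
    calc u = k⁻¹ * (k * u * k⁻¹) * k := by group
      _ = 1 := by rw [h1]; group
  · calc k * u * k⁻¹ * (k * u * k⁻¹) = k * (u * u) * k⁻¹ := by group
      _ = 1 := by rw [sq_of_order_two h]; group

/-- two non-conjugate involutions: the involution in the rotation group commutes with both -/
theorem exists_central_inv [Finite G] {y b : G} (hy : y * y = 1) (hb : b * b = 1)
    (hnc : ¬ IsConj y b) :
    ∃ u : G, orderOf u = 2 ∧ y * u = u * y ∧ b * u = u * b ∧ u * (y * b) = (y * b) * u := by
  obtain ⟨d, hd⟩ : ∃ d, d = y * b := ⟨_, rfl⟩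
  rw [← hd]
  have hyi : y⁻¹ = y := inv_of_sq hy
  have hbi : b⁻¹ = b := inv_of_sq hb
  have heven : Even (orderOf d) := by
    rw [← Nat.not_odd_iff_even]
    intro hodd
    apply hnc
    rw [hd] at hodd
    exact Cfsg.Agent.Lib.Helper6.isConj_of_odd_orderOf_mul hy hb hodd
  obtain ⟨k, hk⟩ := heven
  have hpos : 0 < orderOf d := orderOf_pos d
  have hk0 : 0 < k := by omega
  have hu1 : d ^ k ≠ 1 := pow_ne_one_of_lt_orderOf hk0.ne' (by omega)
  have hu2 : d ^ k * d ^ k = 1 := by rw [← pow_add, ← hk, pow_orderOf_eq_one]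
  have hyd : y * d * y⁻¹ = d⁻¹ := by
    rw [hd, mul_inv_rev, hyi, hbi, ← mul_assoc, hy, one_mul]
  have hbd : b * d * b⁻¹ = d⁻¹ := by
    rw [hd, mul_inv_rev, hyi, hbi, mul_assoc, mul_assoc, hb, mul_one]
  have hconj : ∀ w : G, w * d * w⁻¹ = d⁻¹ → w * d ^ k * w⁻¹ = d ^ k := by
    intro w hw
    rw [← conj_pow, hw, inv_pow]
    exact inv_of_sq hu2
  refine ⟨d ^ k, order_two_of hu1 hu2, ?_, ?_, ?_⟩
  · exact comm_of_cj (hconj y hyd)
  · exact comm_of_cj (hconj b hbd)
  · exact (Commute.pow_self d k).eq

theorem four_le_card [Finite G] {x : G} {p q r s : G} (hp : orderOf p = 2) (hq : orderOf q = 2)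
    (hr : orderOf r = 2) (hs : orderOf s = 2) (cp : x * p = p * x) (cq : x * q = q * x)
    (cr : x * r = r * x) (cs : x * s = s * x) (hpq : p ≠ q) (hpr : p ≠ r) (hps : p ≠ s)
    (hqr : q ≠ r) (hqs : q ≠ s) (hrs : r ≠ s) :
    4 ≤ Nat.card {u : ↥(Subgroup.centralizer ({x} : Set G)) // orderOf u = 2} := by
  classical
  have mk : ∀ w : G, orderOf w = 2 → x * w = w * x →
      ∃ e : {u : ↥(Subgroup.centralizer ({x} : Set G)) // orderOf u = 2}, e.1.1 = w := by
    intro w ho hw
    refine ⟨⟨⟨w, mem_cent_single.mpr hw⟩, ?_⟩, rfl⟩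
    rw [← Subgroup.orderOf_coe]
    exact ho
  obtain ⟨e1, h1⟩ := mk p hp cp
  obtain ⟨e2, h2⟩ := mk q hq cq
  obtain ⟨e3, h3⟩ := mk r hr cr
  obtain ⟨e4, h4⟩ := mk s hs cs
  haveI : Fintype {u : ↥(Subgroup.centralizer ({x} : Set G)) // orderOf u = 2} :=
    Fintype.ofFinite _
  have n3 : e3 ∉ ({e4} : Finset _) := by
    rw [Finset.mem_singleton]; intro h
    apply hrs; rw [← h3, ← h4, h]
  have n2 : e2 ∉ (insert e3 {e4} : Finset _) := by
    rw [Finset.mem_insert, Finset.mem_singleton, not_or]
    constructor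
    · intro h; apply hqr; rw [← h2, ← h3, h]
    · intro h; apply hqs; rw [← h2, ← h4, h]
  have n1 : e1 ∉ (insert e2 (insert e3 {e4}) : Finset _) := by
    rw [Finset.mem_insert, Finset.mem_insert, Finset.mem_singleton, not_or, not_or]
    refine ⟨?_, ?_, ?_⟩
    · intro h; apply hpq; rw [← h1, ← h2, h]
    · intro h; apply hpr; rw [← h1, ← h3, h]
    · intro h; apply hps; rw [← h1, ← h4, h]
  have hcard : (insert e1 (insert e2 (insert e3 {e4})) : Finset _).card = 4 := by
    rw [Finset.card_insert_of_notMem n1, Finset.card_insert_of_notMem n2,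
      Finset.card_insert_of_notMem n3, Finset.card_singleton]
  rw [Nat.card_eq_fintype_card, ← hcard]
  exact Finset.card_le_univ _

end helpers


/-- Let G be a finite simple group and x an involution of G whose centralizer contains at most three involutions. Then C_G(x) contains a Sylow 2-subgroup of G, and all involutions of G are conjugate. -/
theorem result {G : Type*} [Group G] [Finite G] [IsSimpleGroup G] (x : G) (hx : orderOf x = 2)
    (h3 : Nat.card {u : ↥(Subgroup.centralizer ({x} : Set G)) // orderOf u = 2} ≤ 3) :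
    (∃ S : Sylow 2 G, (S : Subgroup G) ≤ Subgroup.centralizer ({x} : Set G)) ∧
      ∀ u v : G, orderOf u = 2 → orderOf v = 2 → IsConj u v := by
  classical
  have hx2 : x * x = 1 := sq_of_order_two hx
  have hx1 : x ≠ 1 := ne_one_of_order_two hx
  by_cases hcomm : ∀ g h : G, g * h = h * g
  · -- abelian case
    constructor
    · exact ⟨Classical.arbitrary (Sylow 2 G), fun s _ => mem_cent_single.mpr (hcomm x s)⟩
    · intro u v hu hv
      have hn : (Subgroup.zpowers u).Normal := ⟨fun n hn g => by
        rw [hcomm g n, mul_inv_cancel_right]; exact hn⟩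
      rcases hn.eq_bot_or_eq_top with h1 | h1
      · exfalso
        apply ne_one_of_order_two hu
        have hmem : u ∈ Subgroup.zpowers u := Subgroup.mem_zpowers u
        rw [h1, Subgroup.mem_bot] at hmem
        exact hmem
      · have hv' : v ∈ Subgroup.zpowers u := by rw [h1]; exact Subgroup.mem_top v
        rcases mem_zpowers_two hu hv' with h2 | h2
        · exact absurd h2 (ne_one_of_order_two hv)
        · subst h2
          exact IsConj.refl _
  · push Not at hcomm
    have hO : Cfsg.oddCore G = ⊥ := by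
      have hn : (Cfsg.pPrimeCore 2 G).Normal := Cfsg.Agent.Lib.Helper1.pPrimeCore_normal 2
      rcases hn.eq_bot_or_eq_top with h1 | h1
      · exact h1
      · exfalso
        have hc := Cfsg.Agent.Lib.Helper1.pPrimeCore_card_coprime (G := G) 2
        rw [h1, Subgroup.card_top] at hc
        have hd : 2 ∣ Nat.card G := hx ▸ orderOf_dvd_natCard x
        exact Nat.not_coprime_of_dvd_of_dvd (by norm_num) hd (dvd_refl 2) hc
    have hZ : ∀ c : G, (∀ g : G, g * c = c * g) → c = 1 := by
      intro c hc
      have hn : (Subgroup.center G).Normal := inferInstance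
      rcases hn.eq_bot_or_eq_top with h1 | h1
      · have hmem : c ∈ Subgroup.center G := Subgroup.mem_center_iff.mpr hc
        rw [h1, Subgroup.mem_bot] at hmem
        exact hmem
      · exfalso
        obtain ⟨g, h, hgh⟩ := hcomm
        apply hgh
        have hmem : h ∈ Subgroup.center G := by rw [h1]; exact Subgroup.mem_top h
        exact Subgroup.mem_center_iff.mp hmem g
    have hniso : ¬ Cfsg.IsIsolatedInvolution x := by
      intro hiso
      apply hx1
      apply hZ
      intro g
      have h1 := Cfsg.Agent.Lib.Helper2.ZS.zstar x hiso g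
      rw [hO, Subgroup.mem_bot] at h1
      calc g * x = (x * g * x⁻¹ * g⁻¹) * g * x := by rw [h1, one_mul]
        _ = x * g := by group
    unfold Cfsg.IsIsolatedInvolution at hniso
    push Not at hniso
    obtain ⟨g, hga, hgne⟩ := hniso hx
    obtain ⟨a, hadef⟩ : ∃ a, a = g * x * g⁻¹ := ⟨_, rfl⟩
    rw [← hadef] at hga hgne
    have hxa : x * a = a * x := hga.eq
    have ha : orderOf a = 2 := by rw [hadef]; exact conj_order_two hx g
    have ha2 : a * a = 1 := sq_of_order_two ha
    have ha1 : a ≠ 1 := ne_one_of_order_two ha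
    obtain ⟨b, hbdef⟩ : ∃ b, b = x * a := ⟨_, rfl⟩
    have hb2 : b * b = 1 := by
      rw [hbdef]
      calc x * a * (x * a) = x * (a * x) * a := by group
        _ = x * (x * a) * a := by rw [hxa]
        _ = (x * x) * (a * a) := by group
        _ = 1 := by rw [hx2, ha2, one_mul]
    have hb1 : b ≠ 1 := by
      intro h
      apply hgne
      rw [hbdef] at h
      calc a = x⁻¹ * (x * a) := by group
        _ = x := by rw [h, mul_one, inv_of_sq hx2]
    have hb : orderOf b = 2 := order_two_of hb1 hb2
    have hbx : b ≠ x := by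
      intro h; apply ha1
      rw [hbdef] at h
      exact mul_left_cancel (h.trans (mul_one x).symm)
    have hba : b ≠ a := by
      intro h; apply hx1
      rw [hbdef] at h
      exact mul_right_cancel (h.trans (one_mul a).symm)
    have hxb : x * b = b * x := by
      rw [hbdef]
      calc x * (x * a) = x * (a * x) := by rw [hxa]
        _ = x * a * x := by group
    have key : ∀ u : G, orderOf u = 2 → x * u = u * x → u = x ∨ u = a ∨ u = b := by
      intro u hu huc
      by_contra hne
      push Not at hne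
      obtain ⟨hux, hua, hub⟩ := hne
      have h4 := four_le_card hx ha hb hu rfl hxa hxb huc hgne.symm hbx.symm (Ne.symm hux)
        hba.symm (Ne.symm hua) (Ne.symm hub)
      omega
    have keyc : ∀ (h u : G), orderOf u = 2 → (h * x * h⁻¹) * u = u * (h * x * h⁻¹) →
        u = h * x * h⁻¹ ∨ u = h * a * h⁻¹ ∨ u = h * b * h⁻¹ := by
      intro h u hu huc
      have h1 : orderOf (h⁻¹ * u * h) = 2 := by
        have h0 := conj_order_two hu h⁻¹
        rwa [inv_inv] at h0
      have h2 : x * (h⁻¹ * u * h) = (h⁻¹ * u * h) * x := by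
        calc x * (h⁻¹ * u * h) = h⁻¹ * ((h * x * h⁻¹) * u) * h := by group
          _ = h⁻¹ * (u * (h * x * h⁻¹)) * h := by rw [huc]
          _ = (h⁻¹ * u * h) * x := by group
      rcases key _ h1 h2 with h3 | h3 | h3
      · left
        calc u = h * (h⁻¹ * u * h) * h⁻¹ := by group
          _ = h * x * h⁻¹ := by rw [h3]
      · right; left
        calc u = h * (h⁻¹ * u * h) * h⁻¹ := by group
          _ = h * a * h⁻¹ := by rw [h3]
      · right; right
        calc u = h * (h⁻¹ * u * h) * h⁻¹ := by group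
          _ = h * b * h⁻¹ := by rw [h3]
    have hconjx : ∀ h : G, IsConj x (h * x * h⁻¹) := fun h => isConj_iff.mpr ⟨h, rfl⟩
    have hconja : ∀ h : G, IsConj x (h * a * h⁻¹) := fun h =>
      isConj_iff.mpr ⟨h * g, by rw [hadef]; group⟩
    by_cases hcb : IsConj x b
    · -- all three involutions of C(x) are conjugate
      have hcx : ∀ u : G, (u = x ∨ u = a ∨ u = b) → IsConj x u := by
        intro u hu
        rcases hu with h | h | h
        · rw [h]
        · rw [h, hadef]; exact hconjx g
        · rw [h]; exact hcb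
      have hPx : IsPGroup 2 (Subgroup.zpowers x) :=
        IsPGroup.of_card (n := 1) (by rw [Nat.card_zpowers, hx, pow_one])
      obtain ⟨S₁, hS₁⟩ := hPx.exists_le_sylow
      have hxS : x ∈ (S₁ : Subgroup G) := hS₁ (Subgroup.mem_zpowers x)
      haveI : Nontrivial ↥(S₁ : Subgroup G) :=
        ⟨⟨⟨x, hxS⟩, 1, fun h => hx1 (congrArg Subtype.val h)⟩⟩
      haveI : Fact (Nat.Prime 2) := ⟨Nat.prime_two⟩
      have hnt : Nontrivial (Subgroup.center ↥(S₁ : Subgroup G)) := S₁.isPGroup'.center_nontrivial
      have hZ2 : IsPGroup 2 (Subgroup.center ↥(S₁ : Subgroup G)) := S₁.isPGroup'.to_subgroup _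
      have hdvd : 2 ∣ Nat.card (Subgroup.center ↥(S₁ : Subgroup G)) := by
        rcases hZ2.card_eq_or_dvd with h1 | h1
        · exfalso
          haveI := hnt
          exact absurd h1 (Nat.ne_of_gt Finite.one_lt_card)
        · exact h1
      obtain ⟨c₀, hc₀⟩ := exists_prime_orderOf_dvd_card' 2 hdvd
      obtain ⟨c, hcdef⟩ : ∃ c : G, c = ((c₀ : ↥(S₁ : Subgroup G)) : G) := ⟨_, rfl⟩
      have hc2 : orderOf c = 2 := by
        rw [hcdef, Subgroup.orderOf_coe, Subgroup.orderOf_coe]; exact hc₀
      have hccomm : ∀ s ∈ (S₁ : Subgroup G), s * c = c * s := by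
        intro s hs
        have h1 := Subgroup.mem_center_iff.mp c₀.2 ⟨s, hs⟩
        rw [hcdef]
        exact congrArg Subtype.val h1
      obtain ⟨k, hk⟩ : ∃ k, k * x * k⁻¹ = c := isConj_iff.mp (hcx c (key c hc2 (hccomm x hxS)))
      have hSC : ((k⁻¹ • S₁ : Sylow 2 G) : Subgroup G) ≤ Subgroup.centralizer ({x} : Set G) := by
        intro v hv
        rw [mem_smul_sylow, inv_inv] at hv
        have h1 := hccomm _ hv
        rw [← hk] at h1
        rw [mem_cent_single]
        calc x * v = k⁻¹ * ((k * x * k⁻¹) * (k * v * k⁻¹)) * k := by group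
          _ = k⁻¹ * ((k * v * k⁻¹) * (k * x * k⁻¹)) * k := by rw [h1]
          _ = v * x := by group
      have hinvS : ∀ u : G, orderOf u = 2 → IsConj x u := by
        intro u hu
        have hPu : IsPGroup 2 (Subgroup.zpowers u) :=
          IsPGroup.of_card (n := 1) (by rw [Nat.card_zpowers, hu, pow_one])
        obtain ⟨Q, hQ⟩ := hPu.exists_le_sylow
        obtain ⟨m, hm⟩ := MulAction.exists_smul_eq G (k⁻¹ • S₁ : Sylow 2 G) Q
        have huQ : u ∈ ((m • (k⁻¹ • S₁ : Sylow 2 G) : Sylow 2 G) : Subgroup G) := by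
          rw [hm]; exact hQ (Subgroup.mem_zpowers u)
        rw [mem_smul_sylow] at huQ
        have h1 : orderOf (m⁻¹ * u * m) = 2 := by
          have h0 := conj_order_two hu m⁻¹
          rwa [inv_inv] at h0
        have h2 : x * (m⁻¹ * u * m) = (m⁻¹ * u * m) * x := mem_cent_single.mp (hSC huQ)
        have h3 := hcx _ (key _ h1 h2)
        have h4 : IsConj (m⁻¹ * u * m) u := isConj_iff.mpr ⟨m, by group⟩
        exact h3.trans h4
      exact ⟨⟨k⁻¹ • S₁, hSC⟩, fun u v hu hv => (hinvS u hu).symm.trans (hinvS v hv)⟩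
    · -- x ~ a but x is not conjugate to b: impossible
      exfalso
      have hgax : g * a * g⁻¹ = x := by
        have h1 : (g * x * g⁻¹) * x = x * (g * x * g⁻¹) := by rw [← hadef]; exact hxa.symm
        rcases keyc g x hx h1 with h2 | h2 | h2
        · exfalso; rw [← hadef] at h2; exact hgne h2.symm
        · exact h2.symm
        · exfalso
          exact hcb (isConj_iff.mpr ⟨g⁻¹, by rw [h2]; group⟩)
      have hgb : g * b * g⁻¹ = b := by
        rw [hbdef]
        calc g * (x * a) * g⁻¹ = (g * x * g⁻¹) * (g * a * g⁻¹) := by group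
          _ = a * x := by rw [hgax, ← hadef]
          _ = x * a := hxa.symm
      have keyc' : ∀ (h u : G), orderOf u = 2 → (h * a * h⁻¹) * u = u * (h * a * h⁻¹) →
          u = h * a * h⁻¹ ∨ u = h * x * h⁻¹ ∨ u = h * b * h⁻¹ := by
        intro h u hu huc
        have e1 : h * g * x * (h * g)⁻¹ = h * a * h⁻¹ := by rw [hadef]; group
        have e2 : h * g * a * (h * g)⁻¹ = h * x * h⁻¹ := by
          calc h * g * a * (h * g)⁻¹ = h * (g * a * g⁻¹) * h⁻¹ := by group
            _ = h * x * h⁻¹ := by rw [hgax]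
        have e3 : h * g * b * (h * g)⁻¹ = h * b * h⁻¹ := by
          calc h * g * b * (h * g)⁻¹ = h * (g * b * g⁻¹) * h⁻¹ := by group
            _ = h * b * h⁻¹ := by rw [hgb]
        have h1 := keyc (h * g) u hu (by rw [e1]; exact huc)
        rw [e1, e2, e3] at h1
        exact h1
      have hBcomm : ∀ h₁ h₂ : G,
          (h₁ * b * h₁⁻¹) * (h₂ * b * h₂⁻¹) = (h₂ * b * h₂⁻¹) * (h₁ * b * h₁⁻¹) := by
        intro h₁ h₂
        by_cases hbb : h₂ * b * h₂⁻¹ = h₁ * b * h₁⁻¹
        · rw [hbb]
        · have hy : orderOf (h₁ * x * h₁⁻¹) = 2 := conj_order_two hx h₁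
          have hb' : orderOf (h₂ * b * h₂⁻¹) = 2 := conj_order_two hb h₂
          have hnotx : ∀ w : G, IsConj x w → w ≠ h₂ * b * h₂⁻¹ := by
            intro w hw h
            apply hcb
            rw [h] at hw
            exact hw.trans (isConj_iff.mpr ⟨h₂⁻¹, by group⟩)
          have hnc : ¬ IsConj (h₁ * x * h₁⁻¹) (h₂ * b * h₂⁻¹) := by
            intro hc
            apply hcb
            exact ((hconjx h₁).trans hc).trans (isConj_iff.mpr ⟨h₂⁻¹, by group⟩)
          obtain ⟨u, hu, huy, hub, hud⟩ :=
            exists_central_inv (sq_of_order_two hy) (sq_of_order_two hb') hnc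
          have finish : ∀ w : G, (w = h₁ * x * h₁⁻¹ ∨ w = h₁ * a * h₁⁻¹) →
              w * (h₂ * b * h₂⁻¹) = (h₂ * b * h₂⁻¹) * w → False := by
            intro w hw hwc
            have hcase : h₂ * b * h₂⁻¹ = h₁ * x * h₁⁻¹ ∨ h₂ * b * h₂⁻¹ = h₁ * a * h₁⁻¹ ∨
                h₂ * b * h₂⁻¹ = h₁ * b * h₁⁻¹ := by
              rcases hw with hw | hw
              · rw [hw] at hwc
                exact keyc h₁ _ hb' hwc
              · rw [hw] at hwc
                rcases keyc' h₁ _ hb' hwc with h | h | h
                · exact Or.inr (Or.inl h)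
                · exact Or.inl h
                · exact Or.inr (Or.inr h)
            rcases hcase with h | h | h
            · exact hnotx _ (hconjx h₁) h.symm
            · exact hnotx _ (hconja h₁) h.symm
            · exact hbb h
          rcases keyc h₁ u hu huy with h3 | h3 | h3
          · exfalso
            rw [h3] at hud
            apply finish _ (Or.inl rfl)
            have h4 : h₁ * x * h₁⁻¹ * (h₁ * x * h₁⁻¹ * (h₂ * b * h₂⁻¹)) =
                h₁ * x * h₁⁻¹ * ((h₂ * b * h₂⁻¹) * (h₁ * x * h₁⁻¹)) := by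
              rw [hud]; group
            exact mul_left_cancel h4
          · exfalso
            rw [h3] at hub
            exact finish _ (Or.inr rfl) hub.symm
          · rw [h3] at hub
            exact hub.symm
      obtain ⟨cs, hcs⟩ : ∃ cs : Set G, cs = Group.conjugatesOfSet ({b} : Set G) := ⟨_, rfl⟩
      have hcsmem : ∀ w ∈ cs, ∃ h : G, w = h * b * h⁻¹ := by
        intro w hw
        rw [hcs, Group.mem_conjugatesOfSet_iff] at hw
        obtain ⟨a', ha', hc⟩ := hw
        rw [Set.mem_singleton_iff] at ha'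
        rw [ha'] at hc
        obtain ⟨c, hc'⟩ := isConj_iff.mp hc
        exact ⟨c, hc'.symm⟩
      have hK : Subgroup.normalClosure ({b} : Set G) = ⊤ := by
        rcases (Subgroup.normalClosure_normal (s := ({b} : Set G))).eq_bot_or_eq_top with h1 | h1
        · exfalso
          have hmem : b ∈ Subgroup.normalClosure ({b} : Set G) :=
            Subgroup.subset_normalClosure (Set.mem_singleton b)
          rw [h1, Subgroup.mem_bot] at hmem
          exact hb1 hmem
        · exact h1
      have hKle : Subgroup.normalClosure ({b} : Set G) ≤ Subgroup.centralizer cs := by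
        show Subgroup.closure (Group.conjugatesOfSet ({b} : Set G)) ≤ _
        rw [Subgroup.closure_le, ← hcs]
        intro w hw
        rw [SetLike.mem_coe, Subgroup.mem_centralizer_iff]
        intro w' hw'
        obtain ⟨h₁, rfl⟩ := hcsmem w hw
        obtain ⟨h₂, rfl⟩ := hcsmem w' hw'
        exact hBcomm h₂ h₁
      have hall : ∀ k : G, ∀ w ∈ cs, w * k = k * w := by
        intro k w hw
        have hk : k ∈ Subgroup.centralizer cs := hKle (by rw [hK]; exact Subgroup.mem_top k)
        exact Subgroup.mem_centralizer_iff.mp hk w hw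
      obtain ⟨g₁, g₂, hg12⟩ := hcomm
      apply hg12
      have hle2 : Subgroup.normalClosure ({b} : Set G) ≤ Subgroup.centralizer ({g₁} : Set G) := by
        show Subgroup.closure (Group.conjugatesOfSet ({b} : Set G)) ≤ _
        rw [Subgroup.closure_le, ← hcs]
        intro w hw
        rw [SetLike.mem_coe, mem_cent_single]
        exact (hall g₁ w hw).symm
      have hmem : g₂ ∈ Subgroup.centralizer ({g₁} : Set G) :=
        hle2 (by rw [hK]; exact Subgroup.mem_top g₂)
      exact mem_cent_single.mp hmem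

end Cfsg.Agent.S3279
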