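import Cfsg.Statements.S3294
import Mathlib
import Cfsg.Agent.Lib.Helper2.QuatSolv

set_option autoImplicit false
open Cfsg

namespace Cfsg.Agent.S3294

open Cfsg.Agent.Lib.Helper2.QuatSolv

/-- A finite solvable group whose Sylow 2-subgroups are generalized quaternion of order at least 32 has a normal 2-complement. -/
theorem result {G : Type*} [Group G] [Finite G] (hsol : Group.IsSolvable G) (T : Sylow 2 G) (n : ℕ) (hn : 3 ≤ n) (hT : Nonempty ((T : Subgroup G) ≃* QuaternionGroup (2 ^ n))) : Cfsg.HasNormalPComplement 2 G := by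
  have : Fact (Nat.Prime 2) := ⟨Nat.prime_two⟩
  obtain ⟨e⟩ := hT
  have hNn : (Cfsg.pPrimeCore 2 G).Normal := Cfsg.Agent.Lib.Helper1.pPrimeCore_normal 2
  set N := Cfsg.pPrimeCore 2 G with hN
  set π := QuotientGroup.mk' N with hπ
  have hπs : Function.Surjective π := QuotientGroup.mk'_surjective N
  have hO : Cfsg.pPrimeCore 2 (G ⧸ N) = ⊥ := Cfsg.Agent.Lib.Helper1.pPrimeCore_quotient_eq_bot 2
  have hNc : (Nat.card N).Coprime 2 := Cfsg.Agent.Lib.Helper1.pPrimeCore_card_coprime 2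
  set Tb := T.mapSurjective hπs with hTb
  have hinj : Function.Injective (π.subgroupMap (T : Subgroup G)) := by
    rw [injective_iff_map_eq_one]
    intro t ht
    have h1 : π (t : G) = 1 := congrArg Subtype.val ht
    have h2 : (t : G) ∈ N := (QuotientGroup.eq_one_iff _).mp h1
    obtain ⟨j, hj⟩ := T.2 t
    have hj' : (t : G) ^ 2 ^ j = 1 := by
      have := congrArg Subtype.val hj
      simpa using this
    have h3 : orderOf (t : G) ∣ 2 ^ j := orderOf_dvd_of_pow_eq_one hj'
    have h4 : orderOf (t : G) ∣ Nat.card N := by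
      have := orderOf_dvd_natCard (⟨(t : G), h2⟩ : N)
      rwa [Subgroup.orderOf_mk] at this
    have h5 : (2 ^ j).Coprime (Nat.card N) := Nat.Coprime.pow_left j hNc.symm
    have h6 := Nat.eq_one_of_dvd_coprimes h5 h3 h4
    exact Subtype.ext (orderOf_eq_one_iff.mp h6)
  let f : (T : Subgroup G) ≃* ((T : Subgroup G).map π) :=
    MulEquiv.ofBijective _ ⟨hinj, π.subgroupMap_surjective _⟩
  have eb : (Tb : Subgroup (G ⧸ N)) ≃* QuaternionGroup (2 ^ n) := f.symm.trans e
  have h8 : 8 ≤ 2 ^ n := by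
    calc 8 = 2 ^ 3 := rfl
      _ ≤ 2 ^ n := Nat.pow_le_pow_right (by norm_num) hn
  haveI : Group.IsSolvable (G ⧸ N) := inferInstance
  have hodd1 : ∀ y : G ⧸ N, Odd (orderOf y) → y = 1 :=
    fun y hy => odd_eq_one hO Tb (2 ^ n) h8 eb y hy
  have h2grp : IsPGroup 2 (G ⧸ N) := by
    intro y
    obtain ⟨k, m', hm', hkm⟩ := Nat.exists_eq_two_pow_mul_odd (orderOf_pos y).ne'
    refine ⟨k, ?_⟩
    apply hodd1
    have h1 : (y ^ 2 ^ k) ^ m' = 1 := by
      rw [← pow_mul, ← hkm, pow_orderOf_eq_one]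
    exact Odd.of_dvd_nat hm' (orderOf_dvd_of_pow_eq_one h1)
  have hTtop : (Tb : Subgroup (G ⧸ N)) = ⊤ :=
    (Tb.is_maximal' (Q := ⊤) (h2grp.to_subgroup ⊤) le_top).symm
  have hcard : Nat.card N * Nat.card (T : Subgroup G) = Nat.card G := by
    have h1 : Nat.card (T : Subgroup G) = Nat.card (G ⧸ N) := by
      rw [Nat.card_congr f.toEquiv]
      show Nat.card (Tb : Subgroup (G ⧸ N)) = _
      rw [hTtop, Subgroup.card_top]
    rw [h1, mul_comm]
    exact (Subgroup.card_eq_card_quotient_mul_card_subgroup N).symm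
  have hcop : (Nat.card N).Coprime (Nat.card (T : Subgroup G)) := by
    obtain ⟨j, hj⟩ := IsPGroup.iff_card.mp T.2
    rw [hj]
    exact Nat.Coprime.pow_right j hNc
  exact ⟨T, N, hNn, Subgroup.isComplement'_of_coprime hcard hcop⟩

end Cfsg.Agent.S3294
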