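import Cfsg.Statements.S3299
import Cfsg.Agent.Lib.Helper2.LEIdx2
import Cfsg.Agent.Lib.Helper2.ExtraSp2
import Cfsg.Agent.Lib.Helper1.PCore

set_option autoImplicit false
open Cfsg
open Cfsg.Agent.Lib.Helper2.ExtraSp

namespace Cfsg.Agent.S3299

/-- Let G be a finite group with no nontrivial 2-group quotient (O^2(G) = G), z an involution of G with H = C_G(z), and suppose E = O_2(H) is extraspecial with C_G(E) ≤ E and of order 2^(2n+1) with n ≥ 2. Then E is contained in every normal subgroup of H of index 2. -/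
theorem result {G : Type*} [Group G] [Finite G] (hres : Cfsg.pResidual 2 G = ⊤) (z : G) (hz : orderOf z = 2)
    (E : Subgroup G) (hE : E = (Cfsg.pCore 2 ↥(Subgroup.centralizer ({z} : Set G))).map (Subgroup.centralizer ({z} : Set G)).subtype)
    (hext : Cfsg.IsExtraspecial 2 ↥E) (hcent : Subgroup.centralizer (E : Set G) ≤ E) (n : ℕ) (hn : 2 ≤ n) (hcard : Nat.card ↥E = 2 ^ (2 * n + 1))
    (K : Subgroup G) (hKH : K ≤ Subgroup.centralizer ({z} : Set G))
    (hKn : ∀ h ∈ Subgroup.centralizer ({z} : Set G), K.map (MulAut.conj h).toMonoidHom = K)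
    (hKi : K.relIndex (Subgroup.centralizer ({z} : Set G)) = 2) : E ≤ K := by
  classical
  have z2 : z * z = 1 := by rw [← pow_two, ← hz, pow_orderOf_eq_one]
  have hz1 : z ≠ 1 := by intro h; rw [h, orderOf_one] at hz; norm_num at hz
  have hFn : (Cfsg.pCore 2 ↥(Subgroup.centralizer ({z} : Set G))).Normal :=
    Cfsg.Agent.Lib.Helper1.pCore_normal 2
  have hEmem : ∀ q : G, q ∈ E ↔ ∃ hq : q ∈ Subgroup.centralizer ({z} : Set G),
      (⟨q, hq⟩ : ↥(Subgroup.centralizer ({z} : Set G))) ∈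
        Cfsg.pCore 2 ↥(Subgroup.centralizer ({z} : Set G)) := by
    intro q
    rw [hE, Subgroup.mem_map]
    constructor
    · rintro ⟨q', hq', rfl⟩; exact ⟨q'.2, hq'⟩
    · rintro ⟨hq, hq'⟩; exact ⟨⟨q, hq⟩, hq', rfl⟩
  have hEH : E ≤ Subgroup.centralizer ({z} : Set G) := fun q hq => ((hEmem q).mp hq).1
  have hzE : z ∈ E := by
    apply hcent
    rw [Subgroup.mem_centralizer_iff]
    intro e he
    exact mem_cent_single.mp (hEH he) |>.symm
  obtain ⟨z0, hES, hmem⟩ := esdata_of_extraspecial hext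
  have hz0 : z0 = z := by
    rcases hES.center_sub z hzE (fun q hq => (mem_cent_single.mp (hEH hq)).symm) with h | h
    · exact absurd h hz1
    · exact h.symm
  subst hz0
  have hN : Subgroup.centralizer ({z0} : Set G) ≤ Subgroup.normalizer (E : Set G) := by
    intro c hc
    apply mem_normalizer_of_conj_le
    intro v hv
    obtain ⟨hvH, hvF⟩ := (hEmem v).mp hv
    rw [hEmem]
    exact ⟨Subgroup.mul_mem _ (Subgroup.mul_mem _ hc hvH) (Subgroup.inv_mem _ hc),
      hFn.conj_mem ⟨v, hvH⟩ hvF ⟨c, hc⟩⟩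
  have hcard8 : 8 < Nat.card ↥E := by
    rw [hcard]
    calc 8 < 2 ^ 5 := by norm_num
      _ ≤ 2 ^ (2 * n + 1) := Nat.pow_le_pow_right (by norm_num) (by omega)
  have hidx : (K.subgroupOf (Subgroup.centralizer ({z0} : Set G))).index = 2 := hKi
  refine le_of_index_two hres hES hcent hN hEH hcard8 K ?_
  intro a ha b hb
  have h := Subgroup.mul_mem_iff_of_index_two hidx
    (a := (⟨a, ha⟩ : ↥(Subgroup.centralizer ({z0} : Set G)))) (b := ⟨b, hb⟩)
  simpa [Subgroup.mem_subgroupOf] using h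

end Cfsg.Agent.S3299
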