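import Cfsg.Statements.S3305
import Mathlib

set_option autoImplicit false
set_option linter.style.haveILetI false
open Cfsg

namespace Cfsg.Agent.S3305

/-- If any two distinct Sylow 2-subgroups of the finite group G intersect in a cyclic group, then the same holds in every quotient group G/H, H a normal subgroup of G. -/
theorem result {G : Type*} [Group G] [Finite G]
    (hC : ∀ S T : Sylow 2 G, S ≠ T → IsCyclic ↥((S : Subgroup G) ⊓ (T : Subgroup G))) (H : Subgroup G) [H.Normal] :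
    ∀ S T : Sylow 2 (G ⧸ H), S ≠ T → IsCyclic ↥((S : Subgroup (G ⧸ H)) ⊓ (T : Subgroup (G ⧸ H))) := by
  classical
  haveI : Fact (Nat.Prime 2) := ⟨Nat.prime_two⟩
  intro Sb Tb hne
  set π : G →* G ⧸ H := QuotientGroup.mk' H with hπ
  have hπs : Function.Surjective π := QuotientGroup.mk'_surjective H
  -- step 1: a Sylow 2-subgroup S of G with image Sb
  obtain ⟨S, hS⟩ := Sylow.mapSurjective_surjective hπs 2 Sb
  have hSmap : (S : Subgroup G).map π = (Sb : Subgroup (G ⧸ H)) := by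
    rw [← hS]; rfl
  set Db : Subgroup (G ⧸ H) := (Sb : Subgroup (G ⧸ H)) ⊓ (Tb : Subgroup (G ⧸ H)) with hDb
  -- step 2: Q
  set Q : Subgroup G := (S : Subgroup G) ⊓ Db.comap π with hQ
  have hQ2 : IsPGroup 2 Q := S.2.to_le inf_le_left
  have hQsurj : ∀ d ∈ Db, ∃ q ∈ Q, π q = d := by
    intro d hd
    have hdS : d ∈ (S : Subgroup G).map π := by rw [hSmap]; exact hd.1
    obtain ⟨s, hs, rfl⟩ := hdS
    exact ⟨s, ⟨hs, hd⟩, rfl⟩
  -- step 3: T
  set Tt : Subgroup G := (Tb : Subgroup (G ⧸ H)).comap π with hTt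
  have hQTt : Q ≤ Tt := by
    intro q hq
    exact (hq.2 : π q ∈ Db).2
  obtain ⟨T0, hT0⟩ := (hQ2.comap_subtype (K := Tt)).exists_le_sylow
  let f : Tt →* (Tb : Subgroup (G ⧸ H)) := π.subgroupComap (Tb : Subgroup (G ⧸ H))
  have hf : Function.Surjective f := π.subgroupComap_surjective_of_surjective _ hπs
  have hTb2 : IsPGroup 2 (Tb : Subgroup (G ⧸ H)) := Tb.2
  have htop : ((T0.mapSurjective hf : Sylow 2 (Tb : Subgroup (G ⧸ H))) : Subgroup (Tb : Subgroup (G ⧸ H))) = ⊤ := by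
    have hall : IsPGroup 2 (⊤ : Subgroup (Tb : Subgroup (G ⧸ H))) := by
      intro x
      obtain ⟨k, hk⟩ := hTb2 x.1
      exact ⟨k, Subtype.ext hk⟩
    exact ((T0.mapSurjective hf).3 hall le_top).symm
  set T1 : Subgroup G := (T0 : Subgroup Tt).map Tt.subtype with hT1
  have hT12 : IsPGroup 2 T1 := T0.2.map _
  have hQT1 : Q ≤ T1 := by
    intro q hq
    exact ⟨⟨q, hQTt hq⟩, hT0 hq, rfl⟩
  have hT1map : ∀ t ∈ (Tb : Subgroup (G ⧸ H)), ∃ x ∈ T1, π x = t := by
    intro t ht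
    have : (⟨t, ht⟩ : (Tb : Subgroup (G ⧸ H))) ∈ ((T0.mapSurjective hf : Sylow 2 _) : Subgroup _) := by
      rw [htop]; trivial
    obtain ⟨y, hy, hyt⟩ := this
    refine ⟨y.1, ⟨y, hy, rfl⟩, ?_⟩
    have := congrArg Subtype.val hyt
    exact this
  obtain ⟨T, hT⟩ := hT12.exists_le_sylow
  have hTmap : (T : Subgroup G).map π = (Tb : Subgroup (G ⧸ H)) := by
    apply Tb.3 (T.2.map π)
    intro t ht
    obtain ⟨x, hx, rfl⟩ := hT1map t ht
    exact ⟨x, hT hx, rfl⟩
  -- step 4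
  have hST : S ≠ T := by
    intro h
    apply hne
    apply Sylow.ext
    rw [← hSmap, ← hTmap, h]
  haveI := hC S T hST
  have hQle : Q ≤ (S : Subgroup G) ⊓ (T : Subgroup G) := le_inf inf_le_left (le_trans hQT1 hT)
  haveI : IsCyclic Q := Subgroup.isCyclic_of_le hQle
  -- step 5
  let φ : Q →* Db :=
    { toFun := fun q => ⟨π q.1, q.2.2⟩
      map_one' := by ext; simp
      map_mul' := by intro a b; ext; simp }
  have hφ : Function.Surjective φ := by
    rintro ⟨d, hd⟩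
    obtain ⟨q, hq, rfl⟩ := hQsurj d hd
    exact ⟨⟨q, hq⟩, rfl⟩
  exact isCyclic_of_surjective φ hφ

end Cfsg.Agent.S3305
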