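import Cfsg.Statements.S3303
import Mathlib
import Cfsg.Agent.S3305
import Cfsg.Agent.Lib.Helper1.PLengthOne

set_option autoImplicit false
set_option linter.style.haveILetI false
open Cfsg

namespace Cfsg.Agent.S3303

/-- The automorphism group of a cyclic 2-group is a 2-group. -/
theorem mulAut_isPGroup {Q : Type*} [Group Q] [Finite Q] [IsCyclic Q] (hQ : IsPGroup 2 Q) :
    IsPGroup 2 (MulAut Q) := by
  haveI : Fact (Nat.Prime 2) := ⟨Nat.prime_two⟩
  obtain ⟨m, hm⟩ := IsPGroup.iff_card.mp hQ
  have hcard : Nat.card (MulAut Q) = Nat.totient (Nat.card Q) := IsCyclic.card_mulAut Q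
  rw [hm] at hcard
  rcases Nat.eq_zero_or_pos m with h0 | hpos
  · subst h0
    simp at hcard
    exact IsPGroup.of_card (n := 0) (by simpa using hcard)
  · rw [Nat.totient_prime_pow Nat.prime_two hpos] at hcard
    exact IsPGroup.of_card (n := m - 1) (by simpa using hcard)

/-- A finite solvable group with trivial odd core in which two distinct Sylow 2-subgroups
intersect in a cyclic group has a normal Sylow 2-subgroup. -/
theorem main {X : Type*} [Group X] [Finite X] [Group.IsSolvable X]
    (hO : Cfsg.pPrimeCore 2 X = ⊥)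
    (hC : ∀ S T : Sylow 2 X, S ≠ T → IsCyclic ↥((S : Subgroup X) ⊓ (T : Subgroup X))) :
    ∃ P : Sylow 2 X, (P : Subgroup X).Normal := by
  classical
  haveI : Fact (Nat.Prime 2) := ⟨Nat.prime_two⟩
  by_cases hex : ∃ S T : Sylow 2 X, S ≠ T
  · exfalso
    obtain ⟨S, T, hST⟩ := hex
    have hcyc := hC S T hST
    set Q := Cfsg.pCore 2 X with hQdef
    haveI hQn : Q.Normal := Cfsg.Agent.Lib.Helper1.pCore_normal 2
    have hQS : Q ≤ S := Cfsg.Agent.Lib.Helper1.pCore_le_sylow 2 S
    have hQT : Q ≤ T := Cfsg.Agent.Lib.Helper1.pCore_le_sylow 2 T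
    have hQle : Q ≤ (S : Subgroup X) ⊓ (T : Subgroup X) := le_inf hQS hQT
    haveI : IsCyclic Q := Subgroup.isCyclic_of_le hQle
    have hQp : IsPGroup 2 Q := Cfsg.Agent.Lib.Helper1.pCore_isPGroup 2
    have hcent : Subgroup.centralizer (Q : Set X) ≤ Q :=
      Cfsg.Agent.Lib.Helper1.centralizer_pCore_le 2 hO
    have hA : IsPGroup 2 (MulAut Q) := mulAut_isPGroup hQp
    -- X is a 2-group
    have hX : IsPGroup 2 X := by
      intro g
      obtain ⟨k, hk⟩ := hA (MulAut.conjNormal g)
      have hgk : g ^ (2 ^ k) ∈ Subgroup.centralizer (Q : Set X) := by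
        rw [Subgroup.mem_centralizer_iff]
        intro q hq
        have h1 : (MulAut.conjNormal (g ^ (2 ^ k)) : MulAut Q) = 1 := by
          rw [map_pow]; exact hk
        have h2 := congrArg (fun f : MulAut Q => ((f ⟨q, hq⟩ : Q) : X)) h1
        simp only [MulAut.conjNormal_apply, MulAut.one_apply] at h2
        calc q * g ^ (2 ^ k) = (g ^ (2 ^ k) * q * (g ^ (2 ^ k))⁻¹) * g ^ (2 ^ k) := by rw [h2]
          _ = g ^ (2 ^ k) * q := by group
      obtain ⟨j, hj⟩ := hQp ⟨g ^ (2 ^ k), hcent hgk⟩
      refine ⟨k + j, ?_⟩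
      have := congrArg Subtype.val hj
      simp only [Subgroup.coe_pow, Subgroup.coe_one] at this
      rw [pow_add, pow_mul]
      exact this
    have hStop : (S : Subgroup X) = ⊤ := by
      have := S.is_maximal' (Q := ⊤) (hX.to_subgroup ⊤) le_top
      exact this.symm
    have hTtop : (T : Subgroup X) = ⊤ := by
      have := T.is_maximal' (Q := ⊤) (hX.to_subgroup ⊤) le_top
      exact this.symm
    exact hST (Sylow.ext (hStop.trans hTtop.symm))
  · push Not at hex
    obtain ⟨P⟩ : Nonempty (Sylow 2 X) := inferInstance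
    refine ⟨P, ?_⟩
    rw [← Subgroup.normalizer_eq_top_iff, eq_top_iff]
    intro g _
    have := Sylow.smul_eq_iff_mem_normalizer.mp (hex (g • P) P)
    simpa using this

/-- Let G be a finite solvable group in which the intersection of any two distinct Sylow 2-subgroups is cyclic. Then G/O(G) has a normal Sylow 2-subgroup, where O(G) is the largest normal subgroup of odd order. -/
theorem result {G : Type*} [Group G] [Finite G] (hs : Group.IsSolvable G)
    (hC : ∀ S T : Sylow 2 G, S ≠ T → IsCyclic ↥((S : Subgroup G) ⊓ (T : Subgroup G))) :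
    ∃ P : Sylow 2 (G ⧸ Cfsg.oddCore G), (P : Subgroup (G ⧸ Cfsg.oddCore G)).Normal := by
  have hq := Cfsg.Agent.S3305.result hC (Cfsg.oddCore G)
  haveI : Group.IsSolvable (G ⧸ Cfsg.oddCore G) := inferInstance
  exact main (Cfsg.Agent.Lib.Helper1.pPrimeCore_quotient_eq_bot 2) hq

end Cfsg.Agent.S3303
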