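import Cfsg.Statements.S3309
import Mathlib
import Cfsg.Agent.S0111
import Cfsg.Agent.Lib.Helper2.ZS10
import Cfsg.Agent.Lib.Helper2.CyclicAut
import Cfsg.Agent.Lib.Helper1.FittingCentralizer
import Cfsg.Agent.Lib.Helper1.PLengthOne

set_option autoImplicit false
open Cfsg

namespace Cfsg.Agent.S3309

abbrev P := Multiplicative (ZMod 2) × DihedralGroup 4

def sg : DihedralGroup 4 → ZMod 2
  | DihedralGroup.r _ => 0
  | DihedralGroup.sr _ => 1

def rh : DihedralGroup 4 → ZMod 2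
  | DihedralGroup.r i => if i = 0 ∨ i = 2 then 0 else 1
  | DihedralGroup.sr i => if i = 0 ∨ i = 2 then 0 else 1

def ph (a b : ZMod 2) (x : P) : ZMod 2 := Multiplicative.toAdd x.1 + a * rh x.2 + b * sg x.2

def u0 : P := (Multiplicative.ofAdd 1, 1)
def z0 : P := (1, DihedralGroup.r 2)
def w0 : P := (1, DihedralGroup.r 1)
def s0 : P := (1, DihedralGroup.sr 0)
def t0 : P := (1, DihedralGroup.sr 1)
def us0 : P := (Multiplicative.ofAdd 1, DihedralGroup.sr 0)
def ut0 : P := (Multiplicative.ofAdd 1, DihedralGroup.sr 1)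

instance : DecidableEq P := inferInstance

theorem ph_mul : ∀ (a b : ZMod 2) (x y : P), ph a b (x * y) = ph a b x + ph a b y := by decide

theorem ph_one : ∀ (a b : ZMod 2), ph a b 1 = 0 := by decide

theorem ph_inv : ∀ (a b : ZMod 2) (x : P), ph a b x⁻¹ = ph a b x := by decide

theorem sq_cases : ∀ w : P, w * w = 1 ∨ w * w = z0 := by decide

theorem center_cases : ∀ y : P, (∀ x : P, x * y = y * x) → y = 1 ∨ y = u0 ∨ y = z0 ∨ y = u0 * z0 := by decide

theorem u0_central : ∀ x : P, x * u0 = u0 * x := by decide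
theorem z0_central : ∀ x : P, x * z0 = z0 * x := by decide

theorem ph_u0 : ∀ (a b : ZMod 2), ph a b u0 = 1 := by decide
theorem ph_z0 : ∀ (a b : ZMod 2), ph a b z0 = 0 := by decide

theorem inv_cases00 : ∀ (y : P), ph 0 0 y = 0 → y * y = 1 → y ≠ 1 → y = z0 ∨
    (∃ p : P, p * y * p⁻¹ = s0) ∨ (∃ p : P, p * y * p⁻¹ = t0) := by decide
theorem inv_cases01 : ∀ (y : P), ph 0 1 y = 0 → y * y = 1 → y ≠ 1 → y = z0 ∨
    (∃ p : P, p * y * p⁻¹ = us0) ∨ (∃ p : P, p * y * p⁻¹ = ut0) := by decide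
theorem inv_cases10 : ∀ (y : P), ph 1 0 y = 0 → y * y = 1 → y ≠ 1 → y = z0 ∨
    (∃ p : P, p * y * p⁻¹ = s0) ∨ (∃ p : P, p * y * p⁻¹ = ut0) := by decide
theorem inv_cases11 : ∀ (y : P), ph 1 1 y = 0 → y * y = 1 → y ≠ 1 → y = z0 ∨
    (∃ p : P, p * y * p⁻¹ = us0) ∨ (∃ p : P, p * y * p⁻¹ = t0) := by decide

theorem inv_cases2 : ∀ (y : P), y * y = 1 → y ≠ 1 → y = z0 ∨ y = u0 ∨ y = u0 * z0 ∨
    (∃ p : P, p * y * p⁻¹ = s0) ∨ (∃ p : P, p * y * p⁻¹ = t0) ∨
    (∃ p : P, p * y * p⁻¹ = us0) ∨ (∃ p : P, p * y * p⁻¹ = ut0) := by decide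

theorem misc1 : z0 ≠ 1 ∧ u0 ≠ 1 ∧ u0 ≠ z0 ∧ w0 * w0 = z0 ∧ u0 * u0 = 1 ∧ z0 * z0 = 1 ∧ u0 * z0 ≠ 1 ∧ u0 * z0 ≠ z0 ∧ u0 * z0 ≠ u0
   ∧ (u0 * z0) * (u0 * z0) = 1 := by decide

theorem reps_sq : s0 * s0 = 1 ∧ t0 * t0 = 1 ∧ us0 * us0 = 1 ∧ ut0 * ut0 = 1 ∧ s0 ≠ 1 ∧ t0 ≠ 1 ∧ us0 ≠ 1 ∧ ut0 ≠ 1 := by decide

theorem card_P : Fintype.card P = 16 := by decide

theorem zmod2_cases : ∀ c : ZMod 2, c = 0 ∨ c = 1 := by decide

theorem zmod2_one_add_one : (1 : ZMod 2) + 1 = 0 := by decide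

theorem prop4 {a b c d : Prop} (hA : a ∨ b) (hB : c ∨ d) (hC : a ∨ d) (hD : c ∨ b) :
    (a ∧ c) ∨ (b ∧ d) := by tauto

theorem final_prop {Us Ut Uus Uut Vs Vt Vus Vut Zs Zt Zus Zut : Prop}
    (hU : (Us ∧ Uus) ∨ (Ut ∧ Uut)) (hV : (Vs ∧ Vus) ∨ (Vt ∧ Vut)) (hZ : Zs ∨ Zt ∨ Zus ∨ Zut)
    (d1 : Us → Vs → False) (d2 : Ut → Vt → False) (d3 : Uus → Vus → False)
    (d4 : Uut → Vut → False) (d5 : Us → Zs → False) (d6 : Ut → Zt → False)
    (d7 : Uus → Zus → False) (d8 : Uut → Zut → False) (d9 : Vs → Zs → False)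
    (d10 : Vt → Zt → False) (d11 : Vus → Zus → False) (d12 : Vut → Zut → False) : False := by
  rcases hU with ⟨hUs, hUus⟩ | ⟨hUt, hUut⟩
  · rcases hV with ⟨hVs, hVus⟩ | ⟨hVt, hVut⟩
    · exact d1 hUs hVs
    · rcases hZ with h | h | h | h
      · exact d5 hUs h
      · exact d10 hVt h
      · exact d7 hUus h
      · exact d12 hVut h
  · rcases hV with ⟨hVs, hVus⟩ | ⟨hVt, hVut⟩
    · rcases hZ with h | h | h | h
      · exact d9 hVs h
      · exact d6 hUt h
      · exact d11 hVus h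
      · exact d8 hUut h
    · exact d2 hUt hVt

/-- A finite group whose Sylow 2-subgroups are isomorphic to the direct product of a group of order 2 and the dihedral group of order 8 is not a non-abelian simple group. -/
theorem result {G : Type*} [Group G] [Finite G] (S : Sylow 2 G) (hS : Nonempty (↥(S : Subgroup G) ≃* Multiplicative (ZMod 2) × DihedralGroup 4))
    [IsSimpleGroup G] (hG : ¬ IsMulCommutative G) : False := by
    classical
    obtain ⟨e⟩ := hS
    haveI : Fact (Nat.Prime 2) := ⟨Nat.prime_two⟩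
    obtain ⟨hz1, hu1, huz, hww, huu, hzz, huz1, huzz, huzu, huzuz⟩ := misc1
    obtain ⟨hs0s, ht0s, hus0s, hut0s, hs0n, ht0n, hus0n, hut0n⟩ := reps_sq
    set ι : P → G := fun x => ((e.symm x : ↥(S : Subgroup G)) : G) with hι
    have ι_mul : ∀ x y, ι (x * y) = ι x * ι y := by intro x y; simp [hι]
    have ι_one : ι 1 = 1 := by simp [hι]
    have ι_inv : ∀ x, ι x⁻¹ = (ι x)⁻¹ := by intro x; simp [hι]
    have ι_inj : ∀ x y, ι x = ι y → x = y := by
      intro x y h
      exact e.symm.injective (Subtype.ext h)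
    have ι_mem : ∀ x, ι x ∈ (S : Subgroup G) := fun x => (e.symm x).2
    have ι_surj : ∀ g ∈ (S : Subgroup G), ∃ x, ι x = g := by
      intro g hg
      refine ⟨e ⟨g, hg⟩, ?_⟩
      simp [hι]
    have ι_ne_one : ∀ x, x ≠ 1 → ι x ≠ 1 := by
      intro x hx h
      exact hx (ι_inj x 1 (h.trans ι_one.symm))
    have ι_ord : ∀ x : P, x * x = 1 → x ≠ 1 → orderOf (ι x) = 2 := by
      intro x hxx hx
      refine orderOf_eq_prime ?_ (ι_ne_one x hx)
      rw [pow_two, ← ι_mul, hxx, ι_one]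
    -- the fusion relation
    let Rel : P → P → Prop := fun x y => ∃ g : G, g * ι x * g⁻¹ = ι y
    have Rel_symm : ∀ x y, Rel x y → Rel y x := by
      rintro x y ⟨g, hg⟩
      exact ⟨g⁻¹, by rw [← hg]; group⟩
    have Rel_trans : ∀ x y z, Rel x y → Rel y z → Rel x z := by
      rintro x y z ⟨g, hg⟩ ⟨h, hh⟩
      exact ⟨h * g, by rw [← hh, ← hg]; group⟩
    have Rel_conj : ∀ x p, Rel x (p * x * p⁻¹) := by
      intro x p
      exact ⟨ι p, by rw [ι_mul, ι_mul, ι_inv]⟩
    have Rel_sq : ∀ x y, Rel x y → x * x = 1 → y * y = 1 := by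
      rintro x y ⟨g, hg⟩ hxx
      apply ι_inj
      rw [ι_mul, ← hg, ι_one]
      calc g * ι x * g⁻¹ * (g * ι x * g⁻¹) = g * (ι x * ι x) * g⁻¹ := by group
        _ = 1 := by rw [← ι_mul, hxx, ι_one]; group
    have Rel_ne : ∀ x y, Rel x y → x ≠ 1 → y ≠ 1 := by
      rintro x y ⟨g, hg⟩ hx rfl
      rw [ι_one, conj_eq_one_iff] at hg
      exact ι_ne_one x hx hg
    -- normalizer facts
    have hNS : ∀ n ∈ Subgroup.normalizer ((S : Subgroup G) : Set G), ∀ x : P,
        ∃ y : P, n * ι x * n⁻¹ = ι y := by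
      intro n hn x
      obtain ⟨y, hy⟩ := ι_surj _ ((Subgroup.mem_normalizer_iff.mp hn (ι x)).mp (ι_mem x))
      exact ⟨y, hy.symm⟩
    have hNz : ∀ n ∈ Subgroup.normalizer ((S : Subgroup G) : Set G), n * ι z0 * n⁻¹ = ι z0 := by
      intro n hn
      obtain ⟨w', hw'⟩ := hNS n hn w0
      have h1 : n * ι z0 * n⁻¹ = ι (w' * w') := by
        rw [ι_mul, ← hw', ← hww, ι_mul]; group
      rcases sq_cases w' with h | h
      · exfalso
        rw [h, ι_one, conj_eq_one_iff] at h1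
        exact ι_ne_one z0 hz1 h1
      · rw [h1, h]
    have hNu : ∀ n ∈ Subgroup.normalizer ((S : Subgroup G) : Set G), n * ι u0 * n⁻¹ = ι u0 := by
      intro n hn
      have hn' : n⁻¹ ∈ Subgroup.normalizer ((S : Subgroup G) : Set G) := Subgroup.inv_mem _ hn
      obtain ⟨y, hy⟩ := hNS n hn u0
      have hyc : ∀ x : P, x * y = y * x := by
        intro x
        obtain ⟨x', hx'⟩ := hNS n⁻¹ hn' x
        apply ι_inj
        rw [ι_mul, ι_mul, ← hy]
        have hx : ι x = n * ι x' * n⁻¹ := by rw [← hx']; group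
        rw [hx]
        have hc : ι x' * ι u0 = ι u0 * ι x' := by rw [← ι_mul, ← ι_mul, u0_central]
        calc n * ι x' * n⁻¹ * (n * ι u0 * n⁻¹) = n * (ι x' * ι u0) * n⁻¹ := by group
          _ = n * (ι u0 * ι x') * n⁻¹ := by rw [hc]
          _ = n * ι u0 * n⁻¹ * (n * ι x' * n⁻¹) := by group
      have hy1 : y ≠ 1 := by
        rintro rfl
        rw [ι_one, conj_eq_one_iff] at hy
        exact ι_ne_one u0 hu1 hy
      have hyz : y ≠ z0 := by
        rintro rfl
        rw [← hNz n hn] at hy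
        exact huz (ι_inj _ _ (conj_injective hy))
      rcases center_cases y hyc with h | h | h | h
      · exact absurd h hy1
      · rw [hy, h]
      · exact absurd h hyz
      · exfalso
        rw [h] at hy
        have hpow : ∀ k : ℕ, n ^ k * ι u0 * (n ^ k)⁻¹ = ι u0 * (ι z0) ^ k := by
          intro k
          induction k with
          | zero => simp
          | succ k ih =>
            have hnk : n ^ k ∈ Subgroup.normalizer ((S : Subgroup G) : Set G) :=
              Subgroup.pow_mem _ hn k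
            calc n ^ (k + 1) * ι u0 * (n ^ (k + 1))⁻¹
                = n ^ k * (n * ι u0 * n⁻¹) * (n ^ k)⁻¹ := by
                  rw [pow_succ]; group
              _ = n ^ k * (ι u0 * ι z0) * (n ^ k)⁻¹ := by rw [hy, ι_mul]
              _ = (n ^ k * ι u0 * (n ^ k)⁻¹) * (n ^ k * ι z0 * (n ^ k)⁻¹) := by group
              _ = ι u0 * ι z0 ^ k * ι z0 := by rw [ih, hNz _ hnk]
              _ = ι u0 * ι z0 ^ (k + 1) := by rw [pow_succ, mul_assoc]
        obtain ⟨a, m, hm, hnm⟩ := Nat.exists_eq_two_pow_mul_odd (orderOf_pos n).ne'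
        have hm0 : m ≠ 0 := by
          rintro rfl
          exact Nat.not_odd_zero hm
        have hord : orderOf (n ^ m) = 2 ^ a := by
          rw [orderOf_pow_of_dvd hm0 ⟨2 ^ a, by rw [hnm, mul_comm]⟩, hnm,
            Nat.mul_div_cancel _ (Nat.pos_of_ne_zero hm0)]
        have hnmN : n ^ m ∈ Subgroup.normalizer ((S : Subgroup G) : Set G) :=
          Subgroup.pow_mem _ hn m
        have hnmS : n ^ m ∈ (S : Subgroup G) :=
          Cfsg.Agent.Lib.Helper2.mem_sylow_of_mem_normalizer S hnmN hord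
        obtain ⟨q, hq⟩ := ι_surj _ hnmS
        have h1 : n ^ m * ι u0 * (n ^ m)⁻¹ = ι u0 := by
          rw [← hq, ← ι_inv, ← ι_mul, ← ι_mul, u0_central, mul_inv_cancel_right]
        have h2 := hpow m
        rw [h1] at h2
        obtain ⟨k, rfl⟩ := hm
        have h3 : ι z0 ^ (2 * k + 1) = ι z0 := by
          rw [pow_succ, pow_mul, pow_two, ← ι_mul, hzz, ι_one, one_pow, one_mul]
        rw [h3] at h2
        exact ι_ne_one z0 hz1 (by simpa using h2.symm)
    have hNuz : ∀ n ∈ Subgroup.normalizer ((S : Subgroup G) : Set G),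
        n * ι (u0 * z0) * n⁻¹ = ι (u0 * z0) := by
      intro n hn
      calc n * ι (u0 * z0) * n⁻¹ = (n * ι u0 * n⁻¹) * (n * ι z0 * n⁻¹) := by rw [ι_mul]; group
        _ = ι (u0 * z0) := by rw [hNu n hn, hNz n hn, ι_mul]
    have huz_central : ∀ x : P, x * (u0 * z0) = (u0 * z0) * x := by
      intro x
      rw [← mul_assoc, u0_central, mul_assoc, z0_central, mul_assoc]
    -- Burnside
    have hcent : ∀ c : P, (∀ x : P, x * c = c * x) →
        ι c ∈ Subgroup.centralizer ((S : Subgroup G) : Set G) := by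
      intro c hc s hs
      obtain ⟨x, rfl⟩ := ι_surj s hs
      rw [← ι_mul, ← ι_mul, hc]
    have hburn : ∀ c y : P, (∀ x : P, x * c = c * x) → (∀ x : P, x * y = y * x) →
        (∀ n ∈ Subgroup.normalizer ((S : Subgroup G) : Set G), n * ι c * n⁻¹ = ι c) →
        Rel c y → y = c := by
      rintro c y hc hy hN ⟨g, hg⟩
      have h1 : g⁻¹⁻¹ * ι c * g⁻¹ ∈ Subgroup.centralizer ((S : Subgroup G) : Set G) := by
        rw [inv_inv, hg]; exact hcent y hy
      obtain ⟨n, hn, hne⟩ :=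
        Sylow.conj_eq_normalizer_conj_of_mem_centralizer S (ι c) g⁻¹ (hcent c hc) h1
      rw [inv_inv, hg] at hne
      have h2 := hN n⁻¹ (Subgroup.inv_mem _ hn)
      rw [inv_inv] at h2
      rw [h2] at hne
      exact ι_inj _ _ hne
    have hUV : ¬ Rel u0 (u0 * z0) := fun h =>
      huzu (hburn u0 (u0 * z0) u0_central huz_central hNu h)
    have hUZ : ¬ Rel u0 z0 := fun h =>
      huz (hburn u0 z0 u0_central z0_central hNu h).symm
    have hVZ : ¬ Rel (u0 * z0) z0 := fun h =>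
      huzz (hburn (u0 * z0) z0 huz_central z0_central hNuz h).symm
    have hZU : ¬ Rel z0 u0 := fun h => hUZ (Rel_symm _ _ h)
    have hZV : ¬ Rel z0 (u0 * z0) := fun h => hVZ (Rel_symm _ _ h)
    -- no normal subgroup of index 2
    have hno2 : ∀ M : Subgroup G, M.Normal → M.index = 2 → False := by
      intro M hM hM2
      rcases hM.eq_bot_or_eq_top with h | h
      · rw [h, Subgroup.index_bot] at hM2
        have h16 : Nat.card (S : Subgroup G) = 16 := by
          rw [Nat.card_congr e.toEquiv, Nat.card_eq_fintype_card, card_P]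
        have hd := Subgroup.card_subgroup_dvd_card (S : Subgroup G)
        rw [h16, hM2] at hd
        omega
      · rw [h, Subgroup.index_top] at hM2
        omega
    -- Thompson transfer
    have hz2 := zmod2_cases
    let Q : ZMod 2 → ZMod 2 → Subgroup G := fun a b =>
      { carrier := {g | ∃ y : P, ph a b y = 0 ∧ ι y = g}
        mul_mem' := by
          rintro _ _ ⟨x, hx, rfl⟩ ⟨y, hy, rfl⟩
          exact ⟨x * y, by rw [ph_mul, hx, hy, add_zero], ι_mul x y⟩
        one_mem' := ⟨1, ph_one a b, ι_one⟩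
        inv_mem' := by
          rintro _ ⟨x, hx, rfl⟩
          exact ⟨x⁻¹, by rw [ph_inv, hx], ι_inv x⟩ }
    have hQS : ∀ a b, Q a b ≤ (S : Subgroup G) := by
      rintro a b _ ⟨y, _, rfl⟩
      exact ι_mem y
    have hQrel : ∀ a b, (Q a b).relIndex (S : Subgroup G) = 2 := by
      intro a b
      rw [Subgroup.relIndex_eq_two_iff_exists_notMem_and]
      refine ⟨ι u0, ι_mem u0, ?_, ?_⟩
      · rintro ⟨y, hy, hyu⟩
        rw [ι_inj _ _ hyu, ph_u0] at hy
        exact one_ne_zero hy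
      · intro g hg
        obtain ⟨x, rfl⟩ := ι_surj g hg
        rcases hz2 (ph a b x) with h | h
        · exact Or.inr ⟨x, h, rfl⟩
        · refine Or.inl ⟨x * u0, ?_, ι_mul x u0⟩
          rw [ph_mul, h, ph_u0]
          exact zmod2_one_add_one
    have hthom : ∀ (a b : ZMod 2) (t : P), t * t = 1 → t ≠ 1 → ph a b t ≠ 0 →
        ∃ y : P, ph a b y = 0 ∧ Rel t y := by
      intro a b t htt ht1 hph
      have hnot : ι t ∉ Q a b := by
        rintro ⟨y, hy, hyt⟩
        rw [ι_inj _ _ hyt] at hy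
        exact hph hy
      rcases Cfsg.Agent.S0111.result S (Q a b) (hQS a b) (hQrel a b) (ι t) (ι_ord t htt ht1)
        (ι_mem t) hnot with ⟨M, hM, hM2, _⟩ | ⟨g, y, hy, hyg⟩
      · exact (hno2 M hM hM2).elim
      · exact ⟨y, hy, g, hyg.symm⟩
    -- consequences for a central involution t outside every D(a,b)
    have hkey : ∀ t : P, t * t = 1 → t ≠ 1 → (∀ a b, ph a b t ≠ 0) → ¬ Rel t z0 →
        (Rel t s0 ∧ Rel t us0) ∨ (Rel t t0 ∧ Rel t ut0) := by
      intro t htt ht1 hph htz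
      have hA : Rel t s0 ∨ Rel t t0 := by
        obtain ⟨y, hy, hty⟩ := hthom 0 0 t htt ht1 (hph 0 0)
        rcases inv_cases00 y hy (Rel_sq _ _ hty htt) (Rel_ne _ _ hty ht1) with h | ⟨p, h⟩ | ⟨p, h⟩
        · exact absurd (h ▸ hty) htz
        · exact Or.inl (Rel_trans _ _ _ hty (h ▸ Rel_conj y p))
        · exact Or.inr (Rel_trans _ _ _ hty (h ▸ Rel_conj y p))
      have hB : Rel t us0 ∨ Rel t ut0 := by
        obtain ⟨y, hy, hty⟩ := hthom 0 1 t htt ht1 (hph 0 1)
        rcases inv_cases01 y hy (Rel_sq _ _ hty htt) (Rel_ne _ _ hty ht1) with h | ⟨p, h⟩ | ⟨p, h⟩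
        · exact absurd (h ▸ hty) htz
        · exact Or.inl (Rel_trans _ _ _ hty (h ▸ Rel_conj y p))
        · exact Or.inr (Rel_trans _ _ _ hty (h ▸ Rel_conj y p))
      have hC : Rel t s0 ∨ Rel t ut0 := by
        obtain ⟨y, hy, hty⟩ := hthom 1 0 t htt ht1 (hph 1 0)
        rcases inv_cases10 y hy (Rel_sq _ _ hty htt) (Rel_ne _ _ hty ht1) with h | ⟨p, h⟩ | ⟨p, h⟩
        · exact absurd (h ▸ hty) htz
        · exact Or.inl (Rel_trans _ _ _ hty (h ▸ Rel_conj y p))
        · exact Or.inr (Rel_trans _ _ _ hty (h ▸ Rel_conj y p))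
      have hD : Rel t us0 ∨ Rel t t0 := by
        obtain ⟨y, hy, hty⟩ := hthom 1 1 t htt ht1 (hph 1 1)
        rcases inv_cases11 y hy (Rel_sq _ _ hty htt) (Rel_ne _ _ hty ht1) with h | ⟨p, h⟩ | ⟨p, h⟩
        · exact absurd (h ▸ hty) htz
        · exact Or.inl (Rel_trans _ _ _ hty (h ▸ Rel_conj y p))
        · exact Or.inr (Rel_trans _ _ _ hty (h ▸ Rel_conj y p))
      exact prop4 hA hB hC hD
    have hphu : ∀ a b : ZMod 2, ph a b u0 ≠ 0 := by
      intro a b; rw [ph_u0]; exact one_ne_zero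
    have hphuz : ∀ a b : ZMod 2, ph a b (u0 * z0) ≠ 0 := by
      intro a b; rw [ph_mul, ph_u0, ph_z0, add_zero]; exact one_ne_zero
    have hU := hkey u0 huu hu1 hphu hUZ
    have hV := hkey (u0 * z0) huzuz huz1 hphuz hVZ
    -- Z*: z0 is not isolated
    have hZ : ∃ y : P, y ≠ z0 ∧ Rel z0 y := by
      by_contra hcon
      push Not at hcon
      have hiso : ∀ g : G, g * ι z0 * g⁻¹ ∈ S → g * ι z0 * g⁻¹ = ι z0 := by
        intro g hg
        obtain ⟨y, hy⟩ := ι_surj _ hg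
        by_cases hyz : y = z0
        · rw [← hy, hyz]
        · exact absurd ⟨g, hy.symm⟩ (hcon y hyz)
      have hI := Cfsg.Agent.Lib.Helper2.ZS.isolated_of_sylow S (ι z0) (ι_ord z0 hzz hz1)
        (ι_mem z0) hiso
      have hcore : Cfsg.oddCore G = ⊥ := by
        have hn := Cfsg.Agent.Lib.Helper1.pPrimeCore_normal (G := G) 2
        rcases hn.eq_bot_or_eq_top with h | h
        · exact h
        · exfalso
          have hcop := Cfsg.Agent.Lib.Helper1.pPrimeCore_card_coprime (G := G) 2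
          rw [h, Subgroup.card_top] at hcop
          have h2 : 2 ∣ Nat.card G := by
            rw [← ι_ord z0 hzz hz1]; exact orderOf_dvd_natCard _
          have h3 := Nat.dvd_gcd h2 (dvd_refl 2)
          rw [Nat.Coprime.gcd_eq_one hcop] at h3
          omega
      have hzc : ι z0 ∈ Subgroup.center G := by
        rw [Subgroup.mem_center_iff]
        intro g
        have h := Cfsg.Agent.Lib.Helper2.ZS.zstar (ι z0) hI g
        rw [hcore, Subgroup.mem_bot] at h
        exact (mul_inv_eq_iff_eq_mul.mp (mul_inv_eq_one.mp h)).symm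
      have hct : Subgroup.center G = ⊤ := by
        rcases (inferInstance : (Subgroup.center G).Normal).eq_bot_or_eq_top with h | h
        · rw [h, Subgroup.mem_bot] at hzc
          exact absurd hzc (ι_ne_one z0 hz1)
        · exact h
      apply hG
      rw [isMulCommutative_iff]
      intro a b
      have ha : a ∈ Subgroup.center G := by rw [hct]; trivial
      exact (Subgroup.mem_center_iff.mp ha b).symm
    obtain ⟨y, hyz, hzy⟩ := hZ
    have hZr : Rel z0 s0 ∨ Rel z0 t0 ∨ Rel z0 us0 ∨ Rel z0 ut0 := by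
      rcases inv_cases2 y (Rel_sq _ _ hzy hzz) (Rel_ne _ _ hzy hz1) with
        h | h | h | ⟨p, h⟩ | ⟨p, h⟩ | ⟨p, h⟩ | ⟨p, h⟩
      · exact absurd h hyz
      · exact absurd (h ▸ hzy) hZU
      · exact absurd (h ▸ hzy) hZV
      · exact Or.inl (Rel_trans _ _ _ hzy (h ▸ Rel_conj y p))
      · exact Or.inr (Or.inl (Rel_trans _ _ _ hzy (h ▸ Rel_conj y p)))
      · exact Or.inr (Or.inr (Or.inl (Rel_trans _ _ _ hzy (h ▸ Rel_conj y p))))
      · exact Or.inr (Or.inr (Or.inr (Rel_trans _ _ _ hzy (h ▸ Rel_conj y p))))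
    have hdisj : ∀ c d r : P, ¬ Rel c d → Rel c r → Rel d r → False :=
      fun c d r h h1 h2 => h (Rel_trans _ _ _ h1 (Rel_symm _ _ h2))
    have d1 := hdisj u0 (u0 * z0) s0 hUV
    have d2 := hdisj u0 (u0 * z0) t0 hUV
    have d3 := hdisj u0 (u0 * z0) us0 hUV
    have d4 := hdisj u0 (u0 * z0) ut0 hUV
    have d5 := hdisj u0 z0 s0 hUZ
    have d6 := hdisj u0 z0 t0 hUZ
    have d7 := hdisj u0 z0 us0 hUZ
    have d8 := hdisj u0 z0 ut0 hUZ
    have d9 := hdisj (u0 * z0) z0 s0 hVZ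
    have d10 := hdisj (u0 * z0) z0 t0 hVZ
    have d11 := hdisj (u0 * z0) z0 us0 hVZ
    have d12 := hdisj (u0 * z0) z0 ut0 hVZ
    exact final_prop hU hV hZr d1 d2 d3 d4 d5 d6 d7 d8 d9 d10 d11 d12

end Cfsg.Agent.S3309
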