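import Cfsg.Statements.S3333
import Cfsg.Agent.Lib.Helper6.TdK
import Cfsg.Agent.Lib.Helper6.TdL
import Cfsg.Agent.Lib.Helper5.TdLoc
import Cfsg.Agent.Lib.Helper5.TdQuot
import Cfsg.Agent.Lib.Helper7.S6locB
import Cfsg.Agent.Lib.Helper6.BlkVanish

set_option autoImplicit false
open Cfsg

namespace Cfsg.Agent.S3333

/-- Let G be a finite group with a Sylow 3-subgroup S of order 9 that is its own centralizer, with N_G(S)/S dihedral of order 8, and such that C_G(x) ≤ N_G(S) for every non-identity x in S. Then S is normal in G or G is isomorphic to the symmetric group of degree 6. -/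
theorem result {G : Type*} [Group G] [Finite G]
    (P : Sylow 3 G) (S : Subgroup G) (hSP : S = P) (hcard : Nat.card S = 9)
    (hC : Subgroup.centralizer (S : Set G) = S)
    (eN : Subgroup.normalizer (S : Set G) ⧸ S.subgroupOf (Subgroup.normalizer (S : Set G)) ≃* DihedralGroup 4)
    (hcent : ∀ x ∈ S, x ≠ 1 → Subgroup.centralizer ({x} : Set G) ≤ Subgroup.normalizer (S : Set G)) :
    S.Normal ∨ Nonempty (G ≃* Equiv.Perm (Fin 6)) := by
  classical
  subst hSP
  haveI : Fintype G := Fintype.ofFinite G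
  haveI : Fintype (Cfsg.IrrCharacter G) := Fintype.ofFinite _
  haveI : Fact (Nat.Prime 3) := ⟨Nat.prime_three⟩
  obtain ⟨I, hI⟩ := Cfsg.Agent.Lib.Helper6.exists_isPModular 3
  obtain ⟨hexp, hS⟩ := Cfsg.Agent.Lib.Helper5.TdQuot.exp_and_sylow_of_quot P hcard hC eN
  obtain ⟨a, b, t₁, t₂, w, L⟩ := Cfsg.Agent.Lib.Helper5.TdLoc.exists_loc_d8 P hcard hexp hC hS
  have hcomm : ∀ x ∈ (P : Subgroup G), ∀ y ∈ (P : Subgroup G), x * y = y * x :=
    Cfsg.Agent.Lib.Helper7.Ix13B3.comm_of_card (P : Subgroup G) hcard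
  have hcases := Cfsg.Agent.Lib.Helper6.Td.card_cases hI hcomm hexp hcent hC.le hcard L
  rcases hcases with h | ⟨h, χ, hd, hχa, hχat, hχc, hχcw, hre⟩
  · left
    rw [← Subgroup.normalizer_eq_top_iff]
    apply Subgroup.eq_top_of_card_eq
    rw [L.hcardN, h]
  · right
    have hχc' := Cfsg.Agent.Lib.Helper6.IsIrrCharacter.isCharacter χ.2
    have h1 : (χ : G → ℂ) 1 = 1 := by
      rw [Cfsg.Agent.Lib.Helper6.IsCharacter.apply_one_eq_charDegree hχc', hd]; simp
    have hmul := Cfsg.Agent.Lib.Helper6.IsCharacter.mul_of_apply_one_eq_one hχc' h1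
    have ht₁ : (χ : G → ℂ) t₁ = -1 := by
      have := hmul a t₁
      rw [hχat, hχa, one_mul] at this
      exact this.symm
    have hw : (χ : G → ℂ) w = -1 := by
      have := hmul (a * b) w
      rw [hχcw, hχc, one_mul] at this
      exact this.symm
    obtain ⟨K, hKn, hK2, hKmem⟩ :=
      Cfsg.Agent.Lib.Helper6.Td.exists_index_two_of_linear χ hd hre t₁ ht₁
    haveI := hKn
    have h1K : t₁ ∉ K := by
      rw [hKmem, ht₁]; norm_num
    have hwK : w ∉ K := by
      rw [hKmem, hw]; norm_num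
    exact Cfsg.Agent.Lib.Helper7.S6loc.s6_of_loc hcomm hexp hcent hC.le hcard L h K hK2 h1K hwK


end Cfsg.Agent.S3333
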