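import Cfsg.Statements.S3349
import Mathlib

set_option autoImplicit false
open Cfsg
open scoped commutatorElement

namespace Cfsg.Agent.S3349

/-- Let Q be a finite extraspecial p-group and α an automorphism of Q fixing every element of some maximal abelian subgroup of Q. Then the order of α is a power of p. -/
theorem result {Q : Type*} [Group Q] [Finite Q]
    (p : ℕ) [Fact p.Prime] (hQ : Cfsg.IsExtraspecial p Q) (α : MulAut Q)
    (A : Subgroup Q) (hA : IsMulCommutative A) (hmax : ∀ B : Subgroup Q, A ≤ B → IsMulCommutative B → B = A)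
    (hfix : ∀ a ∈ A, α a = a) :
    ∃ k : ℕ, orderOf α = p ^ k := by
  classical
  obtain ⟨⟨hp, -, hcomm⟩, -⟩ := hQ
  have hAcomm : ∀ a ∈ A, ∀ b ∈ A, a * b = b * a := by
    intro a ha b hb
    have := hA.is_comm.comm (⟨a, ha⟩ : A) ⟨b, hb⟩
    exact congrArg Subtype.val this
  -- centralizer of A is contained in A
  have hcent : ∀ x : Q, (∀ a ∈ A, a * x = x * a) → x ∈ A := by
    intro x hx
    have hB : IsMulCommutative (Subgroup.closure ((A : Set Q) ∪ {x})) := by
      apply Subgroup.isMulCommutative_closure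
      intro a ha b hb
      rcases ha with ha | ha <;> rcases hb with hb | hb
      · exact hAcomm a ha b hb
      · rw [Set.mem_singleton_iff] at hb; subst hb; exact hx a ha
      · rw [Set.mem_singleton_iff] at ha; subst ha; exact (hx b hb).symm
      · rw [Set.mem_singleton_iff] at ha hb; subst ha; subst hb; rfl
    have hle : A ≤ Subgroup.closure ((A : Set Q) ∪ {x}) := by
      intro a ha
      exact Subgroup.subset_closure (Or.inl ha)
    have := hmax _ hle hB
    rw [← this]
    exact Subgroup.subset_closure (Or.inr rfl)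
  -- the center is contained in A
  have hZ : Subgroup.center Q ≤ A := by
    intro z hz
    apply hcent
    intro a _
    exact (Subgroup.mem_center_iff.1 hz a)
  -- A is normal
  have hnorm : ∀ x : Q, ∀ a ∈ A, x * a * x⁻¹ ∈ A := by
    intro x a ha
    have h1 : ⁅x, a⁆ ∈ commutator Q := by
      rw [commutator_def]
      exact Subgroup.commutator_mem_commutator (Subgroup.mem_top x) (Subgroup.mem_top a)
    rw [hcomm] at h1
    have h2 : x * a * x⁻¹ = ⁅x, a⁆ * a := by
      rw [commutatorElement_def]; group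
    rw [h2]
    exact A.mul_mem (hZ h1) ha
  -- x⁻¹ α(x) ∈ A
  have hdiff : ∀ x : Q, x⁻¹ * α x ∈ A := by
    intro x
    apply hcent
    intro a ha
    -- α (x a x⁻¹) = x a x⁻¹
    have h1 := hfix _ (hnorm x a ha)
    rw [map_mul, map_mul, map_inv, hfix a ha] at h1
    -- α x * a * (α x)⁻¹ = x * a * x⁻¹
    have h2 : a * (x⁻¹ * α x) = x⁻¹ * (x * a * x⁻¹) * α x := by group
    rw [h2, ← h1]; group
  -- iterate
  have hiter : ∀ (k : ℕ) (x : Q), (α ^ k) x = x * (x⁻¹ * α x) ^ k := by
    intro k
    induction k with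
    | zero => intro x; simp
    | succ k ih =>
      intro x
      rw [pow_succ', MulAut.mul_apply, ih x, map_mul, map_pow, hfix _ (hdiff x), pow_succ']
      simp only [mul_assoc, mul_inv_cancel_left]
  have hpow : α ^ (Nat.card Q) = 1 := by
    ext x
    rw [hiter, MulAut.one_apply, pow_card_eq_one', mul_one]
  obtain ⟨n, hn⟩ := IsPGroup.iff_card.1 hp
  rw [hn] at hpow
  have hdvd := orderOf_dvd_of_pow_eq_one hpow
  obtain ⟨k, -, hk⟩ := (Nat.dvd_prime_pow (Fact.out : p.Prime)).1 hdvd
  exact ⟨k, hk⟩

end Cfsg.Agent.S3349
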