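import Cfsg.Statements.S3366
import Cfsg.Agent.Lib.Helper4.Ps7
import Cfsg.Agent.Lib.Helper4.Ps9

set_option autoImplicit false
open Cfsg

namespace Cfsg.Agent.S3366

/-- Let X be a finite group with O₃(X) extraspecial of order 27 and exponent 3, X/O₃(X) isomorphic to SL(2,3), O₂(X) = 1, and a Sylow 3-subgroup of X containing an elementary abelian subgroup of order 27. Then X is isomorphic to the centralizer in PSp(4,3) of a 3-central element of order 3 (an element of order 3 in the centre of a Sylow 3-subgroup). -/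
theorem result {X : Type*} [Group X] [Finite X]
    (hR : Cfsg.IsExtraspecial 3 (Cfsg.pCore 3 X)) (hRcard : Nat.card (Cfsg.pCore 3 X) = 27)
    (hRexp : ∀ r ∈ Cfsg.pCore 3 X, r ^ 3 = 1)
    (e : X ⧸ Cfsg.pCore 3 X ≃* Matrix.SpecialLinearGroup (Fin 2) (ZMod 3))
    (hO2 : Cfsg.pCore 2 X = ⊥)
    (hE : ∃ E : Subgroup X, IsMulCommutative E ∧ (∀ a ∈ E, a ^ 3 = 1) ∧ Nat.card E = 27)
    (F : Type*) [Field F] [Fintype F] (hF : Fintype.card F = 3) :
    ∃ (c : Cfsg.PSp 2 F) (S : Sylow 3 (Cfsg.PSp 2 F)), orderOf c = 3 ∧ c ∈ (S : Subgroup (Cfsg.PSp 2 F)) ∧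
      c ∈ Subgroup.centralizer ((S : Subgroup (Cfsg.PSp 2 F)) : Set (Cfsg.PSp 2 F)) ∧
      Nonempty (X ≃* Subgroup.centralizer ({c} : Set (Cfsg.PSp 2 F))) := by
  classical
  have : Fact (Nat.Prime 3) := ⟨Nat.prime_three⟩
  obtain ⟨c, S, h1, h2, h3, ⟨e₂⟩⟩ := Cfsg.Agent.Lib.Helper4.Ps.concreteF F hF
  have hdat : ∃ z : ↥(Cfsg.pCore 3 X), Cfsg.Agent.Lib.Helper1.ES.Data 3 z :=
    Cfsg.Agent.Lib.Helper1.ES.data_of_extraspecial hR
  have hexp : ∀ r : ↥(Cfsg.pCore 3 X), r ^ 3 = 1 := by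
    intro r
    apply Subtype.ext
    rw [Subgroup.coe_pow]
    exact hRexp r.1 r.2
  let pe : X →* Cfsg.Agent.Lib.Helper4.Ps.SL23 :=
    e.toMonoidHom.comp (QuotientGroup.mk' (Cfsg.pCore 3 X))
  have hsurj : Function.Surjective pe :=
    e.surjective.comp (QuotientGroup.mk'_surjective _)
  have hker : ∀ x, pe x = 1 ↔ x ∈ Cfsg.pCore 3 X := by
    intro x
    show e (QuotientGroup.mk x) = 1 ↔ _
    rw [MulEquiv.map_eq_one_iff, QuotientGroup.eq_one_iff]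
  have hO2' : ∀ N : Subgroup X, N.Normal → IsPGroup 2 N → N = ⊥ := by
    intro N hN hP
    have hle : N ≤ Cfsg.pCore 2 X := le_sSup ⟨hN, hP⟩
    rw [hO2] at hle
    exact le_bot_iff.mp hle
  obtain ⟨e₁⟩ := Cfsg.Agent.Lib.Helper4.Ps.abstract_iso (Cfsg.pCore 3 X) hdat hexp hRcard pe hsurj
    hker hO2' hE
  exact ⟨c, S, h1, h2, h3, ⟨e₁.trans e₂⟩⟩

end Cfsg.Agent.S3366
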