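import Cfsg.Statements.S3371
import Cfsg.Agent.Lib.Lead.Imp3
import Cfsg.Agent.Lib.Helper7.HalfTrA
import Cfsg.Agent.Lib.Helper7.HalfTrF
import Cfsg.Agent.Lib.Helper7.HalfTrX
import Cfsg.Agent.Lib.Helper7.HalfTrG
import Cfsg.Agent.Lib.Helper2.HalfTrB
import Cfsg.Agent.Lib.Helper2.HalfTrE
import Cfsg.Agent.Lib.Helper1.HalfTrD2
import Cfsg.Agent.Lib.Helper5.HalfTrD1

set_option autoImplicit false
open Cfsg

namespace Cfsg.Agent.S3371

open Cfsg.Agent.Lib.Lead.PTrans (stab mem_stab)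
open Cfsg.Agent.Lib.Helper7.HalfTr

theorem result (q : ℕ) [Fact q.Prime] {V : Type*} [AddCommGroup V] [Module (ZMod q) V] [Finite V] [Nontrivial V]
    {G : Type*} [Group G] [Finite G] (p : ℕ) [Fact p.Prime] (hG : IsPGroup p G)
    (ρ : G →* (V ≃ₗ[ZMod q] V)) (hρ : Function.Injective ρ)
    (hhalf : ∀ v w : V, v ≠ 0 → w ≠ 0 → Nat.card {u : V | ∃ g : G, ρ g v = u} = Nat.card {u : V | ∃ g : G, ρ g w = u}) :
    ((IsCyclic G ∨ ∃ n : ℕ, Nonempty (G ≃* QuaternionGroup n)) ∧ ∀ v : V, v ≠ 0 → ∀ g : G, ρ g v = v → g = 1) ∨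
    (Nat.card V = q ^ 2 ∧ ∃ m : ℕ, q = 2 ^ m - 1 ∧
      (Nonempty (G ≃* DihedralGroup (2 ^ m)) ∨ (Cfsg.IsQuasiDihedral G ∧ Nat.card G = 2 ^ (m + 2)))) ∨
    (Nat.card V = q ^ 2 ∧ (∃ m : ℕ, q = 2 ^ m + 1) ∧
      ∃ e : V ≃ₗ[ZMod q] (Fin 2 → ZMod q), ∀ f : (Fin 2 → ZMod q) ≃ₗ[ZMod q] (Fin 2 → ZMod q),
        (∃ g : G, f = e.symm.trans ((ρ g).trans e)) ↔
        ∃ a s : ZMod q, a ≠ 0 ∧ (s = 1 ∨ s = -1) ∧
          ((∀ v, f v = ![a * v 0, s * a⁻¹ * v 1]) ∨ (∀ v, f v = ![s * a⁻¹ * v 1, a * v 0]))) ∨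
    (Nat.card V = 81 ∧ q = 3 ∧ p = 2) := by
  have hq := (Fact.out : q.Prime)
  obtain ⟨s, hs⟩ := exists_stab_card ρ hhalf
  by_cases hqp : q = p
  · left
    have htriv := trivial_of_eq p hG hqp ρ hρ s hs
    have hsub : Subsingleton G := ⟨fun a b => (htriv a).trans (htriv b).symm⟩
    exact ⟨Or.inl isCyclic_of_subsingleton, fun v _ g _ => htriv g⟩
  by_cases hs1 : s = 1
  · left
    have hsr : ∀ v : V, v ≠ 0 → ∀ g : G, ρ g v = v → g = 1 := by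
      intro v hv g hg
      have h1 := hs v hv
      rw [hs1, Subgroup.card_eq_one] at h1
      have hg' : g ∈ stab ρ v := hg
      rw [h1] at hg'
      exact Subgroup.mem_bot.1 hg'
    exact ⟨cyclic_or_quaternion_of_semiregular p hG hqp ρ hsr, hsr⟩
  have hirr := Cfsg.Agent.Lib.Helper2.HalfTr.irreducible_of_not_semiregular p hG hqp ρ hρ s hs hs1
  by_cases hd : ∃ n, Nonempty (G ≃* DihedralGroup n)
  · obtain ⟨n, hn⟩ := hd
    obtain ⟨hV, m, hm, hGm⟩ := Cfsg.Agent.Lib.Helper5.HalfTr.alt2_of_dihedral p hG ρ hρ hirr s hs hs1 n hn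
    exact Or.inr (Or.inl ⟨hV, m, hm, Or.inl hGm⟩)
  by_cases hqd : Cfsg.IsQuasiDihedral G
  · obtain ⟨hV, m, hm, hGm⟩ := Cfsg.Agent.Lib.Helper1.HalfTr.alt2_of_quasiDihedral ρ hρ hirr s hs hs1 hqd
    exact Or.inr (Or.inl ⟨hV, m, hm, Or.inr ⟨hqd, hGm⟩⟩)
  have hnc := not_isCyclic p hG ρ hρ hirr s hs hs1
  have hnq := not_quaternion p hG ρ hρ hirr s hs hs1
  have hd' : ∀ n : ℕ, ¬ Nonempty (G ≃* DihedralGroup n) := fun n hn => hd ⟨n, hn⟩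
  obtain ⟨H, W, hHi, hsup, hind, hH, hK, hσ⟩ :=
    Cfsg.Agent.Lib.Lead.Imp.main ρ p hG hρ hirr hnc hnq hd' hqd
  have hp2 := Cfsg.Agent.Lib.Helper2.HalfTr.p_eq_two_of_imprimitive p ρ hρ s hs H W hHi hsup hind hH hK hσ
  subst hp2
  have hq2 : q ≠ 2 := hqp
  have hS := swap_of_imprimitive ρ H W hHi hsup hind hH hK hσ
  obtain ⟨hs2, ht, ⟨e, he⟩, hV⟩ := swap_analysis ρ hρ hG hq2 s hs H (W 0) (W 1) hS
  subst hs2
  have hcW : Nat.card (W 0) = q ^ Module.finrank (ZMod q) (W 0) := by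
    rw [Module.natCard_eq_pow_finrank (K := ZMod q), Nat.card_zmod]
  have hW0 : 1 < Nat.card (W 0) := by
    rw [Finite.one_lt_card_iff_nontrivial, Submodule.nontrivial_iff_ne_bot]
    exact Swap.W0_ne_bot hS hρ
  have hd1 : 1 ≤ Module.finrank (ZMod q) (W 0) := by
    by_contra h
    have h0 : Module.finrank (ZMod q) (W 0) = 0 := by omega
    rw [hcW, h0, pow_zero] at hW0
    omega
  have he1 : 1 ≤ e := by
    by_contra h
    have h0 : e = 0 := by omega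
    rw [h0, pow_zero, hcW] at he
    have h2 : q ∣ 2 := by
      rw [show (2 : ℕ) = 1 + 1 from rfl, ← he]
      exact dvd_pow_self q (by omega)
    exact hq2 ((Nat.prime_dvd_prime_iff_eq hq Nat.prime_two).1 h2)
  rcases Cfsg.Agent.Lib.Lead.PTrans.nt hq Nat.prime_two hd1 he1 (hcW.symm.trans he) with
    ⟨h2, _⟩ | ⟨_, hd1'⟩ | ⟨_, hq3, hd2⟩
  · exact absurd h2 hq2
  · right; right; left
    refine ⟨by rw [hV, hcW, hd1', pow_one], ⟨e, by rw [← he, hcW, hd1', pow_one]⟩, ?_⟩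
    exact explicit_form ρ hρ H (W 0) (W 1) hS hs hd1' ht
  · right; right; right
    refine ⟨?_, hq3, rfl⟩
    rw [hV, hcW, hd2, hq3]
    norm_num

end Cfsg.Agent.S3371
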