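import Mathlib
import Cfsg.Statements.S3374
import Cfsg.Agent.Lib.Lead.SL25

set_option autoImplicit false

open Cfsg

namespace Cfsg.Agent.S3374

theorem result :
    ∃ (L : Type) (_ : Group L) (_ : Finite L) (H : Subgroup L),
      Cfsg.IsFrobeniusComplement H ∧ Nonempty (H ≃* Matrix.SpecialLinearGroup (Fin 2) (ZMod 5)) := by
  exact Cfsg.Agent.Lib.Lead.SL25.main

end Cfsg.Agent.S3374
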