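import Cfsg.Statements.S3389
import Mathlib

set_option autoImplicit false
set_option linter.style.haveILetI false
open Cfsg

namespace Cfsg.Agent.S3389

open MulAction

/-- A free action of a finite group on a finite set: the group order divides the set size. -/
theorem card_dvd_of_free {Z X : Type*} [Group Z] [Finite Z] [MulAction Z X] [Finite X]
    (hfree : ∀ x : X, stabilizer Z x = ⊥) : Nat.card Z ∣ Nat.card X := by
  classical
  haveI : Fintype (orbitRel.Quotient Z X) := Fintype.ofFinite _
  have h1 : Nat.card X = ∑ q : orbitRel.Quotient Z X, Nat.card q.orbit := by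
    rw [Nat.card_congr (selfEquivSigmaOrbits' Z X), Nat.card_sigma]
  rw [h1]
  apply Finset.dvd_sum
  intro q _
  induction q using Quotient.inductionOn' with
  | _ x =>
    rw [orbitRel.Quotient.orbit_mk, Nat.card_coe_set_eq, ← index_stabilizer, hfree x,
      Subgroup.index_bot]

/-- A `p`-subgroup preserving a set with fewer than `p` elements fixes it pointwise. -/
theorem fix_of_small {G Ω : Type*} [Group G] [MulAction G Ω] {p : ℕ} [Fact p.Prime]
    (Q : Subgroup G) (hQ : IsPGroup p Q) (S : Set Ω) (hSfin : S.Finite) (hS : S.ncard < p)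
    (hinv : ∀ q ∈ Q, ∀ s ∈ S, q • s ∈ S) (ω : Ω) (hω : ω ∈ S) : ∀ q ∈ Q, q • ω = ω := by
  have hsub : orbit Q ω ⊆ S := by
    rintro _ ⟨q, rfl⟩
    exact hinv q.1 q.2 ω hω
  haveI : Finite (orbit Q ω) := (hSfin.subset hsub).to_subtype
  obtain ⟨n, hn⟩ := hQ.card_orbit ω
  have hle : Nat.card (orbit Q ω) ≤ S.ncard := by
    rw [Nat.card_coe_set_eq]
    exact Set.ncard_le_ncard hsub hSfin
  have hn0 : n = 0 := by
    by_contra h
    have : p ≤ p ^ n := Nat.le_self_pow h p
    omega
  rw [hn0, pow_zero] at hn
  intro q hq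
  have h1 := (Nat.card_eq_one_iff_unique.1 hn).1
  have h2 : (⟨q • ω, ⟨⟨q, hq⟩, rfl⟩⟩ : orbit Q ω) = ⟨ω, mem_orbit_self ω⟩ := Subsingleton.elim _ _
  exact congrArg Subtype.val h2

section
variable {G : Type*} [Group G] [Finite G] {Ω : Type*} [Fintype Ω] [MulAction G Ω]

/-- Key step: if `x` of prime order `p` fixes `α`, nonidentity elements fix at most `k < p`
points, and `Q` is a Sylow `p`-subgroup containing `x`, then `Q` fixes every fixed point of `x`. -/
theorem sylow_fixes (k : ℕ) (hfix : ∀ g : G, g ≠ 1 → Nat.card (fixedBy Ω g) ≤ k)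
    (p : ℕ) [Fact p.Prime] (hkp : k < p) (x : G) (hx : orderOf x = p) (Q : Sylow p G)
    (hxQ : x ∈ (Q : Subgroup G)) (α : Ω) (hα : x • α = α) : ∀ q ∈ (Q : Subgroup G), q • α = α := by
  classical
  have hp : p.Prime := Fact.out
  have hx1 : x ≠ 1 := by
    rintro rfl
    rw [orderOf_one] at hx
    exact hp.one_lt.ne hx
  -- an element z of order p in the centre of Q
  haveI : Nontrivial (Q : Subgroup G) := ⟨⟨⟨x, hxQ⟩, 1, fun h => hx1 (congrArg Subtype.val h)⟩⟩
  have hcen : p ∣ Nat.card (Subgroup.center (Q : Subgroup G)) := by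
    haveI := IsPGroup.center_nontrivial Q.2
    obtain ⟨n, hn⟩ := IsPGroup.iff_card.1 (Q.2.to_subgroup (Subgroup.center (Q : Subgroup G)))
    rw [hn]
    have hn0 : n ≠ 0 := by
      rintro rfl
      rw [pow_zero] at hn
      have := Finite.one_lt_card (α := Subgroup.center (Q : Subgroup G))
      omega
    exact dvd_pow_self _ hn0
  obtain ⟨z, hz⟩ := exists_prime_orderOf_dvd_card' (G := Subgroup.center (Q : Subgroup G)) p hcen
  set z' : G := ((z : (Q : Subgroup G)) : G) with hz'
  have hz'Q : z' ∈ (Q : Subgroup G) := (z : (Q : Subgroup G)).2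
  have hzord : orderOf z' = p := by
    rw [hz', Subgroup.orderOf_coe, Subgroup.orderOf_coe]; exact hz
  have hz1 : z' ≠ 1 := by
    intro h
    rw [h, orderOf_one] at hzord
    exact hp.one_lt.ne hzord
  have hzcomm : ∀ q ∈ (Q : Subgroup G), q * z' = z' * q := by
    intro q hq
    have := (Subgroup.mem_center_iff.1 z.2) ⟨q, hq⟩
    exact congrArg Subtype.val this
  -- z' fixes α
  have hzα : z' • α = α := by
    have hpg : IsPGroup p (Subgroup.zpowers z') := by
      apply IsPGroup.of_card (n := 1)
      rw [Nat.card_zpowers, hzord, pow_one]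
    apply fix_of_small (Subgroup.zpowers z') hpg (fixedBy Ω x) (Set.toFinite _)
      (by
        have := hfix x hx1
        rw [Nat.card_coe_set_eq] at this
        omega) _ α hα z' (Subgroup.mem_zpowers z')
    intro q hq s hs
    rw [Subgroup.mem_zpowers_iff] at hq
    obtain ⟨i, rfl⟩ := hq
    rw [mem_fixedBy] at hs ⊢
    have hc : x * z' ^ i = z' ^ i * x := by
      have : Commute x z' := hzcomm x hxQ
      exact (this.zpow_right i).eq
    rw [← mul_smul, hc, mul_smul, hs]
  -- Q fixes α
  apply fix_of_small (Q : Subgroup G) Q.2 (fixedBy Ω z') (Set.toFinite _)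
    (by
      have := hfix z' hz1
      rw [Nat.card_coe_set_eq] at this
      omega) _ α hzα
  intro q hq s hs
  rw [mem_fixedBy] at hs ⊢
  rw [← mul_smul, ← hzcomm q hq, mul_smul, hs]

end

/-- Let G be a finite group acting faithfully and transitively on a finite set Ω with fixity k ≥ 1: every non-identity element fixes at most k points and some non-identity element fixes exactly k points. Then |Z(G)| divides k; if k = 2 then |G| is even; and for every prime p > k dividing |G| and every point α, either p does not divide |G_α| or G_α contains a Sylow p-subgroup of G. -/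
theorem result {G : Type*} [Group G] [Finite G] {Ω : Type*} [Fintype Ω] [MulAction G Ω] [FaithfulSMul G Ω]
    (htr : MulAction.IsPretransitive G Ω) (k : ℕ) (hk : 1 ≤ k)
    (hfix : ∀ g : G, g ≠ 1 → Nat.card (MulAction.fixedBy Ω g) ≤ k) (hex : ∃ g : G, g ≠ 1 ∧ Nat.card (MulAction.fixedBy Ω g) = k) :
    Nat.card (Subgroup.center G) ∣ k ∧ (k = 2 → 2 ∣ Nat.card G) ∧
      ∀ (p : ℕ), p.Prime → k < p → p ∣ Nat.card G → ∀ α : Ω,
        ¬ p ∣ Nat.card (MulAction.stabilizer G α) ∨ ¬ p ∣ (MulAction.stabilizer G α).index := by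
  classical
  -- part 3 as a lemma
  have part3 : ∀ (p : ℕ), p.Prime → k < p → ∀ α : Ω, p ∣ Nat.card (stabilizer G α) →
      ∃ Q : Sylow p G, (Q : Subgroup G) ≤ stabilizer G α := by
    intro p hp hkp α hdvd
    haveI : Fact p.Prime := ⟨hp⟩
    obtain ⟨x, hx⟩ := exists_prime_orderOf_dvd_card' (G := stabilizer G α) p hdvd
    have hxord : orderOf (x : G) = p := by rw [Subgroup.orderOf_coe]; exact hx
    have hpg : IsPGroup p (Subgroup.zpowers (x : G)) := by
      apply IsPGroup.of_card (n := 1)
      rw [Nat.card_zpowers, hxord, pow_one]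
    obtain ⟨Q, hQ⟩ := hpg.exists_le_sylow
    refine ⟨Q, fun q hq => ?_⟩
    exact sylow_fixes k hfix p hkp x hxord Q (hQ (Subgroup.mem_zpowers _)) α x.2 q hq
  refine ⟨?_, ?_, ?_⟩
  · -- part 1
    obtain ⟨g, hg1, hgk⟩ := hex
    let T : SubMulAction (Subgroup.center G) Ω :=
      { carrier := fixedBy Ω g
        smul_mem' := by
          intro z s hs
          rw [mem_fixedBy] at hs ⊢
          have hz : g * (z : G) = (z : G) * g := (Subgroup.mem_center_iff.1 z.2 g)
          show g • ((z : G) • s) = (z : G) • s
          rw [← mul_smul, hz, mul_smul, hs] }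
    have hcard : Nat.card T = k := hgk
    rw [← hcard]
    apply card_dvd_of_free
    intro s
    rw [Subgroup.eq_bot_iff_forall]
    intro z hz
    apply Subtype.ext
    apply FaithfulSMul.eq_of_smul_eq_smul (α := Ω)
    intro ω
    obtain ⟨h, rfl⟩ := exists_smul_eq G (s : Ω) ω
    have hzs : (z : G) • (s : Ω) = s := by
      have := congrArg Subtype.val (mem_stabilizer_iff.1 hz)
      exact this
    have hc : h * (z : G) = (z : G) * h := (Subgroup.mem_center_iff.1 z.2 h)
    rw [Subgroup.coe_one, one_smul, ← mul_smul, ← hc, mul_smul, hzs]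
  · -- part 2
    intro hk2
    subst hk2
    by_contra hodd
    obtain ⟨g, hg1, hg2⟩ := hex
    -- replace g by an element x of prime order
    have hog : orderOf g ≠ 1 := fun h => hg1 (orderOf_eq_one_iff.1 h)
    obtain ⟨p, hp, hpg⟩ := Nat.exists_prime_and_dvd hog
    haveI : Fact p.Prime := ⟨hp⟩
    obtain ⟨m, hm⟩ := hpg
    have hmpos : 0 < m := by
      rcases Nat.eq_zero_or_pos m with h0 | h0
      · rw [h0, mul_zero] at hm
        exact absurd hm (orderOf_pos g).ne'
      · exact h0
    set x := g ^ m with hx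
    have hxord : orderOf x = p := by
      rw [hx, orderOf_pow_of_dvd hmpos.ne' ⟨p, by rw [hm, mul_comm]⟩, hm]
      exact Nat.mul_div_cancel _ hmpos
    have hx1 : x ≠ 1 := by
      intro h
      rw [h, orderOf_one] at hxord
      exact hp.one_lt.ne hxord
    have hp2 : 2 < p := by
      have hp_dvd : p ∣ Nat.card G := by
        rw [← hxord]; exact orderOf_dvd_natCard x
      rcases hp.eq_two_or_odd' with h2 | h2
      · exfalso; apply hodd; rw [← h2]; exact hp_dvd
      · have := hp.two_le
        rcases Nat.lt_or_ge 2 p with h | h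
        · exact h
        · exfalso
          have : p = 2 := by omega
          rw [this] at h2
          exact absurd h2 (by decide)
    have hfixsub : fixedBy Ω g ⊆ fixedBy Ω x := by
      intro s hs
      rw [mem_fixedBy] at hs ⊢
      have : g ∈ stabilizer G s := hs
      exact (stabilizer G s).pow_mem this m
    have hfixeq : fixedBy Ω x = fixedBy Ω g := by
      symm
      apply Set.eq_of_subset_of_ncard_le hfixsub _ (Set.toFinite _)
      have := hfix x hx1
      rw [Nat.card_coe_set_eq] at this hg2
      omega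
    -- two fixed points
    have hcard2 : (fixedBy Ω x).ncard = 2 := by
      rw [hfixeq, ← Nat.card_coe_set_eq]; exact hg2
    obtain ⟨α, β, hαβ, hset⟩ := Set.ncard_eq_two.1 hcard2
    have hαx : x • α = α := by
      have : α ∈ fixedBy Ω x := by rw [hset]; simp
      exact this
    have hβx : x • β = β := by
      have : β ∈ fixedBy Ω x := by rw [hset]; simp
      exact this
    have hpg : IsPGroup p (Subgroup.zpowers x) := by
      apply IsPGroup.of_card (n := 1)
      rw [Nat.card_zpowers, hxord, pow_one]
    obtain ⟨Q, hQ⟩ := hpg.exists_le_sylow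
    have hxQ : x ∈ (Q : Subgroup G) := hQ (Subgroup.mem_zpowers x)
    have hQα := sylow_fixes 2 hfix p hp2 x hxord Q hxQ α hαx
    have hQβ := sylow_fixes 2 hfix p hp2 x hxord Q hxQ β hβx
    -- the fixed points of Q are exactly α, β
    have hQfix : ∀ ω : Ω, (∀ q ∈ (Q : Subgroup G), q • ω = ω) → ω = α ∨ ω = β := by
      intro ω hω
      have : ω ∈ fixedBy Ω x := hω x hxQ
      rw [hset] at this
      simpa using this
    -- conjugate
    obtain ⟨h, hh⟩ := exists_smul_eq G α β
    -- R = h⁻¹ Q h
    have hQle : (Q : Subgroup G) ≤ stabilizer G α := fun q hq => hQα q hq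
    have hRle : ((h⁻¹ • Q : Sylow p G) : Subgroup G) ≤ stabilizer G α := by
      intro r hr
      rw [Sylow.coe_subgroup_smul, Subgroup.mem_pointwise_smul_iff_inv_smul_mem] at hr
      simp only [MulAut.smul_def, map_inv, inv_inv, MulAut.conj_apply] at hr
      -- hr : h * r * h⁻¹ ∈ Q
      have := hQβ _ hr
      rw [mem_stabilizer_iff]
      rw [mul_smul, mul_smul, ← hh] at this
      have h2 : h • r • h⁻¹ • h • α = h • α := this
      rw [inv_smul_smul] at h2
      exact smul_left_cancel h h2
    obtain ⟨c, hc⟩ := exists_smul_eq (stabilizer G α) ((h⁻¹ • Q : Sylow p G).subtype hRle) (Q.subtype hQle)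
    rw [Sylow.smul_subtype] at hc
    have hc' := Sylow.subtype_injective hc
    -- n = c * h⁻¹ normalizes Q
    set n : G := (c : G) * h⁻¹ with hn
    have hnQ : n • Q = Q := by
      rw [hn, mul_smul]; exact hc'
    have hnβ : n • β = α := by
      rw [hn, mul_smul, ← hh, inv_smul_smul]
      exact c.2
    have hnorm : ∀ q ∈ (Q : Subgroup G), n⁻¹ * q * n ∈ (Q : Subgroup G) := by
      intro q hq
      have hmem : q ∈ ((n • Q : Sylow p G) : Subgroup G) := by rw [hnQ]; exact hq
      rw [Sylow.coe_subgroup_smul, Subgroup.mem_pointwise_smul_iff_inv_smul_mem] at hmem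
      simpa [MulAut.smul_def, MulAut.conj_apply] using hmem
    have hnα : n • α = β := by
      have hfixn : ∀ q ∈ (Q : Subgroup G), q • (n • α) = n • α := by
        intro q hq
        have := hQα _ (hnorm q hq)
        calc q • n • α = n • (n⁻¹ * q * n) • α := by simp [mul_smul]
          _ = n • α := by rw [this]
      rcases hQfix _ hfixn with h1 | h1
      · exfalso
        apply hαβ
        have : n • α = n • β := by rw [h1, hnβ]
        exact smul_left_cancel n this
      · exact h1
    -- n has even order
    have hpow : ∀ j : ℕ, (n ^ j) • α = if Even j then α else β := by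
      intro j
      induction j with
      | zero => simp
      | succ j ih =>
        rw [pow_succ', mul_smul, ih]
        by_cases hj : Even j
        · rw [if_pos hj, if_neg (by rw [Nat.even_add_one]; exact not_not.2 hj), hnα]
        · rw [if_neg hj, if_pos (by rw [Nat.even_add_one]; exact hj), hnβ]
    have heven : Even (orderOf n) := by
      by_contra hne
      have := hpow (orderOf n)
      rw [pow_orderOf_eq_one, one_smul, if_neg hne] at this
      exact hαβ this
    apply hodd
    exact dvd_trans (even_iff_two_dvd.1 heven) (orderOf_dvd_natCard n)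
  · -- part 3
    intro p hp hkp _ α
    by_cases hdvd : p ∣ Nat.card (stabilizer G α)
    · right
      haveI : Fact p.Prime := ⟨hp⟩
      obtain ⟨Q, hQ⟩ := part3 p hp hkp α hdvd
      intro h
      exact Q.not_dvd_index (dvd_trans h (Subgroup.index_dvd_of_le hQ))
    · left; exact hdvd

end Cfsg.Agent.S3389
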