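import Cfsg.Statements.S3390
import Cfsg.Agent.Lib.Helper7.Fx2D
import Cfsg.Agent.Lib.Helper7.Fx2E

set_option autoImplicit false
open Cfsg

namespace Cfsg.Agent.S3390

open Cfsg.Agent.Lib.Helper7.Fx2 MulAction

/-- Let G be a finite group acting faithfully and transitively on a finite set Ω with fixity 2 (every non-identity element fixes at most two points, and some fixes exactly two). Let α ∈ Ω and S a Sylow 2-subgroup of G. Then one of the following holds: the stabilizer S_α of α in S is trivial; S is dihedral or semidihedral and either |S_α| = 2 or |S : S_α| = 2; |S| ≥ 4, S has exactly one orbit of size 2 on Ω, every other S-orbit is regular, and G has a normal subgroup of index 2 or of index |S| which is a Frobenius group; or S ≤ G_α. -/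
theorem result {G : Type*} [Group G] [Finite G] {Ω : Type*} [Fintype Ω] [MulAction G Ω] [FaithfulSMul G Ω] (htr : MulAction.IsPretransitive G Ω)
    (hfix : ∀ g : G, g ≠ 1 → Nat.card (MulAction.fixedBy Ω g) ≤ 2) (hex : ∃ g : G, g ≠ 1 ∧ Nat.card (MulAction.fixedBy Ω g) = 2) (α : Ω) (S : Sylow 2 G) :
    (S : Subgroup G) ⊓ MulAction.stabilizer G α = ⊥ ∨
    (((∃ n : ℕ, Nonempty (↥(S : Subgroup G) ≃* DihedralGroup n)) ∨ Cfsg.IsQuasiDihedral ↥(S : Subgroup G)) ∧
       (Nat.card ↥((S : Subgroup G) ⊓ MulAction.stabilizer G α) = 2 ∨ ((S : Subgroup G) ⊓ MulAction.stabilizer G α).relIndex (S : Subgroup G) = 2)) ∨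
    (4 ≤ Nat.card (S : Subgroup G) ∧
       (∃ ω : Ω, Nat.card (MulAction.orbit ↥(S : Subgroup G) ω) = 2 ∧
          ∀ ω' : Ω, ω' ∉ MulAction.orbit ↥(S : Subgroup G) ω → Nat.card (MulAction.orbit ↥(S : Subgroup G) ω') = Nat.card (S : Subgroup G)) ∧
       ∃ N : Subgroup G, N.Normal ∧ (N.index = 2 ∨ N.index = Nat.card (S : Subgroup G)) ∧ (∃ H : Subgroup ↥N, Cfsg.IsFrobeniusComplement H)) ∨
    (S : Subgroup G) ≤ MulAction.stabilizer G α := by
  classical
  have hfix' : Fix2 G Ω := hfix
  have hS2 : IsPGroup 2 (S : Subgroup G) := S.isPGroup'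
  by_cases hT1 : (S : Subgroup G) ⊓ stabilizer G α = ⊥
  · exact Or.inl hT1
  by_cases hTS : (S : Subgroup G) ≤ stabilizer G α
  · exact Or.inr (Or.inr (Or.inr hTS))
  obtain ⟨β, hloc⟩ := exists_loc hfix' (S : Subgroup G) hS2 α hT1 hTS
  by_cases hI : ∃ z0 ∈ (S : Subgroup G) ⊓ stabilizer G α, z0 ≠ 1 ∧
      ∀ s ∈ (S : Subgroup G), s * z0 = z0 * s
  · obtain ⟨z0, hz0, hz01, hz0c⟩ := hI
    have hall := caseI_all hfix' hloc hz0 hz01 hz0c
    by_cases hD : (∃ n : ℕ, Nonempty (↥(S : Subgroup G) ≃* DihedralGroup n)) ∨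
        Cfsg.IsQuasiDihedral ↥(S : Subgroup G)
    · right; left
      exact ⟨hD, Or.inr (relIndex_eq_two hloc hall)⟩
    · right; right; left
      have hsemi := semiregular_of_not_dihedral hfix' hS2 hloc hz0 hz01 hz0c hD
      have hglob : Glob S α β := ⟨hloc, hall, hsemi⟩
      refine ⟨?_, ⟨α, card_orbit_eq_two hloc hall, ?_⟩, ?_⟩
      · have h2 := relIndex_eq_two hloc hall
        have h3 := Subgroup.card_mul_index
          (((S : Subgroup G) ⊓ stabilizer G α).subgroupOf (S : Subgroup G))
        rw [Subgroup.relIndex] at h2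
        rw [h2, Nat.card_congr (Subgroup.subgroupOfEquivOfLe
          (inf_le_left : (S : Subgroup G) ⊓ stabilizer G α ≤ (S : Subgroup G))).toEquiv] at h3
        have h4 := (Subgroup.one_lt_card_iff_ne_bot _).mpr hT1
        omega
      · intro ω' hω'
        have hstab : stabilizer ↥(S : Subgroup G) ω' = ⊥ := by
          rw [eq_bot_iff]
          intro s hs
          rw [Subgroup.mem_bot]
          by_contra hs1
          have hsω : (s : G) • ω' = ω' := by
            have : s • ω' = ω' := hs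
            rwa [Subgroup.smul_def] at this
          have hs1' : (s : G) ≠ 1 := fun h0 => hs1 (Subtype.ext h0)
          rcases hsemi (s : G) s.2 hs1' ω' hsω with rfl | rfl
          · exact hω' (mem_orbit_self _)
          · obtain ⟨s0, hs0, hs0α⟩ := hloc.swap
            exact hω' ⟨⟨s0, hs0⟩, hs0α⟩
        rw [Nat.card_coe_set_eq, ← MulAction.index_stabilizer, hstab, Subgroup.index_bot]
      · haveI := htr
        obtain ⟨N, hNn, hN2, H, hH⟩ := hglob.exists_frobenius hfix'
        exact ⟨N, hNn, Or.inl hN2, H, hH⟩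
  · push Not at hI
    right; left
    have := caseII hfix' hS2 hloc (fun z hz hzc => by
      by_contra h1
      obtain ⟨s, hs, hne⟩ := hI z hz h1
      exact hne (hzc s hs))
    exact ⟨this.1, Or.inl this.2⟩

end Cfsg.Agent.S3390
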