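import Cfsg.Statements.S3406
import Cfsg.Agent.Lib.Helper7.AOTop2
import Cfsg.Agent.Lib.Helper9.AOTopC
import Cfsg.Agent.Lib.Helper9.AOTopD
import Cfsg.Agent.Lib.Helper8.AOH
import Cfsg.Agent.Lib.Helper1.AOTwoP
import Cfsg.Agent.Lib.Helper1.AOOdd

set_option autoImplicit false
open Cfsg

namespace Cfsg.Agent.S3406

/-- A non-abelian finite simple group on whose elements the full automorphism group has at most five orbits is isomorphic to the alternating group of degree 5 or 6, to PSL(2, 7) or to PSL(2, 8). -/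
theorem result {G : Type*} [Group G] [Finite G] [IsSimpleGroup G] (hG : ¬ IsMulCommutative G)
    (h5 : Nat.card (MulAction.orbitRel.Quotient (MulAut G) G) ≤ 5) :
    Nonempty (G ≃* ↥(alternatingGroup (Fin 5))) ∨ Nonempty (G ≃* ↥(alternatingGroup (Fin 6))) ∨
      (∃ (F : Type) (_ : Field F) (_ : Fintype F), (Fintype.card F = 7 ∨ Fintype.card F = 8) ∧
        Nonempty (G ≃* Matrix.ProjectiveSpecialLinearGroup (Fin 2) F)) := by
  refine Cfsg.Agent.Lib.Helper7.AO.top_main hG h5 ?_ ?_ ?_ ?_ ?_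
  · intro hev m l s hl hs hm hmodd hmS hord h3
    exact Cfsg.Agent.Lib.Helper9.AO.psl2_eight_of_odd_composite hG hev m l s hl hs hm hmodd hmS
      hord h3
  · intro hodd hord
    exact Cfsg.Agent.Lib.Helper9.AO.false_of_cp_odd hG hodd hord
  · intro r hr hr7 h
    exact Cfsg.Agent.Lib.Helper8.AO.no_spec_245r hG r hr hr7 h
  · intro hAT p r hp hr hp2 hr2 hpr hspec
    exact Cfsg.Agent.Lib.Helper1.AO.no_spec_two_p' hG hAT p r hp hr hp2 hr2 hpr hspec
  · intro hAT hodd p q r hp hq hr hpq hpr hqr hspec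
    exact Cfsg.Agent.Lib.Helper1.AO.no_spec_odd' hG hAT hodd p q r hp hq hr hpq hpr hqr hspec

end Cfsg.Agent.S3406
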