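-- Statement S3421 (row 3421): PSL₂(q) is determined by its order and its set of element orders.
import Cfsg.Statements.S3421
import Cfsg.Agent.S2475
import Cfsg.Agent.Lib.Helper5.DicksonOrders
import Cfsg.Agent.Lib.Helper4.K4Field
import Cfsg.Agent.Lib.Lead.S3B
import Cfsg.Agent.Lib.Helper5.OS.Main
import Cfsg.Agent.Lib.Helper7.OSE3

set_option autoImplicit false
set_option linter.unusedSectionVars false
set_option linter.unusedVariables false
set_option linter.unusedSimpArgs false
set_option linter.style.haveILetI false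
set_option maxHeartbeats 1000000
open Cfsg

namespace Cfsg.Agent.S3421

open Cfsg.Agent.Lib.Helper5.OS

theorem cube_lt {x y : ℕ} (hlt : x < y) :
    (x + 1) * (x * (x + 1 + 1)) < (y + 1) * (y * (y + 1 + 1)) := by
  have hy : 0 < y * (y + 1 + 1) := Nat.mul_pos (by omega) (by omega)
  calc (x + 1) * (x * (x + 1 + 1)) ≤ (x + 1) * (y * (y + 1 + 1)) := by gcongr
    _ < (y + 1) * (y * (y + 1 + 1)) := by
      apply Nat.mul_lt_mul_of_pos_right (by omega) hy

/-- `x ↦ x (x-1) (x+1)` is injective on positive naturals -/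
theorem cube_inj {a b : ℕ} (ha : 1 ≤ a) (hb : 1 ≤ b)
    (h : a * ((a - 1) * (a + 1)) = b * ((b - 1) * (b + 1))) : a = b := by
  obtain ⟨x, rfl⟩ : ∃ x, a = x + 1 := ⟨a - 1, by omega⟩
  obtain ⟨y, rfl⟩ : ∃ y, b = y + 1 := ⟨b - 1, by omega⟩
  simp only [Nat.add_sub_cancel] at h
  rcases lt_trichotomy x y with hlt | heq | hgt
  · exfalso
    have h1 := cube_lt hlt
    omega
  · rw [heq]
  · exfalso
    have h1 := cube_lt hgt
    omega

/-- Let F be a finite field with more than 3 elements. A finite group G is isomorphic to PSL(2, F) if and only if G has the same set of element orders and the same order as PSL(2, F). -/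
theorem result {G : Type*} [Group G] [Finite G] {F : Type*} [Field F] [Fintype F] (hF : 3 < Fintype.card F) :
    Nonempty (G ≃* Matrix.ProjectiveSpecialLinearGroup (Fin 2) F) ↔
      (Set.range (orderOf : G → ℕ) = Set.range (orderOf : Matrix.ProjectiveSpecialLinearGroup (Fin 2) F → ℕ) ∧
        Nat.card G = Nat.card (Matrix.ProjectiveSpecialLinearGroup (Fin 2) F)) := by
  classical
  constructor
  · rintro ⟨e⟩
    refine ⟨?_, Nat.card_congr e.toEquiv⟩
    ext k
    constructor
    · rintro ⟨g, rfl⟩; exact ⟨e g, e.orderOf_eq g⟩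
    · rintro ⟨g, rfl⟩; exact ⟨e.symm g, e.symm.orderOf_eq g⟩
  · rintro ⟨hspec, hcard⟩
    obtain ⟨p, hpdef⟩ : ∃ p, p = ringChar F := ⟨_, rfl⟩
    haveI hcp : CharP F p := by rw [hpdef]; exact ringChar.charP F
    haveI hfp : Fact p.Prime := ⟨CharP.char_is_prime F p⟩
    obtain ⟨f, hpp, hqf⟩ := FiniteField.card F p
    obtain ⟨q, hqdef⟩ : ∃ q, q = Fintype.card F := ⟨_, rfl⟩
    have hS := Cfsg.Agent.S2475.result (F := F) p (by omega)
    have hord := Cfsg.Agent.Lib.Helper5.DicksonOrders.card_PSL2_mul (F := F)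
    rw [← hcard] at hord
    rw [← hspec] at hS
    rw [← hqdef] at hS hord hqf
    have hq3 : 3 < q := by rw [hqdef]; exact hF
    have hmemspec : ∀ g : G, orderOf g ∣ p ∨ orderOf g ∣ (q - 1) / Nat.gcd 2 (q - 1) ∨
        orderOf g ∣ (q + 1) / Nat.gcd 2 (q - 1) := by
      intro g
      have : orderOf g ∈ Set.range (orderOf : G → ℕ) := ⟨g, rfl⟩
      rw [hS] at this
      exact this
    have hexspec : ∀ k : ℕ, (k ∣ p ∨ k ∣ (q - 1) / Nat.gcd 2 (q - 1) ∨
        k ∣ (q + 1) / Nat.gcd 2 (q - 1)) → ∃ g : G, orderOf g = k := by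
      intro k hk
      have : k ∈ Set.range (orderOf : G → ℕ) := by rw [hS]; exact hk
      exact this
    by_cases hp2 : p = 2
    · -- even case
      have hqpow : q = 2 ^ (f : ℕ) := by rw [hqf, hp2]
      have hf2 : 2 ≤ (f : ℕ) := by
        by_contra hlt
        have hf1 : (f : ℕ) = 1 := by have := f.pos; omega
        rw [hf1] at hqpow
        omega
      have hqeven : Even q := by
        rw [hqpow]; exact (Nat.even_pow).2 ⟨even_two, by omega⟩
      have hg1 : Nat.gcd 2 (q - 1) = 1 := by
        have hodd : Odd (q - 1) := by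
          obtain ⟨k, hk⟩ := hqeven
          exact ⟨k - 1, by omega⟩
        exact (Nat.coprime_two_left).2 hodd
      rw [hg1, one_mul] at hord
      have hcardG : Nat.card G = 2 ^ (f : ℕ) * ((2 ^ (f : ℕ) - 1) * (2 ^ (f : ℕ) + 1)) := by
        rw [← hqpow]; exact hord
      have hspecG : ∀ g : G, orderOf g ∣ 2 ∨ orderOf g ∣ 2 ^ (f : ℕ) - 1 ∨ orderOf g ∣ 2 ^ (f : ℕ) + 1 := by
        intro g
        have := hmemspec g
        rw [hg1, Nat.div_one, Nat.div_one, hp2, hqpow] at this
        exact this
      obtain ⟨F', _, _, hF'card, ⟨e⟩⟩ := Cfsg.Agent.Lib.Helper7.OS.even_case (f : ℕ) hf2 hcardG hspecG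
      have h2' : ringChar F' = 2 := Cfsg.Agent.Lib.Lead.S3.ringChar_two_of_card hF'card
      have e2 := (Cfsg.Agent.Lib.Lead.S3.pslEquivPgl F' h2').symm
      have r : F' ≃+* F := FiniteField.ringEquivOfCardEq (by rw [hF'card, ← hqpow, hqdef])
      exact ⟨(e.trans e2).trans (Cfsg.Agent.Lib.Helper4.K4Field.pslEquivN 2 r)⟩
    · -- odd case
      have hpodd : Odd p := hpp.odd_of_ne_two hp2
      have hqodd : Odd q := by rw [hqf]; exact hpodd.pow
      have hg2 : Nat.gcd 2 (q - 1) = 2 := by
        obtain ⟨k, hk⟩ := hqodd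
        have : q - 1 = 2 * k := by omega
        rw [this]; exact Nat.gcd_mul_right_right k 2 |> fun h => by simpa using Nat.gcd_eq_left (dvd_mul_right 2 k)
      rw [hg2] at hord
      have hq5 : 5 ≤ q := by
        obtain ⟨k, hk⟩ := hqodd
        omega
      -- choose n even
      obtain ⟨n, m, hsum, hdiff, hneven, hnm⟩ : ∃ n m : ℕ, n + m = q ∧ (n + 1 = m ∨ m + 1 = n) ∧ Even n ∧
          ((n = (q - 1) / 2 ∧ m = (q + 1) / 2) ∨ (n = (q + 1) / 2 ∧ m = (q - 1) / 2)) := by
        obtain ⟨k, hk⟩ := hqodd
        rcases Nat.even_or_odd k with hke | hko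
        · refine ⟨k, k + 1, by omega, Or.inl rfl, hke, Or.inl ⟨by omega, by omega⟩⟩
        · refine ⟨k + 1, k, by omega, Or.inr rfl, hko.add_one, Or.inr ⟨by omega, by omega⟩⟩
      have hcardG : Nat.card G = q * (2 * n) * m := by
        have h2 : 2 * Nat.card G = 2 * (q * (2 * n) * m) := by
          rw [hord]
          obtain ⟨k, hk⟩ := hqodd
          rcases hnm with ⟨h1, h2⟩ | ⟨h1, h2⟩
          · have hn : n = k := by omega
            have hm : m = k + 1 := by omega
            have e1 : q - 1 = 2 * k := by omega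
            have e2 : q + 1 = 2 * (k + 1) := by omega
            rw [e1, e2, hn, hm]; ring
          · have hn : n = k + 1 := by omega
            have hm : m = k := by omega
            have e1 : q - 1 = 2 * k := by omega
            have e2 : q + 1 = 2 * (k + 1) := by omega
            rw [e1, e2, hn, hm]; ring
        omega
      have hH : Hyp G p q n m := by
        refine ⟨hpp, hp2, ⟨(f : ℕ), hqf⟩, hq5, hsum, hdiff, hneven, hcardG, ?_, ?_, ?_⟩
        · intro g
          have := hmemspec g
          rw [hg2] at this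
          rcases hnm with ⟨h1, h2⟩ | ⟨h1, h2⟩
          · rw [← h1, ← h2] at this; exact this
          · rw [← h1, ← h2] at this
            rcases this with h | h | h
            · exact Or.inl h
            · exact Or.inr (Or.inr h)
            · exact Or.inr (Or.inl h)
        · apply hexspec
          rw [hg2]
          rcases hnm with ⟨h1, h2⟩ | ⟨h1, h2⟩
          · right; left; rw [h1]
          · right; right; rw [h1]
        · apply hexspec
          rw [hg2]
          rcases hnm with ⟨h1, h2⟩ | ⟨h1, h2⟩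
          · right; right; rw [h2]
          · right; left; rw [h2]
      obtain ⟨F', _, _, hF'odd, ⟨e⟩⟩ := odd_main hH
      have hord' := Cfsg.Agent.Lib.Helper5.DicksonOrders.card_PSL2_mul (F := F')
      rw [← Nat.card_congr e.toEquiv] at hord'
      have hg2' : Nat.gcd 2 (Fintype.card F' - 1) = 2 := by
        obtain ⟨k, hk⟩ := hF'odd
        have : Fintype.card F' - 1 = 2 * k := by omega
        rw [this]; exact Nat.gcd_eq_left (dvd_mul_right 2 k)
      rw [hg2'] at hord'
      have hqq : Fintype.card F' = q := by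
        apply cube_inj Fintype.card_pos (by omega)
        rw [← hord', ← hord]
      have r : F' ≃+* F := FiniteField.ringEquivOfCardEq (by rw [hqq, hqdef])
      exact ⟨e.trans (Cfsg.Agent.Lib.Helper4.K4Field.pslEquivN 2 r)⟩

end Cfsg.Agent.S3421
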