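import Mathlib
import Cfsg.Statements.S3437
import Cfsg.Agent.Lib.Lead.Spec33

set_option autoImplicit false

open Cfsg

namespace Cfsg.Agent.S3437

theorem result {F : Type*} [Field F] [Fintype F] (hF : Fintype.card F = 3) :
    ∃ (H : Type) (_ : Group H) (_ : Fintype H), Group.IsSolvable H ∧
      Set.range (orderOf : H → ℕ) = Set.range (orderOf : Matrix.ProjectiveSpecialLinearGroup (Fin 3) F → ℕ) := by
  exact Cfsg.Agent.Lib.Lead.Spec33.main hF

end Cfsg.Agent.S3437
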