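import Cfsg.Statements.S3448

set_option autoImplicit false
open Cfsg

namespace Cfsg.Agent.S3448

set_option maxRecDepth 100000 in
theorem pow_cases : ∀ g : alternatingGroup (Fin 5), g ^ 2 = 1 ∨ g ^ 3 = 1 ∨ g ^ 5 = 1 := by
  decide

theorem order_mem (g : alternatingGroup (Fin 5)) :
    orderOf g = 1 ∨ orderOf g = 2 ∨ orderOf g = 3 ∨ orderOf g = 5 := by
  rcases pow_cases g with h | h | h
  · have := orderOf_dvd_of_pow_eq_one h
    rcases (Nat.dvd_prime Nat.prime_two).1 this with h1 | h1 <;> simp [h1]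
  · have := orderOf_dvd_of_pow_eq_one h
    rcases (Nat.dvd_prime Nat.prime_three).1 this with h1 | h1 <;> simp [h1]
  · have := orderOf_dvd_of_pow_eq_one h
    rcases (Nat.dvd_prime Nat.prime_five).1 this with h1 | h1 <;> simp [h1]

def e2 : alternatingGroup (Fin 5) :=
  ⟨Equiv.swap 0 1 * Equiv.swap 2 3, Equiv.Perm.mem_alternatingGroup.2 (by decide)⟩
def e3 : alternatingGroup (Fin 5) :=
  ⟨Equiv.swap 0 1 * Equiv.swap 1 2, Equiv.Perm.mem_alternatingGroup.2 (by decide)⟩
def e5 : alternatingGroup (Fin 5) :=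
  ⟨Equiv.swap 0 1 * Equiv.swap 1 2 * Equiv.swap 2 3 * Equiv.swap 3 4,
    Equiv.Perm.mem_alternatingGroup.2 (by decide)⟩

theorem o2 : orderOf e2 = 2 := by
  have : Fact (Nat.Prime 2) := ⟨Nat.prime_two⟩
  exact orderOf_eq_prime (by decide) (by decide)
theorem o3 : orderOf e3 = 3 := by
  have : Fact (Nat.Prime 3) := ⟨Nat.prime_three⟩
  exact orderOf_eq_prime (by decide) (by decide)
theorem o5 : orderOf e5 = 5 := by
  have : Fact (Nat.Prime 5) := ⟨Nat.prime_five⟩
  exact orderOf_eq_prime (by decide) (by decide)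

/-- The set of element orders of the direct product of two copies of the alternating group of degree 5 is {1, 2, 3, 5, 6, 10, 15}. (It is shared by the direct product of two Frobenius groups of orders 50 and 75, so this direct product is not determined by its element orders.) -/
theorem result : Set.range (orderOf : alternatingGroup (Fin 5) × alternatingGroup (Fin 5) → ℕ) = {1, 2, 3, 5, 6, 10, 15} := by
  ext n
  simp only [Set.mem_range, Set.mem_insert_iff, Set.mem_singleton_iff]
  constructor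
  · rintro ⟨⟨a, b⟩, rfl⟩
    rw [Prod.orderOf]
    rcases order_mem a with h | h | h | h <;> rcases order_mem b with h' | h' | h' | h' <;>
      simp [h, h'] <;> decide
  · have k1 : orderOf (1 : alternatingGroup (Fin 5)) = 1 := orderOf_one
    rintro (rfl | rfl | rfl | rfl | rfl | rfl | rfl)
    · exact ⟨(1, 1), by rw [Prod.orderOf]; simp⟩
    · exact ⟨(e2, 1), by rw [Prod.orderOf]; simp [o2]⟩
    · exact ⟨(e3, 1), by rw [Prod.orderOf]; simp [o3]⟩
    · exact ⟨(e5, 1), by rw [Prod.orderOf]; simp [o5]⟩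
    · exact ⟨(e2, e3), by rw [Prod.orderOf]; simp [o2, o3]; decide⟩
    · exact ⟨(e2, e5), by rw [Prod.orderOf]; simp [o2, o5]; decide⟩
    · exact ⟨(e3, e5), by rw [Prod.orderOf]; simp [o3, o5]; decide⟩

end Cfsg.Agent.S3448
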