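import Cfsg.Statements.S3449
import Cfsg.Agent.S3448

set_option autoImplicit false
open Cfsg

namespace Cfsg.Agent.S3449

open Cfsg.Agent.S3448

theorem cyc_orders (n : ℕ) :
    n ∈ Set.range (orderOf : Multiplicative (ZMod 30) → ℕ) ↔ n ∣ 30 := by
  constructor
  · rintro ⟨x, rfl⟩
    have h := orderOf_dvd_card (x := x)
    simpa using h
  · intro h
    refine ⟨Multiplicative.ofAdd (((30 / n : ℕ) : ZMod 30)), ?_⟩
    rw [orderOf_ofAdd_eq_addOrderOf, ZMod.addOrderOf_coe _ (by norm_num)]
    have hn : n ∈ Nat.divisors 30 := by simp [h]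
    have : Nat.divisors 30 = {1, 2, 3, 5, 6, 10, 15, 30} := by decide
    rw [this] at hn
    simp only [Finset.mem_insert, Finset.mem_singleton] at hn
    rcases hn with rfl | rfl | rfl | rfl | rfl | rfl | rfl | rfl <;> decide

/-- The direct product of three copies of the alternating group of degree 5 has exactly the same set of element orders as the cyclic group of order 30, namely the divisors of 30; in particular a direct power of a non-abelian simple group need not be determined by its element orders. -/
theorem result : Set.range (orderOf : alternatingGroup (Fin 5) × alternatingGroup (Fin 5) × alternatingGroup (Fin 5) → ℕ) =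
      Set.range (orderOf : Multiplicative (ZMod 30) → ℕ) := by
  ext n
  rw [cyc_orders]
  simp only [Set.mem_range]
  constructor
  · rintro ⟨⟨a, b, c⟩, rfl⟩
    rw [Prod.orderOf, Prod.orderOf]
    rcases order_mem a with h | h | h | h <;> rcases order_mem b with h' | h' | h' | h' <;>
      rcases order_mem c with h'' | h'' | h'' | h'' <;>
      simp only [h, h', h''] <;> decide
  · intro h
    have hn : n ∈ Nat.divisors 30 := by simp [h]
    have : Nat.divisors 30 = {1, 2, 3, 5, 6, 10, 15, 30} := by decide
    rw [this] at hn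
    simp only [Finset.mem_insert, Finset.mem_singleton] at hn
    have k1 : orderOf (1 : alternatingGroup (Fin 5)) = 1 := orderOf_one
    rcases hn with rfl | rfl | rfl | rfl | rfl | rfl | rfl | rfl
    · exact ⟨(1, 1, 1), by rw [Prod.orderOf, Prod.orderOf]; simp⟩
    · exact ⟨(e2, 1, 1), by rw [Prod.orderOf, Prod.orderOf]; simp [o2]⟩
    · exact ⟨(e3, 1, 1), by rw [Prod.orderOf, Prod.orderOf]; simp [o3]⟩
    · exact ⟨(e5, 1, 1), by rw [Prod.orderOf, Prod.orderOf]; simp [o5]⟩
    · exact ⟨(e2, e3, 1), by rw [Prod.orderOf, Prod.orderOf]; simp [o2, o3]; decide⟩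
    · exact ⟨(e2, e5, 1), by rw [Prod.orderOf, Prod.orderOf]; simp [o2, o5]; decide⟩
    · exact ⟨(e3, e5, 1), by rw [Prod.orderOf, Prod.orderOf]; simp [o3, o5]; decide⟩
    · exact ⟨(e2, e3, e5), by rw [Prod.orderOf, Prod.orderOf]; simp [o2, o3, o5]; decide⟩

end Cfsg.Agent.S3449
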