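import Cfsg.Statements.S3485
import Mathlib
import Cfsg.Agent.Lib.Helper8.J2S5
import Cfsg.Agent.Lib.Helper8.IcoG3

set_option autoImplicit false
open Cfsg

namespace Cfsg.Agent.S3485

open Cfsg.Agent.Lib.Helper8 in
theorem range_J2 : Set.range (orderOf : Cfsg.Spor.J2 → ℕ) = (J2S.spec : Set ℕ) := by
  rw [← J2S.range_orderOf]
  ext o
  constructor
  · rintro ⟨g, rfl⟩
    exact ⟨Ico.J2iso g, MulEquiv.orderOf_eq Ico.J2iso g⟩
  · rintro ⟨g, rfl⟩
    refine ⟨Ico.J2iso.symm g, ?_⟩
    rw [MulEquiv.orderOf_eq]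

theorem key8 : ∀ T ∈ (Finset.Icc 2 8).powerset, T.sum id ≤ 8 →
    T.lcm id ∈ ({1, 2, 3, 4, 5, 6, 7, 8, 10, 12, 15} : Finset ℕ) := by decide +kernel

theorem s8_orders (σ : Equiv.Perm (Fin 8)) :
    orderOf σ ∈ ({1, 2, 3, 4, 5, 6, 7, 8, 10, 12, 15} : Finset ℕ) := by
  classical
  have h1 : σ.cycleType.lcm = orderOf σ := Equiv.Perm.lcm_cycleType σ
  have h2 : σ.cycleType.sum ≤ 8 := by
    rw [Equiv.Perm.sum_cycleType]
    exact (Finset.card_le_univ _).trans (by simp)
  have h3 : ∀ a ∈ σ.cycleType, 2 ≤ a := fun a ha => Equiv.Perm.two_le_of_mem_cycleType ha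
  have hT1 : σ.cycleType.toFinset.lcm id = orderOf σ := by
    rw [← h1, ← Multiset.lcm_dedup, Finset.lcm_def, Multiset.map_id, Multiset.toFinset_val]
  have hT2 : σ.cycleType.toFinset.sum id ≤ 8 := by
    obtain ⟨u, hu⟩ := Multiset.le_iff_exists_add.mp (Multiset.dedup_le σ.cycleType)
    have e : σ.cycleType.toFinset.sum id = σ.cycleType.dedup.sum := by
      rw [Finset.sum_eq_multiset_sum, Multiset.map_id, Multiset.toFinset_val]
    rw [e]
    have : σ.cycleType.sum = σ.cycleType.dedup.sum + u.sum := by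
      conv_lhs => rw [hu]
      rw [Multiset.sum_add]
    omega
  have hT3 : σ.cycleType.toFinset ∈ (Finset.Icc 2 8).powerset := by
    rw [Finset.mem_powerset]
    intro a ha
    rw [Multiset.mem_toFinset] at ha
    rw [Finset.mem_Icc]
    exact ⟨h3 a ha, (Multiset.le_sum_of_mem ha).trans h2⟩
  rw [← hT1]
  exact key8 _ hT3 hT2

theorem s8_exists : ∀ o ∈ ({1, 2, 3, 4, 5, 6, 7, 8, 10, 12, 15} : Finset ℕ),
    ∃ σ : Equiv.Perm (Fin 8), orderOf σ = o := by
  intro o ho
  simp only [Finset.mem_insert, Finset.mem_singleton] at ho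
  have key : ∀ (l1 l2 : List (Fin 8)) (o : ℕ), 0 < o →
      (List.formPerm l1 * List.formPerm l2) ^ o = 1 →
      (∀ m < o, 0 < m → (List.formPerm l1 * List.formPerm l2) ^ m ≠ 1) →
      ∃ σ : Equiv.Perm (Fin 8), orderOf σ = o :=
    fun l1 l2 o h0 h1 h2 => ⟨_, (orderOf_eq_iff h0).mpr ⟨h1, h2⟩⟩
  rcases ho with rfl | rfl | rfl | rfl | rfl | rfl | rfl | rfl | rfl | rfl | rfl
  · exact ⟨1, orderOf_one⟩
  · exact key [0, 1] [] 2 (by norm_num) (by decide +kernel) (by decide +kernel)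
  · exact key [0, 1, 2] [] 3 (by norm_num) (by decide +kernel) (by decide +kernel)
  · exact key [0, 1, 2, 3] [] 4 (by norm_num) (by decide +kernel) (by decide +kernel)
  · exact key [0, 1, 2, 3, 4] [] 5 (by norm_num) (by decide +kernel) (by decide +kernel)
  · exact key [0, 1, 2, 3, 4, 5] [] 6 (by norm_num) (by decide +kernel) (by decide +kernel)
  · exact key [0, 1, 2, 3, 4, 5, 6] [] 7 (by norm_num) (by decide +kernel) (by decide +kernel)
  · exact key [0, 1, 2, 3, 4, 5, 6, 7] [] 8 (by norm_num) (by decide +kernel) (by decide +kernel)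
  · exact key [0, 1, 2, 3, 4] [5, 6] 10 (by norm_num) (by decide +kernel) (by decide +kernel)
  · exact key [0, 1, 2, 3] [4, 5, 6] 12 (by norm_num) (by decide +kernel) (by decide +kernel)
  · exact key [0, 1, 2, 3, 4] [5, 6, 7] 15 (by norm_num) (by decide +kernel) (by decide +kernel)

/-- The symmetric group of degree 8 and the Hall–Janko sporadic group J₂ have exactly the same set of element orders (namely 1, 2, 3, 4, 5, 6, 7, 8, 10, 12, 15); in particular J₂ is not determined by its element orders. -/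
theorem result : Set.range (orderOf : Equiv.Perm (Fin 8) → ℕ) = Set.range (orderOf : Cfsg.Spor.J2 → ℕ) := by
  rw [range_J2]
  ext o
  constructor
  · rintro ⟨σ, rfl⟩
    exact s8_orders σ
  · intro ho
    obtain ⟨σ, hσ⟩ := s8_exists o ho
    exact ⟨σ, hσ⟩

end Cfsg.Agent.S3485
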