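import Cfsg.Statements.S3486
import Mathlib
import Cfsg.Agent.Lib.Helper8.X72d
import Cfsg.Agent.Lib.Helper8.FiberFam
import Cfsg.Agent.Lib.Helper8.J2S5
import Cfsg.Agent.Lib.Helper8.IcoG3

set_option autoImplicit false
open Cfsg

namespace Cfsg.Agent.S3486

open Cfsg.Agent.Lib.Helper8 in
theorem range_J2' : Set.range (orderOf : Cfsg.Spor.J2 → ℕ) = (J2S.spec : Set ℕ) := by
  rw [← J2S.range_orderOf]
  ext o
  constructor
  · rintro ⟨g, rfl⟩
    exact ⟨Ico.J2iso g, MulEquiv.orderOf_eq Ico.J2iso g⟩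
  · rintro ⟨g, rfl⟩
    refine ⟨Ico.J2iso.symm g, ?_⟩
    rw [MulEquiv.orderOf_eq]

open Cfsg.Agent.Lib.Helper8 in
theorem spec_eq : (X72.spec : Set ℕ) = (J2S.spec : Set ℕ) := by
  unfold X72.spec J2S.spec
  rfl

/-- The Hall–Janko sporadic group J₂ is not determined by its set of element orders, not even up to finitely many groups: for every bound N there is a finite group of order greater than N with exactly the same set of element orders as J₂. -/
theorem result (N : ℕ) : ∃ (H : Type) (_ : Group H) (_ : Fintype H), N < Fintype.card H ∧ Set.range (orderOf : H → ℕ) = Set.range (orderOf : Cfsg.Spor.J2 → ℕ) := by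
  classical
  haveI : Fintype ↥Cfsg.Agent.Lib.Helper8.X72.X := Fintype.ofFinite _
  obtain ⟨H, hG, hF, hcard, hrange⟩ :=
    Cfsg.Agent.Lib.Helper8.FiberFam.exists_large (X := ↥Cfsg.Agent.Lib.Helper8.X72.X)
      (N := Cfsg.Agent.Lib.Helper8.X72.Nn) Cfsg.Agent.Lib.Helper8.X72.Nn_sq
      Cfsg.Agent.Lib.Helper8.X72.Nn_ne N
  refine ⟨H, hG, hF, hcard, ?_⟩
  rw [hrange, Cfsg.Agent.Lib.Helper8.X72.range_orderOf, spec_eq, range_J2']

end Cfsg.Agent.S3486
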