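import Cfsg.Statements.S3491
import Mathlib
import Cfsg.Agent.S3444
import Cfsg.Agent.S3488

set_option autoImplicit false
set_option linter.style.haveILetI false
set_option linter.unusedSimpArgs false
open Cfsg

namespace Cfsg.Agent.S3491

section

/-- the affine group as a subgroup of `SL(3,F)` -/
abbrev Aff (F : Type*) [Field F] : Subgroup (Matrix.SpecialLinearGroup (Fin 3) F) :=
  Subgroup.closure {M : Matrix.SpecialLinearGroup (Fin 3) F |
    (M : Matrix (Fin 3) (Fin 3) F) 2 0 = 0 ∧ (M : Matrix (Fin 3) (Fin 3) F) 2 1 = 0 ∧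
      (M : Matrix (Fin 3) (Fin 3) F) 2 2 = 1}

/-- upper-left block -/
def blockHom (F : Type*) [Field F] : Aff F →* Matrix (Fin 2) (Fin 2) F where
  toFun M := (M.1 : Matrix (Fin 3) (Fin 3) F).submatrix Fin.castSucc Fin.castSucc
  map_one' := by
    ext i j
    fin_cases i <;> fin_cases j <;> simp [Matrix.one_apply]
  map_mul' := by
    intro M N
    have hN := Cfsg.Agent.S3488.last_row_of_mem N.1 N.2
    ext i j
    fin_cases i <;> fin_cases j <;>
      simp [Matrix.mul_apply, Fin.sum_univ_two, Fin.sum_univ_three, hN.1, hN.2.1]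

theorem blockHom_apply {F : Type*} [Field F] (M : Aff F) (i j : Fin 2) :
    blockHom F M i j = (M.1 : Matrix (Fin 3) (Fin 3) F) i.castSucc j.castSucc := rfl

theorem ker_comm {F : Type*} [Field F] (a b : (blockHom F).ker) : a * b = b * a := by
  obtain ⟨⟨M, hMG⟩, hM⟩ := a
  obtain ⟨⟨N, hNG⟩, hN⟩ := b
  have hMr := Cfsg.Agent.S3488.last_row_of_mem M hMG
  have hNr := Cfsg.Agent.S3488.last_row_of_mem N hNG
  rw [MonoidHom.mem_ker] at hM hN
  have hM' : ∀ i j : Fin 2, (M : Matrix (Fin 3) (Fin 3) F) i.castSucc j.castSucc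
      = (1 : Matrix (Fin 2) (Fin 2) F) i j := fun i j => congrFun (congrFun hM i) j
  have hN' : ∀ i j : Fin 2, (N : Matrix (Fin 3) (Fin 3) F) i.castSucc j.castSucc
      = (1 : Matrix (Fin 2) (Fin 2) F) i j := fun i j => congrFun (congrFun hN i) j
  have m00 := hM' 0 0
  have m01 := hM' 0 1
  have m10 := hM' 1 0
  have m11 := hM' 1 1
  have n00 := hN' 0 0
  have n01 := hN' 0 1
  have n10 := hN' 1 0
  have n11 := hN' 1 1
  simp at m00 m01 m10 m11 n00 n01 n10 n11
  apply Subtype.ext
  apply Subtype.ext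
  apply Subtype.ext
  simp only [Subgroup.coe_mul, Matrix.SpecialLinearGroup.coe_mul]
  ext i j
  fin_cases i <;> fin_cases j <;>
    simp [Matrix.mul_apply, Fin.sum_univ_three, m00, m01, m10, m11, n00, n01, n10, n11,
      hMr.1, hMr.2.1, hMr.2.2, hNr.1, hNr.2.1, hNr.2.2] <;> ring

theorem ker_ne_bot {F : Type*} [Field F] : (blockHom F).ker ≠ ⊥ := by
  intro hbot
  have hdet : (!![1, 0, 1; 0, 1, 0; 0, 0, 1] : Matrix (Fin 3) (Fin 3) F).det = 1 := by
    rw [Matrix.det_fin_three]; simp
  obtain ⟨A, hA⟩ : ∃ A : Matrix.SpecialLinearGroup (Fin 3) F,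
      (A : Matrix (Fin 3) (Fin 3) F) = !![1, 0, 1; 0, 1, 0; 0, 0, 1] := ⟨⟨_, hdet⟩, rfl⟩
  have hAG : A ∈ Aff F := Subgroup.subset_closure ⟨by simp [hA], by simp [hA], by simp [hA]⟩
  have hker : (⟨A, hAG⟩ : Aff F) ∈ (blockHom F).ker := by
    rw [MonoidHom.mem_ker]
    ext i j
    fin_cases i <;> fin_cases j <;> simp [blockHom_apply, hA, Matrix.one_apply]
  rw [hbot, Subgroup.mem_bot] at hker
  have h1 : (A : Matrix (Fin 3) (Fin 3) F) = 1 := by
    have := congrArg (fun x : Aff F =>
      ((x : Matrix.SpecialLinearGroup (Fin 3) F) : Matrix (Fin 3) (Fin 3) F)) hker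
    simpa using this
  rw [hA] at h1
  have := congrFun (congrFun h1 0) 2
  simp at this

end

/-- The alternating group of degree 6 is not determined by its set of element orders, not even up to finitely many groups: for every bound N there is a finite group of order greater than N with exactly the same set of element orders as the alternating group of degree 6. -/
theorem result (N : ℕ) : ∃ (H : Type) (_ : Group H) (_ : Fintype H), N < Fintype.card H ∧ Set.range (orderOf : H → ℕ) = Set.range (orderOf : alternatingGroup (Fin 6) → ℕ) := by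
  classical
  haveI : Fact (Nat.Prime 2) := ⟨Nat.prime_two⟩
  letI : Fintype (GaloisField 2 2) := Fintype.ofFinite _
  have hcard : Fintype.card (GaloisField 2 2) = 4 := by
    rw [← Nat.card_eq_fintype_card, GaloisField.card 2 2 (by norm_num)]
    norm_num
  have hs : Group.IsSolvable (blockHom (GaloisField 2 2)).ker :=
    Group.isSolvable_of_comm ker_comm
  obtain ⟨H, iG, iF, hN, hr⟩ :=
    Cfsg.Agent.S3444.result (blockHom (GaloisField 2 2)).ker ker_ne_bot hs N
  refine ⟨H, iG, iF, hN, ?_⟩
  rw [hr]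
  exact Cfsg.Agent.S3488.result hcard

end Cfsg.Agent.S3491
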