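import Cfsg.Statements.S3495
import Mathlib
-- import your own Cfsg.Agent.* helpers here

set_option autoImplicit false
set_option linter.style.haveILetI false
open Cfsg

namespace Cfsg.Agent.S3495

section
variable {G : Type*} [Group G] {Ω : Type*} [MulAction G Ω]

theorem le_normalizer_of_conj (H L : Subgroup G) (h : ∀ g ∈ H, ∀ l ∈ L, g * l * g⁻¹ ∈ L) :
    H ≤ Subgroup.normalizer (L : Set G) := by
  intro g hg
  rw [Subgroup.mem_normalizer_iff]
  intro l
  constructor
  · exact h g hg l
  · intro hl
    have := h g⁻¹ (H.inv_mem hg) _ hl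
    rw [inv_inv] at this
    convert this using 1
    group

theorem conj_of_le_normalizer {H L : Subgroup G} (h : H ≤ Subgroup.normalizer (L : Set G)) {g l : G}
    (hg : g ∈ H) (hl : l ∈ L) : g * l * g⁻¹ ∈ L :=
  (Subgroup.mem_normalizer_iff.1 (h hg) l).1 hl

variable (N : Subgroup G) [N.Normal] (α : Ω) (hNreg : MulAction.stabilizer N α = ⊥)

include hNreg in
theorem reg_eq {n₁ n₂ : G} (h₁ : n₁ ∈ N) (h₂ : n₂ ∈ N) (h : n₁ • α = n₂ • α) : n₁ = n₂ := by
  have : (⟨n₂⁻¹ * n₁, N.mul_mem (N.inv_mem h₂) h₁⟩ : N) ∈ MulAction.stabilizer N α := by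
    rw [MulAction.mem_stabilizer_iff]
    show (n₂⁻¹ * n₁) • α = α
    rw [mul_smul, h, inv_smul_smul]
  rw [hNreg, Subgroup.mem_bot] at this
  have h3 : n₂⁻¹ * n₁ = 1 := congrArg Subtype.val this
  calc n₁ = n₂ * (n₂⁻¹ * n₁) := by group
    _ = n₂ := by rw [h3, mul_one]

theorem conj_smul {h : G} (hh : h ∈ MulAction.stabilizer G α) (n : G) :
    h • (n • α) = (h * n * h⁻¹) • α := by
  have : h⁻¹ • α = α := by
    rw [inv_smul_eq_iff]
    exact (MulAction.mem_stabilizer_iff.1 hh).symm
  rw [mul_smul, mul_smul, this]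

include hNreg in
/-- irreducibility of the point stabilizer on `N` -/
theorem irr (hco : IsCoatom (MulAction.stabilizer G α)) (L : Subgroup G) (hLN : L ≤ N)
    (hHL : MulAction.stabilizer G α ≤ Subgroup.normalizer (L : Set G)) : L = ⊥ ∨ L = N := by
  by_cases hLH : L ≤ MulAction.stabilizer G α
  · left
    rw [eq_bot_iff]
    intro l hl
    rw [Subgroup.mem_bot]
    apply reg_eq N α hNreg (hLN hl) N.one_mem
    rw [one_smul]
    exact MulAction.mem_stabilizer_iff.1 (hLH hl)
  · right
    have hlt : MulAction.stabilizer G α < L ⊔ MulAction.stabilizer G α :=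
      lt_of_le_of_ne le_sup_right (fun heq => hLH (by rw [heq]; exact le_sup_left))
    have htop := hco.2 _ hlt
    -- the L-orbit of α is invariant under L ⊔ H
    have key : ∀ g ∈ L ⊔ MulAction.stabilizer G α, ∀ ω : Ω,
        (∃ l ∈ L, l • α = ω) ↔ (∃ l ∈ L, l • α = g • ω) := by
      intro g hg
      rw [Subgroup.sup_eq_closure] at hg
      induction hg using Subgroup.closure_induction with
      | mem g hg =>
        have hfwd : ∀ g : G, (g ∈ L ∨ g ∈ MulAction.stabilizer G α) → ∀ ω : Ω,
            (∃ l ∈ L, l • α = ω) → (∃ l ∈ L, l • α = g • ω) := by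
          intro g hg ω
          rintro ⟨l, hl, rfl⟩
          rcases hg with hg | hg
          · exact ⟨g * l, L.mul_mem hg hl, mul_smul _ _ _⟩
          · exact ⟨g * l * g⁻¹, conj_of_le_normalizer hHL hg hl, (conj_smul α hg l).symm⟩
        intro ω
        constructor
        · exact hfwd g hg ω
        · intro h
          have hg' : g⁻¹ ∈ L ∨ g⁻¹ ∈ MulAction.stabilizer G α := by
            rcases hg with hg | hg
            · exact Or.inl (L.inv_mem hg)
            · exact Or.inr (Subgroup.inv_mem _ hg)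
          have := hfwd g⁻¹ hg' _ h
          rwa [inv_smul_smul] at this
      | one => intro ω; rw [one_smul]
      | mul x y _ _ hx hy =>
        intro ω
        rw [mul_smul, ← hx, ← hy]
      | inv x _ hx =>
        intro ω
        rw [hx (x⁻¹ • ω), smul_inv_smul]
    apply le_antisymm hLN
    intro n hn
    have := (key n (by rw [htop]; exact Subgroup.mem_top n) α).1 ⟨1, L.one_mem, one_smul _ _⟩
    obtain ⟨l, hl, hlα⟩ := this
    rw [← reg_eq N α hNreg (hLN hl) hn hlα]
    exact hl

end

section
variable {G : Type*} [Group G] {Ω : Type*} [MulAction G Ω] [FaithfulSMul G Ω]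
variable (N : Subgroup G) [N.Normal] (α : Ω) (hNreg : MulAction.stabilizer N α = ⊥)
  (hNtr : MulAction.IsPretransitive N Ω)

include hNreg hNtr in
/-- a nontrivial normal subgroup of the stabilizer fixes only `α` -/
theorem fix_eq (hco : IsCoatom (MulAction.stabilizer G α)) (M : Subgroup G) (hM : M ≠ ⊥)
    (hMn : MulAction.stabilizer G α ≤ Subgroup.normalizer (M : Set G))
    (hMle : M ≤ MulAction.stabilizer G α)
    (ω : Ω) (hfix : ∀ m ∈ M, m • ω = ω) : ω = α := by
  obtain ⟨⟨n, hn⟩, hnω⟩ := MulAction.exists_smul_eq N α ω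
  have hnω' : n • α = ω := hnω
  have hHC : MulAction.stabilizer G α ≤
      Subgroup.normalizer ((N ⊓ Subgroup.centralizer (M : Set G) : Subgroup G) : Set G) := by
    apply le_normalizer_of_conj
    intro g hg c hc
    refine ⟨Subgroup.Normal.conj_mem ‹N.Normal› c hc.1 g, ?_⟩
    show g * c * g⁻¹ ∈ Subgroup.centralizer (M : Set G)
    rw [Subgroup.mem_centralizer_iff]
    intro m hm
    have hm' : g⁻¹ * m * g ∈ M := by
      have := conj_of_le_normalizer hMn (Subgroup.inv_mem _ hg) hm
      rwa [inv_inv] at this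
    have hcomm := Subgroup.mem_centralizer_iff.1 hc.2 _ hm'
    calc m * (g * c * g⁻¹) = g * ((g⁻¹ * m * g) * c) * g⁻¹ := by group
      _ = g * (c * (g⁻¹ * m * g)) * g⁻¹ := by rw [hcomm]
      _ = g * c * g⁻¹ * m := by group
  have hnC : n ∈ N ⊓ Subgroup.centralizer (M : Set G) := by
    refine ⟨hn, ?_⟩
    show n ∈ Subgroup.centralizer (M : Set G)
    rw [Subgroup.mem_centralizer_iff]
    intro m hm
    have h1 := hfix m hm
    rw [← hnω', conj_smul α (hMle hm) n] at h1
    have h2 := reg_eq N α hNreg (Subgroup.Normal.conj_mem ‹N.Normal› n hn m) hn h1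
    calc m * n = (m * n * m⁻¹) * m := by group
      _ = n * m := by rw [h2]
  rcases irr N α hNreg hco _ inf_le_left hHC with hbot | htop
  · rw [hbot, Subgroup.mem_bot] at hnC
    rw [← hnω', hnC, one_smul]
  · exfalso
    apply hM
    rw [eq_bot_iff]
    intro m hm
    rw [Subgroup.mem_bot]
    apply eq_of_smul_eq_smul (α := Ω)
    intro ω'
    obtain ⟨⟨n', hn'⟩, hnω''⟩ := MulAction.exists_smul_eq N α ω'
    have hnω3 : n' • α = ω' := hnω''
    have hn'C : n' ∈ N ⊓ Subgroup.centralizer (M : Set G) := by rw [htop]; exact hn'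
    have hcomm := Subgroup.mem_centralizer_iff.1 hn'C.2 m hm
    rw [one_smul, ← hnω3, conj_smul α (hMle hm) n']
    congr 1
    calc m * n' * m⁻¹ = (n' * m) * m⁻¹ := by rw [hcomm]
      _ = n' := by group

end

/-- Let a finite group G act faithfully and primitively on a finite set Ω with non-trivial point stabilizers, each acting primitively on every one of its orbits (an extremely primitive group), and suppose G has an elementary abelian normal p-subgroup N acting regularly on Ω (affine type). Then every non-trivial subgroup M of a point stabilizer G_α that is normal in G_α has the same orbits on Ω as G_α, and normalizes no subgroup of N other than 1 and N. -/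
theorem result {G : Type*} [Group G] [Finite G] {Ω : Type*} [Fintype Ω] [MulAction G Ω] [FaithfulSMul G Ω] (hprim : MulAction.IsPreprimitive G Ω) (hH : ∀ α : Ω, MulAction.stabilizer G α ≠ ⊥) (hep : ∀ (α : Ω) (ω : Ω), MulAction.IsPreprimitive (MulAction.stabilizer G α) (MulAction.orbit (MulAction.stabilizer G α) ω))
    (N : Subgroup G) [N.Normal] (hNc : IsMulCommutative N) (p : ℕ) (hp : p.Prime) (hNp : ∀ n ∈ N, n ^ p = 1)
    (hNtr : MulAction.IsPretransitive N Ω) (hNreg : ∀ ω : Ω, MulAction.stabilizer N ω = ⊥) (α : Ω) (M : Subgroup G) (hM : M ≠ ⊥) (hMle : M ≤ MulAction.stabilizer G α)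
    (hMn : MulAction.stabilizer G α ≤ Subgroup.normalizer (M : Set G)) :
    (∀ ω : Ω, MulAction.orbit M ω = MulAction.orbit (MulAction.stabilizer G α) ω) ∧
    (∀ L : Subgroup G, L ≤ N → M ≤ Subgroup.normalizer (L : Set G) → L = ⊥ ∨ L = N) := by
  haveI := hprim.toIsPretransitive
  haveI hnt : Nontrivial Ω := by
    by_contra h
    rw [not_nontrivial_iff_subsingleton] at h
    apply hH α
    rw [eq_bot_iff]
    intro g _
    rw [Subgroup.mem_bot]
    apply eq_of_smul_eq_smul (α := Ω)
    intro ω
    exact Subsingleton.elim _ _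
  have hco := (MulAction.isCoatom_stabilizer_iff_preprimitive G α).2 hprim
  have hreg := hNreg α
  have partA : ∀ ω : Ω, MulAction.orbit M ω = MulAction.orbit (MulAction.stabilizer G α) ω := by
    intro ω
    haveI := hep α ω
    haveI : (M.subgroupOf (MulAction.stabilizer G α)).Normal :=
      (Subgroup.normal_subgroupOf_iff_le_normalizer hMle).2 hMn
    by_cases hfp : MulAction.fixedPoints (M.subgroupOf (MulAction.stabilizer G α))
        (MulAction.orbit (MulAction.stabilizer G α) ω) = Set.univ
    · have hfix : ∀ m ∈ M, m • ω = ω := by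
        intro m hm
        have h1 : (⟨ω, MulAction.mem_orbit_self ω⟩ : MulAction.orbit (MulAction.stabilizer G α) ω) ∈
            MulAction.fixedPoints (M.subgroupOf (MulAction.stabilizer G α))
              (MulAction.orbit (MulAction.stabilizer G α) ω) := by
          rw [hfp]; exact Set.mem_univ _
        rw [MulAction.mem_fixedPoints] at h1
        have h2 := h1 ⟨⟨m, hMle hm⟩, by rw [Subgroup.mem_subgroupOf]; exact hm⟩
        exact congrArg Subtype.val h2
      have hωα := fix_eq N α hreg hNtr hco M hM hMn hMle ω hfix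
      subst hωα
      ext x
      constructor
      · rintro ⟨⟨m, hm⟩, rfl⟩
        exact ⟨⟨m, hMle hm⟩, rfl⟩
      · rintro ⟨⟨h, hh⟩, rfl⟩
        refine ⟨1, ?_⟩
        show (1 : M) • ω = h • ω
        rw [one_smul]
        exact (MulAction.mem_stabilizer_iff.1 hh).symm
    · have htr := MulAction.IsQuasiPreprimitive.isPretransitive_of_normal hfp
      ext δ
      constructor
      · rintro ⟨⟨m, hm⟩, rfl⟩
        exact ⟨⟨m, hMle hm⟩, rfl⟩
      · intro hδ
        obtain ⟨m', hm'⟩ := MulAction.exists_smul_eq (M.subgroupOf (MulAction.stabilizer G α))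
          (⟨ω, MulAction.mem_orbit_self ω⟩ : MulAction.orbit (MulAction.stabilizer G α) ω) ⟨δ, hδ⟩
        have h1 : ((m' : MulAction.stabilizer G α) : G) • ω = δ := congrArg Subtype.val hm'
        have h2 : ((m' : MulAction.stabilizer G α) : G) ∈ M := Subgroup.mem_subgroupOf.1 m'.2
        exact ⟨⟨_, h2⟩, h1⟩
  refine ⟨partA, ?_⟩
  intro L hLN hML
  by_cases hL : L = ⊥
  · exact Or.inl hL
  right
  obtain ⟨⟨l, hl⟩, hl1⟩ := (Subgroup.ne_bot_iff_exists_ne_one).1 hL
  have hl1' : l ≠ 1 := fun h => hl1 (Subtype.ext h)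
  set S : Set G := {n | n ∈ N ∧ n • α ∈ MulAction.orbit (MulAction.stabilizer G α) (l • α)} with hS
  have hlS : l ∈ S := ⟨hLN hl, MulAction.mem_orbit_self _⟩
  have hSL : Subgroup.closure S ≤ L := by
    rw [Subgroup.closure_le]
    rintro n ⟨hnN, hnorb⟩
    rw [← partA] at hnorb
    obtain ⟨⟨m, hm⟩, hmn⟩ := hnorb
    have hmn' : m • (l • α) = n • α := hmn
    rw [conj_smul α (hMle hm) l] at hmn'
    have hmlm : m * l * m⁻¹ ∈ L := conj_of_le_normalizer hML hm hl
    rw [← reg_eq N α hreg (hLN hmlm) hnN hmn']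
    exact hmlm
  have hnorm : MulAction.stabilizer G α ≤ Subgroup.normalizer ((Subgroup.closure S : Subgroup G) : Set G) := by
    apply le_normalizer_of_conj
    intro g hg x hx
    induction hx using Subgroup.closure_induction with
    | mem n hn =>
      apply Subgroup.subset_closure
      refine ⟨Subgroup.Normal.conj_mem ‹N.Normal› n hn.1 g, ?_⟩
      rw [← conj_smul α hg n]
      obtain ⟨h, hh⟩ := hn.2
      rw [← hh]
      exact ⟨⟨g, hg⟩ * h, mul_smul _ _ _⟩
    | one => simp
    | mul x y _ _ hx hy =>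
      have : g * (x * y) * g⁻¹ = (g * x * g⁻¹) * (g * y * g⁻¹) := by group
      rw [this]
      exact Subgroup.mul_mem _ hx hy
    | inv x _ hx =>
      have : g * x⁻¹ * g⁻¹ = (g * x * g⁻¹)⁻¹ := by group
      rw [this]
      exact Subgroup.inv_mem _ hx
  rcases irr N α hreg hco _ (le_trans hSL hLN) hnorm with hbot | htop
  · exfalso
    have : l ∈ Subgroup.closure S := Subgroup.subset_closure hlS
    rw [hbot, Subgroup.mem_bot] at this
    exact hl1' this
  · apply le_antisymm hLN
    rw [← htop]
    exact hSL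

end Cfsg.Agent.S3495
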