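import Cfsg.Statements.S3514
import Mathlib

set_option autoImplicit false
set_option linter.style.haveILetI false
open Cfsg

namespace Cfsg.Agent.S3514

open MulAction

section
variable {G X : Type*} [Group G] [MulAction G X]

theorem setOf_eq_orbit (K : Subgroup G) (v : X) : {u : X | ∃ k ∈ K, k • v = u} = orbit K v := by
  ext u
  constructor
  · rintro ⟨k, hk, rfl⟩
    exact ⟨⟨k, hk⟩, rfl⟩
  · rintro ⟨k, rfl⟩
    exact ⟨k.1, k.2, rfl⟩

theorem stabilizer_subgroup (K : Subgroup G) (β : X) :
    stabilizer K β = (stabilizer G β).subgroupOf K := by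
  ext x
  simp [Subgroup.mem_subgroupOf, mem_stabilizer_iff, Subgroup.smul_def]

theorem card_orbit_subgroup (K : Subgroup G) (β : X) :
    Nat.card (orbit K β) = (stabilizer G β).relIndex K := by
  rw [Subgroup.relIndex, ← stabilizer_subgroup, index_stabilizer, Nat.card_coe_set_eq]

theorem card_setOf (K : Subgroup G) (v : X) :
    Nat.card {u : X | ∃ k ∈ K, k • v = u} = (stabilizer G v).relIndex K := by
  rw [setOf_eq_orbit, card_orbit_subgroup]

end

section
variable {G : Type*} [Group G] [Finite G]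

theorem relIndex_sup_eq (S K : Subgroup G) [K.Normal] : S.relIndex (S ⊔ K) = S.relIndex K := by
  have h1 : Nat.card (S ⊓ K : Subgroup G) * K.relIndex S = Nat.card S := by
    have := Subgroup.relIndex_mul_relIndex (⊥ : Subgroup G) (S ⊓ K) S bot_le inf_le_left
    rwa [Subgroup.relIndex_bot_left, Subgroup.relIndex_bot_left, Subgroup.inf_relIndex_left] at this
  have h2 : Nat.card (S ⊓ K : Subgroup G) * S.relIndex K = Nat.card K := by
    have := Subgroup.relIndex_mul_relIndex (⊥ : Subgroup G) (S ⊓ K) K bot_le inf_le_right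
    rwa [Subgroup.relIndex_bot_left, Subgroup.relIndex_bot_left, Subgroup.inf_relIndex_right] at this
  have h3 : Nat.card S * S.relIndex (S ⊔ K) = Nat.card (S ⊔ K : Subgroup G) := by
    have := Subgroup.relIndex_mul_relIndex (⊥ : Subgroup G) S (S ⊔ K) bot_le le_sup_left
    rwa [Subgroup.relIndex_bot_left, Subgroup.relIndex_bot_left] at this
  have h4 : Nat.card K * K.relIndex S = Nat.card (S ⊔ K : Subgroup G) := by
    have := Subgroup.relIndex_mul_relIndex (⊥ : Subgroup G) K (S ⊔ K) bot_le le_sup_right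
    rwa [Subgroup.relIndex_bot_left, Subgroup.relIndex_bot_left, Subgroup.relIndex_sup_right] at this
  have ha : 0 < Nat.card (S ⊓ K : Subgroup G) := Nat.card_pos
  have hb : 0 < K.relIndex S := by
    apply Nat.pos_of_ne_zero
    show (K.subgroupOf S).index ≠ 0
    exact Subgroup.index_ne_zero_of_finite
  rw [← h4, ← h1, ← h2] at h3
  have h5 : (Nat.card (S ⊓ K : Subgroup G) * K.relIndex S) * S.relIndex (S ⊔ K) =
      (Nat.card (S ⊓ K : Subgroup G) * K.relIndex S) * S.relIndex K := by
    rw [h3]; ring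
  exact Nat.eq_of_mul_eq_mul_left (Nat.mul_pos ha hb) h5

/-- If `K ≤ H` is normalized by `H` then `[K : K ∩ S]` divides `[H : H ∩ S]`. -/
theorem partI (S H K : Subgroup G) (hKH : K ≤ H) (hn : H ≤ Subgroup.normalizer (K : Set G)) :
    S.relIndex K ∣ S.relIndex H := by
  haveI : (K.subgroupOf H).Normal := Subgroup.normal_subgroupOf_of_le_normalizer hn
  have h1 := relIndex_sup_eq (S.subgroupOf H) (K.subgroupOf H)
  have h2 : (S.subgroupOf H).relIndex (S.subgroupOf H ⊔ K.subgroupOf H) ∣ (S.subgroupOf H).index :=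
    Subgroup.relIndex_dvd_index_of_le le_sup_left
  rw [h1, Subgroup.relIndex_subgroupOf hKH] at h2
  exact h2

theorem partII_aux (N H : Subgroup G) (hn : H ≤ Subgroup.normalizer (N : Set G)) :
    H.relIndex (N ⊔ H) ∣ Nat.card N := by
  haveI : (N.subgroupOf (H ⊔ N)).Normal := Subgroup.normal_subgroupOf_sup_of_le_normalizer hn
  have h1 := relIndex_sup_eq (H.subgroupOf (H ⊔ N)) (N.subgroupOf (H ⊔ N))
  rw [← Subgroup.subgroupOf_sup le_sup_left le_sup_right, Subgroup.subgroupOf_self,
    Subgroup.relIndex_top_right, Subgroup.relIndex_subgroupOf le_sup_right] at h1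
  have h2 : H.relIndex N ∣ Nat.card N := Subgroup.relIndex_dvd_card H N
  rw [sup_comm]
  show (H.subgroupOf (H ⊔ N)).index ∣ Nat.card N
  rw [h1]
  exact h2

theorem partII (S N H : Subgroup G) (hn : H ≤ Subgroup.normalizer (N : Set G)) :
    S.relIndex (N ⊔ H) ∣ S.relIndex H * Nat.card N := by
  have h1 : S.relIndex (N ⊔ H) ∣ (S ⊓ H).relIndex (N ⊔ H) :=
    Subgroup.relIndex_dvd_of_le_left (N ⊔ H) inf_le_left
  have h2 := Subgroup.relIndex_mul_relIndex (S ⊓ H) H (N ⊔ H) inf_le_right le_sup_right
  rw [Subgroup.inf_relIndex_right] at h2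
  rw [← h2] at h1
  exact dvd_trans h1 (Nat.mul_dvd_mul_left _ (partII_aux N H hn))

end

/-- Let p be a prime, V a finite vector space over the field with p elements, and H a group of linear transformations of V all of whose orbits on V have size coprime to p. (i) Every normal subgroup K of H has all its orbits on V of size coprime to p. (ii) If N is a group of linear transformations of V of order coprime to p that is normalized by H, then the group generated by N and H has all its orbits on V of size coprime to p. -/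
theorem result (p : ℕ) [Fact p.Prime] {V : Type*} [AddCommGroup V] [Module (ZMod p) V] [Finite V]
    (H : Subgroup (V ≃ₗ[ZMod p] V)) (hH : ∀ v : V, ¬ p ∣ Nat.card {u : V | ∃ h ∈ H, h v = u}) :
    (∀ K : Subgroup (V ≃ₗ[ZMod p] V), K ≤ H → H ≤ Subgroup.normalizer (K : Set (V ≃ₗ[ZMod p] V)) →
        ∀ v : V, ¬ p ∣ Nat.card {u : V | ∃ k ∈ K, k v = u}) ∧
    (∀ N : Subgroup (V ≃ₗ[ZMod p] V), ¬ p ∣ Nat.card N → H ≤ Subgroup.normalizer (N : Set (V ≃ₗ[ZMod p] V)) →
        ∀ v : V, ¬ p ∣ Nat.card {u : V | ∃ x ∈ N ⊔ H, x v = u}) := by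
  haveI : Finite (V ≃ₗ[ZMod p] V) :=
    Finite.of_injective (fun f : V ≃ₗ[ZMod p] V => (f : V → V)) DFunLike.coe_injective
  have key : ∀ (K : Subgroup (V ≃ₗ[ZMod p] V)) (v : V),
      Nat.card {u : V | ∃ k ∈ K, k v = u} = (stabilizer (V ≃ₗ[ZMod p] V) v).relIndex K := by
    intro K v
    exact card_setOf K v
  constructor
  · intro K hKH hn v hdvd
    apply hH v
    rw [key] at hdvd ⊢
    exact dvd_trans hdvd (partI _ H K hKH hn)
  · intro N hN hn v hdvd
    rw [key] at hdvd
    have h1 := dvd_trans hdvd (partII (stabilizer (V ≃ₗ[ZMod p] V) v) N H hn)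
    rcases (Nat.Prime.dvd_mul (Fact.out : p.Prime)).1 h1 with h2 | h2
    · apply hH v
      rw [key]
      exact h2
    · exact hN h2

end Cfsg.Agent.S3514
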