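import Cfsg.Statements.S3498
import Cfsg.Agent.S3514
import Mathlib

set_option autoImplicit false
set_option linter.style.haveILetI false
open Cfsg

namespace Cfsg.Agent.S3498

open scoped Pointwise

/-- A maximal subgroup of a finite almost simple group does not have prime order. Here G is almost simple in the sense that it has a non-abelian simple normal subgroup T with trivial centralizer. -/
theorem result {G : Type*} [Group G] [Finite G] (T : Subgroup G) [T.Normal] (hT : IsSimpleGroup T) (hTc : ¬ IsMulCommutative T)
    (hC : Subgroup.centralizer (T : Set G) = ⊥) (H : Subgroup G) (hmax : IsCoatom H) : ¬ (Nat.card H).Prime := by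
  classical
  intro hprime
  set p := Nat.card H with hp
  haveI : Fact p.Prime := ⟨hprime⟩
  -- F0 : T is not a q-group
  have F0 : ∀ q : ℕ, q.Prime → ¬ IsPGroup q T := by
    intro q hq hTq
    haveI : Fact q.Prime := ⟨hq⟩
    haveI : Nontrivial T := hT.toNontrivial
    have hcn := IsPGroup.center_nontrivial hTq
    have : Subgroup.center T = ⊤ := by
      rcases hT.eq_bot_or_eq_top_of_normal (Subgroup.center T) inferInstance with h | h
      · exfalso
        have := (Subgroup.nontrivial_iff_ne_bot _).1 hcn
        exact this h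
      · exact h
    apply hTc
    refine ⟨⟨fun a b => ?_⟩⟩
    have ha : a ∈ Subgroup.center T := by rw [this]; trivial
    exact ((Subgroup.mem_center_iff.1 ha) b).symm
  have hsub : ∀ (K : Subgroup G) (q : ℕ), q.Prime → IsPGroup q K → T ≤ K → False := by
    intro K q hq hK hTK
    exact F0 q hq (hK.to_le hTK)
  -- simplicity of T seen inside G
  have hsimp : ∀ K : Subgroup G, K.Normal → K ≤ T → K = ⊥ ∨ K = T := by
    intro K hK hKT
    haveI : (K.subgroupOf T).Normal := inferInstance
    rcases hT.eq_bot_or_eq_top_of_normal (K.subgroupOf T) inferInstance with h | h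
    · left
      rw [Subgroup.subgroupOf_eq_bot] at h
      rw [disjoint_iff, inf_of_le_left hKT] at h
      exact h
    · right
      rw [Subgroup.subgroupOf_eq_top] at h
      exact le_antisymm hKT h
  have hHp : IsPGroup p H := IsPGroup.of_card (n := 1) (by rw [pow_one])
  -- F2 : H is a Sylow p-subgroup
  obtain ⟨P, hHP⟩ := hHp.exists_le_sylow
  have hPH : (P : Subgroup G) = H := by
    by_contra hne
    have hlt : H < (P : Subgroup G) := lt_of_le_of_ne hHP (Ne.symm hne)
    have htop := hmax.2 _ hlt
    exact hsub _ p hprime P.2 (by rw [htop]; exact le_top)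
  -- H is commutative
  haveI : IsCyclic H := isCyclic_of_prime_card (p := p) rfl
  have hHcomm : IsMulCommutative H := inferInstance
  -- T is not contained in H
  have hTH : ¬ T ≤ H := fun h => hsub H p hprime hHp h
  have hsup : H ⊔ T = ⊤ := by
    apply hmax.2
    refine lt_of_le_of_ne le_sup_left ?_
    intro h
    apply hTH
    rw [h]
    exact le_sup_right
  have hHne : H ≠ ⊥ := by
    intro h
    rw [hp, h, Subgroup.card_bot] at hprime
    exact Nat.not_prime_one hprime
  by_cases hHT : H ≤ T
  · -- case 2a : T = ⊤
    have hTtop : T = ⊤ := by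
      rw [← hsup]; exact (sup_eq_right.2 hHT).symm
    -- normalizer of H is H
    have hN : Subgroup.normalizer (H : Set G) = H := by
      by_contra hne
      have hlt : H < Subgroup.normalizer (H : Set G) := lt_of_le_of_ne Subgroup.le_normalizer (Ne.symm hne)
      have htop := hmax.2 _ hlt
      have hHn : H.Normal := Subgroup.normalizer_eq_top_iff.1 htop
      rcases hsimp H hHn hHT with h | h
      · exact hHne h
      · exact hTH (by rw [h])
    have hPn : Subgroup.normalizer ((P : Subgroup G) : Set G) ≤ Subgroup.centralizer ((P : Subgroup G) : Set G) := by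
      rw [hPH, hN]
      exact Subgroup.le_centralizer_iff_isMulCommutative.2 hHcomm
    have hcompl := MonoidHom.ker_transferSylow_isComplement' P hPn
    have hcard := hcompl.card_mul_card
    have hKn : (MonoidHom.transferSylow P hPn).ker.Normal := inferInstance
    have hPcard : Nat.card (P : Subgroup G) = p := by rw [hPH]
    rcases hsimp _ hKn (by rw [hTtop]; exact le_top) with h | h
    · rw [h, Subgroup.card_bot, one_mul, hPcard] at hcard
      apply F0 p hprime
      apply IsPGroup.of_card (n := 1)
      rw [pow_one, hcard, hTtop, Subgroup.card_top]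
    · rw [h, hTtop, Subgroup.card_top, hPcard] at hcard
      have hpos : 0 < Nat.card G := Nat.card_pos
      have : p = 1 := by
        have h2 : Nat.card G * p = Nat.card G * 1 := by rw [hcard, mul_one]
        exact Nat.eq_of_mul_eq_mul_left hpos h2
      exact hprime.one_lt.ne this.symm
  · -- case 2b : H ⊓ T = ⊥
    have hinf : H ⊓ T = ⊥ := by
      haveI : Fact (Nat.card H).Prime := ⟨hprime⟩
      rcases Subgroup.eq_bot_or_eq_top_of_prime_card (T.subgroupOf H) with h | h
      · rw [Subgroup.subgroupOf_eq_bot] at h
        rw [inf_comm]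
        exact disjoint_iff.1 h
      · exfalso
        rw [Subgroup.subgroupOf_eq_top] at h
        exact hHT h
    -- index of T is p
    have hTidx : T.index = p := by
      have h1 : T.relIndex (H ⊔ T) = T.relIndex H := Subgroup.relIndex_sup_right H T
      rw [hsup, Subgroup.relIndex_top_right] at h1
      rw [h1, ← Subgroup.inf_relIndex_right, inf_comm, hinf, Subgroup.relIndex_bot_left]
    -- H.index = card T
    have hHidx : H.index = Nat.card T := by
      have h1 := Subgroup.card_mul_index H
      have h2 := Subgroup.card_mul_index T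
      rw [hTidx] at h2
      rw [← h2, ← hp, mul_comm] at h1
      exact Nat.eq_of_mul_eq_mul_right hprime.pos h1
    -- a prime q dividing |T|
    haveI : Nontrivial T := hT.toNontrivial
    have hT1 : Nat.card T ≠ 1 := by
      have := Finite.one_lt_card (α := T)
      omega
    obtain ⟨q, hq, hqT⟩ := Nat.exists_prime_and_dvd hT1
    haveI : Fact q.Prime := ⟨hq⟩
    let Q : Sylow q T := default
    set Q' : Subgroup G := (Q : Subgroup T).map T.subtype with hQ'
    have hfrat : Subgroup.normalizer (Q' : Set G) ⊔ T = ⊤ := Sylow.normalizer_sup_eq_top Q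
    set N := Subgroup.normalizer (Q' : Set G) with hNdef
    have hpN : p ∣ Nat.card N := by
      have h1 : T.relIndex (N ⊔ T) = T.relIndex N := Subgroup.relIndex_sup_right N T
      rw [hfrat, Subgroup.relIndex_top_right, hTidx] at h1
      rw [h1]
      exact Subgroup.relIndex_dvd_card T N
    obtain ⟨y, hy⟩ := exists_prime_orderOf_dvd_card' (G := N) p hpN
    have hyord : orderOf (y : G) = p := by rw [Subgroup.orderOf_coe]; exact hy
    have hypg : IsPGroup p (Subgroup.zpowers (y : G)) := by
      apply IsPGroup.of_card (n := 1)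
      rw [Nat.card_zpowers, hyord, pow_one]
    obtain ⟨P', hP'⟩ := hypg.exists_le_sylow
    have hP'card : Nat.card (P' : Subgroup G) = p := by
      rw [Sylow.card_eq_multiplicity, ← Sylow.card_eq_multiplicity P, hPH]
    have hP'eq : Subgroup.zpowers (y : G) = (P' : Subgroup G) := by
      apply Subgroup.eq_of_le_of_card_ge hP'
      rw [hP'card, Nat.card_zpowers, hyord]
    obtain ⟨g, hg⟩ := MulAction.exists_smul_eq G P' P
    -- every element of H is g * y^i * g⁻¹
    have hHform : ∀ h ∈ H, ∃ y' ∈ N, h = g * y' * g⁻¹ := by
      intro h hh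
      rw [← hPH, ← hg, Sylow.coe_subgroup_smul, Subgroup.mem_pointwise_smul_iff_inv_smul_mem] at hh
      simp only [MulAut.smul_def, map_inv, MulAut.conj_inv_apply] at hh
      rw [← hP'eq] at hh
      refine ⟨g⁻¹ * h * g, ?_, by group⟩
      rw [Subgroup.mem_zpowers_iff] at hh
      obtain ⟨i, hi⟩ := hh
      rw [← hi]
      exact N.zpow_mem y.2 i
    -- Q'' = g Q' g⁻¹
    set Q'' : Subgroup G := Q'.map (MulAut.conj g).toMonoidHom with hQ''
    have hQ'T : Q' ≤ T := by
      rintro _ ⟨t, _, rfl⟩
      exact t.2
    have hQ''T : Q'' ≤ T := by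
      rintro _ ⟨v, hv, rfl⟩
      exact ‹T.Normal›.conj_mem v (hQ'T hv) g
    have hHQ'' : H ≤ Subgroup.normalizer (Q'' : Set G) := by
      have key : ∀ h ∈ H, ∀ u ∈ Q'', h * u * h⁻¹ ∈ Q'' := by
        intro h hh u hu
        obtain ⟨y', hy'N, rfl⟩ := hHform h hh
        obtain ⟨v, hv, rfl⟩ := hu
        refine ⟨y' * v * y'⁻¹, ?_, ?_⟩
        · exact (Subgroup.mem_normalizer_iff.1 hy'N v).1 hv
        · simp only [MulEquiv.toMonoidHom_eq_coe, MonoidHom.coe_coe, MulAut.conj_apply]
          group
      intro h hh
      rw [Subgroup.mem_normalizer_iff]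
      intro u
      constructor
      · exact key h hh u
      · intro hu
        have := key h⁻¹ (H.inv_mem hh) _ hu
        have e : h⁻¹ * (h * u * h⁻¹) * h⁻¹⁻¹ = u := by group
        rwa [e] at this
    have hQcard : Nat.card Q'' = Nat.card (Q : Subgroup T) := by
      rw [hQ'', Subgroup.card_map_of_injective (MulAut.conj g).injective, hQ',
        Subgroup.card_map_of_injective T.subtype_injective]
    have hQ''ne : Q'' ≠ ⊥ := by
      intro h
      have h1 : Nat.card Q'' = 1 := by rw [h, Subgroup.card_bot]
      rw [hQcard] at h1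
      have := Sylow.ne_bot_of_dvd_card Q hqT
      exact this (Subgroup.card_eq_one.1 h1)
    have hQ''H : ¬ Q'' ≤ H := by
      intro h
      apply hQ''ne
      rw [eq_bot_iff, ← hinf]
      exact le_inf h hQ''T
    have hsup2 : Q'' ⊔ H = ⊤ := by
      apply hmax.2
      refine lt_of_le_of_ne le_sup_right ?_
      intro h
      apply hQ''H
      rw [h]
      exact le_sup_left
    have hdvd := Cfsg.Agent.S3514.partII_aux Q'' H hHQ''
    rw [hsup2, Subgroup.relIndex_top_right, hHidx, hQcard] at hdvd
    obtain ⟨k, hk⟩ := IsPGroup.iff_card.1 Q.2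
    rw [hk] at hdvd
    obtain ⟨j, -, hj⟩ := (Nat.dvd_prime_pow hq).1 hdvd
    exact F0 q hq (IsPGroup.of_card hj)

end Cfsg.Agent.S3498
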