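import Cfsg.Statements.S3501
import Cfsg.Agent.Lib.Helper7.DR3
import Cfsg.Agent.Lib.Helper1.MaxSubgroupSolvable

set_option autoImplicit false
open Cfsg

namespace Cfsg.Agent.S3501

/-- Let a finite group G act faithfully and primitively on a finite set Ω with at least two points, and suppose G is not almost simple (it has no non-abelian simple normal subgroup with trivial centralizer). Then the derangements of G form a single conjugacy class if and only if G is sharply 2-transitive (2-transitive, and no non-identity element fixes two points). -/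
theorem result {G : Type*} [Group G] [Finite G] {Ω : Type*} [Fintype Ω] [MulAction G Ω] [FaithfulSMul G Ω] (hΩ : 2 ≤ Fintype.card Ω) (hprim : MulAction.IsPreprimitive G Ω) (hnas : ¬ ∃ T : Subgroup G, T.Normal ∧ IsSimpleGroup T ∧ ¬ IsMulCommutative T ∧ Subgroup.centralizer (T : Set G) = ⊥) :
    Nat.card {c : ConjClasses G // ∃ g : G, ConjClasses.mk g = c ∧ ∀ ω : Ω, g • ω ≠ ω} = 1 ↔ (MulAction.IsMultiplyPretransitive G Ω 2 ∧ ∀ g : G, g ≠ 1 → ∀ a b : Ω, a ≠ b → g • a = a → g • b ≠ b) := by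
  rw [Cfsg.Agent.Lib.Helper7.DR.card_classes_eq_one_iff]
  constructor
  · rintro ⟨⟨d0, hd0⟩, hconj⟩
    obtain ⟨a, b, hab⟩ := Fintype.one_lt_card_iff.1 (show 1 < Fintype.card Ω by omega)
    have hDL : ∀ L : Subgroup G, L.Normal → L ≠ ⊥ →
        ∀ d ∈ Cfsg.Agent.Lib.Helper7.DR.Der G Ω, d ∈ L := by
      intro L hLn hL d hd
      have := hLn
      obtain ⟨y, hyL, hyD⟩ := Cfsg.Agent.Lib.Helper7.DR.exists_der_in_normal hprim L hL a b hab
      obtain ⟨c, hc⟩ := isConj_iff.1 (hconj y d hyD hd)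
      rw [← hc]
      exact hLn.conj_mem y hyL c
    have hnt : Nontrivial G :=
      ⟨⟨d0, 1, fun h => by rw [h] at hd0; exact hd0 a (one_smul G a)⟩⟩
    obtain ⟨N, hNn, hNne, hNmin⟩ := Cfsg.Agent.Lib.Helper1.exists_minimal_normal (G := G)
    have := hNn
    by_cases hcomm : ∀ x ∈ N, ∀ y ∈ N, x * y = y * x
    · exact Cfsg.Agent.Lib.Helper7.DR.sharp_of_abelian hprim N hNne hcomm (hDL N hNn hNne) hconj
    · exact (Cfsg.Agent.Lib.Helper7.DR.false_of_nonabelian hprim hnas N hNne hNmin hcomm hDL d0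
        hd0 hconj a).elim
  · rintro ⟨h2, hsharp⟩
    exact Cfsg.Agent.Lib.Helper7.DR.conj_of_sharp h2 hsharp hΩ

end Cfsg.Agent.S3501
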