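import Cfsg.Statements.S3504
import Mathlib
-- import your own Cfsg.Agent.* helpers here

set_option autoImplicit false
open Cfsg

namespace Cfsg.Agent.S3504

theorem fpf_type {n : ℕ} (g : Equiv.Perm (Fin n)) (hp : (orderOf g).Prime) (hfix : ∀ i : Fin n, g i ≠ i) :
    orderOf g ∣ n ∧ g.cycleType = Multiset.replicate (n / orderOf g) (orderOf g) := by
  obtain ⟨k, hk⟩ := Equiv.Perm.cycleType_prime_order hp
  have hsum : g.cycleType.sum = n := by
    rw [Equiv.Perm.sum_cycleType]
    have : g.support = Finset.univ := by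
      ext i
      simp [Equiv.Perm.mem_support, hfix i]
    rw [this, Finset.card_univ, Fintype.card_fin]
  rw [hk, Multiset.sum_replicate, smul_eq_mul] at hsum
  have hdiv : n / orderOf g = k + 1 := by
    generalize orderOf g = q at *
    rw [← hsum]
    exact Nat.mul_div_cancel _ hp.pos
  refine ⟨⟨k + 1, by rw [mul_comm]; exact hsum.symm⟩, ?_⟩
  rw [hdiv, hk]

theorem exists_fpf {n : ℕ} (p : ℕ) (hp : p.Prime) (hpn : p ∣ n) (hn : 0 < n) :
    ∃ g : Equiv.Perm (Fin n), orderOf g = p ∧ ∀ i : Fin n, g i ≠ i := by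
  obtain ⟨k, rfl⟩ := hpn
  have hk : 0 < k := by
    rcases Nat.eq_zero_or_pos k with h | h
    · subst h; simp at hn
    · exact h
  obtain ⟨g, hg⟩ := (Equiv.Perm.exists_with_cycleType_iff (Fin (p * k)) (m := Multiset.replicate k p)).2
    ⟨by rw [Multiset.sum_replicate, smul_eq_mul, Fintype.card_fin, mul_comm], by
      intro a ha
      rw [Multiset.eq_of_mem_replicate ha]
      exact hp.two_le⟩
  refine ⟨g, ?_, ?_⟩
  · rw [← Equiv.Perm.lcm_cycleType, hg]
    have key : ∀ j : ℕ, (Multiset.replicate (j + 1) p).lcm = p := by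
      intro j
      induction j with
      | zero => simp
      | succ j ih =>
        rw [Multiset.replicate_succ, Multiset.lcm_cons, ih]
        simp
    obtain ⟨j, rfl⟩ : ∃ j, k = j + 1 := ⟨k - 1, by omega⟩
    exact key j
  · have hsupp : g.support.card = p * k := by
      rw [← Equiv.Perm.sum_cycleType, hg, Multiset.sum_replicate, smul_eq_mul, mul_comm]
    have : g.support = Finset.univ := by
      apply Finset.eq_univ_of_card
      rw [hsupp, Fintype.card_fin]
    intro i
    rw [← Equiv.Perm.mem_support, this]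
    exact Finset.mem_univ i

/-- For n ≥ 5, the fixed-point-free permutations of prime order in the symmetric group of degree n form a single conjugacy class if and only if n is a prime power. -/
theorem result (n : ℕ) (hn : 5 ≤ n) :
    Nat.card {c : ConjClasses (Equiv.Perm (Fin n)) // ∃ g : Equiv.Perm (Fin n), ConjClasses.mk g = c ∧ (orderOf g).Prime ∧ ∀ i : Fin n, g i ≠ i} = 1 ↔ IsPrimePow n := by
  have hn0 : 0 < n := by omega
  rw [isPrimePow_iff_unique_prime_dvd, Nat.card_eq_one_iff_unique]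
  constructor
  · rintro ⟨hsub, ⟨⟨c, g, hgc, hgp, hgf⟩⟩⟩
    refine ⟨orderOf g, ⟨hgp, (fpf_type g hgp hgf).1⟩, ?_⟩
    rintro q ⟨hq, hqn⟩
    obtain ⟨g', hg', hf'⟩ := exists_fpf q hq hqn hn0
    have := hsub.elim ⟨c, g, hgc, hgp, hgf⟩ ⟨ConjClasses.mk g', g', rfl, by rw [hg']; exact hq, hf'⟩
    have h2 : c = ConjClasses.mk g' := congrArg Subtype.val this
    rw [← hgc, ConjClasses.mk_eq_mk_iff_isConj, Equiv.Perm.isConj_iff_cycleType_eq] at h2
    rw [← hg', ← Equiv.Perm.lcm_cycleType, ← Equiv.Perm.lcm_cycleType, h2]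
  · rintro ⟨p, ⟨hp, hpn⟩, huniq⟩
    constructor
    · constructor
      rintro ⟨c, g, hgc, hgp, hgf⟩ ⟨c', g', hgc', hgp', hgf'⟩
      apply Subtype.ext
      show c = c'
      rw [← hgc, ← hgc', ConjClasses.mk_eq_mk_iff_isConj, Equiv.Perm.isConj_iff_cycleType_eq]
      have h1 := fpf_type g hgp hgf
      have h2 := fpf_type g' hgp' hgf'
      have e1 : orderOf g = p := huniq _ ⟨hgp, h1.1⟩
      have e2 : orderOf g' = p := huniq _ ⟨hgp', h2.1⟩
      rw [h1.2, h2.2, e1, e2]
    · obtain ⟨g, hg, hf⟩ := exists_fpf p hp hpn hn0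
      exact ⟨⟨ConjClasses.mk g, g, rfl, by rw [hg]; exact hp, hf⟩⟩

end Cfsg.Agent.S3504
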