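import Cfsg.Statements.S3508
import Mathlib
-- import your own Cfsg.Agent.* helpers here

set_option autoImplicit false
set_option linter.style.haveILetI false
open Cfsg

namespace Cfsg.Agent.S3508

open Polynomial in
theorem abstract_lin {p m : ℕ} [Fact p.Prime] {V : Type*} [AddCommGroup V] [Module (ZMod p) V] [Finite V]
    (hcard : Nat.card V = p ^ m) (φ : Module.End (ZMod p) V) (r : ℕ) (hφ : φ ^ (p ^ r) = 1)
    (j : ℕ) (hj : m < p ^ j) :
    φ ^ (p ^ j) = 1 ∧ ∑ i ∈ Finset.range (p ^ j), φ ^ i = 0 := by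
  have hp : p.Prime := Fact.out
  haveI : Module.Finite (ZMod p) V := Module.Finite.of_finite
  have hfin : Module.finrank (ZMod p) V = m := by
    have h1 := Module.natCard_eq_pow_finrank (K := ZMod p) (V := V)
    rw [hcard, Nat.card_eq_fintype_card, ZMod.card] at h1
    exact (Nat.pow_right_injective hp.two_le h1).symm
  -- polynomial identities
  have hpoly1 : ∀ n : ℕ, ((X : (ZMod p)[X]) - 1) ^ (p ^ n) = X ^ (p ^ n) - 1 := by
    intro n
    rw [sub_pow_char_pow, one_pow]
  have hδ : ∀ n : ℕ, (φ - 1) ^ (p ^ n) = φ ^ (p ^ n) - 1 := by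
    intro n
    have := congrArg (aeval φ) (hpoly1 n)
    simpa using this
  have hnil : (φ - 1) ^ (p ^ r) = 0 := by rw [hδ, hφ, sub_self]
  have hm : (φ - 1) ^ m = 0 := by
    rcases le_total (p ^ r) m with hle | hle
    · obtain ⟨c, rfl⟩ := Nat.exists_eq_add_of_le hle
      rw [pow_add, hnil, zero_mul]
    · have h1 := Module.End.ker_pow_eq_ker_pow_finrank_of_le (f := φ - 1) (le_of_eq_of_le hfin hle)
      rw [hnil, hfin] at h1
      have : LinearMap.ker ((φ - 1) ^ m) = ⊤ := by
        rw [← h1]
        exact LinearMap.ker_zero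
      exact LinearMap.ker_eq_top.1 this
  have hge : ∀ n : ℕ, m ≤ n → (φ - 1) ^ n = 0 := by
    intro n hn
    obtain ⟨c, rfl⟩ := Nat.exists_eq_add_of_le hn
    rw [pow_add, hm, zero_mul]
  constructor
  · have := hδ j
    rw [hge _ hj.le] at this
    exact (sub_eq_zero.1 this.symm)
  · have hpoly2 : (∑ i ∈ Finset.range (p ^ j), (X : (ZMod p)[X]) ^ i) = (X - 1) ^ (p ^ j - 1) := by
      have hX : (X : (ZMod p)[X]) - 1 ≠ 0 := by
        intro h
        have := congrArg (Polynomial.eval 0) h
        simp at this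
      apply mul_left_cancel₀ hX
      rw [mul_geom_sum, ← pow_succ', Nat.sub_add_cancel (Nat.one_le_two_pow.trans (Nat.pow_le_pow_left hp.two_le j) |>.trans' (by omega)), hpoly1]
    have := congrArg (aeval φ) hpoly2
    simp only [map_sum, map_pow, aeval_X, map_sub, map_one] at this
    rw [this]
    apply hge
    omega

theorem abstract_add {p m : ℕ} [Fact p.Prime] {V : Type*} [AddCommGroup V] [Module (ZMod p) V] [Finite V]
    (hcard : Nat.card V = p ^ m) (f : V →+ V) (r : ℕ)
    (hφ : ∀ a, f^[p ^ r] a = a) (j : ℕ) (hj : m < p ^ j) :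
    (∀ a, f^[p ^ j] a = a) ∧ ∀ v, ∑ i ∈ Finset.range (p ^ j), f^[i] v = 0 := by
  let F : Module.End (ZMod p) V := AddMonoidHom.toZModLinearMap p f
  have hF : ∀ (i : ℕ) (x : V), (F ^ i) x = f^[i] x := by
    intro i x
    rw [Module.End.pow_apply]
    rfl
  have hfr : F ^ (p ^ r) = 1 := by
    ext x
    rw [hF, hφ]
    rfl
  obtain ⟨h1, h2⟩ := abstract_lin hcard F r hfr j hj
  constructor
  · intro a
    have := congrArg (fun g : Module.End (ZMod p) V => g a) h1
    simp only [hF] at this
    exact this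
  · intro v
    have := congrArg (fun g : Module.End (ZMod p) V => g v) h2
    simp only [LinearMap.sum_apply, hF, LinearMap.zero_apply] at this
    exact this

theorem abstract_grp {p m : ℕ} (hp : p.Prime) {A : Type*} [CommGroup A] [Finite A]
    (hcard : Nat.card A = p ^ m) (hexp : ∀ a : A, a ^ p = 1) (φ : A →* A) (r : ℕ)
    (hφ : ∀ a, φ^[p ^ r] a = a) (j : ℕ) (hj : m < p ^ j) :
    (∀ a, φ^[p ^ j] a = a) ∧ ∀ v, ∏ i ∈ Finset.range (p ^ j), φ^[i] v = 1 := by
  haveI : Fact p.Prime := ⟨hp⟩
  have hexp' : ∀ x : Additive A, p • x = 0 := by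
    intro x
    have := hexp x.toMul
    exact congrArg Additive.ofMul this
  have hcard' : Nat.card (Additive A) = p ^ m := hcard
  obtain ⟨h1, h2⟩ := @abstract_add p m _ (Additive A) _ (AddCommGroup.zmodModule (n := p) hexp') _ hcard'
    (MonoidHom.toAdditive φ) r hφ j hj
  constructor
  · exact h1
  · intro v
    have := h2 (Additive.ofMul v)
    have h3 := congrArg Additive.toMul this
    rw [toMul_sum] at h3
    exact h3

/-- Let a finite group G act faithfully on a set Ω with p ^ m points (p prime) and have an elementary abelian normal p-subgroup N acting regularly on Ω (so G is a group of affine transformations of an m-dimensional space over the field with p elements). If G contains an element of order p ^ r with r ≥ 1, then p ^ (r − 1) ≤ m. In particular an element of order p ^ m forces m ≤ 2, and m ≤ 1 when p is odd. -/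
theorem result {G : Type*} [Group G] [Finite G] {Ω : Type*} [Fintype Ω] [MulAction G Ω] [FaithfulSMul G Ω] (p m : ℕ) (hp : p.Prime) (hcard : Fintype.card Ω = p ^ m)
    (N : Subgroup G) [N.Normal] (hNc : IsMulCommutative N) (hNp : ∀ n ∈ N, n ^ p = 1)
    (hNtr : MulAction.IsPretransitive N Ω) (hNreg : ∀ ω : Ω, MulAction.stabilizer N ω = ⊥)
    (g : G) (r : ℕ) (hr : 1 ≤ r) (hg : orderOf g = p ^ r) :
    p ^ (r - 1) ≤ m ∧ (r = m → m ≤ 2 ∧ (2 < p → m ≤ 1)) := by
  classical
  have hfirst : p ^ (r - 1) ≤ m := by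
    by_contra hcon
    rw [not_le] at hcon
    -- a base point
    have hΩ : 0 < Fintype.card Ω := by rw [hcard]; exact pow_pos hp.pos m
    obtain ⟨ω₀⟩ : Nonempty Ω := Fintype.card_pos_iff.1 hΩ
    -- |N| = p^m
    have hbij : Function.Bijective (fun n : N => n • ω₀) := by
      constructor
      · intro a b hab
        have hab' : a • ω₀ = b • ω₀ := hab
        have : b⁻¹ * a ∈ MulAction.stabilizer N ω₀ := by
          rw [MulAction.mem_stabilizer_iff, mul_smul, hab', inv_smul_smul]
        rw [hNreg ω₀, Subgroup.mem_bot] at this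
        rw [← mul_one b, ← this, mul_inv_cancel_left]
      · intro ω
        exact MulAction.exists_smul_eq N ω₀ ω
    have hNcard : Nat.card N = p ^ m := by
      rw [Nat.card_eq_of_bijective _ hbij, Nat.card_eq_fintype_card, hcard]
    letI : CommGroup N := { (inferInstance : Group N) with mul_comm := fun a b => hNc.is_comm.comm a b }
    let φ : N →* N := (MulAut.conjNormal g : MulAut N).toMonoidHom
    have hφ1 : ∀ n : N, ((φ n : N) : G) = g * n * g⁻¹ := fun n => MulAut.conjNormal_apply g n
    have hφi : ∀ (i : ℕ) (n : N), ((φ^[i] n : N) : G) = g ^ i * n * (g ^ i)⁻¹ := by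
      intro i
      induction i with
      | zero => intro n; simp
      | succ i ih =>
        intro n
        rw [Function.iterate_succ_apply', hφ1, ih, pow_succ']
        group
    have hgr : g ^ (p ^ r) = 1 := by rw [← hg]; exact pow_orderOf_eq_one g
    have hφr : ∀ n : N, φ^[p ^ r] n = n := by
      intro n
      apply Subtype.ext
      rw [hφi, hgr]
      simp
    obtain ⟨hk1, hk2⟩ := abstract_grp hp hNcard (fun a => Subtype.ext (hNp a a.2)) φ r hφr (r - 1) hcon
    obtain ⟨v, hv⟩ := MulAction.exists_smul_eq N ω₀ (g • ω₀)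
    have hkey : ∀ (i : ℕ) (n : N), g ^ i • (n • ω₀) = (φ^[i] n * ∏ l ∈ Finset.range i, φ^[l] v) • ω₀ := by
      intro i
      induction i with
      | zero => intro n; simp
      | succ i ih =>
        intro n
        rw [pow_succ', mul_smul, ih]
        have h1 : ∀ w : N, g • (w • ω₀) = (φ w * v) • ω₀ := by
          intro w
          have e1 : (φ w * v) • ω₀ = φ w • (v • ω₀) := mul_smul _ _ _
          rw [e1, hv]
          show g • ((w : G) • ω₀) = ((φ w : N) : G) • (g • ω₀)
          rw [hφ1, ← mul_smul, ← mul_smul]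
          congr 1
          group
        rw [h1]
        congr 1
        rw [map_mul, map_prod, Finset.prod_range_succ', Function.iterate_succ_apply',
          Function.iterate_zero, id, mul_assoc]
        congr 2
        apply Finset.prod_congr rfl
        intro l _
        rw [Function.iterate_succ_apply']
    have htriv : g ^ (p ^ (r - 1)) = 1 := by
      apply eq_of_smul_eq_smul (α := Ω)
      intro ω
      obtain ⟨n, rfl⟩ := MulAction.exists_smul_eq N ω₀ ω
      rw [hkey, hk1, hk2, mul_one, one_smul]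
    have hdvd := orderOf_dvd_of_pow_eq_one htriv
    rw [hg, Nat.pow_dvd_pow_iff_le_right hp.one_lt] at hdvd
    omega
  refine ⟨hfirst, ?_⟩
  intro hrm
  subst hrm
  constructor
  · by_contra hcon
    rw [not_le] at hcon
    obtain ⟨t, rfl⟩ : ∃ t, r = t + 3 := ⟨r - 3, by omega⟩
    have h1 : 2 ^ (t + 3 - 1) ≤ p ^ (t + 3 - 1) := Nat.pow_le_pow_left hp.two_le _
    have h2 : t < 2 ^ t := Nat.lt_two_pow_self
    have h3 : 2 ^ (t + 3 - 1) = 4 * 2 ^ t := by
      rw [show t + 3 - 1 = t + 2 by omega, pow_add]; ring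
    omega
  · intro hp3
    by_contra hcon
    rw [not_le] at hcon
    obtain ⟨t, rfl⟩ : ∃ t, r = t + 2 := ⟨r - 2, by omega⟩
    have h1 : 3 ^ (t + 2 - 1) ≤ p ^ (t + 2 - 1) := Nat.pow_le_pow_left hp3 _
    have h2 : t < 3 ^ t := Nat.lt_pow_self (by norm_num)
    have h3 : 3 ^ (t + 2 - 1) = 3 * 3 ^ t := by
      rw [show t + 2 - 1 = t + 1 by omega, pow_succ]; ring
    omega

end Cfsg.Agent.S3508
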