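import Cfsg.Statements.S3511
import Mathlib

set_option autoImplicit false
open Cfsg

namespace Cfsg.Agent.S3511

/-- "ω lies in a regular cycle of g". -/
def Reg {G Ω : Type*} [Group G] [MulAction G Ω] (g : G) (ω : Ω) : Prop :=
  ∀ x ∈ Subgroup.zpowers g, x • ω = ω → x = 1

theorem reg_iff {G Ω : Type*} [Group G] [MulAction G Ω] (g : G) (ω : Ω) :
    MulAction.stabilizer (Subgroup.zpowers g) ω = ⊥ ↔ Reg g ω := by
  rw [Subgroup.eq_bot_iff_forall]
  constructor
  · intro h x hx hxω
    have := h ⟨x, hx⟩ (by rw [MulAction.mem_stabilizer_iff]; exact hxω)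
    exact congrArg Subtype.val this
  · intro h x hx
    rw [MulAction.mem_stabilizer_iff] at hx
    have := h x.1 x.2 hx
    exact Subtype.ext this

theorem key {G Ω : Type*} [Group G] [Finite G] [MulAction G Ω] (g : G) (ω : Ω) (p : ℕ) (hp : p.Prime)
    (hpp : p * p ∣ orderOf g) (h : Reg (g ^ p) ω) : Reg g ω := by
  intro x hx hxω
  by_contra hx1
  have hox : orderOf x ≠ 1 := fun h1 => hx1 (orderOf_eq_one_iff.1 h1)
  obtain ⟨q, hq, hqx⟩ := Nat.exists_prime_and_dvd hox
  obtain ⟨m, hm⟩ := hqx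
  have hmpos : 0 < m := by
    rcases Nat.eq_zero_or_pos m with h0 | h0
    · rw [h0, mul_zero] at hm
      exact absurd hm (orderOf_pos x).ne'
    · exact h0
  set y := x ^ m with hy
  have hyord : orderOf y = q := by
    rw [hy, orderOf_pow_of_dvd hmpos.ne' ⟨q, by rw [hm, mul_comm]⟩, hm]
    exact Nat.mul_div_cancel _ hmpos
  have hyω : y • ω = ω := by
    have : x ∈ MulAction.stabilizer G ω := hxω
    exact (MulAction.stabilizer G ω).pow_mem this m
  have hymem : y ∈ Subgroup.zpowers g := (Subgroup.zpowers g).pow_mem hx m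
  rw [Subgroup.mem_zpowers_iff] at hymem
  obtain ⟨b, hb⟩ := hymem
  have hyq : y ^ q = 1 := by rw [← hyord]; exact pow_orderOf_eq_one y
  have h1 : g ^ (b * q) = 1 := by
    rw [zpow_mul, hb, zpow_natCast, hyq]
  have h2 : (orderOf g : ℤ) ∣ b * q := orderOf_dvd_iff_zpow_eq_one.2 h1
  have h3 : ((p * p : ℕ) : ℤ) ∣ b * q := dvd_trans (by exact_mod_cast hpp) h2
  have hpZ : Prime (p : ℤ) := Nat.prime_iff_prime_int.1 hp
  have hpb : (p : ℤ) ∣ b := by
    have h4 : (p : ℤ) ∣ b * q := dvd_trans ⟨(p : ℤ), by push_cast; ring⟩ h3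
    rcases hpZ.dvd_or_dvd h4 with h5 | h5
    · exact h5
    · have h6 : p ∣ q := by exact_mod_cast h5
      have h7 : p = q := (Nat.prime_dvd_prime_iff_eq hp hq).1 h6
      rw [← h7] at h3
      push_cast at h3
      have : (p : ℤ) * p ∣ b * p := h3
      exact (mul_dvd_mul_iff_right hpZ.ne_zero).1 this
  obtain ⟨c, hc⟩ := hpb
  have hy2 : y ∈ Subgroup.zpowers (g ^ p) := by
    rw [Subgroup.mem_zpowers_iff]
    refine ⟨c, ?_⟩
    rw [← hb, hc, zpow_mul, zpow_natCast]
  have := h y hy2 hyω
  rw [this, orderOf_one] at hyord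
  exact hq.one_lt.ne hyord

theorem main {G Ω : Type*} [Group G] [Finite G] [MulAction G Ω]
    (h : ∀ g : G, Squarefree (orderOf g) → ∃ ω : Ω, Reg g ω) :
    ∀ (n : ℕ) (g : G), orderOf g = n → ∃ ω : Ω, Reg g ω := by
  intro n
  induction n using Nat.strong_induction_on with
  | _ n ih =>
    intro g hg
    by_cases hsq : Squarefree (orderOf g)
    · exact h g hsq
    · rw [Nat.squarefree_iff_prime_squarefree] at hsq
      push Not at hsq
      obtain ⟨p, hp, hpp⟩ := hsq
      have hpdvd : p ∣ orderOf g := dvd_trans (dvd_mul_right p p) hpp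
      have hord : orderOf (g ^ p) = orderOf g / p := orderOf_pow_of_dvd hp.ne_zero hpdvd
      have hlt : orderOf (g ^ p) < n := by
        rw [hord, ← hg]
        exact Nat.div_lt_self (orderOf_pos g) hp.one_lt
      obtain ⟨ω, hω⟩ := ih _ hlt (g ^ p) rfl
      exact ⟨ω, key g ω p hp hpp hω⟩

/-- Let a finite group G act faithfully on a set Ω. If every element of G of square-free order has a regular cycle (an orbit of the cyclic group it generates with trivial stabilizer), then every element of G has a regular cycle. -/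
theorem result {G : Type*} [Group G] [Finite G] {Ω : Type*} [MulAction G Ω] [FaithfulSMul G Ω]
    (h : ∀ g : G, Squarefree (orderOf g) → ∃ ω : Ω, MulAction.stabilizer (Subgroup.zpowers g) ω = ⊥) (g : G) :
    ∃ ω : Ω, MulAction.stabilizer (Subgroup.zpowers g) ω = ⊥ := by
  simp only [reg_iff] at h ⊢
  exact main h _ g rfl

end Cfsg.Agent.S3511
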