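import Cfsg.Statements.S3516
import Mathlib
-- import your own Cfsg.Agent.* helpers here

set_option autoImplicit false
set_option linter.style.haveILetI false
open Cfsg

namespace Cfsg.Agent.S3516

section
variable {p : ℕ} [Fact p.Prime] {d : ℕ}

/-- for a proper subspace `W` and a unit `lam` there is `D` fixing `W` pointwise with `det D = lam` -/
theorem exists_dil (W : Submodule (ZMod p) (Fin d → ZMod p)) (hW : W < ⊤) (lam : ZMod p) (hlam : lam ≠ 0) :
    ∃ D : (Fin d → ZMod p) ≃ₗ[ZMod p] (Fin d → ZMod p), (∀ w ∈ W, D w = w) ∧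
      LinearMap.det (D : (Fin d → ZMod p) →ₗ[ZMod p] (Fin d → ZMod p)) = lam := by
  obtain ⟨f, hf0, hWf⟩ := Submodule.exists_le_ker_of_lt_top W hW
  have : ∃ v₀, f v₀ ≠ 0 := by
    by_contra h
    push Not at h
    exact hf0 (LinearMap.ext h)
  obtain ⟨v₀, hv₀⟩ := this
  have hfv : f (((lam - 1) / f v₀) • v₀) = lam - 1 := by
    rw [map_smul, smul_eq_mul, div_mul_cancel₀ _ hv₀]
  have hunit : IsUnit (1 + f (((lam - 1) / f v₀) • v₀)) := by
    rw [hfv, add_sub_cancel]
    exact isUnit_iff_ne_zero.2 hlam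
  refine ⟨LinearEquiv.dilatransvection hunit, ?_, ?_⟩
  · intro w hw
    have hfw : f w = 0 := hWf hw
    rw [LinearEquiv.dilatransvection.apply, hfw, zero_smul, add_zero]
  · rw [LinearEquiv.dilatransvection.coe_toLinearMap, LinearMap.transvection.det, hfv]
    ring

end

/-- a permutation that agrees on every triple with an affine map from `G` is affine (`p` odd) -/
theorem affine_of_closed (p : ℕ) [Fact p.Prime] (hp : p ≠ 2) (d : ℕ) (G : Subgroup (Equiv.Perm (Fin d → ZMod p)))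
    (haff : (G : Set (Equiv.Perm (Fin d → ZMod p))) ⊆ {τ : Equiv.Perm (Fin d → ZMod p) | ∃ (A : (Fin d → ZMod p) ≃ₗ[ZMod p] (Fin d → ZMod p)) (b : Fin d → ZMod p), ∀ x, τ x = A x + b})
    (σ : Equiv.Perm (Fin d → ZMod p))
    (h3 : ∀ t : Fin 3 → (Fin d → ZMod p), ∃ g ∈ G, ∀ i, σ (t i) = g (t i)) :
    ∃ (A : (Fin d → ZMod p) ≃ₗ[ZMod p] (Fin d → ZMod p)) (b : Fin d → ZMod p), ∀ x, σ x = A x + b := by
  have hp' : p.Prime := Fact.out
  -- σ preserves affine combinations
  have hcomb : ∀ (x y : Fin d → ZMod p) (lam : ZMod p),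
      σ (lam • x + (1 - lam) • y) = lam • σ x + (1 - lam) • σ y := by
    intro x y lam
    obtain ⟨g, hgG, hg⟩ := h3 ![x, y, lam • x + (1 - lam) • y]
    obtain ⟨A, b, hA⟩ := haff hgG
    have h0 := hg 0
    have h1 := hg 1
    have h2 := hg 2
    simp only [Matrix.cons_val_zero, Matrix.cons_val_one, Matrix.cons_val_two, Matrix.head_cons,
      Matrix.tail_cons] at h0 h1 h2
    rw [h2, h0, h1, hA, hA, hA, map_add, map_smul, map_smul]
    simp only [smul_add, sub_smul, one_smul]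
    abel
  have h2ne : (2 : ZMod p) ≠ 0 := by
    intro h
    have h' : ((2 : ℕ) : ZMod p) = 0 := by exact_mod_cast h
    rw [ZMod.natCast_eq_zero_iff] at h'
    exact hp ((Nat.prime_dvd_prime_iff_eq hp' Nat.prime_two).1 h')
  have hsmul : ∀ (c : ZMod p) (x : Fin d → ZMod p), σ (c • x) - σ 0 = c • (σ x - σ 0) := by
    intro c x
    have := hcomb x 0 c
    rw [smul_zero, add_zero] at this
    rw [this, smul_sub]
    simp only [sub_smul, one_smul]
    abel
  have hadd : ∀ x y : Fin d → ZMod p, σ (x + y) - σ 0 = (σ x - σ 0) + (σ y - σ 0) := by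
    intro x y
    have hh : (1 : ZMod p) - 2⁻¹ = 2⁻¹ := by
      field_simp
      norm_num
    have h1 := hcomb x y (2⁻¹ : ZMod p)
    rw [hh, ← smul_add, ← smul_add] at h1
    have h2 := hsmul 2 ((2⁻¹ : ZMod p) • (x + y))
    rw [smul_smul, mul_inv_cancel₀ h2ne, one_smul, h1] at h2
    rw [h2, smul_sub, smul_smul, mul_inv_cancel₀ h2ne, one_smul, two_smul]
    abel
  let L : (Fin d → ZMod p) →ₗ[ZMod p] (Fin d → ZMod p) :=
    { toFun := fun x => σ x - σ 0
      map_add' := hadd
      map_smul' := fun c x => by simpa using hsmul c x }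
  have hbij : Function.Bijective L := by
    constructor
    · intro x y hxy
      have : σ x - σ 0 = σ y - σ 0 := hxy
      exact σ.injective (sub_left_injective this)
    · intro z
      obtain ⟨x, hx⟩ := σ.surjective (z + σ 0)
      exact ⟨x, by show σ x - σ 0 = z; rw [hx, add_sub_cancel_right]⟩
  refine ⟨LinearEquiv.ofBijective L hbij, σ 0, ?_⟩
  intro x
  show σ x = (σ x - σ 0) + σ 0
  rw [sub_add_cancel]

/-- Let p be an odd prime, d ≥ 3, and G a group of affine permutations x ↦ Ax + b of V = F_p^d containing all translations and all maps x ↦ Ax with A of determinant 1. Then the 3-closure of G is the full affine group: a permutation σ of V agrees on every triple of points with some element of G if and only if σ is an affine map. -/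
theorem result (p : ℕ) [Fact p.Prime] (hp : p ≠ 2) (d : ℕ) (hd : 3 ≤ d) (G : Subgroup (Equiv.Perm (Fin d → ZMod p)))
    (haff : (G : Set (Equiv.Perm (Fin d → ZMod p))) ⊆ {τ : Equiv.Perm (Fin d → ZMod p) | ∃ (A : (Fin d → ZMod p) ≃ₗ[ZMod p] (Fin d → ZMod p)) (b : Fin d → ZMod p), ∀ x, τ x = A x + b})
    (htrans : ∀ b : Fin d → ZMod p, ∃ g ∈ G, ∀ x, g x = x + b)
    (hsl : ∀ A : (Fin d → ZMod p) ≃ₗ[ZMod p] (Fin d → ZMod p), LinearMap.det (A : (Fin d → ZMod p) →ₗ[ZMod p] (Fin d → ZMod p)) = 1 → ∃ g ∈ G, ∀ x, g x = A x)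
    (σ : Equiv.Perm (Fin d → ZMod p)) :
    (∀ t : Fin 3 → (Fin d → ZMod p), ∃ g ∈ G, ∀ i, σ (t i) = g (t i)) ↔ σ ∈ {τ : Equiv.Perm (Fin d → ZMod p) | ∃ (A : (Fin d → ZMod p) ≃ₗ[ZMod p] (Fin d → ZMod p)) (b : Fin d → ZMod p), ∀ x, τ x = A x + b} := by
  constructor
  · intro h3
    exact affine_of_closed p hp d G haff σ h3
  · rintro ⟨A, b, hA⟩ t
    set W : Submodule (ZMod p) (Fin d → ZMod p) := Submodule.span (ZMod p) {t 1 - t 0, t 2 - t 0} with hW
    have hWlt : W < ⊤ := by
      apply Submodule.lt_top_of_finrank_lt_finrank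
      rw [Module.finrank_fin_fun]
      have h1 := finrank_span_finset_le_card (R := ZMod p) ({t 1 - t 0, t 2 - t 0} : Finset (Fin d → ZMod p))
      have h2 : ({t 1 - t 0, t 2 - t 0} : Finset (Fin d → ZMod p)).card ≤ 2 := Finset.card_le_two
      have h3 : Set.finrank (ZMod p) (↑({t 1 - t 0, t 2 - t 0} : Finset (Fin d → ZMod p)) : Set (Fin d → ZMod p)) =
          Module.finrank (ZMod p) W := by
        rw [hW, Set.finrank, Finset.coe_pair]
      omega
    have hdetA : LinearMap.det (A : (Fin d → ZMod p) →ₗ[ZMod p] (Fin d → ZMod p)) ≠ 0 :=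
      (LinearEquiv.isUnit_det' A).ne_zero
    obtain ⟨D, hDW, hDdet⟩ := exists_dil W hWlt _ (inv_ne_zero hdetA)
    have hBdet : LinearMap.det ((D.trans A : (Fin d → ZMod p) ≃ₗ[ZMod p] (Fin d → ZMod p)) :
        (Fin d → ZMod p) →ₗ[ZMod p] (Fin d → ZMod p)) = 1 := by
      rw [LinearEquiv.coe_trans, LinearMap.det_comp, hDdet, mul_inv_cancel₀ hdetA]
    obtain ⟨g₁, hg₁G, hg₁⟩ := hsl (D.trans A) hBdet
    obtain ⟨g₂, hg₂G, hg₂⟩ := htrans (A (t 0) + b - A (D (t 0)))
    refine ⟨g₂ * g₁, G.mul_mem hg₂G hg₁G, ?_⟩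
    have hmem : ∀ i : Fin 3, t i - t 0 ∈ W := by
      intro i
      fin_cases i
      · simp
      · exact Submodule.subset_span (by simp)
      · exact Submodule.subset_span (by simp)
    intro i
    rw [hA, Equiv.Perm.mul_apply, hg₂, hg₁, LinearEquiv.trans_apply]
    have h1 := hDW _ (hmem i)
    rw [map_sub] at h1
    have h2 : D (t i) = t i - t 0 + D (t 0) := by rw [← h1]; abel
    rw [h2, map_add, map_sub]
    abel

end Cfsg.Agent.S3516
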