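import Cfsg.Statements.S3515
import Mathlib
import Cfsg.Agent.S3516
-- import your own Cfsg.Agent.* helpers here

set_option autoImplicit false
set_option linter.style.haveILetI false
open Cfsg

namespace Cfsg.Agent.S3515

theorem four_points : ∀ x : Fin 2 → ZMod 2, x ≠ ![1, 1] → x = ![0, 0] ∨ x = ![1, 0] ∨ x = ![0, 1] := by
  decide

theorem perm_fix {α : Type*} (τ : Equiv.Perm α) (dd : α) (h : ∀ x, x ≠ dd → τ x = x) : τ = 1 := by
  ext x
  rw [Equiv.Perm.one_apply]
  by_cases hx : x = dd
  · subst hx
    by_contra hne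
    have h1 := h (τ x) hne
    exact hne (τ.injective h1)
  · exact h x hx

/-- Every primitive affine permutation group of degree p² is 3-closed. Let p be a prime and G a group of permutations of the plane V = F_p² consisting of affine maps x ↦ Ax + b, containing all translations, and acting primitively on V. Then any permutation σ of V that agrees on every triple of points with some element of G (σ preserves every G-orbit on ordered triples) already lies in G. -/
theorem result (p : ℕ) [Fact p.Prime] (G : Subgroup (Equiv.Perm (Fin 2 → ZMod p)))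
    (haff : (G : Set (Equiv.Perm (Fin 2 → ZMod p))) ⊆ {τ : Equiv.Perm (Fin 2 → ZMod p) | ∃ (A : (Fin 2 → ZMod p) ≃ₗ[ZMod p] (Fin 2 → ZMod p)) (b : Fin 2 → ZMod p), ∀ x, τ x = A x + b})
    (htrans : ∀ b : Fin 2 → ZMod p, ∃ g ∈ G, ∀ x, g x = x + b) (hprim : MulAction.IsPreprimitive G (Fin 2 → ZMod p))
    (σ : Equiv.Perm (Fin 2 → ZMod p)) (hσ : (∀ t : Fin 3 → (Fin 2 → ZMod p), ∃ g ∈ G, ∀ i, σ (t i) = g (t i))) : σ ∈ G := by
  by_cases hp2 : p = 2
  · subst hp2
    obtain ⟨g, hgG, hg⟩ := hσ ![![0, 0], ![1, 0], ![0, 1]]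
    have h0 := hg 0
    have h1 := hg 1
    have h2 := hg 2
    simp only [Matrix.cons_val_zero, Matrix.cons_val_one, Matrix.cons_val_two, Matrix.head_cons,
      Matrix.tail_cons] at h0 h1 h2
    have hτ : g⁻¹ * σ = 1 := by
      apply perm_fix _ ![1, 1]
      intro x hx
      rw [Equiv.Perm.mul_apply, Equiv.Perm.inv_eq_iff_eq]
      rcases four_points x hx with rfl | rfl | rfl
      · exact h0
      · exact h1
      · exact h2
    have : σ = g := by
      have := congrArg (fun τ => g * τ) hτ
      simpa using this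
    rw [this]
    exact hgG
  · obtain ⟨A, b, hA⟩ := Cfsg.Agent.S3516.affine_of_closed p hp2 2 G haff σ hσ
    obtain ⟨g, hgG, hg⟩ := hσ ![0, Pi.single 0 1, Pi.single 1 1]
    obtain ⟨A', b', hA'⟩ := haff hgG
    have h0 := hg 0
    have h1 := hg 1
    have h2 := hg 2
    simp only [Matrix.cons_val_zero, Matrix.cons_val_one, Matrix.cons_val_two, Matrix.head_cons,
      Matrix.tail_cons] at h0 h1 h2
    rw [hA, hA', map_zero, map_zero, zero_add, zero_add] at h0
    rw [hA, hA', h0, add_left_inj] at h1 h2
    have hAA : (A : (Fin 2 → ZMod p) →ₗ[ZMod p] (Fin 2 → ZMod p)) = A' := by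
      apply LinearMap.pi_ext
      intro i x
      have hsingle : (Pi.single i x : Fin 2 → ZMod p) = x • Pi.single i 1 := by
        rw [← Pi.single_smul, smul_eq_mul, mul_one]
      rw [hsingle, map_smul, map_smul]
      congr 1
      fin_cases i
      · exact h1
      · exact h2
    have : σ = g := by
      ext x : 1
      rw [hA, hA', h0]
      congr 1
      exact congrArg (fun L : (Fin 2 → ZMod p) →ₗ[ZMod p] (Fin 2 → ZMod p) => L x) hAA
    rw [this]
    exact hgG

end Cfsg.Agent.S3515
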