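import Cfsg.Statements.S3517
import Mathlib

set_option autoImplicit false
open Cfsg
open Module

namespace Cfsg.Agent.S3517

theorem sumExtend_inl {K V ι : Type*} [Field K] [AddCommGroup V] [Module K V]
    (v : ι → V) (hv : LinearIndependent K v) (i : ι) :
    Basis.sumExtend hv (Sum.inl i) = v i := by
  classical
  simp only [Basis.sumExtend, Basis.reindex_apply, Basis.coe_extend]
  rfl

/-- Two linearly independent families with the same index type in a finite-dimensional space
are related by a linear automorphism. -/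
theorem exists_equiv_of_li {K V ι : Type*} [Field K] [AddCommGroup V] [Module K V]
    [FiniteDimensional K V]
    (u v : ι → V) (hu : LinearIndependent K u) (hv : LinearIndependent K v) :
    ∃ A : V ≃ₗ[K] V, ∀ i, A (u i) = v i := by
  classical
  set bu := Basis.sumExtend hu
  set bv := Basis.sumExtend hv
  have fu : Finite (ι ⊕ Basis.sumExtendIndex hu) := Module.Finite.finite_basis bu
  have fv : Finite (ι ⊕ Basis.sumExtendIndex hv) := Module.Finite.finite_basis bv
  have : Finite ι := Finite.of_injective (Sum.inl : ι → ι ⊕ Basis.sumExtendIndex hu) Sum.inl_injective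
  have : Finite (Basis.sumExtendIndex hu) := Finite.of_injective (Sum.inr : _ → ι ⊕ Basis.sumExtendIndex hu) Sum.inr_injective
  have : Finite (Basis.sumExtendIndex hv) := Finite.of_injective (Sum.inr : _ → ι ⊕ Basis.sumExtendIndex hv) Sum.inr_injective
  have h1 := Module.finrank_eq_nat_card_basis bu
  have h2 := Module.finrank_eq_nat_card_basis bv
  rw [Nat.card_sum] at h1 h2
  have h3 : Nat.card (Basis.sumExtendIndex hu) = Nat.card (Basis.sumExtendIndex hv) := by omega
  obtain ⟨e⟩ := Finite.card_eq.1 h3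
  refine ⟨bu.equiv bv (Equiv.sumCongr (Equiv.refl ι) e), ?_⟩
  intro i
  rw [← sumExtend_inl u hu i, Basis.equiv_apply]
  simp [bv, sumExtend_inl]

theorem single {d : ℕ} (x x' : Fin d → ZMod 2) (hx : x ≠ 0) (hx' : x' ≠ 0) :
    ∃ A : (Fin d → ZMod 2) ≃ₗ[ZMod 2] (Fin d → ZMod 2), A x = x' := by
  obtain ⟨A, hA⟩ := exists_equiv_of_li (K := ZMod 2) (fun _ : Unit => x) (fun _ : Unit => x')
    (LinearIndependent.of_subsingleton () hx) (LinearIndependent.of_subsingleton () hx')
  exact ⟨A, hA ()⟩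

theorem neg_eq_self {d : ℕ} (y : Fin d → ZMod 2) : -y = y := by
  ext i
  have : ∀ a : ZMod 2, -a = a := by decide
  exact this (y i)

theorem li_pair {d : ℕ} (x y : Fin d → ZMod 2) (hx : x ≠ 0) (hy : y ≠ 0) (hxy : x ≠ y) :
    LinearIndependent (ZMod 2) ![x, y] := by
  rw [LinearIndependent.pair_iff]
  intro s t h
  have h01 : ∀ a : ZMod 2, a = 0 ∨ a = 1 := by decide
  have hs : s = 0 ∨ s = 1 := h01 s
  have ht : t = 0 ∨ t = 1 := h01 t
  rcases hs with rfl | rfl <;> rcases ht with rfl | rfl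
  · exact ⟨rfl, rfl⟩
  · simp at h; exact (hy h).elim
  · simp at h; exact (hx h).elim
  · simp at h
    have : x = -y := eq_neg_of_add_eq_zero_left h
    rw [neg_eq_self] at this
    exact (hxy this).elim

theorem pair {d : ℕ} (x y x' y' : Fin d → ZMod 2) (h0 : x = 0 ↔ x' = 0) (h1 : y = 0 ↔ y' = 0)
    (h2 : x = y ↔ x' = y') :
    ∃ A : (Fin d → ZMod 2) ≃ₗ[ZMod 2] (Fin d → ZMod 2), A x = x' ∧ A y = y' := by
  by_cases hx : x = 0
  · have hx' := h0.1 hx
    by_cases hy : y = 0
    · have hy' := h1.1 hy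
      refine ⟨LinearEquiv.refl _ _, ?_, ?_⟩
      · rw [hx, hx']; simp
      · rw [hy, hy']; simp
    · have hy' : y' ≠ 0 := fun h => hy (h1.2 h)
      obtain ⟨A, hA⟩ := single y y' hy hy'
      refine ⟨A, ?_, hA⟩
      rw [hx, hx']; simp
  · have hx' : x' ≠ 0 := fun h => hx (h0.2 h)
    by_cases hy : y = 0
    · have hy' := h1.1 hy
      obtain ⟨A, hA⟩ := single x x' hx hx'
      refine ⟨A, hA, ?_⟩
      rw [hy, hy']; simp
    · have hy' : y' ≠ 0 := fun h => hy (h1.2 h)
      by_cases hxy : x = y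
      · have hxy' := h2.1 hxy
        obtain ⟨A, hA⟩ := single x x' hx hx'
        refine ⟨A, hA, ?_⟩
        rw [← hxy, ← hxy']; exact hA
      · have hxy' : x' ≠ y' := fun h => hxy (h2.2 h)
        obtain ⟨A, hA⟩ := exists_equiv_of_li (K := ZMod 2) ![x, y] ![x', y']
          (li_pair x y hx hy hxy) (li_pair x' y' hx' hy' hxy')
        refine ⟨A, ?_, ?_⟩
        · simpa using hA 0
        · simpa using hA 1

/-- For d ≥ 3, the 3-closure of the affine group AGL_d(2) acting on F_2^d is the full symmetric group: every permutation of F_2^d agrees on every ordered triple of points with some affine map (AGL_d(2) is 3-transitive). -/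
theorem result (d : ℕ) (hd : 3 ≤ d) (σ : Equiv.Perm (Fin d → ZMod 2)) (t : Fin 3 → (Fin d → ZMod 2)) :
    ∃ (A : (Fin d → ZMod 2) ≃ₗ[ZMod 2] (Fin d → ZMod 2)) (b : Fin d → ZMod 2), ∀ i, σ (t i) = A (t i) + b := by
  obtain ⟨A, hA1, hA2⟩ := pair (t 1 - t 0) (t 2 - t 0) (σ (t 1) - σ (t 0)) (σ (t 2) - σ (t 0))
    (by rw [sub_eq_zero, sub_eq_zero, σ.injective.eq_iff])
    (by rw [sub_eq_zero, sub_eq_zero, σ.injective.eq_iff])
    (by rw [sub_left_inj, sub_left_inj, σ.injective.eq_iff])
  refine ⟨A, σ (t 0) - A (t 0), ?_⟩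
  have key : ∀ i, A (t i - t 0) = σ (t i) - σ (t 0) → σ (t i) = A (t i) + (σ (t 0) - A (t 0)) := by
    intro i h
    rw [map_sub] at h
    have : σ (t i) = (A (t i) - A (t 0)) + σ (t 0) := by rw [h]; abel
    rw [this]; abel
  intro i
  fin_cases i
  · simp
  · exact key 1 hA1
  · exact key 2 hA2

end Cfsg.Agent.S3517
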