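import Cfsg.Statements.S3524
import Mathlib

set_option autoImplicit false
open Cfsg

namespace Cfsg.Agent.S3524

/-- A permutation group with a base is closed at one level above the base size. Let G be a group of permutations of a set Ω and suppose some k points α₁, …, α_k are fixed simultaneously only by the identity of G (a base of size k). Then G is (k+1)-closed: a permutation of Ω that agrees on every (k+1)-tuple of points with some element of G belongs to G. -/
theorem result {Ω : Type*} (G : Subgroup (Equiv.Perm Ω)) (k : ℕ) (α : Fin k → Ω)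
    (hbase : ∀ g ∈ G, (∀ i, g (α i) = α i) → g = 1) (σ : Equiv.Perm Ω)
    (hσ : ∀ t : Fin (k + 1) → Ω, ∃ g ∈ G, ∀ i, σ (t i) = g (t i)) : σ ∈ G := by
  classical
  rcases isEmpty_or_nonempty Ω with hΩ | ⟨⟨ω0⟩⟩
  · have : σ = 1 := by
      ext ω; exact (hΩ.false ω).elim
    rw [this]; exact G.one_mem
  -- for each ω choose g_ω
  have key : ∀ ω : Ω, ∃ g ∈ G, (∀ i : Fin k, σ (α i) = g (α i)) ∧ σ ω = g ω := by
    intro ω
    obtain ⟨g, hg, h⟩ := hσ (Fin.snoc α ω)
    refine ⟨g, hg, ?_, ?_⟩
    · intro i
      have := h (Fin.castSucc i)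
      simpa using this
    · have := h (Fin.last k)
      simpa using this
  obtain ⟨g0, hg0, hg0α, -⟩ := key ω0
  have : σ = g0 := by
    ext ω
    obtain ⟨g, hg, hgα, hgω⟩ := key ω
    have : g0⁻¹ * g = 1 := by
      apply hbase _ (G.mul_mem (G.inv_mem hg0) hg)
      intro i
      rw [Equiv.Perm.mul_apply, ← hgα i, hg0α i]
      simp
    have : g = g0 := by
      have := congrArg (fun x => g0 * x) this
      simpa using this
    rw [hgω, this]
  rw [this]; exact hg0

end Cfsg.Agent.S3524
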