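import Cfsg.Statements.S3532
import Cfsg.Agent.Lib.Helper7.AffSpec
import Cfsg.Agent.Lib.Helper4.SL2Ord4

set_option autoImplicit false
open Cfsg

namespace Cfsg.Agent.S3532

open Cfsg.Agent.Lib.Helper7

/-- Let q ≥ 4 be a prime power and L = PSL(2,q). There is a finite solvable group with the same set of element orders as L × L (so L × L is not determined by its spectrum). -/
theorem result {F : Type*} [Field F] [Fintype F] (hF : 4 ≤ Fintype.card F) :
    ∃ (H : Type) (_ : Group H) (_ : Finite H), Group.IsSolvable H ∧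
      Set.range (orderOf : H → ℕ) = Set.range (orderOf : Matrix.ProjectiveSpecialLinearGroup (Fin 2) F × Matrix.ProjectiveSpecialLinearGroup (Fin 2) F → ℕ) := by
  classical
  haveI hcp : CharP F (ringChar F) := ringChar.charP F
  haveI hpf : Fact (ringChar F).Prime := ⟨CharP.char_is_prime F (ringChar F)⟩
  obtain ⟨n, -, hq⟩ := FiniteField.card F (ringChar F)
  have hS : Set.range (orderOf : Matrix.ProjectiveSpecialLinearGroup (Fin 2) F → ℕ) =
      {m : ℕ | m ∣ ringChar F ∨ m ∣ (Fintype.card F - 1) / Nat.gcd 2 (Fintype.card F - 1) ∨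
        m ∣ (Fintype.card F + 1) / Nat.gcd 2 (Fintype.card F - 1)} := by
    by_cases h2 : 2 ∣ Fintype.card F
    · exact Cfsg.Agent.Lib.Helper4.SL2Ord.spectrum_even (ringChar F) h2
    · exact Cfsg.Agent.Lib.Helper4.SL2Ord.spectrum_odd (ringChar F) h2 (by omega)
  have hq2 : (ringChar F) ^ (2 * (n : ℕ)) - 1 = (Fintype.card F + 1) * (Fintype.card F - 1) := by
    rw [pow_mul', ← hq]
    have := Nat.sq_sub_sq (Fintype.card F) 1
    rwa [one_pow] at this
  have hd1 : Nat.gcd 2 (Fintype.card F - 1) ∣ Fintype.card F - 1 := Nat.gcd_dvd_right _ _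
  have hd2 : Nat.gcd 2 (Fintype.card F - 1) ∣ Fintype.card F + 1 := by
    have e : Fintype.card F + 1 = (Fintype.card F - 1) + 2 := by omega
    rw [e]
    exact Nat.dvd_add hd1 (Nat.gcd_dvd_left _ _)
  have ha : (Fintype.card F - 1) / Nat.gcd 2 (Fintype.card F - 1) ∣
      (ringChar F) ^ (2 * (n : ℕ)) - 1 := by
    rw [hq2]
    exact Dvd.dvd.mul_left (Nat.div_dvd_of_dvd hd1) _
  have hb : (Fintype.card F + 1) / Nat.gcd 2 (Fintype.card F - 1) ∣
      (ringChar F) ^ (2 * (n : ℕ)) - 1 := by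
    rw [hq2]
    exact Dvd.dvd.mul_right (Nat.div_dvd_of_dvd hd2) _
  have hn : 2 * (n : ℕ) ≠ 0 := by
    have := n.pos
    omega
  obtain ⟨H, iG, iF, hsol, hH⟩ := exists_solvable_spectrum (ringChar F) (2 * (n : ℕ)) _ _ hn ha hb
  refine ⟨H, iG, iF, hsol, ?_⟩
  rw [hH, range_orderOf_prod_eq _ _ hS hS]
  exact lcm_sets_eq _ _ _

end Cfsg.Agent.S3532
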