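import Cfsg.Statements.S3546
import Mathlib

set_option autoImplicit false
set_option linter.style.haveILetI false
open Cfsg

namespace Cfsg.Agent.S3546

open MulAction

/-- Burnside's lemma in `Nat.card` form. -/
theorem burnside {G Ω : Type*} [Group G] [Fintype G] [MulAction G Ω] [Finite Ω] :
    ∑ g : G, Nat.card (fixedBy Ω g) = Nat.card (orbitRel.Quotient G Ω) * Nat.card G := by
  classical
  haveI : Fintype Ω := Fintype.ofFinite Ω
  haveI : ∀ g : G, Fintype (fixedBy Ω g) := fun g => Fintype.ofFinite _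
  haveI : Fintype (orbitRel.Quotient G Ω) := Fintype.ofFinite _
  have := sum_card_fixedBy_eq_card_orbits_mul_card_group G Ω
  simp only [Nat.card_eq_fintype_card]
  exact this

/-- the set of derangements -/
def Der (G Ω : Type*) [Group G] [MulAction G Ω] : Set G := {g : G | ∀ ω : Ω, g • ω ≠ ω}

/-- the subgroup generated by derangements -/
def DD (G Ω : Type*) [Group G] [MulAction G Ω] : Subgroup G := Subgroup.closure (Der G Ω)

theorem fix_pos_of_not_mem {G Ω : Type*} [Group G] [MulAction G Ω] [Finite Ω] (g : G)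
    (hg : g ∉ DD G Ω) : 1 ≤ Nat.card (fixedBy Ω g) := by
  have : g ∉ Der G Ω := fun h => hg (Subgroup.subset_closure h)
  simp only [Der, Set.mem_ofPred_eq, not_forall, not_not] at this
  obtain ⟨ω, hω⟩ := this
  haveI : Nonempty (fixedBy Ω g) := ⟨⟨ω, hω⟩⟩
  exact Nat.one_le_iff_ne_zero.2 Nat.card_pos.ne'

/-- The basic counting identity. -/
theorem counting {G Ω : Type*} [Group G] [Fintype G] [MulAction G Ω] [Finite Ω] [Nonempty Ω]
    [DecidablePred (· ∈ DD G Ω)]
    (htrans : IsPretransitive G Ω) :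
    Nat.card (orbitRel.Quotient (DD G Ω) Ω) * Nat.card (DD G Ω) +
      ∑ g : {x : G // x ∉ DD G Ω}, Nat.card (fixedBy Ω (g : G)) = Nat.card G := by
  classical
  have h1 : ∑ g : G, Nat.card (fixedBy Ω g) = Nat.card G := by
    rw [burnside]
    have : Nat.card (orbitRel.Quotient G Ω) = 1 := by
      haveI := (pretransitive_iff_subsingleton_quotient G Ω).1 htrans
      haveI : Nonempty (orbitRel.Quotient G Ω) := (nonempty_quotient_iff _).mpr inferInstance
      exact Nat.card_unique
    rw [this, one_mul]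
  have h2 : ∑ g : DD G Ω, Nat.card (fixedBy Ω (g : G)) =
      Nat.card (orbitRel.Quotient (DD G Ω) Ω) * Nat.card (DD G Ω) := by
    have := burnside (G := DD G Ω) (Ω := Ω)
    rw [← this]
    rfl
  rw [← h1, ← h2]
  exact Fintype.sum_subtype_add_sum_subtype (· ∈ DD G Ω) (fun g => Nat.card (fixedBy Ω g))

theorem main {G Ω : Type*} [Group G] [Finite G] [MulAction G Ω] [Finite Ω] [Nonempty Ω]
    (htrans : IsPretransitive G Ω) :
    Nat.card (orbitRel.Quotient (DD G Ω) Ω) = 1 ∧
    ∀ g : G, g ∉ DD G Ω → Nat.card (fixedBy Ω g) = 1 := by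
  classical
  haveI : Fintype G := Fintype.ofFinite G
  have hc := counting (G := G) (Ω := Ω) htrans
  set d := Nat.card (orbitRel.Quotient (DD G Ω) Ω) with hd
  have hdpos : 1 ≤ d := by
    haveI : Nonempty (orbitRel.Quotient (DD G Ω) Ω) := (nonempty_quotient_iff _).mpr inferInstance
    exact Nat.one_le_iff_ne_zero.2 Nat.card_pos.ne'
  have hsplit : Nat.card G = Nat.card (DD G Ω) + Fintype.card {x : G // x ∉ DD G Ω} := by
    rw [Nat.card_eq_fintype_card, Nat.card_eq_fintype_card]
    have := Fintype.card_subtype_compl (fun x : G => x ∈ DD G Ω)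
    have hle : Fintype.card {x : G // x ∈ DD G Ω} ≤ Fintype.card G := Fintype.card_subtype_le _
    have h3 : Fintype.card (DD G Ω) = Fintype.card {x : G // x ∈ DD G Ω} := rfl
    omega
  have hge : Fintype.card {x : G // x ∉ DD G Ω} ≤
      ∑ g : {x : G // x ∉ DD G Ω}, Nat.card (fixedBy Ω (g : G)) := by
    have : ∑ _g : {x : G // x ∉ DD G Ω}, 1 ≤
        ∑ g : {x : G // x ∉ DD G Ω}, Nat.card (fixedBy Ω (g : G)) :=
      Finset.sum_le_sum (fun g _ => fix_pos_of_not_mem g.1 g.2)
    simpa using this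
  have hDpos : 0 < Nat.card (DD G Ω) := Nat.card_pos
  have hd1 : d = 1 := by
    by_contra hne
    have h2 : 2 ≤ d := by omega
    have : 2 * Nat.card (DD G Ω) ≤ d * Nat.card (DD G Ω) := Nat.mul_le_mul_right _ h2
    omega
  refine ⟨hd1, ?_⟩
  rw [hd1, one_mul] at hc
  have hsum : ∑ g : {x : G // x ∉ DD G Ω}, Nat.card (fixedBy Ω (g : G)) =
      ∑ _g : {x : G // x ∉ DD G Ω}, 1 := by
    simp only [Finset.sum_const, Finset.card_univ, smul_eq_mul, mul_one]
    omega
  intro g hg
  by_contra hne
  have hlt : ∑ _g : {x : G // x ∉ DD G Ω}, 1 <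
      ∑ g : {x : G // x ∉ DD G Ω}, Nat.card (fixedBy Ω (g : G)) := by
    apply Finset.sum_lt_sum (fun g _ => fix_pos_of_not_mem g.1 g.2)
    refine ⟨⟨g, hg⟩, Finset.mem_univ _, ?_⟩
    have := fix_pos_of_not_mem g hg
    show 1 < Nat.card (fixedBy Ω g)
    omega
  omega

/-- Let G act faithfully and transitively on a finite set and let D be the subgroup of G generated by the derangements (the elements fixing no point). Then D is itself transitive, and D contains every element of G whose number of fixed points is different from 1. -/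
theorem result {G Ω : Type*} [Group G] [Finite G] [MulAction G Ω] [FaithfulSMul G Ω] [Finite Ω]
    (htrans : MulAction.IsPretransitive G Ω) :
    MulAction.IsPretransitive ↥(Subgroup.closure {g : G | ∀ ω : Ω, g • ω ≠ ω}) Ω ∧
    ∀ g : G, Nat.card (MulAction.fixedBy Ω g) ≠ 1 → g ∈ Subgroup.closure {g : G | ∀ ω : Ω, g • ω ≠ ω} := by
  rcases isEmpty_or_nonempty Ω with hΩ | hΩ
  · refine ⟨⟨fun x => (hΩ.false x).elim⟩, ?_⟩
    intro g _
    apply Subgroup.subset_closure
    intro ω
    exact (hΩ.false ω).elim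
  · obtain ⟨h1, h2⟩ := main (G := G) (Ω := Ω) htrans
    refine ⟨?_, ?_⟩
    · rw [pretransitive_iff_subsingleton_quotient]
      have : Finite (orbitRel.Quotient (DD G Ω) Ω) := inferInstance
      exact (Nat.card_eq_one_iff_unique.1 h1).1
    · intro g hg
      by_contra hgD
      exact hg (h2 g hgD)

end Cfsg.Agent.S3546
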