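import Cfsg.Statements.S3547
import Cfsg.Agent.S3546
import Mathlib

set_option autoImplicit false
set_option linter.style.haveILetI false
open Cfsg

namespace Cfsg.Agent.S3547

open MulAction Cfsg.Agent.S3546

theorem card_fixedBy_prod {G Ω : Type*} [Group G] [MulAction G Ω] [Finite Ω] (g : G) :
    Nat.card (fixedBy (Ω × Ω) g) = Nat.card (fixedBy Ω g) * Nat.card (fixedBy Ω g) := by
  rw [← Nat.card_prod]
  apply Nat.card_congr
  refine ⟨fun x => (⟨x.1.1, congrArg Prod.fst x.2⟩, ⟨x.1.2, congrArg Prod.snd x.2⟩),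
    fun y => ⟨(y.1.1, y.2.1), Prod.ext y.1.2 y.2.2⟩, ?_, ?_⟩
  · intro x; rfl
  · intro y; rfl

theorem counting2 {G Ω : Type*} [Group G] [Fintype G] [MulAction G Ω] [Finite Ω] [Nonempty Ω]
    [DecidablePred (· ∈ DD G Ω)]
    (htrans : IsPretransitive G Ω) :
    Nat.card (orbitRel.Quotient (DD G Ω) (Ω × Ω)) * Nat.card (DD G Ω) +
      Fintype.card {x : G // x ∉ DD G Ω} = Nat.card (orbitRel.Quotient G (Ω × Ω)) * Nat.card G := by
  classical
  have hfin : Finite G := Finite.of_fintype G
  obtain ⟨-, hone⟩ := main (G := G) (Ω := Ω) htrans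
  have h1 := burnside (G := G) (Ω := Ω × Ω)
  have h2 : ∑ g : DD G Ω, Nat.card (fixedBy (Ω × Ω) (g : G)) =
      Nat.card (orbitRel.Quotient (DD G Ω) (Ω × Ω)) * Nat.card (DD G Ω) := by
    have := burnside (G := DD G Ω) (Ω := Ω × Ω)
    rw [← this]
    rfl
  rw [← h1, ← h2]
  have h3 := Fintype.sum_subtype_add_sum_subtype (· ∈ DD G Ω) (fun g => Nat.card (fixedBy (Ω × Ω) g))
  rw [← h3]
  congr 1
  have : ∀ g : {x : G // x ∉ DD G Ω}, Nat.card (fixedBy (Ω × Ω) (g : G)) = 1 := by
    intro g
    rw [card_fixedBy_prod, hone g.1 g.2]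
  simp only [this, Finset.sum_const, Finset.card_univ, smul_eq_mul, mul_one]

/-- Let G act faithfully and transitively on a finite set Ω, let D be the subgroup generated by the derangements, and let r_G and r_D be the numbers of orbits of G and of D on ordered pairs of points (the permutation ranks). Then r_D − 1 = (r_G − 1)·[G : D]. -/
theorem result {G Ω : Type*} [Group G] [Finite G] [MulAction G Ω] [FaithfulSMul G Ω] [Finite Ω]
    (htrans : MulAction.IsPretransitive G Ω) :
    Nat.card (MulAction.orbitRel.Quotient ↥(Subgroup.closure {g : G | ∀ ω : Ω, g • ω ≠ ω}) (Ω × Ω)) - 1 =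
      (Nat.card (MulAction.orbitRel.Quotient G (Ω × Ω)) - 1) * (Subgroup.closure {g : G | ∀ ω : Ω, g • ω ≠ ω}).index := by
  classical
  rcases isEmpty_or_nonempty Ω with hΩ | hΩ
  · have e1 : IsEmpty (MulAction.orbitRel.Quotient ↥(Subgroup.closure {g : G | ∀ ω : Ω, g • ω ≠ ω}) (Ω × Ω)) := by
      refine ⟨fun q => ?_⟩
      induction q using Quotient.inductionOn' with
      | _ x => exact hΩ.false x.1
    have e2 : IsEmpty (MulAction.orbitRel.Quotient G (Ω × Ω)) := by
      refine ⟨fun q => ?_⟩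
      induction q using Quotient.inductionOn' with
      | _ x => exact hΩ.false x.1
    rw [Nat.card_of_isEmpty, Nat.card_of_isEmpty]
    simp
  · haveI : Fintype G := Fintype.ofFinite G
    have hc := counting2 (G := G) (Ω := Ω) htrans
    change Nat.card (orbitRel.Quotient (DD G Ω) (Ω × Ω)) - 1 =
      (Nat.card (orbitRel.Quotient G (Ω × Ω)) - 1) * (DD G Ω).index
    set rD := Nat.card (orbitRel.Quotient (DD G Ω) (Ω × Ω))
    set rG := Nat.card (orbitRel.Quotient G (Ω × Ω))
    have hsplit : Nat.card G = Nat.card (DD G Ω) + Fintype.card {x : G // x ∉ DD G Ω} := by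
      rw [Nat.card_eq_fintype_card, Nat.card_eq_fintype_card]
      have := Fintype.card_subtype_compl (fun x : G => x ∈ DD G Ω)
      have hle : Fintype.card {x : G // x ∈ DD G Ω} ≤ Fintype.card G := Fintype.card_subtype_le _
      have h3 : Fintype.card (DD G Ω) = Fintype.card {x : G // x ∈ DD G Ω} := rfl
      omega
    have hidx : Nat.card (DD G Ω) * (DD G Ω).index = Nat.card G := Subgroup.card_mul_index _
    have hDpos : 0 < Nat.card (DD G Ω) := Nat.card_pos
    have hrD : 1 ≤ rD := by
      haveI : Nonempty (orbitRel.Quotient (DD G Ω) (Ω × Ω)) := (nonempty_quotient_iff _).mpr inferInstance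
      exact Nat.one_le_iff_ne_zero.2 Nat.card_pos.ne'
    have hrG : 1 ≤ rG := by
      haveI : Nonempty (orbitRel.Quotient G (Ω × Ω)) := (nonempty_quotient_iff _).mpr inferInstance
      exact Nat.one_le_iff_ne_zero.2 Nat.card_pos.ne'
    set i := (DD G Ω).index
    set c := Nat.card (DD G Ω)
    -- rD * c + (c*i - c) = rG * (c * i)
    have hipos : 1 ≤ i := by
      rcases Nat.eq_zero_or_pos i with h0 | h0
      · rw [h0, mul_zero] at hidx
        have : 0 < Nat.card G := Nat.card_pos
        omega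
      · exact h0
    obtain ⟨rD', hrD'⟩ : ∃ k, rD = k + 1 := ⟨rD - 1, by omega⟩
    obtain ⟨rG', hrG'⟩ : ∃ k, rG = k + 1 := ⟨rG - 1, by omega⟩
    rw [hrD', hrG']
    simp only [Nat.add_sub_cancel]
    have h5 : (rD' + 1) * c + Fintype.card {x : G // x ∉ DD G Ω} = (rG' + 1) * (c * i) := by
      rw [hidx, ← hrD', ← hrG']; exact hc
    have h6 : c * i = c + Fintype.card {x : G // x ∉ DD G Ω} := by rw [hidx]; exact hsplit
    have h7 : c * rD' = c * (rG' * i) := by nlinarith
    exact Nat.eq_of_mul_eq_mul_left hDpos h7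

end Cfsg.Agent.S3547
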