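import Cfsg.Statements.S3548
import Cfsg.Agent.S3546
import Mathlib

set_option autoImplicit false
set_option linter.style.haveILetI false
open Cfsg

namespace Cfsg.Agent.S3548

open MulAction Cfsg.Agent.S3546

section
variable {G Ω : Type*} [Group G] [MulAction G Ω]

theorem der_conj (k g : G) (hg : g ∈ Der G Ω) : k * g * k⁻¹ ∈ Der G Ω := by
  intro ω h
  apply hg (k⁻¹ • ω)
  have : k⁻¹ • ((k * g * k⁻¹) • ω) = k⁻¹ • ω := by rw [h]
  simpa [mul_smul] using this

theorem DD_conj (k x : G) (hx : x ∈ DD G Ω) : k * x * k⁻¹ ∈ DD G Ω := by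
  change x ∈ Subgroup.closure (Der G Ω) at hx
  induction hx using Subgroup.closure_induction with
  | mem y hy => exact Subgroup.subset_closure (der_conj k y hy)
  | one => simp only [mul_one, mul_inv_cancel]; exact (DD G Ω).one_mem
  | mul a b _ _ ha hb =>
    have : k * (a * b) * k⁻¹ = (k * a * k⁻¹) * (k * b * k⁻¹) := by group
    rw [this]; exact (DD G Ω).mul_mem ha hb
  | inv a _ ha =>
    have : k * a⁻¹ * k⁻¹ = (k * a * k⁻¹)⁻¹ := by group
    rw [this]; exact (DD G Ω).inv_mem ha

theorem stabilizer_subgroup (K : Subgroup G) (β : Ω) :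
    stabilizer K β = (stabilizer G β).subgroupOf K := by
  ext x
  simp [Subgroup.mem_subgroupOf, mem_stabilizer_iff, Subgroup.smul_def]

theorem card_orbit_subgroup (K : Subgroup G) (β : Ω) :
    Nat.card (orbit K β) = (stabilizer G β).relIndex K := by
  rw [Subgroup.relIndex, ← stabilizer_subgroup, index_stabilizer, Nat.card_coe_set_eq]

end

section
variable {G Ω : Type*} [Group G] [Finite G] [MulAction G Ω] [Finite Ω] [Nonempty Ω]

theorem two_fix_mem (htrans : IsPretransitive G Ω) (g : G) (α β : Ω) (hab : α ≠ β)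
    (ha : g • α = α) (hb : g • β = β) : g ∈ DD G Ω := by
  by_contra hg
  have h1 := (main (G := G) (Ω := Ω) htrans).2 g hg
  have := (Nat.card_eq_one_iff_unique.1 h1).1
  have h2 : (⟨α, ha⟩ : fixedBy Ω g) = ⟨β, hb⟩ := Subsingleton.elim _ _
  exact hab (congrArg Subtype.val h2)

theorem DD_trans (htrans : IsPretransitive G Ω) : IsPretransitive (DD G Ω) Ω := by
  have h1 := (main (G := G) (Ω := Ω) htrans).1
  rw [pretransitive_iff_subsingleton_quotient]
  exact (Nat.card_eq_one_iff_unique.1 h1).1

/-- `[G_α : G_α ∩ D] = [G : D]`. -/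
theorem relIndex_eq (htrans : IsPretransitive G Ω) (α : Ω) :
    (DD G Ω).relIndex (stabilizer G α) = (DD G Ω).index := by
  haveI := DD_trans (G := G) (Ω := Ω) htrans
  have hn : 0 < Nat.card Ω := Nat.card_pos
  have h1 : (stabilizer G α).index = Nat.card Ω := index_stabilizer_of_transitive G α
  have h2 : (stabilizer G α).relIndex (DD G Ω) = Nat.card Ω := by
    rw [Subgroup.relIndex, ← stabilizer_subgroup]
    exact index_stabilizer_of_transitive (DD G Ω) α
  have h3 := Subgroup.relIndex_mul_index (inf_le_left : DD G Ω ⊓ stabilizer G α ≤ DD G Ω)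
  have h4 := Subgroup.relIndex_mul_index (inf_le_right : DD G Ω ⊓ stabilizer G α ≤ stabilizer G α)
  rw [Subgroup.inf_relIndex_left, h2] at h3
  rw [Subgroup.inf_relIndex_right, h1] at h4
  rw [← h3] at h4
  have : (DD G Ω).relIndex (stabilizer G α) * Nat.card Ω = (DD G Ω).index * Nat.card Ω := by
    rw [h4, mul_comm]
  exact Nat.eq_of_mul_eq_mul_right hn this

/-- For `β ≠ α`, `|G_α β| = [D_α : G_αβ] * [G : D]`. -/
theorem card_orbit_eq (htrans : IsPretransitive G Ω) (α β : Ω) (hab : α ≠ β) :
    Nat.card (orbit (stabilizer G α) β) =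
      (stabilizer G α ⊓ stabilizer G β).relIndex (DD G Ω ⊓ stabilizer G α) * (DD G Ω).index := by
  rw [card_orbit_subgroup, ← relIndex_eq htrans α, ← Subgroup.inf_relIndex_right (DD G Ω),
    ← Subgroup.inf_relIndex_left (stabilizer G α) (stabilizer G β)]
  symm
  apply Subgroup.relIndex_mul_relIndex
  · intro g hg
    exact ⟨two_fix_mem htrans g α β hab hg.1 hg.2, hg.1⟩
  · exact inf_le_right

end

section
variable {G Ω : Type*} [Group G] [MulAction G Ω] [Finite Ω]

/-- If a group `K` fixes `α` and all other orbits have size divisible by `i`, then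
`i ∣ |Ω| - 1`. -/
theorem dvd_card_sub_one (α : Ω) (i : ℕ) (hα : ∀ k : G, k • α = α)
    (hdvd : ∀ β, β ≠ α → i ∣ Nat.card (orbit G β)) : i ∣ Nat.card Ω - 1 := by
  classical
  haveI : Fintype (orbitRel.Quotient G Ω) := Fintype.ofFinite _
  have h1 : Nat.card Ω = ∑ q : orbitRel.Quotient G Ω, Nat.card q.orbit := by
    rw [Nat.card_congr (selfEquivSigmaOrbits' G Ω), Nat.card_sigma]
  set q0 : orbitRel.Quotient G Ω := Quotient.mk'' α with hq0
  have h2 : Nat.card q0.orbit = 1 := by
    rw [hq0, orbitRel.Quotient.orbit_mk]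
    have : orbit G α = {α} := by
      ext x
      constructor
      · rintro ⟨k, rfl⟩
        exact hα k
      · rintro rfl
        exact mem_orbit_self _
    rw [this]
    simp
  have h3 := Finset.add_sum_erase Finset.univ (fun q : orbitRel.Quotient G Ω => Nat.card q.orbit)
    (Finset.mem_univ q0)
  rw [← h1, h2] at h3
  have h4 : i ∣ ∑ q ∈ Finset.univ.erase q0, Nat.card q.orbit := by
    apply Finset.dvd_sum
    intro q hq
    have hne : q ≠ q0 := Finset.ne_of_mem_erase hq
    induction q using Quotient.inductionOn' with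
    | _ β =>
      rw [orbitRel.Quotient.orbit_mk]
      apply hdvd
      rintro rfl
      exact hne rfl
  have : Nat.card Ω - 1 = ∑ q ∈ Finset.univ.erase q0, Nat.card q.orbit := by omega
  rw [this]
  exact h4

end

section
variable {G Ω : Type*} [Group G] [Finite G] [MulAction G Ω] [Finite Ω] [Nonempty Ω]

theorem partA (htrans : IsPretransitive G Ω) : (DD G Ω).index ∣ Nat.card Ω - 1 := by
  obtain ⟨α⟩ := ‹Nonempty Ω›
  apply dvd_card_sub_one (G := stabilizer G α) α _ (fun k => k.2)
  intro β hβ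
  rw [card_orbit_eq htrans α β hβ.symm]
  exact Dvd.intro_left _ rfl

omit [Finite G] [Nonempty Ω] in
theorem card_orbit_le (α β : Ω) (hβ : β ≠ α) :
    Nat.card (orbit (stabilizer G α) β) ≤ Nat.card Ω - 1 := by
  have hsub : orbit (stabilizer G α) β ⊆ ({α} : Set Ω)ᶜ := by
    rintro _ ⟨k, rfl⟩ h
    apply hβ
    have h1 : (k : G) • β = α := h
    have h2 : (k : G) • α = α := k.2
    have : (k : G) • β = (k : G) • α := by rw [h1, h2]
    exact smul_left_cancel _ this
  have := Set.ncard_le_ncard hsub (Set.toFinite _)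
  rw [Set.ncard_compl, Set.ncard_singleton] at this
  rw [Nat.card_coe_set_eq]
  exact this

theorem partB [FaithfulSMul G Ω] (htrans : IsPretransitive G Ω) (hΩ : 2 ≤ Nat.card Ω)
    (hidx : (DD G Ω).index = Nat.card Ω - 1) : IsPrimePow (Nat.card Ω) := by
  classical
  obtain ⟨α⟩ := ‹Nonempty Ω›
  set n := Nat.card Ω with hn
  -- every orbit of G_α off α has size n - 1, and D_α fixes everything
  have key : ∀ β, β ≠ α → Nat.card (orbit (stabilizer G α) β) = n - 1 ∧
      DD G Ω ⊓ stabilizer G α ≤ stabilizer G β := by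
    intro β hβ
    have h1 := card_orbit_eq htrans α β hβ.symm
    have h2 := card_orbit_le (G := G) α β hβ
    rw [hidx] at h1
    have h3 : 0 < Nat.card (orbit (stabilizer G α) β) := by
      haveI : Nonempty (orbit (stabilizer G α) β) := ⟨⟨β, mem_orbit_self _⟩⟩
      exact Nat.card_pos
    set r := (stabilizer G α ⊓ stabilizer G β).relIndex (DD G Ω ⊓ stabilizer G α) with hr
    have hr1 : r = 1 := by
      rcases Nat.lt_or_ge r 1 with h | h
      · have : r = 0 := by omega
        rw [this, zero_mul] at h1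
        omega
      · rcases Nat.eq_or_lt_of_le h with h | h
        · exact h.symm
        · exfalso
          have : 2 * (n - 1) ≤ r * (n - 1) := Nat.mul_le_mul_right _ h
          omega
    refine ⟨by rw [h1, hr1, one_mul], ?_⟩
    have := Subgroup.relIndex_eq_one.1 hr1
    exact le_trans this inf_le_right
  -- D_α = ⊥
  have hDα : DD G Ω ⊓ stabilizer G α = ⊥ := by
    rw [Subgroup.eq_bot_iff_forall]
    intro x hx
    apply FaithfulSMul.eq_of_smul_eq_smul (α := Ω)
    intro β
    rw [one_smul]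
    by_cases hβ : β = α
    · rw [hβ]; exact hx.2
    · exact (key β hβ).2 hx
  -- G_α is transitive on the other points
  have h2trans : ∀ β γ, β ≠ α → γ ≠ α → ∃ h : G, h • α = α ∧ h • β = γ := by
    intro β γ hβ hγ
    have hsub : orbit (stabilizer G α) β ⊆ ({α} : Set Ω)ᶜ := by
      rintro _ ⟨k, rfl⟩ h
      apply hβ
      have h1 : (k : G) • β = α := h
      have h2 : (k : G) • α = α := k.2
      have : (k : G) • β = (k : G) • α := by rw [h1, h2]
      exact smul_left_cancel _ this
    have hcard : ({α} : Set Ω)ᶜ.ncard ≤ (orbit (stabilizer G α) β).ncard := by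
      rw [Set.ncard_compl, Set.ncard_singleton, ← Nat.card_coe_set_eq, (key β hβ).1]
    have heq := Set.eq_of_subset_of_ncard_le hsub hcard (Set.toFinite _)
    have hγmem : γ ∈ orbit (stabilizer G α) β := by
      rw [heq]; exact hγ
    obtain ⟨k, hk⟩ := hγmem
    exact ⟨k.1, k.2, hk⟩
  -- |D| = n
  haveI := DD_trans (G := G) (Ω := Ω) htrans
  have hDcard : Nat.card (DD G Ω) = n := by
    have h1 : (stabilizer G α).relIndex (DD G Ω) = Nat.card Ω := by
      rw [Subgroup.relIndex, ← stabilizer_subgroup]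
      exact index_stabilizer_of_transitive (DD G Ω) α
    rw [← Subgroup.inf_relIndex_left, hDα, Subgroup.relIndex_bot_left] at h1
    exact h1
  -- a prime p dividing n, and an element of order p in D
  obtain ⟨p, hp, hpn⟩ := Nat.exists_prime_and_dvd (show n ≠ 1 by omega)
  haveI : Fact p.Prime := ⟨hp⟩
  obtain ⟨x, hx⟩ := exists_prime_orderOf_dvd_card' (G := DD G Ω) p (by rw [hDcard]; exact hpn)
  have hxord : orderOf (x : G) = p := by rw [Subgroup.orderOf_coe]; exact hx
  have hmove : ∀ y : G, y ∈ DD G Ω → y ≠ 1 → y • α ≠ α := by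
    intro y hy hy1 h
    have : y ∈ DD G Ω ⊓ stabilizer G α := ⟨hy, h⟩
    rw [hDα, Subgroup.mem_bot] at this
    exact hy1 this
  have hx1 : (x : G) ≠ 1 := by
    intro h
    rw [h, orderOf_one] at hxord
    exact hp.one_lt.ne hxord
  have hpg : IsPGroup p (DD G Ω) := by
    intro y
    by_cases hy1 : (y : G) = 1
    · refine ⟨0, ?_⟩
      rw [pow_zero, pow_one]
      exact Subtype.ext hy1
    · obtain ⟨h, hα, hh⟩ := h2trans ((x : G) • α) ((y : G) • α) (hmove x x.2 hx1) (hmove y y.2 hy1)
      have hconj : h * (x : G) * h⁻¹ ∈ DD G Ω := DD_conj h x x.2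
      have hα' : h⁻¹ • α = α := by
        rw [inv_smul_eq_iff, hα]
      have hz : (y : G)⁻¹ * (h * (x : G) * h⁻¹) ∈ DD G Ω ⊓ stabilizer G α := by
        refine ⟨(DD G Ω).mul_mem ((DD G Ω).inv_mem y.2) hconj, ?_⟩
        show ((y : G)⁻¹ * (h * (x : G) * h⁻¹)) • α = α
        rw [mul_smul, mul_smul, mul_smul, hα', hh, inv_smul_smul]
      rw [hDα, Subgroup.mem_bot] at hz
      have hyx : (y : G) = h * (x : G) * h⁻¹ := by
        rw [inv_mul_eq_one] at hz
        exact hz
      refine ⟨1, ?_⟩
      apply Subtype.ext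
      rw [pow_one, Subgroup.coe_pow, hyx, conj_pow, ← hxord, pow_orderOf_eq_one]
      simp
  obtain ⟨k, hk⟩ := IsPGroup.iff_card.1 hpg
  rw [hDcard] at hk
  have hk0 : k ≠ 0 := by
    rintro rfl
    rw [pow_zero] at hk
    omega
  rw [hk]
  exact ⟨p, k, Nat.prime_iff.1 hp, Nat.pos_of_ne_zero hk0, rfl⟩

end

/-- Let G act faithfully and transitively on a finite set with n ≥ 2 points and let D be the subgroup generated by the derangements. Then the index of D in G divides n − 1, and if it equals n − 1 then n is a prime power. -/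
theorem result {G Ω : Type*} [Group G] [Finite G] [MulAction G Ω] [FaithfulSMul G Ω] [Finite Ω]
    (htrans : MulAction.IsPretransitive G Ω) (hΩ : 2 ≤ Nat.card Ω) :
    (Subgroup.closure {g : G | ∀ ω : Ω, g • ω ≠ ω}).index ∣ Nat.card Ω - 1 ∧
    ((Subgroup.closure {g : G | ∀ ω : Ω, g • ω ≠ ω}).index = Nat.card Ω - 1 → IsPrimePow (Nat.card Ω)) := by
  haveI : Nonempty Ω := by
    by_contra h
    rw [not_nonempty_iff] at h
    rw [Nat.card_of_isEmpty] at hΩ
    omega
  exact ⟨partA htrans, partB htrans hΩ⟩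

end Cfsg.Agent.S3548
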