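import Cfsg.Statements.S3549
import Cfsg.Agent.S3546
import Cfsg.Agent.S3548
import Mathlib

set_option autoImplicit false
set_option linter.style.haveILetI false
open Cfsg

namespace Cfsg.Agent.S3549

open MulAction Cfsg.Agent.S3546 Cfsg.Agent.S3548
open scoped Pointwise

section
variable {K Ω : Type*} [Group K] [MulAction K Ω] [Finite Ω]

/-- Version of `dvd_card_sub_one` for an invariant subset. -/
theorem dvd_ncard_sub_one (S : Set Ω) (α : Ω) (hαS : α ∈ S) (hS : ∀ k : K, ∀ s ∈ S, k • s ∈ S)
    (i : ℕ) (hα : ∀ k : K, k • α = α)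
    (hdvd : ∀ β ∈ S, β ≠ α → i ∣ Nat.card (orbit K β)) : i ∣ S.ncard - 1 := by
  let T : SubMulAction K Ω := ⟨S, fun k s hs => hS k s hs⟩
  have hcard : Nat.card T = S.ncard := Nat.card_coe_set_eq S
  rw [← hcard]
  apply dvd_card_sub_one (G := K) (Ω := T) ⟨α, hαS⟩ i
  · intro k
    apply Subtype.ext
    exact hα k
  · intro β hβ
    have h1 : Nat.card (orbit K β) = Nat.card (orbit K (β : Ω)) := by
      rw [Nat.card_coe_set_eq, Nat.card_coe_set_eq, ← index_stabilizer, ← index_stabilizer,
        SubMulAction.stabilizer_of_subMul]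
    rw [h1]
    apply hdvd _ β.2
    intro h
    exact hβ (Subtype.ext h)

end

theorem main {G Ω : Type*} [Group G] [Finite G] [MulAction G Ω] [Finite Ω]
    (htrans : IsPretransitive G Ω) (himp : ¬ IsPreprimitive G Ω) :
    ((DD G Ω).index + 1) ^ 2 ≤ Nat.card Ω := by
  classical
  -- a nontrivial block
  have hex : ∃ B : Set Ω, IsBlock G B ∧ ¬ IsTrivialBlock B := by
    by_contra hcon
    apply himp
    refine { toIsPretransitive := htrans, isTrivialBlock_of_isBlock := ?_ }
    intro B hB
    by_contra hB'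
    exact hcon ⟨B, hB, hB'⟩
  obtain ⟨B, hB, hBtriv⟩ := hex
  rw [IsTrivialBlock, not_or] at hBtriv
  obtain ⟨hBns, hBne⟩ := hBtriv
  rw [Set.not_subsingleton_iff] at hBns
  obtain ⟨α, hαB⟩ := hBns.nonempty
  haveI : Nonempty Ω := ⟨α⟩
  set i := (DD G Ω).index with hi
  set k := B.ncard with hk
  set n := Nat.card Ω with hn
  have hk2 : 2 ≤ k := by
    have := Set.one_lt_ncard_iff_nontrivial.2 hBns
    omega
  have hkn : k * (orbit G B).ncard = n := hB.ncard_block_mul_ncard_orbit_eq ⟨α, hαB⟩
  set m := (orbit G B).ncard with hm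
  have hnpos : 0 < n := Nat.card_pos
  have hkltn : k < n := by
    rw [hk, hn, ← Set.ncard_univ]
    apply Set.ncard_lt_ncard _ (Set.toFinite _)
    exact Set.ssubset_univ_iff.2 hBne
  have hm2 : 2 ≤ m := by
    rcases Nat.lt_or_ge m 2 with h | h
    · exfalso
      have : m = 0 ∨ m = 1 := by omega
      rcases this with h0 | h1
      · rw [h0, mul_zero] at hkn; omega
      · rw [h1, mul_one] at hkn; omega
    · exact h
  -- i divides n - 1
  have h1 : i ∣ n - 1 := partA htrans
  -- i divides k - 1
  have h2 : i ∣ k - 1 := by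
    apply dvd_ncard_sub_one (K := stabilizer G α) B α hαB _ i (fun k => k.2)
    · intro β hβ hβα
      rw [card_orbit_eq htrans α β hβα.symm]
      exact Dvd.intro_left _ rfl
    · intro g s hs
      have hg : (g : G) • B = B := hB.stabilizer_le hαB g.2
      rw [← hg]
      exact Set.smul_mem_smul_set hs
  -- i divides m - 1
  have h3 : i ∣ m - 1 := by
    have e : n - 1 = (k - 1) * m + (m - 1) := by
      have : k = (k - 1) + 1 := by omega
      have hkn' : ((k - 1) + 1) * m = n := by rw [← this]; exact hkn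
      rw [← hkn']
      have : ((k - 1) + 1) * m = (k - 1) * m + m := by ring
      rw [this]
      omega
    rw [e] at h1
    exact (Nat.dvd_add_right (Dvd.dvd.mul_right h2 m)).1 h1
  have h4 : i ≤ k - 1 := Nat.le_of_dvd (by omega) h2
  have h5 : i ≤ m - 1 := Nat.le_of_dvd (by omega) h3
  calc (i + 1) ^ 2 = (i + 1) * (i + 1) := by ring
    _ ≤ k * m := Nat.mul_le_mul (by omega) (by omega)
    _ = n := hkn

/-- Let G act faithfully, transitively but imprimitively on a finite set with n points, and let D be the subgroup generated by the derangements. Then the index of D in G is at most √n − 1. -/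
theorem result {G Ω : Type*} [Group G] [Finite G] [MulAction G Ω] [FaithfulSMul G Ω] [Finite Ω]
    (htrans : MulAction.IsPretransitive G Ω) (himp : ¬ MulAction.IsPreprimitive G Ω) :
    ((Subgroup.closure {g : G | ∀ ω : Ω, g • ω ≠ ω}).index : ℝ) ≤ Real.sqrt (Nat.card Ω) - 1 := by
  have h := main htrans himp
  change (((DD G Ω).index : ℕ) : ℝ) ≤ Real.sqrt (Nat.card Ω) - 1
  have h' : (((DD G Ω).index : ℝ) + 1) ^ 2 ≤ (Nat.card Ω : ℝ) := by exact_mod_cast h
  have h2 : ((DD G Ω).index : ℝ) + 1 ≤ Real.sqrt (Nat.card Ω) := Real.le_sqrt_of_sq_le h'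
  linarith

end Cfsg.Agent.S3549
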