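import Cfsg.Statements.S3554
import Mathlib

set_option autoImplicit false
open Cfsg

namespace Cfsg.Agent.S3554

/-- Let G act faithfully and transitively on a finite set and suppose G has a non-trivial cyclic normal subgroup. Then some element of G of prime order fixes no point. -/
theorem result {G Ω : Type*} [Group G] [Finite G] [MulAction G Ω] [FaithfulSMul G Ω] [Finite Ω]
    (htrans : MulAction.IsPretransitive G Ω) (C : Subgroup G) (hC : C.Normal) (hC1 : C ≠ ⊥) (hcyc : IsCyclic ↥C) :
    ∃ g : G, (orderOf g).Prime ∧ ∀ ω : Ω, g • ω ≠ ω := by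
  classical
  obtain ⟨x, hx⟩ := hcyc.exists_generator
  -- x : ↥C generator
  set n := orderOf (x : G) with hn
  have hxne : (x : G) ≠ 1 := by
    intro h
    apply hC1
    rw [Subgroup.eq_bot_iff_forall]
    intro y hy
    have := hx ⟨y, hy⟩
    rw [Subgroup.mem_zpowers_iff] at this
    obtain ⟨k, hk⟩ := this
    have hx1 : x = 1 := Subtype.ext h
    rw [hx1] at hk
    simp at hk
    have := congrArg Subtype.val hk
    simpa using this.symm
  have hnpos : 0 < n := orderOf_pos _
  have hn1 : n ≠ 1 := by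
    intro h
    exact hxne (orderOf_eq_one_iff.1 h)
  obtain ⟨p, hp, hpn⟩ := Nat.exists_prime_and_dvd hn1
  obtain ⟨m, hm⟩ := hpn
  -- n = p * m
  have hmpos : 0 < m := by
    rcases Nat.eq_zero_or_pos m with h | h
    · rw [h] at hm; omega
    · exact h
  set c : G := (x : G) ^ m with hc
  have hcord : orderOf c = p := by
    rw [hc, orderOf_pow_of_dvd hmpos.ne' ⟨p, by rw [← hn, hm, mul_comm]⟩, ← hn, hm]
    exact Nat.mul_div_cancel _ hmpos
  have hconj : ∀ g : G, ∃ k : ℤ, g * c * g⁻¹ = c ^ k := by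
    intro g
    have hmem : g * (x : G) * g⁻¹ ∈ C := hC.conj_mem _ x.2 g
    have := hx ⟨_, hmem⟩
    rw [Subgroup.mem_zpowers_iff] at this
    obtain ⟨k, hk⟩ := this
    have hk' : (x : G) ^ k = g * (x : G) * g⁻¹ := by
      have := congrArg Subtype.val hk
      simpa using this
    refine ⟨k, ?_⟩
    rw [hc]
    have : g * (x : G) ^ m * g⁻¹ = (g * (x : G) * g⁻¹) ^ m := by
      rw [conj_pow]
    rw [this, ← hk', ← zpow_natCast, ← zpow_natCast, ← zpow_mul, ← zpow_mul, mul_comm]
  refine ⟨c, by rw [hcord]; exact hp, ?_⟩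
  intro ω hω
  have hall : ∀ ω' : Ω, c • ω' = ω' := by
    intro ω'
    obtain ⟨g, rfl⟩ := MulAction.exists_smul_eq G ω ω'
    obtain ⟨k, hk⟩ := hconj g⁻¹
    have h1 : c • g • ω = g • ((g⁻¹ * c * g⁻¹⁻¹) • ω) := by
      simp [mul_smul]
    rw [h1, hk]
    congr 1
    have : c ∈ MulAction.stabilizer G ω := hω
    exact (MulAction.stabilizer G ω).zpow_mem this k
  have hc1 : c = 1 := by
    apply FaithfulSMul.eq_of_smul_eq_smul (α := Ω)
    intro a
    rw [hall a, one_smul]
  rw [hc1, orderOf_one] at hcord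
  exact hp.one_lt.ne hcord

end Cfsg.Agent.S3554
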