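import Cfsg.Statements.S3560
import Mathlib
import Cfsg.Agent.Lib.Helper8.Hamming1
import Cfsg.Agent.Lib.Helper8.PermTransport

set_option autoImplicit false
open Cfsg

namespace Cfsg.Agent.S3560

/-- Let K be a finite group isomorphic to a direct product of r ≥ 2 groups all of the same order m ≥ 3. Then K is not a B-group: there is a primitive but not doubly transitive permutation group (on some finite set) containing a regular subgroup isomorphic to K. -/
theorem result {K : Type*} [Group K] [Finite K] {ι : Type*} [Fintype ι] (F : ι → Type*) [∀ i, Group (F i)]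
    (hr : 2 ≤ Fintype.card ι) (m : ℕ) (hm : 3 ≤ m) (hcard : ∀ i, Nat.card (F i) = m) (e : K ≃* (∀ i, F i)) :
    ∃ (n : ℕ) (G R : Subgroup (Equiv.Perm (Fin n))), R ≤ G ∧ Nonempty (↥R ≃* K) ∧
      MulAction.IsPretransitive ↥R (Fin n) ∧ (∀ a : Fin n, MulAction.stabilizer ↥R a = ⊥) ∧
      MulAction.IsPreprimitive ↥G (Fin n) ∧ ¬ MulAction.IsMultiplyPretransitive ↥G (Fin n) 2 := by
  classical
  haveI hfin : ∀ i, Finite (F i) := fun i => Nat.finite_of_card_ne_zero (by rw [hcard i]; omega)
  let b : ∀ i, F i ≃ Fin m := fun i => Finite.equivFinOfCardEq (hcard i)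
  let β : K ≃ (ι → Fin m) := e.toEquiv.trans (Equiv.piCongrRight b)
  let ρ : K →* Equiv.Perm (ι → Fin m) :=
    β.permCongrHom.toMonoidHom.comp (MulAction.toPermHom K K)
  have hρ0 : ∀ k x, ρ k x = β (k * β.symm x) := fun k x => rfl
  have hρ : ∀ k x i, ρ k x i = b i (e k i * (b i).symm (x i)) := by
    intro k x i
    rw [hρ0]
    show b i (e (k * β.symm x) i) = _
    rw [map_mul, Pi.mul_apply]
    congr 2
    show e (e.symm ((Equiv.piCongrRight b).symm x)) i = _
    rw [MulEquiv.apply_symm_apply]
    rfl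
  have hmem : ∀ k, ρ k ∈ Lib.Helper8.Hamming.isoGroup ι m := by
    intro k x y
    unfold Lib.Helper8.Hamming.hd
    congr 1
    ext i
    rw [Finset.mem_filter, Finset.mem_filter, hρ, hρ]
    simp
  have hinj : Function.Injective ρ := by
    intro k k' h
    have h1 := congrArg (fun g => g (β 1)) h
    simp only [hρ0, Equiv.symm_apply_apply, mul_one] at h1
    exact β.injective h1
  have hne : Nonempty ι := by
    rw [← Fintype.card_pos_iff]
    omega
  apply Lib.Helper8.PermTransport.transport_package (Lib.Helper8.Hamming.isoGroup ι m) ρ.range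
  · rintro _ ⟨k, rfl⟩
    exact hmem k
  · exact ⟨(MonoidHom.ofInjective hinj).symm⟩
  · constructor
    intro x y
    refine ⟨⟨ρ (β.symm y * (β.symm x)⁻¹), ⟨_, rfl⟩⟩, ?_⟩
    show ρ (β.symm y * (β.symm x)⁻¹) x = y
    rw [hρ0, inv_mul_cancel_right, Equiv.apply_symm_apply]
  · intro a
    rw [eq_bot_iff]
    rintro ⟨_, ⟨k, rfl⟩⟩ hg
    rw [MulAction.mem_stabilizer_iff] at hg
    have h1 : ρ k a = a := hg
    rw [hρ0] at h1
    have h2 : k * β.symm a = β.symm a := by
      apply β.injective
      rw [h1, Equiv.apply_symm_apply]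
    have h3 : k = 1 := mul_eq_right.1 h2
    rw [Subgroup.mem_bot]
    apply Subtype.ext
    show ρ k = 1
    rw [h3, map_one]
  · exact Lib.Helper8.Hamming.isPreprimitive_isoGroup hm
  · exact Lib.Helper8.Hamming.not_two_pretransitive hr (by omega)

end Cfsg.Agent.S3560
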