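import Cfsg.Statements.S3573
import Mathlib
-- import your own Cfsg.Agent.* helpers here

set_option autoImplicit false
set_option linter.style.haveILetI false
open Cfsg

namespace Cfsg.Agent.S3573

section
variable {α : Type*} [Fintype α] [DecidableEq α]

/-- invariance of a finset -/
def Inv (σ : Equiv.Perm α) (T : Finset α) : Prop := ∀ y, σ y ∈ T ↔ y ∈ T

theorem Inv.image {σ : Equiv.Perm α} {T : Finset α} (h : Inv σ T) : T.image σ = T := by
  ext y
  rw [Finset.mem_image]
  constructor
  · rintro ⟨z, hz, rfl⟩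
    exact (h z).2 hz
  · intro hy
    refine ⟨σ⁻¹ y, ?_, by simp⟩
    rw [← h]
    simpa using hy

theorem inv_of_image {σ : Equiv.Perm α} {T : Finset α} (h : T.image σ = T) : Inv σ T := by
  intro y
  constructor
  · intro hy
    rw [← h, Finset.mem_image] at hy
    obtain ⟨z, hz, hzy⟩ := hy
    rw [← σ.injective hzy]
    exact hz
  · intro hy
    rw [← h]
    exact Finset.mem_image_of_mem _ hy

theorem Inv.pow {σ : Equiv.Perm α} {T : Finset α} (h : Inv σ T) (i : ℕ) (y : α) :
    (σ ^ i) y ∈ T ↔ y ∈ T := by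
  induction i generalizing y with
  | zero => simp
  | succ i ih =>
    rw [pow_succ, Equiv.Perm.mul_apply, ih, h]

theorem Inv.inv {σ : Equiv.Perm α} {T : Finset α} (h : Inv σ T) : Inv σ⁻¹ T := by
  intro y
  rw [← h (σ⁻¹ y)]
  simp

theorem Inv.zpow {σ : Equiv.Perm α} {T : Finset α} (h : Inv σ T) (i : ℤ) (y : α) :
    (σ ^ i) y ∈ T ↔ y ∈ T := by
  rcases Int.eq_nat_or_neg i with ⟨m, rfl | rfl⟩
  · rw [zpow_natCast]
    exact h.pow m y
  · rw [zpow_neg, zpow_natCast, ← inv_pow]
    exact h.inv.pow m y

theorem Inv.union {σ : Equiv.Perm α} {T U : Finset α} (h : Inv σ T) (h' : Inv σ U) : Inv σ (T ∪ U) := by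
  intro y
  rw [Finset.mem_union, Finset.mem_union, h, h']

theorem inv_cycleOf (σ : Equiv.Perm α) (x : α) : Inv σ (σ.cycleOf x).support := by
  intro y
  rw [Equiv.Perm.mem_support_cycleOf_iff, Equiv.Perm.mem_support_cycleOf_iff,
    Equiv.Perm.sameCycle_apply_right]

theorem card_cycleOf {σ : Equiv.Perm α} {r : ℕ} (hr : r.Prime) (hσ : orderOf σ = r) {x : α}
    (hx : x ∈ σ.support) : (σ.cycleOf x).support.card = r := by
  have hmem : (σ.cycleOf x).support.card ∈ σ.cycleType := by
    rw [Equiv.Perm.cycleType_def, Multiset.mem_map]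
    exact ⟨σ.cycleOf x, Equiv.Perm.cycleOf_mem_cycleFactorsFinset_iff.2 hx, rfl⟩
  have h1 := Equiv.Perm.dvd_of_mem_cycleType hmem
  have h2 := Equiv.Perm.two_le_of_mem_cycleType hmem
  rw [hσ] at h1
  rcases (Nat.dvd_prime hr).1 h1 with h | h
  · omega
  · exact h

/-- invariant subsets of the support of all sizes `r * a` -/
theorem exists_inv_support {σ : Equiv.Perm α} {r : ℕ} (hr : r.Prime) (hσ : orderOf σ = r) (a : ℕ)
    (ha : r * a ≤ σ.support.card) :
    ∃ T : Finset α, T ⊆ σ.support ∧ T.card = r * a ∧ Inv σ T := by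
  induction a with
  | zero => exact ⟨∅, Finset.empty_subset _, by simp, fun y => by simp⟩
  | succ a ih =>
    obtain ⟨T, hTs, hTc, hTi⟩ := ih (le_trans (Nat.mul_le_mul_left r (Nat.le_succ a)) ha)
    have hlt : T.card < σ.support.card := by
      rw [hTc]
      have : r * a < r * (a + 1) := by
        have := hr.pos
        nlinarith
      omega
    obtain ⟨x, hxs, hxT⟩ := Finset.exists_mem_notMem_of_card_lt_card hlt
    have hdisj : Disjoint T (σ.cycleOf x).support := by
      rw [Finset.disjoint_left]
      intro y hyT hyc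
      rw [Equiv.Perm.mem_support_cycleOf_iff] at hyc
      obtain ⟨⟨i, hi⟩, -⟩ := hyc
      apply hxT
      rw [← hTi.zpow i x, hi]
      exact hyT
    refine ⟨T ∪ (σ.cycleOf x).support, ?_, ?_, hTi.union (inv_cycleOf σ x)⟩
    · apply Finset.union_subset hTs
      intro y hy
      rw [Equiv.Perm.mem_support_cycleOf_iff] at hy
      obtain ⟨⟨i, hi⟩, hx'⟩ := hy
      rw [← hi, Equiv.Perm.zpow_apply_mem_support]
      exact hx'
    · rw [Finset.card_union_of_disjoint hdisj, hTc, card_cycleOf hr hσ hxs]
      ring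

theorem card_support_eq {σ : Equiv.Perm α} {r : ℕ} (hr : r.Prime) (hσ : orderOf σ = r) :
    ∃ j, σ.support.card = r * j := by
  obtain ⟨m, hm⟩ := Equiv.Perm.cycleType_prime_order (σ := σ) (by rw [hσ]; exact hr)
  refine ⟨m + 1, ?_⟩
  rw [← Equiv.Perm.sum_cycleType, hm, Multiset.sum_replicate, smul_eq_mul, hσ, mul_comm]

theorem exists_fixed_set {σ : Equiv.Perm α} {r : ℕ} (hr : r.Prime) (hσ : orderOf σ = r) (k : ℕ)
    (hk : k ≤ Fintype.card α) (hmod : k % r ≤ Fintype.card α % r) :
    ∃ s : Finset α, s.card = k ∧ s.image σ = s := by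
  obtain ⟨j, hj⟩ := card_support_eq hr hσ
  have hc : σ.support.card ≤ Fintype.card α := Finset.card_le_univ _
  have hcompl : (σ.supportᶜ).card = Fintype.card α - σ.support.card := Finset.card_compl _
  -- choose a, b
  have hab : ∃ a b : ℕ, r * a ≤ σ.support.card ∧ b ≤ Fintype.card α - σ.support.card ∧ r * a + b = k := by
    by_cases hcase : k / r ≤ j
    · refine ⟨k / r, k % r, ?_, ?_, Nat.div_add_mod k r⟩
      · rw [hj]
        exact Nat.mul_le_mul_left r hcase
      · have h1 : Fintype.card α % r = (Fintype.card α - σ.support.card) % r := by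
          have : Fintype.card α = r * j + (Fintype.card α - σ.support.card) := by omega
          conv_lhs => rw [this]
          rw [Nat.mul_add_mod]
        have h2 := Nat.mod_le (Fintype.card α - σ.support.card) r
        omega
    · rw [not_le] at hcase
      have h1 : r * j < r * (k / r) := Nat.mul_lt_mul_of_pos_left hcase hr.pos
      have h2 : r * (k / r) ≤ k := Nat.mul_div_le k r
      refine ⟨j, k - σ.support.card, by rw [hj], by omega, by omega⟩
  obtain ⟨a, b, ha, hb, hk'⟩ := hab
  obtain ⟨T, hTs, hTc, hTi⟩ := exists_inv_support hr hσ a ha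
  obtain ⟨B, hBs, hBc⟩ := Finset.exists_subset_card_eq (s := σ.supportᶜ) (n := b) (by rw [hcompl]; exact hb)
  have hBfix : ∀ y ∈ B, σ y = y := by
    intro y hy
    have := hBs hy
    rw [Finset.mem_compl, Equiv.Perm.notMem_support] at this
    exact this
  have hBi : Inv σ B := by
    intro y
    constructor
    · intro hy
      have := hBfix _ hy
      have h2 : σ y = y := σ.injective this
      rw [← h2]
      exact hy
    · intro hy
      rw [hBfix y hy]
      exact hy
  have hdisj : Disjoint T B := by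
    rw [Finset.disjoint_left]
    intro y hyT hyB
    have := hBs hyB
    rw [Finset.mem_compl] at this
    exact this (hTs hyT)
  refine ⟨T ∪ B, ?_, (hTi.union hBi).image⟩
  rw [Finset.card_union_of_disjoint hdisj, hTc, hBc, hk']


theorem Inv.sdiff {σ : Equiv.Perm α} {T U : Finset α} (h : Inv σ T) (h' : Inv σ U) : Inv σ (T \ U) := by
  intro y
  rw [Finset.mem_sdiff, Finset.mem_sdiff, h, h']

theorem Inv.inter {σ : Equiv.Perm α} {T U : Finset α} (h : Inv σ T) (h' : Inv σ U) : Inv σ (T ∩ U) := by
  intro y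
  rw [Finset.mem_inter, Finset.mem_inter, h, h']

theorem inv_support (σ : Equiv.Perm α) : Inv σ σ.support := fun _ => Equiv.Perm.apply_mem_support

theorem dvd_card_inv {σ : Equiv.Perm α} {r : ℕ} (hr : r.Prime) (hσ : orderOf σ = r) :
    ∀ (m : ℕ) (T : Finset α), T.card = m → Inv σ T → T ⊆ σ.support → r ∣ T.card := by
  intro m
  induction m using Nat.strong_induction_on with
  | _ m ih =>
    intro T hTm hTi hTs
    rcases T.eq_empty_or_nonempty with rfl | ⟨x, hx⟩
    · simp
    · have hxs := hTs hx
      have hsub : (σ.cycleOf x).support ⊆ T := by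
        intro y hy
        rw [Equiv.Perm.mem_support_cycleOf_iff] at hy
        obtain ⟨⟨i, hi⟩, -⟩ := hy
        rw [← hi, hTi.zpow]
        exact hx
      have hcc := card_cycleOf hr hσ hxs
      have hcard : (T \ (σ.cycleOf x).support).card = T.card - r := by
        rw [Finset.card_sdiff_of_subset hsub, hcc]
      have hle : r ≤ T.card := by
        rw [← hcc]; exact Finset.card_le_card hsub
      have := ih (T.card - r) (by have := hr.pos; omega) (T \ (σ.cycleOf x).support) hcard
        (hTi.sdiff (inv_cycleOf σ x)) (fun y hy => hTs (Finset.mem_sdiff.1 hy).1)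
      rw [hcard] at this
      obtain ⟨c, hc⟩ := this
      exact ⟨c + 1, by rw [mul_add, mul_one, ← hc]; omega⟩

theorem mod_le_of_fixed {σ : Equiv.Perm α} {r : ℕ} (hr : r.Prime) (hσ : orderOf σ = r)
    (hsupp : σ.support.card = r * (Fintype.card α / r)) (s : Finset α) (hs : s.image σ = s) :
    s.card % r ≤ Fintype.card α % r := by
  have hsi := inv_of_image hs
  have h1 := dvd_card_inv hr hσ _ (s ∩ σ.support) rfl (hsi.inter (inv_support σ)) Finset.inter_subset_right
  have h2 : s.card = (s ∩ σ.support).card + (s \ σ.support).card := by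
    rw [← Finset.card_union_of_disjoint (Finset.disjoint_sdiff_inter _ _).symm, Finset.union_comm,
      Finset.sdiff_union_inter]
  have h3 : (s \ σ.support).card ≤ (σ.supportᶜ).card := by
    apply Finset.card_le_card
    intro y hy
    rw [Finset.mem_compl]
    exact (Finset.mem_sdiff.1 hy).2
  rw [Finset.card_compl, hsupp] at h3
  have h4 : Fintype.card α - r * (Fintype.card α / r) = Fintype.card α % r := by
    have := Nat.div_add_mod (Fintype.card α) r
    omega
  rw [h4] at h3
  obtain ⟨c, hc⟩ := h1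
  have h5 : s.card % r = (s \ σ.support).card % r := by
    rw [h2, hc, Nat.mul_add_mod]
  have h6 : (s \ σ.support).card % r ≤ (s \ σ.support).card := Nat.mod_le _ _
  omega


end

theorem lcm_replicate (p j : ℕ) : (Multiset.replicate (j + 1) p).lcm = p := by
  induction j with
  | zero => simp
  | succ j ih =>
    rw [Multiset.replicate_succ, Multiset.lcm_cons, ih]
    simp

theorem prime_le_of_dvd_choose {n k r : ℕ} (hr : r.Prime) (hkn : k ≤ n) (hrd : r ∣ Nat.choose n k) : r ≤ n := by
  rw [← hr.dvd_factorial, ← Nat.choose_mul_factorial_mul_factorial hkn, mul_assoc]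
  exact Dvd.dvd.mul_right hrd _

theorem key (n k : ℕ) (hkn : 2 * k < n) (r : ℕ) (hr : r.Prime) (hrd : r ∣ Nat.choose n k) :
    (∀ σ : Equiv.Perm (Fin n), orderOf σ = r → ∃ s : Finset (Fin n), s.card = k ∧ s.image σ = s) ↔
      k % r ≤ n % r := by
  constructor
  · intro h
    have hrn : r ≤ n := prime_le_of_dvd_choose hr (by omega) hrd
    have hdiv : 1 ≤ n / r := (Nat.one_le_div_iff hr.pos).2 hrn
    obtain ⟨σ, hσ⟩ := (Equiv.Perm.exists_with_cycleType_iff (Fin n) (m := Multiset.replicate (n / r) r)).2
      ⟨by rw [Multiset.sum_replicate, smul_eq_mul, Fintype.card_fin, mul_comm]; exact Nat.mul_div_le n r, by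
        intro a ha
        rw [Multiset.eq_of_mem_replicate ha]
        exact hr.two_le⟩
    have hord : orderOf σ = r := by
      rw [← Equiv.Perm.lcm_cycleType, hσ]
      obtain ⟨j, hj⟩ : ∃ j, n / r = j + 1 := ⟨n / r - 1, by omega⟩
      rw [hj]
      exact lcm_replicate r j
    have hsupp : σ.support.card = r * (Fintype.card (Fin n) / r) := by
      rw [← Equiv.Perm.sum_cycleType, hσ, Multiset.sum_replicate, smul_eq_mul, Fintype.card_fin, mul_comm]
    obtain ⟨s, hsk, hsi⟩ := h σ hord
    have := mod_le_of_fixed hr hord hsupp s hsi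
    rwa [hsk, Fintype.card_fin] at this
  · intro h σ hσ
    exact exists_fixed_set hr hσ k (by rw [Fintype.card_fin]; omega) (by rwa [Fintype.card_fin])

theorem le_of_lucas (n k : ℕ) (hkn : 2 * k < n) (r : ℕ) (hr : r.Prime) (hrd : r ∣ Nat.choose n k)
    (hmod : k % r ≤ n % r) : r ≤ k := by
  by_contra hcon
  rw [not_le] at hcon
  haveI : Fact r.Prime := ⟨hr⟩
  have hl := Choose.choose_modEq_choose_mod_mul_choose_div_nat (n := n) (k := k) (p := r)
  rw [Nat.mod_eq_of_lt hcon, Nat.div_eq_of_lt hcon, Nat.choose_zero_right, mul_one] at hl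
  rw [Nat.mod_eq_of_lt hcon] at hmod
  have h1 : r ∣ (n % r).choose k := (Nat.modEq_zero_iff_dvd.1 (hl.symm.trans (Nat.modEq_zero_iff_dvd.2 hrd)))
  have h2 := prime_le_of_dvd_choose hr hmod h1
  have h3 := Nat.mod_lt n hr.pos
  omega

/-- Let 1 ≤ k with 2k < n and consider the symmetric group of degree n acting on the k-subsets of an n-set. Let r be a prime dividing the number C(n,k) of k-subsets. If r is odd, then every permutation of order r fixes some k-subset if and only if r ≤ k and the remainder of k modulo r is at most the remainder of n modulo r. If r = 2, then every involution fixes some k-subset if and only if k is even or n is odd. -/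
theorem result (n k : ℕ) (hk : 1 ≤ k) (hkn : 2 * k < n) (r : ℕ) (hr : r.Prime) (hrd : r ∣ Nat.choose n k) :
    (r ≠ 2 → ((∀ σ : Equiv.Perm (Fin n), orderOf σ = r → ∃ s : Finset (Fin n), s.card = k ∧ s.image σ = s) ↔
      (r ≤ k ∧ k % r ≤ n % r))) ∧
    (r = 2 → ((∀ σ : Equiv.Perm (Fin n), orderOf σ = 2 → ∃ s : Finset (Fin n), s.card = k ∧ s.image σ = s) ↔
      (Even k ∨ Odd n))) := by
  have hkey := key n k hkn r hr hrd
  constructor
  · intro _
    rw [hkey]
    constructor
    · intro h
      exact ⟨le_of_lucas n k hkn r hr hrd h, h⟩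
    · exact fun h => h.2
  · intro h2
    subst h2
    rw [hkey, Nat.even_iff, Nat.odd_iff]
    omega

end Cfsg.Agent.S3573
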