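import Cfsg.Statements.S3600
import Cfsg.Agent.S3433
import Cfsg.Agent.Lib.Helper2.Cr5Defs
import Cfsg.Agent.Lib.Helper2.Cr5R34
import Cfsg.Agent.Lib.Helper2.Cr5R6
import Cfsg.Agent.Lib.Helper5.Cr5R2
import Cfsg.Agent.Lib.Helper7.Cr5R5
import Cfsg.Agent.Lib.Helper1.Cr5R7Core
import Cfsg.Agent.Lib.Helper7.Cr5R8

set_option linter.unusedVariables false
set_option linter.style.longLine false
set_option linter.style.haveILetI false

set_option autoImplicit false
open Cfsg
open Cfsg.Agent.Lib.Helper8.C5 Cfsg.Agent.Lib.Helper2.Cr5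

namespace Cfsg.Agent.S3600

/-- A finite group is critical with respect to a set Ω of natural numbers when its set of element orders is Ω while no proper section has Ω as its set of element orders. A finite group critical with respect to {1, 2, 3, 4, 5} (the set of element orders of the alternating group of degree 6) is isomorphic either to the alternating group of degree 6 or to the affine group F² ⋊ SL(2,F) over the field F with four elements (realised as the matrices of SL(3,F) with last row (0, 0, 1)). -/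
theorem result {G : Type*} [Group G] [Finite G]
    (hcrit : Set.range (orderOf : G → ℕ) = ({1, 2, 3, 4, 5} : Set ℕ) ∧
      ∀ (H : Subgroup G) (N : Subgroup ↥H) [N.Normal], (H ≠ ⊤ ∨ N ≠ ⊥) → Set.range (orderOf : (↥H ⧸ N) → ℕ) ≠ ({1, 2, 3, 4, 5} : Set ℕ)) :
    Nonempty (G ≃* alternatingGroup (Fin 6)) ∨
      ∃ (F : Type) (_ : Field F) (_ : Fintype F), Fintype.card F = 4 ∧
        Nonempty (G ≃* ↥(Subgroup.closure {M : Matrix.SpecialLinearGroup (Fin 3) F |
          (M : Matrix (Fin 3) (Fin 3) F) 2 0 = 0 ∧ (M : Matrix (Fin 3) (Fin 3) F) 2 1 = 0 ∧ (M : Matrix (Fin 3) (Fin 3) F) 2 2 = 1})) := by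
  obtain ⟨hspec, hcr⟩ := hcrit
  have h5 : C5 G := by
    intro g
    have : orderOf g ∈ Set.range (orderOf : G → ℕ) := ⟨g, rfl⟩
    rw [hspec] at this
    simp only [Set.mem_insert_iff, Set.mem_singleton_iff] at this
    omega
  have hS := Cfsg.Agent.S3433.result (G := G) (by
    rw [hspec]; ext k
    simp only [Set.mem_insert_iff, Set.mem_singleton_iff, Set.mem_ofPred_eq]
    omega)
  rcases hS with hA6 | ⟨N, hNn, hNea, ⟨e⟩⟩
  · exact Or.inl hA6
  right
  haveI := hNn
  have hNe : ∀ m ∈ N, m ^ 2 = 1 := hNea.2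
  have hNab : ∀ a ∈ N, ∀ b ∈ N, a * b = b * a := by
    intro a ha b hb
    have h1 := hNe a ha
    have h2 := hNe b hb
    have h3 := hNe (a * b) (N.mul_mem ha hb)
    have ea : a⁻¹ = a := by rw [inv_eq_iff_mul_eq_one, ← pow_two]; exact h1
    have eb : b⁻¹ = b := by rw [inv_eq_iff_mul_eq_one, ← pow_two]; exact h2
    have eab : (a * b)⁻¹ = a * b := by rw [inv_eq_iff_mul_eq_one, ← pow_two]; exact h3
    rw [mul_inv_rev, ea, eb] at eab
    exact eab.symm
  -- N ≠ ⊥
  have hN1 : N ≠ ⊥ := by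
    intro hbot
    have h4 : (4 : ℕ) ∈ Set.range (orderOf : G → ℕ) := by rw [hspec]; simp
    obtain ⟨g, hg⟩ := h4
    have hg4 : g ^ 4 = 1 := by rw [← hg]; exact pow_orderOf_eq_one g
    have h1 : (e (QuotientGroup.mk' N g)) ^ 4 = 1 := by
      rw [← map_pow, ← map_pow, hg4, map_one, map_one]
    have h2 := A5raw.no4 _ h1
    rw [← map_pow, ← map_pow] at h2
    have h3 : QuotientGroup.mk' N (g ^ 2) = 1 := by
      apply e.injective
      rw [h2, map_one]
    rw [QuotientGroup.mk'_apply, QuotientGroup.eq_one_iff, hbot, Subgroup.mem_bot] at h3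
    have : orderOf g ∣ 2 := orderOf_dvd_of_pow_eq_one h3
    rw [hg] at this
    omega
  -- the complement
  obtain ⟨ε, hεinj, hεtop, hεdisj⟩ := exists_A5_hom h5 N hNe e
  have hD : ActData N ε := by
    refine ⟨hNn, hNe, ?_⟩
    intro x hx3 hx1 n hn hcomm
    by_contra hn1
    haveI : Fact (Nat.Prime 2) := ⟨Nat.prime_two⟩
    haveI : Fact (Nat.Prime 3) := ⟨Nat.prime_three⟩
    have o2 : orderOf n = 2 := orderOf_eq_prime (hNe n hn) hn1
    have o3 : orderOf (ε x) = 3 := by
      apply orderOf_eq_prime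
      · rw [← map_pow, hx3, map_one]
      · intro h; apply hx1; apply hεinj; rw [h, map_one]
    exact h5.false_of_commute hcomm (by rw [o2, o3]; norm_num) (by rw [o3]; norm_num) (by rw [o2])
  obtain ⟨b, hb⟩ := Cfsg.Agent.Lib.Helper7.Cr5.exists_basis hD hN1
  obtain ⟨θ, hθ⟩ := exists_coord hD hb
  -- U = range θ is normal in G
  have hUle : θ.range ≤ N := by
    rintro _ ⟨v, rfl⟩
    exact hθ.mem v
  haveI hUn : θ.range.Normal := by
    constructor
    rintro _ ⟨v, rfl⟩ g
    obtain ⟨n, hn, a, rfl⟩ := hεtop g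
    obtain ⟨v', hv'⟩ := coord_invariant hθ a v
    have h1 : n * ε a * θ v * (n * ε a)⁻¹ = n * (ε a * θ v * (ε a)⁻¹) * n⁻¹ := by group
    rw [h1, hv']
    have h2 : n * θ v' = θ v' * n := hNab n hn _ (hθ.mem v')
    rw [h2, mul_inv_cancel_right]
    exact ⟨v', rfl⟩
  have hU1 : θ.range ≠ ⊥ := by
    intro hbot
    have h1 : θ (Multiplicative.ofAdd (fun _ => 1)) ∈ θ.range := ⟨_, rfl⟩
    rw [hbot, Subgroup.mem_bot] at h1
    have h2 := hθ.inj (h1.trans (map_one θ).symm)
    have h3 := congrFun (Multiplicative.ofAdd.injective h2) 0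
    revert h3
    decide
  have hUN : θ.range = N := Cfsg.Agent.Lib.Helper5.Cr5.minimal_of_crit hcr h5 N hNe e θ.range hUle hU1
  have hcardN : Nat.card ↥N = 16 := by
    rw [← hUN]
    have h1 : Nat.card ↥θ.range = Nat.card (Multiplicative (Fin 4 → ZMod 2)) :=
      (Nat.card_congr (MonoidHom.ofInjective hθ.inj).toEquiv).symm
    rw [h1]
    show Nat.card (Fin 4 → ZMod 2) = 16
    rw [Nat.card_eq_fintype_card]
    decide
  have hA : AffData N ε := ⟨hD, hcardN, hεinj, hεtop, hεdisj⟩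
  -- the field
  haveI : Fact (Nat.Prime 2) := ⟨Nat.prime_two⟩
  letI : Fintype (GaloisField 2 2) := Fintype.ofFinite _
  have hF : Fintype.card (GaloisField 2 2) = 4 := by
    rw [← Nat.card_eq_fintype_card, GaloisField.card 2 2 (by norm_num)]
    norm_num
  obtain ⟨N₂, ε₂, hA₂⟩ := Cfsg.Agent.Lib.Helper7.Cr5.affData_aff (GaloisField 2 2) hF
  have hN₂1 : N₂ ≠ ⊥ := by
    intro h
    have := hA₂.card
    rw [h, Subgroup.card_bot] at this
    omega
  obtain ⟨b₂, hb₂⟩ := Cfsg.Agent.Lib.Helper7.Cr5.exists_basis hA₂.toActData hN₂1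
  obtain ⟨θ₂, hθ₂⟩ := exists_coord hA₂.toActData hb₂
  obtain ⟨iso⟩ := Cfsg.Agent.Lib.Helper1.Cr5.affData_unique_of_coord hA hA₂ hθ hθ₂
  exact ⟨GaloisField 2 2, inferInstance, inferInstance, hF, ⟨iso⟩⟩

end Cfsg.Agent.S3600
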