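import Cfsg.Statements.S3626
import Cfsg.Agent.S1159
import Cfsg.Agent.Lib.Helper1.RU3
import Cfsg.Agent.Lib.Helper1.RU4

set_option autoImplicit false
open Cfsg

namespace Cfsg.Agent.S3626

/-- Let R be the small Ree group over the field with q = 3^(2m+1) ≥ 27 elements. Then there are finite groups of arbitrarily large order with exactly the same set of element orders as R × R × R. -/
theorem result {K : Type*} [Field K] [Fintype K] {m : ℕ} (hm : 1 ≤ m) (hK : Fintype.card K = 3 ^ (2 * m + 1)) (N : ℕ) :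
    ∃ (H : Type) (_ : Group H) (_ : Fintype H), N < Fintype.card H ∧
      Set.range (orderOf : H → ℕ) = Set.range (orderOf : ↥(Cfsg.Lie.twistedG2 K (3 ^ m)) × ↥(Cfsg.Lie.twistedG2 K (3 ^ m)) × ↥(Cfsg.Lie.twistedG2 K (3 ^ m)) → ℕ) := by
  haveI := Cfsg.Agent.Lib.Helper5.Ree.charP_of_card hK
  have hq := Cfsg.Agent.Lib.Helper5.Ree.pow_card_eq hK
  have hk : 0 < N + 1 := Nat.succ_pos N
  have hqa := Cfsg.Agent.Lib.Helper1.RW.qa_ree m hm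
  have hq8 : 3 ^ (2 * m + 1) % 8 = 3 := hqa.hq8
  have hq27 : 27 ≤ 3 ^ (2 * m + 1) := hqa.hq27
  have hns : ∀ a : K, a ^ 2 ≠ -1 := by
    intro a ha
    have h1 : IsSquare (-1 : K) := ⟨a, by rw [← ha, sq]⟩
    rw [FiniteField.isSquare_neg_one_iff, hK] at h1
    omega
  have hR := fun d => Cfsg.Agent.S1159.result hm hK d
  have hM1 : ∀ f : ↥(Cfsg.Agent.Lib.Helper1.RU.MM (K := K) (N + 1)),
      ∃ g : ↥(Cfsg.Lie.twistedG2 K (3 ^ m)), orderOf g = orderOf f := by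
    intro f
    rw [← Subgroup.orderOf_coe]
    rcases Cfsg.Agent.Lib.Helper1.RU.orderOf_mem_MM (N + 1) hk hns f.1 f.2 with h | h | ⟨y, hy⟩
    · exact (hR _).2 (Or.inr (Or.inl h))
    · exact (hR _).2 (Or.inl h)
    · obtain ⟨c, hc⟩ := Cfsg.Agent.Lib.Helper1.RU.exists_ree_of_prodPSL m hq hK y
      obtain ⟨z, -, hz⟩ := Cfsg.Agent.Lib.Helper1.RU.exists_orderOf_eq_of_dvd c _ (orderOf_pos c)
        (hc ▸ hy)
      exact ⟨z, hz⟩
  have hsub : ∀ n : ℕ, (∃ f : ↥(Cfsg.Agent.Lib.Helper1.RU.MM (K := K) (N + 1)), orderOf f = n) →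
      0 < n → ∀ d : ℕ, d ∣ n → ∃ f : ↥(Cfsg.Agent.Lib.Helper1.RU.MM (K := K) (N + 1)), orderOf f = d := by
    rintro n ⟨f, hf⟩ hn d hd
    obtain ⟨z, -, hz⟩ := Cfsg.Agent.Lib.Helper1.RU.exists_orderOf_eq_of_dvd f d (hf ▸ hn) (hf ▸ hd)
    exact ⟨z, hz⟩
  have heven : ∀ n : ℕ, 0 < n → (∃ g : ↥(Cfsg.Lie.twistedG2 K (3 ^ m)), orderOf g = 2 * n) →
      ∃ f : ↥(Cfsg.Agent.Lib.Helper1.RU.MM (K := K) (N + 1)), orderOf f = 2 * n := by
    rintro n hn ⟨g, hg⟩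
    obtain ⟨y, hy⟩ := Cfsg.Agent.Lib.Helper1.RU.exists_prodPSL_of_even m hq hK hm g n hg hn
    obtain ⟨f, hfm, hf⟩ := Cfsg.Agent.Lib.Helper1.RU.exists_orderOf_eq (K := K) (N + 1) hk y
    refine ⟨⟨f, hfm⟩, ?_⟩
    rw [← Subgroup.orderOf_coe]
    exact hf.trans hy
  have hM2 : ∀ d : ℕ, (d ∣ 6 ∨ d ∣ 9 ∨ d ∣ 3 ^ (2 * m + 1) - 1 ∨ d ∣ (3 ^ (2 * m + 1) + 1) / 2) →
      ∃ f : ↥(Cfsg.Agent.Lib.Helper1.RU.MM (K := K) (N + 1)), orderOf f = d := by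
    intro d hd
    rcases hd with h | h | h | h
    · apply hsub 6 _ (by norm_num) d h
      exact heven 3 (by norm_num) ((hR 6).2 (Or.inl (dvd_refl 6)))
    · apply hsub 9 _ (by norm_num) d h
      obtain ⟨f, hfm, hf⟩ := Cfsg.Agent.Lib.Helper1.RU.exists_order_nine (K := K) (N + 1) hk
      refine ⟨⟨f, hfm⟩, ?_⟩
      rw [← Subgroup.orderOf_coe]
      exact hf
    · apply hsub (3 ^ (2 * m + 1) - 1) _ (by omega) d h
      have e : 3 ^ (2 * m + 1) - 1 = 2 * ((3 ^ (2 * m + 1) - 1) / 2) := hqa.half_pred.1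
      rw [e]
      apply heven _ (by omega)
      rw [← e]
      exact (hR _).2 (Or.inr (Or.inr (Or.inl (dvd_refl _))))
    · apply hsub ((3 ^ (2 * m + 1) + 1) / 2) _ (by omega) d h
      have e0 := hqa.quarter_succ.1
      have e : (3 ^ (2 * m + 1) + 1) / 2 = 2 * ((3 ^ (2 * m + 1) + 1) / 4) := by omega
      rw [e]
      apply heven _ (by omega)
      rw [← e]
      exact (hR _).2 (Or.inr (Or.inr (Or.inr (Or.inl (dvd_refl _)))))
  have hrange := Cfsg.Agent.Lib.Helper1.RU.range_orderOf_eq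
    (R := ↥(Cfsg.Lie.twistedG2 K (3 ^ m))) (M := ↥(Cfsg.Agent.Lib.Helper1.RU.MM (K := K) (N + 1)))
    (3 ^ (2 * m + 1) - 1) ((3 ^ (2 * m + 1) + 1) / 2) (3 ^ (2 * m + 1) - 3 ^ (m + 1) + 1)
    (3 ^ (2 * m + 1) + 3 ^ (m + 1) + 1) hR hM1 hM2
  haveI : Finite ↥(Cfsg.Lie.twistedG2 K (3 ^ m)) := inferInstance
  haveI : Finite ↥(Cfsg.Agent.Lib.Helper1.RU.MM (K := K) (N + 1)) := inferInstance
  haveI : Finite (Shrink.{0} (↥(Cfsg.Lie.twistedG2 K (3 ^ m)) × ↥(Cfsg.Lie.twistedG2 K (3 ^ m)) ×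
      ↥(Cfsg.Agent.Lib.Helper1.RU.MM (K := K) (N + 1)))) :=
    Finite.of_equiv _ (equivShrink _)
  refine ⟨Shrink.{0} (↥(Cfsg.Lie.twistedG2 K (3 ^ m)) × ↥(Cfsg.Lie.twistedG2 K (3 ^ m)) ×
      ↥(Cfsg.Agent.Lib.Helper1.RU.MM (K := K) (N + 1))), inferInstance, Fintype.ofFinite _, ?_, ?_⟩
  · rw [← @Nat.card_eq_fintype_card _ (Fintype.ofFinite _), Nat.card_congr (equivShrink _).symm, Nat.card_prod, Nat.card_prod]
    have h1 := Cfsg.Agent.Lib.Helper1.RU.card_MM_gt (K := K) (N + 1)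
    have h2 : 0 < Nat.card ↥(Cfsg.Lie.twistedG2 K (3 ^ m)) := Nat.card_pos
    calc N < Nat.card ↥(Cfsg.Agent.Lib.Helper1.RU.MM (K := K) (N + 1)) := by omega
      _ ≤ Nat.card ↥(Cfsg.Lie.twistedG2 K (3 ^ m)) * (Nat.card ↥(Cfsg.Lie.twistedG2 K (3 ^ m)) *
          Nat.card ↥(Cfsg.Agent.Lib.Helper1.RU.MM (K := K) (N + 1))) := by
        calc Nat.card ↥(Cfsg.Agent.Lib.Helper1.RU.MM (K := K) (N + 1))
            ≤ Nat.card ↥(Cfsg.Lie.twistedG2 K (3 ^ m)) *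
              Nat.card ↥(Cfsg.Agent.Lib.Helper1.RU.MM (K := K) (N + 1)) := Nat.le_mul_of_pos_left _ h2
          _ ≤ _ := Nat.le_mul_of_pos_left _ h2
  · rw [← hrange]
    ext d
    constructor
    · rintro ⟨h, rfl⟩
      exact ⟨Shrink.mulEquiv h, MulEquiv.orderOf_eq _ _⟩
    · rintro ⟨p, rfl⟩
      exact ⟨Shrink.mulEquiv.symm p, MulEquiv.orderOf_eq _ _⟩

end Cfsg.Agent.S3626
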