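import Cfsg.Statements.S3634
import Mathlib

set_option autoImplicit false
open Cfsg

namespace Cfsg.Agent.S3634

open Finset

/-- norm vanishes for a fixed-point-free element of finite order -/
theorem norm_eq_one {A H : Type*} [CommGroup A] [Group H] (φ : H →* MulAut A)
    (g : H) (r : ℕ) (hg : g ^ r = 1) (hfix : ∀ v : A, φ g v = v → v = 1) (v : A) :
    ∏ i ∈ range r, φ (g ^ i) v = 1 := by
  apply hfix
  rw [map_prod]
  have h1 : ∀ i, φ g (φ (g ^ i) v) = φ (g ^ (i + 1)) v := by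
    intro i
    rw [pow_succ', map_mul]; rfl
  simp_rw [h1]
  rcases Nat.eq_zero_or_pos r with h0 | hpos
  · subst h0; simp
  · obtain ⟨k, rfl⟩ : ∃ k, r = k + 1 := ⟨r - 1, by omega⟩
    rw [Finset.prod_range_succ, Finset.prod_range_succ', hg]
    simp [mul_comm]


theorem trace_eq_one {A H : Type*} [CommGroup A] [Group H] (φ : H →* MulAut A)
    (Q : Subgroup H) [Fintype Q] (hQ : Q ≠ ⊥)
    (fQ : ∀ z ∈ Q, z ≠ 1 → ∀ v : A, φ z v = v → v = 1) (u : A) :
    ∏ z : Q, φ (z : H) u = 1 := by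
  obtain ⟨y, hyQ, hy1⟩ : ∃ y ∈ Q, y ≠ 1 := by
    by_contra hcon
    push Not at hcon
    exact hQ ((Subgroup.eq_bot_iff_forall Q).2 hcon)
  apply fQ y hyQ hy1
  rw [map_prod]
  have : ∀ z : Q, φ y (φ (z : H) u) = φ ((⟨y, hyQ⟩ * z : Q) : H) u := by
    intro z
    rw [Subgroup.coe_mul, map_mul]; rfl
  simp_rw [this]
  exact Fintype.prod_equiv (Equiv.mulLeft (⟨y, hyQ⟩ : Q)) _ _ (fun z => rfl)


theorem pow_card_eq_one {A H : Type*} [CommGroup A] [Group H] (φ : H →* MulAut A)
    (Q : Subgroup H) [Fintype Q] (hQ : Q ≠ ⊥) (x : H) (r : ℕ) (hr : r.Prime) (hxr : x ^ r = 1)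
    (hxQ : ∀ z ∈ Q, x * z * x⁻¹ ∈ Q)
    (fQ : ∀ z ∈ Q, z ≠ 1 → ∀ v : A, φ z v = v → v = 1)
    (fxQ : ∀ i : ℕ, ¬ r ∣ i → ∀ z ∈ Q, x ^ i * z * (x ^ i)⁻¹ = z → z = 1)
    (fxV : ∀ v : A, φ x v = v → v = 1) (v : A) :
    v ^ Fintype.card Q = 1 := by
  -- x^i normalizes Q
  have hxiQ : ∀ i : ℕ, ∀ z ∈ Q, x ^ i * z * (x ^ i)⁻¹ ∈ Q := by
    intro i
    induction i with
    | zero => intro z hz; simpa using hz
    | succ n ih =>
      intro z hz
      have := hxQ _ (ih z hz)
      have e : x ^ (n + 1) * z * (x ^ (n + 1))⁻¹ = x * (x ^ n * z * (x ^ n)⁻¹) * x⁻¹ := by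
        rw [pow_succ']; group
      rw [e]; exact this
  -- each conjugate of x is fixed point free of order r
  have hconj : ∀ z : Q, ∏ i ∈ range r, φ (((z : H)⁻¹ * x * z) ^ i) v = 1 := by
    intro z
    apply norm_eq_one φ _ r
    · have : ((z : H)⁻¹ * x * z) ^ r = (z : H)⁻¹ * x ^ r * z := by
        have := conj_pow (a := (z : H)⁻¹) (b := x) (i := r)
        simpa using this
      rw [this, hxr]; simp
    · intro w hw
      have h2 : φ x (φ (z : H) w) = φ (z : H) w := by
        have : φ ((z : H)⁻¹ * x * z) w = (φ (z:H))⁻¹ (φ x (φ (z:H) w)) := by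
          rw [map_mul, map_mul, map_inv]; rfl
        rw [this] at hw
        have := congrArg (φ (z : H)) hw
        simpa using this
      have h3 := fxV _ h2
      have : φ (z : H) w = φ (z : H) 1 := by rw [h3, map_one]
      exact (φ (z : H)).injective this
  have hsum : ∏ z : Q, ∏ i ∈ range r, φ (((z : H)⁻¹ * x * z) ^ i) v = 1 := by
    simp_rw [hconj]; simp
  rw [Finset.prod_comm] at hsum
  obtain ⟨k, rfl⟩ : ∃ k, r = k + 1 := ⟨r - 1, by have := hr.pos; omega⟩
  rw [Finset.prod_range_succ'] at hsum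
  have h0 : ∏ z : Q, φ (((z : H)⁻¹ * x * z) ^ 0) v = v ^ Fintype.card Q := by
    simp
  rw [h0] at hsum
  have hrest : ∏ i ∈ range k, ∏ z : Q, φ (((z : H)⁻¹ * x * z) ^ (i + 1)) v = 1 := by
    apply Finset.prod_eq_one
    intro i hi
    have hi' : ¬ (k + 1) ∣ (i + 1) := by
      intro hd
      have := Nat.le_of_dvd (by omega) hd
      have := Finset.mem_range.1 hi
      omega
    -- the bijection of Q
    let ψ : Q → Q := fun z => ⟨(z : H)⁻¹ * (x ^ (i + 1) * z * (x ^ (i + 1))⁻¹),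
      Q.mul_mem (Q.inv_mem z.2) (hxiQ _ _ z.2)⟩
    have hψinj : Function.Injective ψ := by
      intro z w hzw
      have h1 : (z : H)⁻¹ * (x ^ (i + 1) * z * (x ^ (i + 1))⁻¹)
          = (w : H)⁻¹ * (x ^ (i + 1) * w * (x ^ (i + 1))⁻¹) := congrArg Subtype.val hzw
      have h2 : x ^ (i + 1) * ((w : H) * (z : H)⁻¹) * (x ^ (i + 1))⁻¹ = (w : H) * (z : H)⁻¹ := by
        have e1 : x ^ (i + 1) * ((w : H) * (z : H)⁻¹) * (x ^ (i + 1))⁻¹
            = (x ^ (i + 1) * w * (x ^ (i + 1))⁻¹) * (x ^ (i + 1) * z * (x ^ (i + 1))⁻¹)⁻¹ := by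
          group
        rw [e1]
        have e2 : x ^ (i + 1) * w * (x ^ (i + 1))⁻¹
            = (w : H) * (z : H)⁻¹ * (x ^ (i + 1) * z * (x ^ (i + 1))⁻¹) := by
          rw [mul_assoc (w : H), h1]; group
        rw [e2]; group
      have h3 := fxQ (i + 1) hi' _ (Q.mul_mem w.2 (Q.inv_mem z.2)) h2
      have : (w : H) = z := by
        have := mul_inv_eq_one.1 h3
        exact this
      exact (Subtype.ext this).symm
    have hψbij : Function.Bijective ψ := Finite.injective_iff_bijective.1 hψinj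
    have hterm : ∀ z : Q, φ (((z : H)⁻¹ * x * z) ^ (i + 1)) v
        = φ ((ψ z : Q) : H) (φ (x ^ (i + 1)) v) := by
      intro z
      have e : ((z : H)⁻¹ * x * z) ^ (i + 1) = ((ψ z : Q) : H) * x ^ (i + 1) := by
        have := conj_pow (a := (z : H)⁻¹) (b := x) (i := i + 1)
        simp only [inv_inv] at this
        rw [this]
        show _ = (z : H)⁻¹ * (x ^ (i + 1) * z * (x ^ (i + 1))⁻¹) * x ^ (i + 1)
        group
      rw [e, map_mul]; rfl
    simp_rw [hterm]
    rw [Fintype.prod_bijective ψ hψbij _ (fun w : Q => φ (w : H) (φ (x ^ (i + 1)) v))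
      (fun z => rfl)]
    exact trace_eq_one φ Q hQ fQ _
  rw [hrest, one_mul] at hsum
  exact hsum


theorem exists_order_mul {G : Type*} [Group G] [Finite G] (a b : G) (hab : Commute a b)
    (p q : ℕ) (hp : p.Prime) (hq : q.Prime) (hpq : p ≠ q)
    (hpa : p ∣ orderOf a) (hqb : q ∣ orderOf b) : ∃ c : G, orderOf c = p * q := by
  refine ⟨a ^ (orderOf a / p) * b ^ (orderOf b / q), ?_⟩
  have h1 : orderOf (a ^ (orderOf a / p)) = p :=
    orderOf_pow_orderOf_div (orderOf_pos a).ne' hpa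
  have h2 : orderOf (b ^ (orderOf b / q)) = q :=
    orderOf_pow_orderOf_div (orderOf_pos b).ne' hqb
  have hc : Commute (a ^ (orderOf a / p)) (b ^ (orderOf b / q)) := hab.pow_pow _ _
  rw [hc.orderOf_mul_eq_mul_orderOf_of_coprime, h1, h2]
  rw [h1, h2]
  exact (Nat.coprime_primes hp hq).2 hpq


theorem dvd_orderOf_of_mem {G : Type*} [Group G] {p : ℕ} (hp : p.Prime) {P : Subgroup G}
    (hP : IsPGroup p P) {z : G} (hz : z ∈ P) (hz1 : z ≠ 1) : p ∣ orderOf z := by
  obtain ⟨k, hk⟩ := hP ⟨z, hz⟩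
  have hk' : z ^ (p ^ k) = 1 := by
    have := congrArg Subtype.val hk
    simpa using this
  have hd := orderOf_dvd_of_pow_eq_one hk'
  obtain ⟨j, hj, hj'⟩ := (Nat.dvd_prime_pow hp).1 hd
  rcases Nat.eq_zero_or_pos j with h0 | hpos
  · subst h0
    rw [pow_zero, orderOf_eq_one_iff] at hj'
    exact absurd hj' hz1
  · rw [hj']; exact dvd_pow_self p hpos.ne'


theorem core {G : Type*} [Group G] [Finite G] (p q r : ℕ) (hp : p.Prime) (hq : q.Prime)
    (hr : r.Prime) (hpq : p ≠ q) (hpr : p ≠ r) (hqr : q ≠ r)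
    (V : Subgroup G) [V.Normal] (hVc : ∀ a ∈ V, ∀ b ∈ V, a * b = b * a) (hVp : IsPGroup p V)
    (hV1 : V ≠ ⊥) (Q : Subgroup G) (hQq : IsPGroup q Q) (hQ1 : Q ≠ ⊥)
    (x : G) (hx : orderOf x = r) (hxQ : ∀ z ∈ Q, x * z * x⁻¹ ∈ Q) :
    (∃ g : G, orderOf g = p * q) ∨ (∃ g : G, orderOf g = p * r) ∨ (∃ g : G, orderOf g = q * r) := by
  by_contra hcon
  push Not at hcon
  obtain ⟨h1, h2, h3⟩ := hcon
  let instV : CommGroup ↥V :=
    { (inferInstance : Group ↥V) with
      mul_comm := fun a b => Subtype.ext (hVc a a.2 b b.2) }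
  have : Fintype ↥Q := Fintype.ofFinite _
  have key : ∀ v : ↥V, v ^ Fintype.card Q = 1 := by
    intro v
    refine pow_card_eq_one (A := ↥V) (MulAut.conjNormal (H := V)) Q hQ1 x r hr
      (by rw [← hx]; exact pow_orderOf_eq_one x) hxQ ?_ ?_ ?_ v
    · intro z hz hz1 v hv
      by_contra hv1
      have hcomm : Commute (v : G) z := by
        have := congrArg Subtype.val hv
        rw [MulAut.conjNormal_apply] at this
        have e : z * (v : G) = v * z := by
          calc z * (v : G) = z * v * z⁻¹ * z := by group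
            _ = v * z := by rw [this]
        exact e.symm
      obtain ⟨c, hc⟩ := exists_order_mul (v : G) z hcomm p q hp hq hpq
        (dvd_orderOf_of_mem hp hVp v.2 (fun h => hv1 (Subtype.ext h)))
        (dvd_orderOf_of_mem hq hQq hz hz1)
      exact h1 c hc
    · intro i hi z hz hfix
      by_contra hz1
      have hcomm : Commute z (x ^ i) := by
        have e : x ^ i * z = z * x ^ i := by
          calc x ^ i * z = x ^ i * z * (x ^ i)⁻¹ * x ^ i := by group
            _ = z * x ^ i := by rw [hfix]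
        exact e.symm
      have hord : orderOf (x ^ i) = r := by
        rw [Nat.Coprime.orderOf_pow, hx]
        rw [hx]
        exact (Nat.Prime.coprime_iff_not_dvd hr).2 hi
      obtain ⟨c, hc⟩ := exists_order_mul z (x ^ i) hcomm q r hq hr hqr
        (dvd_orderOf_of_mem hq hQq hz hz1) (by rw [hord])
      exact h3 c hc
    · intro v hv
      by_contra hv1
      have hcomm : Commute (v : G) x := by
        have := congrArg Subtype.val hv
        rw [MulAut.conjNormal_apply] at this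
        have e : x * (v : G) = v * x := by
          calc x * (v : G) = x * v * x⁻¹ * x := by group
            _ = v * x := by rw [this]
        exact e.symm
      obtain ⟨c, hc⟩ := exists_order_mul (v : G) x hcomm p r hp hr hpr
        (dvd_orderOf_of_mem hp hVp v.2 (fun h => hv1 (Subtype.ext h))) (by rw [hx])
      exact h2 c hc
  apply hV1
  rw [Subgroup.eq_bot_iff_forall]
  intro v hv
  have hk := key ⟨v, hv⟩
  have hk' : v ^ Fintype.card Q = 1 := by
    have := congrArg Subtype.val hk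
    simpa using this
  by_contra hv1
  have hpv := dvd_orderOf_of_mem hp hVp hv hv1
  have hd := orderOf_dvd_of_pow_eq_one hk'
  have : Fact q.Prime := ⟨hq⟩
  obtain ⟨n, hn⟩ := hQq.exists_card_eq
  rw [← Nat.card_eq_fintype_card, hn] at hd
  have := hp.dvd_of_dvd_pow (hpv.trans hd)
  exact hpq ((Nat.prime_dvd_prime_iff_eq hp hq).1 this)


theorem lemmaA {G : Type*} [Group G] [Finite G] (p q r : ℕ) (hp : p.Prime) (hq : q.Prime)
    (hr : r.Prime) (hpq : p ≠ q) (hpr : p ≠ r) (hqr : q ≠ r)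
    (P : Subgroup G) [P.Normal] (hP : IsPGroup p P) (hP1 : P ≠ ⊥)
    (M : Subgroup G) [M.Normal] (hqM : q ∣ Nat.card M) (hrM : r ∣ M.index) :
    (∃ g : G, orderOf g = p * q) ∨ (∃ g : G, orderOf g = p * r) ∨ (∃ g : G, orderOf g = q * r) := by
  have : Fact p.Prime := ⟨hp⟩
  have : Fact q.Prime := ⟨hq⟩
  have : Fact r.Prime := ⟨hr⟩
  -- the abelian normal p-subgroup
  have hVc : ∀ a ∈ P ⊓ Subgroup.centralizer (P : Set G),
      ∀ b ∈ P ⊓ Subgroup.centralizer (P : Set G), a * b = b * a := by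
    intro a ha b hb
    exact (Subgroup.mem_centralizer_iff.1 ha.2 b hb.1).symm
  have hVp : IsPGroup p ↥(P ⊓ Subgroup.centralizer (P : Set G)) := hP.to_le inf_le_left
  have hV1 : P ⊓ Subgroup.centralizer (P : Set G) ≠ ⊥ := by
    have : Nontrivial ↥P := (Subgroup.nontrivial_iff_ne_bot P).2 hP1
    have := hP.center_nontrivial
    obtain ⟨z, hz⟩ := exists_ne (1 : Subgroup.center ↥P)
    intro hbot
    have hmem : ((z : ↥P) : G) ∈ P ⊓ Subgroup.centralizer (P : Set G) := by
      refine ⟨(z : ↥P).2, ?_⟩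
      refine Subgroup.mem_centralizer_iff.2 ?_
      intro h hh
      have := Subgroup.mem_center_iff.1 z.2 ⟨h, hh⟩
      exact congrArg Subtype.val this
    rw [hbot, Subgroup.mem_bot] at hmem
    apply hz
    apply Subtype.ext
    apply Subtype.ext
    exact hmem
  -- Sylow q of M
  obtain Q : Sylow q ↥M := default
  have hQ1 : (Q : Subgroup ↥M).map M.subtype ≠ ⊥ := by
    rw [Ne, Subgroup.map_eq_bot_iff_of_injective _ M.subtype_injective]
    exact Q.ne_bot_of_dvd_card hqM
  have hQq : IsPGroup q ↥((Q : Subgroup ↥M).map M.subtype) := Q.2.map M.subtype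
  have hF : Subgroup.normalizer (((Q : Subgroup ↥M).map M.subtype : Subgroup G) : Set G) ⊔ M = ⊤ := Sylow.normalizer_sup_eq_top Q
  have hrN : r ∣ Nat.card ↥(Subgroup.normalizer (((Q : Subgroup ↥M).map M.subtype : Subgroup G) : Set G)) := by
    have h1 : M.index = M.relIndex (Subgroup.normalizer (((Q : Subgroup ↥M).map M.subtype : Subgroup G) : Set G)) := by
      rw [← Subgroup.relIndex_top_right, ← hF, Subgroup.relIndex_sup_right]
    rw [h1] at hrM
    exact hrM.trans (Subgroup.relIndex_dvd_card _ _)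
  obtain ⟨x, hx⟩ := exists_prime_orderOf_dvd_card' r hrN
  have hx' : orderOf (x : G) = r := by rw [Subgroup.orderOf_coe]; exact hx
  refine core p q r hp hq hr hpq hpr hqr (P ⊓ Subgroup.centralizer (P : Set G)) hVc hVp hV1
    ((Q : Subgroup ↥M).map M.subtype) hQq hQ1 (x : G) hx' ?_
  intro z hz
  exact (Subgroup.mem_normalizer_iff.1 x.2 z).1 hz


theorem card_div_card {G : Type*} [Group G] [Finite G] {K M : Subgroup G} (h : K ≤ M) :
    Nat.card ↥M / Nat.card ↥K = K.relIndex M := by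
  have h1 : Nat.card ↥(K.subgroupOf M) = Nat.card ↥K :=
    Nat.card_congr (Subgroup.subgroupOfEquivOfLe h).toEquiv
  have h2 := Subgroup.card_mul_index (K.subgroupOf M)
  rw [h1] at h2
  rw [← h2, Nat.mul_div_cancel_left _ Nat.card_pos]
  rfl

/-- Let G be a finite group with normal subgroups K ≤ M, and let p, q, r be distinct primes with p dividing the order of K, q dividing the order of M/K and r dividing the order of G/M. Then p, q, r are not pairwise non-adjacent in the prime graph of G: G has an element of order pq, pr or qr. -/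
theorem result {G : Type*} [Group G] [Finite G] (K M : Subgroup G) [K.Normal] [M.Normal] (hKM : K ≤ M)
    (p q r : ℕ) (hp : p.Prime) (hq : q.Prime) (hr : r.Prime) (hpq : p ≠ q) (hpr : p ≠ r) (hqr : q ≠ r)
    (hpK : p ∣ Nat.card ↥K) (hqM : q ∣ Nat.card ↥M / Nat.card ↥K) (hrG : r ∣ Nat.card G / Nat.card ↥M) :
    (∃ x : G, orderOf x = p * q) ∨ (∃ x : G, orderOf x = p * r) ∨ (∃ x : G, orderOf x = q * r) := by
  have : Fact p.Prime := ⟨hp⟩
  obtain P : Sylow p ↥K := default
  have hP1 : (P : Subgroup ↥K).map K.subtype ≠ ⊥ := by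
    rw [Ne, Subgroup.map_eq_bot_iff_of_injective _ K.subtype_injective]
    exact P.ne_bot_of_dvd_card hpK
  have hPp : IsPGroup p ↥((P : Subgroup ↥K).map K.subtype) := P.2.map K.subtype
  have hF : Subgroup.normalizer (((P : Subgroup ↥K).map K.subtype : Subgroup G) : Set G) ⊔ K = ⊤ :=
    Sylow.normalizer_sup_eq_top P
  generalize hP₀ : (P : Subgroup ↥K).map K.subtype = P₀ at hP1 hPp hF
  have hP₀K : P₀ ≤ K := by
    rw [← hP₀]; exact Subgroup.map_subtype_le _
  generalize hG₁ : Subgroup.normalizer (P₀ : Set G) = G₁ at hF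
  have hPG₁ : P₀ ≤ G₁ := by rw [← hG₁]; exact Subgroup.le_normalizer
  have : (P₀.subgroupOf G₁).Normal := by
    rw [← hG₁]; exact Subgroup.normal_in_normalizer
  -- index of M
  have hF' : G₁ ⊔ M = ⊤ := by
    apply top_le_iff.1
    rw [← hF]
    exact sup_le_sup_left hKM _
  have hr' : r ∣ (M.subgroupOf G₁).index := by
    have h1 : Nat.card G / Nat.card ↥M = M.index := by
      rw [← Subgroup.card_mul_index M, Nat.mul_div_cancel_left _ Nat.card_pos]
    rw [h1] at hrG
    have h2 : (M.subgroupOf G₁).index = M.index := by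
      change M.relIndex G₁ = _
      rw [← Subgroup.relIndex_sup_right, hF', Subgroup.relIndex_top_right]
    rw [h2]; exact hrG
  -- order of M ⊓ G₁
  have hq' : q ∣ Nat.card ↥(M.subgroupOf G₁) := by
    rw [card_div_card hKM] at hqM
    have hmod : M = K ⊔ (M ⊓ G₁) := by
      apply le_antisymm
      · intro m hm
        have hm' : m ∈ ((K ⊔ G₁ : Subgroup G) : Set G) := by
          rw [sup_comm, hF]; trivial
        rw [Subgroup.normal_mul] at hm'
        obtain ⟨k, hk, g, hg, rfl⟩ := hm'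
        refine Subgroup.mul_mem_sup hk ⟨?_, hg⟩
        have : g = k⁻¹ * (k * g) := by group
        rw [this]
        exact M.mul_mem (M.inv_mem (hKM hk)) hm
      · exact sup_le hKM inf_le_left
    have h3 : K.relIndex M = K.relIndex (M ⊓ G₁) := by
      conv_lhs => rw [hmod]
      rw [Subgroup.relIndex_sup_left]
    rw [h3] at hqM
    have h4 : Nat.card ↥(M.subgroupOf G₁) = Nat.card ↥(M ⊓ G₁ : Subgroup G) := by
      rw [← Subgroup.subgroupOf_map_subtype,
        Subgroup.card_map_of_injective G₁.subtype_injective]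
    rw [h4]
    exact hqM.trans (Subgroup.relIndex_dvd_card _ _)
  have hP' : IsPGroup p ↥(P₀.subgroupOf G₁) := hPp.comap_subtype
  have hP1' : P₀.subgroupOf G₁ ≠ ⊥ := by
    intro hbot
    apply hP1
    rw [Subgroup.eq_bot_iff_forall]
    intro z hz
    have : (⟨z, hPG₁ hz⟩ : ↥G₁) ∈ P₀.subgroupOf G₁ := Subgroup.mem_subgroupOf.2 hz
    rw [hbot, Subgroup.mem_bot] at this
    exact congrArg Subtype.val this
  have := lemmaA (G := ↥G₁) p q r hp hq hr hpq hpr hqr (P₀.subgroupOf G₁) hP' hP1'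
    (M.subgroupOf G₁) hq' hr'
  rcases this with ⟨g, hg⟩ | ⟨g, hg⟩ | ⟨g, hg⟩
  · exact Or.inl ⟨(g : G), by rw [Subgroup.orderOf_coe]; exact hg⟩
  · exact Or.inr (Or.inl ⟨(g : G), by rw [Subgroup.orderOf_coe]; exact hg⟩)
  · exact Or.inr (Or.inr ⟨(g : G), by rw [Subgroup.orderOf_coe]; exact hg⟩)

end Cfsg.Agent.S3634
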