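import Cfsg.Statements.S3633
import Mathlib
import Cfsg.Agent.S3634

set_option autoImplicit false
open Cfsg

namespace Cfsg.Agent.S3633

universe u

/-- lifting an element order from a quotient -/
theorem lift_order {G : Type*} [Group G] [Finite G] (N : Subgroup G) [N.Normal] (n : ℕ)
    (h : ∃ g : G ⧸ N, orderOf g = n) : ∃ g : G, orderOf g = n := by
  obtain ⟨gb, hgb⟩ := h
  obtain ⟨g, rfl⟩ := QuotientGroup.mk'_surjective N gb
  have hd : n ∣ orderOf g := by
    rw [← hgb]; exact orderOf_map_dvd (QuotientGroup.mk' N) g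
  exact ⟨g ^ (orderOf g / n), orderOf_pow_orderOf_div (orderOf_pos g).ne' hd⟩


/-- a nontrivial solvable normal subgroup contains a nontrivial abelian normal subgroup -/
theorem exists_abelian_normal {G : Type*} [Group G] [Finite G] (K : Subgroup G) [K.Normal]
    (hK : Group.IsSolvable ↥K) (hK1 : K ≠ ⊥) :
    ∃ U : Subgroup G, U.Normal ∧ U ≤ K ∧ U ≠ ⊥ ∧ ∀ a ∈ U, ∀ b ∈ U, a * b = b * a := by
  obtain ⟨U, ⟨hUn, hUK, hU1⟩, hmin⟩ := WellFounded.has_min
    (wellFounded_lt (α := Subgroup G)) {H : Subgroup G | H.Normal ∧ H ≤ K ∧ H ≠ ⊥}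
    ⟨K, inferInstance, le_rfl, hK1⟩
  refine ⟨U, hUn, hUK, hU1, ?_⟩
  have hsolv : Group.IsSolvable ↥U :=
    Group.isSolvable_of_isSolvable_injective (Subgroup.inclusion_injective hUK)
  have hlt : ⁅U, U⁆ < U := by
    have : Nontrivial ↥U := (Subgroup.nontrivial_iff_ne_bot U).2 hU1
    have h := Group.IsSolvable.commutator_lt_top_of_nontrivial ↥U
    rw [← U.range_subtype, MonoidHom.range_eq_map, ← Subgroup.map_commutator,
      Subgroup.map_subtype_lt_map_subtype]
    exact h
  have hbot : ⁅U, U⁆ = ⊥ := by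
    by_contra hne
    exact hmin ⁅U, U⁆ ⟨inferInstance, hlt.le.trans hUK, hne⟩ hlt
  rw [Subgroup.commutator_eq_bot_iff_le_centralizer] at hbot
  intro a ha b hb
  exact (Subgroup.mem_centralizer_iff.1 (hbot ha) b hb).symm


/-- two primes dividing the order of an abelian subgroup -/
theorem abelian_two_primes {G : Type*} [Group G] [Finite G] (U : Subgroup G)
    (hUc : ∀ a ∈ U, ∀ b ∈ U, a * b = b * a) (b c : ℕ) (hb : b.Prime) (hc : c.Prime) (hbc : b ≠ c)
    (hbU : b ∣ Nat.card U) (hcU : c ∣ Nat.card U) : ∃ g : G, orderOf g = b * c := by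
  have : Fact b.Prime := ⟨hb⟩
  have : Fact c.Prime := ⟨hc⟩
  obtain ⟨x, hx⟩ := exists_prime_orderOf_dvd_card' b hbU
  obtain ⟨y, hy⟩ := exists_prime_orderOf_dvd_card' c hcU
  have hx' : orderOf (x : G) = b := by rw [Subgroup.orderOf_coe]; exact hx
  have hy' : orderOf (y : G) = c := by rw [Subgroup.orderOf_coe]; exact hy
  exact Cfsg.Agent.S3634.exists_order_mul (x : G) (y : G) (hUc _ x.2 _ y.2) b c hb hc hbc
    (by rw [hx']) (by rw [hy'])


/-- order of the image in a quotient -/
theorem card_map_mk {G : Type*} [Group G] [Finite G] (U K : Subgroup G) [U.Normal] (hUK : U ≤ K) :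
    Nat.card ↥(K.map (QuotientGroup.mk' U)) * Nat.card ↥U = Nat.card ↥K := by
  have h1 : Nat.card ↥(K.map (QuotientGroup.mk' U)) = U.relIndex K := by
    have := Subgroup.relIndex_map_map (QuotientGroup.mk' U) ⊥ K
    rw [Subgroup.map_bot, Subgroup.relIndex_bot_left, QuotientGroup.ker_mk', bot_sup_eq,
      sup_of_le_left hUK] at this
    exact this
  rw [h1, ← Cfsg.Agent.S3634.card_div_card hUK]
  exact Nat.div_mul_cancel (Subgroup.card_dvd_of_le hUK)


theorem ne_bot_of_prime_dvd {G : Type*} [Group G] (K : Subgroup G) (b : ℕ) (hb : b.Prime)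
    (h : b ∣ Nat.card K) : K ≠ ⊥ := by
  rintro rfl
  rw [Subgroup.card_bot] at h
  exact hb.one_lt.ne' (Nat.dvd_one.1 h)


/-- data transported to the quotient by a normal subgroup `U ≤ K` -/
theorem quot_data {G : Type u} [Group G] [Finite G] (U K : Subgroup G) [U.Normal] [K.Normal]
    (hU1 : U ≠ ⊥) (hK : Group.IsSolvable ↥K) :
    Nat.card (G ⧸ U) < Nat.card G ∧ (K.map (QuotientGroup.mk' U)).Normal ∧
      Group.IsSolvable ↥(K.map (QuotientGroup.mk' U)) ∧
      Nat.card (G ⧸ U) * Nat.card U = Nat.card G := by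
  have hc := Subgroup.card_eq_card_quotient_mul_card_subgroup U
  refine ⟨?_, Subgroup.Normal.map inferInstance _ (QuotientGroup.mk'_surjective U), ?_, hc.symm⟩
  · have h2 : 1 < Nat.card U := by
      rw [Subgroup.one_lt_card_iff_ne_bot]; exact hU1
    have hpos : 0 < Nat.card (G ⧸ U) := Nat.card_pos
    rw [hc]
    nlinarith
  · exact Group.isSolvable_of_surjective
      (MonoidHom.subgroupMap_surjective (QuotientGroup.mk' U) K)


theorem two (n : ℕ) : ∀ (G : Type u) [Group G] [Finite G], Nat.card G = n →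
    ∀ (K : Subgroup G) [K.Normal], Group.IsSolvable ↥K → ∀ b c : ℕ, b.Prime → c.Prime → b ≠ c →
    b ∣ Nat.card K → c ∣ Nat.card G →
    (∃ g : G, orderOf g = b * c) ∨ ∃ M : Subgroup G, M.Normal ∧
      ((b ∣ Nat.card M ∧ c ∣ M.index) ∨ (c ∣ Nat.card M ∧ b ∣ M.index)) := by
  induction n using Nat.strong_induction_on with
  | _ n ih =>
    intro G _ _ hn K _ hK b c hb hc hbc hbK hcG
    have hK1 := ne_bot_of_prime_dvd K b hb hbK
    obtain ⟨U, hUn, hUK, hU1, hUc⟩ := exists_abelian_normal K hK hK1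
    have hUG := Subgroup.card_mul_index U
    have hbG : b ∣ Nat.card G := hbK.trans (Subgroup.card_subgroup_dvd_card K)
    by_cases hbU : b ∣ Nat.card U
    · by_cases hcU : c ∣ Nat.card U
      · exact Or.inl (abelian_two_primes U hUc b c hb hc hbc hbU hcU)
      · refine Or.inr ⟨U, hUn, Or.inl ⟨hbU, ?_⟩⟩
        rw [← hUG] at hcG
        exact (hc.dvd_mul.1 hcG).resolve_left hcU
    · by_cases hcU : c ∣ Nat.card U
      · refine Or.inr ⟨U, hUn, Or.inr ⟨hcU, ?_⟩⟩
        rw [← hUG] at hbG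
        exact (hb.dvd_mul.1 hbG).resolve_left hbU
      · obtain ⟨hlt, hKn, hKs, hcard⟩ := quot_data U K hU1 hK
        have hbK' : b ∣ Nat.card ↥(K.map (QuotientGroup.mk' U)) := by
          have := card_map_mk U K hUK
          rw [← this] at hbK
          exact (hb.dvd_mul.1 hbK).resolve_right hbU
        have hcG' : c ∣ Nat.card (G ⧸ U) := by
          rw [← hcard] at hcG
          exact (hc.dvd_mul.1 hcG).resolve_right hcU
        rcases ih (Nat.card (G ⧸ U)) (hn ▸ hlt) (G ⧸ U) rfl (K.map (QuotientGroup.mk' U)) hKs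
          b c hb hc hbc hbK' hcG' with h | ⟨Mb, hMbn, hMb⟩
        · exact Or.inl (lift_order U _ h)
        · refine Or.inr ⟨Mb.comap (QuotientGroup.mk' U), hMbn.comap _, ?_⟩
          have hidx : (Mb.comap (QuotientGroup.mk' U)).index = Mb.index :=
            Subgroup.index_comap_of_surjective Mb (QuotientGroup.mk'_surjective U)
          have hle : U ≤ Mb.comap (QuotientGroup.mk' U) := by
            have := (QuotientGroup.mk' U).ker_le_comap Mb
            rwa [QuotientGroup.ker_mk'] at this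
          have hcardM := card_map_mk U (Mb.comap (QuotientGroup.mk' U)) hle
          rw [Subgroup.map_comap_eq_self_of_surjective (QuotientGroup.mk'_surjective U)] at hcardM
          rw [hidx, ← hcardM]
          rcases hMb with ⟨h1, h2⟩ | ⟨h1, h2⟩
          · exact Or.inl ⟨h1.mul_right _, h2⟩
          · exact Or.inr ⟨h1.mul_right _, h2⟩


/-- the conclusion, as a proposition -/
def Adj (G : Type*) [Monoid G] (r s t : ℕ) : Prop :=
  (∃ g : G, orderOf g = r * s) ∨ (∃ g : G, orderOf g = r * t) ∨ (∃ g : G, orderOf g = s * t)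


theorem adj_swap12 {G : Type*} [Monoid G] {r s t : ℕ} (h : Adj G r s t) : Adj G s r t := by
  rcases h with ⟨g, hg⟩ | ⟨g, hg⟩ | ⟨g, hg⟩
  · exact Or.inl ⟨g, by rw [hg, mul_comm]⟩
  · exact Or.inr (Or.inr ⟨g, hg⟩)
  · exact Or.inr (Or.inl ⟨g, hg⟩)


theorem adj_swap23 {G : Type*} [Monoid G] {r s t : ℕ} (h : Adj G r s t) : Adj G r t s := by
  rcases h with ⟨g, hg⟩ | ⟨g, hg⟩ | ⟨g, hg⟩
  · exact Or.inr (Or.inl ⟨g, hg⟩)
  · exact Or.inl ⟨g, hg⟩
  · exact Or.inr (Or.inr ⟨g, by rw [hg, mul_comm]⟩)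


/-- the chain statement with indices -/
theorem chain {G : Type*} [Group G] [Finite G] (K M : Subgroup G) [K.Normal] [M.Normal]
    (hKM : K ≤ M) (p q r : ℕ) (hp : p.Prime) (hq : q.Prime) (hr : r.Prime) (hpq : p ≠ q)
    (hpr : p ≠ r) (hqr : q ≠ r) (hpK : p ∣ Nat.card ↥K) (hqM : q ∣ K.relIndex M)
    (hrG : r ∣ M.index) : Adj G p q r := by
  refine Cfsg.Agent.S3634.result K M hKM p q r hp hq hr hpq hpr hqr hpK ?_ ?_
  · rw [Cfsg.Agent.S3634.card_div_card hKM]; exact hqM
  · rw [← Subgroup.card_mul_index M, Nat.mul_div_cancel_left _ Nat.card_pos]; exact hrG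


theorem mid {G : Type u} [Group G] [Finite G] (K U : Subgroup G) [K.Normal] [U.Normal]
    (hUK : U ≤ K) (hK : Group.IsSolvable ↥K) (a b c : ℕ) (ha : a.Prime) (hb : b.Prime)
    (hc : c.Prime) (hab : a ≠ b) (hac : a ≠ c) (hbc : b ≠ c) (haU : a ∣ Nat.card U)
    (hbU : ¬ b ∣ Nat.card U) (hcU : ¬ c ∣ Nat.card U) (hbK : b ∣ Nat.card K)
    (hcG : c ∣ Nat.card G) : Adj G a b c := by
  have hU1 := ne_bot_of_prime_dvd U a ha haU
  obtain ⟨-, hKn, hKs, hcard⟩ := quot_data U K hU1 hK
  have hbK' : b ∣ Nat.card ↥(K.map (QuotientGroup.mk' U)) := by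
    have := card_map_mk U K hUK
    rw [← this] at hbK
    exact (hb.dvd_mul.1 hbK).resolve_right hbU
  have hcG' : c ∣ Nat.card (G ⧸ U) := by
    rw [← hcard] at hcG
    exact (hc.dvd_mul.1 hcG).resolve_right hcU
  rcases two _ (G ⧸ U) rfl (K.map (QuotientGroup.mk' U)) hKs b c hb hc hbc hbK' hcG' with
    h | ⟨Mb, hMbn, hMb⟩
  · exact Or.inr (Or.inr (lift_order U _ h))
  · haveI : (Mb.comap (QuotientGroup.mk' U)).Normal := hMbn.comap _
    have hidx : (Mb.comap (QuotientGroup.mk' U)).index = Mb.index :=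
      Subgroup.index_comap_of_surjective Mb (QuotientGroup.mk'_surjective U)
    have hle : U ≤ Mb.comap (QuotientGroup.mk' U) := by
      have := (QuotientGroup.mk' U).ker_le_comap Mb
      rwa [QuotientGroup.ker_mk'] at this
    have hrel : U.relIndex (Mb.comap (QuotientGroup.mk' U)) = Nat.card Mb := by
      have h1 := card_map_mk U (Mb.comap (QuotientGroup.mk' U)) hle
      rw [Subgroup.map_comap_eq_self_of_surjective (QuotientGroup.mk'_surjective U)] at h1
      have h2 := Cfsg.Agent.S3634.card_div_card hle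
      rw [← h2, ← h1, Nat.mul_div_cancel _ Nat.card_pos]
    rcases hMb with ⟨h1, h2⟩ | ⟨h1, h2⟩
    · exact chain U _ hle a b c ha hb hc hab hac hbc haU (by rw [hrel]; exact h1)
        (by rw [hidx]; exact h2)
    · exact adj_swap23 (chain U _ hle a c b ha hc hb hac hab hbc.symm haU
        (by rw [hrel]; exact h1) (by rw [hidx]; exact h2))


theorem three (n : ℕ) : ∀ (G : Type u) [Group G] [Finite G], Nat.card G = n →
    ∀ (K : Subgroup G) [K.Normal], Group.IsSolvable ↥K → ∀ r s t : ℕ, r.Prime → s.Prime →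
    t.Prime → r ≠ s → r ≠ t → s ≠ t → r ∣ Nat.card K → s ∣ Nat.card K → t ∣ Nat.card G →
    Adj G r s t := by
  induction n using Nat.strong_induction_on with
  | _ n ih =>
    intro G _ _ hn K _ hK r s t hr hs ht hrs hrt hst hrK hsK htG
    have hK1 := ne_bot_of_prime_dvd K r hr hrK
    obtain ⟨U, hUn, hUK, hU1, hUc⟩ := exists_abelian_normal K hK hK1
    have hKG := Subgroup.card_subgroup_dvd_card K
    by_cases hrU : r ∣ Nat.card U
    · by_cases hsU : s ∣ Nat.card U
      · exact Or.inl (abelian_two_primes U hUc r s hr hs hrs hrU hsU)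
      · by_cases htU : t ∣ Nat.card U
        · exact Or.inr (Or.inl (abelian_two_primes U hUc r t hr ht hrt hrU htU))
        · exact mid K U hUK hK r s t hr hs ht hrs hrt hst hrU hsU htU hsK htG
    · by_cases hsU : s ∣ Nat.card U
      · by_cases htU : t ∣ Nat.card U
        · exact Or.inr (Or.inr (abelian_two_primes U hUc s t hs ht hst hsU htU))
        · exact adj_swap12 (mid K U hUK hK s r t hs hr ht hrs.symm hst hrt hsU hrU htU hrK htG)
      · by_cases htU : t ∣ Nat.card U
        · exact adj_swap23 (adj_swap12 (mid K U hUK hK t r s ht hr hs hrt.symm hst.symm hrs htU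
            hrU hsU hrK (hsK.trans hKG)))
        · obtain ⟨hlt, hKn, hKs, hcard⟩ := quot_data U K hU1 hK
          have hcm := card_map_mk U K hUK
          have hrK' : r ∣ Nat.card ↥(K.map (QuotientGroup.mk' U)) := by
            rw [← hcm] at hrK
            exact (hr.dvd_mul.1 hrK).resolve_right hrU
          have hsK' : s ∣ Nat.card ↥(K.map (QuotientGroup.mk' U)) := by
            rw [← hcm] at hsK
            exact (hs.dvd_mul.1 hsK).resolve_right hsU
          have htG' : t ∣ Nat.card (G ⧸ U) := by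
            rw [← hcard] at htG
            exact (ht.dvd_mul.1 htG).resolve_right htU
          rcases ih (Nat.card (G ⧸ U)) (hn ▸ hlt) (G ⧸ U) rfl (K.map (QuotientGroup.mk' U)) hKs
            r s t hr hs ht hrs hrt hst hrK' hsK' htG' with h | h | h
          · exact Or.inl (lift_order U _ h)
          · exact Or.inr (Or.inl (lift_order U _ h))
          · exact Or.inr (Or.inr (lift_order U _ h))

/-- Let G be a finite group and ρ a set of at least three prime divisors of the order of G that are pairwise non-adjacent in the prime graph (no element of order rs for distinct r, s ∈ ρ). Then at most one prime of ρ divides the order of any given solvable normal subgroup of G; in particular G is not solvable. -/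
theorem result {G : Type*} [Group G] [Finite G] (ρ : Finset ℕ) (hρ : 3 ≤ ρ.card) (hc : ((∀ r ∈ ρ, r.Prime ∧ r ∣ Nat.card G) ∧ (∀ r ∈ ρ, ∀ s ∈ ρ, r ≠ s → ¬ ∃ x : G, orderOf x = r * s)))
    (K : Subgroup G) [K.Normal] (hK : Group.IsSolvable ↥K) :
    (∀ r ∈ ρ, ∀ s ∈ ρ, r ∣ Nat.card ↥K → s ∣ Nat.card ↥K → r = s) ∧ ¬ Group.IsSolvable G := by
  obtain ⟨hc1, hc2⟩ := hc
  have key : ∀ (K : Subgroup G) [K.Normal], Group.IsSolvable ↥K →
      ∀ r ∈ ρ, ∀ s ∈ ρ, r ∣ Nat.card ↥K → s ∣ Nat.card ↥K → r = s := by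
    intro K _ hK r hr s hs hrK hsK
    by_contra hrs
    obtain ⟨t, ht, htr, hts⟩ : ∃ t ∈ ρ, t ≠ r ∧ t ≠ s := by
      have h1 : 1 ≤ ((ρ.erase r).erase s).card := by
        have h2 : (ρ.erase r).card = ρ.card - 1 := Finset.card_erase_of_mem hr
        have h3 : ((ρ.erase r).erase s).card = (ρ.erase r).card - 1 :=
          Finset.card_erase_of_mem (Finset.mem_erase.2 ⟨fun h => hrs h.symm, hs⟩)
        omega
      obtain ⟨t, ht⟩ := Finset.card_pos.1 h1
      rw [Finset.mem_erase, Finset.mem_erase] at ht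
      exact ⟨t, ht.2.2, ht.2.1, ht.1⟩
    rcases three _ G rfl K hK r s t (hc1 r hr).1 (hc1 s hs).1 (hc1 t ht).1 hrs htr.symm hts.symm
      hrK hsK (hc1 t ht).2 with h | h | h
    · exact hc2 r hr s hs hrs h
    · exact hc2 r hr t ht htr.symm h
    · exact hc2 s hs t ht hts.symm h
  refine ⟨key K hK, ?_⟩
  intro hG
  have htop : Group.IsSolvable ↥(⊤ : Subgroup G) := inferInstance
  have hcard : Nat.card ↥(⊤ : Subgroup G) = Nat.card G := Subgroup.card_top
  have hall : ∀ r ∈ ρ, ∀ s ∈ ρ, r = s := by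
    intro r hr s hs
    exact key ⊤ htop r hr s hs (by rw [hcard]; exact (hc1 r hr).2) (by rw [hcard]; exact (hc1 s hs).2)
  have : ρ.card ≤ 1 := Finset.card_le_one.2 (fun a ha b hb => hall a ha b hb)
  omega

end Cfsg.Agent.S3633
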