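import Cfsg.Statements.S3641
import Cfsg.Agent.Lib.Helper5.SN17Range
import Cfsg.Agent.Lib.Helper4.SN17N1
import Cfsg.Agent.Lib.Helper4.SN17N9a
import Cfsg.Agent.Lib.Helper6.SN17N5
import Cfsg.Agent.Lib.Helper6.SN17N6
import Cfsg.Agent.Lib.Helper9.SN17N7
import Cfsg.Agent.Lib.Helper9.SN17N8
import Cfsg.Agent.Lib.Helper8.SN17N4a
import Cfsg.Agent.Lib.Helper8.SN17N4b

set_option autoImplicit false
set_option linter.style.haveILetI false
open Cfsg

namespace Cfsg.Agent.S3641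

/-- Let G be a finite group with trivial centre whose set of Sylow numbers (numbers of Sylow r-subgroups, r over the prime divisors of its order) is exactly {18, 136, 153}. Then G is isomorphic to PSL(2, 17) or to PGL(2, 17). -/
theorem result {G : Type*} [Group G] [Finite G] (hZ : Subgroup.center G = ⊥) (hNS : {c : ℕ | ∃ r : ℕ, r.Prime ∧ r ∣ Nat.card G ∧ c = Nat.card (Sylow r G)} = ({18, 136, 153} : Set ℕ))
    {F : Type*} [Field F] [Fintype F] (hF : Fintype.card F = 17) :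
    Nonempty (G ≃* Matrix.ProjectiveSpecialLinearGroup (Fin 2) F) ∨ Nonempty (G ≃* (GL (Fin 2) F ⧸ Subgroup.center (GL (Fin 2) F))) := by
  classical
  obtain ⟨h17, h2, h3, h5, h19, hpr⟩ := Cfsg.Agent.Lib.Helper4.SN17.sylow_numbers hNS
  haveI : Fact (Nat.Prime 2) := ⟨by norm_num⟩
  haveI : Fact (Nat.Prime 3) := ⟨by norm_num⟩
  haveI : Fact (Nat.Prime 5) := ⟨by norm_num⟩
  haveI : Fact (Nat.Prime 17) := ⟨by norm_num⟩
  haveI : Fact (Nat.Prime 19) := ⟨by norm_num⟩
  have hn5 : ¬ 5 ∣ Nat.card G := fun h =>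
    Cfsg.Agent.Lib.Helper9.SN17.no_extra_prime h17 5 (Or.inl rfl) (Or.inl (h5 h))
  have hn19 : ¬ 19 ∣ Nat.card G := fun h =>
    Cfsg.Agent.Lib.Helper9.SN17.no_extra_prime h17 19 (Or.inr rfl) (Or.inr (h19 h))
  set φ : G →* Equiv.Perm (Sylow 17 G) := MulAction.toPermHom G (Sylow 17 G) with hφ
  have e1 : G ⧸ φ.ker ≃* φ.range := QuotientGroup.quotientKerEquivRange φ
  obtain ⟨hT, hspec, h8, h9⟩ := Cfsg.Agent.Lib.Helper6.SN17.psl_facts
  have hn2T := Cfsg.Agent.Lib.Helper8.SN17.n2_eq hT hspec h8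
  have hn3T := Cfsg.Agent.Lib.Helper8.SN17.n3_eq hT hspec h9
  have hriso := Cfsg.Agent.Lib.Helper5.SN17.range_iso h17
  have hι : ∃ ι : Matrix.ProjectiveSpecialLinearGroup (Fin 2) (ZMod 17) →* G ⧸ φ.ker,
      Function.Injective ι := by
    rcases hriso with ⟨⟨e⟩⟩ | ⟨⟨e⟩⟩
    · refine ⟨(e1.symm.toMonoidHom.comp e.symm.toMonoidHom).comp
        (Matrix.ProjectiveSpecialLinearGroup.toPGL (n := Fin 2) (R := ZMod 17)), ?_⟩
      intro a b hab
      apply Matrix.ProjectiveSpecialLinearGroup.toPGL_injective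
      apply e.symm.injective
      apply e1.symm.injective
      exact hab
    · refine ⟨e1.symm.toMonoidHom.comp e.symm.toMonoidHom, ?_⟩
      intro a b hab
      apply e.symm.injective
      apply e1.symm.injective
      exact hab
  obtain ⟨ι, hιinj⟩ := hι
  have hq2 : Nat.card (Sylow 2 (G ⧸ φ.ker)) = Nat.card (Sylow 2 G) := by
    apply le_antisymm (Cfsg.Agent.Lib.Helper6.SN17.card_sylow_quotient_le φ.ker 2)
    rw [h2, ← hn2T]
    exact Cfsg.Agent.Lib.Helper6.SN17.card_sylow_le_of_injective ι hιinj 2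
  have hq3 : Nat.card (Sylow 3 (G ⧸ φ.ker)) = Nat.card (Sylow 3 G) := by
    apply le_antisymm (Cfsg.Agent.Lib.Helper6.SN17.card_sylow_quotient_le φ.ker 3)
    rw [h3, ← hn3T]
    exact Cfsg.Agent.Lib.Helper6.SN17.card_sylow_le_of_injective ι hιinj 3
  have hKn : ∀ (p : ℕ) [Fact p.Prime] (S : Sylow p G),
      φ.ker ≤ Subgroup.normalizer (S : Set G) := by
    intro p hpf S
    by_cases hpd : p ∣ Nat.card G
    · rcases hpr p hpf.out hpd with rfl | rfl | rfl | rfl | rfl
      · exact Cfsg.Agent.Lib.Helper6.SN17.le_normalizer_of_card_eq φ.ker 2 hq2 S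
      · exact Cfsg.Agent.Lib.Helper6.SN17.le_normalizer_of_card_eq φ.ker 3 hq3 S
      · exact absurd hpd hn5
      · intro k hk
        apply Sylow.smul_eq_iff_mem_normalizer.1
        have hk1 : φ k = 1 := hk
        have : φ k S = S := by rw [hk1]; rfl
        exact this
      · exact absurd hpd hn19
    · have hcard : Nat.card S = 1 := by
        rw [Sylow.card_eq_multiplicity, Nat.factorization_eq_zero_of_not_dvd hpd, pow_zero]
      have hbot : (S : Subgroup G) = ⊥ := Subgroup.card_eq_one.1 hcard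
      intro k _
      apply Sylow.smul_eq_iff_mem_normalizer.1
      apply Sylow.ext
      rw [Sylow.coe_subgroup_smul, hbot]
      simp
  have hK : φ.ker = ⊥ := Cfsg.Agent.Lib.Helper9.SN17.baer_trivial φ.ker hKn hZ
  have hinj : Function.Injective φ := (MonoidHom.ker_eq_bot_iff φ).1 hK
  let e2 : G ≃* φ.range := MonoidHom.ofInjective hinj
  rcases hriso with ⟨⟨e⟩⟩ | ⟨⟨e⟩⟩
  · right
    obtain ⟨t⟩ := Cfsg.Agent.Lib.Helper4.SN17.pgl_transport hF
    exact ⟨(e2.trans e).trans t⟩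
  · left
    obtain ⟨t⟩ := Cfsg.Agent.Lib.Helper4.SN17.psl_transport hF
    exact ⟨(e2.trans e).trans t⟩

end Cfsg.Agent.S3641
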