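import Cfsg.Statements.S3660
import Mathlib

set_option autoImplicit false
set_option linter.style.haveILetI false
set_option linter.unusedSimpArgs false
open Cfsg

namespace Cfsg.Agent.S3660

/-- The group `(F²)^k ⋊ SL(2,F)`. -/
@[ext]
structure Aff (F : Type*) [Field F] (k : ℕ) where
  v : Matrix (Fin 2) (Fin k) F
  a : Matrix.SpecialLinearGroup (Fin 2) F

namespace Aff

variable {F : Type*} [Field F] {k : ℕ}

instance : Mul (Aff F k) := ⟨fun x y => ⟨x.v + (x.a : Matrix (Fin 2) (Fin 2) F) * y.v, x.a * y.a⟩⟩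
instance : One (Aff F k) := ⟨⟨0, 1⟩⟩
instance : Inv (Aff F k) :=
  ⟨fun x => ⟨-(((x.a⁻¹ : Matrix.SpecialLinearGroup (Fin 2) F) : Matrix (Fin 2) (Fin 2) F) * x.v), x.a⁻¹⟩⟩

@[simp] theorem mul_v (x y : Aff F k) :
    (x * y).v = x.v + (x.a : Matrix (Fin 2) (Fin 2) F) * y.v := rfl
@[simp] theorem mul_a (x y : Aff F k) : (x * y).a = x.a * y.a := rfl
@[simp] theorem one_v : (1 : Aff F k).v = 0 := rfl
@[simp] theorem one_a : (1 : Aff F k).a = 1 := rfl
@[simp] theorem inv_v (x : Aff F k) :
    (x⁻¹).v = -(((x.a⁻¹ : Matrix.SpecialLinearGroup (Fin 2) F) : Matrix (Fin 2) (Fin 2) F) * x.v) := rfl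
@[simp] theorem inv_a (x : Aff F k) : (x⁻¹).a = x.a⁻¹ := rfl

instance : Group (Aff F k) where
  mul_assoc x y z := by
    ext1
    · simp only [mul_v, mul_a, Matrix.SpecialLinearGroup.coe_mul, Matrix.mul_add, Matrix.mul_assoc,
        add_assoc]
    · simp only [mul_a, mul_assoc]
  one_mul x := by
    ext1
    · simp
    · simp
  mul_one x := by
    ext1
    · simp
    · simp
  inv_mul_cancel x := by
    ext1
    · simp only [mul_v, inv_v, inv_a, one_v]
      rw [neg_add_cancel]
    · simp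

/-- projection onto `SL(2,F)` -/
def proj : Aff F k →* Matrix.SpecialLinearGroup (Fin 2) F where
  toFun x := x.a
  map_one' := rfl
  map_mul' _ _ := rfl

/-- the complement -/
def incl : Matrix.SpecialLinearGroup (Fin 2) F →* Aff F k where
  toFun a := ⟨0, a⟩
  map_one' := rfl
  map_mul' a b := by
    ext1
    · simp
    · simp

theorem incl_injective : Function.Injective (incl : Matrix.SpecialLinearGroup (Fin 2) F →* Aff F k) := by
  intro a b h
  have := congrArg Aff.a h
  exact this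

theorem pow_a (x : Aff F k) (n : ℕ) : (x ^ n).a = x.a ^ n := map_pow proj x n

theorem pow_v (x : Aff F k) (n : ℕ) :
    (x ^ n).v = (∑ i ∈ Finset.range n, (x.a : Matrix (Fin 2) (Fin 2) F) ^ i) * x.v := by
  induction n with
  | zero => simp
  | succ n ih =>
    rw [pow_succ, mul_v, ih, pow_a, Finset.sum_range_succ, Matrix.add_mul,
      Matrix.SpecialLinearGroup.coe_pow]

/-- the translation subgroup embeds -/
def transl : Matrix (Fin 2) (Fin k) F → Aff F k := fun v => ⟨v, 1⟩

theorem transl_injective : Function.Injective (transl : Matrix (Fin 2) (Fin k) F → Aff F k) := by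
  intro a b h
  exact congrArg Aff.v h

/-- equivalence with the product -/
def equivProd : Aff F k ≃ Matrix (Fin 2) (Fin k) F × Matrix.SpecialLinearGroup (Fin 2) F where
  toFun x := (x.v, x.a)
  invFun p := ⟨p.1, p.2⟩
  left_inv _ := rfl
  right_inv _ := rfl

instance [Finite F] : Finite (Aff F k) := Finite.of_equiv _ equivProd.symm

end Aff

section SL2

variable {F : Type*} [Field F] [CharP F 2]

theorem two_eq_zero : (2 : F) = 0 := by
  have := CharP.cast_eq_zero F 2
  exact_mod_cast this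

/-- Cayley–Hamilton for `SL(2,F)` in characteristic 2. -/
theorem sq_eq (A : Matrix.SpecialLinearGroup (Fin 2) F) :
    (A : Matrix (Fin 2) (Fin 2) F) ^ 2 =
      (A : Matrix (Fin 2) (Fin 2) F).trace • (A : Matrix (Fin 2) (Fin 2) F) + 1 := by
  have h2 := two_eq_zero (F := F)
  have hdet := A.2
  rw [Matrix.det_fin_two] at hdet
  ext i j
  fin_cases i <;> fin_cases j <;>
    simp [pow_two, Matrix.mul_apply, Fin.sum_univ_two, Matrix.trace_fin_two, Matrix.one_apply] <;>
    grind

theorem det_sub_one (A : Matrix.SpecialLinearGroup (Fin 2) F) :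
    ((A : Matrix (Fin 2) (Fin 2) F) - 1).det = (A : Matrix (Fin 2) (Fin 2) F).trace := by
  have h2 := two_eq_zero (F := F)
  have hdet := A.2
  rw [Matrix.det_fin_two] at hdet
  rw [Matrix.det_fin_two, Matrix.trace_fin_two]
  simp [Matrix.one_apply]
  grind

theorem geom_sum_eq_zero (A : Matrix.SpecialLinearGroup (Fin 2) F)
    (ht : (A : Matrix (Fin 2) (Fin 2) F).trace ≠ 0) (m : ℕ)
    (hm : (A : Matrix (Fin 2) (Fin 2) F) ^ m = 1) :
    ∑ i ∈ Finset.range m, (A : Matrix (Fin 2) (Fin 2) F) ^ i = 0 := by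
  have hu : IsUnit ((A : Matrix (Fin 2) (Fin 2) F) - 1) := by
    rw [Matrix.isUnit_iff_isUnit_det, det_sub_one]
    exact isUnit_iff_ne_zero.mpr ht
  have h := geom_sum_mul (A : Matrix (Fin 2) (Fin 2) F) m
  rw [hm, sub_self] at h
  exact (hu.mul_left_eq_zero).mp h

theorem geom_sum_four (A : Matrix.SpecialLinearGroup (Fin 2) F)
    (ht : (A : Matrix (Fin 2) (Fin 2) F).trace = 0) :
    ∑ i ∈ Finset.range 4, (A : Matrix (Fin 2) (Fin 2) F) ^ i = 0 := by
  have h2 := two_eq_zero (F := F)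
  have hsq := sq_eq A
  rw [ht, zero_smul, zero_add] at hsq
  have h3 : (A : Matrix (Fin 2) (Fin 2) F) ^ 3 = (A : Matrix (Fin 2) (Fin 2) F) := by
    rw [pow_succ, hsq, one_mul]
  simp only [Finset.sum_range_succ, Finset.sum_range_zero, zero_add, pow_zero, pow_one, hsq, h3]
  have : (1 : Matrix (Fin 2) (Fin 2) F) + (A : Matrix (Fin 2) (Fin 2) F) + 1 +
      (A : Matrix (Fin 2) (Fin 2) F) = (2 : F) • (1 + (A : Matrix (Fin 2) (Fin 2) F)) := by
    rw [two_smul]; abel
  rw [this, h2, zero_smul]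

variable {k : ℕ}

theorem pow_four_eq_one (x : Aff F k) (ht : (x.a : Matrix (Fin 2) (Fin 2) F).trace = 0) :
    x ^ 4 = 1 := by
  ext1
  · rw [Aff.pow_v, geom_sum_four x.a ht, Matrix.zero_mul, Aff.one_v]
  · rw [Aff.pow_a, Aff.one_a]
    apply Subtype.ext
    have hsq := sq_eq x.a
    rw [ht, zero_smul, zero_add] at hsq
    rw [Matrix.SpecialLinearGroup.coe_pow, Matrix.SpecialLinearGroup.coe_one]
    calc (x.a : Matrix (Fin 2) (Fin 2) F) ^ 4 = ((x.a : Matrix (Fin 2) (Fin 2) F) ^ 2) ^ 2 := by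
          rw [← pow_mul]
      _ = 1 := by rw [hsq, one_pow]

theorem orderOf_eq_of_trace_ne_zero (x : Aff F k)
    (ht : (x.a : Matrix (Fin 2) (Fin 2) F).trace ≠ 0) : orderOf x = orderOf x.a := by
  apply Nat.dvd_antisymm
  · apply orderOf_dvd_of_pow_eq_one
    have hm : (x.a : Matrix (Fin 2) (Fin 2) F) ^ (orderOf x.a) = 1 := by
      rw [← Matrix.SpecialLinearGroup.coe_pow, pow_orderOf_eq_one, Matrix.SpecialLinearGroup.coe_one]
    ext1
    · rw [Aff.pow_v, geom_sum_eq_zero x.a ht _ hm, Matrix.zero_mul, Aff.one_v]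
    · rw [Aff.pow_a, pow_orderOf_eq_one, Aff.one_a]
  · exact orderOf_dvd_of_pow_eq_one (by rw [← Aff.pow_a, pow_orderOf_eq_one, Aff.one_a])

/-- an involution of `SL(2,F)` -/
theorem exists_involution : ∃ u : Matrix.SpecialLinearGroup (Fin 2) F, orderOf u = 2 := by
  have h2 := two_eq_zero (F := F)
  have hdet : (!![1, 1; 0, 1] : Matrix (Fin 2) (Fin 2) F).det = 1 := by
    rw [Matrix.det_fin_two]; simp
  obtain ⟨u, hu⟩ : ∃ u : Matrix.SpecialLinearGroup (Fin 2) F,
      (u : Matrix (Fin 2) (Fin 2) F) = !![1, 1; 0, 1] := ⟨⟨_, hdet⟩, rfl⟩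
  refine ⟨u, ?_⟩
  haveI : Fact (Nat.Prime 2) := ⟨Nat.prime_two⟩
  apply orderOf_eq_prime
  · apply Subtype.ext
    rw [Matrix.SpecialLinearGroup.coe_pow, Matrix.SpecialLinearGroup.coe_one, hu]
    ext i j
    fin_cases i <;> fin_cases j <;>
      simp [pow_two, Matrix.mul_apply, Fin.sum_univ_two, Matrix.one_apply] <;> grind
  · intro h1
    have := congrArg (fun z : Matrix.SpecialLinearGroup (Fin 2) F =>
      (z : Matrix (Fin 2) (Fin 2) F) 0 1) h1
    simp [hu] at this

theorem edges_iff (p q : ℕ) (hp : p.Prime) (hq : q.Prime) (hpq : p ≠ q) :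
    (∃ g : Aff F k, orderOf g = p * q) ↔
      (∃ g : Matrix.SpecialLinearGroup (Fin 2) F, orderOf g = p * q) := by
  constructor
  · rintro ⟨x, hx⟩
    by_cases ht : (x.a : Matrix (Fin 2) (Fin 2) F).trace = 0
    · exfalso
      have h4 : orderOf x ∣ 4 := orderOf_dvd_of_pow_eq_one (pow_four_eq_one x ht)
      rw [hx] at h4
      have hp4 : p ∣ 2 ^ 2 := (Dvd.intro _ rfl).trans h4
      have hq4 : q ∣ 2 ^ 2 := (Dvd.intro_left _ rfl).trans h4
      have hp2 := (Nat.prime_dvd_prime_iff_eq hp Nat.prime_two).mp (hp.dvd_of_dvd_pow hp4)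
      have hq2 := (Nat.prime_dvd_prime_iff_eq hq Nat.prime_two).mp (hq.dvd_of_dvd_pow hq4)
      exact hpq (hp2.trans hq2.symm)
    · exact ⟨x.a, by rw [← orderOf_eq_of_trace_ne_zero x ht, hx]⟩
  · rintro ⟨g, hg⟩
    exact ⟨Aff.incl g, by rw [orderOf_injective Aff.incl Aff.incl_injective, hg]⟩

theorem primes_iff [Finite F] (p : ℕ) (hp : p.Prime) :
    p ∣ Nat.card (Matrix.SpecialLinearGroup (Fin 2) F) ↔ p ∣ Nat.card (Aff F k) := by
  haveI : Fact p.Prime := ⟨hp⟩
  constructor
  · intro h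
    obtain ⟨g, hg⟩ := exists_prime_orderOf_dvd_card' p h
    have : orderOf (Aff.incl g : Aff F k) = p := by
      rw [orderOf_injective Aff.incl Aff.incl_injective, hg]
    rw [← this]
    exact orderOf_dvd_natCard _
  · intro h
    obtain ⟨x, hx⟩ := exists_prime_orderOf_dvd_card' p h
    by_cases ht : (x.a : Matrix (Fin 2) (Fin 2) F).trace = 0
    · have h4 : orderOf x ∣ 4 := orderOf_dvd_of_pow_eq_one (pow_four_eq_one x ht)
      rw [hx] at h4
      have hp4 : p ∣ 2 ^ 2 := h4
      have hp2 := (Nat.prime_dvd_prime_iff_eq hp Nat.prime_two).mp (hp.dvd_of_dvd_pow hp4)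
      obtain ⟨u, hu⟩ := exists_involution (F := F)
      have hdvd := orderOf_dvd_natCard u
      rw [hu] at hdvd
      rw [hp2]
      exact hdvd
    · rw [← hx, orderOf_eq_of_trace_ne_zero x ht]
      exact orderOf_dvd_natCard _

omit [CharP F 2] in
theorem card_lt [Finite F] (N : ℕ) : N < Nat.card (Aff F N) := by
  have h1 : Nat.card (Matrix (Fin 2) (Fin N) F) ≤ Nat.card (Aff F N) :=
    Nat.card_le_card_of_injective _ Aff.transl_injective
  have h2 : Nat.card (Matrix (Fin 2) (Fin N) F) = (Nat.card F ^ N) ^ 2 := by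
    unfold Matrix
    rw [Nat.card_fun, Nat.card_fun, Nat.card_fin, Nat.card_fin]
  have hF : 2 ≤ Nat.card F := by
    have := Finite.one_lt_card (α := F)
    omega
  have h3 : N < 2 ^ N := Nat.lt_two_pow_self
  have h4 : 2 ^ N ≤ Nat.card F ^ N := Nat.pow_le_pow_left hF N
  have h5 : Nat.card F ^ N ≤ (Nat.card F ^ N) ^ 2 := by
    have : 0 < Nat.card F ^ N := by positivity
    nlinarith
  omega

/-- In characteristic 2 the centre of `SL(2,F)` is trivial. -/
theorem center_eq_bot : Subgroup.center (Matrix.SpecialLinearGroup (Fin 2) F) = ⊥ := by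
  have h2 := two_eq_zero (F := F)
  rw [eq_bot_iff]
  intro A hA
  rw [Matrix.SpecialLinearGroup.mem_center_iff] at hA
  obtain ⟨r, hr, hrA⟩ := hA
  rw [Fintype.card_fin] at hr
  have hr1 : r = 1 := by
    have : (r - 1) ^ 2 = 0 := by grind
    have := pow_eq_zero_iff (two_ne_zero) |>.mp this
    exact sub_eq_zero.mp this
  rw [Subgroup.mem_bot]
  apply Subtype.ext
  rw [← hrA, hr1, map_one, Matrix.SpecialLinearGroup.coe_one]

/-- `PSL(2,F) ≃* SL(2,F)` in characteristic 2. -/
noncomputable def pslEquiv :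
    Matrix.ProjectiveSpecialLinearGroup (Fin 2) F ≃* Matrix.SpecialLinearGroup (Fin 2) F :=
  (QuotientGroup.quotientMulEquivOfEq center_eq_bot).trans QuotientGroup.quotientBot

end SL2

/-- The prime graph of a finite group has the prime divisors of its order as vertices, two distinct primes p, q being joined when the group has an element of order pq; two groups have the same prime graph when they have the same prime divisors and the same joined pairs. Let F be a finite field of characteristic 2 with at least 4 elements. Then there are finite groups of arbitrarily large order with the same prime graph as PSL(2,F); in particular PSL(2,F) is not determined by its prime graph. -/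
theorem result {F : Type*} [Field F] [Fintype F] [CharP F 2] (hF : 4 ≤ Fintype.card F) (N : ℕ) :
    ∃ (H : Type) (_ : Group H) (_ : Finite H), N < Nat.card H ∧
      ((∀ p : ℕ, p.Prime → (p ∣ Nat.card (Matrix.ProjectiveSpecialLinearGroup (Fin 2) F) ↔ p ∣ Nat.card H)) ∧
      (∀ p q : ℕ, p.Prime → q.Prime → p ≠ q → ((∃ g : (Matrix.ProjectiveSpecialLinearGroup (Fin 2) F), orderOf g = p * q) ↔ (∃ g : H, orderOf g = p * q)))) := by
  classical
  -- transfer to a small type
  let f : Shrink.{0} (Aff F N) ≃* Aff F N := Shrink.mulEquiv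
  refine ⟨Shrink.{0} (Aff F N), inferInstance, Finite.of_equiv _ f.symm.toEquiv, ?_, ?_, ?_⟩
  · rw [Nat.card_congr f.toEquiv]
    exact card_lt N
  · intro p hp
    rw [Nat.card_congr f.toEquiv, Nat.card_congr (pslEquiv (F := F)).toEquiv]
    exact primes_iff p hp
  · intro p q hp hq hpq
    constructor
    · rintro ⟨g, hg⟩
      obtain ⟨x, hx⟩ := (edges_iff (F := F) (k := N) p q hp hq hpq).mpr
        ⟨pslEquiv g, by rw [MulEquiv.orderOf_eq, hg]⟩
      exact ⟨f.symm x, by rw [MulEquiv.orderOf_eq, hx]⟩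
    · rintro ⟨g, hg⟩
      obtain ⟨x, hx⟩ := (edges_iff (F := F) (k := N) p q hp hq hpq).mp
        ⟨f g, by rw [MulEquiv.orderOf_eq, hg]⟩
      exact ⟨pslEquiv.symm x, by rw [MulEquiv.orderOf_eq, hx]⟩

end Cfsg.Agent.S3660
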