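import Cfsg.Statements.S3669
import Cfsg.Agent.Lib.Helper4.Sixty5
import Cfsg.Agent.Lib.Helper4.PSL2Graph
import Cfsg.Agent.Lib.Helper3.ItoConv
import Cfsg.Agent.Lib.Helper4.SLCenter
import Cfsg.Agent.Lib.Helper4.SLCard

set_option autoImplicit false
open Cfsg

namespace Cfsg.Agent.S3669


open Cfsg.Agent.Lib.Helper4 in
theorem five_mem_degreePrimes_A5 : (5 : ℕ) ∈ Cfsg.degreePrimes (alternatingGroup (Fin 5)) := by
  classical
  haveI : Fact (Nat.Prime 2) := ⟨Nat.prime_two⟩
  let F := GaloisField 2 2
  haveI : Fintype F := Fintype.ofFinite F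
  have hF : Fintype.card F = 4 := by
    rw [← Nat.card_eq_fintype_card, GaloisField.card 2 2 (by norm_num)]; norm_num
  haveI : CharP F 2 := inferInstance
  have hsimple : IsSimpleGroup (Matrix.ProjectiveSpecialLinearGroup (Fin 2) F) :=
    Matrix.ProjectiveSpecialLinearGroup.rank_two_simple (by
      rw [Nat.card_eq_fintype_card, hF])
  have hcard : Nat.card (Matrix.ProjectiveSpecialLinearGroup (Fin 2) F) = 60 := by
    have h1 := card_PSL_mul (F := F) 2 (by norm_num)
    rw [card_SL2, hF] at h1
    have h2 : Nat.gcd 2 (4 - 1) = 1 := by decide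
    rw [h2] at h1
    omega
  have : Finite (Matrix.ProjectiveSpecialLinearGroup (Fin 2) F) :=
    Nat.finite_of_card_ne_zero (by rw [hcard]; norm_num)
  obtain ⟨e⟩ := simple_sixty_iso hcard
  rw [← degreePrimes_congr e]
  refine ⟨by norm_num, 5, ?_, dvd_rfl⟩
  rw [charDegrees_PSL2_even]
  have := (sl2_even_mem (F := F) (by rw [hF])).2.1
  rwa [hF] at this

/-- The character degree graph of a finite group has as vertices the primes dividing some irreducible complex character degree, two distinct primes being joined when their product divides some irreducible character degree; two groups have the same character degree graph when they have the same vertices and the same joined pairs. A finite group of order 60 with the same character degree graph as the alternating group A₅ (whose character degrees are 1, 3, 4, 5, so the graph has vertices 2, 3, 5 and no edges) is isomorphic to A₅. -/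
theorem result {G : Type*} [Group G] [Finite G] (hcard : Nat.card G = 60)
    (hΓ : Cfsg.degreePrimes G = Cfsg.degreePrimes (alternatingGroup (Fin 5)) ∧ Cfsg.degreeGraph G = Cfsg.degreeGraph (alternatingGroup (Fin 5))) : Nonempty (G ≃* alternatingGroup (Fin 5)) := by
  classical
  haveI : Fact (Nat.Prime 5) := ⟨by norm_num⟩
  obtain ⟨hV, -⟩ := hΓ
  -- 5 is a vertex for G
  have h5 : (5 : ℕ) ∈ Cfsg.degreePrimes G := by rw [hV]; exact five_mem_degreePrimes_A5
  obtain ⟨-, d, ⟨χ, hχ⟩, hdvd⟩ := h5
  obtain ⟨P⟩ : Nonempty (Sylow 5 G) := inferInstance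
  have hc5 : Nat.card P = 5 := by
    have := Cfsg.Agent.Lib.Helper4.sylow_card_of_eq 5 1 12 (by rw [hcard]; norm_num) (by norm_num) P
    simpa using this
  have hPn : ¬ (P : Subgroup G).Normal := by
    intro hn
    have hcomm : ∀ a ∈ (P : Subgroup G), ∀ b ∈ (P : Subgroup G), a * b = b * a := by
      have hcyc : IsCyclic (P : Subgroup G) := isCyclic_of_prime_card hc5
      intro a ha b hb
      obtain ⟨g, hg⟩ := hcyc.exists_generator
      obtain ⟨m, hm⟩ := Subgroup.mem_zpowers_iff.mp (hg ⟨a, ha⟩)
      obtain ⟨n, hn'⟩ := Subgroup.mem_zpowers_iff.mp (hg ⟨b, hb⟩)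
      have h1 : (⟨a, ha⟩ : (P : Subgroup G)) * ⟨b, hb⟩ = ⟨b, hb⟩ * ⟨a, ha⟩ := by
        rw [← hm, ← hn', ← zpow_add, ← zpow_add, add_comm]
      exact congrArg Subtype.val h1
    exact Cfsg.Agent.Lib.Helper3.ItoConv.not_dvd_charDegree_of_normal_abelian 5 (P : Subgroup G) hn hcomm
      P.not_dvd_index χ (by rw [hχ]; exact hdvd)
  haveI := Cfsg.Agent.Lib.Helper4.Sixty.isSimpleGroup_of_card_sixty hcard P hPn
  exact Cfsg.Agent.Lib.Helper4.simple_sixty_iso hcard

end Cfsg.Agent.S3669
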