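import Cfsg.Statements.S3670
import Cfsg.Agent.Lib.Helper9.D3670Conc
import Cfsg.Agent.Lib.Helper7.D3670A5
import Cfsg.Agent.Lib.Helper7.D3670A9
import Cfsg.Agent.Lib.Helper7.U33G1b
import Cfsg.Agent.Lib.Helper3.S3670HFin
import Cfsg.Agent.Lib.Helper4.DegSet

set_option autoImplicit false
open Cfsg

namespace Cfsg.Agent.S3670

/-- The character degree graph of a finite group has as vertices the primes dividing some irreducible complex character degree, two distinct primes being joined when their product divides some irreducible character degree; two groups have the same character degree graph when they have the same vertices and the same joined pairs. Let F be the field with 9 elements and L = PSU(3,3) realised over F (order 6048). There is a finite solvable group of order 6048 with the same character degree graph as L; so L is not determined by its order together with its character degree graph. -/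
theorem result {F : Type*} [Field F] [Fintype F] (hF : Fintype.card F = 9) :
    ∃ (H : Type) (_ : Group H) (_ : Fintype H), Group.IsSolvable H ∧ Nat.card H = 6048 ∧ Cfsg.degreePrimes H = Cfsg.degreePrimes (Cfsg.PSU 3 F 3) ∧ Cfsg.degreeGraph H = Cfsg.degreeGraph (Cfsg.PSU 3 F 3) := by
  have hcard : Nat.card (Cfsg.PSU 3 F 3) = 6048 := Cfsg.Agent.Lib.Helper7.U33G1.card_PSU33 hF
  have hfinL : Finite (Cfsg.PSU 3 F 3) :=
    Nat.finite_of_card_ne_zero (by rw [hcard]; norm_num)
  have hfinR : Finite ↥Cfsg.Agent.Lib.Helper9.G2U.RR :=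
    Nat.finite_of_card_ne_zero (by rw [Cfsg.Agent.Lib.Helper9.G2U.card_RR]; norm_num)
  have hcongr : Cfsg.charDegrees ↥Cfsg.Agent.Lib.Helper9.G2U.RR
      = Cfsg.charDegrees (Cfsg.PSU 3 F 3) :=
    Cfsg.Agent.Lib.Helper4.charDegrees_congr (Cfsg.Agent.Lib.Helper9.D3670.equivRR hF)
  have h28 : 28 ∈ Cfsg.charDegrees (Cfsg.PSU 3 F 3) := by
    rw [← hcongr]
    exact Cfsg.Agent.Lib.Helper9.D3670.mem_28 Cfsg.Agent.Lib.Helper9.D3670.DRR
      Cfsg.Agent.Lib.Helper9.G2U.card_RR
  have h21 : 21 ∈ Cfsg.charDegrees (Cfsg.PSU 3 F 3) := by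
    rw [← hcongr]
    exact Cfsg.Agent.Lib.Helper9.D3670.mem_21 Cfsg.Agent.Lib.Helper9.D3670.DRR
      Cfsg.Agent.Lib.Helper9.G2U.card_RR Cfsg.Agent.Lib.Helper9.D3670.perfect_RR
  exact Cfsg.Agent.Lib.Helper3.S3670H.S3670_of_L hcard
    (Cfsg.Agent.Lib.Helper7.U33G1.psu33_exists_six_dvd hF)
    ⟨28, h28, by norm_num⟩ ⟨21, h21, dvd_rfl⟩

end Cfsg.Agent.S3670
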