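import Cfsg.Statements.S3678
import Mathlib
import Cfsg.Agent.S3660

set_option autoImplicit false
set_option linter.style.haveILetI false
set_option linter.unusedSimpArgs false
open Cfsg

namespace Cfsg.Agent.S3678

open Cfsg.Agent.S3660

/-- an order dividing a prime power is not a product of two distinct primes -/
theorem not_pq_of_dvd_prime_pow {n r e p q : ℕ} (hr : r.Prime) (h : n ∣ r ^ e) (hn : n = p * q)
    (hp : p.Prime) (hq : q.Prime) (hpq : p ≠ q) : False := by
  subst hn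
  have hp' : p ∣ r ^ e := (Dvd.intro _ rfl).trans h
  have hq' : q ∣ r ^ e := (Dvd.intro_left _ rfl).trans h
  have h1 := (Nat.prime_dvd_prime_iff_eq hp hr).mp (hp.dvd_of_dvd_pow hp')
  have h2 := (Nat.prime_dvd_prime_iff_eq hq hr).mp (hq.dvd_of_dvd_pow hq')
  exact hpq (h1.trans h2.symm)

theorem eq_of_prime_dvd_prime_pow {p r e : ℕ} (hp : p.Prime) (hr : r.Prime) (h : p ∣ r ^ e) :
    p = r :=
  (Nat.prime_dvd_prime_iff_eq hp hr).mp (hp.dvd_of_dvd_pow h)

section F8

variable {K : Type*} [Field K] [Fintype K] [CharP K 2]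

theorem pow_cases8 (hK : Fintype.card K = 8) (A : Matrix.SpecialLinearGroup (Fin 2) K) :
    A ^ 2 = 1 ∨ A ^ 7 = 1 ∨ A ^ 9 = 1 := by
  have h2 := two_eq_zero (F := K)
  obtain ⟨a, ha⟩ : ∃ a, a = (A : Matrix (Fin 2) (Fin 2) K) 0 0 := ⟨_, rfl⟩
  obtain ⟨b, hb⟩ : ∃ a, a = (A : Matrix (Fin 2) (Fin 2) K) 0 1 := ⟨_, rfl⟩
  obtain ⟨c, hc⟩ : ∃ a, a = (A : Matrix (Fin 2) (Fin 2) K) 1 0 := ⟨_, rfl⟩
  obtain ⟨d, hd⟩ : ∃ a, a = (A : Matrix (Fin 2) (Fin 2) K) 1 1 := ⟨_, rfl⟩
  have hA : (A : Matrix (Fin 2) (Fin 2) K) = !![a, b; c, d] := by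
    ext i j
    fin_cases i <;> fin_cases j <;> simp [ha, hb, hc, hd]
  have hdet : a * d - b * c = 1 := by
    have := A.2
    rw [hA, Matrix.det_fin_two] at this
    simpa using this
  obtain ⟨t, ht⟩ : ∃ t, a + d = t := ⟨_, rfl⟩
  have key : ∀ n : ℕ, (!![a, b; c, d] : Matrix (Fin 2) (Fin 2) K) ^ n = 1 → A ^ n = 1 := by
    intro n hn
    apply Subtype.ext
    rw [Matrix.SpecialLinearGroup.coe_pow, Matrix.SpecialLinearGroup.coe_one, hA, hn]
  by_cases ht0 : t = 0
  · left
    apply key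
    ext i j
    fin_cases i <;> fin_cases j <;>
      simp [pow_succ, Matrix.mul_apply, Fin.sum_univ_two, Matrix.one_apply] <;> grind
  · have ht7 : t ^ 7 = 1 := by
      have := FiniteField.pow_card_sub_one_eq_one t ht0
      rwa [hK] at this
    have hcc : (t ^ 6 + t ^ 4 + 1) * (t ^ 6 + t ^ 4 + 1 + t) = 0 := by grind
    rcases mul_eq_zero.mp hcc with h | h
    · right; left
      apply key
      ext i j
      fin_cases i <;> fin_cases j <;>
        simp [pow_succ, Matrix.mul_apply, Fin.sum_univ_two, Matrix.one_apply] <;> grind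
    · right; right
      apply key
      have h' : t ^ 6 + t ^ 4 + 1 = t := by grind
      ext i j
      fin_cases i <;> fin_cases j <;>
        simp [pow_succ, Matrix.mul_apply, Fin.sum_univ_two, Matrix.one_apply] <;> grind

theorem orderOf_dvd8 (hK : Fintype.card K = 8) (A : Matrix.SpecialLinearGroup (Fin 2) K) :
    orderOf A ∣ 2 ^ 1 ∨ orderOf A ∣ 7 ^ 1 ∨ orderOf A ∣ 3 ^ 2 := by
  rcases pow_cases8 hK A with h | h | h
  · exact Or.inl (orderOf_dvd_of_pow_eq_one h)
  · exact Or.inr (Or.inl (orderOf_dvd_of_pow_eq_one h))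
  · exact Or.inr (Or.inr (orderOf_dvd_of_pow_eq_one h))

omit [Fintype K] in
theorem exists_order_three : ∃ u : Matrix.SpecialLinearGroup (Fin 2) K, orderOf u = 3 := by
  have h2 := two_eq_zero (F := K)
  have hdet : (!![0, 1; 1, 1] : Matrix (Fin 2) (Fin 2) K).det = 1 := by
    rw [Matrix.det_fin_two]; simp; grind
  obtain ⟨u, hu⟩ : ∃ u : Matrix.SpecialLinearGroup (Fin 2) K,
      (u : Matrix (Fin 2) (Fin 2) K) = !![0, 1; 1, 1] := ⟨⟨_, hdet⟩, rfl⟩
  refine ⟨u, ?_⟩
  haveI : Fact (Nat.Prime 3) := ⟨Nat.prime_three⟩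
  apply orderOf_eq_prime
  · apply Subtype.ext
    rw [Matrix.SpecialLinearGroup.coe_pow, Matrix.SpecialLinearGroup.coe_one, hu]
    ext i j
    fin_cases i <;> fin_cases j <;>
      simp [pow_succ, Matrix.mul_apply, Fin.sum_univ_two, Matrix.one_apply] <;> grind
  · intro h1
    have := congrArg (fun z : Matrix.SpecialLinearGroup (Fin 2) K =>
      (z : Matrix (Fin 2) (Fin 2) K) 0 1) h1
    simp [hu] at this

theorem exists_order_seven (hK : Fintype.card K = 8) :
    ∃ u : Matrix.SpecialLinearGroup (Fin 2) K, orderOf u = 7 := by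
  have h2 : 2 < Fintype.card K := by omega
  obtain ⟨x, y, z, hxy, hxz, hyz⟩ := Fintype.two_lt_card_iff.mp h2
  obtain ⟨a, ha0, ha1⟩ : ∃ a : K, a ≠ 0 ∧ a ≠ 1 := by
    by_cases hx0 : x = 0
    · by_cases hy1 : y = 1
      · refine ⟨z, ?_, ?_⟩
        · rw [hx0] at hxz; exact fun h => hxz h.symm
        · rw [hy1] at hyz; exact fun h => hyz h.symm
      · exact ⟨y, by rw [hx0] at hxy; exact fun h => hxy h.symm, hy1⟩
    · by_cases hx1 : x = 1
      · by_cases hy0 : y = 0
        · refine ⟨z, ?_, ?_⟩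
          · rw [hy0] at hyz; exact fun h => hyz h.symm
          · rw [hx1] at hxz; exact fun h => hxz h.symm
        · exact ⟨y, hy0, by rw [hx1] at hxy; exact fun h => hxy h.symm⟩
      · exact ⟨x, hx0, hx1⟩
  have ha7 : a ^ 7 = 1 := by
    have := FiniteField.pow_card_sub_one_eq_one a ha0
    rwa [hK] at this
  have hdet : (!![a, 0; 0, a⁻¹] : Matrix (Fin 2) (Fin 2) K).det = 1 := by
    rw [Matrix.det_fin_two]; simp [ha0]
  obtain ⟨u, hu⟩ : ∃ u : Matrix.SpecialLinearGroup (Fin 2) K,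
      (u : Matrix (Fin 2) (Fin 2) K) = !![a, 0; 0, a⁻¹] := ⟨⟨_, hdet⟩, rfl⟩
  refine ⟨u, ?_⟩
  haveI : Fact (Nat.Prime 7) := ⟨by norm_num⟩
  apply orderOf_eq_prime
  · apply Subtype.ext
    rw [Matrix.SpecialLinearGroup.coe_pow, Matrix.SpecialLinearGroup.coe_one, hu]
    have hai : a⁻¹ ^ 7 = 1 := by rw [inv_pow, ha7, inv_one]
    ext i j
    fin_cases i <;> fin_cases j <;>
      simp [pow_succ, Matrix.mul_apply, Fin.sum_univ_two, Matrix.one_apply] <;> grind
  · intro h1
    have := congrArg (fun z : Matrix.SpecialLinearGroup (Fin 2) K =>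
      (z : Matrix (Fin 2) (Fin 2) K) 0 0) h1
    simp [hu] at this
    exact ha1 this

end F8

section F7

variable {F : Type*} [Field F] [Fintype F]

theorem seven_eq_zero (hF : Fintype.card F = 7) : (7 : F) = 0 := by
  have h : (Fintype.card F) • (1 : F) = 0 := card_nsmul_eq_zero
  rw [hF] at h
  simpa using h

theorem cases7 (hF : Fintype.card F = 7) (t : F) :
    t = 0 ∨ t ^ 2 = 1 ∨ t ^ 2 = 4 ∨ t ^ 2 = 2 := by
  have h7 := seven_eq_zero hF
  have hp : t ^ 7 = t := by
    have := FiniteField.pow_card t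
    rwa [hF] at this
  have h : t * ((t ^ 2 - 1) * ((t ^ 2 - 4) * (t ^ 2 - 2))) = 0 := by
    linear_combination hp + (-t ^ 5 + 2 * t ^ 3 - t) * h7
  rcases mul_eq_zero.mp h with h | h
  · exact Or.inl h
  rcases mul_eq_zero.mp h with h | h
  · exact Or.inr (Or.inl (sub_eq_zero.mp h))
  rcases mul_eq_zero.mp h with h | h
  · exact Or.inr (Or.inr (Or.inl (sub_eq_zero.mp h)))
  · exact Or.inr (Or.inr (Or.inr (sub_eq_zero.mp h)))

omit [Fintype F] in
/-- a power of `g` that is a scalar `±1` is trivial in `PSL` -/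
theorem mk_pow_eq_one (g : Matrix.SpecialLinearGroup (Fin 2) F) (n : ℕ) (r : F) (hr : r ^ 2 = 1)
    (h : (g : Matrix (Fin 2) (Fin 2) F) ^ n = r • 1) :
    (QuotientGroup.mk g : Matrix.ProjectiveSpecialLinearGroup (Fin 2) F) ^ n = 1 := by
  rw [← QuotientGroup.mk_pow, QuotientGroup.eq_one_iff, Matrix.SpecialLinearGroup.mem_center_iff]
  refine ⟨r, by rw [Fintype.card_fin]; exact hr, ?_⟩
  rw [Matrix.SpecialLinearGroup.coe_pow, h]
  ext i j
  simp [Matrix.scalar_apply, Matrix.diagonal_apply, Matrix.one_apply]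

theorem pow_cases7 (hF : Fintype.card F = 7) (x : Matrix.ProjectiveSpecialLinearGroup (Fin 2) F) :
    x ^ 2 = 1 ∨ x ^ 3 = 1 ∨ x ^ 7 = 1 ∨ x ^ 4 = 1 := by
  have h7 := seven_eq_zero hF
  obtain ⟨A, rfl⟩ := QuotientGroup.mk_surjective x
  obtain ⟨a, ha⟩ : ∃ a, a = (A : Matrix (Fin 2) (Fin 2) F) 0 0 := ⟨_, rfl⟩
  obtain ⟨b, hb⟩ : ∃ a, a = (A : Matrix (Fin 2) (Fin 2) F) 0 1 := ⟨_, rfl⟩
  obtain ⟨c, hc⟩ : ∃ a, a = (A : Matrix (Fin 2) (Fin 2) F) 1 0 := ⟨_, rfl⟩
  obtain ⟨d, hd⟩ : ∃ a, a = (A : Matrix (Fin 2) (Fin 2) F) 1 1 := ⟨_, rfl⟩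
  have hA : (A : Matrix (Fin 2) (Fin 2) F) = !![a, b; c, d] := by
    ext i j
    fin_cases i <;> fin_cases j <;> simp [ha, hb, hc, hd]
  have hdet : a * d - b * c = 1 := by
    have := A.2
    rw [hA, Matrix.det_fin_two] at this
    simpa using this
  obtain ⟨t, ht⟩ : ∃ t, a + d = t := ⟨_, rfl⟩
  rcases cases7 hF t with h | h | h | h
  · left
    apply mk_pow_eq_one A 2 (-1) (by ring)
    rw [hA]
    ext i j
    fin_cases i <;> fin_cases j <;>
      simp [pow_succ, Matrix.mul_apply, Fin.sum_univ_two, Matrix.one_apply] <;> grind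
  · right; left
    apply mk_pow_eq_one A 3 (-t) (by rw [neg_sq]; exact h)
    rw [hA]
    ext i j
    fin_cases i <;> fin_cases j <;>
      simp [pow_succ, Matrix.mul_apply, Fin.sum_univ_two, Matrix.one_apply] <;> grind
  · right; right; left
    apply mk_pow_eq_one A 7 (t * 4) (by grind)
    rw [hA]
    ext i j
    fin_cases i <;> fin_cases j <;>
      simp [pow_succ, Matrix.mul_apply, Fin.sum_univ_two, Matrix.one_apply] <;> grind
  · right; right; right
    apply mk_pow_eq_one A 4 (-1) (by ring)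
    rw [hA]
    ext i j
    fin_cases i <;> fin_cases j <;>
      simp [pow_succ, Matrix.mul_apply, Fin.sum_univ_two, Matrix.one_apply] <;> grind

theorem orderOf_dvd7 (hF : Fintype.card F = 7) (x : Matrix.ProjectiveSpecialLinearGroup (Fin 2) F) :
    orderOf x ∣ 2 ^ 2 ∨ orderOf x ∣ 3 ^ 1 ∨ orderOf x ∣ 7 ^ 1 := by
  rcases pow_cases7 hF x with h | h | h | h
  · exact Or.inl ((orderOf_dvd_of_pow_eq_one h).trans (by norm_num))
  · exact Or.inr (Or.inl (orderOf_dvd_of_pow_eq_one h))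
  · exact Or.inr (Or.inr (orderOf_dvd_of_pow_eq_one h))
  · exact Or.inl (orderOf_dvd_of_pow_eq_one h)

omit [Fintype F] in
/-- a matrix with a nonzero off-diagonal entry is nontrivial in `PSL` -/
theorem mk_ne_one (g : Matrix.SpecialLinearGroup (Fin 2) F)
    (h : (g : Matrix (Fin 2) (Fin 2) F) 0 1 ≠ 0) :
    (QuotientGroup.mk g : Matrix.ProjectiveSpecialLinearGroup (Fin 2) F) ≠ 1 := by
  intro h1
  rw [QuotientGroup.eq_one_iff, Matrix.SpecialLinearGroup.mem_center_iff] at h1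
  obtain ⟨r, _, hr⟩ := h1
  apply h
  rw [← hr]
  simp [Matrix.scalar_apply]

theorem exists_orders7 (hF : Fintype.card F = 7) :
    (∃ x : Matrix.ProjectiveSpecialLinearGroup (Fin 2) F, orderOf x = 2) ∧
    (∃ x : Matrix.ProjectiveSpecialLinearGroup (Fin 2) F, orderOf x = 3) ∧
    (∃ x : Matrix.ProjectiveSpecialLinearGroup (Fin 2) F, orderOf x = 7) := by
  have h7 := seven_eq_zero hF
  refine ⟨?_, ?_, ?_⟩
  · have hdet : (!![0, 1; -1, 0] : Matrix (Fin 2) (Fin 2) F).det = 1 := by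
      rw [Matrix.det_fin_two]; simp
    obtain ⟨u, hu⟩ : ∃ u : Matrix.SpecialLinearGroup (Fin 2) F,
        (u : Matrix (Fin 2) (Fin 2) F) = !![0, 1; -1, 0] := ⟨⟨_, hdet⟩, rfl⟩
    refine ⟨QuotientGroup.mk u, ?_⟩
    haveI : Fact (Nat.Prime 2) := ⟨Nat.prime_two⟩
    apply orderOf_eq_prime
    · apply mk_pow_eq_one u 2 (-1) (by ring)
      rw [hu]
      ext i j
      fin_cases i <;> fin_cases j <;>
        simp [pow_succ, Matrix.mul_apply, Fin.sum_univ_two, Matrix.one_apply]
    · apply mk_ne_one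
      simp [hu]
  · have hdet : (!![0, 1; -1, -1] : Matrix (Fin 2) (Fin 2) F).det = 1 := by
      rw [Matrix.det_fin_two]; simp
    obtain ⟨u, hu⟩ : ∃ u : Matrix.SpecialLinearGroup (Fin 2) F,
        (u : Matrix (Fin 2) (Fin 2) F) = !![0, 1; -1, -1] := ⟨⟨_, hdet⟩, rfl⟩
    refine ⟨QuotientGroup.mk u, ?_⟩
    haveI : Fact (Nat.Prime 3) := ⟨Nat.prime_three⟩
    apply orderOf_eq_prime
    · apply mk_pow_eq_one u 3 1 (by ring)
      rw [hu]
      ext i j
      fin_cases i <;> fin_cases j <;>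
        simp [pow_succ, Matrix.mul_apply, Fin.sum_univ_two, Matrix.one_apply]
    · apply mk_ne_one
      simp [hu]
  · have hdet : (!![1, 1; 0, 1] : Matrix (Fin 2) (Fin 2) F).det = 1 := by
      rw [Matrix.det_fin_two]; simp
    obtain ⟨u, hu⟩ : ∃ u : Matrix.SpecialLinearGroup (Fin 2) F,
        (u : Matrix (Fin 2) (Fin 2) F) = !![1, 1; 0, 1] := ⟨⟨_, hdet⟩, rfl⟩
    refine ⟨QuotientGroup.mk u, ?_⟩
    haveI : Fact (Nat.Prime 7) := ⟨by norm_num⟩
    apply orderOf_eq_prime
    · apply mk_pow_eq_one u 7 1 (by ring)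
      rw [hu]
      ext i j
      fin_cases i <;> fin_cases j <;>
        simp [pow_succ, Matrix.mul_apply, Fin.sum_univ_two, Matrix.one_apply] <;> grind
    · apply mk_ne_one
      simp [hu]

end F7

/-- The prime graph of a finite group has the prime divisors of its order as vertices, two distinct primes p, q being joined when the group has an element of order pq; two groups have the same prime graph when they have the same prime divisors and the same joined pairs. Let F be the field with 7 elements. There are finite groups of arbitrarily large order with the same prime graph as PSL(2,F) (the graph on {2, 3, 7} with no edges, which is also the prime graph of PSL(2,8)). -/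
theorem result {F : Type*} [Field F] [Fintype F] (hF : Fintype.card F = 7) (N : ℕ) :
    ∃ (H : Type) (_ : Group H) (_ : Finite H), N < Nat.card H ∧
      ((∀ p : ℕ, p.Prime → (p ∣ Nat.card (Matrix.ProjectiveSpecialLinearGroup (Fin 2) F) ↔ p ∣ Nat.card H)) ∧
      (∀ p q : ℕ, p.Prime → q.Prime → p ≠ q → ((∃ g : (Matrix.ProjectiveSpecialLinearGroup (Fin 2) F), orderOf g = p * q) ↔ (∃ g : H, orderOf g = p * q)))) := by
  classical
  haveI : Fact (Nat.Prime 2) := ⟨Nat.prime_two⟩
  letI : Fintype (GaloisField 2 3) := Fintype.ofFinite _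
  have hK : Fintype.card (GaloisField 2 3) = 8 := by
    rw [← Nat.card_eq_fintype_card, GaloisField.card 2 3 (by norm_num)]
    norm_num
  let f : Shrink.{0} (Aff (GaloisField 2 3) N) ≃* Aff (GaloisField 2 3) N := Shrink.mulEquiv
  have h237 : ∀ p : ℕ, p.Prime → (p ∣ Nat.card (Matrix.ProjectiveSpecialLinearGroup (Fin 2) F) ↔
      (p = 2 ∨ p = 3 ∨ p = 7)) := by
    intro p hp
    haveI : Fact p.Prime := ⟨hp⟩
    constructor
    · intro h
      obtain ⟨x, hx⟩ := exists_prime_orderOf_dvd_card' p h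
      rcases orderOf_dvd7 hF x with h | h | h
      · rw [hx] at h; exact Or.inl (eq_of_prime_dvd_prime_pow hp Nat.prime_two h)
      · rw [hx] at h; exact Or.inr (Or.inl (eq_of_prime_dvd_prime_pow hp Nat.prime_three h))
      · rw [hx] at h; exact Or.inr (Or.inr (eq_of_prime_dvd_prime_pow hp (by norm_num) h))
    · obtain ⟨⟨x2, h2⟩, ⟨x3, h3⟩, ⟨x7, h7⟩⟩ := exists_orders7 hF
      rintro (rfl | rfl | rfl)
      · have := orderOf_dvd_natCard x2; rwa [h2] at this
      · have := orderOf_dvd_natCard x3; rwa [h3] at this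
      · have := orderOf_dvd_natCard x7; rwa [h7] at this
  have h237' : ∀ p : ℕ, p.Prime →
      (p ∣ Nat.card (Matrix.SpecialLinearGroup (Fin 2) (GaloisField 2 3)) ↔
      (p = 2 ∨ p = 3 ∨ p = 7)) := by
    intro p hp
    haveI : Fact p.Prime := ⟨hp⟩
    constructor
    · intro h
      obtain ⟨x, hx⟩ := exists_prime_orderOf_dvd_card' p h
      rcases orderOf_dvd8 hK x with h | h | h
      · rw [hx] at h; exact Or.inl (eq_of_prime_dvd_prime_pow hp Nat.prime_two h)
      · rw [hx] at h; exact Or.inr (Or.inr (eq_of_prime_dvd_prime_pow hp (by norm_num) h))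
      · rw [hx] at h; exact Or.inr (Or.inl (eq_of_prime_dvd_prime_pow hp Nat.prime_three h))
    · obtain ⟨x2, h2⟩ := exists_involution (F := GaloisField 2 3)
      obtain ⟨x3, h3⟩ := exists_order_three (K := GaloisField 2 3)
      obtain ⟨x7, h7⟩ := exists_order_seven hK
      rintro (rfl | rfl | rfl)
      · have := orderOf_dvd_natCard x2; rwa [h2] at this
      · have := orderOf_dvd_natCard x3; rwa [h3] at this
      · have := orderOf_dvd_natCard x7; rwa [h7] at this
  refine ⟨Shrink.{0} (Aff (GaloisField 2 3) N), inferInstance, Finite.of_equiv _ f.symm.toEquiv,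
    ?_, ?_, ?_⟩
  · rw [Nat.card_congr f.toEquiv]
    exact card_lt N
  · intro p hp
    rw [Nat.card_congr f.toEquiv, h237 p hp, ← primes_iff p hp, h237' p hp]
  · intro p q hp hq hpq
    constructor
    · rintro ⟨g, hg⟩
      exfalso
      rcases orderOf_dvd7 hF g with h | h | h
      · exact not_pq_of_dvd_prime_pow Nat.prime_two h hg hp hq hpq
      · exact not_pq_of_dvd_prime_pow Nat.prime_three h hg hp hq hpq
      · exact not_pq_of_dvd_prime_pow (by norm_num) h hg hp hq hpq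
    · rintro ⟨g, hg⟩
      exfalso
      obtain ⟨x, hx⟩ := (edges_iff (F := GaloisField 2 3) (k := N) p q hp hq hpq).mp
        ⟨f g, by rw [MulEquiv.orderOf_eq, hg]⟩
      rcases orderOf_dvd8 hK x with h | h | h
      · exact not_pq_of_dvd_prime_pow Nat.prime_two h hx hp hq hpq
      · exact not_pq_of_dvd_prime_pow (by norm_num) h hx hp hq hpq
      · exact not_pq_of_dvd_prime_pow Nat.prime_three h hx hp hq hpq

end Cfsg.Agent.S3678
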