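import Cfsg.Statements.S3681
import Mathlib

set_option autoImplicit false
open Cfsg

namespace Cfsg.Agent.S3681

open Equiv Equiv.Perm

theorem perm_inv_apply_self_aux {α : Type*} (x : Perm α) (a : α) : x⁻¹ (x a) = a :=
  x.symm_apply_apply a

/-- If the supports of `x` and `y` meet in exactly one point, the commutator is a 3-cycle. -/
theorem isThreeCycle_comm {Ω : Type*} [Fintype Ω] [DecidableEq Ω] (x y : Perm Ω) (ω : Ω)
    (hxω : x ω ≠ ω) (hyω : y ω ≠ ω) (hdisj : ∀ a, a ≠ ω → x a = a ∨ y a = a) :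
    (x * y * x⁻¹ * y⁻¹).IsThreeCycle := by
  have hx_inj := x.injective
  have hy_inj := y.injective
  have hxx : x (x ω) ≠ x ω := fun h => hxω (hx_inj h)
  have hyy : y (y ω) ≠ y ω := fun h => hyω (hy_inj h)
  have hxy : x ω ≠ y ω := by
    intro h
    rcases hdisj (x ω) hxω with h1 | h1
    · exact hxx h1
    · rw [h] at h1; exact hyy h1
  have hy_xω : y (x ω) = x ω := by
    rcases hdisj (x ω) hxω with h1 | h1
    · exact absurd h1 hxx
    · exact h1
  have hx_yω : x (y ω) = y ω := by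
    rcases hdisj (y ω) hyω with h1 | h1
    · exact h1
    · exact absurd h1 hyy
  have key : x * y * x⁻¹ * y⁻¹ = swap ω (y ω) * swap ω (x ω) := by
    ext z
    simp only [Perm.mul_apply]
    by_cases hz1 : z = ω
    · rw [hz1, swap_apply_left, swap_apply_of_ne_of_ne hxω hxy]
      obtain ⟨q, hq⟩ : ∃ q, q = y⁻¹ ω := ⟨_, rfl⟩
      have hyq : y q = ω := by rw [hq]; exact Equiv.apply_symm_apply y ω
      have hqω : q ≠ ω := by intro h; rw [h] at hyq; exact hyω hyq
      have hxq : x q = q := by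
        rcases hdisj q hqω with h1 | h1
        · exact h1
        · rw [hyq] at h1; exact absurd h1.symm hqω
      have hxiq : x⁻¹ q = q := by rw [Perm.inv_eq_iff_eq]; exact hxq.symm
      rw [← hq, hxiq, hyq]
    by_cases hz2 : z = x ω
    · rw [hz2, swap_apply_right, swap_apply_left]
      have h1 : y⁻¹ (x ω) = x ω := by rw [Perm.inv_eq_iff_eq]; exact hy_xω.symm
      rw [h1, perm_inv_apply_self_aux, hx_yω]
    by_cases hz3 : z = y ω
    · rw [hz3, swap_apply_of_ne_of_ne hyω (Ne.symm hxy), swap_apply_right, perm_inv_apply_self_aux]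
      obtain ⟨p, hp⟩ : ∃ p, p = x⁻¹ ω := ⟨_, rfl⟩
      have hxp : x p = ω := by rw [hp]; exact Equiv.apply_symm_apply x ω
      have hpω : p ≠ ω := by intro h; rw [h] at hxp; exact hxω hxp
      have hyp : y p = p := by
        rcases hdisj p hpω with h1 | h1
        · rw [hxp] at h1; exact absurd h1.symm hpω
        · exact h1
      rw [← hp, hyp, hxp]
    · rw [swap_apply_of_ne_of_ne hz1 hz2, swap_apply_of_ne_of_ne hz1 hz3]
      by_cases hyz : y z = z
      · have h1 : y⁻¹ z = z := by rw [Perm.inv_eq_iff_eq]; exact hyz.symm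
        rw [h1]
        by_cases hxz : x z = z
        · have h2 : x⁻¹ z = z := by rw [Perm.inv_eq_iff_eq]; exact hxz.symm
          rw [h2, hyz, hxz]
        · obtain ⟨d, hd⟩ : ∃ d, d = x⁻¹ z := ⟨_, rfl⟩
          have hxd : x d = z := by rw [hd]; exact Equiv.apply_symm_apply x z
          have hdz : d ≠ z := by intro h; rw [h] at hxd; exact hxz hxd
          have hdω : d ≠ ω := by intro h; rw [h] at hxd; exact hz2 hxd.symm
          have hyd : y d = d := by
            rcases hdisj d hdω with h2 | h2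
            · rw [hxd] at h2; exact absurd h2.symm hdz
            · exact h2
          rw [← hd, hyd, hxd]
      · have hxz : x z = z := by
          rcases hdisj z hz1 with h2 | h2
          · exact h2
          · exact absurd h2 hyz
        obtain ⟨b, hb⟩ : ∃ b, b = y⁻¹ z := ⟨_, rfl⟩
        have hyb : y b = z := by rw [hb]; exact Equiv.apply_symm_apply y z
        have hbz : b ≠ z := by intro h; rw [h] at hyb; exact hyz hyb
        have hbω : b ≠ ω := by intro h; rw [h] at hyb; exact hz3 hyb.symm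
        have hxb : x b = b := by
          rcases hdisj b hbω with h2 | h2
          · exact h2
          · rw [hyb] at h2; exact absurd h2.symm hbz
        have hxib : x⁻¹ b = b := by rw [Perm.inv_eq_iff_eq]; exact hxb.symm
        rw [← hb, hxib, hyb, hxz]
  rw [key]
  exact isThreeCycle_swap_mul_swap_same (Ne.symm hyω) (Ne.symm hxω) (Ne.symm hxy)

theorem bochert_aux {Ω : Type*} [Fintype Ω] [DecidableEq Ω] (H : Subgroup (Perm Ω))
    (hprim : MulAction.IsPreprimitive H Ω) (hA : ¬ alternatingGroup Ω ≤ H) :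
    ∃ Δ : Finset Ω, (Fintype.card Ω + 1) / 2 ≤ Δ.card ∧
      ∀ h ∈ H, (∀ a, a ∉ Δ → h a = a) → h = 1 := by
  classical
  obtain ⟨P, hP⟩ : ∃ P : Finset Ω → Prop,
      ∀ Δ, P Δ ↔ ∀ h ∈ H, (∀ a, a ∉ Δ → h a = a) → h = 1 := ⟨_, fun _ => Iff.rfl⟩
  have hP0 : P ∅ := by
    rw [hP]; intro h _ hh; ext a; exact hh a (Finset.notMem_empty a)
  obtain ⟨Δ, hΔ, hmax⟩ : ∃ Δ, P Δ ∧ ∀ Δ', P Δ' → Δ'.card ≤ Δ.card := by
    obtain ⟨Δ, hΔ, hm⟩ := Finset.exists_max_image
      (Finset.univ.filter (fun Δ : Finset Ω => P Δ)) Finset.card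
      ⟨∅, Finset.mem_filter.mpr ⟨Finset.mem_univ _, hP0⟩⟩
    exact ⟨Δ, (Finset.mem_filter.mp hΔ).2,
      fun Δ' h' => hm Δ' (Finset.mem_filter.mpr ⟨Finset.mem_univ _, h'⟩)⟩
  refine ⟨Δ, ?_, (hP Δ).mp hΔ⟩
  by_contra hlt
  push Not at hlt
  have hn : 2 * Δ.card + 1 ≤ Fintype.card Ω := by omega
  have hΓ : Δ.card + 1 ≤ (Δᶜ).card := by rw [Finset.card_compl]; omega
  obtain ⟨Θ, hΘΓ, hΘcard⟩ := Finset.exists_subset_card_eq hΓ
  have hnP : ∀ Θ' : Finset Ω, Θ'.card = Δ.card + 1 →
      ∃ h ∈ H, (∀ a, a ∉ Θ' → h a = a) ∧ h ≠ 1 := by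
    intro Θ' hc
    by_contra hcon
    push Not at hcon
    have h1 : P Θ' := by rw [hP]; intro h hh hfix; exact hcon h hh hfix
    have h2 := hmax Θ' h1
    omega
  obtain ⟨x, hxH, hxfix, hx1⟩ := hnP Θ hΘcard
  obtain ⟨ω, hω⟩ : ∃ ω, x ω ≠ ω := by
    by_contra hcon
    push Not at hcon
    exact hx1 (Equiv.ext hcon)
  have hωΘ : ω ∈ Θ := by
    by_contra h; exact hω (hxfix ω h)
  have hωΔ : ω ∉ Δ := by
    have h1 := hΘΓ hωΘ
    rwa [Finset.mem_compl] at h1
  obtain ⟨y, hyH, hyfix, hy1⟩ := hnP (insert ω Δ) (Finset.card_insert_of_notMem hωΔ)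
  have hyω : y ω ≠ ω := by
    intro h
    apply hy1
    apply (hP Δ).mp hΔ y hyH
    intro a ha
    by_cases haω : a = ω
    · rw [haω]; exact h
    · apply hyfix a
      rw [Finset.mem_insert]
      push Not
      exact ⟨haω, ha⟩
  have hdisj : ∀ a, a ≠ ω → x a = a ∨ y a = a := by
    intro a ha
    by_cases haΔ : a ∈ Δ
    · left
      apply hxfix
      intro haΘ
      have h1 := hΘΓ haΘ
      rw [Finset.mem_compl] at h1
      exact h1 haΔ
    · right
      apply hyfix
      rw [Finset.mem_insert]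
      push Not
      exact ⟨ha, haΔ⟩
  have h3 := isThreeCycle_comm x y ω hω hyω hdisj
  have hmem : x * y * x⁻¹ * y⁻¹ ∈ H :=
    H.mul_mem (H.mul_mem (H.mul_mem hxH hyH) (H.inv_mem hxH)) (H.inv_mem hyH)
  exact hA (Equiv.Perm.alternatingGroup_le_of_isPreprimitive_of_isThreeCycle_mem hprim h3 hmem)

theorem card_mul_factorial_le {Ω : Type*} [Fintype Ω] [DecidableEq Ω] (H : Subgroup (Perm Ω))
    (Δ : Finset Ω) (hΔ : ∀ h ∈ H, (∀ a, a ∉ Δ → h a = a) → h = 1) :
    Nat.card H * Nat.factorial Δ.card ≤ Nat.factorial (Fintype.card Ω) := by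
  classical
  have hinj : Function.Injective
      (fun p : H × Perm {a // a ∈ Δ} => (p.1 : Perm Ω) * Perm.ofSubtype p.2) := by
    rintro ⟨h, s⟩ ⟨h', s'⟩ heq
    have heq' : (h : Perm Ω) * Perm.ofSubtype s = (h' : Perm Ω) * Perm.ofSubtype s' := heq
    have e0 : (h : Perm Ω) = h' * Perm.ofSubtype s' * (Perm.ofSubtype s)⁻¹ :=
      eq_mul_inv_of_mul_eq heq'
    have e1 : ((h' : Perm Ω))⁻¹ * h = Perm.ofSubtype (s' * s⁻¹) := by
      rw [map_mul, map_inv, e0]; group
    have e2 : ((h' : Perm Ω))⁻¹ * h = 1 := by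
      apply hΔ _ (H.mul_mem (H.inv_mem h'.2) h.2)
      intro a ha
      rw [e1]; exact Perm.ofSubtype_apply_of_not_mem _ ha
    have e3 : (h' : Perm Ω) = h := inv_mul_eq_one.mp e2
    have e4 : s = s' := by
      rw [e3] at heq'
      exact Perm.ofSubtype_injective (mul_left_cancel heq')
    rw [Prod.mk.injEq]
    exact ⟨Subtype.ext e3.symm, e4⟩
  have h1 := Nat.card_le_card_of_injective _ hinj
  rw [Nat.card_prod, Nat.card_perm, Nat.card_perm] at h1
  simpa [Nat.card_eq_fintype_card, Fintype.card_coe] using h1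

/-- Bochert's bound for primitive groups. Let a finite group G act faithfully and primitively on a finite set Ω with n elements, and suppose the image of G in the symmetric group of Ω does not contain the alternating group of Ω. Then |G| · ⌊(n + 1)/2⌋! ≤ n!, that is, the index of G in the symmetric group is at least ⌊(n + 1)/2⌋!. -/
theorem result {G Ω : Type*} [Group G] [Finite G] [MulAction G Ω] [FaithfulSMul G Ω] [Fintype Ω] [DecidableEq Ω]
    (hprim : MulAction.IsPreprimitive G Ω) (hA : ¬ alternatingGroup Ω ≤ (MulAction.toPermHom G Ω).range) :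
    Nat.card G * Nat.factorial ((Fintype.card Ω + 1) / 2) ≤ Nat.factorial (Fintype.card Ω) := by
  classical
  have hcard : Nat.card G = Nat.card (MulAction.toPermHom G Ω).range :=
    Nat.card_congr (MonoidHom.ofInjective
      (f := MulAction.toPermHom G Ω) MulAction.toPerm_injective).toEquiv
  have hprimH : MulAction.IsPreprimitive (MulAction.toPermHom G Ω).range Ω := by
    haveI := hprim
    let φ : G → (MulAction.toPermHom G Ω).range :=
      fun g => ⟨MulAction.toPermHom G Ω g, ⟨g, rfl⟩⟩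
    let f : Ω →ₑ[φ] Ω := { toFun := id, map_smul' := fun g a => rfl }
    exact MulAction.IsPreprimitive.of_surjective (f := f) Function.surjective_id
  obtain ⟨Δ, hΔc, hΔ⟩ := bochert_aux _ hprimH hA
  have h1 := card_mul_factorial_le _ Δ hΔ
  have h2 : Nat.factorial ((Fintype.card Ω + 1) / 2) ≤ Nat.factorial Δ.card :=
    Nat.factorial_le hΔc
  calc Nat.card G * Nat.factorial ((Fintype.card Ω + 1) / 2)
      = Nat.card (MulAction.toPermHom G Ω).range * Nat.factorial ((Fintype.card Ω + 1) / 2) := by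
        rw [hcard]
    _ ≤ Nat.card (MulAction.toPermHom G Ω).range * Nat.factorial Δ.card :=
        Nat.mul_le_mul_left _ h2
    _ ≤ _ := h1

end Cfsg.Agent.S3681
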