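import Mathlib
import Cfsg.Statements.S3682
import Cfsg.Agent.Lib.Lead.WielandtBound3

set_option autoImplicit false

open Cfsg

namespace Cfsg.Agent.S3682

theorem result {G Ω : Type*} [Group G] [Finite G] [MulAction G Ω] [FaithfulSMul G Ω] [Finite Ω]
    (hprim : MulAction.IsPreprimitive G Ω) (a b : Ω) (d : ℕ) (hd : Nat.card (MulAction.orbit (MulAction.stabilizer G a) b) = d) (h2 : 2 ≤ d) :
    ∃ p : ℕ, p.Prime ∧ ∃ P : Subgroup (MulAction.stabilizer G a), P.Normal ∧ IsPGroup p P ∧ (∀ g : P, ((g : MulAction.stabilizer G a) : G) • b = b) ∧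
      P.index ∣ Nat.factorial d * (Nat.factorial (d - 1)) ^ d := by
  obtain ⟨hmax, ⟨g, hconj⟩, hne, hcore, hd1, hd2⟩ :=
    Cfsg.Agent.Lib.Lead.WB.setup hprim a b d hd h2
  obtain ⟨p, hp, P, hPn, hPp, hPb, hPi⟩ :=
    Cfsg.Agent.Lib.Lead.WB.wielandt_group _ _ hmax g hconj hne hcore d hd1 hd2
  exact ⟨p, hp, P, hPn, hPp, fun x => MulAction.mem_stabilizer_iff.mp (hPb x), hPi⟩

end Cfsg.Agent.S3682
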