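import Cfsg.Statements.S3683
import Mathlib

set_option autoImplicit false
open Cfsg

namespace Cfsg.Agent.S3683

/-- Let a finite group G act faithfully and primitively on a set Ω, and suppose the stabilizer of a point a fixes a second point b ≠ a (a suborbit of length 1 other than {a}). Then the stabilizer of a is trivial and G is cyclic of prime order. -/
theorem result {G Ω : Type*} [Group G] [Finite G] [MulAction G Ω] [FaithfulSMul G Ω] [Finite Ω]
    (hprim : MulAction.IsPreprimitive G Ω) (a b : Ω) (hab : a ≠ b) (hfix : ∀ g : G, g • a = a → g • b = b) :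
    MulAction.stabilizer G a = ⊥ ∧ IsCyclic G ∧ (Nat.card G).Prime := by
  classical
  haveI : Nontrivial Ω := ⟨⟨a, b, hab⟩⟩
  have hmax : IsCoatom (MulAction.stabilizer G a) :=
    MulAction.IsPreprimitive.isCoatom_stabilizer_of_isPreprimitive G a
  obtain ⟨g, hg⟩ := MulAction.exists_smul_eq G a b
  set H := MulAction.stabilizer G a with hH
  -- g⁻¹ normalizes H
  have hle : H.map (MulAut.conj g⁻¹).toMonoidHom ≤ H := by
    rintro _ ⟨x, hx, rfl⟩
    have hxa : x • a = a := hx
    have hxb := hfix x hxa
    rw [hH, MulAction.mem_stabilizer_iff]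
    simp only [MulEquiv.toMonoidHom_eq_coe, MonoidHom.coe_coe, MulAut.conj_apply, inv_inv, mul_smul]
    rw [hg, hxb, ← hg, inv_smul_smul]
  have heq : H.map (MulAut.conj g⁻¹).toMonoidHom = H := by
    apply Subgroup.eq_of_le_of_card_ge hle
    rw [Subgroup.card_map_of_injective (MulAut.conj g⁻¹).injective]
  have hginv : g⁻¹ ∈ Subgroup.normalizer (H : Set G) := by
    rw [Subgroup.mem_normalizer_iff_map_conj_eq]
    exact heq
  have hgN : g ∈ Subgroup.normalizer (H : Set G) := by
    have := (Subgroup.normalizer (H : Set G)).inv_mem hginv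
    simpa using this
  have hgH : g ∉ H := by
    intro h
    have : g • a = a := h
    rw [hg] at this
    exact hab this.symm
  have hNtop : Subgroup.normalizer (H : Set G) = ⊤ := by
    apply hmax.2
    refine lt_of_le_of_ne Subgroup.le_normalizer ?_
    intro h
    rw [← h] at hgN
    exact hgH hgN
  -- H fixes every point
  have hHbot : H = ⊥ := by
    rw [Subgroup.eq_bot_iff_forall]
    intro x hx
    apply FaithfulSMul.eq_of_smul_eq_smul (α := Ω)
    intro ω
    obtain ⟨k, rfl⟩ := MulAction.exists_smul_eq G a ω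
    have hk : k ∈ Subgroup.normalizer (H : Set G) := by rw [hNtop]; trivial
    rw [Subgroup.mem_normalizer_iff''] at hk
    have := (hk x).1 hx
    have h2 : (k⁻¹ * x * k) • a = a := this
    rw [one_smul]
    calc x • k • a = k • (k⁻¹ * x * k) • a := by simp [mul_smul]
      _ = k • a := by rw [h2]
  refine ⟨hHbot, ?_⟩
  rw [hHbot] at hmax
  have hg1 : g ≠ 1 := by
    intro h
    rw [h, one_smul] at hg
    exact hab hg
  have hz : Subgroup.zpowers g = ⊤ := by
    apply hmax.2
    exact bot_lt_iff_ne_bot.2 (Subgroup.zpowers_ne_bot.2 hg1)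
  have hcyc : IsCyclic G := ⟨⟨g, (Subgroup.eq_top_iff' _).1 hz⟩⟩
  refine ⟨hcyc, ?_⟩
  haveI : Nontrivial G := ⟨⟨g, 1, hg1⟩⟩
  have hsimple : IsSimpleGroup G := by
    refine ⟨fun K _ => ?_⟩
    by_cases hK : K = ⊥
    · exact Or.inl hK
    · exact Or.inr (hmax.2 K (bot_lt_iff_ne_bot.2 hK))
  exact Group.is_simple_iff_prime_card.1 hsimple

end Cfsg.Agent.S3683
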