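import Cfsg.Statements.S3684
import Mathlib
import Cfsg.Agent.S0206
-- import your own Cfsg.Agent.* helpers here

set_option autoImplicit false
set_option linter.style.haveILetI false
open Cfsg

namespace Cfsg.Agent.S3684

section
variable {G Ω : Type*} [Group G] [MulAction G Ω]

theorem stab_sub (a b : Ω) :
    MulAction.stabilizer (MulAction.stabilizer G a) b =
      (MulAction.stabilizer G b).subgroupOf (MulAction.stabilizer G a) := by
  ext h
  rw [Subgroup.mem_subgroupOf, MulAction.mem_stabilizer_iff, MulAction.mem_stabilizer_iff]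
  rfl

theorem card_sub_mul (D K : Subgroup G) (h : D ≤ K) : Nat.card D * D.relIndex K = Nat.card K := by
  have := Subgroup.relIndex_mul_relIndex ⊥ D K bot_le h
  rwa [Subgroup.relIndex_bot_left, Subgroup.relIndex_bot_left] at this

/-- a normal subgroup fixing a point of a transitive faithful action is trivial -/
theorem normal_fix_trivial [FaithfulSMul G Ω] [MulAction.IsPretransitive G Ω] (D : Subgroup G) [D.Normal]
    (a : Ω) (hD : D ≤ MulAction.stabilizer G a) : D = ⊥ := by
  rw [eq_bot_iff]
  intro d hd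
  rw [Subgroup.mem_bot]
  apply eq_of_smul_eq_smul (α := Ω)
  intro c
  obtain ⟨g, rfl⟩ := MulAction.exists_smul_eq G a c
  have h1 : g⁻¹ * d * g ∈ D := by
    have := Subgroup.Normal.conj_mem ‹D.Normal› d hd g⁻¹
    rwa [inv_inv] at this
  have h2 := hD h1
  rw [MulAction.mem_stabilizer_iff, mul_smul, mul_smul, inv_smul_eq_iff] at h2
  rw [h2, one_smul]

theorem card_stab [Finite G] [FaithfulSMul G Ω]
    (hprim : MulAction.IsPreprimitive G Ω) (a b : Ω)
    (h2 : Nat.card (MulAction.orbit (MulAction.stabilizer G a) b) = 2) :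
    Nat.card (MulAction.stabilizer G a) = 2 ∧ a ≠ b := by
  haveI := hprim.toIsPretransitive
  have hab : a ≠ b := by
    rintro rfl
    have : MulAction.orbit (MulAction.stabilizer G a) a = {a} := by
      ext x
      constructor
      · rintro ⟨h, rfl⟩
        exact h.2
      · rintro rfl
        exact MulAction.mem_orbit_self _
    rw [this] at h2
    simp at h2
  haveI : Nontrivial Ω := ⟨⟨a, b, hab⟩⟩
  have hcoatom := (MulAction.isCoatom_stabilizer_iff_preprimitive G a).2 hprim
  set Ga := MulAction.stabilizer G a with hGa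
  set Gb := MulAction.stabilizer G b with hGb
  have hrel1 : Gb.relIndex Ga = 2 := by
    have := MulAction.index_stabilizer Ga b
    rw [stab_sub, ← Nat.card_coe_set_eq, h2] at this
    exact this
  obtain ⟨g, hg⟩ := MulAction.exists_smul_eq G a b
  have hcard : Nat.card Gb = Nat.card Ga := by
    rw [hGb, ← hg, MulAction.stabilizer_smul_eq_stabilizer_map_conj]
    exact Subgroup.card_map_of_injective (MulAut.conj g).injective
  have hD1 := card_sub_mul (Ga ⊓ Gb) Ga inf_le_left
  have hD2 := card_sub_mul (Ga ⊓ Gb) Gb inf_le_right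
  rw [Subgroup.inf_relIndex_left, hrel1] at hD1
  rw [Subgroup.inf_relIndex_right, hcard, ← hD1] at hD2
  have hDpos : 0 < Nat.card (Ga ⊓ Gb : Subgroup G) := Nat.card_pos
  have hrel2 : Ga.relIndex Gb = 2 := Nat.eq_of_mul_eq_mul_left hDpos hD2
  -- normality
  have hn1 : Ga ≤ Subgroup.normalizer ((Ga ⊓ Gb : Subgroup G) : Set G) := by
    rw [← Subgroup.normal_subgroupOf_iff_le_normalizer inf_le_left, Subgroup.inf_subgroupOf_left]
    exact Subgroup.normal_of_index_eq_two hrel1
  have hn2 : Gb ≤ Subgroup.normalizer ((Ga ⊓ Gb : Subgroup G) : Set G) := by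
    rw [← Subgroup.normal_subgroupOf_iff_le_normalizer inf_le_right, Subgroup.inf_subgroupOf_right]
    exact Subgroup.normal_of_index_eq_two hrel2
  have hne : ¬ Gb ≤ Ga := by
    intro hle
    have heq : Gb = Ga := Subgroup.eq_of_le_of_card_ge hle (le_of_eq hcard.symm)
    have : Gb.relIndex Ga = 1 := by
      rw [Subgroup.relIndex_eq_one, heq]
    omega
  have hsup : Ga ⊔ Gb = ⊤ := by
    by_contra hcon
    have hlt : Ga < Ga ⊔ Gb := lt_of_le_of_ne le_sup_left (by
      intro heq
      apply hne
      rw [heq]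
      exact le_sup_right)
    exact hcon (hcoatom.2 _ hlt)
  haveI hnorm : (Ga ⊓ Gb : Subgroup G).Normal := by
    rw [← Subgroup.normalizer_eq_top_iff, eq_top_iff, ← hsup]
    exact sup_le hn1 hn2
  have hbot := normal_fix_trivial (Ga ⊓ Gb) a inf_le_left
  rw [hbot, Subgroup.card_bot, one_mul] at hD1
  exact ⟨hD1.symm, hab⟩

end

theorem dihedral_of_max {G : Type*} [Group G] [Finite G] (H : Subgroup G) (hH : IsCoatom H)
    (hcard : Nat.card H = 2) (hnn : ¬ H.Normal) :
    ∃ p : ℕ, p.Prime ∧ Nonempty (G ≃* DihedralGroup p) := by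
  -- the involution generating H
  have hHne : H ≠ ⊥ := by
    intro h
    rw [h, Subgroup.card_bot] at hcard
    omega
  obtain ⟨⟨t, htH⟩, ht1⟩ := (Subgroup.ne_bot_iff_exists_ne_one).1 hHne
  have ht1' : t ≠ 1 := fun h => ht1 (Subtype.ext h)
  have hzt : Subgroup.zpowers t = H := by
    apply Subgroup.eq_of_le_of_card_ge (Subgroup.zpowers_le.2 htH)
    rw [hcard, Nat.card_zpowers]
    have : orderOf t ≠ 1 := fun h => ht1' (orderOf_eq_one_iff.1 h)
    have : orderOf t ≠ 0 := (orderOf_pos _).ne'
    omega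
  have hto : orderOf t = 2 := by
    rw [← Nat.card_zpowers, hzt, hcard]
  have htt : t * t = 1 := by
    have := pow_orderOf_eq_one t
    rwa [hto, pow_two] at this
  have hHmem : ∀ h ∈ H, h = 1 ∨ h = t := by
    intro h hh
    rw [← hzt] at hh
    obtain ⟨k, rfl⟩ := hh
    simp only
    rcases Int.even_or_odd' k with ⟨c, hc | hc⟩
    · left
      rw [hc, zpow_mul, zpow_ofNat, pow_two, htt, one_zpow]
    · right
      rw [hc, zpow_add, zpow_mul, zpow_ofNat, pow_two, htt, one_zpow, one_mul, zpow_one]
  -- a conjugate outside H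
  have hex : ∃ g : G, g * t * g⁻¹ ∉ H := by
    by_contra hcon
    push Not at hcon
    apply hnn
    constructor
    intro n hn g
    rcases hHmem n hn with rfl | rfl
    · simp
    · exact hcon g
  obtain ⟨g, hg⟩ := hex
  obtain ⟨s, hs⟩ : ∃ s : G, s = g * t * g⁻¹ := ⟨_, rfl⟩
  rw [← hs] at hg
  have hso : orderOf s = 2 := by
    have := MulEquiv.orderOf_eq (MulAut.conj g) t
    rw [MulAut.conj_apply, ← hs, hto] at this
    exact this
  have hst : t ≠ s := fun h => hg (h ▸ htH)
  have hss : s * s = 1 := by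
    have := pow_orderOf_eq_one s
    rwa [hso, pow_two] at this
  -- closure is everything
  have hcl : Subgroup.closure ({t, s} : Set G) = ⊤ := by
    apply hH.2
    apply lt_of_le_of_ne
    · rw [← hzt, Subgroup.zpowers_le]
      exact Subgroup.subset_closure (Or.inl rfl)
    · intro heq
      apply hg
      rw [heq]
      exact Subgroup.subset_closure (Or.inr rfl)
  obtain ⟨e⟩ := Cfsg.Agent.S0206.result t s hto hso hst
  obtain ⟨x, hx⟩ : ∃ x : G, x = t * s := ⟨_, rfl⟩
  rw [← hx] at e
  obtain ⟨n, hn⟩ : ∃ n : ℕ, n = orderOf x := ⟨_, rfl⟩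
  rw [← hn] at e
  have hn0 : n ≠ 0 := by rw [hn]; exact (orderOf_pos x).ne'
  have eG : G ≃* DihedralGroup n :=
    (Subgroup.topEquiv.symm.trans (MulEquiv.subgroupCongr hcl.symm)).trans e
  have hGcard : Nat.card G = 2 * n := by
    rw [Nat.card_congr eG.toEquiv, DihedralGroup.nat_card]
  refine ⟨n, ?_, ⟨eG⟩⟩
  -- n is prime
  have hn1 : n ≠ 1 := by
    intro h
    have hx1 : x = 1 := orderOf_eq_one_iff.1 (hn ▸ h)
    apply hst
    calc t = t * (s * s) := by rw [hss, mul_one]
      _ = x * s := by rw [hx, mul_assoc]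
      _ = s := by rw [hx1, one_mul]
  have hq := Nat.minFac_prime hn1
  have hqn : n.minFac ∣ n := Nat.minFac_dvd n
  obtain ⟨q, hqdef⟩ : ∃ q : ℕ, q = n.minFac := ⟨_, rfl⟩
  rw [← hqdef] at hq hqn
  obtain ⟨y, hy⟩ : ∃ y : G, y = x ^ (n / q) := ⟨_, rfl⟩
  have hyo : orderOf y = q := by
    rw [hy, hn]
    exact orderOf_pow_orderOf_div (hn ▸ hn0) (hn ▸ hqn)
  -- conjugation by t and s inverts x
  have h1 : t⁻¹ = t := inv_eq_of_mul_eq_one_left htt
  have h2 : s⁻¹ = s := inv_eq_of_mul_eq_one_left hss
  have hxinv : x⁻¹ = s * t := by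
    rw [hx, mul_inv_rev, h1, h2]
  have htx : t * x * t⁻¹ = x⁻¹ := by
    rw [hxinv, h1, hx]
    calc t * (t * s) * t = (t * t) * s * t := by group
      _ = s * t := by rw [htt, one_mul]
  have hsx : s * x * s⁻¹ = x⁻¹ := by
    rw [hxinv, h2, hx]
    calc s * (t * s) * s = s * t * (s * s) := by group
      _ = s * t := by rw [hss, mul_one]
  haveI hQn : (Subgroup.zpowers y).Normal := by
    rw [← Subgroup.normalizer_eq_top_iff, eq_top_iff, ← hcl, Subgroup.closure_le]
    have key : ∀ u : G, u * x * u⁻¹ = x⁻¹ → u ∈ Subgroup.normalizer ((Subgroup.zpowers y : Subgroup G) : Set G) := by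
      intro u hu
      have huy : u * y * u⁻¹ = y⁻¹ := by
        rw [hy, ← inv_pow, ← hu, conj_pow]
      have hinv : u⁻¹ * x * u = x⁻¹ := by
        have hu' : x = u⁻¹ * x⁻¹ * u := by
          rw [← hu]; group
        calc u⁻¹ * x * u = u⁻¹ * x * u * (x * x⁻¹) := by group
          _ = u⁻¹ * x * u * ((u⁻¹ * x⁻¹ * u) * x⁻¹) := by rw [← hu']
          _ = x⁻¹ := by group
      have huy' : u⁻¹ * y * u = y⁻¹ := by
        have := conj_pow (a := u⁻¹) (b := x) (i := n / q)
        rw [inv_inv] at this
        rw [hy, ← inv_pow, ← hinv, this]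
      rw [Subgroup.mem_normalizer_iff]
      intro z
      constructor
      · rintro ⟨k, rfl⟩
        simp only
        rw [← conj_zpow, huy]
        exact Subgroup.zpow_mem _ (Subgroup.inv_mem _ (Subgroup.mem_zpowers y)) k
      · intro hz
        obtain ⟨k, hk⟩ := hz
        simp only at hk
        have : z = u⁻¹ * (u * z * u⁻¹) * u := by group
        rw [this, ← hk]
        have h3 := conj_zpow (a := u⁻¹) (b := y) (i := k)
        rw [inv_inv] at h3
        rw [← h3, huy']
        exact Subgroup.zpow_mem _ (Subgroup.inv_mem _ (Subgroup.mem_zpowers y)) k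
    intro u hu
    rcases hu with rfl | hu
    · exact key _ htx
    · rw [Set.mem_singleton_iff] at hu
      subst hu
      exact key _ hsx
  have hQcard : Nat.card (Subgroup.zpowers y) = q := by rw [Nat.card_zpowers, hyo]
  rcases eq_or_ne (H ⊔ Subgroup.zpowers y) H with hK | hK
  · -- Q ≤ H
    exfalso
    have hQH : Subgroup.zpowers y ≤ H := by
      rw [← hK]
      exact le_sup_right
    have : Subgroup.zpowers y = H := by
      apply Subgroup.eq_of_le_of_card_ge hQH
      rw [hQcard, hcard]
      exact hq.two_le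
    apply hnn
    rw [← this]
    exact hQn
  · have hK' : H ⊔ Subgroup.zpowers y = ⊤ := hH.2 _ (lt_of_le_of_ne le_sup_left hK.symm)
    have h1 := card_sub_mul (Subgroup.zpowers y) (H ⊔ Subgroup.zpowers y) le_sup_right
    rw [Subgroup.relIndex_sup_right, hK', Subgroup.card_top, hGcard, hQcard] at h1
    have h2 : (Subgroup.zpowers y).relIndex H ∣ 2 := by
      have := Subgroup.relIndex_dvd_card (Subgroup.zpowers y) H
      rwa [hcard] at this
    have h3 : (Subgroup.zpowers y).relIndex H ≤ 2 := Nat.le_of_dvd (by norm_num) h2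
    have h4 : n ≤ q := by nlinarith
    have h5 : q ≤ n := Nat.le_of_dvd (Nat.pos_of_ne_zero hn0) hqn
    have : n = q := le_antisymm h4 h5
    rw [this]
    exact hq

/-- Let a finite group G act faithfully and primitively on a set Ω, and suppose the stabilizer of a point a has an orbit of length 2. Then the stabilizer of a has order 2 and G is isomorphic to the dihedral group of order 2p for some prime p. -/
theorem result {G Ω : Type*} [Group G] [Finite G] [MulAction G Ω] [FaithfulSMul G Ω] [Finite Ω]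
    (hprim : MulAction.IsPreprimitive G Ω) (a b : Ω) (h2 : Nat.card (MulAction.orbit (MulAction.stabilizer G a) b) = 2) :
    Nat.card (MulAction.stabilizer G a) = 2 ∧ ∃ p : ℕ, p.Prime ∧ Nonempty (G ≃* DihedralGroup p) := by
  obtain ⟨hc, hab⟩ := card_stab hprim a b h2
  refine ⟨hc, ?_⟩
  haveI := hprim.toIsPretransitive
  haveI : Nontrivial Ω := ⟨⟨a, b, hab⟩⟩
  have hcoatom := (MulAction.isCoatom_stabilizer_iff_preprimitive G a).2 hprim
  apply dihedral_of_max _ hcoatom hc
  intro hn
  have := normal_fix_trivial (MulAction.stabilizer G a) a le_rfl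
  rw [this, Subgroup.card_bot] at hc
  omega

end Cfsg.Agent.S3684
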