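import Mathlib
import Cfsg.Statements.S3688
import Cfsg.Agent.Lib.Lead.WielandtBound3

set_option autoImplicit false

open Cfsg

namespace Cfsg.Agent.S3688

theorem result {G Ω : Type*} [Group G] [Finite G] [MulAction G Ω] [FaithfulSMul G Ω] [Finite Ω]
    (hprim : MulAction.IsPreprimitive G Ω) (a b : Ω) (d : ℕ) (hd : Nat.card (MulAction.orbit (MulAction.stabilizer G a) b) = d) (h2 : 2 ≤ d)
    (hnc : ∀ p : ℕ, p.Prime → Cfsg.generalizedFittingSubgroup (MulAction.stabilizer G a) ≠ Cfsg.pCore p (MulAction.stabilizer G a)) :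
    Nat.card (MulAction.stabilizer G a) ∣ Nat.factorial d * (Nat.factorial (d - 1)) ^ d := by
  obtain ⟨hmax, ⟨g, hconj⟩, hne, hcore, hd1, hd2⟩ :=
    Cfsg.Agent.Lib.Lead.WB.setup hprim a b d hd h2
  have hcard : Nat.card (MulAction.stabilizer G b) = Nat.card (MulAction.stabilizer G a) := by
    rw [hconj]; exact Cfsg.Agent.Lib.Helper3.TW.card_map_conj _ g
  apply Cfsg.Agent.Lib.Lead.WB.card_dvd _ _ hcard d hd1 hd2
  by_contra hor
  push Not at hor
  obtain ⟨p, hp, -, hF, -⟩ :=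
    Cfsg.Agent.Lib.Helper3.TW.thompson_wielandt _ _ hmax g hconj hne hcore hor.1 hor.2
  exact hnc p hp hF

end Cfsg.Agent.S3688
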