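import Cfsg.Statements.S3703
import Mathlib
import Cfsg.Agent.Lib.Helper8.Mazurov3
import Cfsg.Agent.Lib.Helper1.FrobeniusConj2
import Cfsg.Agent.Lib.Lead.LiftPSub

set_option autoImplicit false
open Cfsg

namespace Cfsg.Agent.S3703

open Cfsg.Agent.Lib.Helper8.Mazurov
open scoped Pointwise

/-- From an element whose `n`-th power is nontrivial, get an element of order `p * n`. -/
theorem exists_order_of_pow_ne_one {G : Type*} [Group G] [Finite G] (g : G) (n : ℕ) (hn : 0 < n)
    (hdvd : n ∣ orderOf g) (hg : g ^ n ≠ 1) :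
    ∃ p : ℕ, p.Prime ∧ p ∣ orderOf (g ^ n) ∧ ∃ h : G, orderOf h = p * n := by
  set m := orderOf (g ^ n) with hm
  have hm1 : m ≠ 1 := by
    intro h
    rw [hm, orderOf_eq_one_iff] at h
    exact hg h
  have hmn : orderOf g = n * m := by
    rw [hm, orderOf_pow' g hn.ne', Nat.gcd_eq_right hdvd]
    exact (Nat.mul_div_cancel' hdvd).symm
  have hp := Nat.minFac_prime hm1
  have hpm := Nat.minFac_dvd m
  have hmpos : 0 < m := orderOf_pos _
  obtain ⟨k, hk⟩ := hpm
  have hk0 : 0 < k := by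
    rcases Nat.eq_zero_or_pos k with h | h
    · rw [h, mul_zero] at hk; omega
    · exact h
  refine ⟨m.minFac, hp, Dvd.intro k hk.symm, g ^ k, ?_⟩
  rw [orderOf_pow' g hk0.ne', hmn]
  have h1 : (n * m).gcd k = k := by
    apply Nat.gcd_eq_right
    rw [hk]
    exact Dvd.intro_left (n * m.minFac) (by ring)
  rw [h1]
  have h2 : n * m = (m.minFac * n) * k := by
    conv_lhs => rw [hk]
    ring
  rw [h2, Nat.mul_div_cancel _ hk0]

/-- Let N be a normal subgroup of the finite group G such that G/N is a Frobenius group with kernel F and cyclic complement H, where the order of F is coprime to that of N and F is not contained in the image of C_G(N) in G/N. Then G has an element of order p·#H for some prime p dividing the order of N. (A standard tool in recognising groups by their element orders.) -/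
theorem result {G : Type*} [Group G] [Finite G] (N : Subgroup G) [N.Normal]
    (Fb Hb : Subgroup (G ⧸ N)) [Fb.Normal] (hHb : Cfsg.IsFrobeniusComplement Hb) (hker : Cfsg.frobeniusKernel Hb = (Fb : Set (G ⧸ N)))
    (hcyc : IsCyclic Hb) (hcop : (Nat.card Fb).Coprime (Nat.card N))
    (hnot : ¬ Fb ≤ (Subgroup.centralizer (N : Set G)).map (QuotientGroup.mk' N)) :
    ∃ p : ℕ, p.Prime ∧ p ∣ Nat.card N ∧ ∃ g : G, orderOf g = p * Nat.card Hb := by
  classical
  by_contra hcon
  push Not at hcon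
  set n := Nat.card Hb with hn
  let π : G →* G ⧸ N := QuotientGroup.mk' N
  have hπsurj : Function.Surjective π := QuotientGroup.mk'_surjective N
  have hπ1 : ∀ g : G, π g = 1 ↔ g ∈ N := fun g => QuotientGroup.eq_one_iff g
  have hn2 : 2 ≤ n := by
    have h1 : Nontrivial Hb := (Subgroup.nontrivial_iff_ne_bot Hb).2 hHb.1
    exact Finite.one_lt_card
  have hn0 : 0 < n := by omega
  -- (†)
  have hdag : ∀ g : G, orderOf (π g) = n → g ^ n = 1 := by
    intro g hg
    by_contra hne
    have hdvd : n ∣ orderOf g := hg ▸ orderOf_map_dvd π g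
    obtain ⟨p, hp, hpd, h, hh⟩ := exists_order_of_pow_ne_one g n hn0 hdvd hne
    have hgN : g ^ n ∈ N := by
      rw [← hπ1, map_pow, ← hg, pow_orderOf_eq_one]
    have h1 : orderOf (g ^ n) ∣ Nat.card N := by
      have := orderOf_dvd_natCard (⟨g ^ n, hgN⟩ : N)
      rwa [← Subgroup.orderOf_coe] at this
    exact hcon p hp (hpd.trans h1) h hh
  -- generator of Hb
  obtain ⟨h₀', hgen⟩ := hcyc.exists_generator
  set h₀ : G ⧸ N := (h₀' : G ⧸ N) with hh₀
  have hh₀H : h₀ ∈ Hb := h₀'.2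
  have hord : orderOf h₀ = n := by
    rw [hh₀, Subgroup.orderOf_coe]
    exact orderOf_eq_card_of_forall_mem_zpowers hgen
  have hFH : Fb ⊓ Hb = ⊥ := Lib.Helper1.frobenius_kernel_inf_eq_bot hker.symm
  -- properties of the coset Fb * h₀
  have hcoset_pow : ∀ (f : G ⧸ N), f ∈ Fb → ∀ i : ℕ, (f * h₀) ^ i ∈ Fb → n ∣ i := by
    intro f hf i hi
    let ρ : (G ⧸ N) →* (G ⧸ N) ⧸ Fb := QuotientGroup.mk' Fb
    have hρ1 : ∀ g : G ⧸ N, ρ g = 1 ↔ g ∈ Fb := fun g => QuotientGroup.eq_one_iff g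
    have h1 : ρ (f * h₀) = ρ h₀ := by
      rw [map_mul, (hρ1 f).2 hf, one_mul]
    have h2 : ρ (h₀ ^ i) = 1 := by
      rw [map_pow, ← h1, ← map_pow, hρ1]
      exact hi
    rw [hρ1] at h2
    have h3 : h₀ ^ i ∈ Fb ⊓ Hb := Subgroup.mem_inf.2 ⟨h2, Hb.pow_mem hh₀H i⟩
    rw [hFH, Subgroup.mem_bot] at h3
    rw [← hord]
    exact orderOf_dvd_of_pow_eq_one h3
  have hcoset_notin : ∀ (f : G ⧸ N), f ∈ Fb → ∀ i : ℕ, ¬ n ∣ i → (f * h₀) ^ i ∉ Fb :=
    fun f hf i hi h => hi (hcoset_pow f hf i h)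
  have hcoset_n : ∀ (f : G ⧸ N), f ∈ Fb → (f * h₀) ^ n = 1 := by
    intro f hf
    have h1 : f * h₀ ∉ Fb := by
      have := hcoset_notin f hf 1 (by intro h; have := Nat.le_of_dvd one_pos h; omega)
      rwa [pow_one] at this
    have h2 : f * h₀ ∉ Cfsg.frobeniusKernel Hb := by rw [hker]; exact h1
    have h3 : ∃ c : G ⧸ N, f * h₀ ∈ MulAut.conj c • Hb := by
      by_contra hc
      push Not at hc
      exact h2 (Or.inr hc)
    obtain ⟨c, hc⟩ := h3
    rw [Lib.Helper1.mem_conj_smul_iff'] at hc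
    have h4 : (f * h₀) ^ n ∈ Fb := by
      let ρ : (G ⧸ N) →* (G ⧸ N) ⧸ Fb := QuotientGroup.mk' Fb
      have hρ1 : ∀ g : G ⧸ N, ρ g = 1 ↔ g ∈ Fb := fun g => QuotientGroup.eq_one_iff g
      rw [← hρ1, map_pow, map_mul, (hρ1 f).2 hf, one_mul, ← map_pow, ← hord, pow_orderOf_eq_one,
        map_one]
    have h5 : c⁻¹ * (f * h₀) ^ n * c ∈ Fb ⊓ Hb := by
      refine Subgroup.mem_inf.2 ⟨?_, ?_⟩
      · have := (inferInstance : Fb.Normal).conj_mem _ h4 c⁻¹
        simpa using this
      · have := Hb.pow_mem hc n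
        have e : (c⁻¹ * (f * h₀) * c) ^ n = c⁻¹ * (f * h₀) ^ n * c := by
          have := conj_pow (a := c⁻¹) (b := f * h₀) (i := n)
          simpa using this
        rwa [e] at this
    rw [hFH, Subgroup.mem_bot] at h5
    have e : (f * h₀) ^ n = c * (c⁻¹ * (f * h₀) ^ n * c) * c⁻¹ := by group
    rw [e, h5]
    group
  have hcoset_ord : ∀ (f : G ⧸ N), f ∈ Fb → orderOf (f * h₀) = n := by
    intro f hf
    apply Nat.dvd_antisymm (orderOf_dvd_of_pow_eq_one (hcoset_n f hf))
    apply hcoset_pow f hf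
    rw [pow_orderOf_eq_one]
    exact Fb.one_mem
  have hcoset_fp : ∀ (f : G ⧸ N), f ∈ Fb → ∀ i : ℕ, ¬ n ∣ i → ∀ u ∈ Fb,
      (f * h₀) ^ i * u * ((f * h₀) ^ i)⁻¹ = u → u = 1 := by
    intro f hf i hi u hu hfix
    have h1 := Lib.Helper1.frobenius_centralizer_inf_kernel hHb hker.symm inferInstance
      (hcoset_notin f hf i hi)
    have h2 : u ∈ Fb ⊓ Subgroup.centralizer {(f * h₀) ^ i} := by
      refine Subgroup.mem_inf.2 ⟨hu, ?_⟩
      rw [Subgroup.mem_centralizer_singleton_iff]
      calc u * (f * h₀) ^ i = ((f * h₀) ^ i * u * ((f * h₀) ^ i)⁻¹) * (f * h₀) ^ i := by rw [hfix]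
        _ = (f * h₀) ^ i * u := by group
    rw [h1, Subgroup.mem_bot] at h2
    exact h2
  -- the full preimage of the kernel
  set Ff : Subgroup G := Fb.comap π with hFf
  have hFfcard : Nat.card Ff = Nat.card N * Nat.card Fb := Lib.Helper1.card_comap_mk' N Fb
  have hNFf : N ≤ Ff := by
    intro a ha
    rw [hFf, Subgroup.mem_comap, (hπ1 a).2 ha]
    exact Fb.one_mem
  -- choose the prime r and a Sylow r-subgroup of Ff not centralising N
  obtain ⟨r, hr, hrF, S, hS⟩ : ∃ r : ℕ, ∃ hr : r.Prime, r ∣ Nat.card Fb ∧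
      ∃ S : @Sylow r Ff _, ¬ ((S : Subgroup Ff).map Ff.subtype ≤ Subgroup.centralizer (N : Set G)) := by
    by_contra hall
    push Not at hall
    apply hnot
    set D : Subgroup (G ⧸ N) := (Subgroup.centralizer (N : Set G) ⊓ Ff).map π with hD
    have hDF : D ≤ Fb := by
      rintro _ ⟨a, ha, rfl⟩
      exact (Subgroup.mem_inf.1 ha).2
    have hdvd : Nat.card Fb ∣ Nat.card D := by
      rw [← Nat.factorization_prime_le_iff_dvd Nat.card_pos.ne' Nat.card_pos.ne']
      intro r hr
      by_cases hrF : r ∣ Nat.card Fb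
      · haveI : Fact r.Prime := ⟨hr⟩
        obtain ⟨S⟩ := (inferInstance : Nonempty (Sylow r Ff))
        have hSc := hall r hr hrF S
        set R := (S : Subgroup Ff).map Ff.subtype with hR
        have hrN : ¬ r ∣ Nat.card N := by
          intro h
          have := Nat.Coprime.eq_one_of_dvd (Nat.Coprime.coprime_dvd_left hrF hcop) h
          exact hr.one_lt.ne' this
        have hcardR : Nat.card R = r ^ (Nat.card Fb).factorization r := by
          rw [hR, Subgroup.card_map_of_injective Ff.subtype_injective, S.card_eq_multiplicity,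
            hFfcard, Nat.factorization_mul Nat.card_pos.ne' Nat.card_pos.ne']
          have h1 : (Nat.card N).factorization r = 0 := Nat.factorization_eq_zero_of_not_dvd hrN
          simp [h1]
        have hRFf : R ≤ Ff := Subgroup.map_subtype_le _
        have hRN : R ⊓ N = ⊥ := by
          apply (Subgroup.disjoint_of_coprime_natCard _).eq_bot
          rw [hcardR]
          apply Nat.Coprime.pow_left
          exact (Nat.Prime.coprime_iff_not_dvd hr).2 hrN
        have hRD : R.map π ≤ D := Subgroup.map_mono (le_inf hSc hRFf)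
        have h2 : Nat.card (R.map π) = Nat.card R := by
          apply Lib.Lead.LiftPSub.card_map_of_inf_ker_eq_bot
          rw [QuotientGroup.ker_mk']
          exact hRN
        have h3 := Subgroup.card_dvd_of_le hRD
        rw [h2, hcardR] at h3
        exact (hr.pow_dvd_iff_le_factorization Nat.card_pos.ne').1 h3
      · rw [Nat.factorization_eq_zero_of_not_dvd hrF]
        exact Nat.zero_le _
    have hDeq : D = Fb := Subgroup.eq_of_le_of_card_ge hDF (Nat.le_of_dvd Nat.card_pos hdvd)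
    rw [← hDeq, hD]
    exact Subgroup.map_mono inf_le_left
  haveI : Fact r.Prime := ⟨hr⟩
  set R := (S : Subgroup Ff).map Ff.subtype with hR
  have hRFf : R ≤ Ff := Subgroup.map_subtype_le _
  have hRr : IsPGroup r R := S.2.map Ff.subtype
  have hrN : ¬ r ∣ Nat.card N := by
    intro h
    have := Nat.Coprime.eq_one_of_dvd (Nat.Coprime.coprime_dvd_left hrF hcop) h
    exact hr.one_lt.ne' this
  have hcopR : (Nat.card R).Coprime (Nat.card N) := by
    obtain ⟨a, ha⟩ := IsPGroup.iff_card.1 hRr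
    rw [ha]
    apply Nat.Coprime.pow_left
    exact (Nat.Prime.coprime_iff_not_dvd hr).2 hrN
  have hRN : R ⊓ N = ⊥ := (Subgroup.disjoint_of_coprime_natCard hcopR).eq_bot
  -- Frattini
  haveI : Ff.Normal := by
    rw [hFf]
    infer_instance
  have hfrat : Subgroup.normalizer (R : Set G) ⊔ Ff = ⊤ := Sylow.normalizer_sup_eq_top S
  obtain ⟨g₀, hg₀⟩ := hπsurj h₀
  have hg₀mem : g₀ ∈ ((Subgroup.normalizer (R : Set G) ⊔ Ff : Subgroup G) : Set G) := by
    rw [hfrat]
    trivial
  rw [Subgroup.mul_normal] at hg₀mem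
  obtain ⟨x, hxR, f, hf, hxf⟩ := Set.mem_mul.1 hg₀mem
  have hxR' : x ∈ Subgroup.normalizer (R : Set G) := hxR
  have hf' : π f ∈ Fb := hf
  -- π x ∈ Fb * h₀
  have hπx : ∃ f' ∈ Fb, π x = f' * h₀ := by
    refine ⟨h₀ * (π f)⁻¹ * h₀⁻¹, ?_, ?_⟩
    · exact (inferInstance : Fb.Normal).conj_mem _ (Fb.inv_mem hf') h₀
    · have : π x * π f = h₀ := by rw [← map_mul, hxf, hg₀]
      rw [← this]
      group
  obtain ⟨f', hf'F, hπx'⟩ := hπx
  have hcosetmem : ∀ v ∈ N, ∀ u ∈ R, ∃ f'' ∈ Fb, π (v * u * x) = f'' * h₀ := by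
    intro v hv u hu
    refine ⟨π u * f', Fb.mul_mem (hRFf hu) hf'F, ?_⟩
    rw [map_mul, map_mul, (hπ1 v).2 hv, one_mul, hπx', mul_assoc]
  have hcentr : R ≤ Subgroup.centralizer (N : Set G) := by
    apply frob_centralizes_normal N R x n hn0 hRr hcopR hxR'
    · intro v hv u hu
      obtain ⟨f'', hf'', he⟩ := hcosetmem v hv u hu
      apply hdag
      rw [he]
      exact hcoset_ord f'' hf''
    · intro v hv u hu i hi w hw hfix
      obtain ⟨f'', hf'', he⟩ := hcosetmem v hv u hu
      have h1 := congrArg π hfix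
      rw [map_mul, map_mul, map_inv, map_pow, he] at h1
      have h2 := hcoset_fp f'' hf'' i hi (π w) (hRFf hw) h1
      have h3 : w ∈ R ⊓ N := Subgroup.mem_inf.2 ⟨hw, (hπ1 w).1 h2⟩
      rw [hRN, Subgroup.mem_bot] at h3
      exact h3
  exact hS hcentr

end Cfsg.Agent.S3703
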