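import Cfsg.Statements.S3704
import Mathlib

set_option autoImplicit false
set_option linter.style.haveILetI false
set_option linter.unusedSimpArgs false
open Cfsg

namespace Cfsg.Agent.S3704

open scoped Matrix

section

variable {G Ω : Type*} [Group G] [MulAction G Ω] (H : Subgroup G)

/-- `f` is invariant under `H`. -/
def Inv (f : Ω → ℚ) : Prop := ∀ h : H, ∀ x : Ω, f (h • x) = f x

/-- The "point–block" matrix of a function. -/
noncomputable def M (f : Ω → ℚ) : Matrix Ω (G ⧸ H) ℚ :=
  fun x q => f ((q.out)⁻¹ • x)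

variable {H}

theorem M_mk {f : Ω → ℚ} (hf : Inv H f) (x : Ω) (g : G) :
    M H f x (QuotientGroup.mk g) = f (g⁻¹ • x) := by
  obtain ⟨h, hh⟩ := QuotientGroup.mk_out_eq_mul H g
  unfold M
  rw [hh, mul_inv_rev, mul_smul]
  exact hf (h⁻¹) _

theorem M_one {f : Ω → ℚ} (hf : Inv H f) (x : Ω) :
    M H f x (QuotientGroup.mk 1) = f x := by
  rw [M_mk hf, inv_one, one_smul]

theorem M_smul {f : Ω → ℚ} (hf : Inv H f) (u : G) (x : Ω) (q : G ⧸ H) :
    M H f (u • x) (u • q) = M H f x q := by
  induction q using QuotientGroup.induction_on with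
  | H g =>
    rw [MulAction.Quotient.smul_mk, M_mk hf, M_mk hf, smul_eq_mul, mul_inv_rev, mul_smul,
      inv_smul_smul]

/-- the indicator function of an `H`-orbit -/
noncomputable def ind (H : Subgroup G) (a : Ω) : Ω → ℚ :=
  Set.indicator (MulAction.orbit H a) (fun _ => (1 : ℚ))

theorem ind_inv (a : Ω) : Inv H (ind H a) := by
  intro h x
  have : h • x ∈ MulAction.orbit H a ↔ x ∈ MulAction.orbit H a := by
    rw [← MulAction.orbit_eq_iff, MulAction.orbit_smul, MulAction.orbit_eq_iff]
  unfold ind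
  by_cases hx : x ∈ MulAction.orbit H a
  · rw [Set.indicator_of_mem hx, Set.indicator_of_mem (this.mpr hx)]
  · rw [Set.indicator_of_notMem hx, Set.indicator_of_notMem (fun h' => hx (this.mp h'))]

theorem ind_self (a : Ω) : ind H a a = 1 := by
  unfold ind
  rw [Set.indicator_of_mem (MulAction.mem_orbit_self a)]

theorem ind_of_not_mem {a x : Ω} (h : x ∉ MulAction.orbit H a) : ind H a x = 0 := by
  unfold ind
  rw [Set.indicator_of_notMem h]

theorem ind_nonneg (a x : Ω) : 0 ≤ ind H a x := by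
  unfold ind
  by_cases hx : x ∈ MulAction.orbit H a
  · rw [Set.indicator_of_mem hx]; norm_num
  · rw [Set.indicator_of_notMem hx]

theorem ind_le_one (a x : Ω) : ind H a x ≤ 1 := by
  unfold ind
  by_cases hx : x ∈ MulAction.orbit H a
  · rw [Set.indicator_of_mem hx]
  · rw [Set.indicator_of_notMem hx]; norm_num

theorem ind_sq (a x : Ω) : ind H a x * ind H a x = ind H a x := by
  unfold ind
  by_cases hx : x ∈ MulAction.orbit H a
  · rw [Set.indicator_of_mem hx]; norm_num
  · rw [Set.indicator_of_notMem hx]; norm_num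

theorem M_ind_nonneg (a x : Ω) (q : G ⧸ H) : 0 ≤ M H (ind H a) x q := ind_nonneg _ _
theorem M_ind_le_one (a x : Ω) (q : G ⧸ H) : M H (ind H a) x q ≤ 1 := ind_le_one _ _
theorem M_ind_sq (a x : Ω) (q : G ⧸ H) :
    M H (ind H a) x q * M H (ind H a) x q = M H (ind H a) x q := ind_sq _ _


variable [Fintype (G ⧸ H)]

/-- The kernel `M_f * M_f'ᵀ` is `G`-invariant. -/
theorem kernel_inv {f f' : Ω → ℚ} (hf : Inv H f) (hf' : Inv H f') (u : G) (x y : Ω) :
    (M H f * (M H f')ᵀ) (u • x) (u • y) = (M H f * (M H f')ᵀ) x y := by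
  simp only [Matrix.mul_apply, Matrix.transpose_apply]
  rw [← Equiv.sum_comp (MulAction.toPerm u : Equiv.Perm (G ⧸ H))]
  apply Finset.sum_congr rfl
  intro q _
  simp only [MulAction.toPerm_apply]
  rw [M_smul hf, M_smul hf']

theorem kernel_const (h2 : MulAction.IsMultiplyPretransitive G Ω 2) [DecidableEq Ω]
    {f f' : Ω → ℚ} (hf : Inv H f)
    (hf' : Inv H f') (x₀ y₀ : Ω) (hxy : x₀ ≠ y₀) (x y : Ω) :
    (M H f * (M H f')ᵀ) x y =
      if x = y then (M H f * (M H f')ᵀ) x₀ x₀ else (M H f * (M H f')ᵀ) x₀ y₀ := by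
  have h2' : ∀ {a b c d : Ω}, a ≠ b → c ≠ d → ∃ g : G, g • a = c ∧ g • b = d :=
    MulAction.is_two_pretransitive_iff.mp h2
  haveI : MulAction.IsPretransitive G Ω := MulAction.isPretransitive_of_is_two_pretransitive
  split_ifs with h
  · subst h
    obtain ⟨u, hu⟩ := MulAction.exists_smul_eq G x₀ x
    rw [← hu, kernel_inv hf hf']
  · obtain ⟨u, hu1, hu2⟩ := h2' hxy h
    rw [← hu1, ← hu2, kernel_inv hf hf']

end

/-- Let G be a finite group acting faithfully and 2-transitively on a finite set Ω of size n, and let H be a subgroup of index n in G which is not transitive on Ω and fixes no point of Ω. Then H has exactly two orbits on Ω. -/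
theorem result {G Ω : Type*} [Group G] [Finite G] [MulAction G Ω] [FaithfulSMul G Ω] [Finite Ω] (h2 : MulAction.IsMultiplyPretransitive G Ω 2) (H : Subgroup G) (hidx : H.index = Nat.card Ω) (hnt : ¬ MulAction.IsPretransitive H Ω) (hfix : ∀ a : Ω, ∃ h : H, h • a ≠ a) : Nat.card (MulAction.orbitRel.Quotient H Ω) = 2 := by
  classical
  haveI : Fintype Ω := Fintype.ofFinite Ω
  haveI : Fintype (G ⧸ H) := Fintype.ofFinite _
  haveI : Fintype (MulAction.orbitRel.Quotient H Ω) := Fintype.ofFinite _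
  have hcard : Fintype.card Ω = Fintype.card (G ⧸ H) := by
    rw [← Nat.card_eq_fintype_card, ← Nat.card_eq_fintype_card, ← hidx, Subgroup.index_eq_card]
  have hns : ¬ Subsingleton (MulAction.orbitRel.Quotient H Ω) := by
    rwa [← MulAction.pretransitive_iff_subsingleton_quotient]
  obtain ⟨x₀, y₀, hy₀⟩ : ∃ x₀ y₀ : Ω, y₀ ∉ MulAction.orbit H x₀ := by
    by_contra hcon
    push Not at hcon
    apply hnt
    exact ⟨fun x y => by
      obtain ⟨h, hh⟩ := MulAction.mem_orbit_iff.mp (hcon x y)
      exact ⟨h, hh⟩⟩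
  have hxy : x₀ ≠ y₀ := by
    intro h
    apply hy₀
    rw [← h]
    exact MulAction.mem_orbit_self x₀
  -- the incidence matrix
  obtain ⟨A, hA⟩ : ∃ A, A = M H (ind H x₀) := ⟨_, rfl⟩
  have hb : Inv H (ind H x₀) := ind_inv x₀
  obtain ⟨K, hKdef⟩ : ∃ K, K = A * Aᵀ := ⟨_, rfl⟩
  obtain ⟨α, hα⟩ : ∃ α, α = K x₀ x₀ := ⟨_, rfl⟩
  obtain ⟨β, hβ⟩ : ∃ β, β = K x₀ y₀ := ⟨_, rfl⟩
  have hK : ∀ x y, K x y = if x = y then α else β := by
    intro x y
    rw [hKdef, hA, hα, hβ, hKdef, hA]
    exact kernel_const h2 hb hb x₀ y₀ hxy x y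
  have hβ0 : 0 ≤ β := by
    rw [hβ, hKdef, hA]
    simp only [Matrix.mul_apply, Matrix.transpose_apply]
    apply Finset.sum_nonneg
    intro q _
    exact mul_nonneg (M_ind_nonneg _ _ _) (M_ind_nonneg _ _ _)
  have hαβ : β < α := by
    rw [hα, hβ, hKdef, hA]
    simp only [Matrix.mul_apply, Matrix.transpose_apply]
    apply Finset.sum_lt_sum
    · intro q _
      calc M H (ind H x₀) x₀ q * M H (ind H x₀) y₀ q
          ≤ M H (ind H x₀) x₀ q * 1 :=
            mul_le_mul_of_nonneg_left (M_ind_le_one _ _ _) (M_ind_nonneg _ _ _)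
        _ = M H (ind H x₀) x₀ q * M H (ind H x₀) x₀ q := by rw [mul_one, M_ind_sq]
    · refine ⟨QuotientGroup.mk 1, Finset.mem_univ _, ?_⟩
      rw [M_one hb, M_one hb, ind_self, ind_of_not_mem hy₀]
      norm_num
  -- K is invertible
  have hKv : ∀ v : Ω → ℚ, ∀ x, K.mulVec v x = (α - β) * v x + β * ∑ y, v y := by
    intro v x
    simp only [Matrix.mulVec, dotProduct, hK]
    have : ∀ y, (if x = y then α else β) * v y = (if x = y then (α - β) * v y else 0) + β * v y := by
      intro y
      split_ifs <;> ring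
    simp only [this, Finset.sum_add_distrib, Finset.sum_ite_eq, Finset.mem_univ, if_true,
      ← Finset.mul_sum]
  have hKu : IsUnit K := by
    rw [← Matrix.mulVec_injective_iff_isUnit]
    intro v w hvw
    have h0 : K.mulVec (v - w) = 0 := by rw [Matrix.mulVec_sub, hvw, sub_self]
    have hx : ∀ x, (α - β) * (v - w) x + β * ∑ y, (v - w) y = 0 := by
      intro x
      rw [← hKv, h0]; rfl
    have hS : (∑ y, (v - w) y) = 0 := by
      have hsum : ∑ x : Ω, ((α - β) * (v - w) x + β * ∑ y, (v - w) y) = 0 :=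
        Finset.sum_eq_zero (fun x _ => hx x)
      rw [Finset.sum_add_distrib, ← Finset.mul_sum, Finset.sum_const, Finset.card_univ,
        nsmul_eq_mul] at hsum
      have hpos : 0 < (α - β) + (Fintype.card Ω : ℚ) * β := by
        have : (0 : ℚ) ≤ (Fintype.card Ω : ℚ) * β := mul_nonneg (Nat.cast_nonneg _) hβ0
        linarith
      have : ((α - β) + (Fintype.card Ω : ℚ) * β) * ∑ y, (v - w) y = 0 := by
        linear_combination hsum
      rcases mul_eq_zero.mp this with h | h
      · exact absurd h hpos.ne'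
      · exact h
    funext x
    have := hx x
    rw [hS, mul_zero, add_zero] at this
    have hne : α - β ≠ 0 := by linarith
    have h1 : (v - w) x = 0 := (mul_eq_zero.mp this).resolve_left hne
    have h2' : v x - w x = 0 := h1
    linarith
  have hdet : IsUnit K.det := (Matrix.isUnit_iff_isUnit_det K).mp hKu
  obtain ⟨R, hR⟩ : ∃ R, R = Aᵀ * K⁻¹ := ⟨_, rfl⟩
  have hAR : A * R = 1 := by
    rw [hR, ← Matrix.mul_assoc, ← hKdef, Matrix.mul_nonsing_inv K hdet]
  have hRA : R * A = 1 := (Matrix.mul_eq_one_comm_of_card_eq Ω (G ⧸ H) ℚ hcard).mp hAR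
  -- injectivity
  have hinj : ∀ f : Ω → ℚ, Inv H f → M H f * Aᵀ = 0 → f = 0 := by
    intro f hf h0
    have hM : M H f = 0 := by
      calc M H f = M H f * (R * A)ᵀ := by rw [hRA, Matrix.transpose_one, Matrix.mul_one]
        _ = (M H f * Aᵀ) * Rᵀ := by rw [Matrix.transpose_mul, Matrix.mul_assoc]
        _ = 0 := by rw [h0, Matrix.zero_mul]
    funext x
    rw [← M_one hf x, hM]
    rfl
  -- at most two orbits
  have hle : ¬ 2 < Fintype.card (MulAction.orbitRel.Quotient H Ω) := by
    intro h3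
    have h3' : Fintype.card (Fin 3) ≤ Fintype.card (MulAction.orbitRel.Quotient H Ω) := by
      rw [Fintype.card_fin]; exact h3
    obtain ⟨e⟩ := Function.Embedding.nonempty_of_card_le h3'
    obtain ⟨x, hx⟩ : ∃ x : Fin 3 → Ω, ∀ i, x i = (e i).out := ⟨_, fun _ => rfl⟩
    have hxo : ∀ i j, i ≠ j → x j ∉ MulAction.orbit H (x i) := by
      intro i j hij hmem
      apply hij
      apply e.injective
      rw [← Quotient.out_eq (e i), ← Quotient.out_eq (e j), ← hx, ← hx]
      apply Quotient.sound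
      exact MulAction.orbitRel_apply.mpr (by
        rw [← MulAction.orbit_eq_iff] at hmem ⊢
        exact hmem.symm)
    -- the vectors
    obtain ⟨v, hv⟩ : ∃ v : Fin 3 → ℚ × ℚ, ∀ i, v i =
        ((M H (ind H (x i)) * Aᵀ) x₀ x₀, (M H (ind H (x i)) * Aᵀ) x₀ y₀) := ⟨_, fun _ => rfl⟩
    have hKi : ∀ i a b, (M H (ind H (x i)) * Aᵀ) a b = if a = b then (v i).1 else (v i).2 := by
      intro i a b
      rw [hv i, hA]
      exact kernel_const h2 (ind_inv _) hb x₀ y₀ hxy a b
    have hnli : ¬ LinearIndependent ℚ v := by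
      intro hli
      have := hli.fintype_card_le_finrank
      rw [Fintype.card_fin, Module.finrank_prod, Module.finrank_self] at this
      omega
    obtain ⟨c, hc0, i₀, hi₀⟩ := Fintype.not_linearIndependent_iff.mp hnli
    obtain ⟨f, hf⟩ : ∃ f : Ω → ℚ, f = fun z => ∑ i, c i * ind H (x i) z := ⟨_, rfl⟩
    have hfinv : Inv H f := by
      intro h z
      rw [hf]
      simp only
      apply Finset.sum_congr rfl
      intro i _
      rw [ind_inv (x i) h z]
    have hMf : M H f = ∑ i, c i • M H (ind H (x i)) := by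
      ext a q
      rw [hf]
      simp only [M, Matrix.sum_apply, Matrix.smul_apply, smul_eq_mul]
    have hzero : M H f * Aᵀ = 0 := by
      rw [hMf, Matrix.sum_mul]
      ext a b
      simp only [Matrix.sum_apply, Matrix.smul_mul, Matrix.smul_apply, smul_eq_mul, hKi,
        Matrix.zero_apply]
      have h1 := congrArg Prod.fst hc0
      have h2' := congrArg Prod.snd hc0
      simp only [Prod.fst_sum, Prod.snd_sum, Prod.smul_fst, Prod.smul_snd, smul_eq_mul,
        Prod.fst_zero, Prod.snd_zero] at h1 h2'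
      split_ifs
      · exact h1
      · exact h2'
    have hf0 := hinj f hfinv hzero
    apply hi₀
    have := congrFun hf0 (x i₀)
    rw [hf] at this
    simp only [Pi.zero_apply] at this
    rw [Finset.sum_eq_single i₀] at this
    · rw [ind_self, mul_one] at this
      exact this
    · intro j _ hj
      rw [ind_of_not_mem (hxo j i₀ hj), mul_zero]
    · intro h; exact absurd (Finset.mem_univ _) h
  have hgt : 1 < Fintype.card (MulAction.orbitRel.Quotient H Ω) := by
    rw [Fintype.one_lt_card_iff_nontrivial]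
    exact not_subsingleton_iff_nontrivial.mp hns
  rw [Nat.card_eq_fintype_card]
  omega

end Cfsg.Agent.S3704
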