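import Cfsg.Statements.S3716
import Cfsg.Agent.Lib.Helper6.TdK
import Cfsg.Agent.Lib.Helper5.TdLoc
import Cfsg.Agent.Lib.Helper6.BlkVanish
import Cfsg.Agent.S0496

set_option autoImplicit false
open Cfsg

namespace Cfsg.Agent.S3716

/-- Let G be a finite group with an elementary abelian Sylow 3-subgroup M of order 9 which is self-centralizing (C_G(M) = M), let N = N_G(M), and suppose C_G(g) ≤ N for every nonidentity g ∈ M. If the Sylow 2-subgroups of N are dihedral of order 8, then G is not simple. -/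
theorem result {G : Type*} [Group G] [Finite G] (M : Sylow 3 G) (hM9 : Nat.card ↥(M : Subgroup G) = 9)
    (hMel : ∀ m ∈ (M : Subgroup G), m ^ 3 = 1)
    (hCM : Subgroup.centralizer ((M : Subgroup G) : Set G) = (M : Subgroup G))
    (N : Subgroup G) (hN : N = Subgroup.normalizer ((M : Subgroup G) : Set G))
    (hCg : ∀ g ∈ (M : Subgroup G), g ≠ 1 → Subgroup.centralizer ({g} : Set G) ≤ N)
    (hS : ∀ S : Sylow 2 ↥N, Nonempty (↥(S : Subgroup ↥N) ≃* DihedralGroup 4)) :
    ¬ IsSimpleGroup G := by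
  classical
  intro hsimple
  subst hN
  haveI : Fintype G := Fintype.ofFinite G
  haveI : Fintype (Cfsg.IrrCharacter G) := Fintype.ofFinite _
  haveI : Fact (Nat.Prime 3) := ⟨Nat.prime_three⟩
  obtain ⟨I, hI⟩ := Cfsg.Agent.Lib.Helper6.exists_isPModular 3
  obtain ⟨a, b, t₁, t₂, w, L⟩ := Cfsg.Agent.Lib.Helper5.TdLoc.exists_loc_d8 M hM9 hMel hCM hS
  have hcomm : ∀ x ∈ (M : Subgroup G), ∀ y ∈ (M : Subgroup G), x * y = y * x :=
    Cfsg.Agent.Lib.Helper7.Ix13B3.comm_of_card (M : Subgroup G) hM9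
  have hcases := Cfsg.Agent.Lib.Helper6.Td.card_cases hI hcomm hMel hCg hCM.le hM9 L
  have hle : Nat.card G ≤ 1092 := by
    rcases hcases with h | ⟨h, _⟩ <;> omega
  have hnc : ¬ IsMulCommutative G := by
    intro hc
    have htop : Subgroup.centralizer ((M : Subgroup G) : Set G) = ⊤ := by
      rw [eq_top_iff]
      intro g _
      rw [Subgroup.mem_centralizer_iff]
      intro m _
      exact hc.is_comm.comm m g
    rw [hCM] at htop
    have : Nat.card G = 9 := by
      rw [← hM9, htop, Subgroup.card_top]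
    rcases hcases with h | ⟨h, _⟩ <;> omega
  have := Cfsg.Agent.S0496.result hnc hle
  rcases hcases with h | ⟨h, _⟩ <;> omega


end Cfsg.Agent.S3716
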