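import Cfsg.Statements.S3733

set_option autoImplicit false
open Cfsg

namespace Cfsg.Agent.S3733

open scoped IsMulCommutative

/-- conjugation of an element of `V` by an element of `A`, when `A` normalizes `V`. -/
def cj {G : Type*} [Group G] (A V : Subgroup G)
    (hAV : A ≤ Subgroup.normalizer (V : Set G)) (a : A) (v : V) : V :=
  ⟨(a : G) * v * (a : G)⁻¹, (Subgroup.mem_normalizer_iff.1 (hAV a.2) v).1 v.2⟩

theorem cj_mul {G : Type*} [Group G] (A V : Subgroup G)
    (hAV : A ≤ Subgroup.normalizer (V : Set G)) (a b : A) (v : V) :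
    cj A V hAV (a * b) v = cj A V hAV a (cj A V hAV b v) := by
  apply Subtype.ext
  simp [cj, mul_assoc]

theorem cj_map_mul {G : Type*} [Group G] (A V : Subgroup G)
    (hAV : A ≤ Subgroup.normalizer (V : Set G)) (a : A) (v w : V) :
    cj A V hAV a (v * w) = cj A V hAV a v * cj A V hAV a w := by
  apply Subtype.ext
  simp [cj, mul_assoc]

theorem cj_one {G : Type*} [Group G] (A V : Subgroup G)
    (hAV : A ≤ Subgroup.normalizer (V : Set G)) (v : V) :
    cj A V hAV 1 v = v := by
  apply Subtype.ext
  simp [cj]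

/-- Let A and V be subgroups of a finite group with V abelian and nontrivial and A normalizing V. Suppose a nonempty finite family of proper subgroups of A partitions A: every non-identity element of A lies in exactly one member. If the number of members minus one is coprime to the order of V, then some member B of the family has a non-identity fixed point on V, that is V ∩ C(B) ≠ 1. -/
theorem result {G : Type*} [Group G] [Finite G] (A V : Subgroup G) (hVab : IsMulCommutative V) (hV : V ≠ ⊥) (hAV : A ≤ Subgroup.normalizer (V : Set G)) (𝒜 : Finset (Subgroup G)) (hne : 𝒜.Nonempty) (hprop : ∀ B ∈ 𝒜, B < A) (hpart : ∀ a ∈ A, a ≠ 1 → ∃! B, B ∈ 𝒜 ∧ a ∈ B) (hk : (𝒜.card - 1).Coprime (Nat.card V)) : ∃ B ∈ 𝒜, V ⊓ Subgroup.centralizer (B : Set G) ≠ ⊥ := by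
  classical
  by_contra hcon
  push Not at hcon
  letI : Fintype A := Fintype.ofFinite A
  -- the monoid hom version of cj
  let cjh : A → (V →* V) := fun a =>
    { toFun := cj A V hAV a
      map_one' := by apply Subtype.ext; simp [cj]
      map_mul' := cj_map_mul A V hAV a }
  have cjh_apply : ∀ a v, cjh a v = cj A V hAV a v := fun a v => rfl
  -- trace over a subgroup B ≤ A is fixed by B, hence trivial
  have htrace : ∀ B ∈ 𝒜, ∀ v : V,
      ∏ a : A, (if (a : G) ∈ B then cj A V hAV a v else 1) = 1 := by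
    intro B hB v
    set t : V := ∏ a : A, (if (a : G) ∈ B then cj A V hAV a v else 1) with ht
    have hfix : ∀ b : A, (b : G) ∈ B → cj A V hAV b t = t := by
      intro b hb
      rw [← cjh_apply, ht, map_prod]
      refine Fintype.prod_equiv (Equiv.mulLeft b) _ _ ?_
      intro a
      have e : (Equiv.mulLeft b) a = b * a := rfl
      rw [e]
      have : ((b * a : A) : G) ∈ B ↔ (a : G) ∈ B := by
        rw [Subgroup.coe_mul]
        exact B.mul_mem_cancel_left hb
      by_cases ha : (a : G) ∈ B
      · rw [if_pos ha, if_pos (this.2 ha), cjh_apply, cj_mul]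
      · rw [if_neg ha, if_neg (fun h => ha (this.1 h)), map_one]
    have hmem : (t : G) ∈ V ⊓ Subgroup.centralizer (B : Set G) := by
      refine Subgroup.mem_inf.2 ⟨t.2, ?_⟩
      rw [Subgroup.mem_centralizer_iff]
      intro b hb
      have hbA : b ∈ A := (hprop B hB).le hb
      have := hfix ⟨b, hbA⟩ hb
      have h2 := congrArg Subtype.val this
      simp only [cj] at h2
      exact mul_inv_eq_iff_eq_mul.1 h2
    rw [hcon B hB, Subgroup.mem_bot] at hmem
    exact Subtype.ext hmem
  -- trace over all of A is fixed by A, hence trivial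
  obtain ⟨B0, hB0⟩ := hne
  have htraceA : ∀ v : V, ∏ a : A, cj A V hAV a v = 1 := by
    intro v
    set t : V := ∏ a : A, cj A V hAV a v with ht
    have hfix : ∀ b : A, cj A V hAV b t = t := by
      intro b
      rw [← cjh_apply, ht, map_prod]
      refine Fintype.prod_equiv (Equiv.mulLeft b) _ _ ?_
      intro a
      have e : (Equiv.mulLeft b) a = b * a := rfl
      rw [e]
      rw [cjh_apply, cj_mul]
    have hmem : (t : G) ∈ V ⊓ Subgroup.centralizer (B0 : Set G) := by
      refine Subgroup.mem_inf.2 ⟨t.2, ?_⟩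
      rw [Subgroup.mem_centralizer_iff]
      intro b hb
      have hbA : b ∈ A := (hprop B0 hB0).le hb
      have := hfix ⟨b, hbA⟩
      have h2 := congrArg Subtype.val this
      simp only [cj] at h2
      exact mul_inv_eq_iff_eq_mul.1 h2
    rw [hcon B0 hB0, Subgroup.mem_bot] at hmem
    exact Subtype.ext hmem
  -- counting
  have hcount : ∀ a : A, a ≠ 1 → (𝒜.filter (fun B => (a : G) ∈ B)).card = 1 := by
    intro a ha
    have ha' : (a : G) ≠ 1 := fun h => ha (Subtype.ext h)
    obtain ⟨B, ⟨hB1, hB2⟩, huniq⟩ := hpart a a.2 ha'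
    rw [Finset.card_eq_one]
    refine ⟨B, ?_⟩
    ext C
    simp only [Finset.mem_filter, Finset.mem_singleton]
    constructor
    · intro h; exact huniq C h
    · rintro rfl; exact ⟨hB1, hB2⟩
  have hcount1 : (𝒜.filter (fun B => ((1 : A) : G) ∈ B)).card = 𝒜.card := by
    congr 1
    apply Finset.filter_true_of_mem
    intro B _
    simp
  have hpow : ∀ v : V, v ^ (𝒜.card - 1) = 1 := by
    intro v
    have h1 : ∏ B ∈ 𝒜, ∏ a : A, (if (a : G) ∈ B then cj A V hAV a v else 1) = 1 :=
      Finset.prod_eq_one (fun B hB => htrace B hB v)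
    rw [Finset.prod_comm] at h1
    have h2 : ∀ a : A, ∏ B ∈ 𝒜, (if (a : G) ∈ B then cj A V hAV a v else 1)
        = cj A V hAV a v * (if a = 1 then v ^ (𝒜.card - 1) else 1) := by
      intro a
      rw [Finset.prod_ite, Finset.prod_const_one, mul_one, Finset.prod_const]
      by_cases ha : a = 1
      · subst ha
        rw [hcount1, if_pos rfl, cj_one]
        have : 1 ≤ 𝒜.card := Finset.card_pos.2 ⟨B0, hB0⟩
        rw [← pow_succ', Nat.sub_add_cancel this]
      · rw [hcount a ha, if_neg ha, pow_one, mul_one]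
    rw [Finset.prod_congr rfl (fun a _ => h2 a), Finset.prod_mul_distrib, htraceA v, one_mul,
      Finset.prod_ite_eq' Finset.univ (1 : A)] at h1
    simpa using h1
  apply hV
  rw [Subgroup.eq_bot_iff_forall]
  intro x hx
  have h1 := hpow ⟨x, hx⟩
  have h2 : (⟨x, hx⟩ : V) ^ Nat.card V = 1 := pow_card_eq_one'
  have h3 : orderOf (⟨x, hx⟩ : V) ∣ Nat.gcd (𝒜.card - 1) (Nat.card V) :=
    Nat.dvd_gcd (orderOf_dvd_of_pow_eq_one h1) (orderOf_dvd_of_pow_eq_one h2)
  rw [Nat.Coprime] at hk
  rw [hk, Nat.dvd_one, orderOf_eq_one_iff] at h3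
  exact congrArg Subtype.val h3

end Cfsg.Agent.S3733
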