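import Cfsg.Statements.S3735
import Cfsg.Agent.Lib.Helper2.Semisimple
import Cfsg.Agent.S3800

set_option autoImplicit false
open Cfsg

namespace Cfsg.Agent.S3735
open Cfsg.Agent.Lib.Helper2 Cfsg.Agent.Lib.Helper1

/-- Clifford's Theorem for actions on finite abelian groups, first part. Let H and V be subgroups of a finite group with V abelian and H normalizing V, and let A be a normal subgroup of H. If every H-invariant subgroup of V has an H-invariant complement in V, then every A-invariant subgroup of V has an A-invariant complement in V. -/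
theorem result {G : Type*} [Group G] [Finite G] (H A V : Subgroup G) (hVab : IsMulCommutative V) (hHV : H ≤ Subgroup.normalizer (V : Set G)) (hAH : A ≤ H) (hAn : H ≤ Subgroup.normalizer (A : Set G)) (hss : ∀ U : Subgroup G, U ≤ V → H ≤ Subgroup.normalizer (U : Set G) → ∃ W : Subgroup G, W ≤ V ∧ H ≤ Subgroup.normalizer (W : Set G) ∧ U ⊓ W = ⊥ ∧ U ⊔ W = V) (U : Subgroup G) (hUV : U ≤ V) (hAU : A ≤ Subgroup.normalizer (U : Set G)) : ∃ W : Subgroup G, W ≤ V ∧ A ≤ Subgroup.normalizer (W : Set G) ∧ U ⊓ W = ⊥ ∧ U ⊔ W = V := by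
  have hVcomm : ∀ u ∈ V, ∀ v ∈ V, u * v = v * u := fun u hu v hv =>
    congrArg Subtype.val (hVab.is_comm.comm (⟨u, hu⟩ : V) ⟨v, hv⟩)
  -- minimal A-invariant subgroups of V
  set 𝓜 : Set (Subgroup G) := {M | M ≤ V ∧ M ≠ ⊥ ∧ A ≤ Subgroup.normalizer (M : Set G) ∧
    ∀ M' : Subgroup G, M' ≤ M → A ≤ Subgroup.normalizer (M' : Set G) → M' = ⊥ ∨ M' = M} with h𝓜
  set S : Subgroup G := sSup 𝓜 with hS
  have hSV : S ≤ V := sSup_le fun M hM => hM.1
  -- 𝓜 is permuted by H
  have hperm : ∀ h ∈ H, ∀ M ∈ 𝓜, M.map (MulAut.conj h).toMonoidHom ∈ 𝓜 := by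
    intro h hh M hM
    obtain ⟨hMV, hM1, hAM, hMmin⟩ := hM
    have hhA : h ∈ Subgroup.normalizer (A : Set G) := hAn hh
    refine ⟨?_, ?_, le_normalizer_map_conj hhA hAM, ?_⟩
    · rintro _ ⟨m, hm, rfl⟩
      exact (Subgroup.mem_normalizer_iff.1 (hHV hh) m).1 (hMV hm)
    · intro hbot
      apply hM1
      rw [eq_bot_iff]
      intro m hm
      have : (MulAut.conj h).toMonoidHom m ∈ M.map (MulAut.conj h).toMonoidHom := ⟨m, hm, rfl⟩
      rw [hbot, Subgroup.mem_bot] at this
      rw [Subgroup.mem_bot]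
      exact (MulAut.conj h).injective (this.trans (map_one _).symm)
    · intro M' hM'le hAM'
      -- pull back by conjugation with h⁻¹
      have hhA' : h⁻¹ ∈ Subgroup.normalizer (A : Set G) := Subgroup.inv_mem _ hhA
      have hback : (M'.map (MulAut.conj h⁻¹).toMonoidHom) ≤ M := by
        rintro _ ⟨y, hy, rfl⟩
        obtain ⟨m, hm, hmy⟩ := hM'le hy
        simp only [MulEquiv.coe_toMonoidHom, MulAut.conj_apply] at hmy ⊢
        rw [← hmy]
        have : h⁻¹ * (h * m * h⁻¹) * h⁻¹⁻¹ = m := by group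
        rw [this]; exact hm
      have hinv := le_normalizer_map_conj hhA' hAM'
      have hmap : ∀ N : Subgroup G, (N.map (MulAut.conj h⁻¹).toMonoidHom).map
          (MulAut.conj h).toMonoidHom = N := by
        intro N
        rw [Subgroup.map_map]
        have : (MulAut.conj h).toMonoidHom.comp (MulAut.conj h⁻¹).toMonoidHom =
            MonoidHom.id G := by
          ext x
          simp only [MonoidHom.coe_comp, MulEquiv.coe_toMonoidHom, Function.comp_apply,
            MulAut.conj_apply, MonoidHom.id_apply]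
          group
        rw [this, Subgroup.map_id]
      rcases hMmin _ hback hinv with h1 | h1
      · left
        rw [← hmap M', h1, Subgroup.map_bot]
      · right
        rw [← hmap M', h1]
  have hHS : H ≤ Subgroup.normalizer (S : Set G) := by
    intro h hh
    apply Cfsg.Agent.S3800.mem_normalizer_of_conj_le
    intro u hu
    have hmapS : S.map (MulAut.conj h).toMonoidHom ≤ S := by
      rw [Subgroup.map_le_iff_le_comap, hS]
      apply sSup_le
      intro M hM
      rw [← Subgroup.map_le_iff_le_comap]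
      exact le_sSup (hperm h hh M hM)
    exact hmapS ⟨u, hu, rfl⟩
  -- S = V
  obtain ⟨T, hTV, hHT, hST, hSTV⟩ := hss S hSV hHS
  have hTbot : T = ⊥ := by
    by_contra hT
    obtain ⟨M, hMT, hM1, hAM, hMmin⟩ := exists_minimal_invariant hT (hAH.trans hHT)
    have hM𝓜 : M ∈ 𝓜 := ⟨hMT.trans hTV, hM1, hAM, hMmin⟩
    have : M ≤ S ⊓ T := le_inf (le_sSup hM𝓜) hMT
    rw [hST] at this
    exact hM1 (le_bot_iff.1 this)
  have hSeqV : S = V := by rw [← hSTV, hTbot, sup_bot_eq]
  -- a maximal A-invariant W with U ⊓ W = ⊥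
  obtain ⟨W, -, hWmax⟩ := (Set.toFinite {W : Subgroup G | W ≤ V ∧
    A ≤ Subgroup.normalizer (W : Set G) ∧ U ⊓ W = ⊥}).exists_le_maximal
    (show (⊥ : Subgroup G) ∈ {W : Subgroup G | W ≤ V ∧
      A ≤ Subgroup.normalizer (W : Set G) ∧ U ⊓ W = ⊥} from
      ⟨bot_le, by
        intro a _
        apply Cfsg.Agent.S3800.mem_normalizer_of_conj_le
        intro u hu
        rw [Subgroup.mem_bot] at hu
        rw [hu, mul_one, mul_inv_cancel]
        exact Subgroup.one_mem _, inf_bot_eq _⟩)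
  obtain ⟨hWV, hAW, hUW⟩ := hWmax.prop
  refine ⟨W, hWV, hAW, hUW, ?_⟩
  apply le_antisymm (sup_le hUV hWV)
  rw [← hSeqV, hS]
  apply sSup_le
  intro M hM
  by_contra hMle
  obtain ⟨hMV, hM1, hAM, hMmin⟩ := hM
  have hAUW : A ≤ Subgroup.normalizer ((U ⊔ W : Subgroup G) : Set G) :=
    (le_inf hAU hAW).trans (Subgroup.normalizer_inf_normalizer_le_normalizer_sup U W)
  have hinf : M ⊓ (U ⊔ W) = ⊥ := by
    rcases hMmin (M ⊓ (U ⊔ W)) inf_le_left (le_normalizer_inf hAM hAUW) with h1 | h1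
    · exact h1
    · exact absurd (h1 ▸ inf_le_right) hMle
  have hW' : W ⊔ M ∈ {W : Subgroup G | W ≤ V ∧
      A ≤ Subgroup.normalizer (W : Set G) ∧ U ⊓ W = ⊥} := by
    refine ⟨sup_le hWV hMV,
      (le_inf hAW hAM).trans (Subgroup.normalizer_inf_normalizer_le_normalizer_sup W M), ?_⟩
    rw [eq_bot_iff]
    rintro x ⟨hxU, hxWM⟩
    obtain ⟨w, hw, m, hm, rfl⟩ := exists_mul_of_mem_sup_of_commute
      (fun w hw m hm => hVcomm w (hWV hw) m (hMV hm)) hxWM
    have hmem : m ∈ M ⊓ (U ⊔ W) := by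
      refine ⟨hm, ?_⟩
      have : m = w⁻¹ * (w * m) := by group
      rw [this]
      exact Subgroup.mul_mem _ ((le_sup_right : W ≤ U ⊔ W) (W.inv_mem hw))
        ((le_sup_left : U ≤ U ⊔ W) hxU)
    rw [hinf, Subgroup.mem_bot] at hmem
    rw [hmem, mul_one] at hxU ⊢
    have : w ∈ U ⊓ W := ⟨hxU, hw⟩
    rw [hUW] at this
    exact this
  have := hWmax.le_of_ge hW' le_sup_left
  exact hMle ((le_sup_right.trans this).trans le_sup_right)

end Cfsg.Agent.S3735
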