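import Cfsg.Statements.S3736
import Cfsg.Agent.Lib.Helper2.FrattiniSub
import Cfsg.Agent.Lib.Helper2.CoprimeQuot
import Cfsg.Agent.Lib.Helper2.PGroupNormal
import Cfsg.Agent.Lib.Helper1.Coprime
import Cfsg.Agent.Lib.Helper1.CoprimeAbelian

set_option autoImplicit false
open Cfsg

namespace Cfsg.Agent.S3736
open Cfsg.Agent.Lib.Helper2 Cfsg.Agent.Lib.Helper1
open scoped commutatorElement

/-- The Hall–Higman reduction for a minimal non-trivial action. Let B, A and P be subgroups of a finite group with P a p-group, B normalizing P, and A a normal subgroup of B of order prime to p. Suppose A does not centralize P but centralizes every proper B-invariant subgroup of P. Then [P, A] = P; P is elementary abelian or special; B acts irreducibly on P/Φ(P), that is, the only B-invariant subgroups of P containing Φ(P) are Φ(P) and P; and if p is odd then every element of P has order dividing p. -/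
theorem result {X : Type*} [Group X] [Finite X] {p : ℕ} [Fact p.Prime] (B A P : Subgroup X) (hP : IsPGroup p P) (hBP : B ≤ Subgroup.normalizer (P : Set X)) (hAB : A ≤ B) (hAn : B ≤ Subgroup.normalizer (A : Set X)) (hAp : (Nat.card A).Coprime p) (hnt : ⁅P, A⁆ ≠ ⊥) (hmin : ∀ U : Subgroup X, U < P → B ≤ Subgroup.normalizer (U : Set X) → ⁅U, A⁆ = ⊥) : ⁅P, A⁆ = P ∧ (Cfsg.IsElementaryAbelian p P ∨ Cfsg.IsSpecial p ↥P) ∧ (∀ U : Subgroup X, (frattini ↥P).map P.subtype ≤ U → U ≤ P → B ≤ Subgroup.normalizer (U : Set X) → U = (frattini ↥P).map P.subtype ∨ U = P) ∧ (p ≠ 2 → ∀ x ∈ P, x ^ p = 1) := by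
  have hAP : A ≤ Subgroup.normalizer (P : Set X) := hAB.trans hBP
  have hcop : (Nat.card A).Coprime (Nat.card P) := by
    obtain ⟨k, hk⟩ := IsPGroup.iff_card.1 hP
    rw [hk]; exact Nat.Coprime.pow_right k hAp
  have hsolv : Group.IsSolvable A ∨ Group.IsSolvable P := Or.inr (by
    haveI := hP.isNilpotent; infer_instance)
  have hPAle : ⁅P, A⁆ ≤ P := Subgroup.le_normalizer_iff_commutator_le_left.mp hAP
  -- Step 1: [P, A] = P
  have hPA : ⁅P, A⁆ = P := by
    by_contra hne
    have hlt : ⁅P, A⁆ < P := lt_of_le_of_ne hPAle hne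
    have hB : B ≤ Subgroup.normalizer ((⁅P, A⁆ : Subgroup X) : Set X) :=
      le_normalizer_commutator hBP hAn
    have := hmin _ hlt hB
    rw [coprime_commutator_commutator A P hAP hcop hsolv] at this
    exact hnt this
  have hPne : P ≠ ⊥ := by
    intro h
    apply hnt
    rw [eq_bot_iff]
    exact hPAle.trans (le_of_eq h)
  set Φ : Subgroup X := (frattini ↥P).map P.subtype with hΦ
  have hΦP : Φ ≤ P := Subgroup.map_subtype_le _
  have hΦlt : Φ < P := map_frattini_lt hPne
  have hNΦ : Subgroup.normalizer (P : Set X) ≤ Subgroup.normalizer (Φ : Set X) :=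
    le_normalizer_map_frattini P
  have hBΦ : B ≤ Subgroup.normalizer (Φ : Set X) := hBP.trans hNΦ
  have hDΦ : ⁅P, P⁆ ≤ Φ := commutator_le_map_frattini hP
  have hΦA : ⁅Φ, A⁆ = ⊥ := hmin Φ hΦlt hBΦ
  -- Step 2: subgroups centralized by A lie in Φ
  have hCΦ : ∀ U : Subgroup X, U ≤ P → ⁅U, A⁆ = ⊥ → U ≤ Φ := by
    intro U hUP hUA u hu
    refine coprime_abelian_quotient_inf A P Φ (Subgroup.le_normalizer.trans hNΦ)
      (hAP.trans hNΦ) hAP hDΦ hcop u (hUP hu) ?_ ?_
    · rw [hPA]
      exact (le_sup_left : P ≤ P ⊔ Φ) (hUP hu)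
    · intro a ha
      have : ⁅u, a⁆ ∈ ⁅U, A⁆ := Subgroup.commutator_mem_commutator hu ha
      rw [hUA, Subgroup.mem_bot] at this
      rw [this]
      exact Φ.one_mem
  -- Step 3: irreducibility
  have hirr : ∀ U : Subgroup X, Φ ≤ U → U ≤ P → B ≤ Subgroup.normalizer (U : Set X) →
      U = Φ ∨ U = P := by
    intro U hΦU hUP hBU
    by_cases hUeq : U = P
    · exact Or.inr hUeq
    · left
      have hlt : U < P := lt_of_le_of_ne hUP hUeq
      exact le_antisymm (hCΦ U hUP (hmin U hlt hBU)) hΦU
  -- the abelian case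
  have hab_case : IsMulCommutative P → ∀ x ∈ P, x ^ p = 1 := by
    intro hPc
    have hcomm : ∀ x ∈ P, ∀ y ∈ P, x * y = y * x := fun x hx y hy =>
      congrArg Subtype.val (hPc.is_comm.comm (⟨x, hx⟩ : P) ⟨y, hy⟩)
    have hmul : ∀ x ∈ P, ∀ y ∈ P, (x * y) ^ p = x ^ p * y ^ p := fun x hx y hy =>
      (show Commute x y from hcomm x hx y hy).mul_pow p
    set Ω := powKer P p hmul with hΩ
    have hΩP : Ω ≤ P := powKer_le
    by_cases hΩeq : Ω = P
    · intro x hx
      have : x ∈ Ω := hΩeq ▸ hx
      exact this.2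
    · exfalso
      have hlt : Ω < P := lt_of_le_of_ne hΩP hΩeq
      have hΩA := hmin Ω hlt (hBP.trans le_normalizer_powKer)
      have hAC : A ≤ Subgroup.centralizer (P : Set X) := by
        apply coprime_abelian_trivial_of_fix_prime_order A P hAP hcop
        intro v hv hvprime a ha
        have hvΩ : v ∈ Ω := by
          refine ⟨hv, ?_⟩
          obtain ⟨k, hk⟩ := IsPGroup.iff_orderOf.1 hP ⟨v, hv⟩
          rw [Subgroup.orderOf_mk] at hk
          have hpk : p ∣ orderOf v := by
            rcases Nat.eq_zero_or_pos k with h0 | h0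
            · rw [h0, pow_zero] at hk
              rw [hk] at hvprime
              exact absurd hvprime Nat.not_prime_one
            · rw [hk]; exact dvd_pow_self p (by omega)
          have := (Nat.prime_dvd_prime_iff_eq Fact.out hvprime).1 hpk
          rw [this]
          exact pow_orderOf_eq_one v
        have h1 : ⁅v, a⁆ ∈ ⁅Ω, A⁆ := Subgroup.commutator_mem_commutator hvΩ ha
        rw [hΩA, Subgroup.mem_bot, commutatorElement_eq_one_iff_mul_comm] at h1
        exact h1.symm
      apply hnt
      rw [Subgroup.commutator_comm, Subgroup.commutator_eq_bot_iff_le_centralizer]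
      exact hAC
  -- the nonabelian case
  have hnonab : ¬ IsMulCommutative P → Φ = (Subgroup.center ↥P).map P.subtype ∧
      ⁅P, P⁆ = (Subgroup.center ↥P).map P.subtype := by
    intro hnc
    set Z : Subgroup X := (Subgroup.center ↥P).map P.subtype with hZ
    have hZP : Z ≤ P := Subgroup.map_subtype_le _
    have hZne : Z ≠ P := by
      intro h
      apply hnc
      refine ⟨⟨fun a b => ?_⟩⟩
      have hb : (b : X) ∈ Z := by rw [h]; exact b.2
      have := (mem_map_subtype_center.1 hb).2 a a.2
      exact Subtype.ext this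
    have hZA : ⁅Z, A⁆ = ⊥ := hmin Z (lt_of_le_of_ne hZP hZne)
      (hBP.trans (le_normalizer_map_center P))
    have hZΦ : Z ≤ Φ := hCΦ Z hZP hZA
    have hΦZ : Φ ≤ Z := by
      have h1 : ⁅⁅A, Φ⁆, P⁆ = ⊥ := by
        rw [Subgroup.commutator_comm A Φ, hΦA, Subgroup.commutator_bot_left]
      have h2 : ⁅⁅Φ, P⁆, A⁆ = ⊥ := by
        rw [eq_bot_iff, ← hΦA]
        apply Subgroup.commutator_mono _ le_rfl
        exact Subgroup.le_normalizer_iff_commutator_le_left.mp (Subgroup.le_normalizer.trans hNΦ)
      have h3 := Subgroup.commutator_commutator_eq_bot_of_rotate h1 h2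
      rw [hPA, Subgroup.commutator_comm, Subgroup.commutator_eq_bot_iff_le_centralizer] at h3
      intro x hx
      rw [mem_map_subtype_center]
      refine ⟨hΦP hx, fun y hy => ?_⟩
      exact (Subgroup.mem_centralizer_iff.1 (h3 hx) y hy)
    have hΦD : Φ ≤ ⁅P, P⁆ := by
      intro x hx
      have hND : Subgroup.normalizer (P : Set X) ≤
          Subgroup.normalizer ((⁅P, P⁆ : Subgroup X) : Set X) :=
        le_normalizer_commutator le_rfl le_rfl
      refine coprime_abelian_quotient_inf A P ⁅P, P⁆ (Subgroup.le_normalizer.trans hND)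
        (hAP.trans hND) hAP le_rfl hcop x (hΦP hx) ?_ ?_
      · rw [hPA]
        exact (le_sup_left : P ≤ P ⊔ ⁅P, P⁆) (hΦP hx)
      · intro a ha
        have : ⁅x, a⁆ ∈ ⁅Φ, A⁆ := Subgroup.commutator_mem_commutator hx ha
        rw [hΦA, Subgroup.mem_bot] at this
        rw [this]
        exact Subgroup.one_mem _
    exact ⟨le_antisymm hΦZ hZΦ, le_antisymm (hDΦ.trans hΦZ) (hZΦ.trans hΦD)⟩
  refine ⟨hPA, ?_, hirr, ?_⟩
  · by_cases hPc : IsMulCommutative P
    · exact Or.inl ⟨hPc, hab_case hPc⟩
    · right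
      obtain ⟨h1, h2⟩ := hnonab hPc
      refine ⟨hP, ?_, ?_⟩
      · exact Subgroup.map_injective P.subtype_injective h1
      · apply Subgroup.map_injective P.subtype_injective
        rw [map_subtype_commutator]
        exact h2
  · intro hp2
    by_cases hPc : IsMulCommutative P
    · exact hab_case hPc
    · obtain ⟨h1, h2⟩ := hnonab hPc
      -- central elements
      have hcent : ∀ z ∈ Φ, ∀ y ∈ P, Commute z y := by
        intro z hz y hy
        rw [h1] at hz
        exact ((mem_map_subtype_center.1 hz).2 y hy).symm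
      -- commutators have order dividing p
      have hcp : ∀ x ∈ P, ∀ y ∈ P, ⁅x, y⁆ ^ p = 1 := by
        intro x hx y hy
        have hc : ⁅x, y⁆ ∈ Φ := hDΦ (Subgroup.commutator_mem_commutator hx hy)
        rw [← commutatorElement_pow_left (hcent _ hc x hx)]
        have hxp : x ^ p ∈ Φ := pow_mem_map_frattini hP hx
        rw [commutatorElement_eq_one_iff_mul_comm]
        exact (hcent _ hxp y hy).eq
      have hmul : ∀ x ∈ P, ∀ y ∈ P, (x * y) ^ p = x ^ p * y ^ p := by
        intro x hx y hy
        have hc : ⁅y, x⁆ ∈ Φ := hDΦ (Subgroup.commutator_mem_commutator hy hx)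
        apply mul_pow_prime_of_central_commutator (Fact.out : p.Prime) hp2 (c := ⁅y, x⁆)
        · rw [commutatorElement_def]; group
        · exact hcent _ hc x hx
        · exact hcent _ hc y hy
        · exact hcp y hy x hx
      set Ω := powKer P p hmul with hΩ
      have hΩP : Ω ≤ P := powKer_le
      have hΦΩ : Φ ≤ Ω := by
        rw [h1, ← h2, Subgroup.commutator_le]
        intro x hx y hy
        exact ⟨(Subgroup.commutator_le_self P) (Subgroup.commutator_mem_commutator hx hy),
          hcp x hx y hy⟩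
      rcases hirr Ω hΦΩ hΩP (hBP.trans le_normalizer_powKer) with hΩeq | hΩeq
      · exfalso
        have : ⁅P, A⁆ ≤ Ω := by
          rw [Subgroup.commutator_le]
          intro x hx a ha
          refine ⟨hPAle (Subgroup.commutator_mem_commutator hx ha), ?_⟩
          have hy : a * x⁻¹ * a⁻¹ ∈ P :=
            (Subgroup.mem_normalizer_iff.1 (hAP ha) _).1 (P.inv_mem hx)
          have he : ⁅x, a⁆ = x * (a * x⁻¹ * a⁻¹) := by
            rw [commutatorElement_def]; group
          rw [he, hmul x hx _ hy, conj_pow, inv_pow]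
          have hxp : x ^ p ∈ Φ := pow_mem_map_frattini hP hx
          have h3 : ⁅(x ^ p)⁻¹, a⁆ ∈ ⁅Φ, A⁆ :=
            Subgroup.commutator_mem_commutator (Φ.inv_mem hxp) ha
          rw [hΦA, Subgroup.mem_bot, commutatorElement_eq_one_iff_mul_comm] at h3
          rw [← h3, mul_inv_cancel_right, mul_inv_cancel]
        rw [hPA, hΩeq] at this
        exact absurd (le_antisymm hΦP this) (ne_of_lt hΦlt)
      · intro x hx
        have : x ∈ Ω := hΩeq ▸ hx
        exact this.2

end Cfsg.Agent.S3736
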