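import Cfsg.Statements.S3737
import Cfsg.Agent.S3736
import Cfsg.Agent.Lib.Helper2.ThompsonOdd
import Cfsg.Agent.Lib.Helper3.PGroupFix

set_option autoImplicit false
open Cfsg

namespace Cfsg.Agent.S3737
open Cfsg.Agent.Lib.Helper2 Cfsg.Agent.Lib.Helper1 Cfsg.Agent.Lib.Helper3
open scoped commutatorElement

/-- Thompson's strengthening of the P × Q lemma for odd primes. Let p be an odd prime and let P, Q and G be subgroups of a finite group with P a p-group, Q of order prime to p and normalized by P, and G a p-group normalized by both P and Q. If every element of G centralized by P is centralized by Q, then Q centralizes G. -/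
theorem result {X : Type*} [Group X] [Finite X] {p : ℕ} [Fact p.Prime] (hp : p ≠ 2) (P Q G : Subgroup X) (hP : IsPGroup p P) (hQ : (Nat.card Q).Coprime p) (hPQ : P ≤ Subgroup.normalizer (Q : Set X)) (hG : IsPGroup p G) (hPG : P ≤ Subgroup.normalizer (G : Set X)) (hQG : Q ≤ Subgroup.normalizer (G : Set X)) (hC : G ⊓ Subgroup.centralizer (P : Set X) ≤ Subgroup.centralizer (Q : Set X)) : Q ≤ Subgroup.centralizer (G : Set X) := by
  suffices h : ∀ n : ℕ, ∀ G : Subgroup X, Nat.card G = n → IsPGroup p G →
      P ≤ Subgroup.normalizer (G : Set X) → Q ≤ Subgroup.normalizer (G : Set X) →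
      G ⊓ Subgroup.centralizer (P : Set X) ≤ Subgroup.centralizer (Q : Set X) → ⁅G, Q⁆ = ⊥ by
    have := h _ G rfl hG hPG hQG hC
    rw [Subgroup.commutator_comm] at this
    exact Subgroup.commutator_eq_bot_iff_le_centralizer.mp this
  intro n
  induction n using Nat.strong_induction_on with
  | _ n ih =>
    intro G hcard hG hPG hQG hC
    by_contra hnt
    set B := P ⊔ Q with hB
    have hBG : B ≤ Subgroup.normalizer (G : Set X) := sup_le hPG hQG
    have hQB : Q ≤ B := le_sup_right
    have hBQ : B ≤ Subgroup.normalizer (Q : Set X) := sup_le hPQ Subgroup.le_normalizer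
    have hmin : ∀ U : Subgroup X, U < G → B ≤ Subgroup.normalizer (U : Set X) → ⁅U, Q⁆ = ⊥ := by
      intro U hU hBU
      have hlt : Nat.card U < n := by
        rw [← hcard]
        have hle : Nat.card U ≤ Nat.card G := Subgroup.card_le_of_le hU.le
        rcases hle.lt_or_eq with h1 | h1
        · exact h1
        · exact absurd (Subgroup.eq_of_le_of_card_ge hU.le h1.ge) hU.ne
      exact ih (Nat.card U) hlt U rfl (hG.to_le hU.le) (le_sup_left.trans hBU)
        (le_sup_right.trans hBU) ((inf_le_inf_right _ hU.le).trans hC)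
    obtain ⟨hGQ, hstruct, hirr, -⟩ := Cfsg.Agent.S3736.result B Q G hG hBG hQB hBQ hQ hnt hmin
    have hGne : G ≠ ⊥ := by
      intro h
      apply hnt
      rw [h, eq_bot_iff]
      exact Subgroup.commutator_le_left ⊥ Q
    rcases hstruct with hab | hsp
    · -- abelian case
      haveI : IsMulCommutative G := hab.1
      have hcopG : (Nat.card Q).Coprime (Nat.card G) := by
        obtain ⟨k, hk⟩ := IsPGroup.iff_card.1 hG
        rw [hk]; exact Nat.Coprime.pow_right k hQ
      have h1 := coprime_abelian_centralizer_inf_commutator Q G hQG hcopG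
      rw [hGQ] at h1
      have h2 : G ⊓ Subgroup.centralizer (P : Set X) ≠ ⊥ :=
        inf_centralizer_ne_bot_of_isPGroup p hG hP hPG hGne
      apply h2
      rw [eq_bot_iff, ← h1]
      exact le_inf (le_inf inf_le_left hC) inf_le_left
    · -- special case
      obtain ⟨-, hΦZ, hDZ⟩ := hsp
      set Z : Subgroup X := (Subgroup.center ↥G).map G.subtype with hZ
      have hΦ : (frattini ↥G).map G.subtype = Z := by rw [hΦZ]
      have hD : ⁅G, G⁆ = Z := by rw [← map_subtype_commutator, hDZ]
      have hZlt : Z < G := hΦ ▸ map_frattini_lt hGne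
      have hBZ : B ≤ Subgroup.normalizer (Z : Set X) := hBG.trans (le_normalizer_map_center G)
      have hZQ' : ⁅Z, Q⁆ = ⊥ := hmin Z hZlt hBZ
      have hBC : B ≤ Subgroup.normalizer
          ((G ⊓ Subgroup.centralizer (Q : Set X) : Subgroup X) : Set X) :=
        le_normalizer_inf hBG (le_normalizer_centralizer_of_le_normalizer hBQ)
      have hCZ : G ⊓ Subgroup.centralizer (Q : Set X) ≤ Z := by
        have hBsup : B ≤ Subgroup.normalizer
            ((G ⊓ Subgroup.centralizer (Q : Set X) ⊔ Z : Subgroup X) : Set X) :=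
          (le_inf hBC hBZ).trans (Subgroup.normalizer_inf_normalizer_le_normalizer_sup _ _)
        rcases hirr (G ⊓ Subgroup.centralizer (Q : Set X) ⊔ Z) (hΦ ▸ le_sup_right)
          (sup_le inf_le_left hZlt.le) hBsup with h | h
        · rw [hΦ] at h
          exact le_sup_left.trans h.le
        · exfalso
          rw [← hΦ] at h
          have h3 := map_frattini_nongenerating inf_le_left h
          apply hnt
          rw [Subgroup.commutator_eq_bot_iff_le_centralizer]
          exact (inf_eq_left.1 h3)
      have hZC : Z ≤ G ⊓ Subgroup.centralizer (Q : Set X) :=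
        le_inf hZlt.le (Subgroup.commutator_eq_bot_iff_le_centralizer.1 hZQ')
      have hZeq : G ⊓ Subgroup.centralizer (Q : Set X) = Z := le_antisymm hCZ hZC
      have hZcG : Z ≤ Subgroup.centralizer (G : Set X) := by
        rw [hZ, map_subtype_center_eq]
        exact inf_le_right
      obtain ⟨t, htG, htP, htZ⟩ := exists_fixed_not_mem_of_class_two hp P Q G Z hP hQ hG hPQ hPG
        hQG hZlt.le hZcG hD.le hZeq hZlt.ne
      apply htZ
      rw [← hZeq]
      exact ⟨htG, hC ⟨htG, htP⟩⟩

end Cfsg.Agent.S3737
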