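import Mathlib
import Cfsg.Statements.S3739
import Cfsg.Agent.Lib.Lead.Rank3

set_option autoImplicit false

open Cfsg

namespace Cfsg.Agent.S3739

theorem result {G : Type*} [Group G] [Finite G] (hchar : Subgroup.centralizer (Cfsg.pCore 2 G : Set G) ≤ Cfsg.pCore 2 G) (hsix : ∃ g : G, orderOf g = 6) (d : G) (hd1 : d ≠ 1) (hd : IsPGroup 3 ↥(Subgroup.zpowers d)) (W : Subgroup G) (hW : Cfsg.IsElementaryAbelian 2 W) (hW1 : W ≠ ⊥) (hdW : d ∈ Subgroup.normalizer (W : Set G)) (hfpf : W ⊓ Subgroup.centralizer {d} = ⊥) : ∃ E : Subgroup G, Cfsg.IsElementaryAbelian 2 E ∧ Nat.card E = 8 := by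
  exact Cfsg.Agent.Lib.Lead.Rank3.main hchar hsix d hd1 hd W hW hW1 hdW hfpf

end Cfsg.Agent.S3739
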