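import Cfsg.Statements.S3740
import Cfsg.Agent.Lib.Helper2.SL2Q8R

set_option autoImplicit false
open Cfsg

namespace Cfsg.Agent.S3740

/-- Let F be a finite field of odd characteristic p and let a be a p-element of SL₂(F) normalizing a subgroup R of order prime to p with [R, a] ≠ 1. Then p = 3, R is a quaternion group of order 8, and R⟨a⟩ is isomorphic to SL₂(3). -/
theorem result (F : Type) [Field F] [Fintype F] {p : ℕ} [Fact p.Prime] [CharP F p] (hp : p ≠ 2) (a : Matrix.SpecialLinearGroup (Fin 2) F) (ha : IsPGroup p ↥(Subgroup.zpowers a)) (R : Subgroup (Matrix.SpecialLinearGroup (Fin 2) F)) (hR : (Nat.card R).Coprime p) (haR : a ∈ Subgroup.normalizer (R : Set (Matrix.SpecialLinearGroup (Fin 2) F))) (hnt : ⁅R, Subgroup.zpowers a⁆ ≠ ⊥) : p = 3 ∧ Nonempty (↥R ≃* QuaternionGroup 2) ∧ Nonempty (↥(R ⊔ Subgroup.zpowers a) ≃* Matrix.SpecialLinearGroup (Fin 2) (ZMod 3)) := by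
  have hap : a ^ p = 1 := by
    obtain ⟨k, hk⟩ := ha ⟨a, Subgroup.mem_zpowers a⟩
    have hk' : a ^ (p ^ k) = 1 := by
      have h := congrArg Subtype.val hk
      rw [Subgroup.coe_pow] at h
      exact h
    exact Cfsg.Agent.Lib.Helper2.SL2Q8R.pow_char_eq_one_of_pow_char_pow a k hk'
  have hnc : ¬ ∀ q ∈ R, a * q = q * a := by
    intro hcon
    apply hnt
    rw [Subgroup.commutator_eq_bot_iff_le_centralizer]
    intro g hg
    rw [Subgroup.mem_centralizer_iff]
    intro z hz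
    obtain ⟨k, rfl⟩ := Subgroup.mem_zpowers_iff.mp hz
    have hc : Commute a g := hcon g hg
    exact (hc.zpow_left k).eq
  have hp3 : p = 3 :=
    Cfsg.Agent.Lib.Helper1.SL2Three.eq_three_of_coprime_action hp R hR a hap haR hnc
  subst hp3
  obtain ⟨h1, h2⟩ := Cfsg.Agent.Lib.Helper2.SL2Q8R.main R hR a hap haR hnc
  exact ⟨rfl, h1, h2⟩

end Cfsg.Agent.S3740
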