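import Cfsg.Statements.S3741

set_option autoImplicit false
open Cfsg

namespace Cfsg.Agent.S3741

/-- A subgroup of prime order normalized by a `p`-subgroup is centralized by it. -/
theorem central_of_card_prime {G : Type*} [Group G] [Finite G] {p : ℕ} [Fact p.Prime]
    (hG : IsPGroup p G) (Z K : Subgroup G) (hZ : Nat.card Z = p)
    (hK : K ≤ Subgroup.normalizer (Z : Set G)) :
    ∀ k ∈ K, ∀ z ∈ Z, k * z = z * k := by
  let act : MulAction K Z :=
    { smul := fun k z => ⟨(k : G) * z * (k : G)⁻¹,
        (Subgroup.mem_normalizer_iff.1 (hK k.2) z).1 z.2⟩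
      one_smul := fun z => by apply Subtype.ext; simp [HSMul.hSMul]
      mul_smul := fun k l z => by apply Subtype.ext; simp [HSMul.hSMul, mul_assoc] }
  have hsmul : ∀ (k : K) (z : Z), ((k • z : Z) : G) = (k : G) * z * (k : G)⁻¹ := fun _ _ => rfl
  have hKp : IsPGroup p K := hG.to_subgroup K
  have h1 : (1 : Z) ∈ MulAction.fixedPoints K Z := by
    intro k
    apply Subtype.ext
    rw [hsmul]
    simp
  obtain ⟨b, hb, hb1⟩ := hKp.exists_fixed_point_of_prime_dvd_card_of_fixed_point Z
    (by rw [hZ]) h1
  intro k hk z hz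
  have hzb : (⟨z, hz⟩ : Z) ∈ Subgroup.zpowers b := mem_zpowers_of_prime_card hZ (Ne.symm hb1)
  obtain ⟨n, hn⟩ := Subgroup.mem_zpowers_iff.1 hzb
  have hbk : (k : G) * b * (k : G)⁻¹ = b := by
    have := hb ⟨k, hk⟩
    have h2 := congrArg Subtype.val this
    rw [hsmul] at h2
    exact h2
  have hbk' : k * (b : G) = b * k := mul_inv_eq_iff_eq_mul.1 hbk
  have hzn : z = (b : G) ^ n := by
    have := congrArg Subtype.val hn
    simpa using this.symm
  rw [hzn]
  exact (Commute.zpow_right hbk' n).eq

open Classical in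
/-- the key count -/
theorem key {G : Type*} [Group G] [Finite G] {p : ℕ} [Fact p.Prime]
    (A B Z : Subgroup G) (hZ : Nat.card Z = p)
    (hcomm : ∀ a ∈ A, ∀ b ∈ B, a * b * a⁻¹ * b⁻¹ ∈ Z)
    (hcent : ∀ b ∈ B, ∀ z ∈ Z, b * z = z * b) (a : G) (ha : a ∈ A) :
    p * Nat.card {b : B // a * b = b * a} =
      if a ∈ Subgroup.centralizer (B : Set G) then p * Nat.card B else Nat.card B := by
  let φ : B →* Z :=
    { toFun := fun b => ⟨a * b * a⁻¹ * (b : G)⁻¹, hcomm a ha b b.2⟩
      map_one' := by apply Subtype.ext; simp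
      map_mul' := by
        intro b c
        apply Subtype.ext
        have h := hcent b b.2 _ (hcomm a ha c c.2)
        simp only [Subgroup.coe_mul, mul_inv_rev]
        calc a * ((b : G) * c) * a⁻¹ * ((c : G)⁻¹ * (b : G)⁻¹)
            = a * b * a⁻¹ * ((a * c * a⁻¹ * (c : G)⁻¹) * (b : G)⁻¹) := by group
          _ = a * b * a⁻¹ * ((b : G)⁻¹ * ((b : G) * (a * c * a⁻¹ * (c : G)⁻¹)) * (b : G)⁻¹) := by group
          _ = a * b * a⁻¹ * ((b : G)⁻¹ * ((a * c * a⁻¹ * (c : G)⁻¹) * b) * (b : G)⁻¹) := by rw [h]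
          _ = a * b * a⁻¹ * (b : G)⁻¹ * (a * c * a⁻¹ * (c : G)⁻¹) := by group }
  have hker : ∀ b : B, b ∈ φ.ker ↔ a * b = b * a := by
    intro b
    rw [MonoidHom.mem_ker]
    constructor
    · intro h
      have h2 := congrArg Subtype.val h
      simp only [φ, MonoidHom.coe_mk, OneHom.coe_mk, Subgroup.coe_one] at h2
      have : a * b * a⁻¹ = b := by
        rw [← mul_inv_eq_one]; exact h2
      exact mul_inv_eq_iff_eq_mul.1 this
    · intro h
      apply Subtype.ext
      simp only [φ, MonoidHom.coe_mk, OneHom.coe_mk, Subgroup.coe_one]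
      rw [h]; group
  have hcardker : Nat.card {b : B // a * b = b * a} = Nat.card φ.ker := by
    apply Nat.card_congr
    exact Equiv.subtypeEquivRight (fun b => (hker b).symm)
  have hmul : Nat.card φ.ker * Nat.card φ.range = Nat.card B := by
    rw [← Subgroup.index_ker]
    exact Subgroup.card_mul_index _
  haveI : Fact (Nat.card Z).Prime := ⟨by rw [hZ]; exact Fact.out⟩
  rcases φ.range.eq_bot_or_eq_top_of_prime_card with h | h
  · -- a centralizes B
    have hc : a ∈ Subgroup.centralizer (B : Set G) := by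
      rw [Subgroup.mem_centralizer_iff]
      intro b hb
      have : (⟨b, hb⟩ : B) ∈ φ.ker := by
        rw [MonoidHom.mem_ker]
        have : φ ⟨b, hb⟩ ∈ φ.range := ⟨_, rfl⟩
        rw [h, Subgroup.mem_bot] at this
        exact this
      exact ((hker _).1 this).symm
    rw [if_pos hc, hcardker, ← hmul, h]
    simp
  · have hc : a ∉ Subgroup.centralizer (B : Set G) := by
      intro hc
      rw [Subgroup.mem_centralizer_iff] at hc
      have : φ.range = ⊥ := by
        rw [eq_bot_iff]
        rintro _ ⟨b, rfl⟩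
        rw [Subgroup.mem_bot, ← MonoidHom.mem_ker, hker]
        exact (hc b b.2).symm
      rw [this] at h
      have h3 : Nat.card (⊥ : Subgroup Z) = Nat.card (⊤ : Subgroup Z) := by rw [h]
      rw [Subgroup.card_bot, Subgroup.card_top, hZ] at h3
      exact (Fact.out : p.Prime).one_lt.ne h3
    rw [if_neg hc, hcardker, ← hmul, h, Subgroup.card_top, hZ, mul_comm]

open Classical in
/-- summing the key count -/
theorem keysum {G : Type*} [Group G] [Finite G] {p : ℕ} [Fact p.Prime]
    (A B Z : Subgroup G) (hZ : Nat.card Z = p)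
    (hcomm : ∀ a ∈ A, ∀ b ∈ B, a * b * a⁻¹ * b⁻¹ ∈ Z)
    (hcent : ∀ b ∈ B, ∀ z ∈ Z, b * z = z * b) [Fintype A] [Fintype B] :
    p * ∑ a : A, ∑ b : B, (if (a : G) * b = b * a then 1 else 0) =
      Nat.card A * Nat.card B +
        Nat.card ((Subgroup.centralizer (B : Set G)).subgroupOf A) * ((p - 1) * Nat.card B) := by
  have h1 : ∀ a : A, p * ∑ b : B, (if (a : G) * b = b * a then 1 else 0) =
      Nat.card B + (if a ∈ (Subgroup.centralizer (B : Set G)).subgroupOf A
        then (p - 1) * Nat.card B else 0) := by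
    intro a
    have hk := key A B Z hZ hcomm hcent a a.2
    have hcard : Nat.card {b : B // (a : G) * b = b * a}
        = ∑ b : B, (if (a : G) * b = b * a then 1 else 0) := by
      rw [Nat.card_eq_fintype_card, Fintype.card_subtype, Finset.card_filter]
    rw [← hcard, hk]
    have hp1 : p = (p - 1) + 1 := (Nat.sub_add_cancel (Fact.out : p.Prime).one_le).symm
    by_cases hc : (a : G) ∈ Subgroup.centralizer (B : Set G)
    · rw [if_pos hc, if_pos (Subgroup.mem_subgroupOf.2 hc)]
      conv_lhs => rw [hp1]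
      ring
    · rw [if_neg hc, if_neg (fun h => hc (Subgroup.mem_subgroupOf.1 h))]
      simp
  rw [Finset.mul_sum, Finset.sum_congr rfl (fun a _ => h1 a), Finset.sum_add_distrib,
    Finset.sum_const, Finset.card_univ, ← Nat.card_eq_fintype_card, smul_eq_mul,
    ← Finset.sum_filter, Finset.sum_const, smul_eq_mul]
  congr 2
  rw [Nat.card_eq_fintype_card, Fintype.card_subtype]

/-- Let A and B be subgroups of a finite p-group with [A, B] ≤ A ∩ B and [A, B] of order at most p. Then |A : C_A(B)| = |B : C_B(A)|. -/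
theorem result {G : Type*} [Group G] [Finite G] {p : ℕ} [Fact p.Prime] (hG : IsPGroup p G) (A B : Subgroup G) (hAB : ⁅A, B⁆ ≤ A ⊓ B) (hcard : Nat.card ↥⁅A, B⁆ ≤ p) : (A ⊓ Subgroup.centralizer (B : Set G)).relIndex A = (B ⊓ Subgroup.centralizer (A : Set G)).relIndex B := by
  classical
  rw [Subgroup.inf_relIndex_left, Subgroup.inf_relIndex_left]
  by_cases hZ0 : ⁅A, B⁆ = ⊥
  · have h1 : A ≤ Subgroup.centralizer (B : Set G) :=
      Subgroup.commutator_eq_bot_iff_le_centralizer.1 hZ0
    have h2 : B ≤ Subgroup.centralizer (A : Set G) := by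
      rw [Subgroup.commutator_comm] at hZ0
      exact Subgroup.commutator_eq_bot_iff_le_centralizer.1 hZ0
    rw [Subgroup.relIndex_eq_one.2 h1, Subgroup.relIndex_eq_one.2 h2]
  · set Z := ⁅A, B⁆ with hZdef
    have hp : p.Prime := Fact.out
    have hZp : Nat.card Z = p := by
      obtain ⟨n, hn⟩ := (hG.to_subgroup Z).exists_card_eq
      have hn0 : n ≠ 0 := by
        rintro rfl
        rw [pow_zero] at hn
        exact hZ0 (Subgroup.card_eq_one.1 hn)
      have : p ≤ Nat.card Z := by
        rw [hn]
        calc p = p ^ 1 := (pow_one p).symm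
          _ ≤ p ^ n := Nat.pow_le_pow_right hp.pos (Nat.one_le_iff_ne_zero.2 hn0)
      exact le_antisymm hcard this
    have hZA : Z ≤ A := hAB.trans inf_le_left
    have hZB : Z ≤ B := hAB.trans inf_le_right
    have hcomm : ∀ a ∈ A, ∀ b ∈ B, a * b * a⁻¹ * b⁻¹ ∈ Z :=
      fun a ha b hb => Subgroup.commutator_mem_commutator ha hb
    have hcomm' : ∀ b ∈ B, ∀ a ∈ A, b * a * b⁻¹ * a⁻¹ ∈ Z := by
      intro b hb a ha
      have := Z.inv_mem (hcomm a ha b hb)
      simpa [mul_assoc] using this
    -- A and B normalize Z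
    have hAn : A ≤ Subgroup.normalizer (Z : Set G) := by
      intro a ha
      rw [Subgroup.mem_normalizer_iff]
      intro z
      constructor
      · intro hz
        have h1 := hcomm a ha z (hZB hz)
        have : a * z * a⁻¹ = (a * z * a⁻¹ * z⁻¹) * z := by group
        rw [this]
        exact Z.mul_mem h1 hz
      · intro hz
        have h1 := hcomm a⁻¹ (A.inv_mem ha) _ (hZB hz)
        have : z = (a⁻¹ * (a * z * a⁻¹) * a⁻¹⁻¹ * (a * z * a⁻¹)⁻¹) * (a * z * a⁻¹) := by group
        rw [this]
        exact Z.mul_mem h1 hz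
    have hBn : B ≤ Subgroup.normalizer (Z : Set G) := by
      intro b hb
      rw [Subgroup.mem_normalizer_iff]
      intro z
      constructor
      · intro hz
        have h1 := hcomm' b hb z (hZA hz)
        have : b * z * b⁻¹ = (b * z * b⁻¹ * z⁻¹) * z := by group
        rw [this]
        exact Z.mul_mem h1 hz
      · intro hz
        have h1 := hcomm' b⁻¹ (B.inv_mem hb) _ (hZA hz)
        have : z = (b⁻¹ * (b * z * b⁻¹) * b⁻¹⁻¹ * (b * z * b⁻¹)⁻¹) * (b * z * b⁻¹) := by group
        rw [this]
        exact Z.mul_mem h1 hz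
    have hcentA := central_of_card_prime hG Z A hZp hAn
    have hcentB := central_of_card_prime hG Z B hZp hBn
    letI : Fintype A := Fintype.ofFinite A
    letI : Fintype B := Fintype.ofFinite B
    have e1 := keysum A B Z hZp hcomm hcentB
    have e2 := keysum B A Z hZp hcomm' hcentA
    have e3 : ∑ a : A, ∑ b : B, (if (a : G) * b = b * a then 1 else 0)
        = ∑ b : B, ∑ a : A, (if (b : G) * a = a * b then 1 else 0) := by
      rw [Finset.sum_comm]
      refine Finset.sum_congr rfl (fun b _ => Finset.sum_congr rfl (fun a _ => ?_))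
      by_cases h : (a : G) * b = b * a
      · rw [if_pos h, if_pos h.symm]
      · rw [if_neg h, if_neg (fun h' => h h'.symm)]
    rw [e3, e2] at e1
    set cA := Nat.card ((Subgroup.centralizer (B : Set G)).subgroupOf A) with hcA
    set cB := Nat.card ((Subgroup.centralizer (A : Set G)).subgroupOf B) with hcB
    have hA : cA * (Subgroup.centralizer (B : Set G)).relIndex A = Nat.card A :=
      Subgroup.card_mul_index _
    have hB : cB * (Subgroup.centralizer (A : Set G)).relIndex B = Nat.card B :=
      Subgroup.card_mul_index _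
    have hp1 : 0 < p - 1 := Nat.sub_pos_of_lt hp.one_lt
    have e4 : cB * Nat.card A = cA * Nat.card B := by
      have : cB * ((p - 1) * Nat.card A) = cA * ((p - 1) * Nat.card B) := by
        have := e1
        rw [mul_comm (Nat.card B) (Nat.card A)] at this
        exact Nat.add_left_cancel this
      have h2 : (p - 1) * (cB * Nat.card A) = (p - 1) * (cA * Nat.card B) := by
        calc (p - 1) * (cB * Nat.card A) = cB * ((p - 1) * Nat.card A) := by ring
          _ = cA * ((p - 1) * Nat.card B) := this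
          _ = (p - 1) * (cA * Nat.card B) := by ring
      exact Nat.eq_of_mul_eq_mul_left hp1 h2
    have hcA0 : 0 < cA := Nat.card_pos
    have hcB0 : 0 < cB := Nat.card_pos
    rw [← hA, ← hB] at e4
    have e5 : (cA * cB) * (Subgroup.centralizer (B : Set G)).relIndex A
        = (cA * cB) * (Subgroup.centralizer (A : Set G)).relIndex B := by
      calc (cA * cB) * (Subgroup.centralizer (B : Set G)).relIndex A
          = cB * (cA * (Subgroup.centralizer (B : Set G)).relIndex A) := by ring
        _ = cA * (cB * (Subgroup.centralizer (A : Set G)).relIndex B) := e4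
        _ = (cA * cB) * (Subgroup.centralizer (A : Set G)).relIndex B := by ring
    exact Nat.eq_of_mul_eq_mul_left (Nat.mul_pos hcA0 hcB0) e5

end Cfsg.Agent.S3741
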