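import Cfsg.Statements.S3742
import Mathlib

set_option autoImplicit false
open Cfsg

namespace Cfsg.Agent.S3742

open QuaternionGroup

/-- the quaternion group of order 8 -/
abbrev Q := QuaternionGroup 2

/-- the candidate endomorphism determined by the images `x` of `a 1` and `y` of `xa 0` -/
def f (x y : Q) : Q → Q
  | a k => x ^ k.val
  | xa k => y * x ^ k.val

/-- the defining relations, plus injectivity -/
def Valid (x y : Q) : Prop := x ^ 4 = 1 ∧ x ^ 2 ≠ 1 ∧ y ^ 2 = x ^ 2 ∧ y * x * y⁻¹ = x⁻¹

instance instDecidableValid (x y : Q) : Decidable (Valid x y) := by unfold Valid; infer_instance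

set_option maxRecDepth 100000 in
theorem f_mul : ∀ x y : Q, Valid x y → ∀ g h : Q, f x y (g * h) = f x y g * f x y h := by
  decide +kernel

set_option maxRecDepth 100000 in
theorem f_inj : ∀ x y : Q, Valid x y → ∀ g h : Q, f x y g = f x y h → g = h := by decide +kernel

theorem f_id : ∀ g : Q, f (a 1) (xa 0) g = g := by decide

theorem a_eq : ∀ k : ZMod 4, (a k : Q) = a 1 ^ k.val := by decide

theorem xa_eq : ∀ k : ZMod 4, (xa k : Q) = xa 0 * a 1 ^ k.val := by decide

/-- four of the eight vertex sets of the cube, one for each diagonal -/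
def S : Fin 4 → Finset Q
  | 0 => {a 1, xa 0, xa 3}
  | 1 => {a 1, xa 2, xa 1}
  | 2 => {a 3, xa 0, xa 1}
  | 3 => {a 3, xa 2, xa 3}

/-- generating pairs representing the four diagonals -/
def p : Fin 4 → Q × Q
  | 0 => (a 1, xa 0)
  | 1 => (a 1, xa 2)
  | 2 => (a 3, xa 0)
  | 3 => (a 3, xa 2)

/-- the vertex `{x, y, xy}` lies on the diagonal `d` -/
def cond (x y : Q) (d : Fin 4) : Prop :=
  (x ∈ S d ∧ y ∈ S d ∧ x * y ∈ S d) ∨ (x⁻¹ ∈ S d ∧ y⁻¹ ∈ S d ∧ (x * y)⁻¹ ∈ S d)

instance instDecidableCond (x y : Q) (d : Fin 4) : Decidable (cond x y d) := by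
  unfold cond; infer_instance

/-- the diagonal through the vertex `{x, y, xy}` -/
def idx (x y : Q) : Fin 4 :=
  if cond x y 0 then 0 else if cond x y 1 then 1 else if cond x y 2 then 2 else 3

/-- the action on the diagonals of the automorphism with `a 1 ↦ x`, `xa 0 ↦ y` -/
def act (x y : Q) (d : Fin 4) : Fin 4 := idx (f x y (p d).1) (f x y (p d).2)

set_option maxRecDepth 100000 in
theorem act_mul : ∀ x y : Q, Valid x y → ∀ x' y' : Q, Valid x' y' → ∀ d : Fin 4,
    act (f x y x') (f x y y') d = act x y (act x' y' d) := by decide +kernel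

theorem act_one : ∀ d : Fin 4, act (a 1) (xa 0) d = d := by decide

set_option maxRecDepth 100000 in
theorem act_inj : ∀ x y : Q, Valid x y → (∀ d : Fin 4, act x y d = d) → x = a 1 ∧ y = xa 0 := by
  decide +kernel

set_option maxRecDepth 100000 in
theorem card_valid : Fintype.card {v : Q × Q // Valid v.1 v.2} = 24 := by decide +kernel

theorem apply_eq (σ : MulAut Q) (g : Q) : σ g = f (σ (a 1)) (σ (xa 0)) g := by
  cases g with
  | a k =>
    conv_lhs => rw [a_eq k]
    rw [map_pow]; rfl
  | xa k =>
    conv_lhs => rw [xa_eq k]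
    rw [map_mul, map_pow]; rfl

theorem valid_of_aut (σ : MulAut Q) : Valid (σ (a 1)) (σ (xa 0)) := by
  refine ⟨?_, ?_, ?_, ?_⟩
  · rw [← map_pow]
    have : (a 1 : Q) ^ 4 = 1 := by decide
    rw [this, map_one]
  · rw [← map_pow]
    intro h
    have h1 : (a 1 : Q) ^ 2 = 1 := σ.injective (by rw [h, map_one])
    exact absurd h1 (by decide)
  · rw [← map_pow, ← map_pow]
    have : (xa 0 : Q) ^ 2 = a 1 ^ 2 := by decide
    rw [this]
  · rw [← map_inv, ← map_inv, ← map_mul, ← map_mul]
    have : (xa 0 : Q) * a 1 * (xa 0)⁻¹ = (a 1)⁻¹ := by decide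
    rw [this]

/-- the automorphism with prescribed values on the generators -/
noncomputable def autOf (x y : Q) (h : Valid x y) : MulAut Q :=
  MulEquiv.ofBijective (MonoidHom.mk' (f x y) (f_mul x y h))
    ⟨fun g k hgk => f_inj x y h g k hgk,
      Finite.injective_iff_surjective.mp (fun g k hgk => f_inj x y h g k hgk)⟩

theorem autOf_apply (x y : Q) (h : Valid x y) (g : Q) : autOf x y h g = f x y g := rfl

/-- automorphisms correspond to valid pairs -/
noncomputable def equivValid : MulAut Q ≃ {v : Q × Q // Valid v.1 v.2} where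
  toFun σ := ⟨(σ (a 1), σ (xa 0)), valid_of_aut σ⟩
  invFun v := autOf v.1.1 v.1.2 v.2
  left_inv σ := by
    ext g
    rw [autOf_apply]
    exact (apply_eq σ g).symm
  right_inv v := by
    apply Subtype.ext
    apply Prod.ext
    · show autOf v.1.1 v.1.2 v.2 (a 1) = v.1.1
      rw [autOf_apply]
      show v.1.1 ^ (1 : ZMod 4).val = v.1.1
      have : (1 : ZMod 4).val = 1 := by decide
      rw [this, pow_one]
    · show autOf v.1.1 v.1.2 v.2 (xa 0) = v.1.2
      rw [autOf_apply]
      show v.1.2 * v.1.1 ^ (0 : ZMod 4).val = v.1.2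
      have : (0 : ZMod 4).val = 0 := by decide
      rw [this, pow_zero, mul_one]

theorem card_aut : Nat.card (MulAut Q) = 24 := by
  rw [Nat.card_congr equivValid, Nat.card_eq_fintype_card, card_valid]

/-- the action of an automorphism on the four diagonals -/
def actAut (σ : MulAut Q) (d : Fin 4) : Fin 4 := act (σ (a 1)) (σ (xa 0)) d

theorem actAut_mul (σ τ : MulAut Q) (d : Fin 4) : actAut (σ * τ) d = actAut σ (actAut τ d) := by
  unfold actAut
  rw [MulAut.mul_apply, MulAut.mul_apply, apply_eq σ (τ (a 1)), apply_eq σ (τ (xa 0))]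
  exact act_mul _ _ (valid_of_aut σ) _ _ (valid_of_aut τ) d

theorem actAut_one (d : Fin 4) : actAut 1 d = d := act_one d

/-- the permutation representation on the diagonals -/
def ψ : MulAut Q →* Equiv.Perm (Fin 4) where
  toFun σ := ⟨actAut σ, actAut σ⁻¹,
    fun d => by rw [← actAut_mul, inv_mul_cancel, actAut_one],
    fun d => by rw [← actAut_mul, mul_inv_cancel, actAut_one]⟩
  map_one' := by
    ext d
    simp [actAut_one]
  map_mul' σ τ := by
    ext d
    simp [actAut_mul]

theorem ψ_injective : Function.Injective ψ := by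
  rw [injective_iff_map_eq_one]
  intro σ hσ
  have h1 : ∀ d : Fin 4, act (σ (a 1)) (σ (xa 0)) d = d := by
    intro d
    have := congrArg (fun π : Equiv.Perm (Fin 4) => π d) hσ
    exact this
  obtain ⟨hx, hy⟩ := act_inj _ _ (valid_of_aut σ) h1
  ext g
  rw [apply_eq σ g, hx, hy, f_id]
  rfl

/-- The automorphism group of the quaternion group of order 8 is isomorphic to the symmetric group of degree 4. -/
theorem result : Nonempty (MulAut (QuaternionGroup 2) ≃* Equiv.Perm (Fin 4)) := by
  have hbij : Function.Bijective ψ := by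
    haveI : Finite (MulAut Q) := Finite.of_equiv _ equivValid.symm
    apply ψ_injective.bijective_of_nat_card_le
    rw [card_aut, Nat.card_eq_fintype_card, Fintype.card_perm, Fintype.card_fin]
    decide
  exact ⟨MulEquiv.ofBijective ψ hbij⟩

end Cfsg.Agent.S3742
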