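import Cfsg.Statements.S3743
import Cfsg.Agent.Lib.Helper2.Radical

set_option autoImplicit false
open Cfsg

namespace Cfsg.Agent.S3743

open Cfsg.Agent.Lib.Helper2

/-- In a finite group G, every subnormal nilpotent subgroup lies in the Fitting subgroup F(G), and, for a set of primes π, every subnormal subgroup all of whose prime divisors lie in π lies in O_π(G). -/
theorem result {G : Type*} [Group G] [Finite G] (A : Subgroup G) (hA : A.IsSubnormal) : (Group.IsNilpotent A → A ≤ Cfsg.fittingSubgroup G) ∧ ∀ π : Set ℕ, (∀ p : ℕ, p.Prime → p ∣ Nat.card A → p ∈ π) → A ≤ Cfsg.piCore π G := by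
  constructor
  · intro hnil
    exact subnormal_le_radical (fun X _ => Group.IsNilpotent X)
      (fun X Y _ _ e h => (Group.isNilpotent_congr e).1 h)
      (fun X _ _ A B hA hB hA' hB' => by
        haveI := hA; haveI := hB
        exact isNilpotent_sup A B hA' hB')
      (fun X _ => inferInstance) A hA hnil
  · intro π hπ
    exact subnormal_le_radical (fun X _ => ∀ p : ℕ, p.Prime → p ∣ Nat.card X → p ∈ π)
      (fun X Y _ _ e h => by rw [← Nat.card_congr e.toEquiv]; exact h)
      (fun X _ _ A B hA hB hA' hB' => by
        haveI := hA; haveI := hB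
        intro p hp hdvd
        rcases (hp.dvd_mul).1 (hdvd.trans (card_sup_dvd A B)) with h | h
        · exact hA' p hp h
        · exact hB' p hp h)
      (fun X _ => by
        intro p hp hdvd
        rw [Subgroup.card_bot] at hdvd
        exact absurd (Nat.dvd_one.1 hdvd) hp.one_lt.ne') A hA hπ

end Cfsg.Agent.S3743
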