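import Cfsg.Statements.S3744
import Cfsg.Agent.Lib.Helper1.Hall
import Cfsg.Agent.Lib.Helper1.Coprime
import Cfsg.Agent.Lib.Helper2.Cores

set_option autoImplicit false
open Cfsg

namespace Cfsg.Agent.S3744

open Cfsg.Agent.Lib.Helper1
open scoped Pointwise

universe u

/-- a `p`-series of length `n` -/
def PSeries (p : ℕ) (G : Type u) [Group G] (n : ℕ) : Prop :=
  ∃ H : Fin (n + 1) → Subgroup G,
    H 0 = ⊥ ∧ H (Fin.last n) = ⊤ ∧ Monotone H ∧ (∀ i, (H i).Normal) ∧
    ∀ i : Fin n, (∃ m : ℕ, (H i.castSucc).relIndex (H i.succ) = p ^ m) ∨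
      ((H i.castSucc).relIndex (H i.succ)).Coprime p

def IsPCompl (p : ℕ) {G : Type u} [Group G] (H : Subgroup G) : Prop :=
  (Nat.card H).Coprime p ∧ ∃ n : ℕ, H.index = p ^ n

def Good (p : ℕ) (G : Type u) [Group G] : Prop :=
  (∃ H : Subgroup G, IsPCompl p H) ∧
  ∀ U H : Subgroup G, (Nat.card U).Coprime p → IsPCompl p H → ∃ g : G, U ≤ MulAut.conj g • H

theorem pseries_quotient {p n : ℕ} {G : Type u} [Group G] (H : Fin (n + 2) → Subgroup G)
    (hlast : H (Fin.last (n + 1)) = ⊤) (hmono : Monotone H)
    (hnorm : ∀ i, (H i).Normal)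
    (hfac : ∀ i : Fin (n + 1), (∃ m : ℕ, (H i.castSucc).relIndex (H i.succ) = p ^ m) ∨
      ((H i.castSucc).relIndex (H i.succ)).Coprime p) [hN : (H 1).Normal] :
    PSeries p (G ⧸ H 1) n := by
  refine ⟨fun i => (H i.succ).map (QuotientGroup.mk' (H 1)), ?_, ?_, ?_, ?_, ?_⟩
  · show (H (Fin.succ 0)).map (QuotientGroup.mk' (H 1)) = ⊥
    rw [Fin.succ_zero_eq_one, QuotientGroup.map_mk'_self]
  · show (H (Fin.last n).succ).map (QuotientGroup.mk' (H 1)) = ⊤
    rw [Fin.succ_last, hlast]
    exact Subgroup.map_top_of_surjective _ (QuotientGroup.mk'_surjective _)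
  · intro i j hij
    exact Subgroup.map_mono (hmono (Fin.succ_le_succ_iff.2 hij))
  · intro i
    exact (hnorm i.succ).map _ (QuotientGroup.mk'_surjective _)
  · intro i
    have hle : ∀ j : Fin (n + 1), H 1 ≤ H j.succ := by
      intro j
      apply hmono
      rw [← Fin.succ_zero_eq_one]
      exact Fin.succ_le_succ_iff.2 (Fin.zero_le j)
    have key : ((H i.castSucc.succ).map (QuotientGroup.mk' (H 1))).relIndex
        ((H i.succ.succ).map (QuotientGroup.mk' (H 1))) =
        (H i.succ.castSucc).relIndex (H i.succ.succ) := by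
      rw [Subgroup.relIndex_map_map, QuotientGroup.ker_mk', sup_eq_left.2 (hle _),
        sup_eq_left.2 (hle _), Fin.succ_castSucc]
    show (∃ m : ℕ, ((H i.castSucc.succ).map (QuotientGroup.mk' (H 1))).relIndex
        ((H i.succ.succ).map (QuotientGroup.mk' (H 1))) = p ^ m) ∨
      (((H i.castSucc.succ).map (QuotientGroup.mk' (H 1))).relIndex
        ((H i.succ.succ).map (QuotientGroup.mk' (H 1)))).Coprime p
    rw [key]
    exact hfac i.succ

theorem eq_of_le_of_coprime {p : ℕ} [Fact p.Prime] {G : Type u} [Group G] [Finite G]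
    {H B : Subgroup G} (hH : IsPCompl p H) (hHB : H ≤ B) (hB : (Nat.card B).Coprime p) :
    H = B := by
  obtain ⟨hH1, n, hn⟩ := hH
  apply Subgroup.eq_of_le_of_card_ge hHB
  have h1 := H.card_mul_index
  rw [hn] at h1
  have h2 : Nat.card B ∣ Nat.card H * p ^ n := by
    rw [h1]; exact Subgroup.card_subgroup_dvd_card B
  have h3 : Nat.card B ∣ Nat.card H := (Nat.Coprime.pow_right n hB).dvd_of_dvd_mul_right h2
  exact Nat.le_of_dvd Nat.card_pos h3

theorem isPCompl_conj {p : ℕ} {G : Type u} [Group G] [Finite G] {H : Subgroup G}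
    (hH : IsPCompl p H) (g : G) : IsPCompl p (MulAut.conj g • H) := by
  obtain ⟨h1, n, hn⟩ := hH
  exact ⟨by rw [card_conj_smul]; exact h1, n, by rw [index_conj_smul]; exact hn⟩

theorem good_of_pseries (p : ℕ) [Fact p.Prime] (n : ℕ) :
    ∀ (G : Type u) [Group G] [Finite G], PSeries p G n → Good p G := by
  have hp : p.Prime := Fact.out
  induction n with
  | zero =>
    rintro G _ _ ⟨H, h0, hlast, -, -, -⟩
    have htop : (⊤ : Subgroup G) = ⊥ := by
      rw [← hlast, ← h0]; rfl
    have hall : ∀ K : Subgroup G, K = ⊥ := fun K => by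
      rw [eq_bot_iff, ← htop]; exact le_top
    refine ⟨⟨⊤, ?_, 0, ?_⟩, ?_⟩
    · rw [htop, Subgroup.card_bot]; exact Nat.coprime_one_left p
    · rw [Subgroup.index_top, pow_zero]
    · intro U K _ _
      refine ⟨1, ?_⟩
      rw [hall U]; exact bot_le
  | succ n ih =>
    rintro G _ _ ⟨H, h0, hlast, hmono, hnorm, hfac⟩
    haveI hNn : (H 1).Normal := hnorm 1
    set N := H 1 with hNdef
    have hq : PSeries p (G ⧸ N) n := pseries_quotient H hlast hmono hnorm hfac
    obtain ⟨⟨Kq, hKq1, a, hKq2⟩, hD⟩ := ih (G ⧸ N) hq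
    have hN : (∃ m : ℕ, Nat.card N = p ^ m) ∨ (Nat.card N).Coprime p := by
      have := hfac 0
      rw [Fin.castSucc_zero, Fin.succ_zero_eq_one, h0, Subgroup.relIndex_bot_left] at this
      exact this
    have hsurj : Function.Surjective (QuotientGroup.mk' N) := QuotientGroup.mk'_surjective N
    constructor
    · -- existence
      set K := Kq.comap (QuotientGroup.mk' N) with hK
      have hKcard : Nat.card K = Nat.card N * Nat.card Kq := card_comap_mk' N Kq
      have hKidx : K.index = p ^ a := by
        rw [hK, Subgroup.index_comap_of_surjective _ hsurj, hKq2]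
      rcases hN with ⟨m, hm⟩ | hN
      · -- N a p-group: Schur-Zassenhaus inside K
        have hNK : N ≤ K := by
          rw [hK]
          intro x hx
          rw [Subgroup.mem_comap]
          have : QuotientGroup.mk' N x = 1 := (QuotientGroup.eq_one_iff x).2 hx
          rw [this]; exact one_mem _
        haveI : (N.subgroupOf K).Normal := hNn.subgroupOf K
        have hc1 : Nat.card (N.subgroupOf K) = p ^ m := by
          rw [card_subgroupOf_of_le hNK, hm]
        have hc2 : (N.subgroupOf K).index = Nat.card Kq := by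
          have h1 := (N.subgroupOf K).card_mul_index
          rw [hc1, hKcard, hm] at h1
          exact Nat.eq_of_mul_eq_mul_left (pow_pos hp.pos m) h1
        have hcop : (Nat.card (N.subgroupOf K)).Coprime (N.subgroupOf K).index := by
          rw [hc1, hc2]
          exact Nat.Coprime.pow_left m hKq1.symm
        obtain ⟨L', hL'⟩ := Subgroup.exists_right_complement'_of_coprime hcop
        have hL'card : Nat.card L' = Nat.card Kq := by
          rw [← hc2]; exact hL'.symm.index_eq_card.symm
        refine ⟨L'.map K.subtype, ?_, m + a, ?_⟩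
        · rw [Subgroup.card_map_of_injective K.subtype_injective, hL'card]; exact hKq1
        · have h1 := (L'.map K.subtype).card_mul_index
          have h2 := K.card_mul_index
          rw [Subgroup.card_map_of_injective K.subtype_injective, hL'card, ← h2, hKcard, hm,
            hKidx] at h1
          have h3 : Nat.card Kq * (L'.map K.subtype).index = Nat.card Kq * p ^ (m + a) := by
            rw [h1, pow_add]; ring
          exact Nat.eq_of_mul_eq_mul_left Nat.card_pos h3
      · refine ⟨K, ?_, a, hKidx⟩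
        rw [hKcard]
        exact Nat.Coprime.mul_left hN hKq1
    · -- dominance
      intro U Hc hU hHc
      obtain ⟨hHc1, k, hHck⟩ := hHc
      have hHq : IsPCompl p (Hc.map (QuotientGroup.mk' N)) := by
        refine ⟨Nat.Coprime.coprime_dvd_left (Subgroup.card_map_dvd _ _) hHc1, ?_⟩
        have h1 : (Hc.map (QuotientGroup.mk' N)).index ∣ p ^ k := by
          rw [← hHck]; exact Subgroup.index_map_dvd _ hsurj
        obtain ⟨j, -, hj⟩ := (Nat.dvd_prime_pow hp).1 h1
        exact ⟨j, hj⟩
      have hUq : (Nat.card (U.map (QuotientGroup.mk' N))).Coprime p :=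
        Nat.Coprime.coprime_dvd_left (Subgroup.card_map_dvd _ _) hU
      obtain ⟨gq, hgq⟩ := hD _ _ hUq hHq
      obtain ⟨g, rfl⟩ := hsurj gq
      rw [← map_conj_smul] at hgq
      set H' := MulAut.conj g • Hc with hH'
      have hH'c : IsPCompl p H' := isPCompl_conj ⟨hHc1, k, hHck⟩ g
      have hUB : U ≤ H' ⊔ N := by
        have := Subgroup.comap_mono (f := QuotientGroup.mk' N) hgq
        rw [Subgroup.comap_map_eq, Subgroup.comap_map_eq, QuotientGroup.ker_mk'] at this
        exact le_sup_left.trans this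
      rcases hN with ⟨m, hm⟩ | hN
      · -- N a p-group
        have hdisj : Disjoint N H' := by
          apply Subgroup.disjoint_of_coprime_natCard
          rw [hm]; exact Nat.Coprime.pow_left m hH'c.1.symm
        have hH'N : H' ≤ Subgroup.normalizer (N : Set G) := by
          rw [Subgroup.normalizer_eq_top_iff.2 hNn]; exact le_top
        obtain ⟨hn, hc⟩ := isComplement'_subgroupOf_sup hH'N hdisj
        set B := N ⊔ H' with hB
        have hUB' : U ≤ B := by rw [hB, sup_comm]; exact hUB
        have hcop1 : (Nat.card (N.subgroupOf B)).Coprime (Nat.card (H'.subgroupOf B)) := by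
          rw [card_subgroupOf_of_le le_sup_left, card_subgroupOf_of_le le_sup_right, hm]
          exact Nat.Coprime.pow_left m hH'c.1.symm
        have hsolv : Group.IsSolvable (N.subgroupOf B) ∨ Group.IsSolvable (H'.subgroupOf B) := by
          left
          have hpg : IsPGroup p (N.subgroupOf B) := by
            apply IsPGroup.of_card (n := m)
            rw [card_subgroupOf_of_le le_sup_left, hm]
          haveI := hpg.isNilpotent
          infer_instance
        have hcop2 : (Nat.card (U.subgroupOf B)).Coprime (Nat.card (N.subgroupOf B)) := by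
          rw [card_subgroupOf_of_le le_sup_left, card_subgroupOf_of_le hUB', hm]
          exact Nat.Coprime.pow_right m hU
        obtain ⟨b, hb⟩ := sz_dominance (N.subgroupOf B) (H'.subgroupOf B) (U.subgroupOf B) hc
          hcop1 hsolv hcop2
        refine ⟨(b : G) * g, ?_⟩
        have h1 := Subgroup.map_mono (f := B.subtype) hb
        rw [map_subtype_conj_smul, Subgroup.subgroupOf_map_subtype, Subgroup.subgroupOf_map_subtype,
          inf_of_le_left hUB', inf_of_le_left le_sup_right] at h1
        rw [map_mul, mul_smul]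
        exact h1
      · -- N a p'-group
        have hBcop : (Nat.card (H' ⊔ N : Subgroup G)).Coprime p :=
          Nat.Coprime.coprime_dvd_left (Cfsg.Agent.Lib.Helper2.card_sup_dvd H' N)
            (Nat.Coprime.mul_left hH'c.1 hN)
        have := eq_of_le_of_coprime hH'c le_sup_left hBcop
        exact ⟨g, by rw [← hH'] ; rw [this]; exact hUB⟩

/-- A finite p-soluble group has a p-complement, all its p-complements are conjugate, and every subgroup of order prime to p lies in one of them. Here a p-complement is a subgroup of order prime to p whose index is a power of p. -/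
theorem result {G : Type*} [Group G] [Finite G] {p : ℕ} [Fact p.Prime] (hG : Cfsg.IsPSolvable p G) : (∃ H : Subgroup G, (Nat.card H).Coprime p ∧ ∃ n : ℕ, H.index = p ^ n) ∧ (∀ H₁ H₂ : Subgroup G, (Nat.card H₁).Coprime p → (∃ n : ℕ, H₁.index = p ^ n) → (Nat.card H₂).Coprime p → (∃ n : ℕ, H₂.index = p ^ n) → ∃ g : G, H₂ = H₁.map (MulAut.conj g).toMonoidHom) ∧ (∀ U : Subgroup G, (Nat.card U).Coprime p → ∃ H : Subgroup G, (Nat.card H).Coprime p ∧ (∃ n : ℕ, H.index = p ^ n) ∧ ∃ g : G, U.map (MulAut.conj g).toMonoidHom ≤ H) := by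
  have hp : p.Prime := Fact.out
  obtain ⟨n, H, h0, hlast, hmono, hnorm, hfac⟩ := hG
  obtain ⟨⟨H₀, hH₀⟩, hD⟩ := good_of_pseries p n G ⟨H, h0, hlast, hmono, hnorm, hfac⟩
  refine ⟨⟨H₀, hH₀⟩, ?_, ?_⟩
  · intro H₁ H₂ h1 h1' h2 h2'
    obtain ⟨g, hg⟩ := hD H₂ H₁ h2 ⟨h1, h1'⟩
    refine ⟨g, ?_⟩
    rw [← conj_smul_eq_map]
    exact eq_of_le_of_coprime ⟨h2, h2'⟩ hg (isPCompl_conj ⟨h1, h1'⟩ g).1
  · intro U hU
    obtain ⟨g, hg⟩ := hD U H₀ hU hH₀
    refine ⟨H₀, hH₀.1, hH₀.2, g⁻¹, ?_⟩
    rw [← conj_smul_eq_map]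
    have := (Subgroup.pointwise_smul_le_pointwise_smul_iff (a := MulAut.conj g⁻¹)).2 hg
    rwa [← mul_smul, ← map_mul, inv_mul_cancel, map_one, one_smul] at this

end Cfsg.Agent.S3744
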