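import Cfsg.Statements.S3746
import Cfsg.Agent.Lib.Helper2.Quasisimple

set_option autoImplicit false
open Cfsg

namespace Cfsg.Agent.S3746

open Cfsg.Agent.Lib.Helper2
open scoped commutatorElement

/-- Let Z ≤ Z(G) be a central subgroup of a finite group G and E a subgroup of G containing Z whose image E/Z is a component of G/Z (subnormal and quasisimple). Then the derived subgroup [E, E] is a component of G. -/
theorem result {G : Type*} [Group G] [Finite G] (Z : Subgroup G) (hZ : Z ≤ Subgroup.center G) [Z.Normal] (E : Subgroup G) (hZE : Z ≤ E) (hE : Cfsg.IsComponent (E.map (QuotientGroup.mk' Z))) : Cfsg.IsComponent ⁅E, E⁆ := by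
  set π := QuotientGroup.mk' Z with hπ
  have hkerπ : π.ker = Z := QuotientGroup.ker_mk' Z
  obtain ⟨hsub, hperf, hsimple⟩ := hE
  set D := ⁅E, E⁆ with hD
  have hDE : D ≤ E := Subgroup.commutator_le.2 (fun a ha b hb =>
    E.mul_mem (E.mul_mem (E.mul_mem ha hb) (E.inv_mem ha)) (E.inv_mem hb))
  -- E is subnormal
  have hEsub : E.IsSubnormal := by
    have := hsub.comap π
    rwa [Subgroup.comap_map_eq_self (by rw [hkerπ]; exact hZE)] at this
  have hDsub : D.IsSubnormal := by
    refine Subgroup.IsSubnormal.step D E hDE hEsub ?_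
    exact Subgroup.normal_subgroupOf_of_le_normalizer (Subgroup.normalizer_commutator_ge_left E E)
  refine ⟨hDsub, ?_⟩
  -- image of D is the image of E
  have hmap : D.map π = E.map π := by
    rw [hD, Subgroup.map_commutator]
    exact Subgroup.isPerfect_iff.1 hperf
  have hEDZ : E = D ⊔ Z := by
    have h1 : (E.map π).comap π = E := Subgroup.comap_map_eq_self (by rw [hkerπ]; exact hZE)
    rw [← h1, ← hmap, Subgroup.comap_map_eq, hkerπ]
  -- D is perfect
  have hDperf : ⁅D, D⁆ = D := by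
    apply le_antisymm (Subgroup.commutator_le.2 (fun a ha b hb =>
      D.mul_mem (D.mul_mem (D.mul_mem ha hb) (D.inv_mem ha)) (D.inv_mem hb)))
    conv_lhs => rw [hD]
    rw [Subgroup.commutator_le]
    intro a ha b hb
    rw [hEDZ] at ha hb
    obtain ⟨d, hd, z, hz, rfl⟩ := Subgroup.mem_sup_of_normal_right.1 ha
    obtain ⟨d', hd', z', hz', rfl⟩ := Subgroup.mem_sup_of_normal_right.1 hb
    have hzc := Subgroup.mem_center_iff.1 (hZ hz)
    have hzc' := Subgroup.mem_center_iff.1 (hZ hz')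
    have : ⁅d * z, d' * z'⁆ = ⁅d, d'⁆ := by
      rw [commutatorElement_def, commutatorElement_def]
      have e1 : ∀ g, z * g = g * z := fun g => (hzc g).symm
      have e2 : ∀ g, z' * g = g * z' := fun g => (hzc' g).symm
      have e3 : ∀ g, z⁻¹ * g = g * z⁻¹ := fun g => by
        have := e1 g⁻¹
        have h := congrArg (fun t => t⁻¹) this
        simpa using h.symm
      have e4 : ∀ g, z'⁻¹ * g = g * z'⁻¹ := fun g => by
        have := e2 g⁻¹
        have h := congrArg (fun t => t⁻¹) this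
        simpa using h.symm
      calc d * z * (d' * z') * (d * z)⁻¹ * (d' * z')⁻¹
          = d * (z * (d' * z')) * (z⁻¹ * d⁻¹) * (z'⁻¹ * d'⁻¹) := by group
        _ = d * ((d' * z') * z) * (d⁻¹ * z⁻¹) * (d'⁻¹ * z'⁻¹) := by rw [e1, e3, e4]
        _ = d * d' * (z' * (z * d⁻¹)) * z⁻¹ * d'⁻¹ * z'⁻¹ := by group
        _ = d * d' * ((z * d⁻¹) * z') * z⁻¹ * d'⁻¹ * z'⁻¹ := by rw [e2]
        _ = d * d' * ((d⁻¹ * z) * z') * z⁻¹ * d'⁻¹ * z'⁻¹ := by rw [e1]
        _ = d * d' * d⁻¹ * (z * (z' * z⁻¹)) * d'⁻¹ * z'⁻¹ := by group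
        _ = d * d' * d⁻¹ * ((z' * z⁻¹) * z) * d'⁻¹ * z'⁻¹ := by rw [e1]
        _ = d * d' * d⁻¹ * (z' * d'⁻¹) * z'⁻¹ := by group
        _ = d * d' * d⁻¹ * (d'⁻¹ * z') * z'⁻¹ := by rw [e2]
        _ = d * d' * d⁻¹ * d'⁻¹ := by group
    rw [this]
    exact Subgroup.commutator_mem_commutator hd hd'
  have hDperf' : Group.IsPerfect D := Subgroup.isPerfect_iff.2 hDperf
  -- the map D → E/Z
  let θ : D →* (E.map π : Subgroup (G ⧸ Z)) :=
    (π.comp D.subtype).codRestrict (E.map π) (fun d => ⟨d, hDE d.2, rfl⟩)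
  have hθsurj : Function.Surjective θ := by
    rintro ⟨y, hy⟩
    rw [← hmap] at hy
    obtain ⟨d, hd, rfl⟩ := hy
    exact ⟨⟨d, hd⟩, rfl⟩
  have hθker : θ.ker ≤ Subgroup.center D := by
    intro d hd
    rw [MonoidHom.mem_ker] at hd
    have h1 : π d = 1 := congrArg Subtype.val hd
    have h2 : (d : G) ∈ Z := by rw [← hkerπ]; exact h1
    rw [Subgroup.mem_center_iff]
    intro g
    apply Subtype.ext
    exact Subgroup.mem_center_iff.1 (hZ h2) g
  exact isQuasisimple_of_surjective_central hDperf' θ hθsurj hθker ⟨hperf, hsimple⟩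

end Cfsg.Agent.S3746
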