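import Cfsg.Statements.S3747
import Cfsg.Agent.Lib.Helper2.Components3

set_option autoImplicit false
open Cfsg

namespace Cfsg.Agent.S3747

open Cfsg.Agent.Lib.Helper2

/-- a subnormal subgroup with commutative multiplication lies in the Fitting subgroup -/
theorem abelian_subnormal_le_fitting {G : Type*} [Group G] [Finite G] (A : Subgroup G)
    (hA : A.IsSubnormal) (hc : ∀ a b : A, a * b = b * a) : A ≤ fittingSubgroup G := by
  apply subnormal_le_radical (fun X _ => Group.IsNilpotent X)
      (fun X Y _ _ e h => (Group.isNilpotent_congr e).1 h)
      (fun X _ _ A B hA hB hA' hB' => by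
        haveI := hA; haveI := hB
        exact isNilpotent_sup A B hA' hB')
      (fun X _ => inferInstance) A hA
  letI : CommGroup A := { (inferInstance : Group A) with mul_comm := hc }
  exact CommGroup.isNilpotent

/-- Let G be a finite group. (a) If K is a component of G with trivial centre, then the normal closure of K in G is a minimal normal subgroup of G. (b) If the Fitting subgroup of G is trivial, then the layer E(G) is generated by the minimal normal subgroups of G. -/
theorem result {G : Type*} [Group G] [Finite G] : (∀ K : Subgroup G, Cfsg.IsComponent K → Subgroup.center ↥K = ⊥ → (Subgroup.normalClosure (K : Set G) ≠ ⊥ ∧ ∀ N : Subgroup G, N.Normal → N ≤ Subgroup.normalClosure (K : Set G) → N = ⊥ ∨ N = Subgroup.normalClosure (K : Set G))) ∧ (Cfsg.fittingSubgroup G = ⊥ → sSup {N : Subgroup G | N ≠ ⊥ ∧ N.Normal ∧ ∀ N' : Subgroup G, N'.Normal → N' ≤ N → N' = ⊥ ∨ N' = N} = Cfsg.layer G) := by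
  refine ⟨fun K hK hc => normalClosure_component_minimal hK hc, ?_⟩
  intro hF
  apply le_antisymm
  · apply sSup_le
    rintro N ⟨hNne, hNn, hNmin⟩
    obtain ⟨T, hTN, hTsub, hTs⟩ := exists_simple_subnormal_le N hNn.isSubnormal hNne
    have hTne : T ≠ ⊥ := by
      haveI := hTs
      exact (Subgroup.nontrivial_iff_ne_bot T).1 inferInstance
    have hTna : ¬ ∀ a b : T, a * b = b * a := by
      intro hc
      have := abelian_subnormal_le_fitting T hTsub hc
      rw [hF, le_bot_iff] at this
      exact hTne this
    have hTcomp : IsComponent T := ⟨hTsub, by haveI := hTs; exact isQuasisimple_of_simple hTna⟩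
    have h1 : Subgroup.normalClosure (T : Set G) ≤ N :=
      Subgroup.normalClosure_le_normal hTN
    have h2 : Subgroup.normalClosure (T : Set G) ≠ ⊥ := by
      intro h
      apply hTne
      rw [eq_bot_iff, ← h]
      exact Subgroup.le_normalClosure
    rcases hNmin _ Subgroup.normalClosure_normal h1 with h | h
    · exact absurd h h2
    · rw [← h]
      haveI := layer_normal (G := G)
      exact Subgroup.normalClosure_le_normal (le_layer hTcomp)
  · apply sSup_le
    intro K hK
    have hc : Subgroup.center K = ⊥ := by
      have hsub : ((Subgroup.center K).map K.subtype).IsSubnormal :=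
        (inferInstance : (Subgroup.center K).Normal).isSubnormal.trans' hK.1
      have hcomm : ∀ a b : ((Subgroup.center K).map K.subtype : Subgroup G), a * b = b * a := by
        rintro ⟨_, a, ha, rfl⟩ ⟨_, b, hb, rfl⟩
        apply Subtype.ext
        have := Subgroup.mem_center_iff.1 hb a
        exact congrArg (fun t : K => (t : G)) this
      have := abelian_subnormal_le_fitting _ hsub hcomm
      rw [hF, le_bot_iff, Subgroup.map_eq_bot_iff_of_injective _ K.subtype_injective] at this
      exact this
    obtain ⟨h1, h2⟩ := normalClosure_component_minimal hK hc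
    exact le_trans Subgroup.le_normalClosure
      (le_sSup ⟨h1, Subgroup.normalClosure_normal, h2⟩)

end Cfsg.Agent.S3747
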