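import Cfsg.Statements.S3748
import Cfsg.Agent.Lib.Helper2.Components3
import Cfsg.Agent.Lib.Helper2.Nilpotent
import Cfsg.Agent.S3747

set_option autoImplicit false
open Cfsg

namespace Cfsg.Agent.S3748

open Cfsg.Agent.Lib.Helper2

/-- Call a proper subgroup M of G primitive when M = N_G(N) for every non-trivial normal subgroup N of M. If M is a primitive subgroup of the finite group G, then no non-trivial subnormal subgroup of G is contained in M; in particular M ∩ F(G) = 1. -/
theorem result {G : Type*} [Group G] [Finite G] (M : Subgroup G) (hM : M ≠ ⊤) (hprim : ∀ N : Subgroup G, N ≤ M → M ≤ Subgroup.normalizer (N : Set G) → N ≠ ⊥ → Subgroup.normalizer (N : Set G) = M) : (∀ L : Subgroup G, L.IsSubnormal → L ≤ M → L = ⊥) ∧ M ⊓ Cfsg.fittingSubgroup G = ⊥ := by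
  -- no nontrivial normal subgroup of G lies in M
  have hnonormal : ∀ N : Subgroup G, N.Normal → N ≤ M → N = ⊥ := by
    intro N hN hNM
    by_contra hne
    have := hprim N hNM (by rw [Subgroup.normalizer_eq_top_iff.2 hN]; exact le_top) hne
    rw [Subgroup.normalizer_eq_top_iff.2 hN] at this
    exact hM this.symm
  -- second claim
  have hF : M ⊓ Cfsg.fittingSubgroup G = ⊥ := by
    by_contra hne
    set F := Cfsg.fittingSubgroup G with hFdef
    haveI hFn : F.Normal := fittingSubgroup_normal
    set D := M ⊓ F with hD
    have hDM : D ≤ M := inf_le_left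
    have hMD : M ≤ Subgroup.normalizer (D : Set G) := by
      refine le_trans (le_inf Subgroup.le_normalizer ?_) Subgroup.inf_normalizer_le_normalizer_inf
      rw [Subgroup.normalizer_eq_top_iff.2 hFn]; exact le_top
    have hND := hprim D hDM hMD hne
    have hDF : D < F := by
      refine lt_of_le_of_ne inf_le_right ?_
      intro h
      have hFM : F ≤ M := by rw [← h]; exact inf_le_left
      have := hnonormal F hFn hFM
      rw [hD, inf_eq_right.2 hFM] at hne
      exact hne this
    obtain ⟨x, hxF, hxN, hxD⟩ := exists_mem_normalizer_not_mem fittingSubgroup_isNilpotent hDF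
    rw [hND] at hxN
    exact hxD ⟨hxN, hxF⟩
  refine ⟨?_, hF⟩
  intro L hL hLM
  by_contra hLne
  obtain ⟨T, hTL, hTsub, hTs⟩ := exists_simple_subnormal_le L hL hLne
  have hTM : T ≤ M := hTL.trans hLM
  have hTne : T ≠ ⊥ := by
    haveI := hTs
    exact (Subgroup.nontrivial_iff_ne_bot T).1 inferInstance
  have hTna : ¬ ∀ a b : T, a * b = b * a := by
    intro hc
    have := Cfsg.Agent.S3747.abelian_subnormal_le_fitting T hTsub hc
    have h2 : T ≤ M ⊓ Cfsg.fittingSubgroup G := le_inf hTM this
    rw [hF, le_bot_iff] at h2
    exact hTne h2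
  have hTcomp : IsComponent T := ⟨hTsub, by haveI := hTs; exact isQuasisimple_of_simple hTna⟩
  -- K : the join of the M-conjugates of T
  set K : Subgroup G := ⨆ m : M, T.map (MulAut.conj (m : G)).toMonoidHom with hK
  have hTK : T ≤ K := by
    have h1 : T = T.map (MulAut.conj ((1 : M) : G)).toMonoidHom := by
      ext y; simp
    rw [h1]
    exact le_iSup (fun m : M => T.map (MulAut.conj (m : G)).toMonoidHom) 1
  have hKM : K ≤ M := by
    apply iSup_le
    rintro m _ ⟨t, ht, rfl⟩
    exact M.mul_mem (M.mul_mem m.2 (hTM ht)) (M.inv_mem m.2)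
  have hKne : K ≠ ⊥ := fun h => hTne (le_bot_iff.1 (h ▸ hTK))
  have hMK : M ≤ Subgroup.normalizer (K : Set G) := by
    rw [Subgroup.le_normalizer_iff]
    intro h hh k hk
    have h1 : K.map (MulAut.conj h).toMonoidHom ≤ K := by
      rw [hK, Subgroup.map_iSup]
      apply iSup_le
      intro m
      rw [Subgroup.map_map]
      have : (MulAut.conj h).toMonoidHom.comp (MulAut.conj (m : G)).toMonoidHom
          = (MulAut.conj (((⟨h, hh⟩ * m : M)) : G)).toMonoidHom := by
        ext x; simp [mul_assoc]
      rw [this]
      exact le_iSup (fun m : M => T.map (MulAut.conj (m : G)).toMonoidHom) (⟨h, hh⟩ * m)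
    exact h1 ⟨k, hk, by simp⟩
  have hNK := hprim K hKM hMK hKne
  -- every conjugate of T lies in M
  have hconj : ∀ g : G, T.map (MulAut.conj g).toMonoidHom ≤ M := by
    intro g
    by_cases hex : ∃ m : M, T.map (MulAut.conj g).toMonoidHom = T.map (MulAut.conj (m : G)).toMonoidHom
    · obtain ⟨m, hm⟩ := hex
      rw [hm]
      exact le_trans (le_iSup (fun m : M => T.map (MulAut.conj (m : G)).toMonoidHom) m) hKM
    · push Not at hex
      have hcent : T.map (MulAut.conj g).toMonoidHom ≤ Subgroup.centralizer (K : Set G) := by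
        rw [← Subgroup.commutator_eq_bot_iff_le_centralizer, Subgroup.commutator_comm,
          Subgroup.commutator_eq_bot_iff_le_centralizer]
        apply iSup_le
        intro m
        rw [← Subgroup.commutator_eq_bot_iff_le_centralizer]
        rcases isComponent_eq_or_commutator_eq_bot (isComponent_conj (m : G) hTcomp)
          (isComponent_conj g hTcomp) with h1 | h1
        · exact absurd h1.symm (hex m)
        · exact h1
      rw [← hNK]
      exact hcent.trans (Subgroup.centralizer_le_normalizer _)
  have hNC : Subgroup.normalClosure (T : Set G) ≤ M := by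
    classical
    haveI : Fintype G := Fintype.ofFinite G
    rw [normalClosure_eq_finset_sup]
    apply Finset.sup_le
    intro A hA
    rw [Finset.mem_image] at hA
    obtain ⟨g, _, rfl⟩ := hA
    exact hconj g
  have := hnonormal _ Subgroup.normalClosure_normal hNC
  apply hTne
  rw [eq_bot_iff, ← this]
  exact Subgroup.le_normalClosure

end Cfsg.Agent.S3748
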