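import Cfsg.Statements.S3749
import Cfsg.Agent.Lib.Helper2.CoprimeSylow
import Cfsg.Agent.Lib.Helper2.Cores
-- import your own Cfsg.Agent.* helpers here

set_option autoImplicit false
open Cfsg

namespace Cfsg.Agent.S3749

open Cfsg.Agent.Lib.Helper2

/-- the `p`-core of `M`, as a subgroup of `G` -/
theorem aux_P {G : Type*} [Group G] [Finite G] (M : Subgroup G)
    (hprim : ∀ N : Subgroup G, N ≤ M → M ≤ Subgroup.normalizer (N : Set G) → N ≠ ⊥ →
      Subgroup.normalizer (N : Set G) = M) {p : ℕ} [Fact p.Prime] (hOp : Cfsg.pCore p ↥M ≠ ⊥) :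
    ∃ P : Subgroup G, P ≤ M ∧ IsPGroup p P ∧ Subgroup.normalizer (P : Set G) = M := by
  refine ⟨(pCore p ↥M).map M.subtype, Subgroup.map_subtype_le _, ?_, ?_⟩
  · exact (pCore_isPGroup p).map _
  · apply hprim _ (Subgroup.map_subtype_le _)
    · haveI := pCore_characteristic (G := ↥M) p
      haveI : (pCore p ↥M).Normal := Subgroup.normal_of_characteristic _
      intro m hm
      have h1 : (⟨m, hm⟩ : M) ∈ Subgroup.normalizer ((pCore p ↥M : Subgroup M) : Set M) := by
        rw [Subgroup.normalizer_eq_top]; trivial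
      have := Subgroup.le_normalizer_map M.subtype (Subgroup.mem_map_of_mem M.subtype h1)
      exact this
    · intro h
      apply hOp
      rw [eq_bot_iff] at h ⊢
      intro x hx
      have := h (Subgroup.mem_map_of_mem M.subtype hx)
      rw [Subgroup.mem_bot] at this ⊢
      exact Subtype.ext this

/-- Call a proper subgroup M of G primitive when M = N_G(N) for every non-trivial normal subgroup N of M. Let M be a primitive subgroup of the finite group G, p a prime with O_p(M) ≠ 1, and N a normal subgroup of G with M ∩ N = 1. Then p does not divide the order of N; for every prime q there is exactly one Sylow q-subgroup of N normalized by M; and if the order of N has at least two prime divisors then M is not a maximal subgroup of G. -/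
theorem result {G : Type*} [Group G] [Finite G] (M : Subgroup G) (hM : M ≠ ⊤) (hprim : ∀ N : Subgroup G, N ≤ M → M ≤ Subgroup.normalizer (N : Set G) → N ≠ ⊥ → Subgroup.normalizer (N : Set G) = M) {p : ℕ} [Fact p.Prime] (hOp : Cfsg.pCore p ↥M ≠ ⊥) (N : Subgroup G) [N.Normal] (hMN : M ⊓ N = ⊥) : ¬ p ∣ Nat.card N ∧ (∀ q : ℕ, [Fact q.Prime] → ∃! Q : Sylow q ↥N, M ≤ Subgroup.normalizer ((Q : Subgroup ↥N).map N.subtype : Set G)) ∧ ((∃ q r : ℕ, q.Prime ∧ r.Prime ∧ q ≠ r ∧ q ∣ Nat.card N ∧ r ∣ Nat.card N) → ¬ IsCoatom M) := by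
  obtain ⟨P, hPM, hP, hNP⟩ := aux_P M hprim hOp
  have hp : p.Prime := Fact.out
  -- C_N(P) = 1
  have hC : N ⊓ Subgroup.centralizer (P : Set G) = ⊥ := by
    rw [eq_bot_iff, ← hMN]
    intro x hx
    refine ⟨?_, hx.1⟩
    rw [← hNP]
    exact Subgroup.centralizer_le_normalizer _ hx.2
  -- (a)
  have ha : ¬ p ∣ Nat.card N := by
    intro hdvd
    letI := conjMDMA P N
    obtain ⟨b, hb, hb1⟩ := hP.exists_fixed_point_of_prime_dvd_card_of_fixed_point (α := N) hdvd
      (a := 1) (by intro x; exact smul_one x)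
    apply hb1
    have : (b : G) ∈ N ⊓ Subgroup.centralizer (P : Set G) := by
      refine ⟨b.2, ?_⟩
      show (b : G) ∈ Subgroup.centralizer (P : Set G)
      rw [Subgroup.mem_centralizer_iff]
      intro x hx
      have := congrArg Subtype.val (hb ⟨x, hx⟩)
      rw [conjMDMA_smul_coe] at this
      exact (mul_inv_eq_iff_eq_mul.1 this)
    rw [hC, Subgroup.mem_bot] at this
    exact (Subtype.ext this).symm
  have hcop : (Nat.card N).Coprime p := (Nat.Coprime.symm ((Nat.Prime.coprime_iff_not_dvd hp).2 ha))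
  -- (b)
  have hb : ∀ q : ℕ, [Fact q.Prime] → ∃! Q : Sylow q ↥N,
      M ≤ Subgroup.normalizer ((Q : Subgroup ↥N).map N.subtype : Set G) := by
    intro q _
    obtain ⟨Q, hQ, hQuniq⟩ := existsUnique_sylowInvariant (q := q) P N hP hcop hC
    refine ⟨Q, ?_, ?_⟩
    · intro m hm
      letI := conjMDMA M N
      have h1 : SylowInvariant P N ((⟨m, hm⟩ : M) • Q) := by
        unfold SylowInvariant
        rw [map_smul_sylow, ← Subgroup.map_equiv_normalizer_eq]
        intro x hx
        refine ⟨m⁻¹ * x * m, hQ ?_, by simp [mul_assoc]⟩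
        have hm' : m⁻¹ ∈ Subgroup.normalizer (P : Set G) := by
          rw [hNP]; exact M.inv_mem hm
        have := (Subgroup.mem_normalizer_iff.1 hm' x).1 hx
        simpa using this
      have h2 := hQuniq _ h1
      have h3 := map_smul_sylow M N ⟨m, hm⟩ Q
      rw [h2] at h3
      rw [Subgroup.mem_normalizer_iff]
      intro g
      constructor
      · intro hg
        rw [h3]
        exact ⟨g, hg, rfl⟩
      · intro hg
        rw [h3] at hg
        obtain ⟨y, hy, hyg⟩ := hg
        have : y = g := by simpa using hyg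
        rwa [← this]
    · intro Q' hQ'
      exact hQuniq Q' (hPM.trans hQ')
  refine ⟨ha, hb, ?_⟩
  rintro ⟨q, r, hq, hr, hqr, hqN, hrN⟩ hco
  haveI : Fact q.Prime := ⟨hq⟩
  obtain ⟨Q, hQ, -⟩ := hb q
  have hQN : (Q : Subgroup N).map N.subtype ≤ N := Subgroup.map_subtype_le _
  have hQbot : (Q : Subgroup N) ≠ ⊥ := Sylow.ne_bot_of_dvd_card Q hqN
  have hlt : M < M ⊔ (Q : Subgroup N).map N.subtype := by
    refine lt_of_le_of_ne le_sup_left ?_
    intro h
    have h1 : (Q : Subgroup N).map N.subtype ≤ M := by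
      rw [h]; exact le_sup_right
    have h2 : (Q : Subgroup N).map N.subtype ≤ ⊥ := by
      rw [← hMN]; exact le_inf h1 hQN
    apply hQbot
    rw [eq_bot_iff]
    intro x hx
    have := h2 (Subgroup.mem_map_of_mem N.subtype hx)
    rw [Subgroup.mem_bot] at this ⊢
    exact Subtype.ext this
  have htop := hco.2 _ hlt
  have hQtop : (Q : Subgroup N) = ⊤ := by
    rw [eq_top_iff]
    intro n _
    have h1 : (n : G) ∈ ((M ⊔ (Q : Subgroup N).map N.subtype : Subgroup G) : Set G) := by
      rw [htop]; trivial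
    rw [Subgroup.coe_mul_of_left_le_normalizer_right _ _ hQ] at h1
    obtain ⟨m, hm, x, hx, hmx⟩ := h1
    have hmx : m * x = n := hmx
    have hmN : m ∈ N := by
      have : m = n * x⁻¹ := by rw [← hmx]; group
      rw [this]
      exact N.mul_mem n.2 (N.inv_mem (hQN hx))
    have hm1 : m ∈ M ⊓ N := ⟨hm, hmN⟩
    rw [hMN, Subgroup.mem_bot] at hm1
    rw [hm1, one_mul] at hmx
    obtain ⟨y, hy, hyx⟩ := hx
    have : y = n := Subtype.ext (by rw [← hmx]; exact hyx)
    rwa [← this]
  have hNq : IsPGroup q N := by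
    have := Q.isPGroup'
    rw [hQtop] at this
    exact this.of_equiv Subgroup.topEquiv
  obtain ⟨k, hk⟩ := (IsPGroup.iff_card).1 hNq
  rw [hk] at hrN
  have := (Nat.prime_dvd_prime_iff_eq hr hq).1 (hr.dvd_of_dvd_pow hrN)
  exact hqr this.symm

end Cfsg.Agent.S3749
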