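import Cfsg.Statements.S3750
import Cfsg.Agent.Lib.Helper8.FStarEquiv
import Cfsg.Agent.Lib.Helper8.Layer
import Cfsg.Agent.Lib.Helper8.LayerSub
import Cfsg.Agent.Lib.Helper2.Components
import Cfsg.Agent.Lib.Helper2.Components3
import Cfsg.Agent.Lib.Helper2.Cores

set_option autoImplicit false
open Cfsg

namespace Cfsg.Agent.S3750

open Cfsg.Agent.Lib.Helper8 Cfsg.Agent.Lib.Helper2

/-- Call a proper subgroup M of G primitive when M = N_G(N) for every non-trivial normal subgroup N of M. Let M be a primitive subgroup of the finite group G and N a normal subgroup of G with M ∩ F*(N) ≠ 1. Then F(G) = 1 and F*(N) = F*(G) = E(G); in particular every minimal normal subgroup of G is contained in N. -/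
theorem result {G : Type*} [Group G] [Finite G] (M : Subgroup G) (hM : M ≠ ⊤) (hprim : ∀ N : Subgroup G, N ≤ M → M ≤ Subgroup.normalizer (N : Set G) → N ≠ ⊥ → Subgroup.normalizer (N : Set G) = M) (N : Subgroup G) [N.Normal] (hMF : M ⊓ (Cfsg.generalizedFittingSubgroup ↥N).map N.subtype ≠ ⊥) : Cfsg.fittingSubgroup G = ⊥ ∧ (Cfsg.generalizedFittingSubgroup ↥N).map N.subtype = Cfsg.generalizedFittingSubgroup G ∧ Cfsg.generalizedFittingSubgroup G = Cfsg.layer G ∧ ∀ K : Subgroup G, K.Normal → K ≠ ⊥ → (∀ K' : Subgroup G, K'.Normal → K' ≤ K → K' = ⊥ ∨ K' = K) → K ≤ N := by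
  classical
  have hNn : N.Normal := inferInstance
  haveI hchar : (generalizedFittingSubgroup ↥N).Characteristic := by
    rw [Subgroup.characteristic_iff_map_eq]
    intro ϕ
    exact generalizedFittingSubgroup_map_equiv ϕ
  set F := (Cfsg.generalizedFittingSubgroup ↥N).map N.subtype with hF
  haveI hFn : F.Normal := ConjAct.normal_of_characteristic_of_normal
  have hFN : F ≤ N := Subgroup.map_subtype_le _
  -- the centralizer of `F` is trivial
  have hCF : Subgroup.centralizer (F : Set G) = ⊥ := by
    by_contra hne
    haveI : (Subgroup.centralizer (F : Set G)).Normal := Subgroup.normal_centralizer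
    have hDn : M ≤ Subgroup.normalizer ((M ⊓ F : Subgroup G) : Set G) := by
      refine le_trans ?_ Subgroup.inf_normalizer_le_normalizer_inf
      refine le_inf Subgroup.le_normalizer ?_
      rw [Subgroup.normalizer_eq_top]; exact le_top
    have h1 := hprim (M ⊓ F) inf_le_left hDn hMF
    have h2 : Subgroup.centralizer (F : Set G) ≤ M := by
      rw [← h1]
      refine le_trans ?_ (Subgroup.centralizer_le_normalizer _)
      exact Subgroup.centralizer_le (by exact_mod_cast (inf_le_right : M ⊓ F ≤ F))
    have h3 := hprim _ h2 (by rw [Subgroup.normalizer_eq_top]; exact le_top) hne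
    rw [Subgroup.normalizer_eq_top] at h3
    exact hM h3.symm
  have hCN : Subgroup.centralizer (N : Set G) = ⊥ := by
    rw [eq_bot_iff, ← hCF]
    exact Subgroup.centralizer_le (by exact_mod_cast hFN)
  -- F(N) = 1
  have hFitN : fittingSubgroup ↥N = ⊥ := by
    by_contra hne
    haveI : (fittingSubgroup ↥N).Normal := fittingSubgroup_normal
    haveI : Group.IsNilpotent ↥(fittingSubgroup ↥N) := fittingSubgroup_isNilpotent
    haveI : Nontrivial ↥(fittingSubgroup ↥N) := (Subgroup.nontrivial_iff_ne_bot _).2 hne
    have hZ : Subgroup.center ↥(fittingSubgroup ↥N) ≠ ⊥ := Group.IsNilpotent.center_ne_bot _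
    obtain ⟨⟨z, hz⟩, hz1⟩ := (Subgroup.ne_bot_iff_exists_ne_one.mp hZ)
    have hzc : generalizedFittingSubgroup ↥N ≤ Subgroup.centralizer {(z : ↥N)} := by
      unfold generalizedFittingSubgroup
      apply sup_le
      · have h1 := commutator_layer_fitting (G := ↥N)
        rw [Subgroup.commutator_eq_bot_iff_le_centralizer] at h1
        intro y hy
        rw [Subgroup.mem_centralizer_singleton_iff]
        exact (Subgroup.mem_centralizer_iff.1 (h1 hy) _ z.2).symm
      · intro y hy
        rw [Subgroup.mem_centralizer_singleton_iff]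
        have := Subgroup.mem_center_iff.1 hz ⟨y, hy⟩
        exact (congrArg Subtype.val this)
    have hzC : ((z : ↥N) : G) ∈ Subgroup.centralizer (F : Set G) := by
      rw [Subgroup.mem_centralizer_iff]
      rintro x ⟨y, hy, rfl⟩
      have := Subgroup.mem_centralizer_singleton_iff.1 (hzc hy)
      exact (congrArg Subtype.val this)
    rw [hCF, Subgroup.mem_bot] at hzC
    apply hz1
    apply Subtype.ext
    apply Subtype.ext
    apply Subtype.ext
    exact hzC
  have hdisj_cent : ∀ K : Subgroup G, K.Normal → K ⊓ N = ⊥ → K = ⊥ := by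
    intro K hK hKN
    have h1 : ⁅K, N⁆ = ⊥ := by
      rw [eq_bot_iff, ← hKN]
      exact Subgroup.commutator_le_inf K N
    rw [Subgroup.commutator_eq_bot_iff_le_centralizer, hCN] at h1
    exact le_bot_iff.1 h1
  have hFitG : fittingSubgroup G = ⊥ := by
    haveI : (fittingSubgroup G).Normal := fittingSubgroup_normal
    apply hdisj_cent _ inferInstance
    haveI hnil : Group.IsNilpotent ↥(fittingSubgroup G) := fittingSubgroup_isNilpotent
    have h1 : Group.IsNilpotent ↥(fittingSubgroup G ⊓ N) := by
      have h2 : Group.IsNilpotent ↥((fittingSubgroup G ⊓ N).subgroupOf (fittingSubgroup G)) :=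
        inferInstance
      exact (Group.isNilpotent_congr (Subgroup.subgroupOfEquivOfLe inf_le_left)).1 h2
    have h3 : fittingSubgroup G ⊓ N ≤ (fittingSubgroup ↥N).map N.subtype := by
      apply le_fittingSubgroup_map inf_le_right _ h1
      rw [Subgroup.normalizer_eq_top]; exact le_top
    rw [hFitN, Subgroup.map_bot] at h3
    exact le_bot_iff.1 h3
  have hgfs : generalizedFittingSubgroup G = layer G := by
    unfold generalizedFittingSubgroup
    rw [hFitG, sup_bot_eq]
  have hFlayer : F = (layer ↥N).map N.subtype := by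
    rw [hF]
    unfold generalizedFittingSubgroup
    rw [hFitN, sup_bot_eq]
  refine ⟨hFitG, ?_, hgfs, ?_⟩
  · rw [hgfs]
    apply le_antisymm
    · rw [hFlayer]
      exact layer_map_le hNn.isSubnormal
    · unfold layer
      apply sSup_le
      intro L hL
      rcases isComponent_le_or_commutator_eq_bot hL hNn.isSubnormal with h | h
      · rw [hFlayer]
        exact le_layer_map hL h
      · exfalso
        rw [Subgroup.commutator_comm, Subgroup.commutator_eq_bot_iff_le_centralizer, hCN] at h
        exact isComponent_ne_bot hL (le_bot_iff.1 h)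
  · intro K hK hKne hmin
    haveI := hK
    rcases hmin (K ⊓ N) inferInstance inf_le_left with h | h
    · exact absurd (hdisj_cent K hK h) hKne
    · exact inf_eq_left.1 h

end Cfsg.Agent.S3750
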