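import Cfsg.Statements.S3751
import Cfsg.Agent.Lib.Helper2.Cores
import Cfsg.Agent.Lib.Helper2.Nilpotent
import Cfsg.Agent.Lib.Helper7.CharP

set_option autoImplicit false
open Cfsg

namespace Cfsg.Agent.S3751

open Cfsg.Agent.Lib.Helper2 Cfsg.Agent.Lib.Helper7

variable {G : Type*} [Group G]

/-- `M` is a `p`-local subgroup. -/
def IsPLoc (p : ℕ) (M : Subgroup G) : Prop :=
  ∃ T : Subgroup G, IsPGroup p T ∧ T ≠ ⊥ ∧ M = Subgroup.normalizer (T : Set G)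

/-- `M` is a maximal `p`-local subgroup. -/
def IsMaxPLoc (p : ℕ) (M : Subgroup G) : Prop :=
  IsPLoc p M ∧ ∀ L : Subgroup G, IsPLoc p L → M ≤ L → L = M

/-- `T` is a Sylow `p`-subgroup of the subgroup `H`, via cardinality. -/
def IsSylIn (p : ℕ) (T H : Subgroup G) : Prop :=
  T ≤ H ∧ Nat.card T = p ^ (Nat.card H).factorization p

variable [Finite G] {p : ℕ} [Fact p.Prime]

theorem IsSylIn.isPGroup {T H : Subgroup G} (h : IsSylIn p T H) : IsPGroup p T :=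
  IsPGroup.of_card h.2

theorem exists_isSylIn {P H : Subgroup G} (hP : IsPGroup p P) (hPH : P ≤ H) :
    ∃ T : Subgroup G, IsSylIn p T H ∧ P ≤ T := by
  have h1 : IsPGroup p (P.subgroupOf H) :=
    hP.of_equiv (Subgroup.subgroupOfEquivOfLe hPH).symm
  obtain ⟨Q, hQ⟩ := h1.exists_le_sylow
  refine ⟨(Q : Subgroup H).map H.subtype, ⟨Subgroup.map_subtype_le _, ?_⟩, ?_⟩
  · rw [Subgroup.card_map_of_injective H.subtype_injective]
    exact Q.card_eq_multiplicity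
  · intro x hx
    exact ⟨⟨x, hPH hx⟩, hQ (Subgroup.mem_subgroupOf.2 hx), rfl⟩

/-- A `p`-subgroup of `H` containing a Sylow `p`-subgroup of `H` is equal to it. -/
theorem IsSylIn.eq_of_le {T T' H : Subgroup G} (h : IsSylIn p T H) (hT' : IsPGroup p T')
    (hTT' : T ≤ T') (hT'H : T' ≤ H) : T' = T := by
  obtain ⟨n, hn⟩ := IsPGroup.iff_card.mp hT'
  have hp : p.Prime := Fact.out
  have h1 : Nat.card T' ∣ Nat.card H := Subgroup.card_dvd_of_le hT'H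
  have h2 : n ≤ (Nat.card H).factorization p := by
    rw [hn] at h1
    exact (hp.pow_dvd_iff_le_factorization Nat.card_pos.ne').1 h1
  have h3 : Nat.card T' ≤ Nat.card T := by
    rw [hn, h.2]
    exact Nat.pow_le_pow_right hp.pos h2
  exact (Subgroup.eq_of_le_of_card_ge hTT' h3).symm

/-- Normal `p`-subgroups lie in every Sylow `p`-subgroup. -/
theorem IsSylIn.normal_le {T K H : Subgroup G} (h : IsSylIn p T H) (hK : IsPGroup p K)
    (hKH : K ≤ H) (hn : H ≤ Subgroup.normalizer (K : Set G)) : K ≤ T := by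
  have h1 : IsPGroup p (T ⊔ K : Subgroup G) :=
    IsPGroup.to_sup_of_normal_right' h.isPGroup hK (h.1.trans hn)
  have h2 := h.eq_of_le h1 le_sup_left (sup_le h.1 hKH)
  rw [← h2]
  exact le_sup_right

theorem IsPLoc.qM_ne_bot {M : Subgroup G} (hM : IsPLoc p M) : pCoreIn p M ≠ ⊥ := by
  obtain ⟨T, hT, hne, rfl⟩ := hM
  intro h
  apply hne
  have := le_pCoreIn (p := p) Subgroup.le_normalizer hT le_rfl
  rw [h] at this
  exact le_bot_iff.1 this

theorem IsPLoc.ne_bot {M : Subgroup G} (hM : IsPLoc p M) : M ≠ ⊥ := by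
  intro h
  apply hM.qM_ne_bot
  have := pCoreIn_le p M
  exact le_bot_iff.1 (this.trans h.le)

theorem IsMaxPLoc.normalizer_pCoreIn {M : Subgroup G} (hM : IsMaxPLoc p M) :
    Subgroup.normalizer (pCoreIn p M : Set G) = M :=
  hM.2 _ ⟨pCoreIn p M, pCoreIn_isPGroup p M, hM.1.qM_ne_bot, rfl⟩ (le_normalizer_pCoreIn p M)

theorem IsPLoc.ne_top {M : Subgroup G} (hM : IsPLoc p M) (hOp : pCore p G = ⊥) : M ≠ ⊤ := by
  obtain ⟨T, hT, hne, rfl⟩ := hM
  intro h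
  apply hne
  haveI : T.Normal := Subgroup.normalizer_eq_top_iff.1 h
  have := le_pCore hT
  rw [hOp] at this
  exact le_bot_iff.1 this

theorem IsPLoc.dvd_card {M : Subgroup G} (hM : IsPLoc p M) : p ∣ Nat.card M := by
  obtain ⟨T, hT, hne, rfl⟩ := hM
  have h1 : Nat.card T ∣ Nat.card (Subgroup.normalizer (T : Set G)) :=
    Subgroup.card_dvd_of_le Subgroup.le_normalizer
  refine dvd_trans ?_ h1
  obtain ⟨n, hn⟩ := IsPGroup.iff_card.mp hT
  rw [hn]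
  have hn0 : n ≠ 0 := by
    rintro rfl
    apply hne
    rw [pow_zero] at hn
    exact Subgroup.card_eq_one.1 hn
  exact dvd_pow_self p hn0

theorem IsPLoc.exists_max {L : Subgroup G} (hL : IsPLoc p L) :
    ∃ M : Subgroup G, IsMaxPLoc p M ∧ L ≤ M := by
  obtain ⟨M, hLM, hM⟩ := (Set.toFinite {M : Subgroup G | IsPLoc p M}).exists_le_maximal hL
  refine ⟨M, ⟨hM.1, ?_⟩, hLM⟩
  intro L' hL' hML'
  exact le_antisymm (hM.2 hL' hML') hML'

/-- A maximal `p`-local subgroup of characteristic `p` is primitive. -/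
theorem IsMaxPLoc.normalizer_eq {M A : Subgroup G} (hM : IsMaxPLoc p M) (hc : CharPIn p M)
    (hA : A ≠ ⊥) (hAM : A ≤ M) (hn : M ≤ Subgroup.normalizer (A : Set G)) :
    Subgroup.normalizer (A : Set G) = M := by
  have hB : pCoreIn p A ≠ ⊥ := by
    intro hB
    have hQn := le_normalizer_pCoreIn p M
    have h1 : pCoreIn p M ⊓ A ≤ pCoreIn p A := by
      apply le_pCoreIn inf_le_right ((pCoreIn_isPGroup p M).to_le inf_le_left)
      refine le_trans ?_ Subgroup.inf_normalizer_le_normalizer_inf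
      exact le_inf (hAM.trans hQn) Subgroup.le_normalizer
    rw [hB] at h1
    have h2 : A ≤ pCoreIn p M := by
      intro a ha
      apply hc
      refine Subgroup.mem_inf.mpr ⟨hAM ha, ?_⟩
      rw [Subgroup.mem_centralizer_iff]
      intro z hz
      have hzM : z ∈ M := pCoreIn_le p M hz
      have h3 : z * a * z⁻¹ * a⁻¹ ∈ pCoreIn p M ⊓ A := by
        refine Subgroup.mem_inf.mpr ⟨?_, ?_⟩
        · have h4 : a * z⁻¹ * a⁻¹ ∈ pCoreIn p M :=
            (Subgroup.mem_normalizer_iff.mp (hQn (hAM ha)) z⁻¹).mp (Subgroup.inv_mem _ hz)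
          have e : z * a * z⁻¹ * a⁻¹ = z * (a * z⁻¹ * a⁻¹) := by group
          rw [e]
          exact Subgroup.mul_mem _ hz h4
        · have h4 : z * a * z⁻¹ ∈ A := (Subgroup.mem_normalizer_iff.mp (hn hzM) a).mp ha
          exact A.mul_mem h4 (A.inv_mem ha)
      have h5 := h1 h3
      rw [Subgroup.mem_bot] at h5
      have e : z * a = (z * a * z⁻¹ * a⁻¹) * (a * z) := by group
      rw [e, h5, one_mul]
    apply hA
    rw [eq_bot_iff]
    intro a ha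
    exact h1 (Subgroup.mem_inf.mpr ⟨h2 ha, ha⟩)
  have h1 : Subgroup.normalizer (A : Set G) ≤ Subgroup.normalizer (pCoreIn p A : Set G) :=
    normalizer_le_normalizer_pCoreIn p A
  have h2 := hM.2 _ ⟨pCoreIn p A, pCoreIn_isPGroup p A, hB, rfl⟩ (hn.trans h1)
  exact le_antisymm (h1.trans h2.le) hn

theorem IsPLoc.charPIn (hloc : IsOfLocalCharacteristic p G) {M : Subgroup G} (hM : IsPLoc p M) :
    CharPIn p M := by
  obtain ⟨T, hT, hne, rfl⟩ := hM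
  rw [charPIn_iff]
  exact hloc.2 T hT hne

theorem IsMaxPLoc.normalizer_self (hloc : IsOfLocalCharacteristic p G) {M : Subgroup G}
    (hM : IsMaxPLoc p M) : Subgroup.normalizer (M : Set G) = M :=
  hM.normalizer_eq (hM.1.charPIn hloc) hM.1.ne_bot le_rfl Subgroup.le_normalizer

theorem IsPLoc.map_equiv {M : Subgroup G} (hM : IsPLoc p M) (φ : G ≃* G) :
    IsPLoc p (M.map φ.toMonoidHom) := by
  obtain ⟨T, hT, hne, rfl⟩ := hM
  refine ⟨T.map φ.toMonoidHom, hT.map _, ?_, ?_⟩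
  · intro h
    apply hne
    rw [Subgroup.map_eq_bot_iff_of_injective _ φ.injective] at h
    exact h
  · exact Subgroup.map_equiv_normalizer_eq T φ

theorem map_symm_map' (φ : G ≃* G) (A : Subgroup G) :
    (A.map φ.toMonoidHom).map φ.symm.toMonoidHom = A := by
  ext x
  simp only [Subgroup.mem_map]
  constructor
  · rintro ⟨y, ⟨z, hz, rfl⟩, rfl⟩
    simpa using hz
  · intro hx
    exact ⟨φ x, ⟨x, hx, rfl⟩, by simp⟩

theorem IsMaxPLoc.map_equiv {M : Subgroup G} (hM : IsMaxPLoc p M) (φ : G ≃* G) :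
    IsMaxPLoc p (M.map φ.toMonoidHom) := by
  refine ⟨hM.1.map_equiv φ, ?_⟩
  intro L hL hML
  have h1 : M ≤ L.map φ.symm.toMonoidHom := by
    have := Subgroup.map_mono (f := φ.symm.toMonoidHom) hML
    rwa [map_symm_map'] at this
  have h2 := hM.2 _ (hL.map_equiv φ.symm) h1
  have h3 := map_symm_map' φ.symm L
  rw [MulEquiv.symm_symm] at h3
  rw [← h3, h2]

/-- The conclusion for a pair. -/
def GoodPair (p : ℕ) (M₁ M₂ : Subgroup G) : Prop :=
  M₁ ≠ M₂ ∧ (∀ A : Subgroup G, A ≠ ⊥ → A ≤ M₁ ⊓ M₂ → (M₁ ≤ Subgroup.normalizer (A : Set G) → M₂ ⊓ Subgroup.normalizer (A : Set G) = M₁ ⊓ M₂) ∧ (M₂ ≤ Subgroup.normalizer (A : Set G) → M₁ ⊓ Subgroup.normalizer (A : Set G) = M₁ ⊓ M₂)) ∧ Subgroup.centralizer (Cfsg.pCore p ↥M₁ : Set ↥M₁) ≤ Cfsg.pCore p ↥M₁ ∧ Subgroup.centralizer (Cfsg.pCore p ↥M₂ : Set ↥M₂) ≤ Cfsg.pCore p ↥M₂ ∧ (Cfsg.pCore p ↥M₁).map M₁.subtype ⊔ (Cfsg.pCore p ↥M₂).map M₂.subtype ≤ M₁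 ⊓ M₂

theorem goodPair_of (hloc : IsOfLocalCharacteristic p G) {M₁ M₂ T : Subgroup G}
    (h₁ : IsMaxPLoc p M₁) (h₂ : IsMaxPLoc p M₂) (hne : M₁ ≠ M₂)
    (hT₁ : IsSylIn p T M₁) (hT₂ : IsSylIn p T M₂) : GoodPair p M₁ M₂ := by
  have hc₁ := h₁.1.charPIn hloc
  have hc₂ := h₂.1.charPIn hloc
  refine ⟨hne, ?_, (charPIn_iff p M₁).1 hc₁, (charPIn_iff p M₂).1 hc₂, ?_⟩
  · intro A hA hAM
    constructor
    · intro hn
      rw [h₁.normalizer_eq hc₁ hA (hAM.trans inf_le_left) hn, inf_comm]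
    · intro hn
      rw [h₂.normalizer_eq hc₂ hA (hAM.trans inf_le_right) hn]
  · have k₁ : pCoreIn p M₁ ≤ T :=
      hT₁.normal_le (pCoreIn_isPGroup p M₁) (pCoreIn_le p M₁) (le_normalizer_pCoreIn p M₁)
    have k₂ : pCoreIn p M₂ ≤ T :=
      hT₂.normal_le (pCoreIn_isPGroup p M₂) (pCoreIn_le p M₂) (le_normalizer_pCoreIn p M₂)
    exact sup_le (k₁.trans (le_inf hT₁.1 hT₂.1)) (k₂.trans (le_inf hT₁.1 hT₂.1))

/-- A `p`-subgroup of order `p ^ b` inside `H` forces `b ≤ v_p(|H|)`. -/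
theorem card_lt_of_lt {T T' : Subgroup G} (hT' : IsPGroup p T') (hlt : T < T') {H : Subgroup G}
    (hH : T' ≤ H) {a : ℕ} (hTa : Nat.card T = p ^ a) : a < (Nat.card H).factorization p := by
  have hp : p.Prime := Fact.out
  obtain ⟨n, hn⟩ := IsPGroup.iff_card.mp hT'
  have h1 : Nat.card T' ∣ Nat.card H := Subgroup.card_dvd_of_le hH
  have h2 : n ≤ (Nat.card H).factorization p := by
    rw [hn] at h1
    exact (hp.pow_dvd_iff_le_factorization Nat.card_pos.ne').1 h1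
  have h3 : Nat.card T < Nat.card T' := by
    by_contra hcon
    push Not at hcon
    have := Subgroup.eq_of_le_of_card_ge hlt.le hcon
    exact hlt.ne this
  rw [hTa, hn] at h3
  have h4 : a < n := (Nat.pow_lt_pow_iff_right hp.one_lt).1 h3
  exact lt_of_lt_of_le h4 h2

theorem core (hloc : IsOfLocalCharacteristic p G) {M₁ M₂ T : Subgroup G}
    (h₁ : IsMaxPLoc p M₁) (h₂ : IsMaxPLoc p M₂) (hne : M₁ ≠ M₂)
    (hmax : ∀ L₁ L₂ : Subgroup G, IsMaxPLoc p L₁ → IsMaxPLoc p L₂ → L₁ ≠ L₂ →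
      (Nat.card (L₁ ⊓ L₂ : Subgroup G)).factorization p
        ≤ (Nat.card (M₁ ⊓ M₂ : Subgroup G)).factorization p)
    (hT : IsSylIn p T (M₁ ⊓ M₂)) (hT1 : T ≠ ⊥) (hnot : ¬ IsSylIn p T M₁) :
    ∃ L₁ L₂ : Subgroup G, GoodPair p L₁ L₂ := by
  have hTp := hT.isPGroup
  have hTM₁ : T ≤ M₁ := hT.1.trans inf_le_left
  have hTM₂ : T ≤ M₂ := hT.1.trans inf_le_right
  obtain ⟨T', hT', hTT'⟩ := exists_isSylIn hTp hTM₁
  have hlt : T < T' := by
    refine lt_of_le_of_ne hTT' ?_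
    rintro rfl
    exact hnot hT'
  obtain ⟨x, hxT', hxN, hxT⟩ := exists_mem_normalizer_not_mem hT'.isPGroup.isNilpotent hlt
  -- `N_G(T) ≤ M₁`
  have hNT : Subgroup.normalizer (T : Set G) ≤ M₁ := by
    obtain ⟨L, hL, hNL⟩ := IsPLoc.exists_max (p := p) ⟨T, hTp, hT1, rfl⟩
    by_cases hLM : M₁ = L
    · rw [hLM]; exact hNL
    · exfalso
      have h3 := hmax M₁ L h₁ hL hLM
      set T₁ := T' ⊓ Subgroup.normalizer (T : Set G) with hT₁
      have hT₁p : IsPGroup p T₁ := hT'.isPGroup.to_le inf_le_left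
      have hlt₁ : T < T₁ := by
        refine lt_of_le_of_ne (le_inf hTT' Subgroup.le_normalizer) ?_
        intro h
        apply hxT
        rw [h]
        exact Subgroup.mem_inf.mpr ⟨hxT', hxN⟩
      have h4 := card_lt_of_lt hT₁p hlt₁ (H := M₁ ⊓ L)
        (le_inf (inf_le_left.trans hT'.1) (inf_le_right.trans hNL)) hT.2
      omega
  -- `T` is Sylow in `M₂`
  have hT₂ : IsSylIn p T M₂ := by
    obtain ⟨T'', hT'', hTT''⟩ := exists_isSylIn hTp hTM₂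
    by_cases hEq : T = T''
    · rw [hEq]; exact hT''
    · exfalso
      have hlt2 : T < T'' := lt_of_le_of_ne hTT'' hEq
      obtain ⟨y, hyT'', hyN, hyT⟩ :=
        exists_mem_normalizer_not_mem hT''.isPGroup.isNilpotent hlt2
      set T₂ := T'' ⊓ Subgroup.normalizer (T : Set G) with hT₂
      have hT₂p : IsPGroup p T₂ := hT''.isPGroup.to_le inf_le_left
      have h5 := hT.eq_of_le hT₂p (le_inf hTT'' Subgroup.le_normalizer)
        (le_inf (inf_le_right.trans hNT) (inf_le_left.trans hT''.1))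
      apply hyT
      rw [← h5]
      exact Subgroup.mem_inf.mpr ⟨hyT'', hyN⟩
  -- `x ∉ M₂`
  have hxM₂ : x ∉ M₂ := by
    intro hx
    have h5 := hT.eq_of_le (hT'.isPGroup.to_le (inf_le_left : T' ⊓ M₂ ≤ T'))
      (le_inf hTT' hTM₂) (le_inf (inf_le_left.trans hT'.1) inf_le_right)
    apply hxT
    rw [← h5]
    exact Subgroup.mem_inf.mpr ⟨hxT', hx⟩
  set M₂' := M₂.map (MulAut.conj x).toMonoidHom with hM₂'
  have h₂' : IsMaxPLoc p M₂' := h₂.map_equiv (MulAut.conj x)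
  have hne' : M₂ ≠ M₂' := by
    intro h
    apply hxM₂
    rw [← h₂.normalizer_self hloc]
    rw [Subgroup.mem_normalizer_iff_map_conj_eq]
    exact h.symm
  have hT₂' : IsSylIn p T M₂' := by
    refine ⟨?_, ?_⟩
    · have h6 : T.map (MulAut.conj x).toMonoidHom = T :=
        Subgroup.mem_normalizer_iff_map_conj_eq.1 hxN
      rw [← h6]
      exact Subgroup.map_mono hTM₂
    · rw [hT₂.2, hM₂', Subgroup.card_map_of_injective (MulAut.conj x).injective]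
  exact ⟨M₂, M₂', goodPair_of hloc h₂ h₂' hne' hT₂ hT₂'⟩

/-- Two distinct subgroups M₁, M₂ of G form a primitive pair when, for {i, j} = {1, 2}, every non-trivial normal subgroup A of M_i contained in M₁ ∩ M₂ satisfies N_{M_j}(A) = M₁ ∩ M₂; the pair has characteristic p when moreover C_{M_i}(O_p(M_i)) ≤ O_p(M_i) for both i and O_p(M₁)O_p(M₂) ≤ M₁ ∩ M₂. Let G be a finite group, p a prime dividing its order, with O_p(G) = 1 and every p-local subgroup of characteristic p. Then either G has a primitive pair of characteristic p, or every maximal p-local subgroup M of G is strongly p-embedded in G: M is a proper subgroup, p divides its order, and for every g ∉ M the order of M ∩ gMg⁻¹ is prime to p. -/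
theorem result {G : Type*} [Group G] [Finite G] {p : ℕ} [Fact p.Prime] (hloc : Cfsg.IsOfLocalCharacteristic p G) (hOp : Cfsg.pCore p G = ⊥) : (∃ M₁ M₂ : Subgroup G, M₁ ≠ M₂ ∧ (∀ A : Subgroup G, A ≠ ⊥ → A ≤ M₁ ⊓ M₂ → (M₁ ≤ Subgroup.normalizer (A : Set G) → M₂ ⊓ Subgroup.normalizer (A : Set G) = M₁ ⊓ M₂) ∧ (M₂ ≤ Subgroup.normalizer (A : Set G) → M₁ ⊓ Subgroup.normalizer (A : Set G) = M₁ ⊓ M₂)) ∧ Subgroup.centralizer (Cfsg.pCore p ↥M₁ : Set ↥M₁) ≤ Cfsg.pCore p ↥M₁ ∧ Subgroup.centralizer (Cfsg.pCore p ↥M₂ : Set ↥M₂) ≤ Cfsg.pCore p ↥M₂ ∧ (Cfsg.pCore p ↥M₁).map M₁.subtype ⊔ (Cfsg.pCore p ↥M₂).map M₂.subtype ≤ M₁ ⊓ M₂) ∨ (∀ M : Subgroup G, (∃ T : Subgroup G, IsPGroup p T ∧ T ≠ ⊥ ∧ M = Subgroup.normalizer (T : Set G)) → (∀ L : Subgroup G, (∃ T : Subgroup G, IsPGroup p T ∧ T ≠ ⊥ ∧ L = Subgroup.normalizer (T : Set G)) → M ≤ L → L = M) → M ≠ ⊤ ∧ p ∣ Nat.card M ∧ ∀ g : G, g ∉ M → ¬ p ∣ Nat.card ↥(M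 ⊓ M.map (MulAut.conj g).toMonoidHom)) := by
  classical
  have hp : p.Prime := Fact.out
  by_cases hsecond : (∀ M : Subgroup G, (∃ T : Subgroup G, IsPGroup p T ∧ T ≠ ⊥ ∧ M = Subgroup.normalizer (T : Set G)) → (∀ L : Subgroup G, (∃ T : Subgroup G, IsPGroup p T ∧ T ≠ ⊥ ∧ L = Subgroup.normalizer (T : Set G)) → M ≤ L → L = M) → M ≠ ⊤ ∧ p ∣ Nat.card M ∧ ∀ g : G, g ∉ M → ¬ p ∣ Nat.card ↥(M ⊓ M.map (MulAut.conj g).toMonoidHom))
  · exact Or.inr hsecond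
  left
  push Not at hsecond
  obtain ⟨M, hMloc, hMmax, hM⟩ := hsecond
  have hMm : IsMaxPLoc p M := ⟨hMloc, hMmax⟩
  obtain ⟨g, hgM, hg⟩ := hM (hMm.1.ne_top hOp) hMm.1.dvd_card
  -- the set of pairs
  let S : Set (Subgroup G × Subgroup G) :=
    {P | IsMaxPLoc p P.1 ∧ IsMaxPLoc p P.2 ∧ P.1 ≠ P.2}
  have hS0 : (M, M.map (MulAut.conj g).toMonoidHom) ∈ S := by
    refine ⟨hMm, hMm.map_equiv _, ?_⟩
    intro h
    apply hgM
    rw [← hMm.normalizer_self hloc, Subgroup.mem_normalizer_iff_map_conj_eq]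
    exact h.symm
  obtain ⟨⟨M₁, M₂⟩, ⟨h₁, h₂, hne⟩, hmax⟩ := Set.exists_max_image S
    (fun P => (Nat.card (P.1 ⊓ P.2 : Subgroup G)).factorization p) (Set.toFinite S) ⟨_, hS0⟩
  simp only at h₁ h₂ hne hmax
  have hmax' : ∀ L₁ L₂ : Subgroup G, IsMaxPLoc p L₁ → IsMaxPLoc p L₂ → L₁ ≠ L₂ →
      (Nat.card (L₁ ⊓ L₂ : Subgroup G)).factorization p
        ≤ (Nat.card (M₁ ⊓ M₂ : Subgroup G)).factorization p :=
    fun L₁ L₂ k₁ k₂ k₃ => hmax (L₁, L₂) ⟨k₁, k₂, k₃⟩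
  have hpos : 1 ≤ (Nat.card (M₁ ⊓ M₂ : Subgroup G)).factorization p := by
    refine le_trans ?_ (hmax _ hS0)
    exact (hp.dvd_iff_one_le_factorization Nat.card_pos.ne').1 hg
  obtain ⟨T, hT, -⟩ := exists_isSylIn (p := p) (P := ⊥) (H := M₁ ⊓ M₂) IsPGroup.of_bot bot_le
  have hT1 : T ≠ ⊥ := by
    rintro rfl
    have := hT.2
    rw [Subgroup.card_bot] at this
    have h2 : p ^ 1 ≤ p ^ (Nat.card (M₁ ⊓ M₂ : Subgroup G)).factorization p :=
      Nat.pow_le_pow_right hp.pos hpos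
    rw [← this, pow_one] at h2
    exact absurd h2 (not_le.2 hp.one_lt)
  have hfinish : ∀ L₁ L₂ : Subgroup G, GoodPair p L₁ L₂ → ∃ M₁ M₂ : Subgroup G, M₁ ≠ M₂ ∧ (∀ A : Subgroup G, A ≠ ⊥ → A ≤ M₁ ⊓ M₂ → (M₁ ≤ Subgroup.normalizer (A : Set G) → M₂ ⊓ Subgroup.normalizer (A : Set G) = M₁ ⊓ M₂) ∧ (M₂ ≤ Subgroup.normalizer (A : Set G) → M₁ ⊓ Subgroup.normalizer (A : Set G) = M₁ ⊓ M₂)) ∧ Subgroup.centralizer (Cfsg.pCore p ↥M₁ : Set ↥M₁) ≤ Cfsg.pCore p ↥M₁ ∧ Subgroup.centralizer (Cfsg.pCore p ↥M₂ : Set ↥M₂) ≤ Cfsg.pCore p ↥M₂ ∧ (Cfsg.pCore p ↥M₁).map M₁.subtype ⊔ (Cfsg.pCore p ↥M₂).map M₂.subtype ≤ M₁ ⊓ M₂ :=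
    fun L₁ L₂ h => ⟨L₁, L₂, h⟩
  by_cases hs₁ : IsSylIn p T M₁
  · by_cases hs₂ : IsSylIn p T M₂
    · exact hfinish _ _ (goodPair_of hloc h₁ h₂ hne hs₁ hs₂)
    · have hT' : IsSylIn p T (M₂ ⊓ M₁) := by rw [inf_comm]; exact hT
      obtain ⟨L₁, L₂, hL⟩ := core hloc h₂ h₁ hne.symm
        (fun L₁ L₂ k₁ k₂ k₃ => by rw [inf_comm M₂ M₁]; exact hmax' L₁ L₂ k₁ k₂ k₃) hT' hT1 hs₂
      exact hfinish _ _ hL
  · obtain ⟨L₁, L₂, hL⟩ := core hloc h₁ h₂ hne hmax' hT hT1 hs₁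
    exact hfinish _ _ hL

end Cfsg.Agent.S3751
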