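import Cfsg.Statements.S3753
import Cfsg.Agent.Lib.Helper6.Pp2
import Cfsg.Agent.Lib.Helper1.QuadStable9

set_option autoImplicit false
open Cfsg

namespace Cfsg.Agent.S3753

/-- Two distinct subgroups M₁, M₂ of G form a primitive pair when, for {i, j} = {1, 2}, every non-trivial normal subgroup A of M_i contained in M₁ ∩ M₂ satisfies N_{M_j}(A) = M₁ ∩ M₂; the pair has characteristic p when moreover C_{M_i}(O_p(M_i)) ≤ O_p(M_i) for both i and O_p(M₁)O_p(M₂) ≤ M₁ ∩ M₂. If the finite group G has a primitive pair (M₁, M₂) of characteristic p for some prime p, then M₁ or M₂ has non-abelian Sylow 2-subgroups. In particular no group of odd order has a primitive pair of characteristic p. -/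
theorem result {G : Type*} [Group G] [Finite G] {p : ℕ} [Fact p.Prime] (M₁ M₂ : Subgroup G) (hne : M₁ ≠ M₂) (hP : ∀ A : Subgroup G, A ≠ ⊥ → A ≤ M₁ ⊓ M₂ → (M₁ ≤ Subgroup.normalizer (A : Set G) → M₂ ⊓ Subgroup.normalizer (A : Set G) = M₁ ⊓ M₂) ∧ (M₂ ≤ Subgroup.normalizer (A : Set G) → M₁ ⊓ Subgroup.normalizer (A : Set G) = M₁ ⊓ M₂)) (hc₁ : Subgroup.centralizer (Cfsg.pCore p ↥M₁ : Set ↥M₁) ≤ Cfsg.pCore p ↥M₁) (hc₂ : Subgroup.centralizer (Cfsg.pCore p ↥M₂ : Set ↥M₂) ≤ Cfsg.pCore p ↥M₂) (hO : (Cfsg.pCore p ↥M₁).map M₁.subtype ⊔ (Cfsg.pCore p ↥M₂).map M₂.subtype ≤ M₁ ⊓ M₂) : (∃ S : Sylow 2 ↥M₁, ¬ IsMulCommutative (S : Subgroup ↥M₁)) ∨ (∃ S : Sylow 2 ↥M₂, ¬ IsMulCommutative (S : Subgroup ↥M₂)) := by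
  by_contra hcon
  rw [not_or] at hcon
  obtain ⟨h1, h2⟩ := hcon
  have hab₁ : ∀ S : Sylow 2 ↥M₁, IsMulCommutative (S : Subgroup ↥M₁) := by
    intro S
    by_contra h
    exact h1 ⟨S, h⟩
  have hab₂ : ∀ S : Sylow 2 ↥M₂, IsMulCommutative (S : Subgroup ↥M₂) := by
    intro S
    by_contra h
    exact h2 ⟨S, h⟩
  by_cases hp2 : p = 2
  · subst hp2
    exact Cfsg.Agent.Lib.Helper6.Pp.main_comm M₁ M₂ hne hP hc₁ hc₂ hO hab₁ hab₂
  · have hst₁ : Cfsg.IsActionPStable p ↥M₁ :=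
      Cfsg.Agent.Lib.Helper1.QuadSL2.isActionPStable_of_comm_sylow hp2 hab₁
    have hst₂ : Cfsg.IsActionPStable p ↥M₂ :=
      Cfsg.Agent.Lib.Helper1.QuadSL2.isActionPStable_of_comm_sylow hp2 hab₂
    exact Cfsg.Agent.Lib.Helper6.Pp.main_stable M₁ M₂ hne hP hc₁ hc₂ hO hst₁ hst₂

end Cfsg.Agent.S3753
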