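import Cfsg.Statements.S3754
import Mathlib
import Cfsg.Agent.Lib.Helper2.HHDual
import Cfsg.Agent.Lib.Helper2.FrattiniSub
import Cfsg.Agent.S3734
import Cfsg.Agent.Lib.Helper1.CoprimeLift
import Cfsg.Agent.Lib.Helper7.Subnormal
import Cfsg.Agent.Lib.Helper7.PCoreSub
import Cfsg.Agent.Lib.Helper1.PConstrainedOfPSolvable

set_option autoImplicit false
open Cfsg

namespace Cfsg.Agent.S3754

open Cfsg.Agent.Lib.Helper7 (pResidualIn pCoreIn)
open scoped commutatorElement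

theorem exists_lift {G H : Type*} [Group G] [Group H] [Finite G] (p : ℕ) [hp : Fact p.Prime]
    (f : G →* H) (g : G) (h : (orderOf (f g)).Coprime p) :
    ∃ n : ℕ, (orderOf (g ^ n)).Coprime p ∧ f (g ^ n) = f g := by
  obtain ⟨e, m, hm, hem⟩ := Nat.exists_eq_pow_mul_and_not_dvd (orderOf_pos g).ne' p hp.out.ne_one
  have hcop : (p ^ e).Coprime (orderOf (f g)) := (Nat.Coprime.pow_right e h).symm
  obtain ⟨u, hu⟩ := exists_pow_eq_self_of_coprime hcop
  refine ⟨p ^ e * u, ?_, ?_⟩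
  · have h1 : orderOf (g ^ (p ^ e * u)) ∣ m := by
      apply orderOf_dvd_of_pow_eq_one
      rw [← pow_mul, mul_right_comm, pow_mul, ← hem, pow_orderOf_eq_one, one_pow]
    exact Nat.Coprime.coprime_dvd_left h1
      (Nat.coprime_comm.mp ((hp.out.coprime_iff_not_dvd).mpr hm))
  · rw [map_pow, pow_mul, hu]

section
variable {M : Type*} [Group M] (Q : Subgroup M) [Q.Normal]

local notation "π" => QuotientGroup.mk' Q

abbrev cj (x : M) : M →* M := (MulAut.conj x).toMonoidHom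

abbrev LL (A : Subgroup M) (x : M) : Subgroup M := A ⊔ A.map (MulAut.conj x).toMonoidHom

structure Setup (p : ℕ) (A : Subgroup M) (Bb Kb : Subgroup (M ⧸ Q)) : Prop where
  hQ : IsPGroup p Q
  hA : IsPGroup p A
  hKn : Kb.Normal
  hKc : (Nat.card Kb).Coprime p
  hcomm : ∀ a ∈ A, ∀ b ∈ A, π a * π b = π b * π a
  hB : Bb ≤ A.map π
  hidx : Bb.relIndex (A.map π) = p

def SS (A : Subgroup M) (Bb Kb : Subgroup (M ⧸ Q)) (x : M) : Prop :=
  π x ∈ Kb ∧ (∀ b ∈ Bb, π x * b = b * π x) ∧ ¬ ∀ a ∈ A, π x * π a = π a * π x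

theorem map_conj (A : Subgroup M) (x : M) :
    (A.map (MulAut.conj x).toMonoidHom).map π =
      (A.map π).map (MulAut.conj (π x)).toMonoidHom := by
  rw [Subgroup.map_map, Subgroup.map_map]
  congr 1

theorem map_LL (A : Subgroup M) (x : M) :
    (LL A x).map π = A.map π ⊔ (A.map π).map (MulAut.conj (π x)).toMonoidHom := by
  show (A ⊔ A.map (MulAut.conj x).toMonoidHom).map π = _
  rw [Subgroup.map_sup, map_conj]

variable {Q}
variable [Finite M] {p : ℕ} [hp : Fact p.Prime] {A : Subgroup M} {Bb Kb : Subgroup (M ⧸ Q)}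

theorem Setup.central (h : Setup Q p A Bb Kb) {x : M} (hx : SS Q A Bb Kb x) :
    ∀ b ∈ Bb, ∀ l ∈ (LL A x).map π, b * l = l * b := by
  intro b hb
  have hle : (LL A x).map π ≤ Subgroup.centralizer {b} := by
    rw [map_LL]
    apply sup_le
    · rintro _ ⟨a, ha, rfl⟩
      rw [Subgroup.mem_centralizer_singleton_iff]
      obtain ⟨b', hb', rfl⟩ := h.hB hb
      exact h.hcomm a ha b' hb'
    · rintro _ ⟨_, ⟨a, ha, rfl⟩, rfl⟩
      rw [Subgroup.mem_centralizer_singleton_iff]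
      have h1 : π x * b = b * π x := hx.2.1 b hb
      have h2 : π a * b = b * π a := by
        obtain ⟨b', hb', rfl⟩ := h.hB hb
        exact h.hcomm a ha b' hb'
      show (π x * π a * (π x)⁻¹) * b = b * (π x * π a * (π x)⁻¹)
      have h3 : (π x)⁻¹ * b = b * (π x)⁻¹ := by
        rw [eq_mul_inv_iff_mul_eq, mul_assoc, ← h1, ← mul_assoc, inv_mul_cancel, one_mul]
      calc π x * π a * (π x)⁻¹ * b = π x * π a * (b * (π x)⁻¹) := by rw [mul_assoc, h3]
        _ = π x * (π a * b) * (π x)⁻¹ := by group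
        _ = π x * (b * π a) * (π x)⁻¹ := by rw [h2]
        _ = (π x * b) * π a * (π x)⁻¹ := by group
        _ = (b * π x) * π a * (π x)⁻¹ := by rw [h1]
        _ = b * (π x * π a * (π x)⁻¹) := by group
  intro l hl
  exact (Subgroup.mem_centralizer_singleton_iff.mp (hle hl)).symm

theorem Setup.map_LL_le (h : Setup Q p A Bb Kb) {x : M} (hx : π x ∈ Kb) :
    (LL A x).map π ≤ A.map π ⊔ Kb := by
  haveI := h.hKn
  rw [map_LL]
  apply sup_le le_sup_left
  rintro _ ⟨_, ⟨a, ha, rfl⟩, rfl⟩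
  show π x * π a * (π x)⁻¹ ∈ _
  have e : π x * π a * (π x)⁻¹ = π a * (((π a)⁻¹ * π x * (π a)⁻¹⁻¹) * (π x)⁻¹) := by group
  rw [e]
  apply Subgroup.mul_mem_sup (Subgroup.mem_map_of_mem _ ha)
  exact Kb.mul_mem (h.hKn.conj_mem _ hx _) (Kb.inv_mem hx)

theorem Setup.isPGroup_map (h : Setup Q p A Bb Kb) : IsPGroup p (A.map π) := h.hA.map _

theorem Setup.inf_eq_bot (h : Setup Q p A Bb Kb) : A.map π ⊓ Kb = ⊥ := by
  rw [← disjoint_iff]
  apply Subgroup.disjoint_of_coprime_natCard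
  obtain ⟨k, hk⟩ := IsPGroup.iff_card.mp h.isPGroup_map
  rw [hk]
  exact Nat.Coprime.pow_left k (Nat.coprime_comm.mp h.hKc)

theorem Setup.coprime_mem_K (h : Setup Q p A Bb Kb) {x : M} (hx : π x ∈ Kb) {g : M}
    (hg : g ∈ LL A x) (hc : (orderOf g).Coprime p) : π g ∈ Kb := by
  haveI := h.hKn
  have h1 : π g ∈ A.map π ⊔ Kb := h.map_LL_le hx (Subgroup.mem_map_of_mem _ hg)
  have h2 : (orderOf (π g)).Coprime p := Nat.Coprime.coprime_dvd_left (orderOf_map_dvd _ g) hc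
  have h3 : A.map π ≤ Subgroup.normalizer (Kb : Set (M ⧸ Q)) := by
    rw [Subgroup.normalizer_eq_top]; exact le_top
  exact Cfsg.Agent.Lib.Helper7.mem_of_mem_sup_of_coprime h.isPGroup_map h3 h1 h2

theorem Setup.pRes_le (h : Setup Q p A Bb Kb) {x : M} (hx : π x ∈ Kb) :
    pResidualIn p (LL A x) ≤ Kb.comap π := by
  rw [Cfsg.Agent.Lib.Helper7.pResidualIn_eq_closure, Subgroup.closure_le]
  rintro g ⟨hg, hc⟩
  exact h.coprime_mem_K hx hg hc

theorem Setup.centralizes_of_normalizes (h : Setup Q p A Bb Kb) {x : M} (hx : π x ∈ Kb)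
    (hn : (A.map π).map (MulAut.conj (π x)).toMonoidHom ≤ A.map π) :
    ∀ a ∈ A, π x * π a = π a * π x := by
  intro a ha
  have h1 : π x * π a * (π x)⁻¹ ∈ A.map π :=
    hn ⟨π a, Subgroup.mem_map_of_mem _ ha, rfl⟩
  have h2 : π x * π a * (π x)⁻¹ * (π a)⁻¹ ∈ A.map π ⊓ Kb := by
    refine ⟨(A.map π).mul_mem h1 ((A.map π).inv_mem (Subgroup.mem_map_of_mem _ ha)), ?_⟩
    have e : π x * π a * (π x)⁻¹ * (π a)⁻¹ = π x * (π a * (π x)⁻¹ * (π a)⁻¹) := by group
    rw [e]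
    exact Kb.mul_mem hx (h.hKn.conj_mem _ (Kb.inv_mem hx) _)
  rw [h.inf_eq_bot, Subgroup.mem_bot] at h2
  have h3 := mul_inv_eq_one.mp h2
  rw [mul_inv_eq_iff_eq_mul] at h3
  exact h3

theorem Setup.exists_res_conj (h : Setup Q p A Bb Kb) {x : M} (hx : SS Q A Bb Kb x) :
    ∃ r ∈ pResidualIn p (LL A x),
      (A.map π).map (MulAut.conj (π r)).toMonoidHom =
        (A.map π).map (MulAut.conj (π x)).toMonoidHom := by
  haveI := h.hKn
  obtain ⟨Ab, hAb⟩ : ∃ Ab, Ab = A.map π := ⟨_, rfl⟩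
  obtain ⟨Lb, hLb⟩ : ∃ Lb, Lb = (LL A x).map π := ⟨_, rfl⟩
  have hAbp : IsPGroup p Ab := hAb ▸ h.isPGroup_map
  have hAbL : Ab ≤ Lb := by rw [hAb, hLb]; exact Subgroup.map_mono le_sup_left
  have hAb'L : Ab.map (MulAut.conj (π x)).toMonoidHom ≤ Lb := by
    rw [hLb, map_LL, hAb]; exact le_sup_right
  have hLle : Lb ≤ Ab ⊔ Kb := by rw [hLb, hAb]; exact h.map_LL_le hx.1
  have hinf : Ab ⊓ Kb = ⊥ := by rw [hAb]; exact h.inf_eq_bot
  have hcop : (Ab.relIndex Lb).Coprime p := by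
    have h1 : Ab.relIndex Lb ∣ Ab.relIndex (Ab ⊔ Kb) := by
      rw [← Subgroup.relIndex_mul_relIndex Ab Lb (Ab ⊔ Kb) hAbL hLle]; exact dvd_mul_right _ _
    have h2 : Ab.relIndex (Ab ⊔ Kb) = Nat.card Kb := by
      have h3 := Cfsg.Agent.Lib.Helper2.card_sup_mul_card_inf Ab Kb
      rw [hinf, Subgroup.card_bot, mul_one] at h3
      have h4 : Nat.card Ab * Ab.relIndex (Ab ⊔ Kb) = Nat.card (Ab ⊔ Kb : Subgroup _) := by
        have := Subgroup.relIndex_mul_relIndex ⊥ Ab (Ab ⊔ Kb) bot_le le_sup_left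
        rwa [Subgroup.relIndex_bot_left, Subgroup.relIndex_bot_left] at this
      rw [h3] at h4
      exact Nat.eq_of_mul_eq_mul_left Nat.card_pos h4
    rw [h2] at h1
    exact Nat.Coprime.coprime_dvd_left h1 h.hKc
  have hcard : Nat.card (Ab.map (MulAut.conj (π x)).toMonoidHom) = Nat.card Ab :=
    Subgroup.card_map_of_injective (MulAut.conj (π x)).injective
  obtain ⟨k, hkL, hk⟩ := Cfsg.Agent.Lib.Helper1.exists_conj_smul_eq_of_sylow_in Lb Ab _ hAbL hAb'L
    hAbp (hAbp.map _) hcop hcard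
  have hk' : Ab.map (MulAut.conj k).toMonoidHom = Ab.map (MulAut.conj (π x)).toMonoidHom := hk
  have hk2 : k ∈ Kb ⊔ Ab := by rw [sup_comm]; exact hLle hkL
  obtain ⟨kb, hkb, ab, hab, rfl⟩ := Subgroup.mem_sup_of_normal_left.mp hk2
  have hkbL : kb ∈ Lb := by
    have e : kb = kb * ab * ab⁻¹ := by group
    rw [e]; exact Lb.mul_mem hkL (Lb.inv_mem (hAbL hab))
  rw [hLb] at hkbL
  obtain ⟨g, hg, hgk⟩ := hkbL
  have hord : (orderOf (π g)).Coprime p := by
    rw [hgk]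
    exact Nat.Coprime.coprime_dvd_left (Subgroup.orderOf_dvd_natCard Kb hkb) h.hKc
  obtain ⟨n, hn1, hn2⟩ := exists_lift p π g hord
  refine ⟨g ^ n, Cfsg.Agent.Lib.Helper7.mem_pResidualIn_of_coprime
    ((LL A x).pow_mem hg n) hn1, ?_⟩
  rw [hn2, hgk, ← hAb, ← hk']
  have h5 : Ab.map (MulAut.conj ab).toMonoidHom = Ab :=
    Subgroup.mem_normalizer_iff_map_conj_eq.mp (Subgroup.le_normalizer hab)
  conv_lhs => rw [← h5]
  rw [Subgroup.map_map]
  congr 1
  ext a
  simp [mul_assoc]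

theorem Setup.exists_good (h : Setup Q p A Bb Kb) {x : M} (hx : SS Q A Bb Kb x)
    (hmin : ∀ y, SS Q A Bb Kb y → Nat.card (LL A x) ≤ Nat.card (LL A y)) :
    ∃ r, SS Q A Bb Kb r ∧ r ∈ pResidualIn p (LL A r) := by
  obtain ⟨r, hr, hrc⟩ := h.exists_res_conj hx
  have hrL : r ∈ LL A x := Cfsg.Agent.Lib.Helper7.pResidualIn_le p _ hr
  have hLr : LL A r ≤ LL A x := by
    apply sup_le le_sup_left
    rintro _ ⟨a, ha, rfl⟩
    show r * a * r⁻¹ ∈ _
    exact (LL A x).mul_mem ((LL A x).mul_mem hrL ((le_sup_left : A ≤ LL A x) ha))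
      ((LL A x).inv_mem hrL)
  have hrS : SS Q A Bb Kb r := by
    refine ⟨h.pRes_le hx.1 hr, ?_, ?_⟩
    · intro b hb
      exact (h.central hx b hb (π r) (Subgroup.mem_map_of_mem _ hrL)).symm
    · intro hc
      apply hx.2.2
      apply h.centralizes_of_normalizes hx.1
      rw [← hrc]
      rintro _ ⟨_, ⟨a, ha, rfl⟩, rfl⟩
      show π r * π a * (π r)⁻¹ ∈ _
      rw [hc a ha, mul_inv_cancel_right]
      exact Subgroup.mem_map_of_mem _ ha
  have hEq : LL A r = LL A x := Subgroup.eq_of_le_of_card_ge hLr (hmin r hrS)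
  refine ⟨r, hrS, ?_⟩
  rw [hEq]
  exact hr

theorem Setup.final (h : Setup Q p A Bb Kb) {x : M} (hx : SS Q A Bb Kb x)
    (hxR : x ∈ pResidualIn p (LL A x)) :
    ⁅pResidualIn p (LL A x), A⁆ = pResidualIn p (LL A x) ∧
    (A ⊓ pCoreIn p (LL A x)).relIndex A = p ∧
    ⁅A ⊓ pCoreIn p (LL A x), LL A x⁆ ≤ Q := by
  obtain ⟨L, hL⟩ : ∃ L, L = LL A x := ⟨_, rfl⟩
  rw [← hL] at hxR ⊢
  obtain ⟨R, hR⟩ : ∃ R, R = pResidualIn p L := ⟨_, rfl⟩
  rw [← hR] at hxR ⊢
  have hAL : A ≤ L := hL ▸ le_sup_left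
  have hRL : R ≤ L := hR ▸ Cfsg.Agent.Lib.Helper7.pResidualIn_le p L
  have hLR : L ≤ Subgroup.normalizer (R : Set M) :=
    hR ▸ Cfsg.Agent.Lib.Helper7.le_normalizer_pResidualIn p L
  have hxL : x ∈ L := hRL hxR
  have hcentral : ∀ b ∈ Bb, ∀ l ∈ L, b * π l = π l * b := by
    intro b hb l hl
    exact h.central hx b hb (π l) (Subgroup.mem_map_of_mem _ (hL ▸ hl))
  have hD : A ⊓ pCoreIn p L = A ⊓ Bb.comap π := by
    ext a
    simp only [Subgroup.mem_inf, Subgroup.mem_comap]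
    constructor
    · rintro ⟨ha, haO⟩
      refine ⟨ha, ?_⟩
      have hcO : x * a * x⁻¹ * a⁻¹ ∈ pCoreIn p L := by
        have := (Subgroup.mem_normalizer_iff.mp
          (Cfsg.Agent.Lib.Helper7.le_normalizer_pCoreIn p L hxL) a).mp haO
        exact (pCoreIn p L).mul_mem this ((pCoreIn p L).inv_mem haO)
      have hcK : π (x * a * x⁻¹ * a⁻¹) ∈ Kb := by
        have e : π (x * a * x⁻¹ * a⁻¹) = π x * (π a * (π x)⁻¹ * (π a)⁻¹) := by
          simp [mul_assoc]
        rw [e]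
        exact Kb.mul_mem hx.1 (h.hKn.conj_mem _ (Kb.inv_mem hx.1) _)
      have hc1 : π (x * a * x⁻¹ * a⁻¹) = 1 := by
        rw [← orderOf_eq_one_iff]
        have h1 : orderOf (π (x * a * x⁻¹ * a⁻¹)) ∣ orderOf (x * a * x⁻¹ * a⁻¹) :=
          orderOf_map_dvd _ _
        obtain ⟨k, hk⟩ := (IsPGroup.iff_orderOf.mp
          (Cfsg.Agent.Lib.Helper7.pCoreIn_isPGroup p L)) ⟨_, hcO⟩
        rw [Subgroup.orderOf_mk] at hk
        rw [hk] at h1
        have h2 : orderOf (π (x * a * x⁻¹ * a⁻¹)) ∣ Nat.card Kb :=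
          Subgroup.orderOf_dvd_natCard Kb hcK
        exact Nat.eq_one_of_dvd_coprimes (Nat.Coprime.pow_left k (Nat.coprime_comm.mp h.hKc)) h1 h2
      have hcomm : π x * π a = π a * π x := by
        simp only [map_mul, map_inv] at hc1
        have h3 := mul_inv_eq_one.mp hc1
        rw [mul_inv_eq_iff_eq_mul] at h3
        exact h3
      -- the subgroup of `Ab` commuting with `π x`
      obtain ⟨E, hE⟩ : ∃ E, E = A.map π ⊓ Subgroup.centralizer {π x} := ⟨_, rfl⟩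
      have hBE : Bb ≤ E := by
        rw [hE]
        refine le_inf h.hB ?_
        intro b hb
        rw [Subgroup.mem_centralizer_singleton_iff]
        exact (hx.2.1 b hb).symm
      have hEA : E ≤ A.map π := hE ▸ inf_le_left
      have haE : π a ∈ E := by
        rw [hE]
        refine ⟨Subgroup.mem_map_of_mem _ ha, ?_⟩
        show π a ∈ Subgroup.centralizer {π x}
        rw [Subgroup.mem_centralizer_singleton_iff]
        exact hcomm.symm
      have hmul := Subgroup.relIndex_mul_relIndex Bb E (A.map π) hBE hEA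
      rw [h.hidx] at hmul
      have hdvd : E.relIndex (A.map π) ∣ p := ⟨_, by rw [mul_comm]; exact hmul.symm⟩
      rcases (Nat.dvd_prime hp.out).mp hdvd with h1 | h1
      · exfalso
        apply hx.2.2
        intro a' ha'
        have : π a' ∈ E := Subgroup.relIndex_eq_one.mp h1 (Subgroup.mem_map_of_mem _ ha')
        rw [hE] at this
        exact (Subgroup.mem_centralizer_singleton_iff.mp this.2).symm
      · rw [h1] at hmul
        have h2 : Bb.relIndex E = 1 := by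
          have : Bb.relIndex E * p = 1 * p := by rw [hmul, one_mul]
          exact Nat.eq_of_mul_eq_mul_right hp.out.pos this
        exact Subgroup.relIndex_eq_one.mp h2 haE
    · rintro ⟨ha, haB⟩
      refine ⟨ha, ?_⟩
      have hNp : IsPGroup p (L ⊓ Bb.comap π : Subgroup M) := by
        rintro ⟨n, hnL, hnB⟩
        obtain ⟨a', ha', hpa'⟩ := h.hB hnB
        obtain ⟨k, hk⟩ := h.hA ⟨a', ha'⟩
        have hk' : a' ^ p ^ k = 1 := by
          have := congrArg Subtype.val hk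
          simpa using this
        have h1 : (π n) ^ p ^ k = 1 := by
          rw [← hpa', ← map_pow, hk', map_one]
        have h2 : n ^ p ^ k ∈ Q := by
          rw [← map_pow] at h1
          exact (QuotientGroup.eq_one_iff _).mp h1
        obtain ⟨j, hj⟩ := h.hQ ⟨n ^ p ^ k, h2⟩
        have hj' : (n ^ p ^ k) ^ p ^ j = 1 := by
          have := congrArg Subtype.val hj
          simpa using this
        refine ⟨k + j, Subtype.ext ?_⟩
        show n ^ p ^ (k + j) = 1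
        rw [pow_add, pow_mul]
        exact hj'
      have hkey : ∀ l ∈ L, ∀ n ∈ (L ⊓ Bb.comap π : Subgroup M),
          l * n * l⁻¹ ∈ (L ⊓ Bb.comap π : Subgroup M) := by
        rintro l hl n ⟨hnL, hnB⟩
        refine ⟨L.mul_mem (L.mul_mem hl hnL) (L.inv_mem hl), ?_⟩
        show π (l * n * l⁻¹) ∈ Bb
        have h1 := hcentral (π n) hnB l hl
        have e : π (l * n * l⁻¹) = π n := by
          rw [map_mul, map_mul, map_inv, ← h1, mul_inv_cancel_right]
        rw [e]; exact hnB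
      have hnorm : L ≤ Subgroup.normalizer ((L ⊓ Bb.comap π : Subgroup M) : Set M) := by
        intro l hl
        rw [Subgroup.mem_normalizer_iff]
        intro n
        constructor
        · exact hkey l hl n
        · intro hn
          have := hkey l⁻¹ (L.inv_mem hl) _ hn
          have e : l⁻¹ * (l * n * l⁻¹) * l⁻¹⁻¹ = n := by group
          rwa [e] at this
      exact Cfsg.Agent.Lib.Helper7.le_pCoreIn inf_le_left hNp hnorm ⟨hAL ha, haB⟩
  refine ⟨?_, ?_, ?_⟩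
  · apply le_antisymm
    · rw [Subgroup.commutator_le]
      intro r hr a ha
      have e : ⁅r, a⁆ = r * (a * r⁻¹ * a⁻¹) := by rw [commutatorElement_def]; group
      rw [e]
      exact R.mul_mem hr ((Subgroup.mem_normalizer_iff.mp (hLR (hAL ha)) r⁻¹).mp (R.inv_mem hr))
    · obtain ⟨C, hC⟩ : ∃ C, C = ⁅R, A⁆ := ⟨_, rfl⟩
      rw [← hC]
      have hAC : A ≤ Subgroup.normalizer (C : Set M) := by
        intro a ha
        rw [Subgroup.mem_normalizer_iff_map_conj_eq]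
        have h1 : R.map (MulAut.conj a : M →* M) = R :=
          Subgroup.mem_normalizer_iff_map_conj_eq.mp (hLR (hAL ha))
        have h2 : A.map (MulAut.conj a : M →* M) = A :=
          Subgroup.mem_normalizer_iff_map_conj_eq.mp (Subgroup.le_normalizer ha)
        rw [hC, Subgroup.map_commutator, h1, h2]
      have hLAC : L ≤ A ⊔ C := by
        rw [hL]
        apply sup_le le_sup_left
        rintro _ ⟨a, ha, rfl⟩
        show x * a * x⁻¹ ∈ _
        have e : x * a * x⁻¹ = a * ⁅a⁻¹, x⁆ := by rw [commutatorElement_def]; group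
        rw [e]
        apply Subgroup.mul_mem_sup ha
        rw [hC, Subgroup.commutator_comm]
        exact Subgroup.commutator_mem_commutator (A.inv_mem ha) hxR
      calc R = Subgroup.closure {g : M | g ∈ L ∧ (orderOf g).Coprime p} := by
            rw [hR]; exact Cfsg.Agent.Lib.Helper7.pResidualIn_eq_closure p L
        _ ≤ C := by
          rw [Subgroup.closure_le]
          rintro g ⟨hg, hc⟩
          exact Cfsg.Agent.Lib.Helper7.mem_of_mem_sup_of_coprime h.hA hAC (hLAC hg) hc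
  · rw [hD, Subgroup.inf_relIndex_left, Subgroup.relIndex_comap]; exact h.hidx
  · rw [hD, Subgroup.commutator_le]
    rintro d ⟨hdA, hdB⟩ l hl
    rw [← QuotientGroup.eq_one_iff]
    show π ⁅d, l⁆ = 1
    rw [map_commutatorElement, commutatorElement_eq_one_iff_mul_comm]
    exact hcentral (π d) hdB l hl

end

theorem relIndex_eq_prime_of_sup_zpowers {G : Type*} [Group G] {p : ℕ} [hp : Fact p.Prime]
    {B A : Subgroup G} [hAc : IsMulCommutative A] (hBA : B ≤ A) {a : G} (ha : a ∈ A)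
    (hap : a ^ p = 1) (hsup : B ⊔ Subgroup.zpowers a = A) (hne : B ≠ A) : B.relIndex A = p := by
  have hZA : Subgroup.zpowers a ≤ A := by rw [Subgroup.zpowers_le]; exact ha
  haveI hBn : (B.subgroupOf A).Normal := by
    constructor
    intro n hn g
    have : g * n * g⁻¹ = n := by
      rw [mul_comm' g n, mul_inv_cancel_right]
    rw [this]; exact hn
  have h1 : B.subgroupOf A ⊔ (Subgroup.zpowers a).subgroupOf A = ⊤ := by
    rw [← Subgroup.subgroupOf_sup hBA hZA, hsup, Subgroup.subgroupOf_self]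
  have h2 : B.relIndex A = (B.subgroupOf A).relIndex ((Subgroup.zpowers a).subgroupOf A) := by
    rw [← Subgroup.relIndex_sup_left (K := B.subgroupOf A)
      (H := (Subgroup.zpowers a).subgroupOf A), h1, Subgroup.relIndex_top_right]; rfl
  have h3 : B.relIndex A ∣ Nat.card ((Subgroup.zpowers a).subgroupOf A) := by
    rw [h2]; exact Subgroup.relIndex_dvd_card _ _
  have h4 : Nat.card ((Subgroup.zpowers a).subgroupOf A) = orderOf a := by
    rw [Nat.card_congr (Subgroup.subgroupOfEquivOfLe hZA).toEquiv, Nat.card_zpowers]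
  rw [h4] at h3
  have h5 : B.relIndex A ∣ p := h3.trans (orderOf_dvd_of_pow_eq_one hap)
  rcases (Nat.dvd_prime hp.out).mp h5 with h6 | h6
  · exfalso
    exact hne (le_antisymm hBA (Subgroup.relIndex_eq_one.mp h6))
  · exact h6

/-- Let M be a finite p-soluble group and A a p-subgroup of M with Φ(A) ≤ O_p(M) but A ≰ O_p(M). Then there is x ∈ O_{p,p'}(M) such that L = ⟨A, xAx⁻¹⟩ satisfies: x ∈ O^p(L) and O^p(L) ≤ O_{p,p'}(M); [O^p(L), A] = O^p(L); A ∩ O_p(L) has index p in A; and [A ∩ O_p(L), L] ≤ O_p(M). Here O^p(L) is the subgroup generated by the p'-elements of L and O_{p,p'}(M) the preimage of O_{p'}(M/O_p(M)). -/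
theorem result {M : Type*} [Group M] [Finite M] {p : ℕ} [Fact p.Prime] (hM : Cfsg.IsPSolvable p M) (A : Subgroup M) (hA : IsPGroup p A) (hΦ : (frattini ↥A).map A.subtype ≤ Cfsg.pCore p M) (hnot : ¬ A ≤ Cfsg.pCore p M) : ∃ x ∈ (Cfsg.pPrimeCore p (M ⧸ Cfsg.pCore p M)).comap (QuotientGroup.mk' (Cfsg.pCore p M)), x ∈ (Cfsg.pResidual p ↥(A ⊔ A.map (MulAut.conj x).toMonoidHom)).map (A ⊔ A.map (MulAut.conj x).toMonoidHom).subtype ∧ (Cfsg.pResidual p ↥(A ⊔ A.map (MulAut.conj x).toMonoidHom)).map (A ⊔ A.map (MulAut.conj x).toMonoidHom).subtype ≤ (Cfsg.pPrimeCore p (M ⧸ Cfsg.pCore p M)).comap (QuotientGroup.mk' (Cfsg.pCore p M)) ∧ ⁅(Cfsg.pResidual p ↥(A ⊔ A.map (MulAut.conj x).toMonoidHom)).map (A ⊔ A.map (MulAut.conj x).toMonoidHom).subtype, A⁆ = (Cfsg.pResidual p ↥(A ⊔ A.map (MulAut.conj x).toMonoidHom)).map (A ⊔ A.map (MulAut.conj x).toMonoidHom).subtype ∧ (A ⊓ (Cfsg.pCore p ↥(A ⊔ A.map (MulAut.conj x).toMonoidHom)).map (A ⊔ A.map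 (MulAut.conj x).toMonoidHom).subtype).relIndex A = p ∧ ⁅A ⊓ (Cfsg.pCore p ↥(A ⊔ A.map (MulAut.conj x).toMonoidHom)).map (A ⊔ A.map (MulAut.conj x).toMonoidHom).subtype, A ⊔ A.map (MulAut.conj x).toMonoidHom⁆ ≤ Cfsg.pCore p M := by
  classical
  have hp : p.Prime := Fact.out
  have hQp : IsPGroup p (pCore p M) := Cfsg.Agent.Lib.Helper7.pCore_isPGroup p M
  obtain ⟨Kb, hKb⟩ : ∃ Kb, Kb = pPrimeCore p (M ⧸ pCore p M) := ⟨_, rfl⟩
  rw [← hKb]
  haveI hKn : Kb.Normal := hKb ▸ inferInstance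
  have hKc : (Nat.card Kb).Coprime p := hKb ▸ Cfsg.Agent.Lib.Helper2.pPrimeCore_card_coprime p
  have hcomm : ∀ a ∈ A, ∀ b ∈ A, QuotientGroup.mk' (pCore p M) a * QuotientGroup.mk' (pCore p M) b
      = QuotientGroup.mk' (pCore p M) b * QuotientGroup.mk' (pCore p M) a := by
    intro a ha b hb
    have h1 : ⁅a, b⁆ ∈ pCore p M := hΦ (Cfsg.Agent.Lib.Helper2.commutator_le_map_frattini hA
      (Subgroup.commutator_mem_commutator ha hb))
    have h2 : QuotientGroup.mk' (pCore p M) ⁅a, b⁆ = 1 := (QuotientGroup.eq_one_iff _).mpr h1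
    rw [map_commutatorElement, commutatorElement_eq_one_iff_mul_comm] at h2
    exact h2
  have hpow : ∀ a ∈ A, (QuotientGroup.mk' (pCore p M) a) ^ p = 1 := by
    intro a ha
    rw [← map_pow]
    exact (QuotientGroup.eq_one_iff _).mpr (hΦ (Cfsg.Agent.Lib.Helper2.pow_mem_map_frattini hA ha))
  obtain ⟨Ab, hAb⟩ : ∃ Ab, Ab = A.map (QuotientGroup.mk' (pCore p M)) := ⟨_, rfl⟩
  haveI hAbc : IsMulCommutative Ab := ⟨⟨by
    rintro ⟨a', ha'⟩ ⟨b', hb'⟩
    rw [hAb] at ha' hb'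
    obtain ⟨a, ha, rfl⟩ := ha'
    obtain ⟨b, hb, rfl⟩ := hb'
    exact Subtype.ext (hcomm a ha b hb)⟩⟩
  have hAbp : IsPGroup p Ab := hAb ▸ hA.map _
  have hcop : (Nat.card Ab).Coprime (Nat.card Kb) := by
    obtain ⟨k, hk⟩ := IsPGroup.iff_card.mp hAbp
    rw [hk]
    exact Nat.Coprime.pow_left k (Nat.coprime_comm.mp hKc)
  have hAbK : Ab ⊓ Kb = ⊥ := disjoint_iff.mp (Subgroup.disjoint_of_coprime_natCard hcop)
  have hAbne : Ab ≠ ⊥ := by
    intro h0
    apply hnot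
    intro a ha
    have h1 : QuotientGroup.mk' (pCore p M) a ∈ Ab := hAb ▸ Subgroup.mem_map_of_mem _ ha
    rw [h0, Subgroup.mem_bot] at h1
    exact (QuotientGroup.eq_one_iff a).mp h1
  have hHH : Subgroup.centralizer (Kb : Set (M ⧸ pCore p M)) ≤ Kb := by
    rw [hKb]
    exact Cfsg.Agent.Lib.Helper2.centralizer_pPrimeCore_le p
      (Cfsg.Agent.S4218.isPSolvable_quotient p _ hM)
      (Cfsg.Agent.Lib.Helper2.pCore_quotient_pCore_eq_bot p)
  have hAbN : Ab ≤ Subgroup.normalizer (Kb : Set (M ⧸ pCore p M)) := by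
    rw [Subgroup.normalizer_eq_top]; exact le_top
  have hgen := (Cfsg.Agent.S3734.result Ab Kb hAbc hAbN hcop).1
  have hex : ∃ B : Subgroup (M ⧸ pCore p M), (B ≤ Ab ∧ ∃ a ∈ Ab, B ⊔ Subgroup.zpowers a = Ab) ∧
      ¬ Kb ⊓ Subgroup.centralizer (B : Set (M ⧸ pCore p M)) ≤
        Subgroup.centralizer (Ab : Set (M ⧸ pCore p M)) := by
    by_contra hcon
    push Not at hcon
    have h1 : Kb ≤ Subgroup.centralizer (Ab : Set (M ⧸ pCore p M)) := by
      refine hgen.symm.le.trans ?_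
      apply iSup₂_le
      intro B hB
      exact hcon B hB
    have h2 : Ab ≤ Subgroup.centralizer (Kb : Set (M ⧸ pCore p M)) :=
      Subgroup.le_centralizer_iff.mp h1
    have h3 : Ab ≤ Ab ⊓ Kb := le_inf le_rfl (h2.trans hHH)
    rw [hAbK] at h3
    exact hAbne (le_bot_iff.mp h3)
  obtain ⟨Bb, ⟨hBA, a₀, ha₀, hBa⟩, hBnot⟩ := hex
  obtain ⟨xb, hxbK, hxbnot⟩ := SetLike.not_le_iff_exists.mp hBnot
  have hBne : Bb ≠ Ab := by
    intro h0
    rw [h0] at hxbK
    exact hxbnot hxbK.2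
  have ha₀p : a₀ ^ p = 1 := by
    rw [hAb] at ha₀
    obtain ⟨a, ha, rfl⟩ := ha₀
    exact hpow a ha
  have hidx : Bb.relIndex Ab = p := relIndex_eq_prime_of_sup_zpowers hBA ha₀ ha₀p hBa hBne
  have hsetup : Setup (pCore p M) p A Bb Kb :=
    ⟨hQp, hA, hKn, hKc, hcomm, hAb ▸ hBA, hAb ▸ hidx⟩
  obtain ⟨x₀, rfl⟩ := QuotientGroup.mk'_surjective _ xb
  have hx₀ : SS (pCore p M) A Bb Kb x₀ := by
    refine ⟨hxbK.1, fun b hb => (Subgroup.mem_centralizer_iff.mp hxbK.2 b hb).symm, ?_⟩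
    intro hc
    apply hxbnot
    rw [Subgroup.mem_centralizer_iff]
    intro a' ha'
    rw [hAb] at ha'
    obtain ⟨a, ha, rfl⟩ := ha'
    exact (hc a ha).symm
  obtain ⟨x, hxS, hmin⟩ := Set.exists_min_image {y | SS (pCore p M) A Bb Kb y}
    (fun y => Nat.card (LL A y)) (Set.toFinite _) ⟨x₀, hx₀⟩
  obtain ⟨r, hrS, hrR⟩ := hsetup.exists_good hxS (fun y hy => hmin y hy)
  obtain ⟨g4, g5, g6⟩ := hsetup.final hrS hrR
  exact ⟨r, hrS.1, hrR, hsetup.pRes_le hrS.1, g4, g5, g6⟩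

end Cfsg.Agent.S3754
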