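import Cfsg.Statements.S3755
import Mathlib
import Cfsg.Agent.S3754
import Cfsg.Agent.S3734
import Cfsg.Agent.S2758
import Cfsg.Agent.S0444
import Cfsg.Agent.Lib.Helper1.ThompsonPQ
import Cfsg.Agent.Lib.Helper1.CoprimeSylow
import Cfsg.Agent.Lib.Helper7.CharP5
import Cfsg.Agent.Lib.Helper2.Involves
import Cfsg.Agent.Lib.Helper2.Cores

set_option autoImplicit false
open Cfsg

namespace Cfsg.Agent.S3755

open Cfsg.Agent.Lib.Helper1 (conjActOfLeNormalizer)

section
variable {G : Type*} [Group G]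

theorem card_modEq_card_inf_centralizer [Finite G] {q : ℕ} [Fact q.Prime] (Q L : Subgroup G)
    (hQ : IsPGroup q Q) (hQL : Q ≤ Subgroup.normalizer (L : Set G)) :
    Nat.card L ≡ Nat.card (L ⊓ Subgroup.centralizer (Q : Set G) : Subgroup G) [MOD q] := by
  letI := conjActOfLeNormalizer Q L hQL
  have h1 := hQ.card_modEq_card_fixedPoints (α := L)
  have e : MulAction.fixedPoints Q L ≃ (L ⊓ Subgroup.centralizer (Q : Set G) : Subgroup G) :=
    { toFun := fun l => ⟨l.1.1, l.1.2, by
        show (l.1 : G) ∈ Subgroup.centralizer (Q : Set G)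
        rw [Subgroup.mem_centralizer_iff]
        intro g hg
        have h3 := l.2 ⟨g, hg⟩
        have h4 : ((⟨g, hg⟩ : Q) • l.1 : L).1 = g * l.1 * g⁻¹ := rfl
        rw [h3] at h4
        calc g * (l.1 : G) = (g * (l.1 : G) * g⁻¹) * g := by group
          _ = (l.1 : G) * g := by rw [← h4]⟩
      invFun := fun l => ⟨⟨l.1, l.2.1⟩, fun g => by
        apply Subtype.ext
        show (g : G) * l.1 * (g : G)⁻¹ = l.1
        have := Subgroup.mem_centralizer_iff.mp l.2.2 g g.2
        rw [this, mul_inv_cancel_right]⟩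
      left_inv := fun l => rfl
      right_inv := fun l => rfl }
  rw [Nat.card_congr e] at h1
  exact h1

theorem dihedral_module [Finite G] {r : ℕ} [hr : Fact r.Prime] (hr5 : 5 ≤ r) (U : Subgroup G)
    (hU : IsPGroup 2 U) {x a : G} (hxU : x ∈ Subgroup.normalizer (U : Set G))
    (haU : a ∈ Subgroup.normalizer (U : Set G)) (hx : orderOf x = r) (ha2 : a ^ 2 = 1)
    (hax : a * x * a⁻¹ = x⁻¹)
    (hidx : (U ⊓ Subgroup.centralizer {a}).relIndex U < 4) : U ≤ Subgroup.centralizer {x} := by
  obtain ⟨k, hk⟩ := IsPGroup.iff_card.mp hU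
  obtain ⟨C₁, hC₁⟩ : ∃ C₁, C₁ = U ⊓ Subgroup.centralizer {a} := ⟨_, rfl⟩
  obtain ⟨C₂, hC₂⟩ : ∃ C₂, C₂ = U ⊓ Subgroup.centralizer {x * a * x⁻¹} := ⟨_, rfl⟩
  rw [← hC₁] at hidx
  have hUx : U.map (MulAut.conj x).toMonoidHom = U :=
    Subgroup.mem_normalizer_iff_map_conj_eq.mp hxU
  have hC₂' : C₂ = C₁.map (MulAut.conj x).toMonoidHom := by
    rw [hC₁, hC₂, Subgroup.map_inf _ _ _ (MulAut.conj x).injective, hUx,
      Cfsg.Agent.Lib.Helper7.centralizer_singleton_map_conj]
  have hidx₂ : C₂.relIndex U = C₁.relIndex U := by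
    conv_lhs => rw [hC₂', ← hUx]
    exact Subgroup.relIndex_map_map_of_injective _ _ (MulAut.conj x).injective
  have hrodd : Odd r := hr.out.odd_of_ne_two (by omega)
  obtain ⟨m, hm⟩ := hrodd
  have hxr : x ^ r = 1 := by rw [← hx]; exact pow_orderOf_eq_one x
  have hainv : a⁻¹ = a := by
    rw [inv_eq_iff_mul_eq_one, ← pow_two]; exact ha2
  have hle : C₁ ⊓ C₂ ≤ U ⊓ Subgroup.centralizer {x} := by
    rintro u ⟨hu1, hu2⟩
    rw [hC₁] at hu1
    rw [hC₂] at hu2
    refine ⟨hu1.1, ?_⟩
    have h1 : u * a = a * u := Subgroup.mem_centralizer_singleton_iff.mp hu1.2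
    have h2 : u * (x * a * x⁻¹) = (x * a * x⁻¹) * u :=
      Subgroup.mem_centralizer_singleton_iff.mp hu2.2
    have e1 : a * (x * a * x⁻¹) = (x ^ 2)⁻¹ := by
      calc a * (x * a * x⁻¹) = (a * x * a⁻¹) * x⁻¹ := by rw [hainv]; group
        _ = (x ^ 2)⁻¹ := by rw [hax]; group
    have h3 : Commute u (a * (x * a * x⁻¹)) := Commute.mul_right h1 h2
    rw [e1] at h3
    have h4 : Commute u (x ^ 2) := by
      have := h3.inv_right
      rwa [inv_inv] at this
    have h5 : Commute u ((x ^ 2) ^ (m + 1)) := h4.pow_right _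
    have e2 : (x ^ 2) ^ (m + 1) = x := by
      rw [← pow_mul, show 2 * (m + 1) = r + 1 by omega, pow_succ, hxr, one_mul]
    rw [e2] at h5
    show u ∈ Subgroup.centralizer {x}
    rw [Subgroup.mem_centralizer_singleton_iff]
    exact h5
  -- the index of `C_U(x)`
  obtain ⟨J, hJ⟩ : ∃ J, J = (U ⊓ Subgroup.centralizer {x}).relIndex U := ⟨_, rfl⟩
  have hJdvd : J ∣ 2 ^ k := by
    rw [hJ, ← hk]; exact Subgroup.relIndex_dvd_card _ _
  have hi₁dvd : C₁.relIndex U ∣ 2 ^ k := by
    rw [← hk]; exact Subgroup.relIndex_dvd_card _ _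
  have hi₁ : C₁.relIndex U ≤ 2 := by
    obtain ⟨j, hj, hj2⟩ := (Nat.dvd_prime_pow Nat.prime_two).mp hi₁dvd
    rw [hj2] at hidx ⊢
    have : j < 2 := by
      by_contra hcon
      push Not at hcon
      have : 2 ^ 2 ≤ 2 ^ j := Nat.pow_le_pow_right (by norm_num) hcon
      omega
    interval_cases j <;> norm_num
  have hne : ∀ H : Subgroup G, H.relIndex U ≠ 0 := fun H => Subgroup.index_ne_zero_of_finite
  have hJ4 : J ≤ 4 := by
    have h1 : (C₁ ⊓ C₂).relIndex U ≤ C₁.relIndex U * C₂.relIndex U := Subgroup.relIndex_inf_le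
    rw [hidx₂] at h1
    have h2 : J ≤ (C₁ ⊓ C₂).relIndex U := by
      rw [hJ]; exact Subgroup.relIndex_le_of_le_left hle (hne _)
    nlinarith
  have hcard : Nat.card (U ⊓ Subgroup.centralizer {x} : Subgroup G) * J = Nat.card U := by
    have := Subgroup.relIndex_mul_relIndex ⊥ (U ⊓ Subgroup.centralizer {x}) U bot_le inf_le_left
    rwa [Subgroup.relIndex_bot_left, Subgroup.relIndex_bot_left, ← hJ] at this
  have hZ : IsPGroup r (Subgroup.zpowers x) := by
    apply IsPGroup.of_card (n := 1)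
    rw [Nat.card_zpowers, hx, pow_one]
  have hZU : Subgroup.zpowers x ≤ Subgroup.normalizer (U : Set G) := by
    rw [Subgroup.zpowers_le]; exact hxU
  have hmod := card_modEq_card_inf_centralizer (Subgroup.zpowers x) U hZ hZU
  rw [Cfsg.Agent.S3734.centralizer_zpowers_eq, ← hcard] at hmod
  obtain ⟨c, hc⟩ : ∃ c, c = Nat.card (U ⊓ Subgroup.centralizer {x} : Subgroup G) := ⟨_, rfl⟩
  rw [← hc] at hmod hcard
  have hcdvd : c ∣ 2 ^ k := by
    rw [hc, ← hk]; exact Subgroup.card_dvd_of_le inf_le_left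
  have hJpos : 0 < J := Nat.pos_of_ne_zero (hJ ▸ hne _)
  have hcle : c ≤ c * J := Nat.le_mul_of_pos_right c hJpos
  have hdvd : r ∣ c * J - c := (Nat.modEq_iff_dvd' hcle).mp hmod.symm
  have hdvd2 : r ∣ c * (J - 1) := by
    rw [Nat.mul_sub, mul_one]; exact hdvd
  have hrc : r.Coprime c := by
    have h2r : Nat.Coprime r 2 := (Nat.coprime_primes hr.out Nat.prime_two).mpr (by omega)
    exact Nat.Coprime.coprime_dvd_right hcdvd (Nat.Coprime.pow_right k h2r)
  have hdvd3 : r ∣ J - 1 := hrc.dvd_of_dvd_mul_left hdvd2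
  have hJ1 : J = 1 := by
    obtain ⟨j, hj, hj2⟩ := (Nat.dvd_prime_pow Nat.prime_two).mp hJdvd
    have hj3 : j ≤ 2 := by
      by_contra hcon
      push Not at hcon
      have : 2 ^ 3 ≤ 2 ^ j := Nat.pow_le_pow_right (by norm_num) hcon
      omega
    interval_cases j
    · simpa using hj2
    · exfalso
      rw [hj2] at hdvd3
      have := Nat.le_of_dvd (by norm_num) hdvd3
      omega
    · exfalso
      rw [hj2] at hdvd3
      have := Nat.le_of_dvd (by norm_num) hdvd3
      omega
  rw [hJ, Subgroup.relIndex_eq_one] at hJ1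
  exact hJ1.trans inf_le_right

end

theorem main_ineq {X : Type*} [Group X] [Finite X] (M V K : Subgroup X)
    (hV : IsPGroup 2 V) (hMV : M ≤ Subgroup.normalizer (V : Set X))
    (hfaith : M ⊓ Subgroup.centralizer (V : Set X) = ⊥) (hKM : K ≤ M)
    (hMK : M ≤ Subgroup.normalizer (K : Set X)) (hKodd : (Nat.card K).Coprime 2)
    (hcon : M ⊓ Subgroup.centralizer (K : Set X) ≤ K)
    (hfree : ¬ Cfsg.Involves (Equiv.Perm (Fin 3)) ↥M) :
    ∀ (n : ℕ) (A : Subgroup X), Nat.card A = n → A ≤ M → Cfsg.IsElementaryAbelian 2 A →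
      Nat.card A ^ 2 ≤ (V ⊓ Subgroup.centralizer (A : Set X)).relIndex V := by
  intro n
  induction n using Nat.strong_induction_on with
  | _ n ih =>
    intro A hn hAM hA
    by_cases hA1 : A = ⊥
    · subst hA1
      have h1 : (V ⊓ Subgroup.centralizer (((⊥ : Subgroup X) : Subgroup X) : Set X)).relIndex V = 1 := by
        rw [Subgroup.relIndex_eq_one]
        refine le_inf le_rfl ?_
        intro v _
        rw [Subgroup.mem_centralizer_iff]
        intro h hh
        have : h = 1 := hh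
        rw [this, one_mul, mul_one]
      rw [h1]
      simp
    haveI hAab : IsMulCommutative A := hA.1
    have hA2 : IsPGroup 2 A := by
      intro a
      refine ⟨1, Subtype.ext ?_⟩
      simpa using hA.2 a a.2
    have hcop : (Nat.card A).Coprime (Nat.card K) := by
      obtain ⟨k, hk⟩ := IsPGroup.iff_card.mp hA2
      rw [hk]
      exact Nat.Coprime.pow_left k (Nat.coprime_comm.mp hKodd)
    have hAK : A ≤ Subgroup.normalizer (K : Set X) := hAM.trans hMK
    have hgen := (Cfsg.Agent.S3734.result A K hAab hAK hcop).1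
    have hAnot : ¬ K ≤ Subgroup.centralizer (A : Set X) := by
      intro h
      have h1 : A ≤ Subgroup.centralizer (K : Set X) := Subgroup.le_centralizer_iff.mp h
      have h2 : A ≤ K := fun a ha => hcon ⟨hAM ha, h1 ha⟩
      have h3 : Nat.card A = 1 := Nat.Coprime.eq_one_of_dvd hcop (Subgroup.card_dvd_of_le h2)
      exact hA1 (Subgroup.card_eq_one.mp h3)
    obtain ⟨B, ⟨hBA, a, haA, hBa⟩, hBnot⟩ : ∃ B : Subgroup X,
        (B ≤ A ∧ ∃ a ∈ A, B ⊔ Subgroup.zpowers a = A) ∧
        ¬ K ⊓ Subgroup.centralizer (B : Set X) ≤ Subgroup.centralizer (A : Set X) := by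
      by_contra hc
      push Not at hc
      apply hAnot
      exact hgen.symm.le.trans (iSup₂_le fun B hB => hc B hB)
    obtain ⟨y, hyKB, hynot⟩ := SetLike.not_le_iff_exists.mp hBnot
    have hyB : ∀ b ∈ B, b * y = y * b := fun b hb => Subgroup.mem_centralizer_iff.mp hyKB.2 b hb
    have ha2 : a ^ 2 = 1 := hA.2 a haA
    have haa : a * a = 1 := by rw [← pow_two]; exact ha2
    have hainv : a⁻¹ = a := by rw [inv_eq_iff_mul_eq_one]; exact haa
    have hya : a * y * a⁻¹ ≠ y := by
      intro h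
      apply hynot
      have h1 : A ≤ Subgroup.centralizer {y} := by
        rw [← hBa]
        apply sup_le
        · intro b hb
          rw [Subgroup.mem_centralizer_singleton_iff]
          exact hyB b hb
        · rw [Subgroup.zpowers_le, Subgroup.mem_centralizer_singleton_iff]
          calc a * y = (a * y * a⁻¹) * a := by group
            _ = y * a := by rw [h]
      rw [Subgroup.mem_centralizer_iff]
      intro c hc
      exact Subgroup.mem_centralizer_singleton_iff.mp (h1 hc)
    have haM : a ∈ M := hAM haA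
    have hab : ∀ b ∈ B, b * a = a * b := fun b hb =>
      congrArg Subtype.val (hAab.is_comm.comm (⟨b, hBA hb⟩ : A) ⟨a, haA⟩)
    -- the inverted element
    obtain ⟨x₀, hx₀⟩ : ∃ x₀, x₀ = y⁻¹ * (a * y * a⁻¹) := ⟨_, rfl⟩
    have hx₀K : x₀ ∈ K := by
      rw [hx₀]
      exact K.mul_mem (K.inv_mem hyKB.1)
        ((Subgroup.mem_normalizer_iff.mp (hAK haA) y).mp hyKB.1)
    have hx₀1 : x₀ ≠ 1 := by
      intro h
      apply hya
      rw [hx₀, inv_mul_eq_one] at h
      exact h.symm
    have hinv₀ : a * x₀ * a⁻¹ = x₀⁻¹ := by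
      rw [hx₀]
      calc a * (y⁻¹ * (a * y * a⁻¹)) * a⁻¹ = a * y⁻¹ * a * y * (a * a)⁻¹ := by group
        _ = a * y⁻¹ * a⁻¹ * y := by rw [haa, inv_one, mul_one, hainv]
        _ = (y⁻¹ * (a * y * a⁻¹))⁻¹ := by group
    have hx₀B : ∀ b ∈ B, b * x₀ = x₀ * b := by
      intro b hb
      have h1 : Commute b y := hyB b hb
      have h2 : Commute b a := hab b hb
      rw [hx₀]
      exact (h1.inv_right.mul_right ((h2.mul_right h1).mul_right h2.inv_right)).eq
    have hord₀ : orderOf x₀ ≠ 1 := by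
      rw [Ne, orderOf_eq_one_iff]; exact hx₀1
    obtain ⟨r, hr, hrdvd⟩ := Nat.exists_prime_and_dvd hord₀
    haveI : Fact r.Prime := ⟨hr⟩
    obtain ⟨x, hx⟩ : ∃ x, x = x₀ ^ (orderOf x₀ / r) := ⟨_, rfl⟩
    have hxr : orderOf x = r := by
      rw [hx]; exact orderOf_pow_orderOf_div (orderOf_pos x₀).ne' hrdvd
    have hxK : x ∈ K := hx ▸ K.pow_mem hx₀K _
    have hxM : x ∈ M := hKM hxK
    have hinv : a * x * a⁻¹ = x⁻¹ := by
      rw [hx, ← conj_pow, hinv₀, inv_pow]
    have hxB : ∀ b ∈ B, b * x = x * b := by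
      intro b hb
      have h1 : Commute b x₀ := hx₀B b hb
      rw [hx]
      exact (h1.pow_right _).eq
    have hrK : r ∣ Nat.card K := by
      rw [← hxr]; exact Subgroup.orderOf_dvd_natCard K hxK
    have hr2 : r ≠ 2 := by
      rintro rfl
      have := Nat.Coprime.eq_one_of_dvd hKodd.symm hrK
      omega
    have hr3 : r ≠ 3 := by
      rintro rfl
      apply hfree
      have hao : orderOf (⟨a, haM⟩ : M) = 2 ^ 1 := by
        rw [Subgroup.orderOf_mk, pow_one]
        apply orderOf_eq_prime ha2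
        rintro rfl
        apply hya
        simp
      have hxo : orderOf (⟨x, hxM⟩ : M) = 3 := by rw [Subgroup.orderOf_mk]; exact hxr
      have hxy : (⟨a, haM⟩ : M) * ⟨x, hxM⟩ * (⟨a, haM⟩ : M)⁻¹ = (⟨x, hxM⟩ : M)⁻¹ :=
        Subtype.ext hinv
      have h1 := Cfsg.Agent.S2758.involves_of_inverted_prime (p := 3) (by norm_num) hao hxo hxy
      obtain ⟨e⟩ := Cfsg.Agent.S0444.dihedral_three
      exact Cfsg.Agent.Lib.Helper2.Inv.involves_congr e h1
    have hr5 : 5 ≤ r := by
      by_contra hcon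
      push Not at hcon
      have := hr.two_le
      interval_cases r
      · exact hr2 rfl
      · exact hr3 rfl
      · exact absurd hr (by norm_num)
    -- `B` has index two
    have hBne : B ≠ A := by
      intro h
      rw [h] at hyKB
      exact hynot hyKB.2
    have hidxB : B.relIndex A = 2 :=
      Cfsg.Agent.S3754.relIndex_eq_prime_of_sup_zpowers (p := 2) hBA haA ha2 hBa hBne
    have hcardA : Nat.card B * 2 = Nat.card A := by
      have := Subgroup.relIndex_mul_relIndex ⊥ B A bot_le hBA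
      rwa [Subgroup.relIndex_bot_left, Subgroup.relIndex_bot_left, hidxB] at this
    have hBlt : Nat.card B < n := by
      rw [← hn, ← hcardA]
      have : 0 < Nat.card B := Nat.card_pos
      omega
    have hBel : Cfsg.IsElementaryAbelian 2 B :=
      ⟨⟨⟨fun b₁ b₂ => Subtype.ext (by
        have := congrArg Subtype.val
          (hAab.is_comm.comm (⟨b₁, hBA b₁.2⟩ : A) ⟨b₂, hBA b₂.2⟩)
        exact this)⟩⟩,
        fun b hb => hA.2 b (hBA hb)⟩
    have hihB := ih (Nat.card B) hBlt B rfl (hBA.trans hAM) hBel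
    -- the module `U = C_V(B)`
    obtain ⟨U, hU⟩ : ∃ U, U = V ⊓ Subgroup.centralizer (B : Set X) := ⟨_, rfl⟩
    rw [← hU] at hihB
    have hUV : U ≤ V := hU ▸ inf_le_left
    have hU2 : IsPGroup 2 U := hV.to_le hUV
    have hnormU : ∀ g ∈ M, g ∈ Subgroup.centralizer (B : Set X) →
        g ∈ Subgroup.normalizer (U : Set X) := by
      intro g hgM hgB
      rw [hU]
      exact Subgroup.inf_normalizer_le_normalizer_inf ⟨hMV hgM, Subgroup.le_normalizer hgB⟩
    have hxCB : x ∈ Subgroup.centralizer (B : Set X) := by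
      rw [Subgroup.mem_centralizer_iff]; exact hxB
    have haCB : a ∈ Subgroup.centralizer (B : Set X) := by
      rw [Subgroup.mem_centralizer_iff]; exact hab
    have hxU : x ∈ Subgroup.normalizer (U : Set X) := hnormU x hxM hxCB
    have haU : a ∈ Subgroup.normalizer (U : Set X) := hnormU a haM haCB
    have hfour : 4 ≤ (U ⊓ Subgroup.centralizer {a}).relIndex U := by
      by_contra hlt
      push Not at hlt
      have h1 := dihedral_module hr5 U hU2 hxU haU hxr ha2 hinv hlt
      have hZ : (Nat.card (Subgroup.zpowers x)).Coprime 2 := by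
        rw [Nat.card_zpowers, hxr]
        exact (Nat.coprime_primes hr Nat.prime_two).mpr hr2
      have hBp : IsPGroup 2 B := hA2.to_le hBA
      have hPQ : B ≤ Subgroup.centralizer ((Subgroup.zpowers x : Subgroup X) : Set X) := by
        rw [Cfsg.Agent.S3734.centralizer_zpowers_eq]
        intro b hb
        rw [Subgroup.mem_centralizer_singleton_iff]
        exact hxB b hb
      have hPU : B ≤ Subgroup.normalizer (V : Set X) := (hBA.trans hAM).trans hMV
      have hQU : Subgroup.zpowers x ≤ Subgroup.normalizer (V : Set X) := by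
        rw [Subgroup.zpowers_le]; exact hMV hxM
      have hC : V ⊓ Subgroup.centralizer (B : Set X) ≤
          Subgroup.centralizer ((Subgroup.zpowers x : Subgroup X) : Set X) := by
        rw [Cfsg.Agent.S3734.centralizer_zpowers_eq, ← hU]; exact h1
      have h2 := Cfsg.Agent.Lib.Helper1.thompson_PxQ 2 B (Subgroup.zpowers x) V hBp hZ hV
        hPQ hPU hQU hC
      have h3 : x ∈ M ⊓ Subgroup.centralizer (V : Set X) :=
        ⟨hxM, h2 (Subgroup.mem_zpowers x)⟩
      rw [hfaith, Subgroup.mem_bot] at h3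
      rw [h3, orderOf_one] at hxr
      omega
    -- `C_U(a) = C_V(A)`
    have hCA : U ⊓ Subgroup.centralizer {a} = V ⊓ Subgroup.centralizer (A : Set X) := by
      ext v
      rw [hU]
      simp only [Subgroup.mem_inf]
      constructor
      · rintro ⟨⟨hv, hvB⟩, hva⟩
        refine ⟨hv, ?_⟩
        have h1 : A ≤ Subgroup.centralizer {v} := by
          rw [← hBa]
          apply sup_le
          · intro b hb
            rw [Subgroup.mem_centralizer_singleton_iff]
            exact Subgroup.mem_centralizer_iff.mp hvB b hb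
          · rw [Subgroup.zpowers_le, Subgroup.mem_centralizer_singleton_iff]
            exact (Subgroup.mem_centralizer_singleton_iff.mp hva).symm
        rw [Subgroup.mem_centralizer_iff]
        intro c hc
        exact Subgroup.mem_centralizer_singleton_iff.mp (h1 hc)
      · rintro ⟨hv, hvA⟩
        refine ⟨⟨hv, Subgroup.centralizer_le (show (B : Set X) ⊆ A from hBA) hvA⟩, ?_⟩
        rw [Subgroup.mem_centralizer_singleton_iff]
        exact (Subgroup.mem_centralizer_iff.mp hvA a haA).symm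
    rw [hCA] at hfour
    have hmul := Subgroup.relIndex_mul_relIndex (V ⊓ Subgroup.centralizer (A : Set X)) U V
      (hCA ▸ inf_le_left) hUV
    rw [← hmul, ← hcardA]
    nlinarith

/-- Let M and V be subgroups of a finite group with V an elementary abelian 2-group, M normalizing V and acting faithfully on it (M ∩ C(V) = 1), and C_M(O_{2'}(M)) ≤ O_{2'}(M). If some elementary abelian 2-subgroup A of M satisfies |V : C_V(A)| < |A|², then M has a section isomorphic to the symmetric group of degree 3. -/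
theorem result {X : Type*} [Group X] [Finite X] (M V : Subgroup X) (hV : Cfsg.IsElementaryAbelian 2 V) (hMV : M ≤ Subgroup.normalizer (V : Set X)) (hfaith : M ⊓ Subgroup.centralizer (V : Set X) = ⊥) (hcon : Subgroup.centralizer (Cfsg.pPrimeCore 2 ↥M : Set ↥M) ≤ Cfsg.pPrimeCore 2 ↥M) (A : Subgroup X) (hAM : A ≤ M) (hA : Cfsg.IsElementaryAbelian 2 A) (hsmall : (V ⊓ Subgroup.centralizer (A : Set X)).relIndex V < Nat.card A ^ 2) : Cfsg.Involves (Equiv.Perm (Fin 3)) ↥M := by
  by_contra hfree
  obtain ⟨K, hK⟩ : ∃ K, K = (Cfsg.pPrimeCore 2 ↥M).map M.subtype := ⟨_, rfl⟩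
  have hKM : K ≤ M := hK ▸ Subgroup.map_subtype_le _
  have hV2 : IsPGroup 2 V := by
    intro v
    refine ⟨1, Subtype.ext ?_⟩
    simpa using hV.2 v v.2
  have hMK : M ≤ Subgroup.normalizer (K : Set X) := by
    have hn : (Cfsg.pPrimeCore 2 ↥M).Normal := inferInstance
    have h := Subgroup.le_normalizer_map (H := Cfsg.pPrimeCore 2 ↥M) M.subtype
    rw [Subgroup.normalizer_eq_top, ← MonoidHom.range_eq_map, Subgroup.range_subtype] at h
    rw [hK]
    exact h
  have hKodd : (Nat.card K).Coprime 2 := by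
    rw [hK, Subgroup.card_map_of_injective M.subtype_injective]
    exact Cfsg.Agent.Lib.Helper2.pPrimeCore_card_coprime 2
  have hcon' : M ⊓ Subgroup.centralizer (K : Set X) ≤ K := by
    rintro m ⟨hmM, hmK⟩
    have h1 : (⟨m, hmM⟩ : M) ∈ Subgroup.centralizer (Cfsg.pPrimeCore 2 ↥M : Set ↥M) := by
      rw [Subgroup.mem_centralizer_iff]
      intro k hk
      apply Subtype.ext
      have h2 : (k : X) ∈ K := by rw [hK]; exact ⟨k, hk, rfl⟩
      exact Subgroup.mem_centralizer_iff.mp hmK k h2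
    have h3 := hcon h1
    rw [hK]
    exact ⟨⟨m, hmM⟩, h3, rfl⟩
  have h := main_ineq M V K hV2 hMV hfaith hKM hMK hKodd hcon' hfree (Nat.card A) A rfl hAM hA
  omega

end Cfsg.Agent.S3755
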