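import Cfsg.Statements.S3760

set_option autoImplicit false
open Cfsg

namespace Cfsg.Agent.S3760

theorem mem_map_conj {G : Type*} [Group G] (K : Subgroup G) (g y : G) :
    y ∈ K.map (MulAut.conj g).toMonoidHom ↔ g⁻¹ * y * g ∈ K := by
  constructor
  · rintro ⟨k, hk, rfl⟩
    simpa [mul_assoc] using hk
  · intro h
    exact ⟨g⁻¹ * y * g, h, by simp [mul_assoc]⟩

/-- Let the group G act transitively on a set X, let x ∈ X with stabilizer H = G_x, and let K ≤ H. Then N_G(K) acts transitively on the set of fixed points of K if and only if every G-conjugate of K contained in H is already an H-conjugate of K. -/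
theorem result {G : Type*} [Group G] {X : Type*} [MulAction G X] (htrans : ∀ a b : X, ∃ g : G, g • a = b) (x : X) (K : Subgroup G) (hK : K ≤ MulAction.stabilizer G x) : (∀ a b : X, (∀ k ∈ K, k • a = a) → (∀ k ∈ K, k • b = b) → ∃ g ∈ Subgroup.normalizer (K : Set G), g • a = b) ↔ ∀ g : G, K.map (MulAut.conj g).toMonoidHom ≤ MulAction.stabilizer G x → ∃ h ∈ MulAction.stabilizer G x, K.map (MulAut.conj g).toMonoidHom = K.map (MulAut.conj h).toMonoidHom := by
  constructor
  · intro h g hg
    have hfix : ∀ k ∈ K, k • (g⁻¹ • x) = g⁻¹ • x := by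
      intro k hk
      have h1 : g * k * g⁻¹ ∈ K.map (MulAut.conj g).toMonoidHom := ⟨k, hk, by simp⟩
      have h2 := hg h1
      rw [MulAction.mem_stabilizer_iff] at h2
      have : g⁻¹ • ((g * k * g⁻¹) • x) = g⁻¹ • x := by rw [h2]
      simpa [mul_smul] using this
    have hfix0 : ∀ k ∈ K, k • x = x := fun k hk => MulAction.mem_stabilizer_iff.1 (hK hk)
    obtain ⟨n, hn, hnx⟩ := h x (g⁻¹ • x) hfix0 hfix
    refine ⟨g * n, ?_, ?_⟩
    · rw [MulAction.mem_stabilizer_iff, mul_smul, hnx, smul_inv_smul]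
    · ext y
      rw [mem_map_conj, mem_map_conj]
      rw [Subgroup.mem_normalizer_iff''] at hn
      rw [hn (g⁻¹ * y * g)]
      simp [mul_assoc]
  · intro h a b ha hb
    have key : ∀ c : X, (∀ k ∈ K, k • c = c) → ∃ n ∈ Subgroup.normalizer (K : Set G), n • x = c := by
      intro c hc
      obtain ⟨u, hu⟩ := htrans x c
      have hle : K.map (MulAut.conj u⁻¹).toMonoidHom ≤ MulAction.stabilizer G x := by
        intro y hy
        rw [mem_map_conj] at hy
        rw [MulAction.mem_stabilizer_iff]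
        have := hc _ hy
        rw [← hu] at this
        have h3 : u⁻¹ • ((u⁻¹⁻¹ * y * u⁻¹) • u • x) = u⁻¹ • (u • x) := by rw [this]
        simpa [mul_smul] using h3
      obtain ⟨s, hs, hse⟩ := h u⁻¹ hle
      refine ⟨u * s, ?_, ?_⟩
      · rw [Subgroup.mem_normalizer_iff'']
        intro y
        have := SetLike.ext_iff.1 hse (u⁻¹ * y * u)
        rw [mem_map_conj, mem_map_conj] at this
        have e1 : u⁻¹⁻¹ * (u⁻¹ * y * u) * u⁻¹ = y := by group
        have e2 : s⁻¹ * (u⁻¹ * y * u) * s = (u * s)⁻¹ * y * (u * s) := by group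
        rw [e1, e2] at this
        exact this
      · rw [mul_smul, MulAction.mem_stabilizer_iff.1 hs, hu]
    obtain ⟨n1, hn1, h1⟩ := key a ha
    obtain ⟨n2, hn2, h2⟩ := key b hb
    refine ⟨n2 * n1⁻¹, Subgroup.mul_mem _ hn2 (Subgroup.inv_mem _ hn1), ?_⟩
    rw [mul_smul, ← h1, inv_smul_smul, h2]

end Cfsg.Agent.S3760
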