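import Cfsg.Statements.S3766
import Cfsg.Agent.Lib.Helper2.Commutator
import Cfsg.Agent.Lib.Helper1.SubnormalFitting

set_option autoImplicit false
open Cfsg

namespace Cfsg.Agent.S3766

open Cfsg.Agent.Lib.Helper2 Cfsg.Agent.Lib.Helper1
open scoped commutatorElement

variable {G : Type*} [Group G]

/-- `U / V` is a chief factor of `G` -/
def IsChief (U V : Subgroup G) : Prop :=
  U.Normal ∧ V.Normal ∧ V < U ∧ ∀ W : Subgroup G, W.Normal → V ≤ W → W ≤ U → W = V ∨ W = U

/-- iterated commutator `[W, K, …, K]` -/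
def iterComm (K : Subgroup G) (n : ℕ) (W : Subgroup G) : Subgroup G :=
  (fun X => ⁅X, K⁆)^[n] W

theorem iterComm_succ (K : Subgroup G) (n : ℕ) (W : Subgroup G) :
    iterComm K (n + 1) W = iterComm K n ⁅W, K⁆ := Function.iterate_succ_apply _ _ _

theorem iterComm_succ' (K : Subgroup G) (n : ℕ) (W : Subgroup G) :
    iterComm K (n + 1) W = ⁅iterComm K n W, K⁆ := Function.iterate_succ_apply' _ _ _

theorem iterComm_mono (K : Subgroup G) (n : ℕ) {W W' : Subgroup G} (h : W ≤ W') :
    iterComm K n W ≤ iterComm K n W' := by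
  induction n with
  | zero => exact h
  | succ n ih =>
    rw [iterComm_succ', iterComm_succ']
    exact Subgroup.commutator_mono ih le_rfl

theorem iterComm_normal (K : Subgroup G) [K.Normal] (n : ℕ) (W : Subgroup G) [W.Normal] :
    (iterComm K n W).Normal := by
  induction n with
  | zero => exact (inferInstance : W.Normal)
  | succ n ih =>
    rw [iterComm_succ']
    haveI := ih
    exact Subgroup.commutator_normal _ _

theorem iterComm_bot (K : Subgroup G) (n : ℕ) : iterComm K n ⊥ = ⊥ := by
  induction n with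
  | zero => rfl
  | succ n ih => rw [iterComm_succ', ih, Subgroup.commutator_bot_left]

/-- a nilpotent normal subgroup centralizes every chief factor -/
theorem commutator_le_of_isChief {U V H : Subgroup G} (hUV : IsChief U V) [hH : H.Normal]
    (hnil : Group.IsNilpotent H) : ⁅U, H⁆ ≤ V := by
  obtain ⟨hU, hV, hlt, hmin⟩ := hUV
  haveI := hU
  haveI := hV
  have hW : (⁅U, H⁆ ⊔ V).Normal := inferInstance
  rcases hmin _ hW le_sup_right (sup_le (Subgroup.commutator_le_left U H) hlt.le) with h | h
  · rw [← h]; exact le_sup_left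
  exfalso
  obtain ⟨c, hc⟩ := (Subgroup.isNilpotent_iff_lowerCentralSeries H).1 hnil
  have hVH : ⁅V, H⁆ ≤ V := Subgroup.commutator_le_left V H
  -- `U ≤ c_n ⊔ V`
  have hA : ∀ n, U ≤ iterComm H n U ⊔ V := by
    intro n
    induction n with
    | zero => exact le_sup_left
    | succ n ih =>
      haveI : (iterComm H n U).Normal := iterComm_normal H n U
      haveI : (iterComm H (n + 1) U).Normal := iterComm_normal H (n + 1) U
      have h1 : ⁅U, H⁆ ≤ iterComm H (n + 1) U ⊔ V := by
        refine (Subgroup.commutator_mono ih le_rfl).trans ?_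
        apply commutator_sup_le
        · rw [iterComm_succ']; exact le_sup_left
        · exact hVH.trans le_sup_right
      exact h.symm.le.trans (sup_le h1 le_sup_right)
  -- `c_n ≤ L_n ⊔ V`
  have hB : ∀ n, iterComm H n U ≤ H.lowerCentralSeries n ⊔ V := by
    intro n
    induction n with
    | zero =>
      show U ≤ H ⊔ V
      exact h.symm.le.trans (sup_le_sup_right (Subgroup.commutator_le_right U H) V)
    | succ n ih =>
      haveI : (H.lowerCentralSeries (n + 1)).Normal := lowerCentralSeries_normal H (n + 1)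
      rw [iterComm_succ']
      refine (Subgroup.commutator_mono ih le_rfl).trans ?_
      apply commutator_sup_le
      · rw [Subgroup.lowerCentralSeries_succ]; exact le_sup_left
      · exact hVH.trans le_sup_right
  have hUV' : U ≤ V := by
    refine (hA c).trans (sup_le ((hB c).trans ?_) le_rfl)
    rw [hc]
    exact sup_le bot_le le_rfl
  exact hlt.not_ge hUV'

/-- below a nontrivial normal subgroup there is a chief factor -/
theorem exists_isChief_below [Finite G] (W : Subgroup G) [hW : W.Normal] (hne : W ≠ ⊥) :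
    ∃ V : Subgroup G, IsChief W V := by
  obtain ⟨V, -, hV⟩ := Finite.exists_le_maximal (p := fun X : Subgroup G => X.Normal ∧ X < W)
    (a := ⊥) ⟨inferInstance, bot_lt_iff_ne_bot.2 hne⟩
  refine ⟨V, hW, hV.1.1, hV.1.2, ?_⟩
  intro X hX hVX hXW
  by_cases hXW' : X = W
  · right; exact hXW'
  · left
    have h1 : X ≤ V := hV.2 ⟨hX, lt_of_le_of_ne hXW hXW'⟩ hVX
    exact le_antisymm h1 hVX

/-- chain lemma: a subgroup centralizing all chief factors below `W` acts nilpotently on `W` -/
theorem exists_iterComm_eq_bot [Finite G] (K : Subgroup G) :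
    ∀ (n : ℕ) (W : Subgroup G), W.Normal → Nat.card W = n →
      (∀ U V : Subgroup G, IsChief U V → U ≤ W → ⁅U, K⁆ ≤ V) → ∃ m, iterComm K m W = ⊥ := by
  intro n
  induction n using Nat.strong_induction_on with
  | _ n ih =>
    intro W hW hn hK
    by_cases hne : W = ⊥
    · exact ⟨0, hne⟩
    haveI := hW
    obtain ⟨V, hV⟩ := exists_isChief_below W hne
    have hlt : Nat.card V < n := by
      rw [← hn]
      have hle : Nat.card V ≤ Nat.card W := Subgroup.card_le_of_le hV.2.2.1.le
      refine lt_of_le_of_ne hle ?_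
      intro h
      exact hV.2.2.1.ne (Subgroup.eq_of_le_of_card_ge hV.2.2.1.le h.ge)
    obtain ⟨m, hm⟩ := ih _ hlt V hV.2.1 rfl (fun U V' hUV hUV' =>
      hK U V' hUV (hUV'.trans hV.2.2.1.le))
    refine ⟨m + 1, ?_⟩
    rw [iterComm_succ, eq_bot_iff, ← hm]
    exact iterComm_mono K m (hK W V hV le_rfl)


theorem fn_normal (N : Subgroup G) [hN : N.Normal] :
    ((Cfsg.fittingSubgroup ↥N).map N.subtype).Normal := by
  rw [← Subgroup.normalizer_eq_top_iff, eq_top_iff]
  refine le_trans ?_ (normalizer_le_normalizer_map_characteristic N (Cfsg.fittingSubgroup N))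
  rw [Subgroup.normalizer_eq_top_iff.2 hN]

theorem fn_nilpotent [Finite G] (N : Subgroup G) :
    Group.IsNilpotent ((Cfsg.fittingSubgroup ↥N).map N.subtype) :=
  isNilpotent_map_of_injective _ _ fittingSubgroup_isNilpotent

theorem le_fn_of_normal_nilpotent (N : Subgroup G) {A : Subgroup G} (hAN : A ≤ N)
    (hA : A.Normal) (hnil : Group.IsNilpotent A) :
    A ≤ (Cfsg.fittingSubgroup ↥N).map N.subtype := by
  have h1 : (A.subgroupOf N).Normal := hA.subgroupOf N
  have h2 : Group.IsNilpotent (A.subgroupOf N) :=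
    (Group.isNilpotent_congr (Subgroup.subgroupOfEquivOfLe hAN)).2 hnil
  have h3 : A.subgroupOf N ≤ Cfsg.fittingSubgroup N := le_fittingSubgroup h1 h2
  calc A = (A.subgroupOf N).map N.subtype := (Subgroup.map_subgroupOf_eq_of_le hAN).symm
    _ ≤ _ := Subgroup.map_mono h3

theorem mem_fn_of_centralizes [Finite G] (hG : Group.IsSolvable G) (N : Subgroup G) [N.Normal]
    (g : G) (hgN : g ∈ N)
    (hg : ∀ U V : Subgroup G, IsChief U V → U ≤ (Cfsg.fittingSubgroup ↥N).map N.subtype →
      ∀ u ∈ U, ⁅u, g⁆ ∈ V) : g ∈ (Cfsg.fittingSubgroup ↥N).map N.subtype := by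
  classical
  set FN : Subgroup G := (Cfsg.fittingSubgroup ↥N).map N.subtype with hFN
  haveI hFNn : FN.Normal := fn_normal N
  have hFNnil : Group.IsNilpotent FN := fn_nilpotent N
  have hFNN : FN ≤ N := Subgroup.map_subtype_le _
  let C' : Subgroup G :=
    { carrier := {x | x ∈ N ∧ ∀ U V : Subgroup G, IsChief U V → U ≤ FN → ∀ u ∈ U, ⁅u, x⁆ ∈ V}
      one_mem' := ⟨N.one_mem, fun U V hUV _ u _ => by
        rw [commutatorElement_one_right]; exact V.one_mem⟩
      mul_mem' := by
        rintro x y ⟨hx, hx'⟩ ⟨hy, hy'⟩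
        refine ⟨N.mul_mem hx hy, fun U V hUV hU u hu => ?_⟩
        have h1 := hx' U V hUV hU u hu
        have h2 := hy' U V hUV hU u hu
        have e : ⁅u, x * y⁆ = ⁅u, x⁆ * (x * ⁅u, y⁆ * x⁻¹) := by
          simp only [commutatorElement_def]; group
        rw [e]
        exact V.mul_mem h1 (hUV.2.1.conj_mem _ h2 x)
      inv_mem' := by
        rintro x ⟨hx, hx'⟩
        refine ⟨N.inv_mem hx, fun U V hUV hU u hu => ?_⟩
        have h1 := hx' U V hUV hU u hu
        have e : ⁅u, x⁻¹⁆ = x⁻¹ * ⁅u, x⁆⁻¹ * x⁻¹⁻¹ := by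
          simp only [commutatorElement_def]; group
        rw [e]
        exact hUV.2.1.conj_mem _ (V.inv_mem h1) x⁻¹ }
  have hmemC' : ∀ x, x ∈ C' ↔ x ∈ N ∧ ∀ U V : Subgroup G, IsChief U V → U ≤ FN →
      ∀ u ∈ U, ⁅u, x⁆ ∈ V := fun x => Iff.rfl
  have hC'n : C'.Normal := by
    constructor
    intro x hx c
    rw [hmemC'] at hx ⊢
    refine ⟨(inferInstance : N.Normal).conj_mem x hx.1 c, fun U V hUV hU u hu => ?_⟩
    have hu' : c⁻¹ * u * c ∈ U := by
      have := hUV.1.conj_mem u hu c⁻¹
      rwa [inv_inv] at this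
    have h1 := hx.2 U V hUV hU _ hu'
    have e : ⁅u, c * x * c⁻¹⁆ = c * ⁅c⁻¹ * u * c, x⁆ * c⁻¹ := by
      simp only [commutatorElement_def]; group
    rw [e]
    exact hUV.2.1.conj_mem _ h1 c
  have hgC' : g ∈ C' := ⟨hgN, hg⟩
  have hC'N : C' ≤ N := fun x hx => hx.1
  have hC'K : ∀ U V : Subgroup G, IsChief U V → U ≤ FN → ⁅U, C'⁆ ≤ V := by
    intro U V hUV hU
    haveI := hUV.2.1
    rw [Subgroup.commutator_le]
    intro u hu x hx
    exact hx.2 U V hUV hU u hu
  have hFNC' : FN ≤ C' := by
    intro x hx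
    refine ⟨hFNN hx, fun U V hUV _ u hu => ?_⟩
    exact commutator_le_of_isChief hUV hFNnil (Subgroup.commutator_mem_commutator hu hx)
  by_contra hgF
  have hC'F : ¬ C' ≤ FN := fun h => hgF (h hgC')
  set D : ℕ → Subgroup G := fun i => (fun X : Subgroup G => ⁅X, X⁆)^[i] C' with hD
  have hDsucc : ∀ i, D (i + 1) = ⁅D i, D i⁆ := fun i => Function.iterate_succ_apply' _ _ _
  have hDn : ∀ i, (D i).Normal := by
    intro i
    induction i with
    | zero => exact hC'n
    | succ i ih =>
      rw [hDsucc]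
      haveI := ih
      exact Subgroup.commutator_normal _ _
  have hDle : ∀ i, D i ≤ C' := by
    intro i
    induction i with
    | zero => exact le_rfl
    | succ i ih =>
      rw [hDsucc]
      haveI := hDn i
      exact (Subgroup.commutator_le_left (D i) (D i)).trans ih
  have hDder : ∀ i, D i ≤ derivedSeries G i := by
    intro i
    induction i with
    | zero => exact le_top
    | succ i ih =>
      rw [hDsucc, derivedSeries_succ]
      exact Subgroup.commutator_mono ih ih
  obtain ⟨m, hm⟩ := hG.solvable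
  have hex : ∃ j, D j ≤ FN := ⟨m, by
    refine (hDder m).trans ?_
    rw [hm]; exact bot_le⟩
  have hj0 : Nat.find hex ≠ 0 := by
    intro h0
    have := Nat.find_spec hex
    rw [h0] at this
    exact hC'F this
  obtain ⟨i, hi⟩ : ∃ i, Nat.find hex = i + 1 := ⟨Nat.find hex - 1, by omega⟩
  have hDi : ¬ D i ≤ FN := Nat.find_min hex (by omega)
  have hDi1 : D (i + 1) ≤ FN := hi ▸ Nat.find_spec hex
  haveI := hDn i
  set A : Subgroup G := D i ⊔ FN with hA
  have hAn : A.Normal := inferInstance
  have hAC' : A ≤ C' := sup_le (hDle i) hFNC'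
  have hAA : ⁅A, A⁆ ≤ FN := by
    apply commutator_sup_le
    · apply commutator_sup_le'
      · rw [← hDsucc]; exact hDi1
      · exact Subgroup.commutator_le_right _ _
    · exact Subgroup.commutator_le_left _ _
  obtain ⟨n, hn⟩ := exists_iterComm_eq_bot A _ FN hFNn rfl (fun U V hUV hU =>
    (Subgroup.commutator_mono le_rfl hAC').trans (hC'K U V hUV hU))
  have hlcs : ∀ k, A.lowerCentralSeries (k + 1) ≤ iterComm A k FN := by
    intro k
    induction k with
    | zero =>
      rw [Subgroup.lowerCentralSeries_succ, Subgroup.lowerCentralSeries_zero]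
      exact hAA
    | succ k ih =>
      rw [Subgroup.lowerCentralSeries_succ, iterComm_succ']
      exact Subgroup.commutator_mono ih le_rfl
  have hAnil : Group.IsNilpotent A :=
    Subgroup.isNilpotent_of_lowerCentralSeries_eq_bot (n := n + 1) (by
      rw [eq_bot_iff, ← hn]; exact hlcs n)
  have hAFN : A ≤ FN := le_fn_of_normal_nilpotent N (hAC'.trans hC'N) hAn hAnil
  exact hDi (le_sup_left.trans hAFN)

theorem centralizes_of_mem_fn [Finite G] (N : Subgroup G) [N.Normal] (g : G)
    (hg : g ∈ (Cfsg.fittingSubgroup ↥N).map N.subtype) (U V : Subgroup G) (hUV : IsChief U V)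
    (u : G) (hu : u ∈ U) : ⁅u, g⁆ ∈ V := by
  haveI := fn_normal N
  exact commutator_le_of_isChief hUV (fn_nilpotent N) (Subgroup.commutator_mem_commutator hu hg)

/-- Let G be a finite solvable group and N a normal subgroup of G. Call a pair V < U of normal subgroups of G a chief factor of G when no normal subgroup of G lies strictly between them; an element g centralizes the chief factor U/V when u g u⁻¹ g⁻¹ ∈ V for all u ∈ U. Then an element of G lies in the Fitting subgroup F(N) if and only if it lies in N and centralizes every chief factor of G; and also if and only if it lies in N and centralizes every chief factor U/V of G with U ≤ F(N). -/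
theorem result {G : Type*} [Group G] [Finite G] (hG : Group.IsSolvable G) (N : Subgroup G) [N.Normal] (g : G) : (g ∈ (Cfsg.fittingSubgroup ↥N).map N.subtype ↔ g ∈ N ∧ ∀ U V : Subgroup G, (U.Normal ∧ V.Normal ∧ V < U ∧ ∀ W : Subgroup G, W.Normal → V ≤ W → W ≤ U → W = V ∨ W = U) → ∀ u ∈ U, u * g * u⁻¹ * g⁻¹ ∈ V) ∧ (g ∈ (Cfsg.fittingSubgroup ↥N).map N.subtype ↔ g ∈ N ∧ ∀ U V : Subgroup G, (U.Normal ∧ V.Normal ∧ V < U ∧ ∀ W : Subgroup G, W.Normal → V ≤ W → W ≤ U → W = V ∨ W = U) → U ≤ (Cfsg.fittingSubgroup ↥N).map N.subtype → ∀ u ∈ U, u * g * u⁻¹ * g⁻¹ ∈ V) := by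
  have hFNN : (Cfsg.fittingSubgroup ↥N).map N.subtype ≤ N := Subgroup.map_subtype_le _
  refine ⟨⟨fun h => ⟨hFNN h, fun U V hUV u hu => ?_⟩, fun h => ?_⟩,
    ⟨fun h => ⟨hFNN h, fun U V hUV _ u hu => ?_⟩, fun h => ?_⟩⟩
  · have := centralizes_of_mem_fn N g h U V hUV u hu
    rwa [commutatorElement_def] at this
  · apply mem_fn_of_centralizes hG N g h.1
    intro U V hUV _ u hu
    rw [commutatorElement_def]
    exact h.2 U V hUV u hu
  · have := centralizes_of_mem_fn N g h U V hUV u hu
    rwa [commutatorElement_def] at this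
  · apply mem_fn_of_centralizes hG N g h.1
    intro U V hUV hU u hu
    rw [commutatorElement_def]
    exact h.2 U V hUV hU u hu

end Cfsg.Agent.S3766
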