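import Cfsg.Statements.S3767
import Cfsg.Agent.Lib.Helper3.XSCyc2
import Cfsg.Agent.Lib.Helper1.XS10

set_option autoImplicit false
open Cfsg
open scoped commutatorElement

namespace Cfsg.Agent.S3767

/-- Let P be an extraspecial p-group of order p^(2n+1) and H a cyclic group of order h prime to p acting on P (inside a common finite group: H normalizes P) so that C_P(x) = Z(P) for every non-identity x ∈ H. Then h divides p^n + 1 or h divides p^n − 1. -/
theorem result {G : Type*} [Group G] [Finite G] {p : ℕ} [Fact p.Prime] (P H : Subgroup G) (hP : Cfsg.IsExtraspecial p ↥P) (n : ℕ) (hn : Nat.card P = p ^ (2 * n + 1)) (hH : IsCyclic H) (hcop : (Nat.card H).Coprime p) (hHP : H ≤ Subgroup.normalizer (P : Set G)) (hfix : ∀ x ∈ H, x ≠ 1 → P ⊓ Subgroup.centralizer {x} = (Subgroup.center ↥P).map P.subtype) : Nat.card H ∣ p ^ n + 1 ∨ Nat.card H ∣ p ^ n - 1 := by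
  classical
  have hp : p.Prime := Fact.out
  have hHpos : 0 < Nat.card H := Nat.card_pos
  by_cases hn0 : n = 0
  · right
    rw [hn0, pow_zero]
    exact dvd_zero _
  by_cases hH1 : Nat.card H = 1
  · left
    rw [hH1]
    exact one_dvd _
  have hn1 : 1 ≤ n := Nat.one_le_iff_ne_zero.2 hn0
  have hH2 : 2 ≤ Nat.card H := by omega
  obtain ⟨⟨hPp, hfr, hcm⟩, hZp⟩ := hP
  set Z₀ : Subgroup G := (Subgroup.center ↥P).map P.subtype with hZ₀
  have hZP : Z₀ ≤ P := by
    rintro z ⟨z', _, rfl⟩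
    exact z'.2
  -- z2
  have hz2 : ∀ z ∈ Z₀, ∀ g ∈ P, g * z = z * g := by
    rintro z ⟨z', hz', rfl⟩ g hg
    have := Subgroup.mem_center_iff.1 hz' ⟨g, hg⟩
    exact congrArg Subtype.val this
  -- z3
  have hz3 : ∀ a ∈ P, ∀ b ∈ P, a * b * a⁻¹ * b⁻¹ ∈ Z₀ := by
    intro a ha b hb
    have h1 : ⁅(⟨a, ha⟩ : P), ⟨b, hb⟩⁆ ∈ commutator P := by
      rw [commutator_def]
      exact Subgroup.commutator_mem_commutator (Subgroup.mem_top _) (Subgroup.mem_top _)
    rw [hcm] at h1
    refine ⟨_, h1, ?_⟩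
    rw [commutatorElement_def]
    rfl
  -- z4
  have hz4 : ∀ g ∈ P, g ∉ Z₀ → ∃ y ∈ P, y * g * y⁻¹ * g⁻¹ ≠ 1 := by
    intro g hg hgZ
    have h1 : (⟨g, hg⟩ : P) ∉ Subgroup.center P := fun h => hgZ ⟨_, h, rfl⟩
    rw [Subgroup.mem_center_iff] at h1
    push Not at h1
    obtain ⟨y, hy⟩ := h1
    refine ⟨y, y.2, ?_⟩
    intro h
    apply hy
    apply Subtype.ext
    show (y : G) * g = g * y
    have h2 : (y : G) * g = ((y : G) * g * (y : G)⁻¹ * g⁻¹) * (g * y) := by group
    rw [h2, h, one_mul]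
  -- z5
  have hz5 : Nat.card Z₀ = p := by
    rw [hZ₀, Subgroup.card_map_of_injective P.subtype_injective, hZp]
  -- z6
  have hz6 : ∀ z ∈ Z₀, ∀ s ∈ H, s * z = z * s := by
    intro z hz s hs
    by_cases hs1 : s = 1
    · rw [hs1, one_mul, mul_one]
    · have h1 : z ∈ P ⊓ Subgroup.centralizer {s} := by rw [hfix s hs hs1]; exact hz
      exact Subgroup.mem_centralizer_iff.1 h1.2 s rfl
  -- fpf in G
  have hfpfG : ∀ s ∈ H, s ≠ 1 → ∀ g ∈ P, s * g * s⁻¹ * g⁻¹ ∈ Z₀ → g ∈ Z₀ := by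
    intro s hs hs1 g hg hw
    set w := s * g * s⁻¹ * g⁻¹ with hwdef
    have h1 : s * g * s⁻¹ = g * w := by
      rw [hz2 w hw g hg, hwdef]; group
    have h2 : s ^ Nat.card H = 1 := by
      have : (⟨s, hs⟩ : H) ^ Nat.card H = 1 := pow_card_eq_one'
      exact congrArg Subtype.val this
    have h3 : w ^ p = 1 := by
      have : (⟨w, hw⟩ : Z₀) ^ Nat.card Z₀ = 1 := pow_card_eq_one'
      rw [hz5] at this
      exact congrArg Subtype.val this
    have h4 : w = 1 := Cfsg.Agent.Lib.Helper1.XS.fpf_lemma h2 h1 (hz6 w hw s hs) h3 hcop.symm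
    have h5 : g ∈ P ⊓ Subgroup.centralizer {s} := by
      refine Subgroup.mem_inf.2 ⟨hg, ?_⟩
      rw [Subgroup.mem_centralizer_iff]
      intro x hx
      rw [Set.mem_singleton_iff] at hx
      rw [hx]
      rw [h4, mul_one] at h1
      calc s * g = (s * g * s⁻¹) * s := by group
        _ = g * s := by rw [h1]
    rw [hfix s hs hs1] at h5
    exact h5
  -- the group Γ
  set K : Subgroup G := P ⊔ H with hK
  have hPK : P ≤ K := le_sup_left
  have hHK : H ≤ K := le_sup_right
  have hZK : Z₀ ≤ K := hZP.trans hPK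
  have : Fintype K := Fintype.ofFinite _
  have hcardP : Nat.card (P.subgroupOf K) = Nat.card P :=
    Nat.card_congr (Subgroup.subgroupOfEquivOfLe hPK).toEquiv
  have hcardH : Nat.card (H.subgroupOf K) = Nat.card H :=
    Nat.card_congr (Subgroup.subgroupOfEquivOfLe hHK).toEquiv
  have hcardZ : Nat.card (Z₀.subgroupOf K) = Nat.card Z₀ :=
    Nat.card_congr (Subgroup.subgroupOfEquivOfLe hZK).toEquiv
  have key := Cfsg.Agent.Lib.Helper3.XSCyc.main_abstract (P.subgroupOf K) (Z₀.subgroupOf K)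
    (H.subgroupOf K) p n ?_ ?_ ?_ ?_ ?_ ?_ ?_ ?_ hn1 ?_ ?_ ?_ ?_
  · rw [hcardH] at key
    exact key
  · -- hnorm
    intro s hs g hg
    rw [Subgroup.mem_subgroupOf] at hs hg ⊢
    have := (Subgroup.mem_normalizer_iff.1 (hHP hs) (g : G)).1 hg
    simpa using this
  · rw [hcardP, hcardH, hn]
    exact (Nat.Coprime.pow_left _ hcop.symm)
  · exact codisjoint_iff.1 (Subgroup.codisjoint_subgroupOf_sup P H)
  · exact (Subgroup.subgroupOfEquivOfLe hHK).symm.isCyclic.1 hH
  · intro z hz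
    rw [Subgroup.mem_subgroupOf] at hz ⊢
    exact hZP hz
  · -- central
    intro z hz
    rw [Subgroup.mem_subgroupOf] at hz
    rw [Subgroup.mem_center_iff]
    intro x
    apply Subtype.ext
    have hle : K ≤ Subgroup.centralizer {(z : G)} := by
      refine sup_le ?_ ?_
      · intro g hg
        rw [Subgroup.mem_centralizer_iff]
        rintro _ rfl
        exact (hz2 _ hz g hg).symm
      · intro s hs
        rw [Subgroup.mem_centralizer_iff]
        rintro _ rfl
        exact (hz6 _ hz s hs).symm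
    have := Subgroup.mem_centralizer_iff.1 (hle x.2) (z : G) rfl
    simpa using this.symm
  · rw [hcardZ, hz5]
  · rw [hcardP, hn]
  · rw [hcardH]; exact hH2
  · intro a ha b hb
    rw [Subgroup.mem_subgroupOf] at ha hb ⊢
    simpa using hz3 _ ha _ hb
  · intro g hg hgN
    rw [Subgroup.mem_subgroupOf] at hg hgN
    obtain ⟨y, hy, hne⟩ := hz4 _ hg hgN
    refine ⟨⟨y, hPK hy⟩, Subgroup.mem_subgroupOf.2 hy, ?_⟩
    intro h
    apply hne
    have := congrArg Subtype.val h
    simpa using this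
  · intro s hs hs1 g hg hw
    rw [Subgroup.mem_subgroupOf] at hs hg hw ⊢
    apply hfpfG _ hs ?_ _ hg
    · simpa using hw
    · intro h
      apply hs1
      exact Subtype.ext h

end Cfsg.Agent.S3767
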