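import Cfsg.Statements.S3768
import Cfsg.Agent.Lib.Helper1.FrobeniusTheorem
import Cfsg.Agent.Lib.Helper1.FrobeniusConj2

set_option autoImplicit false
open Cfsg
open scoped Pointwise

namespace Cfsg.Agent.S3768

open Cfsg.Agent.Lib.Helper1

theorem aux {G : Type*} [Group G] [Finite G] {K N : Subgroup G} [hN : N.Normal] (hNK : N ≤ K)
    (r₁ : G) (hC : K ⊓ Subgroup.centralizer {r₁} = ⊥) (k : G) (hk : k ∈ K)
    (h : r₁⁻¹ * k⁻¹ * r₁ * k ∈ N) : k ∈ N := by
  let φ : N → N := fun m => ⟨r₁⁻¹ * (m : G)⁻¹ * r₁ * m, by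
    have h1 : r₁⁻¹ * (m : G)⁻¹ * r₁ ∈ N := by
      have := hN.conj_mem _ (N.inv_mem m.2) r₁⁻¹
      simpa using this
    exact N.mul_mem h1 m.2⟩
  have hinj : ∀ m m' : G, m ∈ K → m' ∈ K → r₁⁻¹ * m⁻¹ * r₁ * m = r₁⁻¹ * m'⁻¹ * r₁ * m' →
      m = m' := by
    intro m m' hm hm' he
    have h1 : m' * m⁻¹ ∈ K ⊓ Subgroup.centralizer {r₁} := by
      refine Subgroup.mem_inf.mpr ⟨K.mul_mem hm' (K.inv_mem hm), ?_⟩
      rw [Subgroup.mem_centralizer_singleton_iff]
      have h2 : m⁻¹ * r₁ * m = m'⁻¹ * r₁ * m' := by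
        have := congrArg (fun z => r₁ * z) he
        simpa [mul_assoc] using this
      have h3 : r₁ * m = m * (m'⁻¹ * r₁ * m') := by
        rw [← h2]; group
      calc m' * m⁻¹ * r₁ = m' * m⁻¹ * (r₁ * m) * m⁻¹ := by group
        _ = m' * m⁻¹ * (m * (m'⁻¹ * r₁ * m')) * m⁻¹ := by rw [h3]
        _ = r₁ * (m' * m⁻¹) := by group
    rw [hC, Subgroup.mem_bot] at h1
    have := mul_inv_eq_one.mp h1
    exact this.symm
  have hφinj : Function.Injective φ := by
    intro m m' hmm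
    have h1 : r₁⁻¹ * (m : G)⁻¹ * r₁ * m = r₁⁻¹ * (m' : G)⁻¹ * r₁ * m' := congrArg Subtype.val hmm
    exact Subtype.ext (hinj _ _ (hNK m.2) (hNK m'.2) h1)
  have hφsurj : Function.Surjective φ := Finite.injective_iff_surjective.mp hφinj
  obtain ⟨n, hn⟩ := hφsurj ⟨_, h⟩
  have h1 : r₁⁻¹ * (n : G)⁻¹ * r₁ * n = r₁⁻¹ * k⁻¹ * r₁ * k := congrArg Subtype.val hn
  have := hinj _ _ (hNK n.2) hk h1
  rw [← this]
  exact n.2

/-- Let G be a finite Frobenius group with Frobenius complement R and Frobenius kernel K (the identity together with the elements in no conjugate of R), and let N be a normal subgroup of G not containing K. Then G/N is a Frobenius group with Frobenius complement RN/N whose Frobenius kernel is the image of K. -/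
theorem result {G : Type*} [Group G] [Finite G] (R : Subgroup G) (hR : Cfsg.IsFrobeniusComplement R) (N : Subgroup G) [N.Normal] (hKN : ¬ Cfsg.frobeniusKernel R ⊆ N) : Cfsg.IsFrobeniusComplement (R.map (QuotientGroup.mk' N)) ∧ Cfsg.frobeniusKernel (R.map (QuotientGroup.mk' N)) = QuotientGroup.mk' N '' Cfsg.frobeniusKernel R := by
  classical
  obtain ⟨K, hK, hKn, hKc⟩ := frobenius_theorem R hR
  have hNn : N.Normal := inferInstance
  have hdisj : K ⊓ R = ⊥ := frobenius_kernel_inf_eq_bot hK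
  have hNK : N ≤ K := by
    by_contra hcon
    have := frobenius_kernel_comparable hR hNn hK hKn hcon
    apply hKN
    rw [← hK]
    exact this
  have hKN' : ¬ K ≤ N := by
    intro h
    apply hKN
    rw [← hK]
    exact h
  set π := QuotientGroup.mk' N with hπ
  have hπ1 : ∀ x : G, π x = 1 ↔ x ∈ N := fun x => QuotientGroup.eq_one_iff x
  have hπeq : ∀ x y : G, π x = π y ↔ x⁻¹ * y ∈ N := fun x y => QuotientGroup.eq
  -- elements of `R` lying in `K` are trivial
  have hRK : ∀ r ∈ R, r ∈ K → r = 1 := by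
    intro r hr hrK
    have : r ∈ K ⊓ R := Subgroup.mem_inf.mpr ⟨hrK, hr⟩
    rw [hdisj, Subgroup.mem_bot] at this
    exact this
  -- key: if `r ∈ R` and `x ∈ K` (normal) with `π r = π x` then `x ∈ N`, `r = 1`.
  have hkey : ∀ r ∈ R, ∀ x ∈ K, π r = π x → r = 1 ∧ x ∈ N := by
    intro r hr x hx hrx
    rw [hπeq] at hrx
    have h1 : r⁻¹ * x ∈ K := hNK hrx
    have h2 : r ∈ K := by
      have : r = x * (r⁻¹ * x)⁻¹ := by group
      rw [this]
      exact K.mul_mem hx (K.inv_mem h1)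
    have h3 := hRK r hr h2
    refine ⟨h3, ?_⟩
    rw [h3] at hrx
    simpa using hrx
  have hsplit : ∀ x : G, ∃ k ∈ K, ∃ r ∈ R, x = k * r := by
    intro x
    obtain ⟨⟨k, r⟩, hkr⟩ := hKc.2 x
    exact ⟨k, k.2, r, r.2, hkr.symm⟩
  -- Part 1
  have hF : Cfsg.IsFrobeniusComplement (R.map π) := by
    refine ⟨?_, ?_, ?_⟩
    · intro hbot
      obtain ⟨⟨r, hr⟩, hr1⟩ := (Subgroup.ne_bot_iff_exists_ne_one.mp hR.1)
      have h1 : π r ∈ R.map π := Subgroup.mem_map_of_mem _ hr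
      rw [hbot, Subgroup.mem_bot] at h1
      have h2 : π r = π 1 := by rw [h1, map_one]
      have h3 := (hkey r hr 1 K.one_mem h2).1
      apply hr1
      exact Subtype.ext h3
    · intro htop
      apply hKN'
      intro k hk
      have : π k ∈ R.map π := by rw [htop]; trivial
      obtain ⟨r, hr, hrk⟩ := Subgroup.mem_map.mp this
      exact (hkey r hr k hk hrk).2
    · intro gbar hgbar
      obtain ⟨g, rfl⟩ := QuotientGroup.mk'_surjective N gbar
      obtain ⟨k, hk, r, hr, rfl⟩ := hsplit g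
      have hkN : k ∉ N := by
        intro hkN
        apply hgbar
        have : π (k * r) = π r := by
          rw [map_mul, (hπ1 k).mpr hkN, one_mul]
        rw [this]
        exact Subgroup.mem_map_of_mem _ hr
      rw [eq_bot_iff]
      intro xbar hx
      obtain ⟨hx1, hx2⟩ := Subgroup.mem_inf.mp hx
      rw [mem_conj_smul_iff'] at hx2
      obtain ⟨r₁, hr₁, rfl⟩ := Subgroup.mem_map.mp hx1
      obtain ⟨r₂, hr₂, hr₂e⟩ := Subgroup.mem_map.mp hx2
      rw [Subgroup.mem_bot]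
      by_contra hne
      have hr₁1 : r₁ ≠ 1 := by
        intro h
        apply hne
        rw [h, map_one]
      -- `k⁻¹ r₁ k r₂⁻¹ ∈ N`
      have h1 : π r₂ = π (k * r)⁻¹ * π r₁ * π (k * r) := hr₂e
      have h2 : π (r * r₂ * r⁻¹) = π (k⁻¹ * r₁ * k) := by
        simp only [map_mul, map_inv] at h1 ⊢
        rw [h1]; group
      have hr₃ : r * r₂ * r⁻¹ ∈ R := R.mul_mem (R.mul_mem hr hr₂) (R.inv_mem hr)
      set r₃ := r * r₂ * r⁻¹ with hr₃def
      rw [hπeq] at h2
      have h3 : r₃⁻¹ * (k⁻¹ * r₁ * k) ∈ K := hNK h2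
      have h4 : r₃⁻¹ * r₁ ∈ K := by
        have e : r₃⁻¹ * r₁ = (r₃⁻¹ * (k⁻¹ * r₁ * k)) * (k⁻¹ * (r₁⁻¹ * k * r₁⁻¹⁻¹)) := by group
        rw [e]
        exact K.mul_mem h3 (K.mul_mem (K.inv_mem hk) (hKn.conj_mem k hk r₁⁻¹))
      have h5 : r₃⁻¹ * r₁ = 1 := hRK _ (R.mul_mem (R.inv_mem hr₃) hr₁) h4
      have h6 : r₃ = r₁ := inv_mul_eq_one.mp h5
      rw [h6] at h2
      have hr₁K : r₁ ∉ K := fun h => hr₁1 (hRK r₁ hr₁ h)
      have hC := frobenius_centralizer_inf_kernel hR hK hKn hr₁K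
      apply hkN
      apply aux hNK r₁ hC k hk
      have e : r₁⁻¹ * k⁻¹ * r₁ * k = r₁⁻¹ * (k⁻¹ * r₁ * k) := by group
      rw [e]; exact h2
  refine ⟨hF, ?_⟩
  obtain ⟨K', hK', hK'n, hK'c⟩ := frobenius_theorem (R.map π) hF
  have hdisj' : K' ⊓ R.map π = ⊥ := frobenius_kernel_inf_eq_bot hK'
  -- the image of `K` lies in the kernel
  have hsub : ∀ k ∈ K, π k ∈ Cfsg.frobeniusKernel (R.map π) := by
    intro k hk
    by_cases h1 : π k = 1
    · exact Or.inl h1
    · right
      intro gbar hg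
      obtain ⟨g, rfl⟩ := QuotientGroup.mk'_surjective N gbar
      rw [mem_conj_smul_iff'] at hg
      obtain ⟨r, hr, hre⟩ := Subgroup.mem_map.mp hg
      have h2 : π r = π (g⁻¹ * k * g) := by
        rw [hre]; simp only [map_mul, map_inv]; rfl
      have h3 : g⁻¹ * k * g ∈ K := by
        have := hKn.conj_mem k hk g⁻¹
        simpa using this
      have h4 := (hkey r hr _ h3 h2).2
      apply h1
      rw [hπ1]
      have := hNn.conj_mem _ h4 g
      have e : g * (g⁻¹ * k * g) * g⁻¹ = k := by group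
      rw [e] at this
      exact this
  apply Set.Subset.antisymm
  · intro xbar hx
    obtain ⟨x, rfl⟩ := QuotientGroup.mk'_surjective N xbar
    obtain ⟨k, hk, r, hr, rfl⟩ := hsplit x
    have h1 : π k ∈ K' := by
      have := hsub k hk
      rw [← hK'] at this
      exact this
    have h2 : π (k * r) ∈ K' := by
      rw [← hK'] at hx
      exact hx
    have h3 : π r ∈ K' := by
      have e : π r = (π k)⁻¹ * π (k * r) := by rw [map_mul]; group
      rw [e]
      exact K'.mul_mem (K'.inv_mem h1) h2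
    have h4 : π r ∈ K' ⊓ R.map π := Subgroup.mem_inf.mpr ⟨h3, Subgroup.mem_map_of_mem _ hr⟩
    rw [hdisj', Subgroup.mem_bot] at h4
    refine ⟨k, ?_, ?_⟩
    · rw [← hK]; exact hk
    · rw [map_mul, h4, mul_one]
  · rintro _ ⟨k, hk, rfl⟩
    rw [← hK] at hk
    exact hsub k hk

end Cfsg.Agent.S3768
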