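import Cfsg.Statements.S3771
import Cfsg.Agent.Lib.Helper2.PGroupNormal
import Cfsg.Agent.Lib.Helper1.MaxAbelianNormal

set_option autoImplicit false
open Cfsg

namespace Cfsg.Agent.S3771
open Cfsg.Agent.Lib.Helper2 Cfsg.Agent.Lib.Helper1

/-- Let p be a prime and R a finite p-group of p-rank at most 2 (no elementary abelian subgroup of order p³) in which every element has order dividing p. Then R has order at most p³. -/
theorem result {R : Type*} [Group R] [Finite R] {p : ℕ} [Fact p.Prime] (hR : IsPGroup p R) (hrank : Cfsg.PRankLE p 2 R) (hexp : ∀ x : R, x ^ p = 1) : Nat.card R ≤ p ^ 3 := by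
  have hpp : p.Prime := Fact.out
  have hnil : Group.IsNilpotent R := hR.isNilpotent
  obtain ⟨A, hAmax⟩ := (Set.toFinite {N : Subgroup R | N.Normal ∧ IsMulCommutative ↥N}).exists_maximal
    ⟨⊥, Subgroup.normal_bot, inferInstance⟩
  obtain ⟨⟨hAn, hAa⟩, hAm⟩ := hAmax
  have hCA : Subgroup.centralizer (A : Set R) = A := by
    apply centralizer_eq_of_maximal_abelian_normal
    intro M hMn hMa hAM
    exact le_antisymm (hAm ⟨hMn, hMa⟩ hAM) hAM
  have hAle : Nat.card A ≤ p ^ 2 := hrank A hAa (fun a _ => hexp a)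
  obtain ⟨m, hm⟩ := IsPGroup.iff_card.1 (hR.to_subgroup A)
  have hm2 : m ≤ 2 := by
    rw [hm] at hAle
    exact (Nat.pow_le_pow_iff_right hpp.one_lt).1 hAle
  have hmul := Subgroup.card_mul_index A
  interval_cases m
  · rw [pow_zero, Subgroup.card_eq_one] at hm
    have : Subgroup.centralizer (A : Set R) = ⊤ := by
      rw [hm]; simp
    rw [hCA, hm] at this
    have h1 : Nat.card R = 1 := by
      rw [← Subgroup.card_top, ← this, Subgroup.card_bot]
    rw [h1]
    exact Nat.one_le_pow _ _ hpp.pos
  · rw [pow_one] at hm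
    have hAne : A ≠ ⊥ := by
      rintro rfl
      rw [Subgroup.card_bot] at hm
      exact hpp.one_lt.ne' hm.symm
    have hne := normal_inf_center_ne_bot A hAne
    have hAZ : A ≤ Subgroup.center R := by
      have hd : Nat.card (A ⊓ Subgroup.center R : Subgroup R) ∣ p := by
        rw [← hm]; exact Subgroup.card_dvd_of_le inf_le_left
      rcases (Nat.dvd_prime hpp).1 hd with h1 | h1
      · exact absurd (Subgroup.card_eq_one.1 h1) hne
      · have : A ⊓ Subgroup.center R = A :=
          Subgroup.eq_of_le_of_card_ge inf_le_left (by rw [h1, hm])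
        rw [← this]; exact inf_le_right
    have : Subgroup.centralizer (A : Set R) = ⊤ := Subgroup.centralizer_eq_top_iff_subset.2 hAZ
    rw [hCA] at this
    rw [← Subgroup.card_top, ← this, hm]
    calc p = p ^ 1 := (pow_one p).symm
      _ ≤ p ^ 3 := Nat.pow_le_pow_right hpp.pos (by norm_num)
  · have hidx := index_centralizer_dvd_prime hR A hm
    rw [hCA] at hidx
    have hle : A.index ≤ p := Nat.le_of_dvd hpp.pos hidx
    rw [← hmul, hm]
    calc p ^ 2 * A.index ≤ p ^ 2 * p := Nat.mul_le_mul_left _ hle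
      _ = p ^ 3 := by ring

end Cfsg.Agent.S3771
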