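import Cfsg.Statements.S3773
import Cfsg.Agent.Lib.Helper2.QuadCW
import Cfsg.Agent.Lib.Helper2.PGroupNormal
import Cfsg.Agent.Lib.Helper2.PGroup
import Cfsg.Agent.Lib.Helper1.FrattiniP

set_option autoImplicit false
open Cfsg

namespace Cfsg.Agent.S3773

open scoped commutatorElement
open Cfsg.Agent.Lib.Helper2

variable {G : Type*} [Group G]

/-- the subgroup of involutions -/
def invSub (hN : ∀ x y : G, x ^ 2 = 1 → y ^ 2 = 1 → (x * y) ^ 2 = 1) : Subgroup G where
  carrier := {x | x ^ 2 = 1}
  one_mem' := one_pow 2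
  mul_mem' := fun {x y} hx hy => hN x y hx hy
  inv_mem' := by
    intro x hx
    show (x⁻¹) ^ 2 = 1
    rw [inv_pow, show x ^ 2 = 1 from hx, inv_one]

theorem mem_invSub (hN : ∀ x y : G, x ^ 2 = 1 → y ^ 2 = 1 → (x * y) ^ 2 = 1) (x : G) :
    x ∈ invSub hN ↔ x ^ 2 = 1 := Iff.rfl

/-- commutators are central in class two -/
theorem commutator_mem_center (hcl : (⊤ : Subgroup G).lowerCentralSeries 2 = ⊥) (g h : G) :
    ⁅g, h⁆ ∈ Subgroup.center G := by
  rw [Subgroup.mem_center_iff]
  intro k
  have h1 : ⁅⁅g, h⁆, k⁆ ∈ (⊤ : Subgroup G).lowerCentralSeries 2 := by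
    rw [Subgroup.lowerCentralSeries_succ, Subgroup.lowerCentralSeries_succ,
      Subgroup.lowerCentralSeries_zero]
    exact Subgroup.commutator_mem_commutator
      (Subgroup.commutator_mem_commutator (Subgroup.mem_top g) (Subgroup.mem_top h))
      (Subgroup.mem_top k)
  rw [hcl, Subgroup.mem_bot, commutatorElement_eq_one_iff_commute] at h1
  exact h1.eq.symm

/-- commutators are involutions -/
theorem commutator_sq (hcl : (⊤ : Subgroup G).lowerCentralSeries 2 = ⊥)
    (hexp : ∀ x : G, x ^ 4 = 1) (y x : G) : ⁅y, x⁆ ^ 2 = 1 := by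
  have hc := Subgroup.mem_center_iff.mp (commutator_mem_center hcl y x)
  have h0 : y * x = ⁅y, x⁆ * x * y := by simp only [commutatorElement_def]; group
  have h1 := mul_pow_of_central_commutator h0 (hc x).symm (hc y).symm 4
  rw [hexp, hexp, hexp, one_mul, one_mul] at h1
  have h2 : Nat.choose 4 2 = 6 := by decide
  rw [h2] at h1
  have h3 : ⁅y, x⁆ ^ 6 = ⁅y, x⁆ ^ 4 * ⁅y, x⁆ ^ 2 := by rw [← pow_add]
  rw [h3, hexp, one_mul] at h1
  exact h1.symm

/-- squares are central -/
theorem sq_mem_center (hcl : (⊤ : Subgroup G).lowerCentralSeries 2 = ⊥)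
    (hexp : ∀ x : G, x ^ 4 = 1) (g : G) : g ^ 2 ∈ Subgroup.center G := by
  rw [Subgroup.mem_center_iff]
  intro h
  have hc := Subgroup.mem_center_iff.mp (commutator_mem_center hcl g h)
  have h0 : g * h = ⁅g, h⁆ * h * g := by simp only [commutatorElement_def]; group
  have h2 := commutator_sq hcl hexp g h
  calc h * g ^ 2 = ⁅g, h⁆ ^ 2 * h * g ^ 2 := by rw [h2, one_mul]
    _ = ⁅g, h⁆ * (⁅g, h⁆ * h * g) * g := by simp only [pow_two, mul_assoc]
    _ = ⁅g, h⁆ * (g * h) * g := by rw [← h0]
    _ = g * (⁅g, h⁆ * h * g) := by rw [← mul_assoc, ← hc g]; simp only [mul_assoc]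
    _ = g ^ 2 * h := by rw [← h0]; simp only [pow_two, mul_assoc]


/-- Let G be a finite 2-group of nilpotency class at most 2 and exponent dividing 4 in which the elements x with x² = 1 form a subgroup N. Then |G| ≤ |N|³, and |G| < |N|³ unless G is special. -/
theorem result {G : Type*} [Group G] [Finite G] (hG : IsPGroup 2 G) (hcl : (⊤ : Subgroup G).lowerCentralSeries 2 = ⊥) (hexp : ∀ x : G, x ^ 4 = 1) (hN : ∀ x y : G, x ^ 2 = 1 → y ^ 2 = 1 → (x * y) ^ 2 = 1) : Nat.card G ≤ Nat.card {x : G // x ^ 2 = 1} ^ 3 ∧ (¬ Cfsg.IsSpecial 2 G → Nat.card G < Nat.card {x : G // x ^ 2 = 1} ^ 3) := by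
  classical
  set N : Subgroup G := invSub hN with hNdef
  set T : Subgroup G := N ⊓ Subgroup.center G with hTdef
  have hTc : T ≤ Subgroup.center G := inf_le_right
  have hT2 : ∀ t ∈ T, t ^ 2 = 1 := fun t ht => (Subgroup.mem_inf.mp ht).1
  have hsqN : ∀ g : G, g ^ 2 ∈ N := by
    intro g
    show (g ^ 2) ^ 2 = 1
    rw [← pow_mul]; exact hexp g
  have hsq : ∀ g : G, g ^ 2 ∈ T := fun g =>
    Subgroup.mem_inf.mpr ⟨hsqN g, sq_mem_center hcl hexp g⟩
  have hidx : N.index ≤ Nat.card T ^ 2 :=
    index_le_card_sq_of_central_sq T hTc hT2 hsq N (fun x hx => hx)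
  have hcardN : Nat.card {x : G // x ^ 2 = 1} = Nat.card N := rfl
  have hGN : Nat.card N * N.index = Nat.card G := N.card_mul_index
  have hTN : Nat.card T ≤ Nat.card N := Subgroup.card_le_of_le inf_le_left
  have hnpos : 0 < Nat.card N := Nat.card_pos
  have hpart1 : Nat.card G ≤ Nat.card N ^ 3 := by
    rw [← hGN]
    calc Nat.card N * N.index ≤ Nat.card N * Nat.card T ^ 2 := Nat.mul_le_mul_left _ hidx
      _ ≤ Nat.card N * Nat.card N ^ 2 := Nat.mul_le_mul_left _ (Nat.pow_le_pow_left hTN 2)
      _ = Nat.card N ^ 3 := by ring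
  rw [hcardN]
  refine ⟨hpart1, fun hns => ?_⟩
  by_contra hlt
  push Not at hlt
  apply hns
  -- the equality case
  have hidx2 : N.index = Nat.card N ^ 2 := by
    have h1 : Nat.card N * Nat.card N ^ 2 ≤ Nat.card N * N.index := by
      rw [hGN]; calc Nat.card N * Nat.card N ^ 2 = Nat.card N ^ 3 := by ring
        _ ≤ Nat.card G := hlt
    have h2 := Nat.le_of_mul_le_mul_left h1 hnpos
    exact le_antisymm (hidx.trans (Nat.pow_le_pow_left hTN 2)) h2
  have hTN2 : Nat.card N ≤ Nat.card T := by
    have : Nat.card N ^ 2 ≤ Nat.card T ^ 2 := hidx2 ▸ hidx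
    exact (Nat.pow_le_pow_iff_left (by norm_num)).mp this
  have hTeq : T = N := Subgroup.eq_of_le_of_card_ge inf_le_left hTN2
  have hNc : N ≤ Subgroup.center G := hTeq ▸ hTc
  -- the commutator subgroup lies in `N` and in the centre
  have hDN : commutator G ≤ N := by
    rw [commutator_def, Subgroup.commutator_le]
    intro g _ h _
    exact commutator_sq hcl hexp g h
  -- `Z(G) ≤ N`
  have hcN : Subgroup.center G ≤ N := by
    intro z hz
    by_contra hzN
    have hzc := Subgroup.mem_center_iff.mp hz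
    set w := z ^ 2 with hw
    have hwN : w ∈ N := hsqN z
    set K : Subgroup G := Subgroup.zpowers w with hK
    have hKc : K ≤ Subgroup.center G := by
      rw [hK, Subgroup.zpowers_le]
      exact hNc hwN
    haveI hKn : K.Normal := normal_of_le_center' K hKc
    have hKN : K ≤ N := by rw [hK, Subgroup.zpowers_le]; exact hwN
    set f : G →* G ⧸ K := QuotientGroup.mk' K with hf
    have hfsurj : Function.Surjective f := QuotientGroup.mk'_surjective K
    have hker : f.ker = K := QuotientGroup.ker_mk' K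
    set Tb : Subgroup (G ⧸ K) := N.map f with hTb
    set Nb : Subgroup (G ⧸ K) := (N ⊔ Subgroup.zpowers z).map f with hNb
    have hTbc : Tb ≤ Subgroup.center (G ⧸ K) := by
      rintro _ ⟨n, hn, rfl⟩
      rw [Subgroup.mem_center_iff]
      intro gb
      obtain ⟨g, rfl⟩ := hfsurj gb
      rw [← map_mul, ← map_mul, Subgroup.mem_center_iff.mp (hNc hn) g]
    have hTb2 : ∀ t ∈ Tb, t ^ 2 = 1 := by
      rintro _ ⟨n, hn, rfl⟩
      rw [← map_pow, show n ^ 2 = 1 from hn, map_one]
    have hsqb : ∀ gb : G ⧸ K, gb ^ 2 ∈ Tb := by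
      intro gb
      obtain ⟨g, rfl⟩ := hfsurj gb
      rw [← map_pow]
      exact Subgroup.mem_map_of_mem f (hsqN g)
    have hNb2 : ∀ xb : G ⧸ K, xb ^ 2 = 1 → xb ∈ Nb := by
      intro xb hxb
      obtain ⟨x, rfl⟩ := hfsurj xb
      rw [← map_pow, ← MonoidHom.mem_ker, hker, hK, Subgroup.mem_zpowers_iff] at hxb
      obtain ⟨j, hj⟩ := hxb
      have hzj : ∀ g : G, g * z ^ (-j) = z ^ (-j) * g := fun g =>
        (Subgroup.mem_center_iff.mp (Subgroup.zpow_mem _ hz (-j)) g)
      have hu : x * z ^ (-j) ∈ N := by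
        show (x * z ^ (-j)) ^ 2 = 1
        calc (x * z ^ (-j)) ^ 2 = x * (z ^ (-j) * x) * z ^ (-j) := by
              simp only [pow_two, mul_assoc]
          _ = x * (x * z ^ (-j)) * z ^ (-j) := by rw [← hzj x]
          _ = x ^ 2 * (z ^ 2) ^ (-j) := by
              rw [pow_two z, (Commute.refl z).mul_zpow]
              simp only [pow_two, mul_assoc]
          _ = 1 := by rw [← hj, ← hw, ← zpow_add, add_neg_cancel, zpow_zero]
      have hx : x = (x * z ^ (-j)) * z ^ j := by
        rw [mul_assoc, ← zpow_add, neg_add_cancel, zpow_zero, mul_one]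
      rw [hx]
      exact Subgroup.mem_map_of_mem f
        (Subgroup.mul_mem_sup hu (Subgroup.zpow_mem_zpowers z j))
    have h1 : Nb.index ≤ Nat.card Tb ^ 2 :=
      index_le_card_sq_of_central_sq Tb hTbc hTb2 hsqb Nb hNb2
    have h2 : Nb.index = (N ⊔ Subgroup.zpowers z).index :=
      Subgroup.index_map_eq _ hfsurj (by rw [hker]; exact hKN.trans le_sup_left)
    have h3 : Tb.index = N.index := Subgroup.index_map_eq _ hfsurj (by rw [hker]; exact hKN)
    -- `|Tb| * 2 = |N|`
    have h4 : Nat.card Tb * 2 = Nat.card N := by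
      have h5 := Tb.card_mul_index
      have h6 := Subgroup.card_eq_card_quotient_mul_card_subgroup K
      have h7 : Nat.card K = 2 := by
        rw [hK, Nat.card_zpowers]
        apply orderOf_eq_prime
        · show (z ^ 2) ^ 2 = 1
          rw [← pow_mul]; exact hexp z
        · exact hzN
      rw [h3] at h5
      rw [h7, ← h5, ← hGN] at h6
      have hipos : 0 < N.index := Nat.pos_of_ne_zero Subgroup.index_ne_zero_of_finite
      have : N.index * Nat.card N = N.index * (Nat.card Tb * 2) := by
        rw [mul_comm] at h6; rw [h6]; ring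
      exact (Nat.eq_of_mul_eq_mul_left hipos this).symm
    -- `|N⟨z⟩ : N| ≤ 2`
    have h8 : N.relIndex (N ⊔ Subgroup.zpowers z) ≤ 2 := by
      haveI : N.Normal := normal_of_le_center' N hNc
      rw [Subgroup.relIndex_sup_left]
      have h9 := Subgroup.relIndex_comap (H := (⊥ : Subgroup (G ⧸ N))) (QuotientGroup.mk' N)
        (Subgroup.zpowers z)
      rw [MonoidHom.comap_bot, QuotientGroup.ker_mk', Subgroup.relIndex_bot_left,
        MonoidHom.map_zpowers, Nat.card_zpowers] at h9
      rw [h9]
      apply Nat.le_of_dvd (by norm_num)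
      apply orderOf_dvd_of_pow_eq_one
      rw [← map_pow, QuotientGroup.mk'_apply, QuotientGroup.eq_one_iff]
      exact hsqN z
    have h10 := Subgroup.relIndex_mul_index (show N ≤ N ⊔ Subgroup.zpowers z from le_sup_left)
    -- contradiction
    have h11 : Nat.card N ^ 2 ≤ 2 * Nat.card Tb ^ 2 := by
      rw [← hidx2, ← h10]
      calc N.relIndex (N ⊔ Subgroup.zpowers z) * (N ⊔ Subgroup.zpowers z).index
          ≤ 2 * (N ⊔ Subgroup.zpowers z).index := Nat.mul_le_mul_right _ h8
        _ ≤ 2 * Nat.card Tb ^ 2 := Nat.mul_le_mul_left _ (h2 ▸ h1)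
    rw [← h4] at h11
    have hTbpos : 0 < Nat.card Tb := Nat.card_pos
    nlinarith
  have hZN : Subgroup.center G = N := le_antisymm hcN hNc
  -- `G' = N`
  have hDeq : commutator G = N := by
    set D : Subgroup G := commutator G with hD
    have hDc : D ≤ Subgroup.center G := hDN.trans hNc
    let K₂ : Subgroup G :=
      { carrier := {x | x ^ 2 ∈ D}
        one_mem' := by show (1 : G) ^ 2 ∈ D; rw [one_pow]; exact D.one_mem
        mul_mem' := by
          intro x y hx hy
          show (x * y) ^ 2 ∈ D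
          rw [mul_sq_of_central hTc hsq]
          refine D.mul_mem (D.mul_mem ?_ hx) hy
          rw [hD, commutator_def]
          exact Subgroup.commutator_mem_commutator (Subgroup.mem_top _) (Subgroup.mem_top _)
        inv_mem' := by
          intro x hx
          show (x⁻¹) ^ 2 ∈ D
          rw [inv_pow]
          exact D.inv_mem hx }
    have hmemK : ∀ x : G, x ∈ K₂ ↔ x ^ 2 ∈ D := fun x => Iff.rfl
    have hDK : D ≤ K₂ := by
      intro d hd
      rw [hmemK, show d ^ 2 = 1 from hDN hd]
      exact D.one_mem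
    have hNK : N ≤ K₂ := by
      intro x hx
      rw [hmemK, show x ^ 2 = 1 from hx]
      exact D.one_mem
    -- the refined bound in `K₂`
    have h1 : (N.subgroupOf K₂).index ≤ Nat.card (D.subgroupOf K₂) ^ 2 := by
      apply index_le_card_sq_of_central_sq
      · intro t ht
        rw [Subgroup.mem_subgroupOf] at ht
        rw [Subgroup.mem_center_iff]
        intro g
        apply Subtype.ext
        exact Subgroup.mem_center_iff.mp (hDc ht) g
      · intro t ht
        rw [Subgroup.mem_subgroupOf] at ht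
        apply Subtype.ext
        exact hDN ht
      · intro g
        rw [Subgroup.mem_subgroupOf]
        exact g.2
      · intro x hx
        rw [Subgroup.mem_subgroupOf]
        exact congrArg Subtype.val hx
    have h2 : Nat.card (D.subgroupOf K₂) = Nat.card D :=
      Nat.card_congr (Subgroup.subgroupOfEquivOfLe hDK).toEquiv
    rw [h2] at h1
    -- the squaring map into the abelianization
    let sq : G →* Abelianization G := (powMonoidHom 2).comp Abelianization.of
    have hsqker : sq.ker = K₂ := by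
      ext x
      rw [MonoidHom.mem_ker, hmemK]
      show (Abelianization.of x) ^ 2 = 1 ↔ _
      rw [← map_pow]
      exact QuotientGroup.eq_one_iff _
    have hsqrange : sq.range ≤ N.map (QuotientGroup.mk' (commutator G)) := by
      rintro _ ⟨x, rfl⟩
      show (Abelianization.of x) ^ 2 ∈ _
      rw [← map_pow]
      exact Subgroup.mem_map_of_mem _ (hsqN x)
    have h3 : K₂.index ≤ D.relIndex N := by
      rw [← hsqker, Subgroup.index_ker]
      have h9 := Subgroup.relIndex_comap (H := (⊥ : Subgroup (G ⧸ commutator G)))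
        (QuotientGroup.mk' (commutator G)) N
      rw [MonoidHom.comap_bot, QuotientGroup.ker_mk', Subgroup.relIndex_bot_left] at h9
      rw [hD, h9]
      exact Subgroup.card_le_of_le hsqrange
    have h4 := Subgroup.relIndex_mul_index hNK
    have h5 := card_mul_relIndex hDN
    have h6 : Nat.card N ≤ Nat.card D := by
      have h7 : Nat.card N ^ 2 ≤ Nat.card D ^ 2 * D.relIndex N := by
        rw [← hidx2, ← h4]
        exact Nat.mul_le_mul h1 h3
      have hDpos : 0 < Nat.card D := Nat.card_pos
      rw [← h5] at h7 ⊢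
      have h8 : D.relIndex N ≤ 1 := by
        by_contra hcon
        push Not at hcon
        have hrpos : 0 < D.relIndex N := by omega
        have : (Nat.card D * D.relIndex N) ^ 2 = Nat.card D ^ 2 * D.relIndex N * D.relIndex N := by
          ring
        rw [this] at h7
        have h9 : Nat.card D ^ 2 * D.relIndex N * 2 ≤ Nat.card D ^ 2 * D.relIndex N * D.relIndex N :=
          Nat.mul_le_mul_left _ hcon
        have h10 : 0 < Nat.card D ^ 2 * D.relIndex N := by positivity
        omega
      calc Nat.card D * D.relIndex N ≤ Nat.card D * 1 := Nat.mul_le_mul_left _ h8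
        _ = Nat.card D := mul_one _
    exact Subgroup.eq_of_le_of_card_ge hDN h6
  -- the Frattini subgroup
  haveI : Fact (Nat.Prime 2) := ⟨Nat.prime_two⟩
  have hΦ : frattini G = N := by
    apply le_antisymm
    · exact Cfsg.Agent.Lib.Helper1.frattini_le_of_elementary_quotient 2 N hDN hsqN
    · rw [← hDeq]
      exact Cfsg.Agent.Lib.Helper1.commutator_le_frattini_of_isPGroup 2 hG
  exact ⟨hG, hΦ.trans hZN.symm, hDeq.trans hZN.symm⟩

end Cfsg.Agent.S3773
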