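import Cfsg.Statements.S3774
-- import your own Cfsg.Agent.* helpers here

set_option autoImplicit false
open Cfsg

namespace Cfsg.Agent.S3774

variable {G : Type*} [Group G]

/-- the involution attached to a nonidentity element of a `2`-group -/
noncomputable def iota (x : G) : G := x ^ (orderOf x / 2)

theorem iota_map (a : MulAut G) (x : G) : iota (a x) = a (iota x) := by
  unfold iota
  rw [map_pow]
  congr 2
  exact orderOf_injective a.toMonoidHom a.injective x

theorem iota_props [Finite G] (hG : IsPGroup 2 G) {x : G} (hx : x ≠ 1) :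
    iota x ≠ 1 ∧ iota x ^ 2 = 1 := by
  haveI : Fact (Nat.Prime 2) := ⟨Nat.prime_two⟩
  obtain ⟨k, hk⟩ := IsPGroup.iff_orderOf.mp hG x
  have hk0 : k ≠ 0 := by
    rintro rfl
    rw [pow_zero, orderOf_eq_one_iff] at hk
    exact hx hk
  obtain ⟨j, rfl⟩ : ∃ j, k = j + 1 := ⟨k - 1, by omega⟩
  have h1 : orderOf x / 2 = 2 ^ j := by
    rw [hk, pow_succ, Nat.mul_div_cancel _ (by norm_num)]
  unfold iota
  rw [h1]
  constructor
  · intro h
    have := orderOf_dvd_of_pow_eq_one h
    rw [hk] at this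
    have h2 := Nat.le_of_dvd (by positivity) this
    have : 2 ^ j < 2 ^ (j + 1) := Nat.pow_lt_pow_right (by norm_num) (by omega)
    omega
  · rw [← pow_mul, ← pow_succ, ← hk, pow_orderOf_eq_one]


/-- Let G be a nontrivial finite 2-group whose automorphism group permutes the involutions of G transitively. Then every involution of G is central, so that the involutions together with 1 form the subgroup Ω₁(Z(G)), and if this subgroup has order q then |G| is a power of q. -/
theorem result {G : Type*} [Group G] [Finite G] [Nontrivial G] (hG : IsPGroup 2 G) (htrans : ∀ x y : G, x ≠ 1 → x ^ 2 = 1 → y ≠ 1 → y ^ 2 = 1 → ∃ a : MulAut G, a x = y) : (∀ x : G, x ^ 2 = 1 → x ∈ Subgroup.center G) ∧ ∃ m : ℕ, Nat.card G = Nat.card {z : G // z ^ 2 = 1} ^ m := by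
  classical
  haveI : Fact (Nat.Prime 2) := ⟨Nat.prime_two⟩
  haveI := Fintype.ofFinite G
  -- a central involution
  have hcent : ∃ z₀ : G, z₀ ∈ Subgroup.center G ∧ z₀ ≠ 1 ∧ z₀ ^ 2 = 1 := by
    haveI : Nontrivial (Subgroup.center G) := hG.center_nontrivial
    obtain ⟨c, hc⟩ := exists_ne (1 : Subgroup.center G)
    have h1 : (c : G) ≠ 1 := fun h => hc (Subtype.ext h)
    obtain ⟨h2, h3⟩ := iota_props hG h1
    refine ⟨iota (c : G), ?_, h2, h3⟩
    exact Subgroup.pow_mem _ c.2 _
  obtain ⟨z₀, hz₀c, hz₀1, hz₀2⟩ := hcent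
  have hpart1 : ∀ x : G, x ^ 2 = 1 → x ∈ Subgroup.center G := by
    intro x hx
    by_cases hx1 : x = 1
    · rw [hx1]; exact Subgroup.one_mem _
    obtain ⟨a, ha⟩ := htrans z₀ x hz₀1 hz₀2 hx1 hx
    rw [← ha, Subgroup.mem_center_iff]
    intro g
    have h1 := Subgroup.mem_center_iff.mp hz₀c (a⁻¹ g)
    have h2 := congrArg a h1
    rw [map_mul, map_mul, MulAut.apply_inv_self] at h2
    exact h2
  refine ⟨hpart1, ?_⟩
  -- the subgroup of involutions
  let Z : Subgroup G :=
    { carrier := {x | x ^ 2 = 1}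
      one_mem' := one_pow 2
      mul_mem' := by
        intro x y hx hy
        have hc := Subgroup.mem_center_iff.mp (hpart1 x hx) y
        show (x * y) ^ 2 = 1
        calc (x * y) ^ 2 = x * (y * x) * y := by simp only [pow_two, mul_assoc]
          _ = x * (x * y) * y := by rw [hc]
          _ = x ^ 2 * y ^ 2 := by simp only [pow_two, mul_assoc]
          _ = 1 := by rw [show x ^ 2 = 1 from hx, show y ^ 2 = 1 from hy, one_mul]
      inv_mem' := by
        intro x hx
        show (x⁻¹) ^ 2 = 1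
        rw [inv_pow, show x ^ 2 = 1 from hx, inv_one] }
  have hZcard : Nat.card {z : G // z ^ 2 = 1} = Nat.card Z := rfl
  obtain ⟨m, hm⟩ := IsPGroup.iff_card.mp (hG.to_subgroup Z)
  obtain ⟨t, ht⟩ := IsPGroup.iff_card.mp hG
  rw [hZcard, hm, ht]
  -- counting: `(2^m - 1) ∣ (2^t - 1)`
  have hcount : 2 ^ m - 1 ∣ 2 ^ t - 1 := by
    -- fibres of `iota` over the involutions have equal size
    set X : Finset G := Finset.univ.erase 1 with hX
    set Y : Finset G := (Finset.univ.filter (fun z : G => z ^ 2 = 1)).erase 1 with hY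
    have hmaps : ∀ x ∈ X, iota x ∈ Y := by
      intro x hx
      have hx1 : x ≠ 1 := (Finset.mem_erase.mp hx).1
      obtain ⟨h1, h2⟩ := iota_props hG hx1
      exact Finset.mem_erase.mpr ⟨h1, Finset.mem_filter.mpr ⟨Finset.mem_univ _, h2⟩⟩
    have hfib := Finset.card_eq_sum_card_fiberwise hmaps
    have hz₀Y : z₀ ∈ Y :=
      Finset.mem_erase.mpr ⟨hz₀1, Finset.mem_filter.mpr ⟨Finset.mem_univ _, hz₀2⟩⟩
    have heq : ∀ y ∈ Y, (X.filter (fun x => iota x = y)).card =
        (X.filter (fun x => iota x = z₀)).card := by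
      intro y hy
      have hy1 : y ≠ 1 := (Finset.mem_erase.mp hy).1
      have hy2 : y ^ 2 = 1 := (Finset.mem_filter.mp (Finset.mem_erase.mp hy).2).2
      obtain ⟨a, ha⟩ := htrans z₀ y hz₀1 hz₀2 hy1 hy2
      symm
      apply Finset.card_bij (fun x _ => a x)
      · intro x hx
        obtain ⟨hxX, hxi⟩ := Finset.mem_filter.mp hx
        refine Finset.mem_filter.mpr ⟨Finset.mem_erase.mpr ⟨?_, Finset.mem_univ _⟩, ?_⟩
        · intro h
          have : x = 1 := a.injective (h.trans (map_one a).symm)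
          exact (Finset.mem_erase.mp hxX).1 this
        · rw [iota_map, hxi, ha]
      · intro x _ x' _ h
        exact a.injective h
      · intro w hw
        obtain ⟨hwX, hwi⟩ := Finset.mem_filter.mp hw
        refine ⟨a⁻¹ w, Finset.mem_filter.mpr ⟨Finset.mem_erase.mpr ⟨?_, Finset.mem_univ _⟩, ?_⟩, ?_⟩
        · intro h
          have : w = 1 := (a⁻¹).injective (h.trans (map_one (a⁻¹)).symm)
          exact (Finset.mem_erase.mp hwX).1 this
        · rw [iota_map, hwi, ← ha, MulAut.inv_apply_self]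
        · exact MulAut.apply_inv_self _ _ _
    rw [Finset.sum_congr rfl heq, Finset.sum_const, smul_eq_mul] at hfib
    have hXc : X.card = 2 ^ t - 1 := by
      rw [hX, Finset.card_erase_of_mem (Finset.mem_univ _), Finset.card_univ,
        ← Nat.card_eq_fintype_card, ht]
    have hYc : Y.card = 2 ^ m - 1 := by
      have h1mem : (1 : G) ∈ Finset.univ.filter (fun z : G => z ^ 2 = 1) :=
        Finset.mem_filter.mpr ⟨Finset.mem_univ _, one_pow 2⟩
      rw [hY, Finset.card_erase_of_mem h1mem, ← hm]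
      congr 1
      rw [← hZcard, Nat.card_eq_fintype_card, Fintype.card_subtype]
    rw [hXc, hYc] at hfib
    exact ⟨_, hfib⟩
  have hgcd := Nat.pow_sub_one_gcd_pow_sub_one 2 m t
  rw [Nat.gcd_eq_left hcount] at hgcd
  have hm0 : m ≠ 0 := by
    rintro rfl
    rw [pow_zero] at hm
    have hz₀Z : z₀ ∈ Z := hz₀2
    have := Subgroup.card_eq_one.mp hm
    rw [this, Subgroup.mem_bot] at hz₀Z
    exact hz₀1 hz₀Z
  have h1 : 2 ^ m = 2 ^ Nat.gcd m t := by
    have h2 : 1 ≤ 2 ^ m := Nat.one_le_two_pow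
    have h3 : 1 ≤ 2 ^ Nat.gcd m t := Nat.one_le_two_pow
    omega
  have h4 : m = Nat.gcd m t := Nat.pow_right_injective (le_refl 2) h1
  have h5 : m ∣ t := by rw [h4]; exact Nat.gcd_dvd_right m t
  obtain ⟨s, hs⟩ := h5
  exact ⟨s, by rw [hs, pow_mul]⟩

end Cfsg.Agent.S3774
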