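import Cfsg.Statements.S3775
import Cfsg.Agent.Lib.Helper2.CoprimeAbelian

set_option autoImplicit false
open Cfsg

namespace Cfsg.Agent.S3775

open Cfsg.Agent.Lib.Helper2.CoprimeAbelian

section

variable {A : Type*} [CommGroup A] (X : Subgroup (MulAut A))

/-- the operator homomorphism of a group of automorphisms -/
def rho : ↥X →* Monoid.End A where
  toFun x := ((x : MulAut A).toMonoidHom : A →* A)
  map_one' := rfl
  map_mul' _ _ := rfl

theorem rho_apply (x : ↥X) (a : A) : rho X x a = (x : MulAut A) a := rfl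

/-- invariance in the sense of the statement -/
def InvX (B : Subgroup A) : Prop := ∀ x ∈ X, B.map x.toMonoidHom = B

theorem invX_iff (B : Subgroup A) : InvX X B ↔ Inv (rho X) B := by
  constructor
  · intro h x b hb
    have := h x x.2
    rw [← this]
    exact ⟨b, hb, rfl⟩
  · intro h x hx
    apply le_antisymm
    · rintro _ ⟨b, hb, rfl⟩
      exact h ⟨x, hx⟩ b hb
    · intro b hb
      refine ⟨(x⁻¹ : MulAut A) b, h ⟨x⁻¹, X.inv_mem hx⟩ b hb, ?_⟩
      show x (x⁻¹ b) = b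
      rw [← MulAut.mul_apply, mul_inv_cancel, MulAut.one_apply]

variable {p : ℕ}

/-- (ii) ⟹ (i) -/
theorem ii_imp_i
    (hii : ∀ B : Subgroup A, InvX X B → ∃ i : ℕ, ∀ a : A, a ∈ B ↔ a ^ p ^ i = 1) :
    ¬ ∃ B C : Subgroup A, B ≠ ⊥ ∧ C ≠ ⊥ ∧ InvX X B ∧ InvX X C ∧ B ⊓ C = ⊥ ∧ B ⊔ C = ⊤ := by
  rintro ⟨B, C, hB, hC, hBi, hCi, hinf, -⟩
  obtain ⟨i, hi⟩ := hii B hBi
  obtain ⟨j, hj⟩ := hii C hCi
  have key : ∀ (i j : ℕ) (B C : Subgroup A), (∀ a : A, a ∈ B ↔ a ^ p ^ i = 1) →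
      (∀ a : A, a ∈ C ↔ a ^ p ^ j = 1) → i ≤ j → B ≤ C := by
    intro i j B C hi hj hij b hb
    rw [hj]
    obtain ⟨t, rfl⟩ := Nat.exists_eq_add_of_le hij
    rw [pow_add, pow_mul, (hi b).1 hb, one_pow]
  rcases le_total i j with hij | hij
  · apply hB
    rw [← hinf]
    exact (inf_of_le_left (key i j B C hi hj hij)).symm
  · apply hC
    rw [← hinf]
    exact (inf_of_le_right (key j i C B hj hi hij)).symm

/-- (ii) ⟹ (iii) -/
theorem ii_imp_iii
    (hii : ∀ B : Subgroup A, InvX X B → ∃ i : ℕ, ∀ a : A, a ∈ B ↔ a ^ p ^ i = 1)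
    (B : Subgroup A) (hB : InvX X B) (hBp : ∀ b ∈ B, b ^ p = 1) :
    B = ⊥ ∨ ∀ a : A, a ∈ B ↔ a ^ p = 1 := by
  obtain ⟨i, hi⟩ := hii B hB
  rcases Nat.eq_zero_or_pos i with rfl | hpos
  · left
    rw [eq_bot_iff]
    intro b hb
    have := (hi b).1 hb
    rw [pow_zero, pow_one] at this
    exact Subgroup.mem_bot.2 this
  · right
    intro a
    refine ⟨hBp a, fun ha => ?_⟩
    rw [hi]
    obtain ⟨t, rfl⟩ := Nat.exists_eq_add_of_le (Nat.succ_le_of_lt hpos)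
    rw [pow_add, pow_one, pow_mul, ha, one_pow]

variable [Finite A]

/-- (iii) ⟹ (ii) -/
theorem iii_imp_ii [Fact p.Prime] (hA : IsPGroup p A)
    (hiii : ∀ B : Subgroup A, InvX X B → (∀ b ∈ B, b ^ p = 1) →
      B = ⊥ ∨ ∀ a : A, a ∈ B ↔ a ^ p = 1)
    (B : Subgroup A) (hB : InvX X B) : ∃ i : ℕ, ∀ a : A, a ∈ B ↔ a ^ p ^ i = 1 := by
  classical
  have hex : ∃ i : ℕ, ∀ b ∈ B, b ^ p ^ i = 1 := by
    obtain ⟨n, hn⟩ := IsPGroup.iff_card.1 hA
    exact ⟨n, fun b _ => by rw [← hn]; exact pow_card_eq_one'⟩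
  refine ⟨Nat.find hex, fun a => ⟨fun ha => Nat.find_spec hex a ha, ?_⟩⟩
  rcases Nat.eq_zero_or_pos (Nat.find hex) with h0 | hpos
  · intro ha
    rw [h0, pow_zero, pow_one] at ha
    rw [ha]; exact B.one_mem
  obtain ⟨j, hj⟩ := Nat.exists_eq_succ_of_ne_zero hpos.ne'
  rw [hj]
  have hspec := Nat.find_spec hex
  rw [hj] at hspec
  have hBinv : Inv (rho X) B := (invX_iff X B).1 hB
  -- the subgroup `B ^ p ^ j`
  set Bj : Subgroup A := B.map (powMonoidHom (p ^ j) : A →* A) with hBj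
  have hBjinv : InvX X Bj := (invX_iff X Bj).2 (hBinv.image_pow _ _)
  have hBjp : ∀ b ∈ Bj, b ^ p = 1 := by
    rintro _ ⟨b, hb, rfl⟩
    rw [powMonoidHom_apply, ← pow_mul, ← pow_succ]
    exact hspec b hb
  have hBjne : Bj ≠ ⊥ := by
    intro hbot
    have hmin := Nat.find_min hex (m := j) (by omega)
    apply hmin
    intro b hb
    have : b ^ p ^ j ∈ Bj := ⟨b, hb, rfl⟩
    rw [hbot] at this
    exact Subgroup.mem_bot.1 this
  have hBjeq : ∀ a : A, a ∈ Bj ↔ a ^ p = 1 := by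
    rcases hiii Bj hBjinv hBjp with h | h
    · exact absurd h hBjne
    · exact h
  -- induction
  have key : ∀ t, t ≤ j + 1 → ∀ a : A, a ^ p ^ t = 1 → a ∈ B := by
    intro t
    induction t with
    | zero =>
      intro _ a ha
      rw [pow_zero, pow_one] at ha
      rw [ha]; exact B.one_mem
    | succ t ih =>
      intro ht a ha
      have h1 : a ^ p ^ t ∈ Bj := by
        rw [hBjeq, ← pow_mul, ← pow_succ]; exact ha
      obtain ⟨b, hb, hba⟩ := h1
      rw [powMonoidHom_apply] at hba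
      obtain ⟨s, hs⟩ := Nat.exists_eq_add_of_le (show t ≤ j by omega)
      set c := b ^ p ^ s with hc
      have hcB : c ∈ B := B.pow_mem hb _
      have hct : c ^ p ^ t = a ^ p ^ t := by
        rw [hc, ← pow_mul, ← pow_add, add_comm, ← hs, hba]
      have h2 : (a * c⁻¹) ^ p ^ t = 1 := by
        rw [mul_pow, inv_pow, hct, mul_inv_cancel]
      have h3 := ih (by omega) _ h2
      have : a = a * c⁻¹ * c := by group
      rw [this]
      exact B.mul_mem h3 hcB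
  intro ha
  exact key (j + 1) le_rfl a ha

/-- (i) ⟹ (iii) -/
theorem i_imp_iii [hp : Fact p.Prime] (hA : IsPGroup p A) (hX : (Nat.card X).Coprime p)
    (hi : ¬ ∃ B C : Subgroup A, B ≠ ⊥ ∧ C ≠ ⊥ ∧ InvX X B ∧ InvX X C ∧ B ⊓ C = ⊥ ∧ B ⊔ C = ⊤)
    (B₀ : Subgroup A) (hB₀ : InvX X B₀) (hB₀p : ∀ b ∈ B₀, b ^ p = 1) :
    B₀ = ⊥ ∨ ∀ a : A, a ∈ B₀ ↔ a ^ p = 1 := by
  classical
  by_cases hbot : B₀ = ⊥
  · exact Or.inl hbot
  right
  haveI : Finite ↥X := inferInstance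
  letI : Fintype ↥X := Fintype.ofFinite _
  have hcop : (Fintype.card ↥X).Coprime p := by
    rw [← Nat.card_eq_fintype_card]; exact hX
  have hex : ∃ e : ℕ, ∀ a : A, a ^ p ^ e = 1 := by
    obtain ⟨n, hn⟩ := IsPGroup.iff_card.1 hA
    exact ⟨n, fun b => by rw [← hn]; exact pow_card_eq_one'⟩
  have he0 : Nat.find hex ≠ 0 := by
    intro h0
    have hspec := Nat.find_spec hex
    rw [h0] at hspec
    apply hbot
    rw [eq_bot_iff]
    intro b _
    have := hspec b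
    rw [pow_zero, pow_one] at this
    exact Subgroup.mem_bot.2 this
  obtain ⟨d, hd⟩ := Nat.exists_eq_succ_of_ne_zero he0
  have hexp : ∀ a : A, a ^ p ^ (d + 1) = 1 := by
    have := Nat.find_spec hex
    rwa [hd] at this
  -- the main step
  have main : ∀ U₁ : Subgroup A, Inv (rho X) U₁ → U₁ ≠ ⊥ → (∀ u ∈ U₁, ∃ a : A, a ^ p ^ d = u) →
      ∀ a : A, a ^ p = 1 → a ∈ U₁ := by
    intro U₁ hU₁inv hU₁ne hU₁ a ha
    obtain ⟨B, C, hBinv, hCinv, h1, h2, hBne, hBU⟩ :=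
      exists_homocyclic_factor (rho X) hp.out hcop hexp U₁ hU₁inv hU₁ne hU₁
    have hCbot : C = ⊥ := by
      by_contra hCne
      exact hi ⟨B, C, hBne, hCne, (invX_iff X B).2 hBinv, (invX_iff X C).2 hCinv, h1, h2⟩
    rw [hCbot, sup_bot_eq] at h2
    apply hBU a _ ha
    rw [h2]; exact Subgroup.mem_top _
  -- first `Ω₁(A) ≤ U`
  have hU : ∀ a : A, a ^ p = 1 → ∃ c : A, c ^ p ^ d = a := by
    intro a ha
    have hne : (powMonoidHom (p ^ d) : A →* A).range ≠ ⊥ := by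
      intro h
      have hmin := Nat.find_min hex (m := d) (by omega)
      apply hmin
      intro b
      have : b ^ p ^ d ∈ (powMonoidHom (p ^ d) : A →* A).range := ⟨b, rfl⟩
      rw [h] at this
      exact Subgroup.mem_bot.1 this
    obtain ⟨c, hc⟩ := main _ (inv_range_pow (rho X) _) hne (fun u ⟨c, hc⟩ => ⟨c, hc⟩) a ha
    exact ⟨c, hc⟩
  intro a
  refine ⟨hB₀p a, fun ha => ?_⟩
  exact main B₀ ((invX_iff X B₀).1 hB₀) hbot (fun u hu => hU u (hB₀p u hu)) a ha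

end

/-- Let A be a finite abelian p-group and X a group of automorphisms of A of order prime to p. Call a subgroup of A invariant when every element of X maps it onto itself. Then the following are equivalent: (i) A is not the direct product of two nontrivial invariant subgroups; (ii) every invariant subgroup of A is one of the subgroups Ω_i(A) = {a : a^(p^i) = 1}; (iii) the subgroup Ω₁(A) of elements of order dividing p has no invariant subgroups other than 1 and itself. -/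
theorem result {A : Type*} [CommGroup A] [Finite A] {p : ℕ} [Fact p.Prime] (hA : IsPGroup p A) (X : Subgroup (MulAut A)) (hX : (Nat.card X).Coprime p) : ((¬ ∃ B C : Subgroup A, B ≠ ⊥ ∧ C ≠ ⊥ ∧ (∀ x ∈ X, B.map x.toMonoidHom = B) ∧ (∀ x ∈ X, C.map x.toMonoidHom = C) ∧ B ⊓ C = ⊥ ∧ B ⊔ C = ⊤) ↔ (∀ B : Subgroup A, (∀ x ∈ X, B.map x.toMonoidHom = B) → ∃ i : ℕ, ∀ a : A, a ∈ B ↔ a ^ p ^ i = 1)) ∧ ((∀ B : Subgroup A, (∀ x ∈ X, B.map x.toMonoidHom = B) → ∃ i : ℕ, ∀ a : A, a ∈ B ↔ a ^ p ^ i = 1) ↔ (∀ B : Subgroup A, (∀ x ∈ X, B.map x.toMonoidHom = B) → (∀ b ∈ B, b ^ p = 1) → B = ⊥ ∨ ∀ a : A, a ∈ B ↔ a ^ p = 1)) := by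
  have hp : p.Prime := Fact.out
  refine ⟨⟨fun hi => ?_, fun hii => ii_imp_i X hii⟩,
    ⟨fun hii => ii_imp_iii X hii, fun hiii => iii_imp_ii X hA hiii⟩⟩
  exact iii_imp_ii X hA (i_imp_iii X hA hX hi)

end Cfsg.Agent.S3775
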