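import Cfsg.Statements.S3777
import Cfsg.Agent.Lib.Helper5.VL.Bridge
import Cfsg.Agent.Lib.Helper5.VL.LemmaY
import Cfsg.Agent.Lib.Helper1.FrattiniP

set_option autoImplicit false
open Cfsg
open scoped commutatorElement

namespace Cfsg.Agent.S3777

open Cfsg.Agent.Lib.Helper5.VL

universe u

/-- the Frattini quotient as an elementary abelian group -/
theorem exists_elementary_quotient {G : Type u} [Group G] [Finite G] {p : ℕ} [Fact p.Prime]
    (hG : IsPGroup p G) :
    ∃ (Q : Type u) (_ : CommGroup Q) (_ : Finite Q) (π : G →* Q),
      Function.Surjective π ∧ π.ker = frattini G ∧ ∀ q : Q, q ^ p = 1 := by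
  have hcomm : ∀ a b : G ⧸ frattini G, a * b = b * a := by
    intro a b
    induction a using QuotientGroup.induction_on with | _ a
    induction b using QuotientGroup.induction_on with | _ b
    rw [← QuotientGroup.mk_mul, ← QuotientGroup.mk_mul, QuotientGroup.eq]
    apply Cfsg.Agent.Lib.Helper1.commutator_le_frattini_of_isPGroup p hG
    have : (a * b)⁻¹ * (b * a) = ⁅b⁻¹, a⁻¹⁆ := by rw [commutatorElement_def]; group
    rw [this]; exact commElem_mem_commutator _ _
  let inst : CommGroup (G ⧸ frattini G) :=
    { (inferInstance : Group (G ⧸ frattini G)) with mul_comm := hcomm }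
  refine ⟨G ⧸ frattini G, inst, inferInstance, QuotientGroup.mk' (frattini G),
    QuotientGroup.mk'_surjective _, QuotientGroup.ker_mk' _, ?_⟩
  intro q
  induction q using QuotientGroup.induction_on with | _ a
  rw [← QuotientGroup.mk_pow, QuotientGroup.eq_one_iff]
  exact Cfsg.Agent.Lib.Helper1.pow_prime_mem_frattini_of_isPGroup p hG a

theorem arith_bn (b n : ℕ) : b * n ≤ b * (b + 1) / 2 + n.choose 2 := by
  rw [Nat.choose_two_right]
  have h1 : 2 * (b * (b + 1) / 2) = b * (b + 1) :=
    Nat.two_mul_div_two_of_even (Nat.even_mul_succ_self b)
  have h2 : 2 * (n * (n - 1) / 2) = n * (n - 1) :=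
    Nat.two_mul_div_two_of_even (Nat.even_mul_pred_self n)
  have h3 : 2 * (b * n) ≤ b * (b + 1) + n * (n - 1) := by
    rcases Nat.lt_or_ge b n with h | h
    · obtain ⟨d, rfl⟩ : ∃ d, n = b + 1 + d := ⟨n - b - 1, by omega⟩
      have : b + 1 + d - 1 = b + d := by omega
      rw [this]; nlinarith
    · obtain ⟨d, rfl⟩ : ∃ d, b = n + d := ⟨b - n, by omega⟩
      cases n with
      | zero => simp
      | succ k =>
        simp only [Nat.add_sub_cancel]
        nlinarith
  omega

theorem vl_main {p : ℕ} [hp : Fact p.Prime] : ∀ (m : ℕ) (G : Type u) [Group G] [Finite G],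
    Nat.card G = m → IsPGroup p G → ∀ b : ℕ,
    (∀ x : G, (Subgroup.centralizer ({x} : Set G)).index ≤ p ^ b) →
    Nat.card (commutator G) ≤ p ^ (b * (b + 1) / 2) := by
  intro m
  induction m using Nat.strong_induction_on with
  | _ m ih =>
    intro G _ _ hm hG b hb
    by_cases hA : ∃ M : Subgroup G, M.index = p ∧ ⁅M, M⁆ = commutator G
    · obtain ⟨M, hMi, hMc⟩ := hA
      have hcard : Nat.card M < m := by
        have h1 := M.card_mul_index
        rw [hMi, hm] at h1
        have hpos : 0 < Nat.card M := Nat.card_pos
        have h2 := hp.out.two_le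
        nlinarith
      have hb' : ∀ x : M, (Subgroup.centralizer ({x} : Set M)).index ≤ p ^ b := by
        intro x
        refine le_trans ?_ (hb (x : G))
        have h1 : Subgroup.centralizer ({x} : Set M)
            = (Subgroup.centralizer ({(x : G)} : Set G)).subgroupOf M := by
          ext g
          simp only [Subgroup.mem_centralizer_iff, Set.mem_singleton_iff, forall_eq,
            Subgroup.mem_subgroupOf]
          constructor
          · intro h
            have := congrArg Subtype.val h
            simpa using this
          · intro h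
            exact Subtype.ext (by simpa using h)
        rw [h1]
        show (Subgroup.centralizer {(x : G)}).relIndex M ≤ _
        rw [← Subgroup.relIndex_top_right]
        exact Subgroup.relIndex_le_of_le_right le_top (relIndex_ne_zero_of_finite _ _)
      have h2 := ih (Nat.card M) hcard M rfl (hG.to_subgroup M) b hb'
      rw [← hMc, ← Subgroup.map_subtype_commutator,
        Subgroup.card_map_of_injective M.subtype_injective]
      exact h2
    · push_neg at hA
      obtain ⟨Q, _, _, π, hπ, hker, hQ⟩ := exists_elementary_quotient hG
      letI : Module (ZMod p) (Additive Q) := AddCommGroup.zmodModule (n := p) (by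
        intro x
        apply Additive.toMul.injective
        rw [toMul_nsmul, toMul_zero]
        exact hQ _)
      obtain ⟨l, hl, hgen⟩ := exists_genList hG π hπ hker hA
      have hY := lemmaY (p := p) m G hm hG l hl hgen
      have hprod : (l.map fun x => (Subgroup.centralizer {x}).index).prod
          ≤ (p ^ b) ^ l.length := by
        have h1 := list_prod_le (fun x : G => (Subgroup.centralizer {x}).index)
          (fun _ => p ^ b) l (fun x _ => hb x)
        rwa [List.map_const', List.prod_replicate] at h1
      have h3 : Nat.card (commutator G) * p ^ (l.length.choose 2)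
          ≤ p ^ (b * (b + 1) / 2) * p ^ (l.length.choose 2) := by
        refine (hY.trans hprod).trans ?_
        rw [← pow_mul, ← pow_add]
        exact Nat.pow_le_pow_right hp.out.pos (arith_bn b l.length)
      exact Nat.le_of_mul_le_mul_right h3 (pow_pos hp.out.pos _)

/-- Vaughan-Lee's Theorem: if G is a finite p-group in which every conjugacy class has at most p^b elements (every element has centralizer of index at most p^b), then the derived subgroup of G has order at most p^(b(b+1)/2). -/
theorem result {G : Type*} [Group G] [Finite G] {p : ℕ} [Fact p.Prime] (hG : IsPGroup p G) (b : ℕ) (hb : ∀ x : G, (Subgroup.centralizer ({x} : Set G)).index ≤ p ^ b) : Nat.card (commutator G) ≤ p ^ (b * (b + 1) / 2) := by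
  exact vl_main (Nat.card G) G rfl hG b hb

end Cfsg.Agent.S3777
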