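import Cfsg.Statements.S3778
import Cfsg.Agent.Lib.Helper3.Breadth

set_option autoImplicit false
open Cfsg

namespace Cfsg.Agent.S3778

/-- If G is a finite p-group in which every conjugacy class has at most p^b elements (every element has centralizer of index at most p^b), then G is abelian when b = 0, and when b ≥ 1 its nilpotency class c satisfies (c − 1)(p − 1) < bp, that is c < bp/(p − 1) + 1, and hence c ≤ 2b. -/
theorem result {G : Type*} [Group G] [Finite G] {p : ℕ} [Fact p.Prime] (hG : IsPGroup p G) (b : ℕ) (hb : ∀ x : G, (Subgroup.centralizer ({x} : Set G)).index ≤ p ^ b) : ∃ c : ℕ, (⊤ : Subgroup G).lowerCentralSeries c = ⊥ ∧ (b ≠ 0 → (c - 1) * (p - 1) < b * p ∧ c ≤ 2 * b) ∧ (b = 0 → c ≤ 1) := by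
  classical
  have hp : p.Prime := Fact.out
  haveI : Group.IsNilpotent G := hG.isNilpotent
  have hnil : ∃ n, (⊤ : Subgroup G).lowerCentralSeries n = ⊥ :=
    Subgroup.nilpotent_iff_lowerCentralSeries.1 inferInstance
  refine ⟨Nat.find hnil, Nat.find_spec hnil, ?_, ?_⟩
  · intro hb0
    have h1 := Cfsg.Agent.Lib.Helper3.Breadth.class_bound hG b hb0 hb (Nat.find_spec hnil)
      (fun m hm => Nat.find_min hnil hm)
    refine ⟨h1, ?_⟩
    by_contra hcon
    push Not at hcon
    obtain ⟨q, rfl⟩ : ∃ q, p = q + 2 := ⟨p - 2, by have := hp.two_le; omega⟩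
    have h2 : 2 * b ≤ Nat.find hnil - 1 := by omega
    have h3 : q + 2 - 1 = q + 1 := by omega
    rw [h3] at h1
    nlinarith [Nat.mul_le_mul_right (q + 1) h2]
  · intro hb0
    apply Nat.find_le
    rw [Subgroup.lowerCentralSeries_succ, Subgroup.lowerCentralSeries_zero, eq_bot_iff,
      Subgroup.commutator_le]
    intro g _ x _
    have h1 := hb x
    rw [hb0, pow_zero] at h1
    have h2 : (Subgroup.centralizer ({x} : Set G)).index = 1 := by
      have : (Subgroup.centralizer ({x} : Set G)).index ≠ 0 := Subgroup.index_ne_zero_of_finite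
      omega
    rw [Subgroup.index_eq_one] at h2
    have h3 : g ∈ Subgroup.centralizer ({x} : Set G) := by rw [h2]; exact Subgroup.mem_top g
    rw [Subgroup.mem_bot, commutatorElement_eq_one_iff_mul_comm]
    exact Subgroup.mem_centralizer_singleton_iff.1 h3

end Cfsg.Agent.S3778
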