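import Cfsg.Statements.S3782
import Cfsg.Agent.Lib.Helper9.AlpE
import Cfsg.Agent.Lib.Helper1.Alr2

set_option autoImplicit false
open Cfsg

namespace Cfsg.Agent.S3782

/-- Alperin's Theorem: for each prime p and each n ≥ 0 there is an integer l such that every finite solvable group admitting an automorphism of order p with exactly p^n fixed points has derived length at most l. -/
theorem result (p : ℕ) (hp : p.Prime) (n : ℕ) : ∃ l : ℕ, ∀ (G : Type) [Group G] [Finite G], Group.IsSolvable G → ∀ α : MulAut G, orderOf α = p → Nat.card {g : G // α g = g} = p ^ n → derivedSeries G l = ⊥ := by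
  haveI : Fact p.Prime := ⟨hp⟩
  refine ⟨(Nat.factorial (p ^ (p * n)) + Cfsg.Agent.Lib.Helper9.Hkk.alpBound p n) +
      Finset.sum (Finset.range (2 ^ (p - 1) - 1)) (fun i => (p - 1) ^ i), ?_⟩
  intro G _ _ hs α hα hf
  exact Cfsg.Agent.Lib.Helper1.Alr.reduction p n (Cfsg.Agent.Lib.Helper9.Hkk.alpBound p n)
    (fun P _ _ hP a ha hfix => Cfsg.Agent.Lib.Helper9.Hkk.pgroup_derived hP a ha n hfix) G hs α hα hf

end Cfsg.Agent.S3782
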