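import Cfsg.Statements.S3784
import Mathlib

set_option autoImplicit false
open Cfsg

namespace Cfsg.Agent.S3784

/-- odd powers are injective on odd residues modulo a power of two -/
theorem odd_pow_inj (x y n b : ℕ) (hx : Odd x) (hy : Odd y) (hb : Odd b)
    (h : x ^ b ≡ y ^ b [MOD 2 ^ n]) : x ≡ y [MOD 2 ^ n] := by
  rcases Nat.eq_zero_or_pos n with rfl | hn
  · simp [Nat.modEq_one]
  haveI : NeZero (2 ^ n) := ⟨by positivity⟩
  have hcx : Nat.Coprime x (2 ^ n) := (Nat.coprime_two_right.2 hx).pow_right n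
  have hcy : Nat.Coprime y (2 ^ n) := (Nat.coprime_two_right.2 hy).pow_right n
  set ux := ZMod.unitOfCoprime x hcx with hux
  set uy := ZMod.unitOfCoprime y hcy with huy
  have hpow : ux ^ b = uy ^ b := by
    apply Units.ext
    rw [Units.val_pow_eq_pow_val, Units.val_pow_eq_pow_val, hux, huy,
      ZMod.coe_unitOfCoprime, ZMod.coe_unitOfCoprime]
    have := (ZMod.natCast_eq_natCast_iff _ _ _).2 h
    push_cast at this
    exact this
  have hcard : Nat.card (ZMod (2 ^ n))ˣ = 2 ^ (n - 1) := by
    rw [Nat.card_eq_fintype_card, ZMod.card_units_eq_totient, Nat.totient_prime_pow Nat.prime_two hn]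
    simp
  have hcop : (Nat.card (ZMod (2 ^ n))ˣ).Coprime b := by
    rw [hcard]
    exact (Nat.coprime_two_left.2 hb).pow_left _
  have hinj := (powCoprime hcop).injective
  have : ux = uy := hinj (by simpa [powCoprime] using hpow)
  have h2 : ((x : ℕ) : ZMod (2 ^ n)) = (y : ℕ) := by
    have := congrArg Units.val this
    rwa [hux, huy, ZMod.coe_unitOfCoprime, ZMod.coe_unitOfCoprime] at this
  exact (ZMod.natCast_eq_natCast_iff _ _ _).1 h2

/-- Let p, q be primes and a, b positive integers with p^a = q^b + 1. Then either p = 2, b = 1, a is prime and q = 2^a − 1; or q = 2, a = 1, b is a power of 2 and p = 2^b + 1; or p^a = 9 and q^b = 8. -/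
theorem result (p q a b : ℕ) (hp : p.Prime) (hq : q.Prime) (ha : 1 ≤ a) (hb : 1 ≤ b) (h : p ^ a = q ^ b + 1) : (p = 2 ∧ b = 1 ∧ a.Prime ∧ q + 1 = 2 ^ a) ∨ (q = 2 ∧ a = 1 ∧ (∃ m : ℕ, b = 2 ^ m) ∧ p = 2 ^ b + 1) ∨ (p ^ a = 9 ∧ q ^ b = 8) := by
  rcases hq.eq_two_or_odd' with rfl | hqodd
  · -- q = 2, p odd
    have hpodd : Odd p := by
      rcases hp.eq_two_or_odd' with rfl | h'
      · exfalso
        have h1 : Even (2 ^ a) := (Nat.even_pow.2 ⟨even_two, by omega⟩)
        have h2 : Even (2 ^ b) := (Nat.even_pow.2 ⟨even_two, by omega⟩)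
        rw [h] at h1
        have := (Nat.even_add_one.1 h1)
        exact this h2
      · exact h'
    rcases Nat.even_or_odd a with haeven | haodd
    · -- a even
      right; right
      obtain ⟨c, rfl⟩ := haeven
      have hc : 1 ≤ c := by omega
      set x := p ^ c with hx
      have hxx : x * x = 2 ^ b + 1 := by rw [← h, hx, ← pow_add]
      have hxodd : Odd x := hpodd.pow
      have hx3 : 2 ≤ x := by
        calc 2 ≤ p := hp.two_le
          _ = p ^ 1 := (pow_one p).symm
          _ ≤ p ^ c := Nat.pow_le_pow_right hp.pos hc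
      have hprod : (x - 1) * (x + 1) = 2 ^ b := by
        have : (x - 1) * (x + 1) + 1 = x * x := by
          obtain ⟨k, hk⟩ : ∃ k, x = k + 1 := ⟨x - 1, by omega⟩
          rw [hk]; simp; ring
        omega
      have h1 : x - 1 ∣ 2 ^ b := Dvd.intro _ hprod
      have h2 : x + 1 ∣ 2 ^ b := Dvd.intro_left _ hprod
      obtain ⟨i, _, hi⟩ := (Nat.dvd_prime_pow Nat.prime_two).1 h1
      obtain ⟨j, _, hj⟩ := (Nat.dvd_prime_pow Nat.prime_two).1 h2
      have hij : 2 ^ j = 2 ^ i + 2 := by omega
      have hi1 : i = 1 := by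
        rcases Nat.lt_or_ge i 2 with hlt | hge
        · interval_cases i
          · -- x - 1 = 1, x = 2, even
            exfalso
            have : x = 2 := by omega
            rw [this] at hxodd
            exact (by decide : ¬ Odd 2) hxodd
          · rfl
        · exfalso
          obtain ⟨i', rfl⟩ : ∃ i', i = i' + 2 := ⟨i - 2, by omega⟩
          have hj2 : 2 ≤ j := by
            by_contra hcon
            push Not at hcon
            have : 2 ^ j ≤ 2 ^ 1 := Nat.pow_le_pow_right (by norm_num) (by omega)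
            have h4 : 4 ≤ 2 ^ (i' + 2) := by
              calc 4 = 2 ^ 2 := by norm_num
                _ ≤ 2 ^ (i' + 2) := Nat.pow_le_pow_right (by norm_num) (by omega)
            omega
          obtain ⟨j', rfl⟩ : ∃ j', j = j' + 2 := ⟨j - 2, by omega⟩
          rw [pow_add, pow_add] at hij
          omega
      subst hi1
      have hx3' : x = 3 := by omega
      constructor
      · have : p ^ (c + c) = x * x := by rw [hx, ← pow_add]
        rw [this, hx3']
      · have : 2 ^ b + 1 = 9 := by rw [← hxx, hx3']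
        omega
    · -- a odd : a = 1
      right; left
      have hmod : p ^ a ≡ 1 ^ a [MOD 2 ^ b] := by
        rw [h, one_pow]
        exact Nat.add_mod_left _ _
      have hp1 := odd_pow_inj p 1 b a hpodd odd_one haodd hmod
      have hdvd : 2 ^ b ∣ p - 1 := (Nat.modEq_iff_dvd' hp.one_le).1 hp1.symm
      have hle : 2 ^ b ≤ p - 1 := Nat.le_of_dvd (by have := hp.two_le; omega) hdvd
      have ha1 : a = 1 := by
        by_contra hne
        have ha2 : 2 ≤ a := by omega
        have : p ^ 2 ≤ p ^ a := Nat.pow_le_pow_right hp.pos ha2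
        have hp2 := hp.two_le
        have h5 : p ^ 2 ≤ p := by omega
        have h6 : 2 * p ≤ p ^ 2 := by rw [sq]; exact Nat.mul_le_mul_right p hp2
        omega
      subst ha1
      rw [pow_one] at h
      refine ⟨rfl, rfl, ?_, h⟩
      have hP : (2 ^ b + 1).Prime := by rw [← h]; exact hp
      exact Nat.pow_of_pow_add_prime (by norm_num) (by omega) hP
  · -- q odd, so p = 2
    left
    have hp2 : p = 2 := by
      rcases hp.eq_two_or_odd' with rfl | hpodd
      · rfl
      · exfalso
        have h1 : Odd (p ^ a) := hpodd.pow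
        have h2 : Odd (q ^ b) := hqodd.pow
        rw [h] at h1
        exact (Nat.not_even_iff_odd.2 h1) (h2.add_odd odd_one)
    subst hp2
    have hbodd : Odd b := by
      by_contra hcon
      rw [Nat.not_odd_iff_even] at hcon
      obtain ⟨c, rfl⟩ := hcon
      have hc : 1 ≤ c := by omega
      set y := q ^ c with hy
      have hyodd : Odd y := hqodd.pow
      have hyy : y * y = q ^ (c + c) := by rw [hy, ← pow_add]
      obtain ⟨k, hk⟩ := hyodd
      have : 2 ^ a = 4 * (k * k + k) + 2 := by
        rw [h, ← hyy, hk]; ring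
      have ha1 : a = 1 := by
        by_contra hne
        obtain ⟨a', rfl⟩ : ∃ a', a = a' + 2 := ⟨a - 2, by omega⟩
        rw [pow_add] at this
        omega
      subst ha1
      have : k * k + k = 0 := by omega
      have hk0 : k = 0 := by nlinarith
      subst hk0
      have hy1 : y = 1 := by omega
      have : 3 ≤ q ^ c := by
        have hq3 : 3 ≤ q := by
          have := hq.two_le
          rcases hqodd with ⟨m, hm⟩
          omega
        calc 3 ≤ q := hq3
          _ = q ^ 1 := (pow_one q).symm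
          _ ≤ q ^ c := Nat.pow_le_pow_right hq.pos hc
      omega
    have hmod : q ^ b + 1 ≡ 0 [MOD 2 ^ a] := by
      rw [← h]; exact (Nat.modEq_zero_iff_dvd).2 dvd_rfl
    -- q^b ≡ (2^a - 1)^b mod 2^a ; use -1 = 2^a - 1, odd
    have h2a : 2 ≤ 2 ^ a := by
      calc 2 = 2 ^ 1 := by norm_num
        _ ≤ 2 ^ a := Nat.pow_le_pow_right (by norm_num) ha
    have hm1odd : Odd (2 ^ a - 1) := by
      have : Even (2 ^ a) := Nat.even_pow.2 ⟨even_two, by omega⟩
      exact Nat.Even.sub_odd (by omega) this odd_one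
    have hm1 : (2 ^ a - 1) ^ b + 1 ≡ 0 [MOD 2 ^ a] := by
      have hdvd : (2 ^ a - 1) + 1 ∣ (2 ^ a - 1) ^ b + 1 ^ b := hbodd.nat_add_dvd_pow_add_pow _ _
      rw [one_pow, Nat.sub_add_cancel (by omega)] at hdvd
      exact Nat.modEq_zero_iff_dvd.2 hdvd
    have hqm : q ^ b ≡ (2 ^ a - 1) ^ b [MOD 2 ^ a] := by
      have := hmod.trans hm1.symm
      exact Nat.ModEq.add_right_cancel' 1 this
    have hq1 := odd_pow_inj q (2 ^ a - 1) a b hqodd hm1odd hbodd hqm
    have hdvd : 2 ^ a ∣ q + 1 := by
      have h3 : q + 1 ≡ (2 ^ a - 1) + 1 [MOD 2 ^ a] := hq1.add_right 1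
      rw [Nat.sub_add_cancel (by omega)] at h3
      have h4 : q + 1 ≡ 0 [MOD 2 ^ a] := h3.trans (by simp [Nat.ModEq])
      exact Nat.modEq_zero_iff_dvd.1 h4
    have hle : 2 ^ a ≤ q + 1 := Nat.le_of_dvd (by omega) hdvd
    have hb1 : b = 1 := by
      by_contra hne
      have hb2 : 2 ≤ b := by omega
      have : q ^ 2 ≤ q ^ b := Nat.pow_le_pow_right hq.pos hb2
      have hq2 := hq.two_le
      have h5 : q ^ 2 ≤ q := by omega
      have h6 : 2 * q ≤ q ^ 2 := by rw [sq]; exact Nat.mul_le_mul_right q hq2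
      omega
    subst hb1
    rw [pow_one] at h
    refine ⟨rfl, rfl, ?_, h.symm⟩
    have hP : (2 ^ a - 1).Prime := by
      have : 2 ^ a - 1 = q := by omega
      rw [this]; exact hq
    have ha1 : a ≠ 1 := by
      rintro rfl
      have : q = 1 := by omega
      exact hq.one_lt.ne' this
    exact (Nat.prime_of_pow_sub_one_prime ha1 hP).2

end Cfsg.Agent.S3784
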