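import Cfsg.Statements.S3785
import Cfsg.Agent.Lib.Helper2.PrimePowerGen
import Cfsg.Agent.Lib.Helper2.Cores
import Cfsg.Agent.Lib.Helper2.Hypercenter
import Cfsg.Agent.Lib.Helper1.CoprimeAut
import Cfsg.Agent.Lib.Helper1.FittingCentralizer

set_option autoImplicit false
open Cfsg

namespace Cfsg.Agent.S3785

open Cfsg.Agent.Lib.Helper2 Cfsg.Agent.Lib.Helper1

variable {G : Type*} [Group G]

/-- the centralizer of the elements of prime order of `F(G)` -/
def K (G : Type*) [Group G] : Subgroup G :=
  Subgroup.centralizer {y : G | y ∈ Cfsg.fittingSubgroup G ∧ (orderOf y).Prime}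

/-- the centralizer of a conjugation invariant set is normal -/
theorem centralizer_normal_of_invariant (S : Set G) (hS : ∀ y ∈ S, ∀ c : G, c * y * c⁻¹ ∈ S) :
    (Subgroup.centralizer S).Normal := by
  constructor
  intro x hx c
  rw [Subgroup.mem_centralizer_iff] at hx ⊢
  intro y hy
  have hy' : c⁻¹ * y * c ∈ S := by
    have := hS y hy c⁻¹
    rwa [inv_inv] at this
  have := hx _ hy'
  calc y * (c * x * c⁻¹) = c * ((c⁻¹ * y * c) * x) * c⁻¹ := by group
    _ = c * (x * (c⁻¹ * y * c)) * c⁻¹ := by rw [this]
    _ = c * x * c⁻¹ * y := by group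

theorem orderOf_conj' (c y : G) : orderOf (c * y * c⁻¹) = orderOf y := by
  have h1 : c * y * c⁻¹ = MulAut.conj c y := by rw [MulAut.conj_apply]
  rw [h1, MulEquiv.orderOf_eq (MulAut.conj c) y]

theorem K_normal : (K G).Normal := by
  apply centralizer_normal_of_invariant
  rintro y ⟨hyF, hyo⟩ c
  haveI : (Cfsg.fittingSubgroup G).Normal := Cfsg.Agent.Lib.Helper1.fittingSubgroup_normal
  refine ⟨(inferInstance : (Cfsg.fittingSubgroup G).Normal).conj_mem y hyF c, ?_⟩
  rw [orderOf_conj']
  exact hyo

/-- a `p'`-element of `K` centralizes `O_p(G)` -/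
theorem centralizes_pCore [Finite G] (hodd : Odd (Nat.card (Cfsg.fittingSubgroup G))) {p : ℕ}
    [hp : Fact p.Prime] {x : G} (hx : x ∈ K G) (hxp : (orderOf x).Coprime p) :
    x ∈ Subgroup.centralizer (Cfsg.pCore p G : Set G) := by
  haveI hPn : (Cfsg.pCore p G).Normal := Cfsg.Agent.Lib.Helper1.pCore_normal p
  have hPF : Cfsg.pCore p G ≤ Cfsg.fittingSubgroup G :=
    Cfsg.Agent.Lib.Helper2.pCore_le_fittingSubgroup p
  have hPp : IsPGroup p (Cfsg.pCore p G) := Cfsg.Agent.Lib.Helper1.pCore_isPGroup p
  by_cases hp2 : p = 2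
  · subst hp2
    have hbot : Cfsg.pCore 2 G = ⊥ := by
      obtain ⟨k, hk⟩ := IsPGroup.iff_card.1 hPp
      have h1 : Nat.card (Cfsg.pCore 2 G) ∣ Nat.card (Cfsg.fittingSubgroup G) :=
        Subgroup.card_dvd_of_le hPF
      rw [hk] at h1
      rcases Nat.eq_zero_or_pos k with rfl | hk0
      · rw [pow_zero] at hk
        exact Subgroup.card_eq_one.1 hk
      · exfalso
        have h2 : 2 ∣ Nat.card (Cfsg.fittingSubgroup G) :=
          (dvd_pow_self 2 hk0.ne').trans h1
        rcases hodd with ⟨m, hm⟩
        omega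
    rw [hbot, Subgroup.mem_centralizer_iff]
    intro z hz
    rw [SetLike.mem_coe, Subgroup.mem_bot] at hz
    rw [hz, one_mul, mul_one]
  · set a : MulAut (Cfsg.pCore p G) := MulAut.conjNormal x with ha
    have hao : (orderOf a).Coprime p :=
      Nat.Coprime.coprime_dvd_left (orderOf_map_dvd _ x) hxp
    have hfix : ∀ z : Cfsg.pCore p G, z ^ p = 1 → a z = z := by
      intro z hz
      by_cases hz1 : z = 1
      · rw [hz1, map_one]
      have hzo : orderOf z = p := orderOf_eq_prime hz hz1
      have hzG : orderOf (z : G) = p := by rw [Subgroup.orderOf_coe]; exact hzo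
      have hcomm : (z : G) * x = x * z :=
        (Subgroup.mem_centralizer_iff.1 hx) z ⟨hPF z.2, by rw [hzG]; exact hp.out⟩
      apply Subtype.ext
      rw [ha, MulAut.conjNormal_apply, ← hcomm]
      group
    have hone := coprime_aut_trivial_of_fix_omega hp2 hPp a hao hfix
    rw [Subgroup.mem_centralizer_iff]
    intro z hz
    have h1 : a ⟨z, hz⟩ = ⟨z, hz⟩ := by rw [hone]; rfl
    have h2 := congrArg Subtype.val h1
    rw [ha, MulAut.conjNormal_apply] at h2
    calc z * x = (x * z * x⁻¹) * x := by rw [h2]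
      _ = x * z := by group

/-- a `p`-element of `F(G)` is centralized by the `p'`-elements of `K` -/
theorem commute_of_coprime [Finite G] (hodd : Odd (Nat.card (Cfsg.fittingSubgroup G))) {p : ℕ}
    [hp : Fact p.Prime] {x : G} (hx : x ∈ K G) (hxp : (orderOf x).Coprime p) {z : G}
    (hz : z ∈ Cfsg.fittingSubgroup G) {k : ℕ} (hzo : orderOf z = p ^ k) : z * x = x * z := by
  have hzP : z ∈ Cfsg.pCore p G := mem_pCore_of_mem_fitting_of_pow hz (k := k) (by
    rw [← hzo]; exact pow_orderOf_eq_one z)
  exact (Subgroup.mem_centralizer_iff.1 (centralizes_pCore hodd hx hxp)) z hzP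

/-- the `q`-elements of `K` lie in `F(G)` -/
theorem q_element_mem_fitting [Finite G] [hG : Group.IsSolvable G]
    (hodd : Odd (Nat.card (Cfsg.fittingSubgroup G))) {q : ℕ} [hq : Fact q.Prime] {x : G}
    (hx : x ∈ K G) {k : ℕ} (hxo : orderOf x = q ^ k) : x ∈ Cfsg.fittingSubgroup G := by
  classical
  set F := Cfsg.fittingSubgroup G with hF
  haveI hFn : F.Normal := Cfsg.Agent.Lib.Helper1.fittingSubgroup_normal
  haveI hKn : (K G).Normal := K_normal
  -- `T` is generated by the `q'`-elements of `F`
  set S : Set G := {y : G | y ∈ F ∧ (orderOf y).Coprime q} with hS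
  set T : Subgroup G := Subgroup.closure S with hT
  haveI hCTn : (Subgroup.centralizer S).Normal := by
    apply centralizer_normal_of_invariant
    rintro y ⟨hyF, hyo⟩ c
    refine ⟨hFn.conj_mem y hyF c, ?_⟩
    rw [orderOf_conj']
    exact hyo
  set M : Subgroup G := K G ⊓ Subgroup.centralizer S with hM
  have hMn : M.Normal := inferInstance
  -- `q`-elements of `K` lie in `M`
  have hqM : ∀ x' ∈ K G, ∀ k' : ℕ, orderOf x' = q ^ k' → x' ∈ M := by
    intro x' hx' k' hxo'
    rw [hM, Subgroup.mem_inf]
    refine ⟨hx', ?_⟩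
    rw [Subgroup.mem_centralizer_iff]
    rintro y ⟨hyF, hyo⟩
    -- `y` lies in the centralizer of `x'`
    have : y ∈ Subgroup.centralizer {x'} := by
      apply mem_of_forall_prime_pow_mem
      intro z hz r j hr hzo
      rw [Subgroup.mem_centralizer_singleton_iff]
      haveI := Fact.mk hr
      have hzF : z ∈ F := by
        obtain ⟨i, rfl⟩ := Subgroup.mem_zpowers_iff.1 hz
        exact F.zpow_mem hyF i
      rcases Nat.eq_zero_or_pos j with rfl | hj
      · rw [pow_zero, orderOf_eq_one_iff] at hzo
        rw [hzo, one_mul, mul_one]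
      have hrq : r ≠ q := by
        rintro rfl
        have h1 : orderOf z ∣ orderOf y := orderOf_dvd_of_mem_zpowers hz
        rw [hzo] at h1
        have h2 : r ∣ orderOf y := (dvd_pow_self r hj.ne').trans h1
        have h3 := Nat.dvd_gcd h2 (dvd_refl r)
        rw [hyo] at h3
        exact hr.one_lt.ne' (Nat.dvd_one.1 h3)
      have hx'r : (orderOf x').Coprime r := by
        rw [hxo']
        exact Nat.Coprime.pow_left k' ((Nat.coprime_primes hq.out hr).2 (Ne.symm hrq))
      exact commute_of_coprime hodd hx' hx'r hzF hzo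
    exact Subgroup.mem_centralizer_singleton_iff.1 this
  have hxM : x ∈ M := hqM x hx k hxo
  -- `M / Z(M)` is a `q`-group
  have hMZ : IsPGroup q (M ⧸ Subgroup.center M) := by
    intro mbar
    obtain ⟨m, rfl⟩ := QuotientGroup.mk_surjective mbar
    refine ⟨(orderOf (m : G)).factorization q, ?_⟩
    rw [← QuotientGroup.mk_pow, QuotientGroup.eq_one_iff]
    set y : G := (m : G) ^ ordProj[q] (orderOf (m : G)) with hy
    have hyo : (orderOf y).Coprime q := orderOf_pow_ordProj_coprime (m : G) hq.out
    have hyM : y ∈ M := M.pow_mem m.2 _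
    have hyK : y ∈ K G := hyM.1
    have hyS : y ∈ Subgroup.centralizer S := hyM.2
    -- `y` centralizes `F`
    have hyF : y ∈ Subgroup.centralizer (F : Set G) := by
      rw [Subgroup.mem_centralizer_iff]
      intro f hf
      have : f ∈ Subgroup.centralizer {y} := by
        apply mem_of_forall_prime_pow_mem
        intro z hz r j hr hzo
        rw [Subgroup.mem_centralizer_singleton_iff]
        haveI := Fact.mk hr
        have hzF : z ∈ F := by
          obtain ⟨i, rfl⟩ := Subgroup.mem_zpowers_iff.1 hz
          exact F.zpow_mem hf i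
        by_cases hrq : r = q
        · subst hrq
          exact commute_of_coprime hodd hyK hyo hzF hzo
        · have hzS : z ∈ S := by
            refine ⟨hzF, ?_⟩
            rw [hzo]
            exact Nat.Coprime.pow_left j ((Nat.coprime_primes hr hq.out).2 hrq)
          exact (Subgroup.mem_centralizer_iff.1 hyS) z hzS
      exact Subgroup.mem_centralizer_singleton_iff.1 this
    have hyF' : y ∈ F := centralizer_fittingSubgroup_le hyF
    have hyS' : y ∈ S := ⟨hyF', hyo⟩
    show m ^ ordProj[q] (orderOf (m : G)) ∈ Subgroup.center M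
    rw [Subgroup.mem_center_iff]
    intro m'
    apply Subtype.ext
    have h1 : (m' : G) * y = y * m' := by
      have := (Subgroup.mem_centralizer_iff.1 m'.2.2) y hyS'
      exact this.symm
    simpa [hy] using h1
  haveI : Group.IsNilpotent (M ⧸ Subgroup.center M) := hMZ.isNilpotent
  have hMnil : Group.IsNilpotent M :=
    Subgroup.isNilpotent_of_ker_le_center (QuotientGroup.mk' (Subgroup.center M)) (by
      rw [QuotientGroup.ker_mk'])
  exact le_fittingSubgroup hMn hMnil hxM

/-- Let G be a finite solvable group whose Fitting subgroup F(G) has odd order. If an element g of G commutes with every element of prime order of F(G), then g ∈ F(G). -/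
theorem result {G : Type*} [Group G] [Finite G] (hG : Group.IsSolvable G) (hodd : Odd (Nat.card (Cfsg.fittingSubgroup G))) (g : G) (hg : ∀ x ∈ Cfsg.fittingSubgroup G, (orderOf x).Prime → g * x = x * g) : g ∈ Cfsg.fittingSubgroup G := by
  haveI := hG
  have hgK : g ∈ K G := by
    rw [K, Subgroup.mem_centralizer_iff]
    rintro y ⟨hyF, hyo⟩
    exact (hg y hyF hyo).symm
  apply mem_of_forall_prime_pow_mem
  intro z hz r k hr hzo
  haveI := Fact.mk hr
  have hzK : z ∈ K G := by
    obtain ⟨i, rfl⟩ := Subgroup.mem_zpowers_iff.1 hz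
    exact (K G).zpow_mem hgK i
  exact q_element_mem_fitting hodd hzK hzo

end Cfsg.Agent.S3785
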