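import Cfsg.Statements.S3790
import Mathlib
import Cfsg.Agent.Lib.Helper2.PLengthSeries

set_option autoImplicit false
open Cfsg

namespace Cfsg.Agent.S3790

open Cfsg.Agent.Lib.Helper2 Cfsg.Agent.Lib

universe u

theorem aux (p : ℕ) [hp : Fact p.Prime] : ∀ (r : ℕ) (q : Fin r → ℕ),
    (∀ i, (q i).Prime ∧ q i ≠ p) → ∀ (l : Fin r → ℕ) (G : Type u) [Group G] [Finite G],
    Group.IsSolvable G →
    (∀ s : ℕ, s.Prime → s ∣ Nat.card G → s ≠ p → ∃ i, q i = s) →
    (∀ i, PLengthLE (q i) (l i) G) → PLengthLE p (∏ i, (1 + l i)) G := by
  intro r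
  induction r with
  | zero =>
    intro q hq l G _ _ hG hcover hl
    have hGp : IsPGroup p G := by
      apply IsPGroup.of_card
      apply Nat.eq_prime_pow_of_unique_prime_dvd Nat.card_pos.ne'
      intro s hs hsd
      by_contra hne
      obtain ⟨i, -⟩ := hcover s hs hsd hne
      exact i.elim0
    rw [Finset.univ_eq_empty, Finset.prod_empty]
    change (upperPSeries p G 3).1 = ⊤
    rw [eq_top_iff]
    have h1 : (⊤ : Subgroup G) ≤ pCore p G := Helper2.le_pCore (hGp.to_subgroup ⊤)
    exact h1.trans ((PLQ.pCore_le_upperPSeries_two p).trans (Helper1.upperPSeries_le_succ p G 2))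
  | succ r ihr =>
    intro q hq l G _ _ hG hcover hl
    have hqr : (q (Fin.last r)).Prime := (hq (Fin.last r)).1
    haveI : Fact (q (Fin.last r)).Prime := ⟨hqr⟩
    have hqrp : (q (Fin.last r)).Coprime p := (Nat.coprime_primes hqr hp.out).mpr (hq (Fin.last r)).2
    -- reduce covering to the first `r` primes for groups of order prime to `q_r`
    have hcov' : ∀ (H : Type u) [Group H] [Finite H],
        (∀ s : ℕ, s.Prime → s ∣ Nat.card H → s ≠ p → ∃ i, q i = s) →
        (Nat.card H).Coprime (q (Fin.last r)) →
        ∀ s : ℕ, s.Prime → s ∣ Nat.card H → s ≠ p → ∃ i : Fin r, q i.castSucc = s := by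
      intro H _ _ hcov hcop s hs hsd hsp
      obtain ⟨i, hi⟩ := hcov s hs hsd hsp
      rcases Fin.eq_castSucc_or_eq_last i with ⟨j, rfl⟩ | rfl
      · exact ⟨j, hi⟩
      · exfalso
        rw [hi] at hcop
        exact hs.one_lt.ne' (Nat.Coprime.eq_one_of_dvd hcop.symm hsd)
    have inner : ∀ (k : ℕ) (H : Type u) [Group H] [Finite H], Group.IsSolvable H →
        (∀ s : ℕ, s.Prime → s ∣ Nat.card H → s ≠ p → ∃ i, q i = s) →
        (∀ i : Fin r, PLengthLE (q i.castSucc) (l i.castSucc) H) →
        PLengthLE (q (Fin.last r)) k H →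
        PLengthLE p ((∏ i : Fin r, (1 + l i.castSucc)) * (1 + k)) H := by
      intro k
      induction k with
      | zero =>
        intro H _ _ hsol hcov hl' hk
        have hcop : (Nat.card H).Coprime (q (Fin.last r)) := by
          have h1 : (upperPSeries (q (Fin.last r)) H 1).1 = ⊤ := hk
          rw [Helper3.upperPSeries_one] at h1
          have h2 := Helper2.pPrimeCore_card_coprime (G := H) (q (Fin.last r))
          rw [h1, Subgroup.card_top] at h2
          exact h2
        have := ihr (fun i => q i.castSucc) (fun i => hq i.castSucc) (fun i => l i.castSucc) H hsol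
          (hcov' H hcov hcop) hl'
        rw [Nat.add_zero, mul_one]
        exact this
      | succ k ihk =>
        intro H _ _ hsol hcov hl' hk
        haveI := hsol
        obtain ⟨M, hM⟩ : ∃ M, M = ∏ i : Fin r, (1 + l i.castSucc) := ⟨_, rfl⟩
        rw [← hM]
        obtain ⟨N, hNdef⟩ : ∃ N : Subgroup H, N = (upperPSeries (q (Fin.last r)) H 2).1 := ⟨_, rfl⟩
        haveI hNn : N.Normal := by rw [hNdef]; infer_instance
        obtain ⟨K, hKdef⟩ : ∃ K : Subgroup H, K = pPrimeCore (q (Fin.last r)) H := ⟨_, rfl⟩
        haveI hKn : K.Normal := by rw [hKdef]; infer_instance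
        have hKN : K ≤ N := by
          rw [hKdef, hNdef, ← Helper3.upperPSeries_one]
          exact Helper1.upperPSeries_le_succ _ H 1
        -- Step 1: `O_{q_r'}(H)` has `p`-length at most `M`
        have h1 : PLengthLE p M ↥K := by
          rw [hM]
          apply ihr (fun i => q i.castSucc) (fun i => hq i.castSucc) (fun i => l i.castSucc) ↥K
            inferInstance
          · apply hcov' ↥K
            · intro s hs hsd hsp
              exact hcov s hs (hsd.trans (Subgroup.card_subgroup_dvd_card K)) hsp
            · rw [hKdef]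
              exact Helper2.pPrimeCore_card_coprime _
          · intro i
            haveI : Fact (q i.castSucc).Prime := ⟨(hq i.castSucc).1⟩
            exact PLQ.pLengthLE_of_normal _ _ K (hl' i)
        -- Step 2: `O_{q_r',q_r}(H)` has `p`-length at most `M`
        have h2 : PLengthLE p (M + 0) ↥N := by
          apply PLQ.pLengthLE_add p M 0 (K.subgroupOf N)
          · exact PLQ.pLengthLE_of_mulEquiv p M (Subgroup.subgroupOfEquivOfLe hKN).symm h1
          · apply PLQ.pLengthLE_zero_of_coprime
            have e1 : Nat.card (↥N ⧸ K.subgroupOf N) = K.relIndex N :=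
              (Subgroup.index_eq_card _).symm
            obtain ⟨j, hj⟩ := PLQ.relIndex_upperPSeries_odd (G := H) (q (Fin.last r)) 1 (by decide)
            rw [Helper3.upperPSeries_one, ← hKdef, ← hNdef] at hj
            rw [e1, hj]
            exact Nat.Coprime.pow_left j hqrp
        -- Step 3: the quotient
        have h3 : PLengthLE p (M * (1 + k)) (H ⧸ N) := by
          rw [hM]
          apply ihk (H ⧸ N) inferInstance
          · intro s hs hsd hsp
            apply hcov s hs _ hsp
            rw [← Subgroup.index_eq_card] at hsd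
            exact hsd.trans (Subgroup.index_dvd_card N)
          · intro i
            exact PLQ.pLengthLE_of_surjective _ _ _ (QuotientGroup.mk'_surjective N) (hl' i)
          · subst hNdef
            exact PLQ.pLengthLE_quotient_two _ k hk
        have h4 := PLQ.pLengthLE_add p (M + 0) (M * (1 + k)) N h2 h3
        have e : M * (1 + (k + 1)) = M + 0 + M * (1 + k) := by ring
        rw [e]
        exact h4
    rw [Fin.prod_univ_castSucc]
    exact inner (l (Fin.last r)) G hG hcover (fun i => hl i.castSucc) (hl (Fin.last r))

/-- Let G be a finite solvable group and p a prime. Suppose p₁, …, p_r are distinct primes, all different from p, that include every prime dividing the order of G other than p, and that G has p_i-length at most l_i for each i. Then G has p-length at most the product of the numbers 1 + l_i. -/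
theorem result {G : Type*} [Group G] [Finite G] (hG : Group.IsSolvable G) (p : ℕ) [Fact p.Prime] (r : ℕ) (q : Fin r → ℕ) (hq : ∀ i, (q i).Prime ∧ q i ≠ p) (hinj : Function.Injective q) (hcover : ∀ s : ℕ, s.Prime → s ∣ Nat.card G → s ≠ p → ∃ i, q i = s) (l : Fin r → ℕ) (hl : ∀ i, Cfsg.PLengthLE (q i) (l i) G) : Cfsg.PLengthLE p (Finset.univ.prod fun i => 1 + l i) G := by
  exact aux p r q hq l G hG hcover hl

end Cfsg.Agent.S3790
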