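import Cfsg.Statements.S3791
import Mathlib
import Cfsg.Agent.Lib.Helper2.PLengthQuot
import Cfsg.Agent.Lib.Helper1.ThreeSolvable

set_option autoImplicit false
open Cfsg

namespace Cfsg.Agent.S3791

open Cfsg.Agent.Lib.Helper2 Cfsg.Agent.Lib

universe u

theorem aux (r : ℕ) (q : Fin r → ℕ) (hq : ∀ i, (q i).Prime) (d : Fin r → ℕ) :
    ∀ (n : ℕ) (G : Type u) [Group G] [Finite G], Nat.card G = n → Group.IsSolvable G →
      (∀ s : ℕ, s.Prime → s ∣ Nat.card G → ∃ i, q i = s) → ∀ l : Fin r → ℕ,
      (∀ i, ∀ S : Sylow (q i) G, derivedSeries ↥(S : Subgroup G) (d i) = ⊥) →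
      (∀ i, PLengthLE (q i) (l i) G) → derivedSeries G (∑ i, d i * l i) = ⊥ := by
  intro n
  induction n using Nat.strong_induction_on with
  | _ n ih =>
  intro G _ _ hn hG hcover l hd hl
  rcases subsingleton_or_nontrivial G with hsub | hnt
  · exact Subsingleton.elim _ _
  haveI := hG
  obtain ⟨p, hp, hpc⟩ := Helper1.exists_pCore_ne_bot_of_solvable G
  haveI : Fact p.Prime := ⟨hp⟩
  have hpdvd : p ∣ Nat.card G := by
    obtain ⟨m, hm⟩ := (Helper2.pCore_isPGroup (G := G) p).exists_card_eq
    have h1 : 1 < Nat.card (pCore p G) := (Subgroup.one_lt_card_iff_ne_bot _).mpr hpc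
    have hm0 : m ≠ 0 := by
      rintro rfl
      rw [hm, pow_zero] at h1
      exact lt_irrefl _ h1
    have h2 : p ∣ Nat.card (pCore p G) := by
      rw [hm]; exact dvd_pow_self p hm0
    exact h2.trans (Subgroup.card_subgroup_dvd_card _)
  obtain ⟨i₀, hi₀⟩ := hcover p hp hpdvd
  subst hi₀
  have key : ∀ (N : Subgroup G) [N.Normal], N ≠ ⊥ → ∀ l' : Fin r → ℕ,
      (∀ i, PLengthLE (q i) (l' i) (G ⧸ N)) → derivedSeries G (∑ i, d i * l' i) ≤ N := by
    intro N _ hN l' hl'
    apply PLQ.derivedSeries_le_of_quotient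
    have hidx : Nat.card (G ⧸ N) = N.index := (Subgroup.index_eq_card N).symm
    refine ih (Nat.card (G ⧸ N)) ?_ (G ⧸ N) rfl inferInstance ?_ l' ?_ hl'
    · rw [← hn, hidx, ← N.card_mul_index]
      have h1 : 1 < Nat.card N := (Subgroup.one_lt_card_iff_ne_bot _).mpr hN
      have h2 : 0 < N.index := Nat.pos_of_ne_zero Subgroup.index_ne_zero_of_finite
      nlinarith
    · intro s hs hsd
      apply hcover s hs
      rw [hidx] at hsd
      exact hsd.trans (Subgroup.index_dvd_card N)
    · intro i Q
      haveI : Fact (q i).Prime := ⟨hq i⟩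
      exact PLQ.derivedSeries_sylow_of_surjective (q i) (QuotientGroup.mk' N)
        (QuotientGroup.mk'_surjective N) (d i) (hd i) Q
  have hquot : ∀ (N : Subgroup G) [N.Normal], ∀ i, PLengthLE (q i) (l i) (G ⧸ N) := by
    intro N _ i
    exact PLQ.pLengthLE_of_surjective _ _ _ (QuotientGroup.mk'_surjective N) (hl i)
  by_cases hpp : pPrimeCore (q i₀) G = ⊥
  · -- case B
    have hl0 : l i₀ ≠ 0 := by
      intro h0
      have h1 : (upperPSeries (q i₀) G 1).1 = ⊤ := by
        have := hl i₀
        rw [h0] at this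
        exact this
      rw [Helper3.upperPSeries_one, hpp] at h1
      exact bot_ne_top h1
    obtain ⟨k, hk⟩ := Nat.exists_eq_succ_of_ne_zero hl0
    have hNp : IsPGroup (q i₀) (upperPSeries (q i₀) G 2).1 :=
      PLQ.isPGroup_upperPSeries_two (q i₀) hpp
    have hNbot : (upperPSeries (q i₀) G 2).1 ≠ ⊥ := by
      intro h
      apply hpc
      have := PLQ.pCore_le_upperPSeries_two (G := G) (q i₀)
      rw [h] at this
      exact le_bot_iff.mp this
    obtain ⟨S, hS⟩ := hNp.exists_le_sylow
    have hNd : derivedSeries ↥(upperPSeries (q i₀) G 2).1 (d i₀) = ⊥ :=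
      PLQ.derivedSeries_eq_bot_of_le hS (d i₀) (hd i₀ S)
    obtain ⟨l', hl'def⟩ : ∃ l' : Fin r → ℕ, l' = Function.update l i₀ k := ⟨_, rfl⟩
    have hl' : ∀ i, PLengthLE (q i) (l' i) (G ⧸ (upperPSeries (q i₀) G 2).1) := by
      intro i
      by_cases hi : i = i₀
      · subst hi
        rw [hl'def, Function.update_self]
        apply PLQ.pLengthLE_quotient_two
        have := hl i
        rw [hk] at this
        exact this
      · rw [hl'def, Function.update_of_ne hi]
        exact hquot _ i
    have h1 := key _ hNbot l' hl'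
    have h2 := PLQ.derivedSeries_add_eq_bot _ _ (d i₀) h1 hNd
    have hsum : ∑ i, d i * l i = (∑ i, d i * l' i) + d i₀ := by
      rw [← Finset.add_sum_erase Finset.univ (fun i => d i * l i) (Finset.mem_univ i₀),
        ← Finset.add_sum_erase Finset.univ (fun i => d i * l' i) (Finset.mem_univ i₀)]
      have h1 : ∑ i ∈ Finset.univ.erase i₀, d i * l' i = ∑ i ∈ Finset.univ.erase i₀, d i * l i := by
        apply Finset.sum_congr rfl
        intro i hi
        rw [hl'def, Function.update_of_ne (Finset.ne_of_mem_erase hi)]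
      rw [h1, hl'def, Function.update_self, hk, Nat.succ_eq_add_one]
      ring
    rw [hsum]
    exact h2
  · -- case A
    have h1 := key (pCore (q i₀) G) hpc l (hquot _)
    have h2 := key (pPrimeCore (q i₀) G) hpp l (hquot _)
    have h3 : pCore (q i₀) G ⊓ pPrimeCore (q i₀) G = ⊥ := by
      apply disjoint_iff.mp
      apply Subgroup.disjoint_of_coprime_natCard
      obtain ⟨m, hm⟩ := (Helper2.pCore_isPGroup (G := G) (q i₀)).exists_card_eq
      rw [hm]
      exact Nat.Coprime.pow_left m (Helper2.pPrimeCore_card_coprime (G := G) (q i₀)).symm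
    have h4 := le_inf h1 h2
    rw [h3] at h4
    exact le_bot_iff.mp h4

/-- The Hall–Higman bound on derived length: let G be a finite solvable group, let p₁, …, p_r be distinct primes that include every prime dividing the order of G, and suppose that for each i the Sylow p_i-subgroups of G have derived length at most d_i and G has p_i-length at most l_i. Then G has derived length at most Σ d_i l_i. -/
theorem result {G : Type*} [Group G] [Finite G] (hG : Group.IsSolvable G) (r : ℕ) (q : Fin r → ℕ) (hq : ∀ i, (q i).Prime) (hinj : Function.Injective q) (hcover : ∀ s : ℕ, s.Prime → s ∣ Nat.card G → ∃ i, q i = s) (d l : Fin r → ℕ) (hd : ∀ i, ∀ P : Subgroup G, (haveI := Fact.mk (hq i); ∃ S : Sylow (q i) G, (S : Subgroup G) = P) → derivedSeries ↥P (d i) = ⊥) (hl : ∀ i, Cfsg.PLengthLE (q i) (l i) G) : derivedSeries G (Finset.univ.sum fun i => d i * l i) = ⊥ := by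
  apply aux r q hq d (Nat.card G) G rfl hG hcover l ?_ hl
  intro i S
  exact hd i (S : Subgroup G) ⟨S, rfl⟩

end Cfsg.Agent.S3791
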