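import Cfsg.Statements.S3797
import Cfsg.Agent.Lib.Helper2.T97
import Cfsg.Agent.Lib.Helper8.T97Q3
import Cfsg.Agent.Lib.Helper8.T97H
import Cfsg.Agent.Lib.Helper9.T97a
import Cfsg.Agent.Lib.Helper9.T97b
import Cfsg.Agent.Lib.Helper1.PLengthOne

set_option autoImplicit false
open Cfsg

namespace Cfsg.Agent.S3797

/-- Let G be a finite solvable group of even order whose Sylow 2-subgroups contain more than one involution, and suppose all involutions of G are conjugate. Then G has 2-length at most 1, and a Sylow 2-subgroup S of G is either homocyclic (a direct product of cyclic groups of one common order) or a non-abelian 2-group with more than one involution admitting a solvable group of automorphisms transitive on its involutions. -/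
theorem result {G : Type*} [Group G] [Finite G] (hG : Group.IsSolvable G) (heven : Even (Nat.card G)) (S : Sylow 2 G) (htwo : ∃ x y : G, x ∈ (S : Subgroup G) ∧ y ∈ (S : Subgroup G) ∧ x ≠ y ∧ x ≠ 1 ∧ x ^ 2 = 1 ∧ y ≠ 1 ∧ y ^ 2 = 1) (hconj : ∀ x y : G, x ≠ 1 → x ^ 2 = 1 → y ≠ 1 → y ^ 2 = 1 → IsConj x y) : Cfsg.PLengthLE 2 1 G ∧ ((∃ m r : ℕ, Nonempty (↥(S : Subgroup G) ≃* (Fin r → Multiplicative (ZMod (2 ^ m))))) ∨ (¬ IsMulCommutative (S : Subgroup G) ∧ ∃ Y : Subgroup (MulAut ↥(S : Subgroup G)), Group.IsSolvable Y ∧ ∀ x y : ↥(S : Subgroup G), x ≠ 1 → x ^ 2 = 1 → y ≠ 1 → y ^ 2 = 1 → ∃ a ∈ Y, a x = y)) := by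
  haveI : Fact (Nat.Prime 2) := ⟨Nat.prime_two⟩
  have hOc : (Nat.card (pPrimeCore 2 G)).Coprime 2 :=
    Cfsg.Agent.Lib.Helper1.pPrimeCore_card_coprime 2
  obtain ⟨h2, hc⟩ := Cfsg.Agent.Lib.Helper9.T97.quot_hyps (pPrimeCore 2 G) hOc S htwo hconj
  have hsolQ : Group.IsSolvable (G ⧸ pPrimeCore 2 G) :=
    Group.isSolvable_of_surjective (QuotientGroup.mk'_surjective (pPrimeCore 2 G))
  have hbot : pPrimeCore 2 (G ⧸ pPrimeCore 2 G) = ⊥ :=
    Cfsg.Agent.Lib.Helper1.pPrimeCore_quotient_eq_bot 2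
  have hcore := Cfsg.Agent.Lib.Helper2.T97.core hsolQ hbot h2 hc
  obtain ⟨hpl, hn⟩ := Cfsg.Agent.Lib.Helper9.T97.plength_of_core hcore S
  obtain ⟨Y, hYs, hYt⟩ := Cfsg.Agent.Lib.Helper8.T97.exists_Y hG S (pPrimeCore 2 G) hOc hn hconj
  refine ⟨hpl, ?_⟩
  by_cases hab : IsMulCommutative (S : Subgroup G)
  · left
    refine Cfsg.Agent.Lib.Helper8.T97.homocyclic_of_trans S.isPGroup'
      (fun x y => hab.is_comm.comm x y) ?_
    intro x y hx1 hx2 hy1 hy2
    obtain ⟨a, _, ha⟩ := hYt x y hx1 hx2 hy1 hy2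
    exact ⟨a, ha⟩
  · right
    exact ⟨hab, Y, hYs, hYt⟩

end Cfsg.Agent.S3797
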