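import Cfsg.Statements.S3802
import Cfsg.Agent.Lib.Helper2.MinNormal

set_option autoImplicit false
open Cfsg

namespace Cfsg.Agent.S3802

open Cfsg.Agent.Lib.Helper2

/-- the core-free case -/
theorem corefree {G : Type*} [Group G] [Finite G] (M N : Subgroup G) (hM : IsCoatom M)
    (hN : N.IsSubnormal) (hNM : N ≤ M) (hcore : Subgroup.normalCore M = ⊥) : N = ⊥ := by
  by_contra hne
  have htop : (⊤ : Subgroup G) ≠ ⊥ := by
    intro h
    apply hne
    rw [eq_bot_iff, ← h]; exact le_top
  obtain ⟨A, _, hAne, hAmin⟩ := exists_isMinNormal_le (⊤ : Subgroup G) htop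
  haveI := hAmin.1
  have hAM : ¬ A ≤ M := by
    intro h
    apply hAne
    rw [eq_bot_iff, ← hcore]
    exact Subgroup.normal_le_normalCore.2 h
  have hMA : M ⊔ A = ⊤ := by
    apply hM.2
    exact lt_of_le_of_ne le_sup_left (fun h => hAM (h ▸ le_sup_right))
  have hAN := hAmin.le_normalizer_of_isSubnormal hN
  have hK : Subgroup.normalClosure (N : Set G) ≤ M := by
    rw [Subgroup.normalClosure, Subgroup.closure_le]
    intro x hx
    rw [Group.mem_conjugatesOfSet_iff] at hx
    obtain ⟨n, hn, hconj⟩ := hx
    rw [isConj_iff] at hconj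
    obtain ⟨g, rfl⟩ := hconj
    have hg : g ∈ ((M ⊔ A : Subgroup G) : Set G) := by rw [hMA]; trivial
    rw [Subgroup.mul_normal] at hg
    obtain ⟨m, hm, a, ha, rfl⟩ := hg
    have h1 : a * n * a⁻¹ ∈ N := (Subgroup.mem_normalizer_iff.1 (hAN ha) n).1 hn
    have : (fun x1 x2 => x1 * x2) m a * n * ((fun x1 x2 => x1 * x2) m a)⁻¹
        = m * (a * n * a⁻¹) * m⁻¹ := by simp only; group
    rw [SetLike.mem_coe, this]
    exact M.mul_mem (M.mul_mem hm (hNM h1)) (M.inv_mem hm)
  have h2 : Subgroup.normalClosure (N : Set G) ≤ Subgroup.normalCore M :=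
    Subgroup.normal_le_normalCore.2 hK
  rw [hcore, le_bot_iff] at h2
  apply hne
  rw [eq_bot_iff, ← h2]
  exact Subgroup.le_normalClosure

/-- quotient step, for an abstract core `C` -/
theorem quot_step {G : Type*} [Group G] [Finite G] (M N C : Subgroup G) [C.Normal]
    (hM : IsCoatom M) (hN : N.IsSubnormal) (hNM : N ≤ M) (hCM : C ≤ M)
    (hCmax : ∀ K : Subgroup G, K.Normal → K ≤ M → K ≤ C) : N ≤ C := by
  set π := QuotientGroup.mk' C with hπ
  have hkerπ : π.ker = C := QuotientGroup.ker_mk' C
  have hcm : ∀ b : Subgroup G, C ≤ b → (b.map π).comap π = b := fun b hb =>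
    Subgroup.comap_map_eq_self (by rw [hkerπ]; exact hb)
  have hmc : ∀ b : Subgroup (G ⧸ C), (b.comap π).map π = b := fun b =>
    Subgroup.map_comap_eq_self_of_surjective (QuotientGroup.mk'_surjective C) b
  -- image of M is a coatom
  have hMbar : IsCoatom (M.map π) := by
    constructor
    · intro h
      apply hM.1
      rw [← hcm M hCM, h, Subgroup.comap_top]
    · intro b hb
      have h1 : M < b.comap π := by
        refine lt_of_le_of_ne ?_ ?_
        · rw [← hcm M hCM]; exact Subgroup.comap_mono hb.le
        · intro h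
          apply hb.ne
          rw [h, hmc]
      have h2 := hM.2 _ h1
      rw [← hmc b, h2]
      exact Subgroup.map_top_of_surjective π (QuotientGroup.mk'_surjective C)
  have hcorebar : Subgroup.normalCore (M.map π) = ⊥ := by
    rw [eq_bot_iff]
    have h1 : ((Subgroup.normalCore (M.map π)).comap π) ≤ C := by
      apply hCmax _ inferInstance
      calc (Subgroup.normalCore (M.map π)).comap π ≤ (M.map π).comap π :=
            Subgroup.comap_mono (Subgroup.normalCore_le _)
        _ = M := hcm M hCM
    intro x hx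
    obtain ⟨g, rfl⟩ := QuotientGroup.mk'_surjective C x
    have : g ∈ C := h1 hx
    rw [Subgroup.mem_bot]
    exact (QuotientGroup.eq_one_iff g).2 this
  have h3 := corefree (M.map π) (N.map π) hMbar (hN.map (QuotientGroup.mk'_surjective C))
    (Subgroup.map_mono hNM) hcorebar
  rw [Subgroup.map_eq_bot_iff, hkerπ] at h3
  exact h3

/-- Let G be a finite group, M a maximal subgroup of G and N a subnormal subgroup of G contained in M. Then N is contained in every conjugate of M, that is, N lies in the core of M in G. -/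
theorem result {G : Type*} [Group G] [Finite G] (M N : Subgroup G) (hM : IsCoatom M) (hN : N.IsSubnormal) (hNM : N ≤ M) :
    N ≤ Subgroup.normalCore M :=
  quot_step M N (Subgroup.normalCore M) hM hN hNM (Subgroup.normalCore_le M)
    (fun _ hK h => Subgroup.normal_le_normalCore.2 h)

end Cfsg.Agent.S3802
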