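import Cfsg.Statements.S3804
import Cfsg.Agent.Lib.Helper7.ChermakDelgado

set_option autoImplicit false
open Cfsg

namespace Cfsg.Agent.S3804
open Cfsg.Agent.Lib.Helper7
open scoped Pointwise

theorem measure_arith {α : ℝ} (hα : 0 < α) {a b j d cA cB cJ cD : ℕ}
    (ha : 0 < a) (hb : 0 < b) (hj : 0 < j) (hd : 0 < d)
    (hcA : 0 < cA) (hcB : 0 < cB) (hcJ : 0 < cJ) (hcD : 0 < cD) (M : ℝ)
    (i1 : a * b ≤ j * d) (i2 : cA * cB ≤ cD * cJ)
    (eA : (a : ℝ) ^ α * cA = M) (eB : (b : ℝ) ^ α * cB = M)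
    (mJ : (j : ℝ) ^ α * cJ ≤ M) (mD : (d : ℝ) ^ α * cD ≤ M) :
    (j : ℝ) ^ α * cJ = M ∧ (d : ℝ) ^ α * cD = M ∧ a * b = j * d ∧ cA * cB = cD * cJ := by
  have ha' : (0:ℝ) < a := by exact_mod_cast ha
  have hb' : (0:ℝ) < b := by exact_mod_cast hb
  have hj' : (0:ℝ) < j := by exact_mod_cast hj
  have hd' : (0:ℝ) < d := by exact_mod_cast hd
  have hcA' : (0:ℝ) < cA := by exact_mod_cast hcA
  have hcB' : (0:ℝ) < cB := by exact_mod_cast hcB
  have hcJ' : (0:ℝ) < cJ := by exact_mod_cast hcJ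
  have hcD' : (0:ℝ) < cD := by exact_mod_cast hcD
  have hMpos : 0 < M := by rw [← eA]; positivity
  have i1' : ((a:ℝ) * b) ≤ (j:ℝ) * d := by exact_mod_cast i1
  have i2' : ((cA:ℝ) * cB) ≤ (cD:ℝ) * cJ := by exact_mod_cast i2
  have hx : ((a:ℝ) * b) ^ α ≤ ((j:ℝ) * d) ^ α :=
    Real.rpow_le_rpow (by positivity) i1' hα.le
  have hxm : ((a:ℝ) * b) ^ α = (a:ℝ) ^ α * (b:ℝ) ^ α := Real.mul_rpow ha'.le hb'.le
  have hym : ((j:ℝ) * d) ^ α = (j:ℝ) ^ α * (d:ℝ) ^ α := Real.mul_rpow hj'.le hd'.le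
  have hxpos : 0 < ((a:ℝ) * b) ^ α := by positivity
  have hypos : 0 < ((j:ℝ) * d) ^ α := by positivity
  have hJpos : 0 < (j : ℝ) ^ α * cJ := by positivity
  have hDpos : 0 < (d : ℝ) ^ α * cD := by positivity
  have e1 : M * M = ((a:ℝ) * b) ^ α * ((cA:ℝ) * cB) := by
    rw [hxm]; nlinarith [eA, eB]
  have e2 : ((j : ℝ) ^ α * cJ) * ((d : ℝ) ^ α * cD) = ((j:ℝ) * d) ^ α * ((cD:ℝ) * cJ) := by
    rw [hym]; ring
  have h3 : ((j : ℝ) ^ α * cJ) * ((d : ℝ) ^ α * cD) ≤ M * M :=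
    mul_le_mul mJ mD hDpos.le hMpos.le
  have h4 : ((a:ℝ) * b) ^ α * ((cA:ℝ) * cB) ≤ ((j:ℝ) * d) ^ α * ((cD:ℝ) * cJ) :=
    mul_le_mul hx i2' (by positivity) hypos.le
  have h5 : ((j:ℝ) * d) ^ α * ((cD:ℝ) * cJ) = ((a:ℝ) * b) ^ α * ((cA:ℝ) * cB) := by
    apply le_antisymm _ h4
    rw [← e2, ← e1]; exact h3
  have hxy : ((a:ℝ) * b) ^ α = ((j:ℝ) * d) ^ α := by
    by_contra hne
    have hlt : ((a:ℝ) * b) ^ α < ((j:ℝ) * d) ^ α := lt_of_le_of_ne hx hne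
    have : ((a:ℝ) * b) ^ α * ((cA:ℝ) * cB) < ((j:ℝ) * d) ^ α * ((cD:ℝ) * cJ) :=
      mul_lt_mul hlt i2' (by positivity) hypos.le
    linarith
  have huv : ((cA:ℝ) * cB) = (cD:ℝ) * cJ := by
    rw [hxy] at h5
    exact (mul_left_cancel₀ hypos.ne' h5).symm
  have hab : ((a:ℝ) * b) = (j:ℝ) * d := by
    apply Real.rpow_left_injOn hα.ne' (by positivity : (0:ℝ) ≤ (a:ℝ)*b) (by positivity : (0:ℝ) ≤ (j:ℝ)*d) hxy
  have hprod : ((j : ℝ) ^ α * cJ) * ((d : ℝ) ^ α * cD) = M * M := by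
    rw [e2, h5, e1]
  have hJ : (j : ℝ) ^ α * cJ = M := by
    by_contra hne
    have hlt : (j : ℝ) ^ α * cJ < M := lt_of_le_of_ne mJ hne
    have : ((j : ℝ) ^ α * cJ) * ((d : ℝ) ^ α * cD) < M * M :=
      mul_lt_mul hlt mD hDpos hMpos.le
    linarith
  have hD : (d : ℝ) ^ α * cD = M := by
    rw [hJ] at hprod
    exact mul_left_cancel₀ hMpos.ne' hprod
  exact ⟨hJ, hD, by exact_mod_cast hab, by exact_mod_cast huv⟩


/-- Let G and H be subgroups of a finite group with G normalizing H, fix a real number α > 0, and for a subgroup A of G put m(A) = |A|^α · |C_H(A)|. Let A and B be nontrivial subgroups of G at which m attains its maximum over all nontrivial subgroups of G, and assume that A ∩ B ≠ 1 or that this maximum is at least |H|. Then AB = BA is a subgroup at which m is again maximal, C_H(A ∩ B) = C_H(A) C_H(B), and if A ∩ B ≠ 1 then m is maximal at A ∩ B as well. -/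
theorem result {X : Type*} [Group X] [Finite X] (G H : Subgroup X) (hGH : G ≤ Subgroup.normalizer (H : Set X)) (α : ℝ) (hα : 0 < α)
    (A B : Subgroup X) (hA : A ≤ G) (hB : B ≤ G) (hA1 : A ≠ ⊥) (hB1 : B ≠ ⊥)
    (hAmax : ∀ A' : Subgroup X, A' ≤ G → A' ≠ ⊥ → (fun A : Subgroup X => ((Nat.card A : ℝ) ^ α) * (Nat.card ↥(H ⊓ Subgroup.centralizer (A : Set X)) : ℝ)) A' ≤ (fun A : Subgroup X => ((Nat.card A : ℝ) ^ α) * (Nat.card ↥(H ⊓ Subgroup.centralizer (A : Set X)) : ℝ)) A)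
    (hBmax : ∀ A' : Subgroup X, A' ≤ G → A' ≠ ⊥ → (fun A : Subgroup X => ((Nat.card A : ℝ) ^ α) * (Nat.card ↥(H ⊓ Subgroup.centralizer (A : Set X)) : ℝ)) A' ≤ (fun A : Subgroup X => ((Nat.card A : ℝ) ^ α) * (Nat.card ↥(H ⊓ Subgroup.centralizer (A : Set X)) : ℝ)) B)
    (hcase : A ⊓ B ≠ ⊥ ∨ (Nat.card H : ℝ) ≤ (fun A : Subgroup X => ((Nat.card A : ℝ) ^ α) * (Nat.card ↥(H ⊓ Subgroup.centralizer (A : Set X)) : ℝ)) A) :
    (∀ a ∈ A, ∀ b ∈ B, ∃ b' ∈ B, ∃ a' ∈ A, a * b = b' * a') ∧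
    (∀ A' : Subgroup X, A' ≤ G → A' ≠ ⊥ → (fun A : Subgroup X => ((Nat.card A : ℝ) ^ α) * (Nat.card ↥(H ⊓ Subgroup.centralizer (A : Set X)) : ℝ)) A' ≤ (fun A : Subgroup X => ((Nat.card A : ℝ) ^ α) * (Nat.card ↥(H ⊓ Subgroup.centralizer (A : Set X)) : ℝ)) (A ⊔ B)) ∧
    (∀ h ∈ H ⊓ Subgroup.centralizer ((A ⊓ B : Subgroup X) : Set X), ∃ u ∈ H ⊓ Subgroup.centralizer (A : Set X), ∃ v ∈ H ⊓ Subgroup.centralizer (B : Set X), h = u * v) ∧
    (A ⊓ B ≠ ⊥ → ∀ A' : Subgroup X, A' ≤ G → A' ≠ ⊥ → (fun A : Subgroup X => ((Nat.card A : ℝ) ^ α) * (Nat.card ↥(H ⊓ Subgroup.centralizer (A : Set X)) : ℝ)) A' ≤ (fun A : Subgroup X => ((Nat.card A : ℝ) ^ α) * (Nat.card ↥(H ⊓ Subgroup.centralizer (A : Set X)) : ℝ)) (A ⊓ B)) := by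
  set m := (fun A : Subgroup X => ((Nat.card A : ℝ) ^ α) * (Nat.card ↥(H ⊓ Subgroup.centralizer (A : Set X)) : ℝ)) with hm
  set CA := H ⊓ Subgroup.centralizer (A : Set X) with hCA
  set CB := H ⊓ Subgroup.centralizer (B : Set X) with hCB
  have hCJ : H ⊓ Subgroup.centralizer ((A ⊔ B : Subgroup X) : Set X) = CA ⊓ CB := by
    rw [centralizer_sup_eq, hCA, hCB]
    ext x; simp only [Subgroup.mem_inf]; tauto
  have hCD : CA ⊔ CB ≤ H ⊓ Subgroup.centralizer ((A ⊓ B : Subgroup X) : Set X) := by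
    apply sup_le
    · exact inf_le_inf_left _ (Subgroup.centralizer_le (by exact_mod_cast (inf_le_left : A ⊓ B ≤ A)))
    · exact inf_le_inf_left _ (Subgroup.centralizer_le (by exact_mod_cast (inf_le_right : A ⊓ B ≤ B)))
  have i1 := card_mul_card_le_card_sup_mul_card_inf A B
  have i2' := card_mul_card_le_card_sup_mul_card_inf CA CB
  have i3 : Nat.card (CA ⊔ CB : Subgroup X)
      ≤ Nat.card (H ⊓ Subgroup.centralizer ((A ⊓ B : Subgroup X) : Set X) : Subgroup X) :=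
    Subgroup.card_le_of_le hCD
  have i2 : Nat.card CA * Nat.card CB ≤
      Nat.card (H ⊓ Subgroup.centralizer ((A ⊓ B : Subgroup X) : Set X) : Subgroup X) *
      Nat.card (H ⊓ Subgroup.centralizer ((A ⊔ B : Subgroup X) : Set X) : Subgroup X) := by
    rw [hCJ]
    exact i2'.trans (Nat.mul_le_mul_right _ i3)
  have hJG : A ⊔ B ≤ G := sup_le hA hB
  have hJ1 : A ⊔ B ≠ ⊥ := fun h => hA1 (le_bot_iff.1 (h ▸ le_sup_left))
  have hmB : m B = m A := le_antisymm (hAmax B hB hB1) (hBmax A hA hA1)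
  have mJ : m (A ⊔ B) ≤ m A := hAmax _ hJG hJ1
  have mD : m (A ⊓ B) ≤ m A := by
    by_cases hD : A ⊓ B = ⊥
    · rcases hcase with h | h
      · exact absurd hD h
      · have : m (A ⊓ B) = (Nat.card H : ℝ) := by
          show ((Nat.card (A ⊓ B : Subgroup X) : ℝ) ^ α) *
            (Nat.card ↥(H ⊓ Subgroup.centralizer ((A ⊓ B : Subgroup X) : Set X)) : ℝ) = _
          rw [hD]
          have hc : H ⊓ Subgroup.centralizer (((⊥ : Subgroup X) : Subgroup X) : Set X) = H := by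
            rw [Subgroup.coe_bot, Subgroup.centralizer_eq_top_iff_subset.2 (by simp), inf_top_eq]
          rw [hc]
          simp
        rw [this]; exact h
    · exact hAmax _ (inf_le_left.trans hA) hD
  obtain ⟨r1, r2, r3, r4⟩ := measure_arith hα (a := Nat.card A) (b := Nat.card B)
    (j := Nat.card (A ⊔ B : Subgroup X)) (d := Nat.card (A ⊓ B : Subgroup X))
    (cA := Nat.card CA) (cB := Nat.card CB)
    (cJ := Nat.card (H ⊓ Subgroup.centralizer ((A ⊔ B : Subgroup X) : Set X) : Subgroup X))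
    (cD := Nat.card (H ⊓ Subgroup.centralizer ((A ⊓ B : Subgroup X) : Set X) : Subgroup X))
    Nat.card_pos Nat.card_pos Nat.card_pos Nat.card_pos Nat.card_pos Nat.card_pos Nat.card_pos
    Nat.card_pos (m A) i1 i2 rfl hmB mJ mD
  have hJset := sup_eq_mul_set_of_card_eq A B r3.symm
  refine ⟨?_, ?_, ?_, ?_⟩
  · intro a ha b hb
    have h1 : (a * b)⁻¹ ∈ ((A ⊔ B : Subgroup X) : Set X) :=
      inv_mem (Subgroup.mul_mem_sup ha hb)
    rw [hJset] at h1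
    obtain ⟨a₁, ha₁, b₁, hb₁, h2⟩ := Set.mem_mul.mp h1
    refine ⟨b₁⁻¹, inv_mem hb₁, a₁⁻¹, inv_mem ha₁, ?_⟩
    rw [← mul_inv_rev, h2, inv_inv]
  · intro A' hA' hA'1
    have : m (A ⊔ B) = m A := r1
    show m A' ≤ m (A ⊔ B)
    rw [this]; exact hAmax A' hA' hA'1
  · have e1 : Nat.card (CA ⊔ CB : Subgroup X) =
        Nat.card (H ⊓ Subgroup.centralizer ((A ⊓ B : Subgroup X) : Set X) : Subgroup X) := by
      apply le_antisymm i3
      rw [hCJ] at r4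
      rw [r4] at i2'
      exact Nat.le_of_mul_le_mul_right i2' Nat.card_pos
    have e2 : CA ⊔ CB = H ⊓ Subgroup.centralizer ((A ⊓ B : Subgroup X) : Set X) :=
      Subgroup.eq_of_le_of_card_ge hCD e1.ge
    have e3 : ((CA ⊔ CB : Subgroup X) : Set X) = (CA : Set X) * (CB : Set X) := by
      apply sup_eq_mul_set_of_card_eq
      rw [e1, r4, hCJ]
    intro h hh
    rw [← e2] at hh
    have : h ∈ ((CA ⊔ CB : Subgroup X) : Set X) := hh
    rw [e3] at this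
    obtain ⟨u, hu, v, hv, rfl⟩ := Set.mem_mul.mp this
    exact ⟨u, hu, v, hv, rfl⟩
  · intro hD A' hA' hA'1
    have : m (A ⊓ B) = m A := r2
    show m A' ≤ m (A ⊓ B)
    rw [this]; exact hAmax A' hA' hA'1

end Cfsg.Agent.S3804
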