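import Cfsg.Statements.S3805
import Cfsg.Agent.Lib.Helper6.TvH
import Cfsg.Agent.Lib.Helper5.TvLoc
import Cfsg.Agent.Lib.Helper6.BlkVanish

set_option autoImplicit false
open Cfsg

namespace Cfsg.Agent.S3805

/-- Let G be a finite group whose Sylow 3-subgroup T is elementary abelian of order 9 and self-centralizing, with N_G(T)/T a Klein four-group, and suppose that the centralizer of every nonidentity element of T lies in N_G(T). Then T is normal in G. -/
theorem result {G : Type*} [Group G] [Finite G]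
    (T : Sylow 3 G) (hT : Cfsg.IsElementaryAbelian 3 (T : Subgroup G)) (hcard : Nat.card T = 9)
    (hC : Subgroup.centralizer ((T : Subgroup G) : Set G) = T)
    [hn : ((T : Subgroup G).subgroupOf (Subgroup.normalizer ((T : Subgroup G) : Set G))).Normal]
    (hK : IsKleinFour (↥(Subgroup.normalizer ((T : Subgroup G) : Set G)) ⧸
      (T : Subgroup G).subgroupOf (Subgroup.normalizer ((T : Subgroup G) : Set G))))
    (hloc : ∀ t ∈ (T : Subgroup G), t ≠ 1 →
      Subgroup.centralizer ({t} : Set G) ≤ Subgroup.normalizer ((T : Subgroup G) : Set G)) :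
    Subgroup.normalizer ((T : Subgroup G) : Set G) = ⊤ := by
  classical
  haveI : Fintype G := Fintype.ofFinite G
  haveI : Fintype (Cfsg.IrrCharacter G) := Fintype.ofFinite _
  haveI : Fact (Nat.Prime 3) := ⟨Nat.prime_three⟩
  obtain ⟨M, hM⟩ := Cfsg.Agent.Lib.Helper6.exists_isPModular 3
  obtain ⟨a, b, t₁, t₂, L⟩ := Cfsg.Agent.Lib.Helper5.TvLoc.exists_loc T hT hcard hC hK
  have hcomm : ∀ x ∈ (T : Subgroup G), ∀ y ∈ (T : Subgroup G), x * y = y * x := by
    intro x hx y hy
    have := hT.1.is_comm.comm (⟨x, hx⟩ : (T : Subgroup G)) ⟨y, hy⟩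
    exact congrArg Subtype.val this
  have hG : Nat.card G = 36 :=
    Cfsg.Agent.Lib.Helper6.Tv.card_eq_36 hM hcomm hT.2 hloc hC.le hcard L
  apply Subgroup.eq_top_of_card_eq
  rw [L.hcardN, hG]

end Cfsg.Agent.S3805
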