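import Cfsg.Statements.S3866
import Mathlib
import Cfsg.Agent.Lib.Helper2.Commutator

set_option autoImplicit false
open Cfsg

namespace Cfsg.Agent.S3866

open Cfsg.Agent.Lib.Helper2
open scoped commutatorElement

theorem aux_mul {G : Type*} [Group G] (A : Subgroup G) [A.Normal] (hA : IsMulCommutative A) (x : G)
    (a b : G) (ha : a ∈ A) (hb : b ∈ A) :
    x * (a * b) * x⁻¹ * (a * b)⁻¹ = (x * a * x⁻¹ * a⁻¹) * (x * b * x⁻¹ * b⁻¹) := by
  have hcomm : ∀ u v : G, u ∈ A → v ∈ A → u * v = v * u := by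
    intro u v hu hv
    have := hA.is_comm.comm (⟨u, hu⟩ : A) ⟨v, hv⟩
    exact congrArg Subtype.val this
  have h1 : x * b * x⁻¹ ∈ A := ‹A.Normal›.conj_mem b hb x
  have h2 := hcomm a⁻¹ (x * b * x⁻¹) (A.inv_mem ha) h1
  have h3 := hcomm a⁻¹ b⁻¹ (A.inv_mem ha) (A.inv_mem hb)
  calc x * (a * b) * x⁻¹ * (a * b)⁻¹ = x * a * x⁻¹ * (x * b * x⁻¹) * (b⁻¹ * a⁻¹) := by group
    _ = x * a * x⁻¹ * (x * b * x⁻¹) * (a⁻¹ * b⁻¹) := by rw [h3]
    _ = x * a * x⁻¹ * ((x * b * x⁻¹) * a⁻¹) * b⁻¹ := by group
    _ = x * a * x⁻¹ * (a⁻¹ * (x * b * x⁻¹)) * b⁻¹ := by rw [h2]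
    _ = _ := by group

/-- the commutator map as a homomorphism -/
def phi {G : Type*} [Group G] (A : Subgroup G) [A.Normal] (hA : IsMulCommutative A) (x : G) :
    A →* G where
  toFun a := x * a * x⁻¹ * (a : G)⁻¹
  map_one' := by simp
  map_mul' a b := aux_mul A hA x a b a.2 b.2

/-- Let A be a commutative normal subgroup of the finite group G with G generated by A and an element x. Then a ↦ x a x⁻¹ a⁻¹ is a surjective homomorphism from A onto the commutator subgroup of G whose kernel is the centralizer of x in A; in particular the commutator subgroup has order equal to the index in A of that centralizer. -/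
theorem result {G : Type*} [Group G] [Finite G] (A : Subgroup G) [A.Normal] (hA : IsMulCommutative A) (x : G) (hgen : A ⊔ Subgroup.zpowers x = ⊤) : (∀ a ∈ A, x * a * x⁻¹ * a⁻¹ ∈ commutator G) ∧ (∀ c ∈ commutator G, ∃ a ∈ A, x * a * x⁻¹ * a⁻¹ = c) ∧ (∀ a ∈ A, ∀ b ∈ A, x * (a * b) * x⁻¹ * (a * b)⁻¹ = (x * a * x⁻¹ * a⁻¹) * (x * b * x⁻¹ * b⁻¹)) ∧ Nat.card (commutator G) * Nat.card ↥(A ⊓ Subgroup.centralizer ({x} : Set G)) = Nat.card A := by
  have hcomm : ∀ u v : G, u ∈ A → v ∈ A → u * v = v * u := by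
    intro u v hu hv
    have := hA.is_comm.comm (⟨u, hu⟩ : A) ⟨v, hv⟩
    exact congrArg Subtype.val this
  set φ := phi A hA x with hφ
  have hφa : ∀ a : A, φ a = x * a * x⁻¹ * (a : G)⁻¹ := fun a => rfl
  have hrA : φ.range ≤ A := by
    rintro _ ⟨a, rfl⟩
    rw [hφa]
    exact A.mul_mem (‹A.Normal›.conj_mem a a.2 x) (A.inv_mem a.2)
  -- the range is normal
  haveI hn : φ.range.Normal := by
    rw [← Subgroup.normalizer_eq_top_iff, eq_top_iff, ← hgen, sup_le_iff]
    constructor
    · intro a ha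
      rw [Subgroup.mem_normalizer_iff]
      intro c
      have key : ∀ c : G, c ∈ φ.range → a * c * a⁻¹ = c := by
        intro c hc
        have := hcomm a c ha (hrA hc)
        rw [this]; group
      constructor
      · intro hc
        rw [key c hc]; exact hc
      · intro hc
        have h2 := key _ hc
        have h3 : c = a⁻¹ * (a * c * a⁻¹) * a := by group
        rw [h3, ← h2, h2]
        have h4 := hcomm a⁻¹ (a * c * a⁻¹) (A.inv_mem ha) (hrA hc)
        rw [h4]
        simpa using hc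
    · rw [Subgroup.zpowers_le]
      rw [Subgroup.mem_normalizer_iff]
      intro c
      constructor
      · rintro ⟨a, rfl⟩
        refine ⟨⟨x * a * x⁻¹, ‹A.Normal›.conj_mem a a.2 x⟩, ?_⟩
        rw [hφa, hφa]
        simp only
        group
      · rintro ⟨a, ha⟩
        refine ⟨⟨x⁻¹ * a * x⁻¹⁻¹, ‹A.Normal›.conj_mem a a.2 x⁻¹⟩, ?_⟩
        rw [hφa] at ha ⊢
        simp only
        have : c = x⁻¹ * (x * c * x⁻¹) * x := by group
        rw [this, ← ha]
        group
  have hcomle : commutator G ≤ φ.range := by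
    rw [commutator_def]
    have htop : (⊤ : Subgroup G) = A ⊔ Subgroup.zpowers x := hgen.symm
    have hAA : ⁅A, A⁆ ≤ φ.range := by
      rw [Subgroup.commutator_le]
      intro a ha b hb
      rw [commutatorElement_def, hcomm a b ha hb]
      simp
    have hZA : ⁅Subgroup.zpowers x, A⁆ ≤ φ.range := by
      rw [commutator_le_iff_le_commStab, Subgroup.zpowers_le, mem_commStab]
      intro a ha
      exact ⟨⟨a, ha⟩, rfl⟩
    have hAZ : ⁅A, Subgroup.zpowers x⁆ ≤ φ.range := by
      rw [Subgroup.commutator_comm]; exact hZA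
    have hZZ : ⁅Subgroup.zpowers x, Subgroup.zpowers x⁆ ≤ φ.range := by
      rw [Subgroup.commutator_le]
      intro a ha b hb
      obtain ⟨i, rfl⟩ := ha
      obtain ⟨j, rfl⟩ := hb
      rw [commutatorElement_def]
      have : x ^ i * x ^ j * (x ^ i)⁻¹ * (x ^ j)⁻¹ = 1 := by
        rw [← zpow_add, add_comm, zpow_add]; group
      rw [this]; exact one_mem _
    rw [htop]
    exact commutator_sup_le (commutator_sup_le' hAA hAZ) (commutator_sup_le' hZA hZZ)
  have h1 : ∀ a ∈ A, x * a * x⁻¹ * a⁻¹ ∈ commutator G := by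
    intro a _
    rw [commutator_def]
    exact Subgroup.commutator_mem_commutator (Subgroup.mem_top x) (Subgroup.mem_top a)
  have hrange : φ.range = commutator G := by
    apply le_antisymm
    · rintro _ ⟨a, rfl⟩
      exact h1 a a.2
    · exact hcomle
  refine ⟨h1, ?_, fun a ha b hb => aux_mul A hA x a b ha hb, ?_⟩
  · intro c hc
    rw [← hrange] at hc
    obtain ⟨a, rfl⟩ := hc
    exact ⟨a, a.2, rfl⟩
  · rw [← hrange]
    have hker : Nat.card ↥(A ⊓ Subgroup.centralizer ({x} : Set G)) = Nat.card φ.ker := by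
      have : (A ⊓ Subgroup.centralizer ({x} : Set G)) = φ.ker.map A.subtype := by
        ext g
        simp only [Subgroup.mem_inf, Subgroup.mem_map, MonoidHom.mem_ker, Subgroup.coe_subtype,
          Subgroup.mem_centralizer_iff, Set.mem_singleton_iff, forall_eq]
        constructor
        · rintro ⟨hg, hxg⟩
          refine ⟨⟨g, hg⟩, ?_, rfl⟩
          rw [hφa]
          simp only
          rw [hxg]; group
        · rintro ⟨a, ha, rfl⟩
          refine ⟨a.2, ?_⟩
          rw [hφa] at ha
          have : x * a = (x * a * x⁻¹ * (a:G)⁻¹) * (a * x) := by group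
          rw [this, ha, one_mul]
      rw [this]
      exact Nat.card_congr (Subgroup.equivMapOfInjective _ _ A.subtype_injective).symm.toEquiv
    rw [hker, ← Subgroup.index_ker, mul_comm]
    exact Subgroup.card_mul_index _

end Cfsg.Agent.S3866
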