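import Cfsg.Statements.S3807
import Cfsg.Agent.S3866
import Cfsg.Agent.Lib.Helper2.PGroup
import Cfsg.Agent.Lib.Helper2.Cores

set_option autoImplicit false
open Cfsg

namespace Cfsg.Agent.S3807

open Cfsg.Agent.Lib.Helper2

variable {S : Type*} [Group S]

theorem comm_of_abelian {B : Subgroup S} (hB : IsMulCommutative ↥B) {u v : S} (hu : u ∈ B)
    (hv : v ∈ B) : u * v = v * u :=
  congrArg Subtype.val (hB.is_comm.comm (⟨u, hu⟩ : B) ⟨v, hv⟩)

theorem isMulCommutative_of_center_eq_top (h : Subgroup.center S = ⊤) : IsMulCommutative S :=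
  ⟨⟨fun a b => by
    have hb : b ∈ Subgroup.center S := by rw [h]; trivial
    exact (Subgroup.mem_center_iff.1 hb a)⟩⟩

theorem le_centralizer_of_abelian {B : Subgroup S} (hB : IsMulCommutative ↥B) :
    B ≤ Subgroup.centralizer (B : Set S) := by
  intro b hb
  rw [Subgroup.mem_centralizer_iff]
  intro c hc
  exact comm_of_abelian hB hc hb

/-- The centre lies in every abelian subgroup of prime index of a non-abelian group. -/
theorem center_le_of_abelian_index_prime {p : ℕ} (hp : p.Prime) (hna : ¬ IsMulCommutative S)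
    {B : Subgroup S} (hB : IsMulCommutative ↥B) (hBi : B.index = p) : Subgroup.center S ≤ B := by
  by_contra hZ
  have htop := sup_eq_top_of_index_prime hp hBi hZ
  apply hna
  apply isMulCommutative_of_center_eq_top
  have h1 : B ≤ Subgroup.center S := by
    intro b hb
    have h2 : B ⊔ Subgroup.center S ≤ Subgroup.centralizer ({b} : Set S) := by
      apply sup_le
      · intro c hc
        rw [Subgroup.mem_centralizer_singleton_iff]
        exact comm_of_abelian hB hc hb
      · intro c hc
        rw [Subgroup.mem_centralizer_singleton_iff]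
        exact (Subgroup.mem_center_iff.1 hc b).symm
    rw [htop] at h2
    rw [Subgroup.mem_center_iff]
    intro g
    have := h2 (Subgroup.mem_top g)
    rw [Subgroup.mem_centralizer_singleton_iff] at this
    exact this
  rw [eq_top_iff, ← htop]
  exact sup_le h1 le_rfl

/-- Two distinct abelian subgroups of prime index meet in the centre. -/
theorem inf_le_center_of_abelian_index_prime {p : ℕ} (hp : p.Prime)
    {B₁ B₂ : Subgroup S} (h₁ : IsMulCommutative ↥B₁) (h₂ : IsMulCommutative ↥B₂)
    (i₁ : B₁.index = p) (i₂ : B₂.index = p) (hne : B₁ ≠ B₂) : B₁ ⊓ B₂ ≤ Subgroup.center S := by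
  have hnot : ¬ B₂ ≤ B₁ := by
    intro hle
    have hco := isCoatom_of_index_prime hp i₂
    rcases eq_or_lt_of_le hle with h | h
    · exact hne h.symm
    · have := hco.2 _ h
      rw [this, Subgroup.index_top] at i₁
      exact hp.one_lt.ne' i₁.symm
  have htop := sup_eq_top_of_index_prime hp i₁ hnot
  intro g hg
  have h2 : B₁ ⊔ B₂ ≤ Subgroup.centralizer ({g} : Set S) := by
    apply sup_le
    · intro c hc
      rw [Subgroup.mem_centralizer_singleton_iff]
      exact comm_of_abelian h₁ hc hg.1
    · intro c hc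
      rw [Subgroup.mem_centralizer_singleton_iff]
      exact comm_of_abelian h₂ hc hg.2
  rw [htop] at h2
  rw [Subgroup.mem_center_iff]
  intro c
  have := h2 (Subgroup.mem_top c)
  rw [Subgroup.mem_centralizer_singleton_iff] at this
  exact this

/-- `|S'| · |Z(S)| = |A|` for an abelian subgroup `A` of prime index in a non-abelian `p`-group. -/
theorem card_commutator_mul_card_center [Finite S] {p : ℕ} [Fact p.Prime] (hS : IsPGroup p S)
    (hna : ¬ IsMulCommutative S) {A : Subgroup S} (hA : IsMulCommutative ↥A) (hAi : A.index = p) :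
    Nat.card (commutator S) * Nat.card (Subgroup.center S) = Nat.card A := by
  have hp : p.Prime := Fact.out
  have hAn : A.Normal := normal_of_index_eq_prime hS A hAi
  have hAtop : A ≠ ⊤ := by
    intro h
    rw [h, Subgroup.index_top] at hAi
    exact hp.one_lt.ne' hAi.symm
  obtain ⟨x, hx⟩ : ∃ x : S, x ∉ A := by
    by_contra hall
    push Not at hall
    exact hAtop (eq_top_iff.2 fun x _ => hall x)
  have hgen : A ⊔ Subgroup.zpowers x = ⊤ := by
    apply sup_eq_top_of_index_prime hp hAi
    intro hle
    exact hx (hle (Subgroup.mem_zpowers x))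
  obtain ⟨-, -, -, hcard⟩ := Cfsg.Agent.S3866.result A hA x hgen
  have hZ : A ⊓ Subgroup.centralizer ({x} : Set S) = Subgroup.center S := by
    apply le_antisymm
    · intro a ha
      have h2 : A ⊔ Subgroup.zpowers x ≤ Subgroup.centralizer ({a} : Set S) := by
        apply sup_le
        · intro c hc
          rw [Subgroup.mem_centralizer_singleton_iff]
          exact comm_of_abelian hA hc ha.1
        · rw [Subgroup.zpowers_le, Subgroup.mem_centralizer_singleton_iff]
          have : a ∈ Subgroup.centralizer ({x} : Set S) := ha.2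
          rw [Subgroup.mem_centralizer_singleton_iff] at this
          exact this.symm
      rw [hgen] at h2
      rw [Subgroup.mem_center_iff]
      intro c
      have := h2 (Subgroup.mem_top c)
      rw [Subgroup.mem_centralizer_singleton_iff] at this
      exact this
    · apply le_inf (center_le_of_abelian_index_prime hp hna hA hAi)
      intro z hz
      rw [Subgroup.mem_centralizer_singleton_iff]
      exact (Subgroup.mem_center_iff.1 hz x).symm
  rw [hZ] at hcard
  exact hcard



theorem card_diff_add [Finite S] {Z B : Subgroup S} (h : Z ≤ B) :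
    Nat.card {g : S // g ∈ B ∧ g ∉ Z} + Nat.card Z = Nat.card B := by
  have h1 : Nat.card {g : S // g ∈ B ∧ g ∉ Z} = ((B : Set S) \ (Z : Set S)).ncard := by
    rw [← Nat.card_coe_set_eq]; rfl
  have h2 : Nat.card Z = (Z : Set S).ncard := by
    rw [← Nat.card_coe_set_eq]; rfl
  have h3 : Nat.card B = (B : Set S).ncard := by
    rw [← Nat.card_coe_set_eq]; rfl
  rw [h1, h2, h3]
  exact Set.ncard_sdiff_add_ncard_of_subset (by exact_mod_cast h) (Set.toFinite _)

/-- `Z(S)⟨g⟩` is abelian. -/
theorem center_sup_zpowers_abelian (g : S) :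
    IsMulCommutative ↥(Subgroup.center S ⊔ Subgroup.zpowers g) := by
  have h1 : Subgroup.center S ⊔ Subgroup.zpowers g ≤ Subgroup.centralizer ({g} : Set S) := by
    apply sup_le
    · intro c hc
      rw [Subgroup.mem_centralizer_singleton_iff]
      exact (Subgroup.mem_center_iff.1 hc g).symm
    · rw [Subgroup.zpowers_le, Subgroup.mem_centralizer_singleton_iff]
  refine ⟨⟨fun u v => Subtype.ext ?_⟩⟩
  show (u : S) * v = v * u
  have hv := h1 v.2
  rw [Subgroup.mem_centralizer_singleton_iff] at hv
  have h2 : Subgroup.center S ⊔ Subgroup.zpowers g ≤ Subgroup.centralizer ({(v : S)} : Set S) := by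
    apply sup_le
    · intro c hc
      rw [Subgroup.mem_centralizer_singleton_iff]
      exact (Subgroup.mem_center_iff.1 hc v).symm
    · rw [Subgroup.zpowers_le, Subgroup.mem_centralizer_singleton_iff]
      exact hv.symm
  have hu := h2 u.2
  rw [Subgroup.mem_centralizer_singleton_iff] at hu
  exact hu

theorem center_sup_zpowers_index [Finite S] {p : ℕ} (hp : p.Prime) (hna : ¬ IsMulCommutative S)
    (hZ : (Subgroup.center S).index = p ^ 2) {g : S} (hg : g ∉ Subgroup.center S) :
    (Subgroup.center S ⊔ Subgroup.zpowers g).index = p := by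
  set K := Subgroup.center S ⊔ Subgroup.zpowers g with hK
  have hZK : Subgroup.center S ≤ K := le_sup_left
  have hgK : g ∈ K := (le_sup_right : Subgroup.zpowers g ≤ K) (Subgroup.mem_zpowers g)
  have h1 : K.index ∣ p ^ 2 := hZ ▸ Subgroup.index_dvd_of_le hZK
  obtain ⟨m, hm, hm2⟩ := (Nat.dvd_prime_pow hp).1 h1
  have h2 := Subgroup.relIndex_mul_index hZK
  interval_cases m
  · exfalso
    rw [pow_zero, Subgroup.index_eq_one] at hm2
    apply hna
    have := center_sup_zpowers_abelian g
    rw [← hK, hm2] at this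
    exact ⟨⟨fun a b => congrArg Subtype.val
      (this.is_comm.comm (⟨a, Subgroup.mem_top a⟩ : (⊤ : Subgroup S)) ⟨b, Subgroup.mem_top b⟩)⟩⟩
  · rw [hm2, pow_one]
  · exfalso
    rw [hm2, hZ] at h2
    have h3 : (Subgroup.center S).relIndex K = 1 := by
      have : (Subgroup.center S).relIndex K * p ^ 2 = 1 * p ^ 2 := by rw [h2, one_mul]
      exact Nat.eq_of_mul_eq_mul_right (pow_pos hp.pos 2) this
    rw [Subgroup.relIndex_eq_one] at h3
    exact hg (h3 hgK)

/-- The count of abelian subgroups of index `p` when `[S : Z(S)] = p²`. -/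
theorem card_abelian_index_p [Finite S] {p : ℕ} (hp : p.Prime) (hna : ¬ IsMulCommutative S)
    (hZ : (Subgroup.center S).index = p ^ 2) :
    Nat.card {B : Subgroup S // IsMulCommutative ↥B ∧ B.index = p} = p + 1 := by
  classical
  set Z := Subgroup.center S with hZdef
  let I := {B : Subgroup S // IsMulCommutative ↥B ∧ B.index = p}
  let _ : Fintype I := Fintype.ofFinite I
  let f : (Σ B : I, {g : S // g ∈ B.1 ∧ g ∉ Z}) → {g : S // g ∈ (⊤ : Subgroup S) ∧ g ∉ Z} :=
    fun x => ⟨x.2.1, Subgroup.mem_top _, x.2.2.2⟩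
  have hf : Function.Bijective f := by
    constructor
    · rintro ⟨B₁, g₁, hg₁⟩ ⟨B₂, g₂, hg₂⟩ h
      have h' : g₁ = g₂ := congrArg Subtype.val h
      subst h'
      have hB : B₁ = B₂ := by
        by_contra hne
        have hne' : B₁.1 ≠ B₂.1 := fun h => hne (Subtype.ext h)
        have := inf_le_center_of_abelian_index_prime hp B₁.2.1 B₂.2.1 B₁.2.2 B₂.2.2 hne'
        exact hg₁.2 (this ⟨hg₁.1, hg₂.1⟩)
      subst hB
      rfl
    · rintro ⟨g, -, hg⟩
      refine ⟨⟨⟨Z ⊔ Subgroup.zpowers g, center_sup_zpowers_abelian g,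
        center_sup_zpowers_index hp hna hZ hg⟩, ⟨g, ?_, hg⟩⟩, rfl⟩
      exact (le_sup_right : Subgroup.zpowers g ≤ Z ⊔ Subgroup.zpowers g) (Subgroup.mem_zpowers g)
  have hcard := Nat.card_congr (Equiv.ofBijective f hf)
  rw [Nat.card_sigma] at hcard
  have hz : 0 < Nat.card Z := Nat.card_pos
  have hS : Nat.card Z * p ^ 2 = Nat.card S := by rw [← hZ]; exact Subgroup.card_mul_index Z
  have hterm : ∀ B : I, Nat.card {g : S // g ∈ B.1 ∧ g ∉ Z} + Nat.card Z = Nat.card Z * p := by
    intro B
    have hZB : Z ≤ B.1 := center_le_of_abelian_index_prime hp hna B.2.1 B.2.2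
    rw [card_diff_add hZB]
    have h1 := Subgroup.card_mul_index B.1
    rw [B.2.2, ← hS] at h1
    have : Nat.card B.1 * p = (Nat.card Z * p) * p := by rw [h1]; ring
    exact Nat.eq_of_mul_eq_mul_right hp.pos this
  have htop : Nat.card {g : S // g ∈ (⊤ : Subgroup S) ∧ g ∉ Z} + Nat.card Z = Nat.card Z * p ^ 2 := by
    rw [card_diff_add le_top, hS, Subgroup.card_top]
  have hsum : ∑ B : I, Nat.card {g : S // g ∈ B.1 ∧ g ∉ Z} = Nat.card I * (Nat.card Z * p - Nat.card Z) := by
    rw [Finset.sum_congr rfl (fun B _ => (Nat.eq_sub_of_add_eq (hterm B)))]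
    rw [Finset.sum_const, Finset.card_univ, smul_eq_mul, ← Nat.card_eq_fintype_card]
  rw [hsum] at hcard
  obtain ⟨q, rfl⟩ : ∃ q, p = q + 1 := ⟨p - 1, by have := hp.pos; omega⟩
  have hq : 0 < q := by have := hp.one_lt; omega
  have e1 : Nat.card Z * (q + 1) - Nat.card Z = Nat.card Z * q := by
    rw [mul_add, mul_one, Nat.add_sub_cancel]
  rw [e1] at hcard
  have e2 : Nat.card I * (Nat.card Z * q) + Nat.card Z = Nat.card Z * (q + 1) ^ 2 := by
    rw [hcard]; exact htop
  have e3 : Nat.card I * (Nat.card Z * q) = (q + 2) * (Nat.card Z * q) := by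
    have : Nat.card Z * (q + 1) ^ 2 = (q + 2) * (Nat.card Z * q) + Nat.card Z := by ring
    omega
  exact Nat.eq_of_mul_eq_mul_right (Nat.mul_pos hz hq) e3

/-- Let S be a non-abelian finite p-group with an abelian subgroup A of index p. Then [S : Z(S)] = p·#[S,S], and either [S,S] has order p, S/Z(S) is elementary abelian of order p², and S has exactly p + 1 abelian subgroups of index p; or [S,S] has order at least p² and A is the only abelian subgroup of index p in S. -/
theorem result {S : Type*} [Group S] [Finite S] (p : ℕ) [Fact p.Prime] (hS : IsPGroup p S) (hna : ¬ IsMulCommutative S)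
    (A : Subgroup S) (hA : IsMulCommutative ↥A) (hAi : A.index = p) :
    (Subgroup.center S).index = p * Nat.card (commutator S) ∧
      ((Nat.card (commutator S) = p ∧ Cfsg.IsElementaryAbelian p (⊤ : Subgroup (S ⧸ Subgroup.center S)) ∧
          Nat.card (S ⧸ Subgroup.center S) = p ^ 2 ∧
          Nat.card {B : Subgroup S // IsMulCommutative ↥B ∧ B.index = p} = p + 1) ∨
        (p ^ 2 ≤ Nat.card (commutator S) ∧ ∀ B : Subgroup S, IsMulCommutative ↥B → B.index = p → B = A)) := by
  have hp : p.Prime := Fact.out
  have hcz := card_commutator_mul_card_center hS hna hA hAi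
  have hzpos : 0 < Nat.card (Subgroup.center S) := Nat.card_pos
  have hidx : (Subgroup.center S).index = p * Nat.card (commutator S) := by
    have h1 := Subgroup.card_mul_index (Subgroup.center S)
    have h2 := Subgroup.card_mul_index A
    rw [hAi, ← hcz] at h2
    rw [← h2] at h1
    have : Nat.card (Subgroup.center S) * (Subgroup.center S).index
        = Nat.card (Subgroup.center S) * (p * Nat.card (commutator S)) := by rw [h1]; ring
    exact Nat.eq_of_mul_eq_mul_left hzpos this
  refine ⟨hidx, ?_⟩
  obtain ⟨k, hk⟩ := IsPGroup.iff_card.1 (hS.to_subgroup (commutator S))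
  have hk0 : k ≠ 0 := by
    rintro rfl
    rw [pow_zero, Subgroup.card_eq_one, commutator_eq_bot_iff_center_eq_top] at hk
    exact hna (isMulCommutative_of_center_eq_top hk)
  rcases Nat.lt_or_ge k 2 with hk2 | hk2
  · left
    have hk1 : k = 1 := by omega
    subst hk1
    rw [pow_one] at hk
    have hidx2 : (Subgroup.center S).index = p ^ 2 := by rw [hidx, hk, pow_two]
    have hQ : Nat.card (S ⧸ Subgroup.center S) = p ^ 2 := by
      rw [← Subgroup.index_eq_card]; exact hidx2
    refine ⟨hk, ⟨?_, ?_⟩, hQ, card_abelian_index_p hp hna hidx2⟩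
    · have hc := IsPGroup.isMulCommutative_of_card_eq_prime_sq hQ
      exact ⟨⟨fun a b => Subtype.ext (hc.is_comm.comm (a : S ⧸ Subgroup.center S) b)⟩⟩
    · intro a _
      by_contra hne
      have h1 : orderOf a ∣ p ^ 2 := hQ ▸ orderOf_dvd_natCard a
      obtain ⟨m, hm, hm2⟩ := (Nat.dvd_prime_pow hp).1 h1
      have hm3 : m = 2 := by
        by_contra hm3
        have : m ≤ 1 := by omega
        apply hne
        apply orderOf_dvd_iff_pow_eq_one.1
        rw [hm2]
        exact (pow_dvd_pow p this).trans (by rw [pow_one])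
      subst hm3
      have : IsCyclic (S ⧸ Subgroup.center S) := isCyclic_of_orderOf_eq_card a (hm2.trans hQ.symm)
      exact hna (isMulCommutative_of_isCyclic_quotient_center_self S)
  · right
    have hpk : p ^ 2 ≤ Nat.card (commutator S) := by
      rw [hk]; exact Nat.pow_le_pow_right hp.pos hk2
    refine ⟨hpk, ?_⟩
    intro B hB hBi
    by_contra hne
    have hAn : A.Normal := normal_of_index_eq_prime hS A hAi
    have hnot : ¬ B ≤ A := by
      intro hle
      have hco := isCoatom_of_index_prime hp hBi
      rcases eq_or_lt_of_le hle with h | h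
      · exact hne h
      · have := hco.2 _ h
        rw [this, Subgroup.index_top] at hAi
        exact hp.one_lt.ne' hAi.symm
    have htop : A ⊔ B = ⊤ := sup_eq_top_of_index_prime hp hAi hnot
    have h1 := card_sup_mul_card_inf B A
    rw [sup_comm, htop, Subgroup.card_top] at h1
    have h2 := Subgroup.card_mul_index B
    rw [hBi] at h2
    rw [← h2] at h1
    have h3 : p * Nat.card (B ⊓ A : Subgroup S) = Nat.card A := by
      have : Nat.card B * (p * Nat.card (B ⊓ A : Subgroup S)) = Nat.card B * Nat.card A := by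
        rw [← h1]; ring
      exact Nat.eq_of_mul_eq_mul_left Nat.card_pos this
    have h4 : Nat.card (B ⊓ A : Subgroup S) ≤ Nat.card (Subgroup.center S) :=
      Subgroup.card_le_of_le (inf_le_center_of_abelian_index_prime hp hB hA hBi hAi hne)
    have h5 : p ^ 2 * Nat.card (Subgroup.center S) ≤ Nat.card A := by
      rw [← hcz]; exact Nat.mul_le_mul_right _ hpk
    have h6 : 0 < Nat.card (B ⊓ A : Subgroup S) := Nat.card_pos
    have h7 : p ^ 2 * Nat.card (B ⊓ A : Subgroup S) ≤ p * Nat.card (B ⊓ A : Subgroup S) := by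
      rw [h3]; exact (Nat.mul_le_mul_left _ h4).trans h5
    have h8 : p ^ 2 ≤ p := Nat.le_of_mul_le_mul_right h7 h6
    have := hp.one_lt
    nlinarith

end Cfsg.Agent.S3807
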