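import Cfsg.Statements.S3808
import Cfsg.Agent.Lib.Helper2.PGroup
import Cfsg.Agent.S3741

set_option autoImplicit false
open Cfsg

namespace Cfsg.Agent.S3808

open Cfsg.Agent.Lib.Helper2

/-- the centre of a normal subgroup with centre of order `p` is central and equals `Z(S) ∩ Q` -/
theorem center_inf {S : Type*} [Group S] [Finite S] (p : ℕ) [Fact p.Prime] (hS : IsPGroup p S)
    (Q : Subgroup S) [Q.Normal] (hZ : Nat.card (Subgroup.center ↥Q) = p) :
    Subgroup.center S ⊓ Q = (Subgroup.center ↥Q).map Q.subtype := by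
  set ZQ := (Subgroup.center ↥Q).map Q.subtype with hZQ
  have hZQn : ZQ.Normal := ConjAct.normal_of_characteristic_of_normal
  have hcard : Nat.card ZQ = p := by
    rw [← hZ]
    exact Nat.card_congr (Subgroup.equivMapOfInjective _ _ Q.subtype_injective).symm.toEquiv
  have hcentral := Cfsg.Agent.S3741.central_of_card_prime hS ZQ ⊤ hcard
    (by rw [Subgroup.normalizer_eq_top_iff.2 hZQn])
  apply le_antisymm
  · rintro z ⟨hz, hzQ⟩
    refine ⟨⟨z, hzQ⟩, ?_, rfl⟩
    show (⟨z, hzQ⟩ : Q) ∈ Subgroup.center ↥Q
    have hz : z ∈ Subgroup.center S := hz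
    rw [Subgroup.mem_center_iff]
    intro q
    apply Subtype.ext
    exact (Subgroup.mem_center_iff.1 hz q)
  · intro z hz
    refine ⟨?_, Subgroup.map_subtype_le _ hz⟩
    show z ∈ Subgroup.center S
    rw [Subgroup.mem_center_iff]
    intro s
    exact hcentral s (Subgroup.mem_top s) z hz

/-- Let S be a finite p-group with an extraspecial subgroup Q of index p. Then either Z(S) = Z(Q), or S = Q·Z(S) and Z(S) has order p². -/
theorem result {S : Type*} [Group S] [Finite S] (p : ℕ) [Fact p.Prime] (hS : IsPGroup p S) (Q : Subgroup S) (hQ : Cfsg.IsExtraspecial p ↥Q) (hQi : Q.index = p) :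
    Subgroup.center S = (Subgroup.center ↥Q).map Q.subtype ∨
      (Q ⊔ Subgroup.center S = ⊤ ∧ Nat.card (Subgroup.center S) = p ^ 2) := by
  have hp : p.Prime := Fact.out
  haveI hQn : Q.Normal := normal_of_index_eq_prime hS Q hQi
  have hinf := center_inf p hS Q hQ.2
  by_cases hle : Subgroup.center S ≤ Q
  · left
    rw [← hinf, inf_eq_left.2 hle]
  · right
    have htop := sup_eq_top_of_index_prime hp hQi hle
    refine ⟨htop, ?_⟩
    have h1 : Q.relIndex (Q ⊔ Subgroup.center S) = Q.relIndex (Subgroup.center S) :=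
      Subgroup.relIndex_sup_left _ _
    rw [htop, Subgroup.relIndex_top_right, hQi, ← Subgroup.inf_relIndex_right] at h1
    have h2 := card_mul_relIndex (inf_le_right : Q ⊓ Subgroup.center S ≤ Subgroup.center S)
    rw [← h1, inf_comm, hinf] at h2
    have hcard : Nat.card ((Subgroup.center ↥Q).map Q.subtype) = p := by
      rw [← hQ.2]
      exact Nat.card_congr (Subgroup.equivMapOfInjective _ _ Q.subtype_injective).symm.toEquiv
    rw [hcard] at h2
    rw [← h2, pow_two]

end Cfsg.Agent.S3808
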