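import Cfsg.Statements.S3809
import Cfsg.Agent.Lib.Helper2.PGroup
import Cfsg.Agent.Lib.Helper2.ExtraspecialCard
import Cfsg.Agent.Lib.Helper1.FrattiniP

set_option autoImplicit false
open Cfsg

namespace Cfsg.Agent.S3809

open Cfsg.Agent.Lib.Helper2

/-- Let S be a finite p-group with an extraspecial subgroup of index p. Then S has order p^(2+2n) for some n ≥ 1, derived length at most 3, and exponent dividing p³. -/
theorem result {S : Type*} [Group S] [Finite S] (p : ℕ) [Fact p.Prime] (hS : IsPGroup p S) (Q : Subgroup S) (hQ : Cfsg.IsExtraspecial p ↥Q) (hQi : Q.index = p) :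
    (∃ n : ℕ, 1 ≤ n ∧ Nat.card S = p ^ (2 + 2 * n)) ∧ derivedSeries S 3 = ⊥ ∧ ∀ x : S, x ^ (p ^ 3) = 1 := by
  have hp : p.Prime := Fact.out
  haveI hQn : Q.Normal := normal_of_index_eq_prime hS Q hQi
  obtain ⟨n, hn, hcard⟩ := card_extraspecial hQ
  set ZQ : Subgroup S := (Subgroup.center ↥Q).map Q.subtype with hZQ
  have hZQcomm : ZQ ≤ Subgroup.centralizer (ZQ : Set S) := by
    rintro _ ⟨z, hz, rfl⟩
    rw [Subgroup.mem_centralizer_iff]
    rintro _ ⟨w, hw, rfl⟩
    have := Subgroup.mem_center_iff.mp hz w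
    exact congrArg Subtype.val this
  have hZQpow : ∀ z ∈ ZQ, z ^ p = 1 := by
    rintro _ ⟨z, hz, rfl⟩
    have h1 : (⟨z, hz⟩ : Subgroup.center ↥Q) ^ p = 1 := by
      rw [← hQ.2]; exact pow_card_eq_one'
    have h2 := congrArg (fun t : Subgroup.center ↥Q => ((t : ↥Q) : S)) h1
    simpa using h2
  have hQpow : ∀ y ∈ Q, y ^ p ∈ ZQ := by
    intro y hy
    have h1 := Cfsg.Agent.Lib.Helper1.pow_prime_mem_frattini_of_isPGroup p hQ.1.1 (⟨y, hy⟩ : Q)
    rw [hQ.1.2.1] at h1
    exact ⟨_, h1, by simp⟩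
  have hSpow : ∀ x : S, x ^ p ∈ Q := by
    intro x
    rw [← QuotientGroup.eq_one_iff, QuotientGroup.mk_pow]
    have h1 : Nat.card (S ⧸ Q) = p := hQi
    rw [← h1]
    exact pow_card_eq_one'
  refine ⟨⟨n, hn, ?_⟩, ?_, ?_⟩
  · rw [← Q.card_mul_index, hcard, hQi]
    ring
  · have hcyc : IsMulCommutative (S ⧸ Q) := by
      haveI : Fact (Nat.card (S ⧸ Q)).Prime := ⟨by rw [show Nat.card (S ⧸ Q) = p from hQi]; exact hp⟩
      haveI : IsCyclic (S ⧸ Q) := isCyclic_of_prime_card (p := p) hQi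
      exact IsCyclic.isMulCommutative
    have h1 : derivedSeries S 1 ≤ Q := by
      rw [derivedSeries_succ, derivedSeries_zero, ← commutator_def]
      exact Subgroup.Normal.quotient_commutative_iff_commutator_le.mp hcyc
    have h2 : derivedSeries S 2 ≤ ZQ := by
      rw [derivedSeries_succ]
      refine (Subgroup.commutator_mono h1 h1).trans ?_
      rw [← Subgroup.map_subtype_commutator, hZQ, hQ.1.2.2]
    rw [derivedSeries_succ, eq_bot_iff]
    refine (Subgroup.commutator_mono h2 h2).trans ?_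
    rw [le_bot_iff, Subgroup.commutator_eq_bot_iff_le_centralizer]
    exact hZQcomm
  · intro x
    have h1 := hZQpow _ (hQpow _ (hSpow x))
    rw [← h1, ← pow_mul, ← pow_mul]
    congr 1
    ring

end Cfsg.Agent.S3809
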