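import Cfsg.Statements.S3810
import Cfsg.Agent.Lib.Helper2.PGroup
import Cfsg.Agent.Lib.Helper2.PGroupNormal
import Cfsg.Agent.Lib.Helper2.ExtraspecialCard
import Cfsg.Agent.Lib.Helper9.Extraspecial1

set_option autoImplicit false
open Cfsg

namespace Cfsg.Agent.S3810

open Cfsg.Agent.Lib.Helper2 Cfsg.Agent.Lib.Helper9

/-- an extraspecial group with an abelian subgroup of index `p` has order at most `p³` -/
theorem card_le_of_abelian_index {E : Type*} [Group E] [Finite E] {p : ℕ} [Fact p.Prime]
    (hE : Cfsg.IsExtraspecial p E) (D : Subgroup E) (hD : IsMulCommutative ↥D)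
    (hDi : D.index = p) : Nat.card E ≤ p ^ 3 := by
  have hp : p.Prime := Fact.out
  have hDtop : D ≠ ⊤ := by
    intro h
    rw [h, Subgroup.index_top] at hDi
    exact hp.one_lt.ne hDi
  obtain ⟨g, -, hg⟩ := SetLike.exists_of_lt (lt_top_iff_ne_top.mpr hDtop)
  have hsup : D ⊔ Subgroup.zpowers g = ⊤ :=
    sup_eq_top_of_index_prime hp hDi (by rw [Subgroup.zpowers_le]; exact hg)
  have hcomm := hE.1.2.2
  set φ : ↥D →* Subgroup.center E := (commDefectHom hcomm g).comp D.subtype with hφ
  -- the kernel embeds in the centre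
  have hker : ∀ d : ↥D, d ∈ φ.ker → (d : E) ∈ Subgroup.center E := by
    intro d hd
    have h1 : g * (d : E) * g⁻¹ * (d : E)⁻¹ = 1 := by
      have := congrArg (fun t : Subgroup.center E => (t : E)) (MonoidHom.mem_ker.mp hd)
      simpa [hφ, commDefectHom_apply] using this
    have h2 : g * (d : E) = (d : E) * g := by
      have := congrArg (fun t => t * (d : E) * g) h1
      simpa [mul_assoc] using this
    have h3 : (⊤ : Subgroup E) ≤ Subgroup.centralizer {(d : E)} := by
      rw [← hsup, sup_le_iff]
      constructor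
      · intro x hx
        rw [Subgroup.mem_centralizer_singleton_iff]
        have := hD.is_comm.comm (⟨x, hx⟩ : ↥D) d
        exact congrArg Subtype.val this
      · rw [Subgroup.zpowers_le, Subgroup.mem_centralizer_singleton_iff]
        exact h2
    rw [Subgroup.mem_center_iff]
    intro x
    have := h3 (Subgroup.mem_top x)
    rw [Subgroup.mem_centralizer_singleton_iff] at this
    exact this
  have hkercard : Nat.card φ.ker ≤ p := by
    rw [← hE.2]
    let ι : φ.ker → Subgroup.center E := fun d => ⟨((d : ↥D) : E), hker d.1 d.2⟩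
    apply Nat.card_le_card_of_injective ι
    intro a b hab
    apply Subtype.ext
    apply Subtype.ext
    exact congrArg (fun t : Subgroup.center E => (t : E)) hab
  have hrange : Nat.card φ.range ≤ p := by
    rw [← hE.2]
    exact Nat.card_le_card_of_injective _ (Subgroup.subtype_injective φ.range)
  have hDcard : Nat.card D ≤ p * p := by
    rw [← φ.ker.card_mul_index, Subgroup.index_ker]
    exact Nat.mul_le_mul hkercard hrange
  rw [← D.card_mul_index, hDi]
  calc Nat.card D * p ≤ p * p * p := Nat.mul_le_mul_right p hDcard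
    _ = p ^ 3 := by ring

/-- a subgroup containing a central (in it) subgroup of prime index is abelian -/
theorem isMulCommutative_of_central_index_prime {S : Type*} [Group S] [Finite S] {p : ℕ}
    [Fact p.Prime] (E A : Subgroup S) (hEA : E ≤ A) (hAE : A ≤ Subgroup.centralizer (E : Set S))
    (hcard : Nat.card A = p * Nat.card E) : IsMulCommutative ↥A := by
  have hp : p.Prime := Fact.out
  set N : Subgroup A := E.subgroupOf A with hN
  have hNc : N ≤ Subgroup.center A := by
    intro x hx
    rw [Subgroup.mem_center_iff]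
    intro y
    apply Subtype.ext
    have := (Subgroup.mem_centralizer_iff.mp (hAE y.2)) (x : S) (Subgroup.mem_subgroupOf.mp hx)
    exact this.symm
  haveI hNn : N.Normal := by
    constructor
    intro n hn g
    have := Subgroup.mem_center_iff.mp (hNc hn) g
    rw [this, mul_inv_cancel_right]
    exact hn
  have hNcard : Nat.card N = Nat.card E :=
    Nat.card_congr (Subgroup.subgroupOfEquivOfLe hEA).toEquiv
  have hq : Nat.card (A ⧸ N) = p := by
    have h1 := N.card_mul_index
    rw [hNcard, hcard, mul_comm] at h1
    exact Nat.eq_of_mul_eq_mul_right Nat.card_pos h1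
  haveI : IsCyclic (A ⧸ N) := isCyclic_of_prime_card hq
  exact MonoidHom.isMulCommutative_of_isCyclic_of_ker_le_center (QuotientGroup.mk' N)
    (by rw [QuotientGroup.ker_mk']; exact hNc)

/-- Let S be a finite p-group with an extraspecial subgroup of index p. Then S has an abelian subgroup of index p if and only if S has order p⁴. -/
theorem result {S : Type*} [Group S] [Finite S] (p : ℕ) [Fact p.Prime] (hS : IsPGroup p S) (Q : Subgroup S) (hQ : Cfsg.IsExtraspecial p ↥Q) (hQi : Q.index = p) :
    (∃ A : Subgroup S, IsMulCommutative ↥A ∧ A.index = p) ↔ Nat.card S = p ^ 4 := by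
  have hp : p.Prime := Fact.out
  haveI hQn : Q.Normal := normal_of_index_eq_prime hS Q hQi
  obtain ⟨n, hn, hcard⟩ := card_extraspecial hQ
  have hScard : Nat.card S = p ^ (2 * n + 1) * p := by rw [← Q.card_mul_index, hcard, hQi]
  constructor
  · rintro ⟨A, hA, hAi⟩
    haveI hAn : A.Normal := normal_of_index_eq_prime hS A hAi
    have hQnc : ¬ IsMulCommutative ↥Q := by
      intro hc
      have h1 : commutator ↥Q = ⊥ := by
        rw [commutator_def, Subgroup.commutator_eq_bot_iff_le_centralizer]
        intro x _
        rw [Subgroup.mem_centralizer_iff]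
        intro y _
        exact (hc.is_comm.comm y x)
      have h2 := hQ.2
      rw [← hQ.1.2.2, h1, Subgroup.card_bot] at h2
      exact hp.one_lt.ne h2
    set D : Subgroup ↥Q := A.subgroupOf Q with hD
    have hDcomm : IsMulCommutative ↥D := by
      refine ⟨⟨fun a b => ?_⟩⟩
      apply Subtype.ext
      apply Subtype.ext
      have ha : ((a : ↥Q) : S) ∈ A := Subgroup.mem_subgroupOf.mp a.2
      have hb : ((b : ↥Q) : S) ∈ A := Subgroup.mem_subgroupOf.mp b.2
      have := hA.is_comm.comm (⟨_, ha⟩ : ↥A) ⟨_, hb⟩
      exact congrArg (fun t : ↥A => (t : S)) this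
    have hDi : D.index = p := by
      have h1 : A.relIndex Q ∣ p := hAi ▸ Subgroup.relIndex_dvd_index_of_normal A Q
      rcases (Nat.dvd_prime hp).1 h1 with h2 | h2
      · exfalso
        apply hQnc
        have hQA : Q ≤ A := Subgroup.relIndex_eq_one.mp h2
        refine ⟨⟨fun a b => ?_⟩⟩
        apply Subtype.ext
        have := hA.is_comm.comm (⟨_, hQA a.2⟩ : ↥A) ⟨_, hQA b.2⟩
        exact congrArg (fun t : ↥A => (t : S)) this
      · exact h2
    have hle := card_le_of_abelian_index hQ D hDcomm hDi
    rw [hcard] at hle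
    have hn1 : 2 * n + 1 ≤ 3 := (Nat.pow_le_pow_iff_right hp.one_lt).mp hle
    have : n = 1 := by omega
    rw [hScard, this]
    ring
  · intro h4
    obtain ⟨E, -, hEn, hEcard⟩ := exists_normal_le_card_eq_pow hS (⊤ : Subgroup S) (k := 2)
      (by rw [Subgroup.card_top, h4]; exact pow_dvd_pow p (by norm_num))
    haveI := hEn
    have hEab : E ≤ Subgroup.centralizer (E : Set S) := by
      haveI : IsMulCommutative ↥E := IsPGroup.isMulCommutative_of_card_eq_prime_sq hEcard
      intro x hx
      rw [Subgroup.mem_centralizer_iff]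
      intro y hy
      have := (inferInstance : IsMulCommutative ↥E).is_comm.comm (⟨y, hy⟩ : ↥E) ⟨x, hx⟩
      exact congrArg (fun t : ↥E => (t : S)) this
    have hC := index_centralizer_dvd_prime hS E hEcard
    obtain ⟨A, hAcard, hEA, hAC⟩ : ∃ A : Subgroup S, Nat.card A = p ^ 3 ∧ E ≤ A ∧
        A ≤ Subgroup.centralizer (E : Set S) := by
      rcases (Nat.dvd_prime hp).1 hC with h1 | h1
      · rw [Subgroup.index_eq_one] at h1
        obtain ⟨K, hK, hEK⟩ := Sylow.exists_subgroup_card_pow_succ (p := p) (n := 2)
          (by rw [h4]; exact pow_dvd_pow p (by norm_num)) hEcard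
        exact ⟨K, hK, hEK, by rw [h1]; exact le_top⟩
      · refine ⟨Subgroup.centralizer (E : Set S), ?_, hEab, le_rfl⟩
        have h2 := (Subgroup.centralizer (E : Set S)).card_mul_index
        rw [h1, h4] at h2
        have : p ^ 4 = p ^ 3 * p := by ring
        rw [this] at h2
        exact Nat.eq_of_mul_eq_mul_right hp.pos h2
    refine ⟨A, isMulCommutative_of_central_index_prime (p := p) E A hEA hAC
      (by rw [hAcard, hEcard]; ring), ?_⟩
    have h2 := A.card_mul_index
    rw [hAcard, h4] at h2
    have : p ^ 4 = p ^ 3 * p := by ring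
    rw [this] at h2
    exact (Nat.eq_of_mul_eq_mul_left (pow_pos hp.pos 3) h2)

end Cfsg.Agent.S3810
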