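import Cfsg.Statements.S3815
import Cfsg.Agent.Lib.Helper2.Cores

set_option autoImplicit false
open Cfsg

namespace Cfsg.Agent.S3815

/-- Let G be a finite group, p a prime and d ∈ G an element of order prime to p. If dg has order prime to p for every element g ∈ G of order prime to p, then d ∈ O_{p'}(G). -/
theorem result {G : Type*} [Group G] [Finite G] {p : ℕ} [Fact p.Prime]
    (d : G) (hd : (orderOf d).Coprime p)
    (h : ∀ g : G, (orderOf g).Coprime p → (orderOf (d * g)).Coprime p) :
    d ∈ Cfsg.pPrimeCore p G := by
  classical
  have hp : p.Prime := Fact.out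
  -- the set of all such elements is a normal subgroup of p'-elements
  let D : Subgroup G :=
    { carrier := {d | ∀ g : G, (orderOf g).Coprime p → (orderOf (d * g)).Coprime p}
      one_mem' := by intro g hg; simpa using hg
      mul_mem' := by
        intro a b ha hb g hg
        rw [mul_assoc]
        exact ha _ (hb g hg)
      inv_mem' := by
        intro a ha
        have hpow : ∀ n : ℕ, ∀ g : G, (orderOf g).Coprime p → (orderOf (a ^ n * g)).Coprime p := by
          intro n
          induction n with
          | zero => intro g hg; simpa using hg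
          | succ n ih =>
            intro g hg
            rw [pow_succ, mul_assoc]
            exact ih _ (ha g hg)
        have : a⁻¹ = a ^ (orderOf a - 1) := by
          apply inv_eq_of_mul_eq_one_right
          rw [← pow_succ', Nat.sub_add_cancel (orderOf_pos a), pow_orderOf_eq_one]
        intro g hg
        rw [this]
        exact hpow _ g hg }
  have hD : ∀ x : G, x ∈ D ↔ ∀ g : G, (orderOf g).Coprime p → (orderOf (x * g)).Coprime p :=
    fun x => Iff.rfl
  haveI hDn : D.Normal := by
    constructor
    intro n hn g x hx
    have h1 := (hD n).1 hn (g⁻¹ * x * g) (by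
      have : g⁻¹ * x * g = MulAut.conj g⁻¹ x := by simp
      rw [this, MulEquiv.orderOf_eq]; exact hx)
    have h2 : g * n * g⁻¹ * x = MulAut.conj g (n * (g⁻¹ * x * g)) := by
      simp only [MulAut.conj_apply]; group
    rw [h2, MulEquiv.orderOf_eq]
    exact h1
  have hDcop : (Nat.card D).Coprime p := by
    rw [Nat.coprime_comm, Nat.Prime.coprime_iff_not_dvd hp]
    intro hdvd
    obtain ⟨x, hx⟩ := exists_prime_orderOf_dvd_card' p hdvd
    have h1 := (hD x).1 x.2 1 (by simp)
    rw [mul_one, Subgroup.orderOf_coe, hx] at h1
    exact hp.one_lt.ne' ((Nat.coprime_self p).1 h1)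
  exact Cfsg.Agent.Lib.Helper2.le_pPrimeCore hDcop ((hD d).2 h)

end Cfsg.Agent.S3815
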