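import Cfsg.Statements.S3820
import Mathlib

set_option autoImplicit false
open Cfsg

namespace Cfsg.Agent.S3820

theorem map_conj_mul {G : Type*} [Group G] (H : Subgroup G) (a b : G) :
    H.map (MulAut.conj (a * b)).toMonoidHom =
      (H.map (MulAut.conj b).toMonoidHom).map (MulAut.conj a).toMonoidHom := by
  rw [Subgroup.map_map]
  congr 1
  ext x
  simp [mul_assoc]

theorem map_conj_le_of_mem {G : Type*} [Group G] {K J : Subgroup G} {x : G} (hx : x ∈ J)
    (hK : K ≤ J) : K.map (MulAut.conj x).toMonoidHom ≤ J := by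
  rintro _ ⟨k, hk, rfl⟩
  simp only [MulEquiv.coe_toMonoidHom, MulAut.conj_apply]
  exact J.mul_mem (J.mul_mem hx (hK hk)) (J.inv_mem hx)

/-- Call a subgroup H of G pronormal if H and gHg⁻¹ are conjugate inside ⟨H, gHg⁻¹⟩ for every g ∈ G. Let S ≤ H ≤ G be subgroups of a finite group with S pronormal in G (for instance S a Sylow subgroup). Then H is pronormal in G if and only if H and gHg⁻¹ are conjugate inside ⟨H, gHg⁻¹⟩ for every g ∈ N_G(S). In particular H is pronormal whenever N_G(S) ≤ H. -/
theorem result {G : Type*} [Group G] [Finite G] (S H : Subgroup G) (hSH : S ≤ H)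
    (hS : Cfsg.IsPronormal S) :
    Cfsg.IsPronormal H ↔
      ∀ g ∈ Subgroup.normalizer (S : Set G), ∃ w ∈ H ⊔ H.map (MulAut.conj g).toMonoidHom,
        H.map (MulAut.conj g).toMonoidHom = H.map (MulAut.conj w).toMonoidHom := by
  constructor
  · intro h g _
    exact h g
  · intro h g
    obtain ⟨x, hx, hSx⟩ := hS g
    set J := H ⊔ H.map (MulAut.conj g).toMonoidHom with hJ
    have hxJ : x ∈ J := by
      have : S ⊔ S.map (MulAut.conj g).toMonoidHom ≤ J :=
        sup_le_sup hSH (Subgroup.map_mono hSH)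
      exact this hx
    -- n = x⁻¹ g normalizes S
    have hn : x⁻¹ * g ∈ Subgroup.normalizer (S : Set G) := by
      have h1 : S.map (MulAut.conj (x⁻¹ * g)).toMonoidHom = S := by
        rw [map_conj_mul, hSx, ← map_conj_mul, inv_mul_cancel]
        ext y; simp
      rw [Subgroup.mem_normalizer_iff]
      intro s
      constructor
      · intro hs
        rw [← h1]
        exact ⟨s, hs, rfl⟩
      · intro hs
        rw [← h1] at hs
        obtain ⟨y, hy, hys⟩ := hs
        have : y = s := by
          have hys' : (x⁻¹ * g) * y * (x⁻¹ * g)⁻¹ = (x⁻¹ * g) * s * (x⁻¹ * g)⁻¹ := hys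
          exact mul_left_cancel (mul_right_cancel hys')
        rwa [← this]
    obtain ⟨w, hw, hHw⟩ := h _ hn
    refine ⟨x * w, ?_, ?_⟩
    · apply J.mul_mem hxJ
      have hle : H ⊔ H.map (MulAut.conj (x⁻¹ * g)).toMonoidHom ≤ J := by
        apply sup_le le_sup_left
        rw [map_conj_mul]
        exact map_conj_le_of_mem (J.inv_mem hxJ) le_sup_right
      exact hle hw
    · have : g = x * (x⁻¹ * g) := by group
      rw [map_conj_mul H x w, ← hHw, ← map_conj_mul, ← this]

end Cfsg.Agent.S3820
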