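import Cfsg.Statements.S3821
import Mathlib
import Cfsg.Agent.S3820

set_option autoImplicit false
open Cfsg

namespace Cfsg.Agent.S3821

open Cfsg.Agent.S3820

theorem map_subtype_conj {G : Type*} [Group G] (A : Subgroup G) (K : Subgroup A) (a : A) :
    (K.map (MulAut.conj a).toMonoidHom).map A.subtype =
      (K.map A.subtype).map (MulAut.conj (a : G)).toMonoidHom := by
  rw [Subgroup.map_map, Subgroup.map_map]
  congr 1

theorem mem_normalizer_of_map_conj_eq {G : Type*} [Group G] {H : Subgroup G} {n : G}
    (h1 : H.map (MulAut.conj n).toMonoidHom = H) : n ∈ Subgroup.normalizer (H : Set G) := by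
  rw [Subgroup.mem_normalizer_iff]
  intro s
  constructor
  · intro hs
    rw [← h1]
    exact ⟨s, hs, rfl⟩
  · intro hs
    rw [← h1] at hs
    obtain ⟨y, hy, hys⟩ := hs
    have : y = s := by
      have hys' : n * y * n⁻¹ = n * s * n⁻¹ := hys
      exact mul_left_cancel (mul_right_cancel hys')
    rwa [← this]

theorem map_conj_eq_of_mem_normalizer {G : Type*} [Group G] {H : Subgroup G} {n : G}
    (hn : n ∈ Subgroup.normalizer (H : Set G)) : H.map (MulAut.conj n).toMonoidHom = H := by
  ext s
  constructor
  · rintro ⟨y, hy, rfl⟩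
    exact (Subgroup.mem_normalizer_iff.1 hn y).1 hy
  · intro hs
    refine ⟨n⁻¹ * s * n, ?_, by simp [mul_assoc]⟩
    have := (Subgroup.mem_normalizer_iff'.1 hn (n⁻¹ * s)).2
    apply (Subgroup.mem_normalizer_iff.1 hn _).2
    simpa [mul_assoc] using hs

theorem map_conj_one {G : Type*} [Group G] (H : Subgroup G) :
    H.map (MulAut.conj (1 : G)).toMonoidHom = H := by
  ext y; simp

/-- Let A be a normal subgroup of the finite group G and H a subgroup of A. Then H is pronormal in G (H and gHg⁻¹ conjugate inside ⟨H, gHg⁻¹⟩ for every g ∈ G) if and only if H is pronormal in A and G = A · N_G(H). -/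
theorem result {G : Type*} [Group G] [Finite G] (A H : Subgroup G) [A.Normal] (hHA : H ≤ A) :
    Cfsg.IsPronormal H ↔ (Cfsg.IsPronormal (H.subgroupOf A) ∧ A ⊔ Subgroup.normalizer (H : Set G) = ⊤) := by
  have hHA' : (H.subgroupOf A).map A.subtype = H := Subgroup.map_subgroupOf_eq_of_le hHA
  have hconjA : ∀ g : G, H.map (MulAut.conj g).toMonoidHom ≤ A := by
    intro g
    rintro _ ⟨y, hy, rfl⟩
    exact ‹A.Normal›.conj_mem y (hHA hy) g
  constructor
  · intro h
    constructor
    · intro a
      obtain ⟨x, hx, hHx⟩ := h (a : G)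
      have hxA : x ∈ A := (sup_le hHA (hconjA a)) hx
      refine ⟨⟨x, hxA⟩, ?_, ?_⟩
      · rw [← Subgroup.mem_map_iff_mem A.subtype_injective, Subgroup.map_sup, map_subtype_conj,
          hHA']
        exact hx
      · apply Subgroup.map_injective A.subtype_injective
        rw [map_subtype_conj, map_subtype_conj, hHA']
        exact hHx
    · rw [eq_top_iff]
      intro g _
      obtain ⟨x, hx, hHx⟩ := h g
      have hxA : x ∈ A := (sup_le hHA (hconjA g)) hx
      have hn : x⁻¹ * g ∈ Subgroup.normalizer (H : Set G) := by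
        apply mem_normalizer_of_map_conj_eq
        rw [map_conj_mul, hHx, ← map_conj_mul, inv_mul_cancel, map_conj_one]
      have : g = x * (x⁻¹ * g) := by group
      rw [this]
      exact Subgroup.mul_mem_sup hxA hn
  · rintro ⟨h1, h2⟩ g
    have hg : g ∈ ((A ⊔ Subgroup.normalizer (H : Set G) : Subgroup G) : Set G) := by
      rw [h2]; trivial
    rw [Subgroup.normal_mul] at hg
    obtain ⟨a, ha, n, hn, rfl⟩ := hg
    have e : H.map (MulAut.conj (a * n)).toMonoidHom = H.map (MulAut.conj a).toMonoidHom := by
      rw [map_conj_mul, map_conj_eq_of_mem_normalizer hn]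
    obtain ⟨x, hx, hHx⟩ := h1 ⟨a, ha⟩
    refine ⟨(x : G), ?_, ?_⟩
    · show (x : G) ∈ H ⊔ H.map (MulAut.conj (a * n)).toMonoidHom
      rw [e]
      rw [← Subgroup.mem_map_iff_mem A.subtype_injective, Subgroup.map_sup, map_subtype_conj,
          hHA'] at hx
      exact hx
    · show H.map (MulAut.conj (a * n)).toMonoidHom = _
      rw [e]
      have := congrArg (Subgroup.map A.subtype) hHx
      rw [map_subtype_conj, map_subtype_conj, hHA'] at this
      exact this

end Cfsg.Agent.S3821
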