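import Cfsg.Statements.S3825
import Cfsg.Agent.Lib.Helper2.FixedPointFree

set_option autoImplicit false
open Cfsg

namespace Cfsg.Agent.S3825

open Cfsg.Agent.Lib.Helper2
open scoped commutatorElement

section
variable {H : Type*} [Group H] [Finite H] (U : Subgroup H) (w : H) (hw : orderOf w = 2)
    (hwU : w ∈ Subgroup.normalizer (U : Set H)) (y : H) (hy : y ≠ 1) (hyU : y ∈ U)
    (hfix : ∀ u ∈ U, w * u * w⁻¹ = u ↔ (u = 1 ∨ u = y))
    (V : Subgroup H) (hVU : V ≤ U) (hVw : ∀ v ∈ V, w * v * w⁻¹ ∈ V)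
    (hVe : Cfsg.IsElementaryAbelian 2 V) (hVc : ¬ IsCyclic ↥V) (hyV : y ∈ V)

include hw in
theorem w_inv : w⁻¹ = w := by
  have : w ^ 2 = 1 := by rw [← hw]; exact pow_orderOf_eq_one w
  rw [pow_two] at this
  exact inv_eq_of_mul_eq_one_left this

include hw in
theorem conj_conj (u : H) : w * (w * u * w⁻¹) * w⁻¹ = u := by
  rw [w_inv w hw]
  have : w * w = 1 := by
    have : w ^ 2 = 1 := by rw [← hw]; exact pow_orderOf_eq_one w
    rwa [pow_two] at this
  calc w * (w * u * w) * w = (w * w) * u * (w * w) := by group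
    _ = u := by rw [this]; simp

include hVe in
theorem v_comm (a b : H) (ha : a ∈ V) (hb : b ∈ V) : a * b = b * a := by
  have := hVe.1.is_comm.comm (⟨a, ha⟩ : V) ⟨b, hb⟩
  exact congrArg Subtype.val this

include hVe in
theorem v_inv (a : H) (ha : a ∈ V) : a⁻¹ = a := by
  have := hVe.2 a ha
  rw [pow_two] at this
  exact inv_eq_of_mul_eq_one_left this

include hw hfix hVU hVw hVe in
/-- `v * v^w` is `1` or `y` -/
theorem tau_mem (v : H) (hv : v ∈ V) : v * (w * v * w⁻¹) = 1 ∨ v * (w * v * w⁻¹) = y := by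
  have h1 : w * v * w⁻¹ ∈ V := hVw v hv
  apply (hfix _ (hVU (V.mul_mem hv h1))).1
  have : w * (v * (w * v * w⁻¹)) * w⁻¹ = (w * v * w⁻¹) * (w * (w * v * w⁻¹) * w⁻¹) := by group
  rw [this, conj_conj w hw]
  exact v_comm V hVe _ _ h1 hv

include hw hy hfix hVU hVw hVe hVc hyV in
/-- there is `v ∈ V` with `v * v^w = y` -/
theorem exists_tau_eq : ∃ v ∈ V, v * (w * v * w⁻¹) = y := by
  by_contra hcon
  push Not at hcon
  apply hVc
  -- V = {1, y}
  have hall : ∀ v ∈ V, v = 1 ∨ v = y := by
    intro v hv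
    apply (hfix v (hVU hv)).1
    rcases tau_mem U w hw y hfix V hVU hVw hVe v hv with h | h
    · have := eq_inv_of_mul_eq_one_right h
      rw [this, v_inv V hVe v hv]
    · exact absurd h (hcon v hv)
  refine ⟨⟨⟨y, hyV⟩, ?_⟩⟩
  intro v
  rcases hall v v.2 with h | h
  · exact ⟨0, by simp; exact Subtype.ext h.symm⟩
  · exact ⟨1, by simp; exact Subtype.ext h.symm⟩

include hw hy hfix hVU hVw hVe hVc hyV in
theorem claimA (u : H) (hu : u ∈ U) (h : u⁻¹ * (w * u * w⁻¹) ∈ V) : u ∈ V := by
  set v := u⁻¹ * (w * u * w⁻¹) with hv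
  have huv : w * u * w⁻¹ = u * v := by rw [hv]; group
  have h1 : u = u * v * (w * v * w⁻¹) := by
    have : w * (w * u * w⁻¹) * w⁻¹ = u := conj_conj w hw u
    rw [huv] at this
    have h2 : w * (u * v) * w⁻¹ = (w * u * w⁻¹) * (w * v * w⁻¹) := by group
    rw [h2, huv] at this
    exact this.symm
  have h2 : v * (w * v * w⁻¹) = 1 := by
    have : u * (v * (w * v * w⁻¹)) = u * 1 := by rw [mul_one, ← mul_assoc]; exact h1.symm
    exact mul_left_cancel this
  have h3 : w * v * w⁻¹ = v := by
    have := eq_inv_of_mul_eq_one_right h2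
    rw [this, v_inv V hVe v h]
  rcases (hfix v (hVU h)).1 h3 with h4 | h4
  · -- v = 1
    rw [h4, mul_one] at huv
    rcases (hfix u hu).1 huv with h5 | h5
    · rw [h5]; exact one_mem _
    · rw [h5]; exact hyV
  · obtain ⟨v', hv', hv'y⟩ := exists_tau_eq U w hw y hy hfix V hVU hVw hVe hVc hyV
    have hwv' : w * v' * w⁻¹ = v' * y := by
      have : w * v' * w⁻¹ = v'⁻¹ * (v' * (w * v' * w⁻¹)) := by group
      rw [this, hv'y, v_inv V hVe v' hv']
    have h5 : w * (u * v') * w⁻¹ = u * v' := by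
      have : w * (u * v') * w⁻¹ = (w * u * w⁻¹) * (w * v' * w⁻¹) := by group
      rw [this, huv, h4, hwv']
      have hyy : y * y = 1 := by
        have := hVe.2 y hyV
        rwa [pow_two] at this
      have hc := v_comm V hVe y v' hyV hv'
      calc u * y * (v' * y) = u * (y * v') * y := by group
        _ = u * (v' * y) * y := by rw [hc]
        _ = u * v' * (y * y) := by group
        _ = u * v' := by rw [hyy, mul_one]
    have h6 : u * v' ∈ V := by
      rcases (hfix _ (U.mul_mem hu (hVU hv'))).1 h5 with h7 | h7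
      · rw [h7]; exact one_mem _
      · rw [h7]; exact hyV
    have : u = (u * v') * v'⁻¹ := by group
    rw [this]
    exact V.mul_mem h6 (V.inv_mem hv')

end

/-- Let U be a subgroup of a finite group H and w an involution of H normalizing U and commuting with exactly two elements of U, the identity and y. If V is a non-cyclic elementary abelian 2-subgroup of U containing y which is normal in U and invariant under w, then V is a Sylow 2-subgroup of U, V has order 4, and U/V is abelian. -/
theorem result {H : Type*} [Group H] [Finite H] (U : Subgroup H) (w : H) (hw : orderOf w = 2)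
    (hwU : w ∈ Subgroup.normalizer (U : Set H)) (y : H) (hy : y ≠ 1) (hyU : y ∈ U)
    (hfix : ∀ u ∈ U, w * u * w⁻¹ = u ↔ (u = 1 ∨ u = y))
    (V : Subgroup H) (hVU : V ≤ U) (hVn : (V.subgroupOf U).Normal) (hVw : ∀ v ∈ V, w * v * w⁻¹ ∈ V)
    (hVe : Cfsg.IsElementaryAbelian 2 V) (hVc : ¬ IsCyclic ↥V) (hyV : y ∈ V) :
    ¬ 2 ∣ V.relIndex U ∧ Nat.card ↥V = 4 ∧ ⁅U, U⁆ ≤ V := by
  have hwinv := w_inv w hw
  have hcc := conj_conj w hw
  -- the order of V
  have hcardV : Nat.card ↥V = 4 := by
    let τ : ↥V →* ↥V :=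
      { toFun := fun v => ⟨v * (w * v * w⁻¹), V.mul_mem v.2 (hVw v v.2)⟩
        map_one' := by apply Subtype.ext; simp
        map_mul' := by
          intro a b
          apply Subtype.ext
          simp only [Subgroup.coe_mul]
          have h1 : w * (↑a * ↑b) * w⁻¹ = (w * a * w⁻¹) * (w * b * w⁻¹) := by group
          rw [h1]
          have hc := v_comm V hVe (b : H) (w * a * w⁻¹) b.2 (hVw a a.2)
          calc (a : H) * b * ((w * a * w⁻¹) * (w * b * w⁻¹))
              = a * (b * (w * a * w⁻¹)) * (w * b * w⁻¹) := by group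
            _ = a * ((w * a * w⁻¹) * b) * (w * b * w⁻¹) := by rw [hc]
            _ = _ := by group }
    have hτ : ∀ v : V, ((τ v : V) : H) = v * (w * v * w⁻¹) := fun v => rfl
    have hker : Nat.card τ.ker = 2 := by
      rw [Nat.card_eq_two_iff' (1 : τ.ker)]
      have hyker : (⟨y, hyV⟩ : V) ∈ τ.ker := by
        rw [MonoidHom.mem_ker]
        apply Subtype.ext
        rw [hτ]
        simp only [Subgroup.coe_one]
        rw [(hfix y hyU).2 (Or.inr rfl)]
        have := hVe.2 y hyV
        rwa [pow_two] at this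
      refine ⟨⟨⟨y, hyV⟩, hyker⟩, ?_, ?_⟩
      · intro h
        apply hy
        have := congrArg (fun t : τ.ker => ((t : V) : H)) h
        simpa using this
      · intro v hv
        have h1 : ((v : V) : H) * (w * v * w⁻¹) = 1 := by
          have := v.2
          rw [MonoidHom.mem_ker] at this
          have := congrArg Subtype.val this
          rwa [hτ] at this
        have h2 : w * ((v : V) : H) * w⁻¹ = v := by
          have := eq_inv_of_mul_eq_one_right h1
          rw [this, v_inv V hVe _ (v : V).2]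
        rcases (hfix _ (hVU (v : V).2)).1 h2 with h3 | h3
        · exfalso; apply hv
          apply Subtype.ext; apply Subtype.ext
          simpa using h3
        · apply Subtype.ext; apply Subtype.ext
          exact h3
    have hrange : Nat.card τ.range = 2 := by
      rw [Nat.card_eq_two_iff' (1 : τ.range)]
      obtain ⟨v', hv', hv'y⟩ := exists_tau_eq U w hw y hy hfix V hVU hVw hVe hVc hyV
      have hyr : (⟨y, hyV⟩ : V) ∈ τ.range := ⟨⟨v', hv'⟩, Subtype.ext hv'y⟩
      refine ⟨⟨⟨y, hyV⟩, hyr⟩, ?_, ?_⟩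
      · intro h
        apply hy
        have := congrArg (fun t : τ.range => ((t : V) : H)) h
        simpa using this
      · rintro ⟨_, ⟨v, rfl⟩⟩ hv
        rcases tau_mem U w hw y hfix V hVU hVw hVe v v.2 with h | h
        · exfalso; apply hv
          apply Subtype.ext; apply Subtype.ext
          simpa [hτ] using h
        · apply Subtype.ext; apply Subtype.ext
          simpa [hτ] using h
    have := Subgroup.card_mul_index τ.ker
    rw [Subgroup.index_ker, hker, hrange] at this
    omega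
  -- the automorphism of the quotient
  have hUconj : ∀ u ∈ U, w * u * w⁻¹ ∈ U := fun u hu =>
    (Subgroup.mem_normalizer_iff.1 hwU u).1 hu
  let σ₀ : ↥U →* ↥U :=
    { toFun := fun u => ⟨w * u * w⁻¹, hUconj u u.2⟩
      map_one' := by apply Subtype.ext; simp
      map_mul' := by intro a b; apply Subtype.ext; simp only [Subgroup.coe_mul]; group }
  have hσ₀ : ∀ u : U, ((σ₀ u : U) : H) = w * u * w⁻¹ := fun u => rfl
  have hσ₀2 : ∀ u : U, σ₀ (σ₀ u) = u := by
    intro u; apply Subtype.ext; rw [hσ₀, hσ₀, hcc]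
  have hle : V.subgroupOf U ≤ (V.subgroupOf U).comap σ₀ := by
    intro u hu
    rw [Subgroup.mem_comap, Subgroup.mem_subgroupOf, hσ₀]
    exact hVw u hu
  let σm := QuotientGroup.map (V.subgroupOf U) (V.subgroupOf U) σ₀ hle
  have hσm : ∀ u : U, σm (QuotientGroup.mk u) = QuotientGroup.mk (σ₀ u) := fun u => rfl
  have hσm2 : ∀ x, σm (σm x) = x := by
    intro x
    obtain ⟨u, rfl⟩ := QuotientGroup.mk_surjective x
    rw [hσm, hσm, hσ₀2]
  let σ : (↥U ⧸ V.subgroupOf U) ≃* (↥U ⧸ V.subgroupOf U) :=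
    MonoidHom.toMulEquiv σm σm (by ext x; simp [hσm2]) (by ext x; simp [hσm2])
  have hσ : ∀ x, σ x = σm x := fun x => rfl
  have hσ2 : ∀ x, σ (σ x) = x := fun x => by rw [hσ, hσ, hσm2]
  have hfpf : ∀ x, σ x = x → x = 1 := by
    intro x hx
    obtain ⟨u, rfl⟩ := QuotientGroup.mk_surjective x
    rw [hσ, hσm, eq_comm, QuotientGroup.eq, Subgroup.mem_subgroupOf] at hx
    rw [QuotientGroup.eq_one_iff, Subgroup.mem_subgroupOf]
    apply claimA U w hw y hy hfix V hVU hVw hVe hVc hyV u u.2
    simpa [hσ₀] using hx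
  refine ⟨?_, hcardV, ?_⟩
  · have := fpf_involution_odd σ hσ2 hfpf
    rwa [← Subgroup.index_eq_card] at this
  · have hcomm := fpf_involution_comm σ hσ2 hfpf
    rw [Subgroup.commutator_le]
    intro a ha b hb
    have h1 := hcomm (QuotientGroup.mk ⟨a, ha⟩) (QuotientGroup.mk ⟨b, hb⟩)
    have h2 : (QuotientGroup.mk (⁅(⟨a, ha⟩ : U), ⟨b, hb⟩⁆) : ↥U ⧸ V.subgroupOf U) = 1 := by
      rw [commutatorElement_def]
      simp only [QuotientGroup.mk_mul, QuotientGroup.mk_inv]
      rw [h1]; group
    rw [QuotientGroup.eq_one_iff, Subgroup.mem_subgroupOf] at h2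
    exact h2

end Cfsg.Agent.S3825
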