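import Cfsg.Statements.S3835
import Cfsg.Agent.S2231
import Cfsg.Agent.Lib.Helper4.AbelianP

set_option autoImplicit false
open Cfsg

namespace Cfsg.Agent.S3835

open Matrix Cfsg.Agent.Lib.Helper4

section Action

variable (p : ℕ) [hp : Fact p.Prime]

/-- matrices preserving the last coordinate functional -/
def stab : Subgroup (Matrix.SpecialLinearGroup (Fin 3) (ZMod p)) where
  carrier := {M | ∀ v : Fin 3 → ZMod p, (M.1 *ᵥ v) 2 = v 2}
  one_mem' := by intro v; simp
  mul_mem' := by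
    intro M N hM hN v
    rw [Matrix.SpecialLinearGroup.coe_mul, ← Matrix.mulVec_mulVec, hM, hN]
  inv_mem' := by
    intro M hM v
    have h1 : (M : Matrix (Fin 3) (Fin 3) (ZMod p)) *ᵥ
        ((M⁻¹ : Matrix.SpecialLinearGroup (Fin 3) (ZMod p)) : Matrix (Fin 3) (Fin 3) (ZMod p)) *ᵥ v
          = v := by
      rw [Matrix.mulVec_mulVec, ← Matrix.SpecialLinearGroup.coe_mul, mul_inv_cancel]; simp
    have h2 := hM (((M⁻¹ : Matrix.SpecialLinearGroup (Fin 3) (ZMod p)) :
      Matrix (Fin 3) (Fin 3) (ZMod p)) *ᵥ v)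
    rw [h1] at h2
    exact h2.symm

theorem mem_stab_iff (M : Matrix.SpecialLinearGroup (Fin 3) (ZMod p)) :
    M ∈ stab p ↔ (M : Matrix (Fin 3) (Fin 3) (ZMod p)) 2 0 = 0 ∧
      (M : Matrix (Fin 3) (Fin 3) (ZMod p)) 2 1 = 0 ∧
      (M : Matrix (Fin 3) (Fin 3) (ZMod p)) 2 2 = 1 := by
  constructor
  · intro h
    have h0 := h ![1, 0, 0]
    have h1 := h ![0, 1, 0]
    have h2 := h ![0, 0, 1]
    simp [Matrix.mulVec, dotProduct, Fin.sum_univ_three] at h0 h1 h2
    exact ⟨h0, h1, h2⟩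
  · rintro ⟨h0, h1, h2⟩ v
    simp [Matrix.mulVec, dotProduct, Fin.sum_univ_three, h0, h1, h2]

theorem qd_le_stab : Cfsg.qd p ≤ stab p := by
  unfold Cfsg.qd
  rw [Subgroup.closure_le]
  rintro M ⟨h0, h1, h2⟩
  exact (mem_stab_iff p M).2 ⟨h0, h1, h2⟩

theorem stab_le_qd : stab p ≤ Cfsg.qd p := by
  intro M hM
  exact Subgroup.subset_closure ((mem_stab_iff p M).1 hM)

/-- the affine plane -/
abbrev Pt := {v : Fin 3 → ZMod p // v 2 = 1}

instance : MulAction (stab p) (Pt p) where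
  smul M v := ⟨M.1.1 *ᵥ v.1, by rw [M.2 v.1]; exact v.2⟩
  one_smul v := by
    apply Subtype.ext
    show (1 : Matrix.SpecialLinearGroup (Fin 3) (ZMod p)).1 *ᵥ v.1 = v.1
    simp
  mul_smul M N v := by
    apply Subtype.ext
    show (M.1 * N.1).1 *ᵥ v.1 = M.1.1 *ᵥ (N.1.1 *ᵥ v.1)
    rw [Matrix.SpecialLinearGroup.coe_mul, Matrix.mulVec_mulVec]

theorem smul_val (M : stab p) (v : Pt p) : ((M • v : Pt p) : Fin 3 → ZMod p) = M.1.1 *ᵥ v.1 := rfl

/-- the permutation representation on the affine plane -/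
noncomputable def phi : ↥(stab p) →* Equiv.Perm (Pt p) := MulAction.toPermHom (stab p) (Pt p)

theorem phi_apply (M : stab p) (v : Pt p) : ((phi p M v : Pt p) : Fin 3 → ZMod p) = M.1.1 *ᵥ v.1 :=
  rfl

theorem phi_injective : Function.Injective (phi p) := by
  rw [injective_iff_map_eq_one]
  intro M hM
  have h : ∀ v : Pt p, M.1.1 *ᵥ v.1 = v.1 := by
    intro v
    rw [← phi_apply, hM]; rfl
  apply Subtype.ext
  apply Subtype.ext
  have h0 := h ⟨![0, 0, 1], rfl⟩
  have h1 := h ⟨![1, 0, 1], rfl⟩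
  have h2 := h ⟨![0, 1, 1], rfl⟩
  ext i j
  have h0i := congrFun h0 i
  have h1i := congrFun h1 i
  have h2i := congrFun h2 i
  simp [Matrix.mulVec, dotProduct, Fin.sum_univ_three] at h0i h1i h2i
  fin_cases i <;> fin_cases j <;> simp_all

theorem card_pt : Nat.card (Pt p) = p ^ 2 := by
  have e : Pt p ≃ ZMod p × ZMod p :=
    { toFun := fun v => (v.1 0, v.1 1)
      invFun := fun ab => ⟨![ab.1, ab.2, 1], rfl⟩
      left_inv := by
        intro v
        apply Subtype.ext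
        funext j
        fin_cases j
        · rfl
        · rfl
        · exact v.2.symm
      right_inv := by
        intro ab
        rfl }
  rw [Nat.card_congr e, Nat.card_prod, Nat.card_zmod, pow_two]

end Action

section Even

variable (p : ℕ) [hp : Fact p.Prime]

/-- an explicit element of `stab p` -/
def mk3 (a b e c d f : ZMod p) (h : a * d - b * c = 1) :
    Matrix.SpecialLinearGroup (Fin 3) (ZMod p) :=
  ⟨!![a, b, e; c, d, f; 0, 0, 1], by rw [Matrix.det_fin_three]; simp; linear_combination h⟩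

theorem mk3_coe (a b e c d f : ZMod p) (h : a * d - b * c = 1) :
    (mk3 p a b e c d f h : Matrix (Fin 3) (Fin 3) (ZMod p)) = !![a, b, e; c, d, f; 0, 0, 1] := rfl

theorem mk3_mem (a b e c d f : ZMod p) (h : a * d - b * c = 1) : mk3 p a b e c d f h ∈ stab p := by
  rw [mem_stab_iff, mk3_coe]
  simp

theorem mk3_mul (a b e c d f a' b' e' c' d' f' : ZMod p) (h : a * d - b * c = 1)
    (h' : a' * d' - b' * c' = 1) (h'' : (a * a' + b * c') * (c * b' + d * d') -
      (a * b' + b * d') * (c * a' + d * c') = 1) :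
    mk3 p a b e c d f h * mk3 p a' b' e' c' d' f' h' =
      mk3 p (a * a' + b * c') (a * b' + b * d') (a * e' + b * f' + e)
        (c * a' + d * c') (c * b' + d * d') (c * e' + d * f' + f) h'' := by
  apply Subtype.ext
  rw [Matrix.SpecialLinearGroup.coe_mul, mk3_coe, mk3_coe, mk3_coe]
  ext i j
  fin_cases i <;> fin_cases j <;> simp [Matrix.mul_apply, Fin.sum_univ_three]

theorem eq_mk3 (M : Matrix.SpecialLinearGroup (Fin 3) (ZMod p)) (hM : M ∈ stab p) :
    ∃ (a b e c d f : ZMod p) (h : a * d - b * c = 1), M = mk3 p a b e c d f h := by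
  obtain ⟨h0, h1, h2⟩ := (mem_stab_iff p M).1 hM
  have hdet := M.2
  rw [Matrix.det_fin_three, h0, h1, h2] at hdet
  refine ⟨M.1 0 0, M.1 0 1, M.1 0 2, M.1 1 0, M.1 1 1, M.1 1 2, by linear_combination hdet, ?_⟩
  apply Subtype.ext
  rw [mk3_coe]
  ext i j
  fin_cases i <;> fin_cases j <;> simp [h0, h1, h2]

/-- the property of being mapped to `1` by every homomorphism into a group of exponent two -/
def IsSq (M : Matrix.SpecialLinearGroup (Fin 3) (ZMod p)) : Prop :=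
  M ∈ Subgroup.closure {g | ∃ h ∈ stab p, g = h * h}

theorem IsSq.mul {M N : Matrix.SpecialLinearGroup (Fin 3) (ZMod p)} (hM : IsSq p M) (hN : IsSq p N) :
    IsSq p (M * N) := Subgroup.mul_mem _ hM hN

theorem isSq_sq {h : Matrix.SpecialLinearGroup (Fin 3) (ZMod p)} (hh : h ∈ stab p) :
    IsSq p (h * h) := Subgroup.subset_closure ⟨h, hh, rfl⟩

variable (hp2 : p ≠ 2)

include hp2 in
theorem two_ne_zero' : (2 : ZMod p) ≠ 0 := by
  intro h
  have h1 : ((2 : ℕ) : ZMod p) = 0 := by exact_mod_cast h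
  rw [ZMod.natCast_eq_zero_iff] at h1
  exact hp2 ((Nat.prime_dvd_prime_iff_eq hp.out Nat.prime_two).1 h1)

include hp2 in
theorem isSq_T (e f : ZMod p) : IsSq p (mk3 p 1 0 e 0 1 f (by ring)) := by
  have h2 := two_ne_zero' p hp2
  have : mk3 p 1 0 e 0 1 f (by ring) =
      mk3 p 1 0 (e / 2) 0 1 (f / 2) (by ring) * mk3 p 1 0 (e / 2) 0 1 (f / 2) (by ring) := by
    rw [mk3_mul p _ _ _ _ _ _ _ _ _ _ _ _ _ _ (by ring)]
    apply Subtype.ext
    rw [mk3_coe, mk3_coe]
    ext i j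
    fin_cases i <;> fin_cases j <;> simp <;> field_simp <;> ring
  rw [this]
  exact isSq_sq p (mk3_mem p _ _ _ _ _ _ _)

include hp2 in
theorem isSq_U (x : ZMod p) : IsSq p (mk3 p 1 x 0 0 1 0 (by ring)) := by
  have h2 := two_ne_zero' p hp2
  have : mk3 p 1 x 0 0 1 0 (by ring) =
      mk3 p 1 (x / 2) 0 0 1 0 (by ring) * mk3 p 1 (x / 2) 0 0 1 0 (by ring) := by
    rw [mk3_mul p _ _ _ _ _ _ _ _ _ _ _ _ _ _ (by ring)]
    apply Subtype.ext
    rw [mk3_coe, mk3_coe]
    ext i j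
    fin_cases i <;> fin_cases j <;> simp <;> field_simp <;> ring
  rw [this]
  exact isSq_sq p (mk3_mem p _ _ _ _ _ _ _)

include hp2 in
theorem isSq_L (y : ZMod p) : IsSq p (mk3 p 1 0 0 y 1 0 (by ring)) := by
  have h2 := two_ne_zero' p hp2
  have : mk3 p 1 0 0 y 1 0 (by ring) =
      mk3 p 1 0 0 (y / 2) 1 0 (by ring) * mk3 p 1 0 0 (y / 2) 1 0 (by ring) := by
    rw [mk3_mul p _ _ _ _ _ _ _ _ _ _ _ _ _ _ (by ring)]
    apply Subtype.ext
    rw [mk3_coe, mk3_coe]
    ext i j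
    fin_cases i <;> fin_cases j <;> simp <;> field_simp <;> ring
  rw [this]
  exact isSq_sq p (mk3_mem p _ _ _ _ _ _ _)

include hp2 in
/-- the linear part with `c ≠ 0` -/
theorem isSq_lin_of_ne (a b c d : ZMod p) (h : a * d - b * c = 1) (hc : c ≠ 0) :
    IsSq p (mk3 p a b 0 c d 0 h) := by
  have : mk3 p a b 0 c d 0 h =
      mk3 p 1 ((a - 1) / c) 0 0 1 0 (by ring) * mk3 p 1 0 0 c 1 0 (by ring) *
        mk3 p 1 ((d - 1) / c) 0 0 1 0 (by ring) := by
    rw [mk3_mul p _ _ _ _ _ _ _ _ _ _ _ _ _ _ (by ring),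
      mk3_mul p _ _ _ _ _ _ _ _ _ _ _ _ _ _ (by ring)]
    apply Subtype.ext
    rw [mk3_coe, mk3_coe]
    have hb : b = (a * d - 1) / c := by
      field_simp
      linear_combination -h
    ext i j
    fin_cases i <;> fin_cases j <;> simp <;> field_simp <;> (try rw [hb]) <;> (try field_simp) <;>
      ring
  rw [this]
  exact ((isSq_U p hp2 _).mul p (isSq_L p hp2 _)).mul p (isSq_U p hp2 _)

include hp2 in
theorem isSq_lin (a b c d : ZMod p) (h : a * d - b * c = 1) : IsSq p (mk3 p a b 0 c d 0 h) := by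
  by_cases hc : c = 0
  · subst hc
    have ha : a ≠ 0 := by
      rintro rfl
      simp at h
    have : mk3 p a b 0 0 d 0 h =
        mk3 p 1 0 0 (-1) 1 0 (by ring) * mk3 p a b 0 a (b + d) 0 (by linear_combination h) := by
      rw [mk3_mul p _ _ _ _ _ _ _ _ _ _ _ _ _ _ (by linear_combination h)]
      apply Subtype.ext
      rw [mk3_coe, mk3_coe]
      ext i j
      fin_cases i <;> fin_cases j <;> simp
    rw [this]
    exact (isSq_L p hp2 _).mul p (isSq_lin_of_ne p hp2 _ _ _ _ _ ha)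
  · exact isSq_lin_of_ne p hp2 a b c d h hc

include hp2 in
theorem isSq_of_mem (M : Matrix.SpecialLinearGroup (Fin 3) (ZMod p)) (hM : M ∈ stab p) :
    IsSq p M := by
  obtain ⟨a, b, e, c, d, f, h, rfl⟩ := eq_mk3 p M hM
  have : mk3 p a b e c d f h = mk3 p 1 0 e 0 1 f (by ring) * mk3 p a b 0 c d 0 h := by
    rw [mk3_mul p _ _ _ _ _ _ _ _ _ _ _ _ _ _ (by linear_combination h)]
    apply Subtype.ext
    rw [mk3_coe, mk3_coe]
    ext i j
    fin_cases i <;> fin_cases j <;> simp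
  rw [this]
  exact (isSq_T p hp2 e f).mul p (isSq_lin p hp2 a b c d h)

include hp2 in
/-- every homomorphism from `stab p` to the units of `ℤ` is trivial -/
theorem hom_trivial (ψ : ↥(stab p) →* ℤˣ) (M : ↥(stab p)) : ψ M = 1 := by
  have key : ∀ g : Matrix.SpecialLinearGroup (Fin 3) (ZMod p), IsSq p g →
      ∃ hg : g ∈ stab p, ψ ⟨g, hg⟩ = 1 := by
    intro g hg
    induction hg using Subgroup.closure_induction with
    | mem g hg =>
      obtain ⟨h, hh, rfl⟩ := hg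
      refine ⟨Subgroup.mul_mem _ hh hh, ?_⟩
      have : (⟨h * h, Subgroup.mul_mem _ hh hh⟩ : ↥(stab p)) = ⟨h, hh⟩ * ⟨h, hh⟩ := rfl
      rw [this, map_mul, Int.units_mul_self]
    | one => exact ⟨Subgroup.one_mem _, map_one ψ⟩
    | mul g₁ g₂ _ _ ih₁ ih₂ =>
      obtain ⟨h₁, e₁⟩ := ih₁
      obtain ⟨h₂, e₂⟩ := ih₂
      refine ⟨Subgroup.mul_mem _ h₁ h₂, ?_⟩
      have : (⟨g₁ * g₂, Subgroup.mul_mem _ h₁ h₂⟩ : ↥(stab p)) = ⟨g₁, h₁⟩ * ⟨g₂, h₂⟩ := rfl
      rw [this, map_mul, e₁, e₂, one_mul]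
    | inv g _ ih =>
      obtain ⟨h₁, e₁⟩ := ih
      refine ⟨Subgroup.inv_mem _ h₁, ?_⟩
      have : (⟨g⁻¹, Subgroup.inv_mem _ h₁⟩ : ↥(stab p)) = (⟨g, h₁⟩ : ↥(stab p))⁻¹ := rfl
      rw [this, map_inv, e₁, inv_one]
  obtain ⟨_, h⟩ := key M.1 (isSq_of_mem p hp2 M.1 M.2)
  exact h

end Even

section Main

variable {p : ℕ} [hp : Fact p.Prime]

/-- `p`-subgroups of a symmetric group of degree less than `p²` are abelian -/
theorem abP_perm (n : ℕ) (hn : n < p ^ 2) : AbP p (Equiv.Perm (Fin n)) := by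
  intro P hP x hx y hy
  ext i
  congr 1
  show x (y i) = y (x i)
  -- the stabilizer of `i` in `P`
  set S : Subgroup ↥P := MulAction.stabilizer ↥P i with hS
  have hidx : S.index = (MulAction.orbit ↥P i).ncard := MulAction.index_stabilizer ↥P i
  have hle : (MulAction.orbit ↥P i).ncard ≤ n := by
    have := Set.ncard_le_card (MulAction.orbit ↥P i)
    rwa [Nat.card_eq_fintype_card, Fintype.card_fin] at this
  obtain ⟨k, hk⟩ := IsPGroup.iff_card.1 hP
  have hdvd : S.index ∣ p ^ k := by rw [← hk]; exact S.index_dvd_card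
  obtain ⟨j, -, hj⟩ := (Nat.dvd_prime_pow hp.out).1 hdvd
  have hj1 : j ≤ 1 := by
    by_contra hcon
    push Not at hcon
    have h1 : p ^ 2 ≤ p ^ j := Nat.pow_le_pow_right hp.out.pos hcon
    rw [← hj, hidx] at h1
    omega
  have hcomm : _root_.commutator ↥P ≤ S := by
    interval_cases j
    · rw [pow_zero] at hj
      rw [Subgroup.index_eq_one.1 hj]
      exact le_top
    · rw [pow_one] at hj
      have hk0 : k ≠ 0 := by
        rintro rfl
        rw [pow_zero] at hk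
        have := S.index_dvd_card
        rw [hk, hj] at this
        exact hp.out.one_lt.ne' (Nat.dvd_one.1 this)
      haveI hSn : S.Normal := by
        apply Subgroup.normal_of_index_eq_minFac_card
        rw [hj, hk, Nat.pow_minFac hk0, Nat.Prime.minFac_eq hp.out]
      rw [← Subgroup.Normal.quotient_commutative_iff_commutator_le]
      have hcard : Nat.card (↥P ⧸ S) = p := by rw [← Subgroup.index_eq_card, hj]
      haveI := isCyclic_of_prime_card hcard
      exact ⟨⟨fun a b => (IsCyclic.commGroup (α := ↥P ⧸ S)).mul_comm a b⟩⟩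
  have hc : (⟨x⁻¹, P.inv_mem hx⟩ : ↥P) * ⟨y⁻¹, P.inv_mem hy⟩ * (⟨x⁻¹, P.inv_mem hx⟩ : ↥P)⁻¹ *
      (⟨y⁻¹, P.inv_mem hy⟩ : ↥P)⁻¹ ∈ S := by
    apply hcomm
    rw [← commutatorElement_def]
    exact Subgroup.commutator_mem_commutator (Subgroup.mem_top _) (Subgroup.mem_top _)
  rw [hS, MulAction.mem_stabilizer_iff] at hc
  have hc' : (x⁻¹ * y⁻¹ * x⁻¹⁻¹ * y⁻¹⁻¹) i = i := hc
  rw [inv_inv, inv_inv, Equiv.Perm.mul_apply, Equiv.Perm.mul_apply, Equiv.Perm.mul_apply,
    Equiv.Perm.inv_eq_iff_eq, Equiv.Perm.inv_eq_iff_eq] at hc'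
  exact hc'

theorem not_involves (n : ℕ) (hn : n < p ^ 2) :
    ¬ Cfsg.Involves ↥(Cfsg.qd p) ↥(alternatingGroup (Fin n)) := by
  classical
  rintro ⟨H, R, hN, ⟨e⟩⟩
  have h1 : AbP p (Equiv.Perm (Fin n)) := abP_perm n hn
  have h2 : AbP p ↥(alternatingGroup (Fin n)) := AbP.subgroup _ h1
  have h3 : AbP p H := AbP.subgroup H h2
  have h4 : AbP p (H ⧸ R.subgroupOf H) :=
    AbP.of_surjective (QuotientGroup.mk' _) (QuotientGroup.mk'_surjective _) h3
  have h5 : AbP p ↥(Cfsg.qd p) := AbP.of_surjective e.toMonoidHom e.surjective h4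
  exact Cfsg.Agent.S2231.not_abP_qd h5

theorem exists_embedding (hp2 : p ≠ 2) (n : ℕ) (hn : p ^ 2 ≤ n) :
    ∃ H : Subgroup (alternatingGroup (Fin n)), Nonempty (↥H ≃* ↥(Cfsg.qd p)) := by
  classical
  haveI : NeZero p := ⟨hp.out.ne_zero⟩
  haveI : Finite (Pt p) := inferInstance
  letI : Fintype (Pt p) := Fintype.ofFinite _
  have hcard : Fintype.card (Pt p) = p ^ 2 := by rw [← Nat.card_eq_fintype_card, card_pt]
  let ι : Pt p ↪ Fin n := (Fintype.equivFinOfCardEq hcard).toEmbedding.trans (Fin.castLEEmb hn)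
  let Ψ : ↥(stab p) →* Equiv.Perm (Fin n) := (Equiv.Perm.viaEmbeddingHom ι).comp (phi p)
  have hΨinj : Function.Injective Ψ :=
    (Equiv.Perm.viaEmbeddingHom_injective ι).comp (phi_injective p)
  have hΨeven : ∀ M, Ψ M ∈ alternatingGroup (Fin n) := by
    intro M
    rw [Equiv.Perm.mem_alternatingGroup]
    exact hom_trivial p hp2 (Equiv.Perm.sign.comp Ψ) M
  let Ψ' : ↥(stab p) →* ↥(alternatingGroup (Fin n)) := Ψ.codRestrict _ hΨeven
  have hΨ'inj : Function.Injective Ψ' := by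
    intro a b hab
    apply hΨinj
    exact congrArg Subtype.val hab
  have e1 : ↥(Cfsg.qd p) ≃* ↥(stab p) :=
    MulEquiv.subgroupCongr (le_antisymm (qd_le_stab p) (stab_le_qd p))
  exact ⟨Ψ'.range, ⟨(MonoidHom.ofInjective hΨ'inj).symm.trans e1.symm⟩⟩

end Main

/-- Let p be an odd prime and n a natural number. The alternating group of degree n has a subgroup isomorphic to Qd(p) (the natural semidirect product of an elementary abelian group of order p² by SL₂(p)) if and only if n ≥ p²; and if n < p² then Qd(p) is not even involved in it. -/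
theorem result {p : ℕ} [Fact p.Prime] (hp : p ≠ 2) (n : ℕ) : ((∃ H : Subgroup (alternatingGroup (Fin n)), Nonempty (↥H ≃* ↥(Cfsg.qd p))) ↔ p ^ 2 ≤ n) ∧ (n < p ^ 2 → ¬ Cfsg.Involves ↥(Cfsg.qd p) ↥(alternatingGroup (Fin n))) := by
  refine ⟨⟨fun h => ?_, exists_embedding hp n⟩, not_involves n⟩
  by_contra hlt
  push Not at hlt
  obtain ⟨H, ⟨e⟩⟩ := h
  apply not_involves n hlt
  refine ⟨H, ⊥, ?_, ⟨?_⟩⟩
  · rw [Subgroup.bot_subgroupOf]; infer_instance
  · have h1 : (⊥ : Subgroup (alternatingGroup (Fin n))).subgroupOf H = ⊥ := Subgroup.bot_subgroupOf H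
    exact (QuotientGroup.quotientMulEquivOfEq h1).trans (QuotientGroup.quotientBot.trans e)

end Cfsg.Agent.S3835
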