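import Cfsg.Statements.S3838
import Cfsg.Agent.Lib.Helper2.PNilpotentQuot

set_option autoImplicit false
open Cfsg

namespace Cfsg.Agent.S3838

open Cfsg.Agent.Lib.Helper2
open scoped commutatorElement

/-- Let G be a finite group with Sylow p-subgroup P such that N_G(P) has a normal p-complement. Then N_G(Q) has a normal p-complement for every subgroup Q with [P, P] ≤ Q ≤ Φ(P). -/
theorem result {G : Type*} [Group G] [Finite G] {p : ℕ} [Fact p.Prime] (P : Sylow p G) (hN : Cfsg.HasNormalPComplement p ↥(Subgroup.normalizer ((P : Subgroup G) : Set G))) (Q : Subgroup G) (h1 : (commutator ↥(P : Subgroup G)).map (P : Subgroup G).subtype ≤ Q) (h2 : Q ≤ (frattini ↥(P : Subgroup G)).map (P : Subgroup G).subtype) : Cfsg.HasNormalPComplement p ↥(Subgroup.normalizer (Q : Set G)) := by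
  classical
  have hQP : Q ≤ (P : Subgroup G) := h2.trans (Subgroup.map_subtype_le _)
  have hcomm : ∀ a ∈ (P : Subgroup G), ∀ y ∈ (P : Subgroup G), a * y * a⁻¹ * y⁻¹ ∈ Q := by
    intro a ha y hy
    apply h1
    refine ⟨⁅(⟨a, ha⟩ : (P : Subgroup G)), ⟨y, hy⟩⁆, ?_, ?_⟩
    · rw [commutator_def]
      exact Subgroup.commutator_mem_commutator (Subgroup.mem_top _) (Subgroup.mem_top _)
    · simp [commutatorElement_def]
  set N := Subgroup.normalizer (Q : Set G) with hNdef
  have hPN : (P : Subgroup G) ≤ N := by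
    intro a ha
    rw [hNdef, Subgroup.mem_normalizer_iff]
    intro y
    constructor
    · intro hy
      have := Q.mul_mem (hcomm a ha y (hQP hy)) hy
      simpa using this
    · intro hy
      have h3 := Q.mul_mem (hcomm a⁻¹ ((P : Subgroup G).inv_mem ha) (a * y * a⁻¹) (hQP hy)) hy
      have e : a⁻¹ * (a * y * a⁻¹) * a⁻¹⁻¹ * (a * y * a⁻¹)⁻¹ * (a * y * a⁻¹) = y := by group
      rwa [e] at h3
  set PN : Sylow p N := P.subtype hPN with hPNdef
  have hPNmem : ∀ z : N, z ∈ (PN : Subgroup N) ↔ (z : G) ∈ (P : Subgroup G) := by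
    intro z
    rw [hPNdef, Sylow.coe_subtype, Subgroup.mem_subgroupOf]
  set QN : Subgroup N := Q.subgroupOf N with hQNdef
  haveI : QN.Normal := Subgroup.normal_in_normalizer
  have hC := centralizes_sylow_of_normalizer_pNilpotent P hN
  have hQNle : QN ≤ (PN : Subgroup N) := by
    intro z hz
    rw [hPNmem]
    exact hQP (Subgroup.mem_subgroupOf.mp hz)
  have hquot : Cfsg.HasNormalPComplement p (N ⧸ QN) := by
    apply hasNormalPComplement_quotient_of_abelian PN QN hQNle
    · intro a ha y hy
      rw [hQNdef, Subgroup.mem_subgroupOf]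
      exact hcomm a ((hPNmem a).mp ha) y ((hPNmem y).mp hy)
    · intro x hx hxo
      have hx' : (x : G) ∈ Subgroup.normalizer ((P : Subgroup G) : Set G) := by
        rw [Subgroup.mem_normalizer_iff]
        intro y
        constructor
        · intro hy
          have := (Subgroup.mem_normalizer_iff.mp hx ⟨y, hPN hy⟩).mp ((hPNmem _).mpr hy)
          exact (hPNmem _).mp this
        · intro hy
          have hyN : y ∈ N := by
            have e : y = (x : G)⁻¹ * ((x : G) * y * (x : G)⁻¹) * (x : G) := by group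
            rw [e]
            exact N.mul_mem (N.mul_mem (N.inv_mem x.2) (hPN hy)) x.2
          have := (Subgroup.mem_normalizer_iff.mp hx ⟨y, hyN⟩).mpr ((hPNmem _).mpr hy)
          exact (hPNmem _).mp this
      have hxc := hC (x : G) hx' (by rwa [Subgroup.orderOf_coe])
      rw [Subgroup.mem_centralizer_iff] at hxc ⊢
      intro y hy
      exact Subtype.ext (hxc (y : G) ((hPNmem y).mp hy))
  apply hasNormalPComplement_of_quotient_nongenerating PN QN hQNle _ hquot
  intro M hM hle
  -- transfer to the Frattini subgroup of `P`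
  set M' : Subgroup (P : Subgroup G) := (M.map N.subtype).subgroupOf (P : Subgroup G) with hM'
  have htop : M' ⊔ frattini (P : Subgroup G) = ⊤ := by
    rw [eq_top_iff]
    rintro ⟨y, hy⟩ -
    have hyN : (⟨y, hPN hy⟩ : N) ∈ QN ⊔ M := hle ((hPNmem _).mpr hy)
    rw [← SetLike.mem_coe, Subgroup.normal_mul] at hyN
    obtain ⟨q, hq, m, hm, hqm⟩ := hyN
    have hqQ : (q : G) ∈ Q := Subgroup.mem_subgroupOf.mp hq
    obtain ⟨q', hq', hq'q⟩ := h2 hqQ
    have hmP : (m : G) ∈ (P : Subgroup G) := (hPNmem m).mp (hM hm)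
    have e : (⟨y, hy⟩ : (P : Subgroup G)) = ⟨(m : G), hmP⟩ * ((⟨(m : G), hmP⟩ : (P : Subgroup G))⁻¹ * q' * ⟨(m : G), hmP⟩) := by
      apply Subtype.ext
      have h5 : (q : G) * (m : G) = y := congrArg Subtype.val hqm
      have h6 : ((q' : (P : Subgroup G)) : G) = (q : G) := hq'q
      simp only [Subgroup.coe_mul, Subgroup.coe_inv, h6]
      rw [← h5]; group
    rw [e]
    refine Subgroup.mul_mem_sup ?_ ?_
    · rw [hM', Subgroup.mem_subgroupOf]
      exact ⟨m, hm, rfl⟩
    · have hn : (frattini (P : Subgroup G)).Normal := inferInstance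
      have := hn.conj_mem q' hq' (⟨(m : G), hmP⟩ : (P : Subgroup G))⁻¹
      simpa using this
  have hM'top : M' = ⊤ := frattini_nongenerating htop
  intro z hz
  have hzP : (z : G) ∈ (P : Subgroup G) := (hPNmem z).mp hz
  have h7 : (⟨(z : G), hzP⟩ : (P : Subgroup G)) ∈ M' := by rw [hM'top]; exact Subgroup.mem_top _
  rw [hM', Subgroup.mem_subgroupOf] at h7
  obtain ⟨m, hm, hmz⟩ := h7
  have : m = z := Subtype.ext hmz
  rwa [← this]

end Cfsg.Agent.S3838
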