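import Cfsg.Statements.S3859
import Cfsg.Agent.Lib.Helper2.SylowNormal

set_option autoImplicit false
open Cfsg

namespace Cfsg.Agent.S3859

open Cfsg.Agent.Lib.Helper2

/-- a nontrivial `r`-subgroup of `T` whose intersection with `T` is normalised by all of `G`
cannot exist when `T` is nonabelian simple -/
theorem not_normal_inf {G : Type*} [Group G] [Finite G] (T : Subgroup G) [T.Normal]
    (hT : IsSimpleGroup T) (hna : ¬ IsMulCommutative T) {r : ℕ} [Fact r.Prime]
    (R : Subgroup G) (hR : IsPGroup r R) (hR0 : R ⊓ T ≠ ⊥) :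
    Subgroup.normalizer ((R ⊓ T : Subgroup G) : Set G) ≠ ⊤ := by
  intro h
  have hn : (R ⊓ T).Normal := Subgroup.normalizer_eq_top_iff.1 h
  have hn' : ((R ⊓ T).subgroupOf T).Normal := hn.subgroupOf T
  rcases hn'.eq_bot_or_eq_top with h1 | h1
  · apply hR0
    rw [Subgroup.subgroupOf_eq_bot] at h1
    rw [disjoint_iff, inf_assoc, inf_idem] at h1
    exact h1
  · rw [Subgroup.subgroupOf_eq_top] at h1
    have hTr : IsPGroup r T := hR.to_le (h1.trans inf_le_left)
    apply hna
    constructor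
    constructor
    exact comm_of_simple_of_isPGroup hTr

theorem isCoatom_map_conj {G : Type*} [Group G] {M : Subgroup G} (hM : IsCoatom M) (g : G) :
    IsCoatom (M.map (MulAut.conj g).toMonoidHom) := by
  have := (MulEquiv.mapSubgroup (MulAut.conj g)).isCoatom_iff M
  exact this.2 hM

/-- Let G be a finite group with a normal non-abelian simple subgroup T whose centralizer is trivial (G almost simple with socle T), r a prime and R a Sylow r-subgroup of G meeting T nontrivially. If R lies in exactly one maximal subgroup of G, then G/T is an r-group. -/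
theorem result {G : Type*} [Group G] [Finite G] (T : Subgroup G) [T.Normal] (hT : IsSimpleGroup T) (hna : ¬ IsMulCommutative T)
    (hC : Subgroup.centralizer (T : Set G) = ⊥) {r : ℕ} [Fact r.Prime] (R : Sylow r G) (hR0 : (R : Subgroup G) ⊓ T ≠ ⊥)
    (huniq : ∃! M : Subgroup G, IsCoatom M ∧ (R : Subgroup G) ≤ M) : IsPGroup r (G ⧸ T) := by
  obtain ⟨M, ⟨hMco, hRM⟩, hMuniq⟩ := huniq
  have hMuniq' : ∀ M' : Subgroup G, IsCoatom M' → (R : Subgroup G) ≤ M' → M' = M :=
    fun M' h1 h2 => hMuniq M' ⟨h1, h2⟩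
  -- Frattini argument
  obtain ⟨Q, hQ⟩ := exists_sylow_eq_inf_normal R T
  have hfr := Sylow.normalizer_sup_eq_top Q
  have hQmap : (Q : Subgroup T).map T.subtype = (R : Subgroup G) ⊓ T := by
    rw [hQ, Subgroup.subgroupOf_map_subtype, inf_assoc, inf_idem]
  rw [hQmap] at hfr
  have hNtop := not_normal_inf T hT hna (R : Subgroup G) R.2 hR0
  obtain ⟨M₀, hM₀co, hM₀⟩ := (eq_top_or_exists_le_coatom _).resolve_left hNtop
  have hRN : (R : Subgroup G) ≤ Subgroup.normalizer (((R : Subgroup G) ⊓ T : Subgroup G) : Set G) := by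
    intro x hx
    rw [Subgroup.mem_normalizer_iff]
    intro y
    constructor
    · rintro ⟨hy1, hy2⟩
      exact ⟨Subgroup.mul_mem _ (Subgroup.mul_mem _ hx hy1) (Subgroup.inv_mem _ hx),
        ‹T.Normal›.conj_mem y hy2 x⟩
    · rintro ⟨hy1, hy2⟩
      constructor
      · have : y = x⁻¹ * (x * y * x⁻¹) * x := by group
        rw [this]
        exact Subgroup.mul_mem _ (Subgroup.mul_mem _ (Subgroup.inv_mem _ hx) hy1) hx
      · have : y = x⁻¹ * (x * y * x⁻¹) * x⁻¹⁻¹ := by group
        rw [this]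
        exact ‹T.Normal›.conj_mem _ hy2 x⁻¹
  have hM₀M : M₀ = M := hMuniq' M₀ hM₀co (hRN.trans hM₀)
  have hMT : M ⊔ T = ⊤ := by
    rw [eq_top_iff, ← hfr, ← hM₀M]
    exact sup_le_sup_right hM₀ T
  -- R ⊔ T = ⊤
  have hRT : (R : Subgroup G) ⊔ T = ⊤ := by
    by_contra hne
    obtain ⟨M₁, hM₁co, hM₁⟩ := (eq_top_or_exists_le_coatom _).resolve_left hne
    have h1 : M₁ = M := hMuniq' M₁ hM₁co (le_sup_left.trans hM₁)
    have h2 : T ≤ M := by rw [← h1]; exact le_sup_right.trans hM₁
    rw [sup_eq_left.2 h2] at hMT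
    exact hMco.1 hMT
  intro x
  obtain ⟨g, rfl⟩ := QuotientGroup.mk_surjective x
  have hg : g ∈ (((R : Subgroup G) ⊔ T : Subgroup G) : Set G) := by rw [hRT]; trivial
  rw [Subgroup.mul_normal] at hg
  obtain ⟨a, ha, t, ht, rfl⟩ := hg
  obtain ⟨k, hk⟩ := R.2 ⟨a, ha⟩
  refine ⟨k, ?_⟩
  have h3 : (QuotientGroup.mk (a * t) : G ⧸ T) = QuotientGroup.mk a := by
    rw [QuotientGroup.mk_mul, (QuotientGroup.eq_one_iff t).2 ht, mul_one]
  rw [h3, ← QuotientGroup.mk_pow]
  have h4 : a ^ r ^ k = 1 := by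
    have := congrArg Subtype.val hk
    simpa using this
  rw [h4]; rfl

end Cfsg.Agent.S3859
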