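import Cfsg.Statements.S3858
import Cfsg.Agent.Lib.Helper2.SylowNormal
import Cfsg.Agent.S3859
import Cfsg.Agent.S3820

set_option autoImplicit false
open Cfsg

namespace Cfsg.Agent.S3858

open Cfsg.Agent.Lib.Helper2 Cfsg.Agent.S3859 Cfsg.Agent.S3820

theorem not_dvd_index_of_sylow_le {G : Type*} [Group G] [Finite G] {r : ℕ} [Fact r.Prime]
    (R : Sylow r G) {M : Subgroup G} (h : (R : Subgroup G) ≤ M) : ¬ r ∣ M.index := by
  intro hdvd
  exact R.not_dvd_index (hdvd.trans (Subgroup.index_dvd_of_le h))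

/-- a subgroup of `r'`-index contains a conjugate of the Sylow `r`-subgroup `R` -/
theorem sylow_le_conj {G : Type*} [Group G] [Finite G] {r : ℕ} [Fact r.Prime]
    (R : Sylow r G) {M : Subgroup G} (h : ¬ r ∣ M.index) :
    ∃ g : G, (R : Subgroup G) ≤ M.map (MulAut.conj g).toMonoidHom := by
  obtain ⟨g, hg⟩ := exists_conj_le_of_not_dvd_index R.2 h
  refine ⟨g, ?_⟩
  intro x hx
  exact ⟨g⁻¹ * x * g, hg x hx, by simp [mul_assoc]⟩

theorem map_conj_inv_map_conj {G : Type*} [Group G] (M : Subgroup G) (g : G) :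
    (M.map (MulAut.conj g).toMonoidHom).map (MulAut.conj g⁻¹).toMonoidHom = M := by
  rw [← map_conj_mul, inv_mul_cancel]
  ext y; simp

/-- Let G be a finite group with a normal non-abelian simple subgroup T whose centralizer is trivial (G almost simple with socle T), r a prime and R a Sylow r-subgroup of G meeting T nontrivially. Then R lies in exactly one maximal subgroup of G if and only if G has exactly one conjugacy class of maximal subgroups whose index is prime to r. -/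
theorem result {G : Type*} [Group G] [Finite G] (T : Subgroup G) [T.Normal] (hT : IsSimpleGroup T) (hna : ¬ IsMulCommutative T)
    (hC : Subgroup.centralizer (T : Set G) = ⊥) {r : ℕ} [Fact r.Prime] (R : Sylow r G) (hR0 : (R : Subgroup G) ⊓ T ≠ ⊥) :
    (∃! M : Subgroup G, IsCoatom M ∧ (R : Subgroup G) ≤ M) ↔
      ((∃ M : Subgroup G, IsCoatom M ∧ ¬ r ∣ M.index) ∧
        ∀ M₁ M₂ : Subgroup G, IsCoatom M₁ → ¬ r ∣ M₁.index → IsCoatom M₂ → ¬ r ∣ M₂.index → ∃ g : G, M₂ = M₁.map (MulAut.conj g).toMonoidHom) := by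
  constructor
  · rintro ⟨M, ⟨hMco, hRM⟩, hMuniq⟩
    have hMuniq' : ∀ M' : Subgroup G, IsCoatom M' → (R : Subgroup G) ≤ M' → M' = M :=
      fun M' h1 h2 => hMuniq M' ⟨h1, h2⟩
    refine ⟨⟨M, hMco, not_dvd_index_of_sylow_le R hRM⟩, ?_⟩
    have key : ∀ M₁ : Subgroup G, IsCoatom M₁ → ¬ r ∣ M₁.index →
        ∃ g : G, M₁.map (MulAut.conj g).toMonoidHom = M := by
      intro M₁ h1 h2
      obtain ⟨g, hg⟩ := sylow_le_conj R h2
      exact ⟨g, hMuniq' _ (isCoatom_map_conj h1 g) hg⟩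
    intro M₁ M₂ h1 h1' h2 h2'
    obtain ⟨g₁, hg₁⟩ := key M₁ h1 h1'
    obtain ⟨g₂, hg₂⟩ := key M₂ h2 h2'
    refine ⟨g₂⁻¹ * g₁, ?_⟩
    rw [map_conj_mul, hg₁, ← hg₂, map_conj_inv_map_conj]
  · rintro ⟨⟨M', hM'co, hM'⟩, hconj⟩
    -- a maximal subgroup containing the normalizer of R
    have hNtop : Subgroup.normalizer ((R : Subgroup G) : Set G) ≠ ⊤ := by
      intro h
      apply not_normal_inf T hT hna (R : Subgroup G) R.2 hR0
      have hn : (R : Subgroup G).Normal := Subgroup.normalizer_eq_top_iff.1 h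
      have : ((R : Subgroup G) ⊓ T).Normal := inferInstance
      exact Subgroup.normalizer_eq_top_iff.2 this
    obtain ⟨M₀, hM₀co, hM₀⟩ := (eq_top_or_exists_le_coatom _).resolve_left hNtop
    have hRM₀ : (R : Subgroup G) ≤ M₀ := Subgroup.le_normalizer.trans hM₀
    refine ⟨M₀, ⟨hM₀co, hRM₀⟩, ?_⟩
    rintro M₁ ⟨hM₁co, hRM₁⟩
    obtain ⟨g, hg⟩ := hconj M₀ M₁ hM₀co (not_dvd_index_of_sylow_le R hRM₀) hM₁co
      (not_dvd_index_of_sylow_le R hRM₁)
    -- R and g R g⁻¹ are Sylow subgroups of M₁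
    have hgR : ((g • R : Sylow r G) : Subgroup G) ≤ M₁ := by
      rw [hg]
      intro x hx
      rw [Sylow.smul_def, Sylow.pointwise_smul_def, Subgroup.mem_pointwise_smul_iff_inv_smul_mem]
        at hx
      refine ⟨_, hRM₀ hx, ?_⟩
      simp [MulAut.smul_def, mul_assoc]
    obtain ⟨m, hm⟩ := MulAction.exists_smul_eq M₁ ((g • R : Sylow r G).subtype hgR)
      (R.subtype hRM₁)
    have hm2 : ((m : G) * g) • R = R := by
      rw [mul_smul]
      apply Sylow.subtype_injective (hP := ?_) (hQ := hRM₁)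
      swap
      · intro x hx
        rw [Sylow.smul_def, Sylow.pointwise_smul_def,
          Subgroup.mem_pointwise_smul_iff_inv_smul_mem] at hx
        have h1 := hgR hx
        have h2 : x = m * ((m : G)⁻¹ * x * m) * (m : G)⁻¹ := by group
        rw [h2]
        refine M₁.mul_mem (M₁.mul_mem m.2 ?_) (M₁.inv_mem m.2)
        simpa [MulAut.smul_def] using h1
      · rw [← hm]
        apply Sylow.ext
        ext x
        simp only [Sylow.coe_subtype, Subgroup.mem_subgroupOf, Sylow.smul_def,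
          Sylow.pointwise_smul_def, Subgroup.mem_pointwise_smul_iff_inv_smul_mem]
        simp [MulAut.smul_def]
    have hmg : (m : G) * g ∈ M₀ := hM₀ (Sylow.smul_eq_iff_mem_normalizer.1 hm2)
    have hM₁ : M₁ = M₀ := by
      obtain ⟨mG, hmG, hmgG⟩ : ∃ mG : G, mG ∈ M₁ ∧ mG * g ∈ M₀ := ⟨m, m.2, hmg⟩
      clear hm2 hmg hm m
      have h1 : M₁.map (MulAut.conj mG).toMonoidHom = M₁ := by
        ext x
        constructor
        · rintro ⟨y, hy, rfl⟩
          exact M₁.mul_mem (M₁.mul_mem hmG hy) (M₁.inv_mem hmG)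
        · intro hx
          exact ⟨mG⁻¹ * x * mG, M₁.mul_mem (M₁.mul_mem (M₁.inv_mem hmG) hx) hmG,
            by simp [mul_assoc]⟩
      have h2 : (M₀.map (MulAut.conj g).toMonoidHom).map (MulAut.conj mG).toMonoidHom = M₀ := by
        rw [← map_conj_mul]
        ext x
        constructor
        · rintro ⟨y, hy, rfl⟩
          exact M₀.mul_mem (M₀.mul_mem hmgG hy) (M₀.inv_mem hmgG)
        · intro hx
          exact ⟨(mG * g)⁻¹ * x * (mG * g),
            M₀.mul_mem (M₀.mul_mem (M₀.inv_mem hmgG) hx) hmgG, by simp [mul_assoc]⟩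
      rw [← h1, ← h2, ← hg]
    exact hM₁

end Cfsg.Agent.S3858
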