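import Cfsg.Statements.S3862
import Cfsg.Agent.Lib.Helper1.PNilpotentLocal
import Cfsg.Agent.Lib.Helper1.FrattiniAction
import Cfsg.Agent.Lib.Helper1.FrattiniP
import Cfsg.Agent.Lib.Helper1.SZHelpers

set_option autoImplicit false
open Cfsg

namespace Cfsg.Agent.S3862

open Cfsg.Agent.Lib.Helper1

/-- if `g x g⁻¹ = x w` with `w` central then `g ^ k x g ^ (-k) = x w ^ k` -/
theorem conj_pow_eq {G : Type*} [Group G] {g x w : G} (hw : w ∈ Subgroup.center G)
    (h : g * x * g⁻¹ = x * w) (k : ℕ) : g ^ k * x * (g ^ k)⁻¹ = x * w ^ k := by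
  induction k with
  | zero => simp
  | succ k ih =>
    have hgw : g * w ^ k * g⁻¹ = w ^ k := by
      have := Subgroup.mem_center_iff.mp (Subgroup.pow_mem _ hw k) g
      rw [this, mul_inv_cancel_right]
    calc g ^ (k + 1) * x * (g ^ (k + 1))⁻¹ = g * (g ^ k * x * (g ^ k)⁻¹) * g⁻¹ := by
          rw [pow_succ']; group
      _ = g * (x * w ^ k) * g⁻¹ := by rw [ih]
      _ = (g * x * g⁻¹) * (g * w ^ k * g⁻¹) := by group
      _ = x * w * w ^ k := by rw [h, hgw]
      _ = x * w ^ (k + 1) := by rw [pow_succ', mul_assoc]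

/-- the Frobenius condition, by induction on the order of the `2`-subgroup -/
theorem frobenius_aux {G : Type*} [Group G] [Finite G]
    (h : ∀ x : G, (∃ j : ℕ, orderOf x = 2 ^ j) → IsConj x x⁻¹ → x ∈ Subgroup.center G) :
    ∀ n : ℕ, ∀ Q : Subgroup G, Nat.card Q = n → IsPGroup 2 Q →
      ∀ g ∈ Subgroup.normalizer (Q : Set G), Nat.Coprime (orderOf g) 2 →
        g ∈ Subgroup.centralizer (Q : Set G) := by
  haveI : Fact (Nat.Prime 2) := ⟨Nat.prime_two⟩
  intro n
  induction n using Nat.strong_induction_on with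
  | _ n ih =>
  intro Q hn hQ g hg hgo
  by_cases hQb : Q = ⊥
  · rw [hQb, Subgroup.mem_centralizer_iff]
    intro y hy
    have : y = 1 := hy
    rw [this, one_mul, mul_one]
  set Φ : Subgroup G := (frattini ↥Q).map Q.subtype with hΦ
  have hΦlt : Nat.card Φ < n := by
    rw [hΦ, Subgroup.card_map_of_injective Q.subtype_injective, ← hn]
    apply card_lt_of_ne_top
    intro htop
    have hbt : (⊥ : Subgroup ↥Q) = ⊤ := frattini_nongenerating (by rw [htop]; simp)
    apply hQb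
    rw [eq_bot_iff]
    intro y hy
    have : (⟨y, hy⟩ : ↥Q) ∈ (⊥ : Subgroup ↥Q) := by rw [hbt]; trivial
    rw [Subgroup.mem_bot] at this ⊢
    exact congrArg Subtype.val this
  have hΦQ : Φ ≤ Q := Subgroup.map_subtype_le _
  have hgΦ : g ∈ Subgroup.normalizer (Φ : Set G) :=
    normalizer_le_normalizer_map_characteristic Q (frattini ↥Q) hg
  have hcΦ := ih (Nat.card Φ) hΦlt Φ rfl (hQ.to_le hΦQ) g hgΦ hgo
  rw [Subgroup.mem_centralizer_iff]
  intro x hx
  have hxQ : x ∈ Q := hx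
  -- `g` centralizes `x ^ 2`
  have hx2 : x ^ 2 ∈ Φ := by
    have := pow_prime_mem_frattini_of_isPGroup 2 hQ (⟨x, hxQ⟩ : ↥Q)
    exact ⟨_, this, by simp⟩
  have hgx2 : g * x ^ 2 * g⁻¹ = x ^ 2 := by
    have := Subgroup.mem_centralizer_iff.mp hcΦ (x ^ 2) hx2
    rw [← this, mul_inv_cancel_right]
  set u := g * x * g⁻¹ with hu
  have huQ : u ∈ Q := (Subgroup.mem_normalizer_iff.mp hg x).mp hxQ
  have hu2 : u ^ 2 = x ^ 2 := by rw [hu, conj_pow, hgx2]
  set w := x⁻¹ * u with hw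
  have hwQ : w ∈ Q := Q.mul_mem (Q.inv_mem hxQ) huQ
  have hreal : IsConj w w⁻¹ := by
    rw [isConj_iff]
    refine ⟨x, ?_⟩
    rw [hw, mul_inv_rev, inv_inv]
    have h1 : u * x⁻¹ = u⁻¹ * x := by
      have : u⁻¹ * (u ^ 2) * x⁻¹ = u⁻¹ * (x ^ 2) * x⁻¹ := by rw [hu2]
      rw [pow_two, pow_two] at this
      simpa [mul_assoc] using this
    calc x * (x⁻¹ * u) * x⁻¹ = u * x⁻¹ := by group
      _ = u⁻¹ * x := h1
  have hw2 : ∃ j : ℕ, orderOf w = 2 ^ j := by
    obtain ⟨j, hj⟩ := (IsPGroup.iff_orderOf.mp hQ) ⟨w, hwQ⟩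
    exact ⟨j, by rw [← hj, Subgroup.orderOf_mk]⟩
  have hwc := h w hw2 hreal
  have hgx : g * x * g⁻¹ = x * w := by rw [hw, ← mul_assoc, mul_inv_cancel, one_mul]
  have h1 := conj_pow_eq hwc hgx (orderOf g)
  rw [pow_orderOf_eq_one, inv_one, one_mul, mul_one] at h1
  have h2 : w ^ orderOf g = 1 := by
    have := mul_left_cancel (a := x) (b := 1) (c := w ^ orderOf g) (by rw [mul_one]; exact h1)
    exact this.symm
  obtain ⟨j, hj⟩ := hw2
  have h3 : orderOf w = 1 :=
    Nat.eq_one_of_dvd_coprimes (hgo.pow_right j) (orderOf_dvd_of_pow_eq_one h2)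
      (by rw [hj])
  rw [orderOf_eq_one_iff] at h3
  rw [h3, mul_one] at hgx
  have := congrArg (fun t => t * g) hgx
  simpa using this.symm

/-- If every 2-element of the finite group G that is conjugate to its inverse lies in the centre of G, then G has a normal 2-complement. -/
theorem result {G : Type*} [Group G] [Finite G] (h : ∀ x : G, (∃ j : ℕ, orderOf x = 2 ^ j) → IsConj x x⁻¹ → x ∈ Subgroup.center G) : Cfsg.HasNormalPComplement 2 G := by
  haveI : Fact (Nat.Prime 2) := ⟨Nat.prime_two⟩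
  rw [hasNormalPComplement_iff_frobeniusCondition]
  intro Q hQ g hg hgo
  exact frobenius_aux h (Nat.card Q) Q rfl hQ g hg hgo

end Cfsg.Agent.S3862
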