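import Cfsg.Statements.S3863
import Mathlib

set_option autoImplicit false
open Cfsg

namespace Cfsg.Agent.S3863

theorem aux_inv {G : Type*} [Group G] {a b : G} (h : IsConj a b) : IsConj a⁻¹ b⁻¹ := by
  obtain ⟨c, hc⟩ := isConj_iff.1 h
  rw [isConj_iff]
  exact ⟨c, by rw [← hc]; group⟩

theorem aux1 {G : Type*} [Group G] [Finite G] (x : G) (hx : IsConj x x⁻¹) :
    ∃ t : G, (∃ j : ℕ, orderOf t = 2 ^ j) ∧ t * x * t⁻¹ = x⁻¹ := by
  obtain ⟨g, hg⟩ := isConj_iff.1 hx
  obtain ⟨j, m, hm, hjm⟩ := Nat.exists_eq_two_pow_mul_odd (orderOf_pos g).ne'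
  have hm0 : m ≠ 0 := by rintro rfl; simp at hm
  refine ⟨g ^ m, ⟨j, ?_⟩, ?_⟩
  · rw [orderOf_pow_of_dvd hm0 (by rw [hjm]; exact Dvd.intro_left _ rfl), hjm,
      Nat.mul_div_cancel _ (Nat.pos_of_ne_zero hm0)]
  · obtain ⟨l, rfl⟩ := hm
    have h2 : Commute (g ^ 2) x := by
      have : g ^ 2 * x * (g ^ 2)⁻¹ = x := by
        have : g ^ 2 * x * (g ^ 2)⁻¹ = g * (g * x * g⁻¹) * g⁻¹ := by
          simp [pow_two, mul_assoc]
        rw [this, hg]
        have : g * x⁻¹ * g⁻¹ = (g * x * g⁻¹)⁻¹ := by group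
        rw [this, hg, inv_inv]
      exact mul_inv_eq_iff_eq_mul.1 this
    have h3 : Commute ((g ^ 2) ^ l) x⁻¹ := (h2.pow_left l).inv_right
    have h4 : g ^ (2 * l + 1) * x * (g ^ (2 * l + 1))⁻¹ =
        (g ^ 2) ^ l * (g * x * g⁻¹) * ((g ^ 2) ^ l)⁻¹ := by
      rw [pow_succ, pow_mul]; group
    rw [h4, hg, h3.eq]; group

/-- Let x be an element of the finite group G that is conjugate to its inverse. Then some 2-element conjugates x to its inverse; if the conjugacy class of x has odd size then x ^ 2 = 1; and x lies in, and is conjugate to its inverse inside, every normal subgroup of odd index. -/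
theorem result {G : Type*} [Group G] [Finite G] (x : G) (hx : IsConj x x⁻¹) : (∃ t : G, (∃ j : ℕ, orderOf t = 2 ^ j) ∧ t * x * t⁻¹ = x⁻¹) ∧ (Odd (Subgroup.centralizer ({x} : Set G)).index → x ^ 2 = 1) ∧ ∀ (N : Subgroup G) [N.Normal], Odd N.index → ∃ hxN : x ∈ N, IsConj (⟨x, hxN⟩ : N) (⟨x, hxN⟩ : N)⁻¹ := by
  classical
  obtain ⟨t, ⟨j, hj⟩, ht⟩ := aux1 x hx
  refine ⟨⟨t, ⟨j, hj⟩, ht⟩, ?_, ?_⟩
  · -- odd class size
    intro hodd
    have hidx : (Subgroup.centralizer ({x} : Set G)).index = (MulAction.orbit (ConjAct G) x).ncard := by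
      have h := Subgroup.index_comap_of_surjective (MulAction.stabilizer (ConjAct G) x)
        (f := (ConjAct.toConjAct (G := G)).toMonoidHom) (ConjAct.toConjAct (G := G)).surjective
      rw [Subgroup.centralizer_eq_comap_stabilizer]
      exact h.trans (MulAction.index_stabilizer _ _)
    haveI : Fintype G := Fintype.ofFinite G
    let α := {y : G // IsConj y x}
    have hα : Nat.card α = (MulAction.orbit (ConjAct G) x).ncard := by
      rw [← Nat.card_coe_set_eq]
      apply Nat.card_congr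
      exact Equiv.subtypeEquivRight (fun y => ConjAct.mem_orbit_conjAct.symm)
    let σ : Equiv.Perm α :=
      { toFun := fun y => ⟨(y : G)⁻¹, by
          have h1 : IsConj (y : G)⁻¹ x⁻¹ := aux_inv y.2
          exact h1.trans hx.symm⟩
        invFun := fun y => ⟨(y : G)⁻¹, by
          have h1 : IsConj (y : G)⁻¹ x⁻¹ := aux_inv y.2
          exact h1.trans hx.symm⟩
        left_inv := fun y => Subtype.ext (inv_inv _)
        right_inv := fun y => Subtype.ext (inv_inv _) }
    have hσ : σ ^ 2 ^ 1 = 1 := by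
      ext y
      simp [σ, pow_two]
    have hcard : ¬ 2 ∣ Fintype.card α := by
      rw [← Nat.card_eq_fintype_card, hα, ← hidx]
      exact Nat.odd_iff.1 hodd |> fun h => by omega
    obtain ⟨y, hy⟩ := Equiv.Perm.exists_fixed_point_of_prime (p := 2) (n := 1) hcard hσ
    have hy2 : (y : G)⁻¹ = y := congrArg Subtype.val hy
    have hy3 : (y : G) ^ 2 = 1 := by
      rw [pow_two]; nth_rewrite 1 [← hy2]; exact inv_mul_cancel _
    obtain ⟨c, hc⟩ := isConj_iff.1 y.2
    rw [← hc]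
    rw [conj_pow, hy3]; group
  · intro N _ hodd
    have hidx : N.index = Nat.card (G ⧸ N) := Subgroup.index_eq_card N
    have hcop : ∀ k : ℕ, Nat.Coprime (2 ^ k) N.index := by
      intro k
      apply Nat.Coprime.pow_left
      exact (Nat.coprime_two_left).2 hodd
    have key : ∀ g : G, ∀ k : ℕ, g ^ 2 ^ k ∈ N → g ∈ N := by
      intro g k hg
      rw [← QuotientGroup.eq_one_iff] at hg ⊢
      have h1 : orderOf (g : G ⧸ N) ∣ 2 ^ k := orderOf_dvd_of_pow_eq_one (by
        rw [← QuotientGroup.mk_pow]; exact hg)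
      have h2 : orderOf (g : G ⧸ N) ∣ N.index := by
        rw [hidx]; exact orderOf_dvd_natCard _
      have := Nat.eq_one_of_dvd_coprimes (hcop k) h1 h2
      exact orderOf_eq_one_iff.1 this
    have htN : t ∈ N := key t j (by rw [← hj, pow_orderOf_eq_one]; exact one_mem _)
    have hxN : x ∈ N := by
      apply key x 1
      have : x ^ 2 ^ 1 = x * t * x⁻¹ * t⁻¹ := by
        have : x⁻¹ = t * x * t⁻¹ := ht.symm
        have h5 : x * t * x⁻¹ * t⁻¹ = x * (t * x⁻¹ * t⁻¹) := by group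
        have h6 : t * x⁻¹ * t⁻¹ = (t * x * t⁻¹)⁻¹ := by group
        rw [h5, h6, ht, inv_inv]; simp [pow_two]
      rw [this]
      have h7 : x * t * x⁻¹ ∈ N := ‹N.Normal›.conj_mem t htN x
      exact N.mul_mem h7 (N.inv_mem htN)
    refine ⟨hxN, ?_⟩
    rw [isConj_iff]
    exact ⟨⟨t, htN⟩, Subtype.ext ht⟩

end Cfsg.Agent.S3863
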