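import Cfsg.Statements.S3867
import Cfsg.Agent.Lib.Helper2.SylowNormal2
import Cfsg.Agent.S3800

set_option autoImplicit false
open Cfsg

namespace Cfsg.Agent.S3867

open Cfsg.Agent.Lib.Helper2

section
variable {G : Type*} [Group G] [Finite G] (p : ℕ) [Fact p.Prime] (M N : Subgroup G) [M.Normal]
  [N.Normal] (hMN : M ⊓ N = ⊥)

include hMN in
theorem comm_MN (m n : G) (hm : m ∈ M) (hn : n ∈ N) : m * n = n * m :=
  (Subgroup.commute_of_normal_of_disjoint M N inferInstance inferInstance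
    (disjoint_iff.2 hMN) m n hm hn).eq

include hMN in
/-- if `μ ν ∈ P` with `μ ∈ M`, `ν ∈ N` then `ν ∈ P` -/
theorem claimC (P : Sylow p G) (μ ν : G) (hμ : μ ∈ M) (hν : ν ∈ N)
    (hc : μ * ν ∈ (P : Subgroup G)) : ν ∈ (P : Subgroup G) := by
  have hcomm := comm_MN M N hMN
  obtain ⟨a, ha⟩ := P.2 ⟨μ * ν, hc⟩
  have ha' : (μ * ν) ^ p ^ a = 1 := by
    have := congrArg Subtype.val ha
    simpa using this
  have hνpow : ν ^ p ^ a = 1 := by
    have hcm : Commute μ ν := hcomm μ ν hμ hν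
    rw [hcm.mul_pow] at ha'
    have h1 : ν ^ p ^ a = (μ ^ p ^ a)⁻¹ := (inv_eq_of_mul_eq_one_right ha').symm
    have h2 : ν ^ p ^ a ∈ M ⊓ N := by
      refine ⟨?_, N.pow_mem hν _⟩
      rw [h1]; exact M.inv_mem (M.pow_mem hμ _)
    rw [hMN, Subgroup.mem_bot] at h2
    exact h2
  obtain ⟨Q, hQ⟩ := exists_sylow_eq_inf_normal P N
  set ν' : N := ⟨ν, hν⟩ with hν'
  have hzp : IsPGroup p (Subgroup.zpowers ν') := by
    rintro ⟨g, hg⟩
    obtain ⟨j, rfl⟩ := Subgroup.mem_zpowers_iff.1 hg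
    refine ⟨a, ?_⟩
    apply Subtype.ext
    apply Subtype.ext
    simp only [Subgroup.coe_pow, Subgroup.coe_zpow, Subgroup.coe_one, hν']
    rw [← zpow_natCast, ← zpow_mul, mul_comm, zpow_mul, zpow_natCast, hνpow, one_zpow]
  have hnorm : ν' ∈ Subgroup.normalizer ((Q : Subgroup N) : Set N) := by
    apply Cfsg.Agent.S3800.mem_normalizer_of_conj_le
    intro u hu
    rw [hQ, Subgroup.mem_subgroupOf] at hu ⊢
    have huP : (u : G) ∈ (P : Subgroup G) := hu.1
    have h1 : (μ * ν) * u * (μ * ν)⁻¹ ∈ (P : Subgroup G) :=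
      Subgroup.mul_mem _ (Subgroup.mul_mem _ hc huP) (Subgroup.inv_mem _ hc)
    have h2 : (μ * ν) * u * (μ * ν)⁻¹ ∈ N := ‹N.Normal›.conj_mem u u.2 _
    have h3 : ((ν' * u * ν'⁻¹ : N) : G) = (μ * ν) * u * (μ * ν)⁻¹ := by
      have h4 := hcomm μ⁻¹ _ (M.inv_mem hμ) h2
      have h5 : ν * u * ν⁻¹ = μ⁻¹ * ((μ * ν) * u * (μ * ν)⁻¹) * μ := by group
      simp only [Subgroup.coe_mul, Subgroup.coe_inv, hν']
      rw [h5, h4]; group
    rw [h3]
    exact ⟨h1, h2⟩
  have h6 := hzp.inf_normalizer_sylow Q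
  have h7 : ν' ∈ Subgroup.zpowers ν' ⊓ (Q : Subgroup N) :=
    h6.le ⟨Subgroup.mem_zpowers ν', hnorm⟩
  have h8 : ν' ∈ (Q : Subgroup N) := h7.2
  rw [hQ, Subgroup.mem_subgroupOf] at h8
  exact h8.1

include hMN in
theorem key (P : Sylow p G) :
    (Subgroup.normalizer ((P : Subgroup G) : Set G) ⊔ N) ⊓ M ≤
      Subgroup.normalizer ((P : Subgroup G) : Set G) := by
  have hcomm := comm_MN M N hMN
  rintro m ⟨hmHN, hmM⟩
  have hmHN' : m ∈ ((Subgroup.normalizer ((P : Subgroup G) : Set G) ⊔ N : Subgroup G) : Set G) :=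
    hmHN
  rw [Subgroup.mul_normal] at hmHN'
  obtain ⟨h, hh, n, hn, rfl⟩ := hmHN'
  have hmM : h * n ∈ M := hmM
  apply Cfsg.Agent.S3800.mem_normalizer_of_conj_le
  intro x hx
  set m := h * n with hm
  have hh' : h = m * n⁻¹ := by rw [hm]; group
  have hhx : h * x * h⁻¹ ∈ (P : Subgroup G) := (Subgroup.mem_normalizer_iff.1 hh x).1 hx
  set μ := x⁻¹ * (m * x * m⁻¹) with hμdef
  set ν := x⁻¹ * n⁻¹ * x * n with hνdef
  have hμ : μ ∈ M := by
    have : μ = (x⁻¹ * m * x⁻¹⁻¹) * m⁻¹ := by rw [hμdef]; group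
    rw [this]
    exact M.mul_mem (‹M.Normal›.conj_mem m hmM x⁻¹) (M.inv_mem hmM)
  have hν : ν ∈ N := by
    have : ν = (x⁻¹ * n⁻¹ * x⁻¹⁻¹) * n := by rw [hνdef]; group
    rw [this]
    exact N.mul_mem (‹N.Normal›.conj_mem n⁻¹ (N.inv_mem hn) x⁻¹) hn
  have hμν : μ * ν = x⁻¹ * (h * x * h⁻¹) := by
    have h1 : m * ν = ν * m := hcomm m ν hmM hν
    have h2 : h * x * h⁻¹ = m * x * (x⁻¹ * n⁻¹ * x * n) * m⁻¹ := by rw [hh']; group
    rw [h2, ← hνdef]
    have h3 : m * x * ν * m⁻¹ = m * x * m⁻¹ * (m * ν * m⁻¹) := by group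
    rw [h3, h1, hμdef]; group
  have hc : μ * ν ∈ (P : Subgroup G) := by
    rw [hμν]
    exact Subgroup.mul_mem _ (Subgroup.inv_mem _ hx) hhx
  have hνP := claimC p M N hMN P μ ν hμ hν hc
  have hμP : μ ∈ (P : Subgroup G) := by
    have : μ = (μ * ν) * ν⁻¹ := by group
    rw [this]
    exact Subgroup.mul_mem _ hc (Subgroup.inv_mem _ hνP)
  have : m * x * m⁻¹ = x * μ := by rw [hμdef]; group
  rw [this]
  exact Subgroup.mul_mem _ hx hμP

end

/-- Let M and N be nontrivial normal subgroups of the finite group G with M ⊓ N trivial, and let p be a prime. Writing n(X) for the number of Sylow p-subgroups of a group X, one has n(G) · n(G/MN) = n(G/M) · n(G/N). -/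
theorem result {G : Type*} [Group G] [Finite G] (p : ℕ) [Fact p.Prime] (M N : Subgroup G) [M.Normal] [N.Normal] (hM : M ≠ ⊥) (hN : N ≠ ⊥) (hMN : M ⊓ N = ⊥) : Nat.card (Sylow p G) * Nat.card (Sylow p (G ⧸ (M ⊔ N))) = Nat.card (Sylow p (G ⧸ M)) * Nat.card (Sylow p (G ⧸ N)) := by
  obtain ⟨P⟩ : Nonempty (Sylow p G) := inferInstance
  set H := Subgroup.normalizer ((P : Subgroup G) : Set G) with hH
  rw [Sylow.card_eq_index_normalizer P, card_sylow_quotient P (M ⊔ N), card_sylow_quotient P M,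
    card_sylow_quotient P N, ← hH]
  have hkey := key p M N hMN P
  rw [← hH] at hkey
  have hc : (H ⊔ N) ⊓ M = H ⊓ M :=
    le_antisymm (le_inf hkey inf_le_right) (inf_le_inf_right M le_sup_left)
  have ha := card_sup_mul_card_inf H M
  have hb := card_sup_mul_card_inf (H ⊔ N) M
  rw [hc] at hb
  have hsup : H ⊔ N ⊔ M = H ⊔ (M ⊔ N) := by rw [sup_assoc, sup_comm N M]
  rw [hsup] at hb
  -- cardinalities
  have i1 := Subgroup.index_mul_card H
  have i2 := Subgroup.index_mul_card (H ⊔ M)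
  have i3 := Subgroup.index_mul_card (H ⊔ N)
  have i4 := Subgroup.index_mul_card (H ⊔ (M ⊔ N))
  have pa : 0 < Nat.card H := Nat.card_pos
  have pb : 0 < Nat.card (H ⊔ M : Subgroup G) := Nat.card_pos
  have pc : 0 < Nat.card (H ⊔ N : Subgroup G) := Nat.card_pos
  have pd : 0 < Nat.card (H ⊔ (M ⊔ N) : Subgroup G) := Nat.card_pos
  have pm : 0 < Nat.card M := Nat.card_pos
  have pi : 0 < Nat.card (H ⊓ M : Subgroup G) := Nat.card_pos
  generalize Nat.card H = a at *
  generalize Nat.card (H ⊔ M : Subgroup G) = b at *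
  generalize Nat.card (H ⊔ N : Subgroup G) = c at *
  generalize Nat.card (H ⊔ (M ⊔ N) : Subgroup G) = d at *
  generalize Nat.card M = cm at *
  generalize Nat.card (H ⊓ M : Subgroup G) = ci at *
  generalize Nat.card G = g at *
  generalize H.index = ia at *
  generalize (H ⊔ M).index = ib at *
  generalize (H ⊔ N).index = ic at *
  generalize (H ⊔ (M ⊔ N)).index = id at *
  have h1 : d * a = c * b := by
    have : d * a * (cm * ci) = c * b * (cm * ci) := by
      calc d * a * (cm * ci) = (d * ci) * (a * cm) := by ring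
        _ = (c * cm) * (b * ci) := by rw [hb, ha]
        _ = _ := by ring
    exact Nat.eq_of_mul_eq_mul_right (Nat.mul_pos pm pi) this
  have h2 : ia * id * (d * a) = ib * ic * (d * a) := by
    calc ia * id * (d * a) = (ia * a) * (id * d) := by ring
      _ = g * g := by rw [i1, i4]
      _ = (ib * b) * (ic * c) := by rw [i2, i3]
      _ = ib * ic * (c * b) := by ring
      _ = _ := by rw [h1]
  exact Nat.eq_of_mul_eq_mul_right (Nat.mul_pos pd pa) h2

end Cfsg.Agent.S3867
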