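import Cfsg.Statements.S3869
import Cfsg.Agent.Lib.Helper2.IrredAction
import Cfsg.Agent.Lib.Helper2.PGroup
import Cfsg.Agent.S3800

set_option autoImplicit false
open Cfsg

namespace Cfsg.Agent.S3869

open Cfsg.Agent.Lib.Helper2

/-- if `y ∉ A` centralizes the abelian subgroup `A` of prime index, then `G` is commutative. -/
theorem comm_of_centralizes {G : Type*} [Group G] {p : ℕ} (hp : p.Prime) (A : Subgroup G)
    (hAc : ∀ a ∈ A, ∀ b ∈ A, a * b = b * a) (hidx : A.index = p) (y : G) (hy : y ∉ A)
    (hyA : ∀ a ∈ A, y * a = a * y) : ∀ g h : G, g * h = h * g := by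
  have htop : A ⊔ Subgroup.zpowers y = ⊤ := by
    apply sup_eq_top_of_index_prime hp hidx
    intro h
    exact hy (h (Subgroup.mem_zpowers y))
  have hcen : A ⊔ Subgroup.zpowers y ≤ Subgroup.center G := by
    rw [sup_le_iff]
    constructor
    · intro a ha
      have h1 : A ⊔ Subgroup.zpowers y ≤ Subgroup.centralizer {a} := by
        rw [sup_le_iff]
        refine ⟨fun b hb => ?_, ?_⟩
        · rw [Subgroup.mem_centralizer_singleton_iff]
          exact hAc b hb a ha
        · rw [Subgroup.zpowers_le, Subgroup.mem_centralizer_singleton_iff]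
          exact hyA a ha
      rw [Subgroup.mem_center_iff]
      intro g
      have : g ∈ Subgroup.centralizer {a} := h1 (by rw [htop]; trivial)
      exact Subgroup.mem_centralizer_singleton_iff.1 this
    · rw [Subgroup.zpowers_le]
      have h1 : A ⊔ Subgroup.zpowers y ≤ Subgroup.centralizer {y} := by
        rw [sup_le_iff]
        refine ⟨fun b hb => ?_, ?_⟩
        · rw [Subgroup.mem_centralizer_singleton_iff]
          exact (hyA b hb).symm
        · rw [Subgroup.zpowers_le, Subgroup.mem_centralizer_singleton_iff]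
      rw [Subgroup.mem_center_iff]
      intro g
      have : g ∈ Subgroup.centralizer {y} := h1 (by rw [htop]; trivial)
      exact Subgroup.mem_centralizer_singleton_iff.1 this
  intro g h
  have : h ∈ Subgroup.center G := hcen (by rw [htop]; trivial)
  exact (Subgroup.mem_center_iff.1 this g)

/-- a `p`-group is `p`-closed -/
theorem isPClosed_of_isPGroup {H : Type*} [Group H] {p : ℕ} (hH : IsPGroup p H) :
    Cfsg.IsPClosed p H := by
  intro P
  have htop : IsPGroup p (⊤ : Subgroup H) := by
    intro g
    obtain ⟨k, hk⟩ := hH (g : H)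
    exact ⟨k, Subtype.ext (by simpa using hk)⟩
  have : (⊤ : Subgroup H) = P := P.is_maximal' htop le_top
  rw [← this]
  infer_instance

/-- Let p and q be distinct primes and G a finite non-abelian group with a normal elementary abelian q-subgroup A that is a minimal normal subgroup of G and has index p. Then A has order q^e with e the multiplicative order of q modulo p, and G is minimal non-p-closed: its Sylow p-subgroups are not normal, while in every proper subgroup and in every proper quotient of G the Sylow p-subgroups are normal. -/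
theorem result {G : Type*} [Group G] [Finite G] {p q : ℕ} [Fact p.Prime] (hq : q.Prime) (hpq : q ≠ p)
    (hna : ¬ IsMulCommutative G) (A : Subgroup G) [A.Normal] (hA : Cfsg.IsElementaryAbelian q A) (hidx : A.index = p)
    (hmin : ∀ B : Subgroup G, B.Normal → B ≤ A → B = ⊥ ∨ B = A) :
    Nat.card ↥A = q ^ orderOf (q : ZMod p) ∧ ¬ Cfsg.IsPClosed p G ∧ (∀ H : Subgroup G, H ≠ ⊤ → Cfsg.IsPClosed p ↥H) ∧
      ∀ (N : Subgroup G) [N.Normal], N ≠ ⊥ → Cfsg.IsPClosed p (G ⧸ N) := by
  have hp : p.Prime := Fact.out
  obtain ⟨hAc', hAq⟩ := hA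
  have hAc : ∀ a ∈ A, ∀ b ∈ A, a * b = b * a := fun a ha b hb =>
    congrArg Subtype.val (hAc'.is_comm.comm (⟨a, ha⟩ : A) ⟨b, hb⟩)
  have hcard : Nat.card A * p = Nat.card G := by rw [← hidx]; exact A.card_mul_index
  obtain ⟨x, hx⟩ := exists_prime_orderOf_dvd_card' p
    (show p ∣ Nat.card G by rw [← hcard]; exact Dvd.intro_left _ rfl)
  have hxp : x ^ p = 1 := by rw [← hx]; exact pow_orderOf_eq_one x
  have hnotA : ∀ y : G, orderOf y = p → y ∉ A := by
    intro y hy hyA
    have h1 : y ^ q = 1 := hAq y hyA
    have h2 : p ∣ q := by rw [← hy]; exact orderOf_dvd_of_pow_eq_one h1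
    exact hpq ((Nat.prime_dvd_prime_iff_eq hp hq).1 h2).symm
  have hnc : ∀ y : G, y ∉ A → ∃ a ∈ A, y * a * y⁻¹ ≠ a := by
    intro y hy
    by_contra hcon
    push Not at hcon
    apply hna
    refine ⟨⟨?_⟩⟩
    exact comm_of_centralizes hp A hAc hidx y hy (fun a ha => by
      have := hcon a ha
      rw [mul_inv_eq_iff_eq_mul] at this
      exact this)
  have hnormal : ∀ y : G, y ∉ A → ∀ B : Subgroup G, B ≤ A → (∀ b ∈ B, y * b * y⁻¹ ∈ B) →
      B.Normal := by
    intro y hy B hBA hB
    have htop : A ⊔ Subgroup.zpowers y = ⊤ :=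
      sup_eq_top_of_index_prime hp hidx (fun h => hy (h (Subgroup.mem_zpowers y)))
    have hle : A ⊔ Subgroup.zpowers y ≤ Subgroup.normalizer (B : Set G) := by
      rw [sup_le_iff]
      constructor
      · intro a ha
        apply Cfsg.Agent.S3800.mem_normalizer_of_conj_le
        intro u hu
        have : a * u * a⁻¹ = u := by rw [hAc a ha u (hBA hu), mul_inv_cancel_right]
        rw [this]; exact hu
      · rw [Subgroup.zpowers_le]
        exact Cfsg.Agent.S3800.mem_normalizer_of_conj_le B y hB
    rw [htop] at hle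
    exact Subgroup.normalizer_eq_top_iff.1 (top_le_iff.1 hle)
  have hAn : A.Normal := inferInstance
  have h1 : Nat.card A = q ^ orderOf (q : ZMod p) := by
    apply card_eq_pow_orderOf_of_irreducible_conj hp hq hpq.symm A hAc hAq x
      (fun a ha => hAn.conj_mem a ha x) hxp (hnc x (hnotA x hx))
    intro B hBA hB
    exact hmin B (hnormal x (hnotA x hx) B hBA hB) hBA
  -- cardinality of a subgroup meeting A trivially
  have hsmall : ∀ H : Subgroup G, H ⊓ A = ⊥ → Nat.card H ∣ p := by
    intro H hHA
    have h5 : A.relIndex H ∣ A.index := Subgroup.relIndex_dvd_index_of_normal A H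
    have h6 : A.relIndex H = Nat.card H := by
      rw [← Subgroup.inf_relIndex_right, inf_comm, hHA, Subgroup.relIndex_bot_left]
    rw [h6, hidx] at h5
    exact h5
  have h2 : ¬ Cfsg.IsPClosed p G := by
    intro hcl
    have hz : IsPGroup p (Subgroup.zpowers x) :=
      IsPGroup.of_card (n := 1) (by rw [Nat.card_zpowers, hx, pow_one])
    obtain ⟨P, hP⟩ := hz.exists_le_sylow
    have hPn : (P : Subgroup G).Normal := hcl P
    have hdisj : Disjoint (P : Subgroup G) A := by
      rw [Subgroup.disjoint_def]
      intro g hgP hgA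
      obtain ⟨k, hk⟩ := (IsPGroup.iff_orderOf.1 P.isPGroup') ⟨g, hgP⟩
      rw [Subgroup.orderOf_mk] at hk
      have h3 : orderOf g ∣ q := orderOf_dvd_of_pow_eq_one (hAq g hgA)
      rcases Nat.eq_zero_or_pos k with h0 | h0
      · rw [h0, pow_zero] at hk
        exact orderOf_eq_one_iff.1 hk
      · exfalso
        have h4 : p ∣ q := (dvd_pow_self p h0.ne').trans (hk ▸ h3)
        exact hpq ((Nat.prime_dvd_prime_iff_eq hp hq).1 h4).symm
    obtain ⟨a, ha, hne⟩ := hnc x (hnotA x hx)
    apply hne
    have := Subgroup.commute_of_normal_of_disjoint (P : Subgroup G) A hPn hAn hdisj x a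
      (hP (Subgroup.mem_zpowers x)) ha
    rw [this.eq, mul_inv_cancel_right]
  refine ⟨h1, h2, ?_, ?_⟩
  · intro H hH
    by_cases hpH : p ∣ Nat.card H
    · obtain ⟨y, hy⟩ := exists_prime_orderOf_dvd_card' p hpH
      have hyG : orderOf (y : G) = p := by rw [Subgroup.orderOf_coe]; exact hy
      have hyA : (y : G) ∉ A := hnotA _ hyG
      have htop : A ⊔ Subgroup.zpowers (y : G) = ⊤ :=
        sup_eq_top_of_index_prime hp hidx (fun h => hyA (h (Subgroup.mem_zpowers _)))
      have hn : (H ⊓ A).Normal := by
        apply hnormal y hyA (H ⊓ A) inf_le_right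
        intro b hb
        exact ⟨H.mul_mem (H.mul_mem y.2 hb.1) (H.inv_mem y.2), hAn.conj_mem b hb.2 y⟩
      rcases hmin (H ⊓ A) hn inf_le_right with h | h
      · apply isPClosed_of_isPGroup
        have h7 := hsmall H h
        rcases (Nat.dvd_prime hp).1 h7 with h8 | h8
        · exact IsPGroup.of_card (n := 0) (by rw [h8, pow_zero])
        · exact IsPGroup.of_card (n := 1) (by rw [h8, pow_one])
      · exfalso
        apply hH
        rw [eq_top_iff, ← htop, sup_le_iff]
        exact ⟨h ▸ inf_le_left, (Subgroup.zpowers_le).2 y.2⟩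
    · intro P
      have : (P : Subgroup H) = ⊥ := by
        obtain ⟨k, hk⟩ := IsPGroup.iff_card.1 P.isPGroup'
        rcases Nat.eq_zero_or_pos k with h0 | h0
        · rw [h0, pow_zero] at hk
          exact Subgroup.card_eq_one.1 hk
        · exfalso
          apply hpH
          have : p ∣ Nat.card (P : Subgroup H) := hk ▸ dvd_pow_self p h0.ne'
          exact this.trans (Subgroup.card_subgroup_dvd_card _)
      rw [this]
      infer_instance
  · intro N _ hN
    have hNA : (N ⊓ A).Normal := inferInstance
    rcases hmin (N ⊓ A) hNA inf_le_right with h | h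
    · exfalso
      have hNp : Nat.card N ∣ p := hsmall N h
      have hNcard : Nat.card N = p := by
        rcases (Nat.dvd_prime hp).1 hNp with h8 | h8
        · exact absurd (Subgroup.card_eq_one.1 h8) hN
        · exact h8
      obtain ⟨y, hy⟩ := exists_prime_orderOf_dvd_card' (G := N) p (hNcard ▸ dvd_rfl)
      have hyA : (y : G) ∉ A := hnotA _ (by rw [Subgroup.orderOf_coe]; exact hy)
      obtain ⟨a, ha, hne⟩ := hnc y hyA
      apply hne
      have hdisj : Disjoint N A := disjoint_iff.2 h
      have := Subgroup.commute_of_normal_of_disjoint N A inferInstance hAn hdisj y a y.2 ha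
      rw [this.eq, mul_inv_cancel_right]
    · apply isPClosed_of_isPGroup
      have hAN : A ≤ N := h ▸ inf_le_left
      have h9 : N.index ∣ p := hidx ▸ Subgroup.index_dvd_of_le hAN
      rcases (Nat.dvd_prime hp).1 h9 with h8 | h8
      · exact IsPGroup.of_card (n := 0) (by rw [pow_zero]; exact h8)
      · exact IsPGroup.of_card (n := 1) (by rw [pow_one]; exact h8)

end Cfsg.Agent.S3869
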