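import Cfsg.Statements.S3868
import Cfsg.Agent.Lib.Helper2.PClosed
import Cfsg.Agent.Lib.Helper2.MinNormal
import Cfsg.Agent.Lib.Helper2.PSub
import Cfsg.Agent.Lib.Helper1.CoprimeSylow
import Cfsg.Agent.Lib.Helper1.MinimalNormal
import Cfsg.Agent.S3869

set_option autoImplicit false
open Cfsg

namespace Cfsg.Agent.S3868

open Cfsg.Agent.Lib.Helper2

/-- first half: a non-normal Sylow `p`-subgroup `P` of order `p`, a minimal normal `p'`-subgroup
`N` with `P N = G`, and no nontrivial element of `P` centralizes `N`. -/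
theorem first_half {G : Type*} [Group G] [Finite G] {p : ℕ} [Fact p.Prime]
    (hnc : ¬ Cfsg.IsPClosed p G) (hsub : ∀ H : Subgroup G, H ≠ ⊤ → Cfsg.IsPClosed p ↥H)
    (hquo : ∀ (N : Subgroup G) [N.Normal], N ≠ ⊥ → Cfsg.IsPClosed p (G ⧸ N))
    (hns : ¬ IsSimpleGroup G) :
    ∃ (P : Sylow p G) (N : Subgroup G), ¬ (P : Subgroup G).Normal ∧ IsMinNormal N ∧ N ≠ ⊥ ∧
      N ≠ ⊤ ∧ (P : Subgroup G) ⊔ N = ⊤ ∧ ¬ p ∣ Nat.card N ∧ (P : Subgroup G) ⊓ N = ⊥ ∧
      (∀ u ∈ (P : Subgroup G), (∀ n ∈ N, u * n = n * u) → u = 1) ∧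
      Nat.card (P : Subgroup G) = p := by
  have hp : p.Prime := Fact.out
  obtain ⟨P, hPn⟩ : ∃ P : Sylow p G, ¬ (P : Subgroup G).Normal := by
    by_contra hcon
    push Not at hcon
    exact hnc hcon
  have hnt : Nontrivial G := by
    by_contra hcon
    rw [not_nontrivial_iff_subsingleton] at hcon
    apply hPn
    have : (P : Subgroup G) = ⊤ := Subsingleton.elim _ _
    rw [this]
    infer_instance
  obtain ⟨M, hMn, hMbot, hMtop⟩ : ∃ M : Subgroup G, M.Normal ∧ M ≠ ⊥ ∧ M ≠ ⊤ := by
    by_contra hcon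
    push Not at hcon
    apply hns
    refine ⟨fun H hH => ?_⟩
    by_cases h : H = ⊥
    · left; exact h
    · right; exact hcon H hH h
  obtain ⟨N, hNM, hNbot, hNmin⟩ := exists_isMinNormal_le M hMbot
  haveI hNn : N.Normal := hNmin.1
  have hNtop : N ≠ ⊤ := by
    intro h
    apply hMtop
    rw [eq_top_iff, ← h]
    exact hNM
  -- Step 2: P ⊔ N = ⊤
  have hPN : (P : Subgroup G) ⊔ N = ⊤ := by
    by_contra hne
    haveI := sup_normal_of_isPClosed_quotient N (hquo N hNbot) P
    exact hPn (sylow_normal_of_isPClosed_normal _ (hsub _ hne) P le_sup_left)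
  -- Step 3: p ∤ |N|
  have hNp : ¬ p ∣ Nat.card N := by
    intro hdvd
    let Q : Sylow p N := default
    have hQn : (Q : Subgroup N).Normal := hsub N hNtop Q
    haveI : (Q : Subgroup N).Characteristic := Sylow.characteristic_of_normal _ hQn
    have hQG : ((Q : Subgroup N).map N.subtype).Normal :=
      ConjAct.normal_of_characteristic_of_normal
    rcases hNmin.2 _ hQG (Subgroup.map_subtype_le _) with h | h
    · have h1 : (Q : Subgroup N) = ⊥ := by
        rw [← Subgroup.map_eq_bot_iff_of_injective _ N.subtype_injective]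
        exact h
      exact Q.ne_bot_of_dvd_card hdvd h1
    · have hNp : IsPGroup p N := by
        intro n
        have h1 : (n : G) ∈ (Q : Subgroup N).map N.subtype := by rw [h]; exact n.2
        obtain ⟨m, hm, hmn⟩ := h1
        have h2 : m = n := Subtype.ext hmn
        rw [← h2]
        obtain ⟨k, hk⟩ := Q.isPGroup' ⟨m, hm⟩
        exact ⟨k, by simpa using congrArg Subtype.val hk⟩
      have hNP : N ≤ (P : Subgroup G) := hNp.le_sylow_of_normal P
      apply hPn
      have : (P : Subgroup G) = ⊤ := by rw [← hPN]; exact (sup_eq_left.2 hNP).symm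
      rw [this]
      infer_instance
  have hcopN : (Nat.card N).Coprime p := ((Nat.Prime.coprime_iff_not_dvd hp).2 hNp).symm
  -- Step 4
  have hinf : (P : Subgroup G) ⊓ N = ⊥ := inf_eq_bot_of_isPGroup_of_coprime P.isPGroup' hcopN
  -- Step 5: C = P ⊓ C_G(N) is normal in G and hence trivial
  have hC : ∀ u ∈ (P : Subgroup G), (∀ n ∈ N, u * n = n * u) → u = 1 := by
    set C : Subgroup G := (P : Subgroup G) ⊓ Subgroup.centralizer (N : Set G) with hCdef
    have hCn : C.Normal := by
      rw [← Subgroup.normalizer_eq_top_iff, eq_top_iff, ← hPN, sup_le_iff]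
      constructor
      · intro u hu
        apply Cfsg.Agent.S3800.mem_normalizer_of_conj_le
        intro c hc
        refine ⟨(P : Subgroup G).mul_mem ((P : Subgroup G).mul_mem hu hc.1)
          ((P : Subgroup G).inv_mem hu), ?_⟩
        exact (inferInstance : (Subgroup.centralizer (N : Set G)).Normal).conj_mem c hc.2 u
      · intro n hn
        apply Cfsg.Agent.S3800.mem_normalizer_of_conj_le
        intro c hc
        have h1 : n * c = c * n := Subgroup.mem_centralizer_iff.1 hc.2 n hn
        have : n * c * n⁻¹ = c := by rw [h1, mul_inv_cancel_right]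
        rw [this]; exact hc
    have hCbot : C = ⊥ := by
      by_contra hne
      haveI := hCn
      have h1 := sup_normal_of_isPClosed_quotient C (hquo C hne) P
      have h2 : (P : Subgroup G) ⊔ C = P := sup_eq_left.2 inf_le_left
      rw [h2] at h1
      exact hPn h1
    intro u hu hun
    have : u ∈ C := ⟨hu, Subgroup.mem_centralizer_iff.2 (fun n hn => (hun n hn).symm)⟩
    rw [hCbot, Subgroup.mem_bot] at this
    exact this
  -- Step 6: proper subgroups of P are trivial
  have hprop : ∀ P₁ : Subgroup G, P₁ ≤ P → P₁ ≠ (P : Subgroup G) → P₁ = ⊥ := by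
    intro P₁ hP₁ hne
    have hP₁p : IsPGroup p P₁ := P.isPGroup'.to_le hP₁
    have hinf₁ : P₁ ⊓ N = ⊥ := by
      rw [eq_bot_iff, ← hinf]
      exact inf_le_inf_right N hP₁
    have hlt : Nat.card P₁ < Nat.card (P : Subgroup G) := by
      apply lt_of_le_of_ne (Subgroup.card_le_of_le hP₁)
      intro h
      exact hne (Subgroup.eq_of_le_of_card_ge hP₁ h.ge)
    have hH : P₁ ⊔ N ≠ ⊤ := by
      intro htop
      have h1 := card_sup_mul_card_inf P₁ N
      have h2 := card_sup_mul_card_inf (P : Subgroup G) N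
      rw [hinf₁, Subgroup.card_bot, mul_one, htop] at h1
      rw [hinf, Subgroup.card_bot, mul_one, hPN] at h2
      rw [h1] at h2
      have := Nat.eq_of_mul_eq_mul_right Nat.card_pos h2
      omega
    have hidx : ¬ p ∣ P₁.relIndex (P₁ ⊔ N) := by
      rw [relIndex_sup_of_inf_eq_bot P₁ N hinf₁]
      exact hNp
    have hnorm := le_normalizer_of_isPClosed (P₁ ⊔ N) (hsub _ hH) P₁ hP₁p le_sup_left hidx
    rw [eq_bot_iff]
    intro u hu
    rw [Subgroup.mem_bot]
    apply hC u (hP₁ hu)
    intro n hn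
    have hnN : n ∈ Subgroup.normalizer (P₁ : Set G) := hnorm (le_sup_right (a := P₁) hn)
    have h1 : n * u * n⁻¹ * u⁻¹ ∈ P₁ :=
      P₁.mul_mem ((Subgroup.mem_normalizer_iff.1 hnN u).1 hu) (P₁.inv_mem hu)
    have h2 : n * u * n⁻¹ * u⁻¹ ∈ N := by
      have : n * u * n⁻¹ * u⁻¹ = n * (u * n⁻¹ * u⁻¹) := by group
      rw [this]
      exact N.mul_mem hn (hNn.conj_mem _ (N.inv_mem hn) u)
    have h3 : n * u * n⁻¹ * u⁻¹ ∈ P₁ ⊓ N := ⟨h1, h2⟩
    rw [hinf₁, Subgroup.mem_bot] at h3
    have h4 : n * u = u * n := by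
      have := congrArg (fun t => t * u * n) h3
      simpa [mul_assoc] using this
    exact h4.symm
  -- Step 7: |P| = p
  have hPbot : (P : Subgroup G) ≠ ⊥ := by
    intro h
    apply hPn
    rw [h]
    infer_instance
  have hPcard : Nat.card (P : Subgroup G) = p := by
    obtain ⟨k, hk⟩ := IsPGroup.iff_card.1 P.isPGroup'
    have hk0 : k ≠ 0 := by
      rintro rfl
      rw [pow_zero] at hk
      exact hPbot (Subgroup.card_eq_one.1 hk)
    obtain ⟨x, hx⟩ := exists_prime_orderOf_dvd_card' (G := (P : Subgroup G)) p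
      (by rw [hk]; exact dvd_pow_self p hk0)
    have hxG : orderOf (x : G) = p := by rw [Subgroup.orderOf_coe]; exact hx
    have hz : Subgroup.zpowers (x : G) = (P : Subgroup G) := by
      by_contra hne
      have := hprop (Subgroup.zpowers (x : G)) ((Subgroup.zpowers_le).2 x.2) hne
      have hx1 : (x : G) = 1 := by
        have h1 : (x : G) ∈ Subgroup.zpowers (x : G) := Subgroup.mem_zpowers _
        rw [this, Subgroup.mem_bot] at h1
        exact h1
      rw [hx1, orderOf_one] at hxG
      exact hp.one_lt.ne hxG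
    rw [← hz, Nat.card_zpowers, hxG]
  exact ⟨P, N, hPn, hNmin, hNbot, hNtop, hPN, hNp, hinf, hC, hPcard⟩

/-- solvability of a finite `p`-group -/
theorem isSolvable_of_isPGroup {H : Type*} [Group H] [Finite H] {p : ℕ} [Fact p.Prime]
    (hH : IsPGroup p H) : Group.IsSolvable H := by
  haveI := hH.isNilpotent
  infer_instance

/-- Structure of the non-simple minimal non-p-closed groups. Call a finite group p-closed when its Sylow p-subgroups are normal, and minimal non-p-closed when it is not p-closed but every proper subgroup and every proper quotient is. If such a group G is not simple, then there is a prime q ≠ p such that G has order p · q^e, where e is the multiplicative order of q modulo p, and G has a normal subgroup A of order q^e that is elementary abelian and is a minimal normal subgroup of G (so G is the semidirect product of A by a group of order p acting irreducibly). -/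
theorem result {G : Type*} [Group G] [Finite G] {p : ℕ} [Fact p.Prime]
    (hnc : ¬ Cfsg.IsPClosed p G) (hsub : ∀ H : Subgroup G, H ≠ ⊤ → Cfsg.IsPClosed p ↥H)
    (hquo : ∀ (N : Subgroup G) [N.Normal], N ≠ ⊥ → Cfsg.IsPClosed p (G ⧸ N)) (hns : ¬ IsSimpleGroup G) :
    ∃ q : ℕ, q.Prime ∧ q ≠ p ∧ Nat.card G = p * q ^ orderOf (q : ZMod p) ∧
      ∃ A : Subgroup G, A.Normal ∧ Nat.card ↥A = q ^ orderOf (q : ZMod p) ∧ Cfsg.IsElementaryAbelian q A ∧
        ∀ B : Subgroup G, B.Normal → B ≤ A → B = ⊥ ∨ B = A := by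
  have hp : p.Prime := Fact.out
  obtain ⟨P, N, hPn, hNmin, hNbot, hNtop, hPN, hNp, hinf, hC, hPcard⟩ :=
    first_half hnc hsub hquo hns
  haveI hNn : N.Normal := hNmin.1
  have hcopN : (Nat.card N).Coprime p := ((Nat.Prime.coprime_iff_not_dvd hp).2 hNp).symm
  have hGcard : Nat.card G = p * Nat.card N := by
    have h2 := card_sup_mul_card_inf (P : Subgroup G) N
    rw [hinf, Subgroup.card_bot, mul_one, hPN, hPcard, Subgroup.card_top] at h2
    exact h2
  -- D = C_N(P)
  set D : Subgroup G := N ⊓ Subgroup.centralizer ((P : Subgroup G) : Set G) with hD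
  have hPbot : (P : Subgroup G) ≠ ⊥ := by
    intro h
    apply hPn
    rw [h]
    infer_instance
  have hDN : D ≠ N := by
    intro h
    apply hPbot
    rw [eq_bot_iff]
    intro u hu
    rw [Subgroup.mem_bot]
    apply hC u hu
    intro n hn
    have : n ∈ D := by rw [h]; exact hn
    exact Subgroup.mem_centralizer_iff.1 this.2 u hu
  have hDle : D ≤ N := inf_le_left
  obtain ⟨r, hr⟩ : Nat.card D ∣ Nat.card N := Subgroup.card_dvd_of_le hDle
  have hr1 : r ≠ 1 := by
    rintro rfl
    rw [mul_one] at hr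
    exact hDN (Subgroup.eq_of_le_of_card_ge hDle hr.le)
  obtain ⟨q, hq, hqr⟩ := Nat.exists_prime_and_dvd hr1
  haveI : Fact q.Prime := ⟨hq⟩
  have hqN : q ∣ Nat.card N := by rw [hr]; exact hqr.trans (Dvd.intro_left _ rfl)
  have hqp : q ≠ p := by
    rintro rfl
    exact hNp hqN
  have hPsolv : Group.IsSolvable (P : Subgroup G) := isSolvable_of_isPGroup P.isPGroup'
  have hPnormN : (P : Subgroup G) ≤ Subgroup.normalizer (N : Set G) := by
    rw [Subgroup.normalizer_eq_top_iff.2 hNn]; exact le_top
  obtain ⟨Q, hQ⟩ := Cfsg.Agent.Lib.Helper1.coprime_exists_invariant_sylow (P : Subgroup G) N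
    hPnormN (by rw [hPcard]; exact hcopN.symm) (Or.inl hPsolv) q
  set Q' : Subgroup G := (Q : Subgroup N).map N.subtype with hQ'
  have hQ'N : Q' ≤ N := Subgroup.map_subtype_le _
  have hQ'card : Nat.card Q' = q ^ (Nat.card N).factorization q := by
    rw [hQ', Subgroup.card_map_of_injective N.subtype_injective]
    exact Q.card_eq_multiplicity
  have hQ'bot : Q' ≠ ⊥ := by
    intro h
    have h1 : (Q : Subgroup N) = ⊥ := by
      rw [← Subgroup.map_eq_bot_iff_of_injective _ N.subtype_injective]
      exact h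
    exact Q.ne_bot_of_dvd_card hqN h1
  have htop : Q' ⊔ (P : Subgroup G) = ⊤ := by
    by_contra hne
    have hidx : ¬ p ∣ (P : Subgroup G).relIndex (Q' ⊔ (P : Subgroup G)) := by
      intro h
      exact P.not_dvd_index (h.trans (Subgroup.relIndex_dvd_index_of_le le_sup_right))
    have hnorm := le_normalizer_of_isPClosed _ (hsub _ hne) (P : Subgroup G) P.isPGroup'
      le_sup_right hidx
    have hQD : Q' ≤ D := by
      intro a ha
      refine ⟨hQ'N ha, ?_⟩
      show a ∈ Subgroup.centralizer ((P : Subgroup G) : Set G)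
      rw [Subgroup.mem_centralizer_iff]
      intro u hu
      have haN : a ∈ Subgroup.normalizer ((P : Subgroup G) : Set G) := hnorm ((le_sup_left : Q' ≤ Q' ⊔ (P : Subgroup G)) ha)
      have huN : u ∈ Subgroup.normalizer (Q' : Set G) := hQ hu
      have h1 : a * u * a⁻¹ * u⁻¹ ∈ (P : Subgroup G) :=
        (P : Subgroup G).mul_mem ((Subgroup.mem_normalizer_iff.1 haN u).1 hu)
          ((P : Subgroup G).inv_mem hu)
      have h2 : a * u * a⁻¹ * u⁻¹ ∈ N := by
        have : a * u * a⁻¹ * u⁻¹ = a * (u * a⁻¹ * u⁻¹) := by group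
        rw [this]
        exact N.mul_mem (hQ'N ha) (hNn.conj_mem _ (N.inv_mem (hQ'N ha)) u)
      have h3 : a * u * a⁻¹ * u⁻¹ ∈ (P : Subgroup G) ⊓ N := ⟨h1, h2⟩
      rw [hinf, Subgroup.mem_bot] at h3
      have h4 : a * u = u * a := by
        have := congrArg (fun t => t * u * a) h3
        simpa [mul_assoc] using this
      exact h4.symm
    have h5 : q ^ (Nat.card N).factorization q ∣ Nat.card D := by
      rw [← hQ'card]; exact Subgroup.card_dvd_of_le hQD
    have h6 : q ^ ((Nat.card N).factorization q + 1) ∣ Nat.card N := by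
      rw [pow_succ]
      have h7 := Nat.mul_dvd_mul h5 hqr
      rwa [← hr] at h7
    exact Nat.pow_succ_factorization_not_dvd Nat.card_pos.ne' hq h6
  have hQ'n : Q'.Normal := by
    rw [← Subgroup.normalizer_eq_top_iff, eq_top_iff, ← htop, sup_le_iff]
    exact ⟨Subgroup.le_normalizer, hQ⟩
  have hQ'eq : Q' = N := (hNmin.2 Q' hQ'n hQ'N).resolve_left hQ'bot
  have hNq : IsPGroup q N := by
    apply IsPGroup.of_card (n := (Nat.card N).factorization q)
    rw [← hQ'card, hQ'eq]
  -- solvability of G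
  have hidxN : N.index = p := by
    have h1 := N.card_mul_index
    rw [hGcard, mul_comm] at h1
    exact Nat.eq_of_mul_eq_mul_right Nat.card_pos h1
  have hGsolv : Group.IsSolvable G := by
    rw [Group.isSolvable_iff_subgroup_quotient N]
    refine ⟨isSolvable_of_isPGroup hNq, ?_⟩
    apply isSolvable_of_isPGroup (p := p)
    exact IsPGroup.of_card (n := 1) (by rw [pow_one]; exact hidxN)
  obtain ⟨hNc, r', hr', hNr'⟩ := Cfsg.Agent.Lib.Helper1.minimal_normal_of_solvable N hNbot hNmin.2
  have hr'q : r' = q := by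
    obtain ⟨y, hy⟩ := exists_prime_orderOf_dvd_card' (G := N) q hqN
    have h1 : (y : G) ^ r' = 1 := hNr' y y.2
    have h2 : q ∣ r' := by
      rw [← hy, ← Subgroup.orderOf_coe]
      exact orderOf_dvd_of_pow_eq_one h1
    exact ((Nat.prime_dvd_prime_iff_eq hq hr').1 h2).symm
  subst hr'q
  have hA : Cfsg.IsElementaryAbelian r' N := ⟨hNc, hNr'⟩
  have hna : ¬ IsMulCommutative G := by
    intro hcomm
    apply hPn
    constructor
    intro n hn g
    have : g * n * g⁻¹ = n := by
      rw [hcomm.is_comm.comm g n, mul_inv_cancel_right]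
    rw [this]; exact hn
  obtain ⟨h1, -, -, -⟩ := Cfsg.Agent.S3869.result (p := p) (q := r') hq hqp hna N hA hidxN hNmin.2
  exact ⟨r', hq, hqp, by rw [hGcard, h1], N, hNn, h1, hA, hNmin.2⟩

end Cfsg.Agent.S3868
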