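import Cfsg.Statements.S3870
import Cfsg.Agent.Lib.Helper2.Nilpotent

set_option autoImplicit false
open Cfsg

namespace Cfsg.Agent.S3870

open Cfsg.Agent.Lib.Helper2

/-- in a `p`-closed finite group all `p`-subgroups lie in every Sylow `p`-subgroup -/
theorem le_sylow_of_isPClosed {H : Type*} [Group H] [Finite H] {p : ℕ} [Fact p.Prime]
    (hH : Cfsg.IsPClosed p H) (S : Sylow p H) (K : Subgroup H) (hK : IsPGroup p K) :
    K ≤ S := by
  obtain ⟨S', hS'⟩ := hK.exists_le_sylow
  obtain ⟨g, hg⟩ := MulAction.exists_smul_eq H S S'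
  haveI := hH S
  rw [Sylow.smul_eq_of_normal] at hg
  rw [hg]; exact hS'

/-- every nontrivial `p`-subgroup lies in a unique Sylow `p`-subgroup -/
theorem unique_sylow {G : Type*} [Group G] [Finite G] [IsSimpleGroup G] {p : ℕ} [Fact p.Prime]
    (hnc : ¬ Cfsg.IsPClosed p G) (hsub : ∀ H : Subgroup G, H ≠ ⊤ → Cfsg.IsPClosed p ↥H) :
    ∀ n : ℕ, ∀ R : Subgroup G, R ≠ ⊥ → Nat.card G - Nat.card R = n →
      ∀ P Q : Sylow p G, R ≤ P → R ≤ Q → P = Q := by
  intro n
  induction n using Nat.strong_induction_on with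
  | _ n ih =>
    intro R hR1 hn P Q hRP hRQ
    by_cases hRPeq : R = P
    · have : (P : Subgroup G) ≤ Q := by rw [← hRPeq]; exact hRQ
      have h2 := P.3 Q.2 this
      exact (Sylow.ext h2).symm
    by_cases hRQeq : R = Q
    · have : (Q : Subgroup G) ≤ P := by rw [← hRQeq]; exact hRP
      have h2 := Q.3 P.2 this
      exact Sylow.ext h2
    have hRP' : R < P := lt_of_le_of_ne hRP hRPeq
    have hRQ' : R < Q := lt_of_le_of_ne hRQ hRQeq
    obtain ⟨x, hxP, hxN, hxR⟩ := exists_mem_normalizer_not_mem (P.2.isNilpotent) hRP'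
    obtain ⟨y, hyQ, hyN, hyR⟩ := exists_mem_normalizer_not_mem (Q.2.isNilpotent) hRQ'
    set H := Subgroup.normalizer (R : Set G) with hH
    have hHtop : H ≠ ⊤ := by
      intro h
      have hRn : R.Normal := Subgroup.normalizer_eq_top_iff.1 h
      have hRtop : R = ⊤ := (hRn.eq_bot_or_eq_top).resolve_left hR1
      apply hnc
      intro S
      have hS : (S : Subgroup G) = ⊤ := by
        have hP : (P : Subgroup G) = ⊤ := by
          rw [eq_top_iff, ← hRtop]; exact hRP
        have hle : (S : Subgroup G) ≤ P := by rw [hP]; exact le_top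
        have := S.3 P.2 hle
        rw [← this, hP]
      rw [hS]; infer_instance
    have hHc := hsub H hHtop
    obtain ⟨S⟩ : Nonempty (Sylow p H) := inferInstance
    have hPH : ((P : Subgroup G) ⊓ H).subgroupOf H ≤ S := by
      apply le_sylow_of_isPClosed hHc
      have : IsPGroup p ((P : Subgroup G) ⊓ H : Subgroup G) := P.2.to_le inf_le_left
      exact this.comap_subtype
    have hQH : ((Q : Subgroup G) ⊓ H).subgroupOf H ≤ S := by
      apply le_sylow_of_isPClosed hHc
      have : IsPGroup p ((Q : Subgroup G) ⊓ H : Subgroup G) := Q.2.to_le inf_le_left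
      exact this.comap_subtype
    have hK : IsPGroup p ((S : Subgroup H).map H.subtype) := S.2.map _
    obtain ⟨T, hT⟩ := hK.exists_le_sylow
    have hPT : (P : Subgroup G) ⊓ H ≤ T := by
      intro g hg
      apply hT
      exact ⟨⟨g, hg.2⟩, hPH (Subgroup.mem_subgroupOf.2 hg), rfl⟩
    have hQT : (Q : Subgroup G) ⊓ H ≤ T := by
      intro g hg
      apply hT
      exact ⟨⟨g, hg.2⟩, hQH (Subgroup.mem_subgroupOf.2 hg), rfl⟩
    have hcard : ∀ (P' : Sylow p G) (z : G), R ≤ P' → z ∈ P' → z ∈ H → z ∉ R →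
        Nat.card G - Nat.card ((P' : Subgroup G) ⊓ H : Subgroup G) < n := by
      intro P' z hRP'' hzP hzH hzR
      have hle : R ≤ (P' : Subgroup G) ⊓ H := le_inf hRP'' Subgroup.le_normalizer
      have hlt : R < (P' : Subgroup G) ⊓ H :=
        lt_of_le_of_ne hle (fun h => hzR (by rw [h]; exact ⟨hzP, hzH⟩))
      have h1 : Nat.card R < Nat.card ((P' : Subgroup G) ⊓ H : Subgroup G) := by
        have hsub : (R : Set G) ⊂ (((P' : Subgroup G) ⊓ H : Subgroup G) : Set G) := hlt
        show Nat.card (R : Set G) < Nat.card (((P' : Subgroup G) ⊓ H : Subgroup G) : Set G)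
        rw [Nat.card_coe_set_eq, Nat.card_coe_set_eq]
        exact Set.ncard_lt_ncard hsub (Set.toFinite _)
      have h2 : Nat.card ((P' : Subgroup G) ⊓ H : Subgroup G) ≤ Nat.card G :=
        Subgroup.card_le_card_group _
      omega
    have hne : ∀ (P' : Sylow p G), R ≤ P' → ((P' : Subgroup G) ⊓ H) ≠ ⊥ := by
      intro P' hRP'' h
      apply hR1
      rw [eq_bot_iff, ← h]
      exact le_inf hRP'' Subgroup.le_normalizer
    have h1 : P = T := ih _ (hcard P x hRP hxP hxN hxR) _ (hne P hRP) rfl P T inf_le_left hPT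
    have h2 : Q = T := ih _ (hcard Q y hRQ hyQ hyN hyR) _ (hne Q hRQ) rfl Q T inf_le_left hQT
    rw [h1, h2]

/-- Let G be a finite simple group whose Sylow p-subgroups are not normal but such that every proper subgroup of G has a normal Sylow p-subgroup. Then any two distinct Sylow p-subgroups of G intersect trivially, and for every Sylow p-subgroup P the normalizer of every non-identity subgroup of P lies in the normalizer of P. -/
theorem result {G : Type*} [Group G] [Finite G] [IsSimpleGroup G] {p : ℕ} [Fact p.Prime]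
    (hnc : ¬ Cfsg.IsPClosed p G) (hsub : ∀ H : Subgroup G, H ≠ ⊤ → Cfsg.IsPClosed p ↥H) :
    (∀ P Q : Sylow p G, P ≠ Q → (P : Subgroup G) ⊓ (Q : Subgroup G) = ⊥) ∧
      ∀ (P : Sylow p G) (R : Subgroup G), R ≤ P → R ≠ ⊥ →
        Subgroup.normalizer (R : Set G) ≤ Subgroup.normalizer ((P : Subgroup G) : Set G) := by
  have hU := unique_sylow hnc hsub
  constructor
  · intro P Q hPQ
    by_contra h
    exact hPQ (hU _ _ h rfl P Q inf_le_left inf_le_right)
  · intro P R hRP hR1 g hg
    have h1 : R ≤ ((g • P : Sylow p G) : Subgroup G) := by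
      intro r hr
      rw [Sylow.smul_def, Sylow.pointwise_smul_def, Subgroup.mem_pointwise_smul_iff_inv_smul_mem]
      apply hRP
      have := (Subgroup.mem_normalizer_iff''.1 hg r).1 hr
      simpa [MulAut.smul_def] using this
    have h2 := hU _ _ hR1 rfl (g • P) P h1 hRP
    exact Sylow.smul_eq_iff_mem_normalizer.1 h2

end Cfsg.Agent.S3870
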