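import Cfsg.Statements.S3873
import Cfsg.Agent.S3868
import Cfsg.Agent.Lib.Helper2.PGroup

set_option autoImplicit false
open Cfsg

namespace Cfsg.Agent.S3873

open Cfsg.Agent.Lib.Helper2

/-- the subgroup of elements of `M` with `g ^ p = 1`, as a subgroup of `G`. -/
theorem omega_sub {G : Type*} [Group G] {p : ℕ} {M : Subgroup G}
    (hM : ∃ H : Subgroup M, (H : Set M) = {g : M | g ^ p = 1}) :
    ∃ W : Subgroup G, ∀ g, g ∈ W ↔ g ∈ M ∧ g ^ p = 1 := by
  obtain ⟨H, hH⟩ := hM
  refine ⟨H.map M.subtype, fun g => ?_⟩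
  constructor
  · rintro ⟨m, hm, rfl⟩
    refine ⟨m.2, ?_⟩
    have : m ∈ (H : Set M) := hm
    rw [hH] at this
    have h2 : m ^ p = 1 := this
    have := congrArg Subtype.val h2
    simpa using this
  · rintro ⟨hgM, hgp⟩
    refine ⟨⟨g, hgM⟩, ?_, rfl⟩
    have : (⟨g, hgM⟩ : M) ∈ (H : Set M) := by
      rw [hH]
      show (⟨g, hgM⟩ : M) ^ p = 1
      apply Subtype.ext
      simpa using hgp
    exact this

theorem omega_sub_normal {G : Type*} [Group G] {p : ℕ} {M : Subgroup G} [hMn : M.Normal]
    (W : Subgroup G) (hW : ∀ g, g ∈ W ↔ g ∈ M ∧ g ^ p = 1) : W.Normal := by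
  constructor
  intro n hn g
  rw [hW] at hn ⊢
  refine ⟨hMn.conj_mem n hn.1 g, ?_⟩
  rw [conj_pow, hn.2, mul_one, mul_inv_cancel]

/-- Say that a finite group is p-exponent closed when its elements of order dividing p form a subgroup. Let G be a finite group that is not p-exponent closed, but all of whose proper subgroups and proper quotients are, and suppose G is neither simple nor a p-group. Then there is a prime q ≠ p such that G has order p · q^e, where e is the multiplicative order of q modulo p, and G has a normal elementary abelian subgroup of order q^e that is a minimal normal subgroup of G. -/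
theorem result {G : Type*} [Group G] [Finite G] {p : ℕ} [Fact p.Prime]
    (hnc : ¬ (∃ H : Subgroup G, (H : Set G) = {g : G | g ^ p = 1})) (hsub : ∀ K : Subgroup G, K ≠ ⊤ → (∃ H : Subgroup ↥K, (H : Set ↥K) = {g : ↥K | g ^ p = 1}))
    (hquo : ∀ (N : Subgroup G) [N.Normal], N ≠ ⊥ → (∃ H : Subgroup (G ⧸ N), (H : Set (G ⧸ N)) = {g : (G ⧸ N) | g ^ p = 1}))
    (hns : ¬ IsSimpleGroup G) (hnp : ¬ IsPGroup p G) :
    ∃ q : ℕ, q.Prime ∧ q ≠ p ∧ Nat.card G = p * q ^ orderOf (q : ZMod p) ∧
      ∃ A : Subgroup G, A.Normal ∧ Nat.card ↥A = q ^ orderOf (q : ZMod p) ∧ Cfsg.IsElementaryAbelian q A ∧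
        ∀ B : Subgroup G, B.Normal → B ≤ A → B = ⊥ ∨ B = A := by
  have hp : p.Prime := Fact.out
  -- Step 1
  obtain ⟨x, y, hx, hy, hxy⟩ : ∃ x y : G, x ^ p = 1 ∧ y ^ p = 1 ∧ (x * y) ^ p ≠ 1 := by
    by_contra hcon
    push Not at hcon
    apply hnc
    refine ⟨{ carrier := {g : G | g ^ p = 1}
              one_mem' := one_pow p
              mul_mem' := fun {a b} ha hb => hcon a b ha hb
              inv_mem' := fun {a} ha => by
                show a⁻¹ ^ p = 1
                rw [inv_pow, ha, inv_one] }, rfl⟩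
  -- Step 2
  have hgen : Subgroup.closure ({x, y} : Set G) = ⊤ := by
    by_contra hne
    obtain ⟨W, hW⟩ := omega_sub (hsub _ hne)
    have hxK : x ∈ Subgroup.closure ({x, y} : Set G) := Subgroup.subset_closure (by simp)
    have hyK : y ∈ Subgroup.closure ({x, y} : Set G) := Subgroup.subset_closure (by simp)
    have h1 : x * y ∈ W := W.mul_mem ((hW x).2 ⟨hxK, hx⟩) ((hW y).2 ⟨hyK, hy⟩)
    exact hxy ((hW _).1 h1).2
  -- Step 3
  have hpow : ∀ (N : Subgroup G) [N.Normal], N ≠ ⊥ → ∀ g : G, g ^ p ∈ N := by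
    intro N _ hN g
    obtain ⟨H, hH⟩ := hquo N hN
    have hxH : (QuotientGroup.mk' N x) ∈ H := by
      have : (QuotientGroup.mk' N x) ∈ (H : Set (G ⧸ N)) := by
        rw [hH]
        show (QuotientGroup.mk' N x) ^ p = 1
        rw [← map_pow, hx, map_one]
      exact this
    have hyH : (QuotientGroup.mk' N y) ∈ H := by
      have : (QuotientGroup.mk' N y) ∈ (H : Set (G ⧸ N)) := by
        rw [hH]
        show (QuotientGroup.mk' N y) ^ p = 1
        rw [← map_pow, hy, map_one]
      exact this
    have hle : Subgroup.closure ({x, y} : Set G) ≤ H.comap (QuotientGroup.mk' N) := by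
      rw [Subgroup.closure_le]
      intro z hz
      rcases hz with rfl | rfl
      · exact hxH
      · exact hyH
    rw [hgen] at hle
    have hg : (QuotientGroup.mk' N g) ∈ (H : Set (G ⧸ N)) := hle (Subgroup.mem_top g)
    rw [hH] at hg
    have hg' : (QuotientGroup.mk' N g) ^ p = 1 := hg
    rw [← map_pow] at hg'
    exact (QuotientGroup.eq_one_iff _).1 hg'
  -- the subgroup ℧
  set U : Subgroup G := Subgroup.normalClosure {g : G | ∃ h : G, h ^ p = g} with hU
  haveI hUn : U.Normal := Subgroup.normalClosure_normal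
  have hUpow : ∀ g : G, g ^ p ∈ U := fun g => Subgroup.subset_normalClosure ⟨g, rfl⟩
  have hUle : ∀ (N : Subgroup G), N.Normal → N ≠ ⊥ → U ≤ N := by
    intro N hNn hN
    haveI := hNn
    apply Subgroup.normalClosure_le_normal
    rintro _ ⟨h, rfl⟩
    exact hpow N hN h
  have hUbot : U ≠ ⊥ := by
    intro h
    apply hnc
    refine ⟨⊤, ?_⟩
    ext g
    simp only [Subgroup.coe_top, Set.mem_univ, Set.mem_ofPred_eq, true_iff]
    have := hUpow g
    rw [h, Subgroup.mem_bot] at this
    exact this
  have hnt : Nontrivial G := by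
    by_contra hcon
    rw [not_nontrivial_iff_subsingleton] at hcon
    apply hnp
    intro g
    exact ⟨0, Subsingleton.elim _ _⟩
  obtain ⟨M₀, hM₀n, hM₀bot, hM₀top⟩ : ∃ M : Subgroup G, M.Normal ∧ M ≠ ⊥ ∧ M ≠ ⊤ := by
    by_contra hcon
    push Not at hcon
    apply hns
    refine ⟨fun H hH => ?_⟩
    by_cases h : H = ⊥
    · left; exact h
    · right; exact hcon H hH h
  have hUtop : U ≠ ⊤ := by
    intro h
    apply hM₀top
    rw [eq_top_iff, ← h]
    exact hUle M₀ hM₀n hM₀bot
  -- elements of U with g^p = 1 are trivial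
  have hUp : ∀ (M : Subgroup G), M.Normal → M ≠ ⊤ → U ≤ M → ∀ g ∈ M, g ^ p = 1 → g = 1 := by
    intro M hMn hMtop hUM
    haveI := hMn
    obtain ⟨W, hW⟩ := omega_sub (hsub M hMtop)
    have hWn : W.Normal := omega_sub_normal W hW
    have hWbot : W = ⊥ := by
      by_contra hne
      have hUW : U ≤ W := hUle W hWn hne
      -- then G is a p-group
      apply hnp
      intro g
      refine ⟨2, ?_⟩
      have h1 : g ^ p ∈ W := hUW (hUpow g)
      have h2 := ((hW _).1 h1).2
      rw [pow_two, pow_mul]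
      exact h2
    intro g hgM hgp
    have : g ∈ W := (hW g).2 ⟨hgM, hgp⟩
    rw [hWbot, Subgroup.mem_bot] at this
    exact this
  -- a proper normal subgroup containing U is a p'-group
  have hUp' : ∀ (M : Subgroup G), M.Normal → M ≠ ⊤ → U ≤ M → ¬ p ∣ Nat.card M := by
    intro M hMn hMtop hUM hdvd
    obtain ⟨g, hg⟩ := exists_prime_orderOf_dvd_card' (G := M) p hdvd
    have h1 : (g : G) ^ p = 1 := by
      have := pow_orderOf_eq_one g
      rw [hg] at this
      have := congrArg Subtype.val this
      simpa using this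
    have h2 := hUp M hMn hMtop hUM g g.2 h1
    have h3 : g = 1 := Subtype.ext h2
    rw [h3, orderOf_one] at hg
    exact hp.one_lt.ne hg
  -- G/U is a p-group
  have hGU : IsPGroup p (G ⧸ U) := by
    intro g
    obtain ⟨g, rfl⟩ := QuotientGroup.mk_surjective g
    refine ⟨1, ?_⟩
    rw [pow_one, ← QuotientGroup.mk_pow]
    exact (QuotientGroup.eq_one_iff _).2 (hUpow g)
  -- index of U is p
  have hUidx : U.index = p := by
    obtain ⟨k, hk⟩ := IsPGroup.iff_card.1 hGU
    have hk0 : k ≠ 0 := by
      rintro rfl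
      rw [pow_zero] at hk
      exact hUtop (Subgroup.index_eq_one.1 hk)
    obtain ⟨k', rfl⟩ := Nat.exists_eq_succ_of_ne_zero hk0
    obtain ⟨Mb, hMb⟩ := Sylow.exists_subgroup_card_pow_prime p
      (show p ^ k' ∣ Nat.card (G ⧸ U) by rw [hk]; exact pow_dvd_pow p (Nat.le_succ k'))
    have hMbidx : Mb.index = p := by
      have h1 := Mb.card_mul_index
      rw [hMb, hk, pow_succ] at h1
      exact Nat.eq_of_mul_eq_mul_left (pow_pos hp.pos k') h1
    have hMbn : Mb.Normal := normal_of_index_eq_prime hGU Mb hMbidx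
    set M : Subgroup G := Mb.comap (QuotientGroup.mk' U) with hM
    have hMn : M.Normal := hMbn.comap _
    have hMidx : M.index = p := by
      rw [hM, Subgroup.index_comap_of_surjective Mb (QuotientGroup.mk'_surjective U)]
      exact hMbidx
    have hMtop : M ≠ ⊤ := by
      intro h
      rw [h, Subgroup.index_top] at hMidx
      exact hp.one_lt.ne hMidx
    have hUM : U ≤ M := by
      intro u hu
      show QuotientGroup.mk' U u ∈ Mb
      have : QuotientGroup.mk' U u = 1 := (QuotientGroup.eq_one_iff u).2 hu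
      rw [this]; exact Mb.one_mem
    have hMp' := hUp' M hMn hMtop hUM
    -- M = U since M/U is a p-group
    have hMU : M = U := by
      apply le_antisymm _ hUM
      intro m hm
      have h1 : orderOf m ∣ Nat.card M := by
        have := orderOf_dvd_natCard (⟨m, hm⟩ : M)
        rwa [Subgroup.orderOf_mk] at this
      have h2 : p.Coprime (orderOf m) := by
        rw [Nat.Prime.coprime_iff_not_dvd hp]
        intro h
        exact hMp' (h.trans h1)
      obtain ⟨j, hj⟩ := exists_pow_eq_self_of_coprime h2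
      rw [← hj]
      exact U.pow_mem (hUpow m) j
    rw [← hMU]; exact hMidx
  have hUp'U : ¬ p ∣ Nat.card U := hUp' U hUn hUtop le_rfl
  have hGcard : Nat.card U * p = Nat.card G := by rw [← hUidx]; exact U.card_mul_index
  -- p-elements satisfy g^p = 1
  have hpel : ∀ g : G, (∃ k : ℕ, g ^ p ^ k = 1) → g ^ p = 1 := by
    rintro g ⟨k, hk⟩
    have h1 : orderOf g ∣ p ^ k := orderOf_dvd_of_pow_eq_one hk
    have h2 : orderOf g ∣ Nat.card U * p := by rw [hGcard]; exact orderOf_dvd_natCard g
    have h3 : (orderOf g).Coprime (Nat.card U) :=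
      Nat.Coprime.coprime_dvd_left h1 (((Nat.Prime.coprime_iff_not_dvd hp).2 hUp'U).pow_left k)
    have h4 : orderOf g ∣ p := h3.dvd_of_dvd_mul_left h2
    exact orderOf_dvd_iff_pow_eq_one.1 h4
  -- (a)
  have ha : ¬ Cfsg.IsPClosed p G := by
    intro hcl
    let P : Sylow p G := default
    have hPn : (P : Subgroup G).Normal := hcl P
    apply hnc
    refine ⟨(P : Subgroup G), ?_⟩
    ext g
    simp only [SetLike.mem_coe, Set.mem_ofPred_eq]
    constructor
    · intro hg
      apply hpel g
      obtain ⟨k, hk⟩ := P.isPGroup' ⟨g, hg⟩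
      exact ⟨k, by simpa using congrArg Subtype.val hk⟩
    · intro hg
      have hz : IsPGroup p (Subgroup.zpowers g) := by
        apply IsPGroup.of_card (n := if orderOf g = 1 then 0 else 1)
        rw [Nat.card_zpowers]
        have h1 : orderOf g ∣ p := orderOf_dvd_of_pow_eq_one hg
        rcases (Nat.dvd_prime hp).1 h1 with h | h
        · simp [h]
        · rw [h, if_neg hp.one_lt.ne', pow_one]
      obtain ⟨Q, hQ⟩ := hz.exists_le_sylow
      haveI := hPn
      have hQP : Q = P := by
        obtain ⟨a, ha⟩ := MulAction.exists_smul_eq G P Q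
        rw [← ha, Sylow.smul_eq_of_normal]
      rw [← hQP]
      exact hQ (Subgroup.mem_zpowers g)
  -- (b)
  have hb : ∀ H : Subgroup G, H ≠ ⊤ → Cfsg.IsPClosed p ↥H := by
    intro H hH Q
    obtain ⟨W, hW⟩ := hsub H hH
    have hWmem : ∀ g : H, g ∈ W ↔ g ^ p = 1 := by
      intro g
      have : g ∈ (W : Set H) ↔ g ∈ {g : H | g ^ p = 1} := by rw [hW]
      exact this
    have hWp : IsPGroup p W := by
      intro g
      refine ⟨1, ?_⟩
      rw [pow_one]
      apply Subtype.ext
      have := (hWmem g).1 g.2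
      simpa using this
    have hQW : (Q : Subgroup H) ≤ W := by
      intro g hg
      rw [hWmem]
      apply Subtype.ext
      have h1 : ((g : G)) ^ p = 1 := by
        apply hpel
        obtain ⟨k, hk⟩ := Q.isPGroup' ⟨g, hg⟩
        refine ⟨k, ?_⟩
        have := congrArg Subtype.val (congrArg Subtype.val hk)
        simpa using this
      simpa using h1
    have hWQ : W = (Q : Subgroup H) := Q.is_maximal' hWp hQW
    rw [← hWQ]
    constructor
    intro n hn g
    rw [hWmem] at hn ⊢
    rw [conj_pow, hn, mul_one, mul_inv_cancel]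
  -- (c)
  have hc : ∀ (N : Subgroup G) [N.Normal], N ≠ ⊥ → Cfsg.IsPClosed p (G ⧸ N) := by
    intro N hNn hN
    apply isPClosed_of_isPGroup'
    have hUN : U ≤ N := hUle N hNn hN
    have h9 : N.index ∣ p := hUidx ▸ Subgroup.index_dvd_of_le hUN
    rcases (Nat.dvd_prime hp).1 h9 with h8 | h8
    · exact IsPGroup.of_card (n := 0) (by rw [pow_zero]; exact h8)
    · exact IsPGroup.of_card (n := 1) (by rw [pow_one]; exact h8)
  exact Cfsg.Agent.S3868.result ha hb hc hns

end Cfsg.Agent.S3873
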