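import Cfsg.Statements.S3875
import Cfsg.Agent.Lib.Helper2.Npc3
import Cfsg.Agent.Lib.Helper2.Npc4

set_option autoImplicit false
open Cfsg

namespace Cfsg.Agent.S3875

/-- Let p be an odd prime and let m be the least prime power congruent to 1 modulo p. Then the least order of a finite group whose Sylow p-subgroups are not normal is the smaller of p · m and p(p² − 1)/2: every finite group whose Sylow p-subgroups are not normal has at least that order, and some group of exactly that order has non-normal Sylow p-subgroups. -/
theorem result (p : ℕ) [Fact p.Prime] (hp : p ≠ 2) (m : ℕ) (hm : IsPrimePow m) (hm1 : m % p = 1)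
    (hleast : ∀ k : ℕ, IsPrimePow k → k % p = 1 → m ≤ k) :
    (∀ (H : Type) [Group H] [Finite H], ¬ Cfsg.IsPClosed p H → min (p * m) (p * (p ^ 2 - 1) / 2) ≤ Nat.card H) ∧
      ∃ (H : Type) (_ : Group H) (_ : Finite H), Nat.card H = min (p * m) (p * (p ^ 2 - 1) / 2) ∧ ¬ Cfsg.IsPClosed p H := by
  have hpp : p.Prime := Fact.out
  constructor
  · intro H _ _ hnc
    exact Cfsg.Agent.Lib.Helper2.Npc.part1 p hp m hleast _ H rfl hnc
  · by_cases h : p * m ≤ p * (p ^ 2 - 1) / 2
    · rw [min_eq_left h]
      exact Cfsg.Agent.Lib.Helper2.Npc.exists_affine p m hm hm1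
    · push Not at h
      rw [min_eq_right h.le]
      apply Cfsg.Agent.Lib.Helper2.Npc.exists_psl p
      by_contra h5
      push Not at h5
      have h2 := hpp.two_le
      have h4 : m ≤ 4 := hleast 4
        ((isPrimePow_nat_iff 4).mpr ⟨2, 2, Nat.prime_two, by norm_num, by norm_num⟩) (by
          interval_cases p
          · exact absurd rfl hp
          · rfl
          · exact absurd hpp (by norm_num))
      interval_cases p
      · exact absurd rfl hp
      · norm_num at h
        omega
      · exact absurd hpp (by norm_num)

end Cfsg.Agent.S3875
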