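import Mathlib
import Cfsg.Statements.S3878
import Cfsg.Agent.Lib.Lead.HallUniv

set_option autoImplicit false

open Cfsg

namespace Cfsg.Agent.S3878

theorem result (π : Set ℕ) :
    ((∀ (G : Type) [Group G] [Finite G], Cfsg.IsEPiGroup π G) ↔
      ((∀ p q : ℕ, p.Prime → q.Prime → p ∈ π → q ∈ π → p = q) ∨ ∀ p : ℕ, p.Prime → p ∈ π)) ∧
    ((∀ (G : Type) [Group G] [Finite G], Cfsg.IsDPiGroup π G) ↔
      ((∀ p q : ℕ, p.Prime → q.Prime → p ∈ π → q ∈ π → p = q) ∨ ∀ p : ℕ, p.Prime → p ∈ π)) := by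
  exact Cfsg.Agent.Lib.Lead.HallUniv.main π

end Cfsg.Agent.S3878
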