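import Cfsg.Statements.S3886
import Mathlib
import Cfsg.Agent.Lib.Helper2.MetaOdd6
import Cfsg.Agent.Lib.Helper7.CentrallyLarge

set_option autoImplicit false
open Cfsg

namespace Cfsg.Agent.S3886

open Cfsg.Agent.Lib.Helper2

/-- Let p be an odd prime and G a finite metacyclic p-group (G has a cyclic normal subgroup with cyclic quotient). Then the largest value of |R| · |Z(R)| over subgroups R of G is |G : G'|², and the subgroups attaining it (the centrally large subgroups) are exactly the non-abelian subgroups together with the maximal abelian subgroups of G. -/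
theorem result {G : Type*} [Group G] [Finite G] {p : ℕ} [Fact p.Prime] (hp : p ≠ 2) (hG : IsPGroup p G) (hmc : Cfsg.IsMetacyclic G) : Cfsg.maxCentralProduct G = (commutator G).index ^ 2 ∧
    ∀ R : Subgroup G, Cfsg.IsCentrallyLarge R ↔ (¬ IsMulCommutative ↥R ∨ Maximal (fun K : Subgroup G => IsMulCommutative ↥K) R) := by
  have hsq := MetaOdd.index_commutator_sq hp hG hmc
  have hmax : Cfsg.maxCentralizerProduct G = (commutator G).index ^ 2 := by
    obtain ⟨N, hNn, hNc, hQc⟩ := hmc
    rw [hsq]
    exact MetaOdd.maxCentralizerProduct_eq hp hG N hNc (MetaOdd.commutator_le_of_cyclic_quotient N hQc)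
  have hcl : ∀ R : Subgroup G, Cfsg.IsCentrallyLarge R ↔
      (Subgroup.center G ≤ R ∧ Subgroup.centralizer (R : Set G) ≤ R) := by
    intro R
    obtain ⟨N, hNn, hNc, hQc⟩ := hmc
    have hGN := MetaOdd.commutator_le_of_cyclic_quotient N hQc
    constructor
    · intro h
      obtain ⟨h1, h2⟩ := Cfsg.Agent.Lib.Helper7.centrallyLarge_cd R h
      refine ⟨?_, h2⟩
      rw [← MetaOdd.card_mul_card_centralizer_eq_iff hp hG N hNc hGN R, ← hsq, ← hmax]
      exact h1
    · rintro ⟨h1, h2⟩
      apply Cfsg.Agent.Lib.Helper7.centrallyLarge_of_cd R _ h2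
      rw [hmax, hsq]
      exact (MetaOdd.card_mul_card_centralizer_eq_iff hp hG N hNc hGN R).mpr h1
  refine ⟨?_, ?_⟩
  · rw [Cfsg.Agent.Lib.Helper7.maxCentralProduct_eq, hmax]
  · intro R
    rw [hcl R]
    constructor
    · rintro ⟨h1, h2⟩
      by_cases hR : IsMulCommutative ↥R
      · right
        refine ⟨hR, fun K hK hRK => ?_⟩
        have h3 : K ≤ Subgroup.centralizer (K : Set G) :=
          Subgroup.le_centralizer_iff_isMulCommutative.mpr hK
        exact (h3.trans (Subgroup.centralizer_le (SetLike.coe_subset_coe.mpr hRK))).trans h2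
      · left; exact hR
    · rintro (hR | hR)
      · have h0 := MetaOdd.centralizer_le_of_not_comm hp hG hmc R hR
        exact ⟨(Subgroup.center_le_centralizer _).trans h0, h0⟩
      · obtain ⟨hRc, hmaxR⟩ := hR
        have h3 : Subgroup.centralizer (R : Set G) ≤ R := by
          intro c hc
          have := hmaxR (MetaOdd.comm_sup_zpowers hRc hc) le_sup_left
          exact this ((le_sup_right : Subgroup.zpowers c ≤ _) (Subgroup.mem_zpowers c))
        exact ⟨(Subgroup.center_le_centralizer _).trans h3, h3⟩

end Cfsg.Agent.S3886
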