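import Cfsg.Statements.S3889
-- import your own Cfsg.Agent.* helpers here

set_option autoImplicit false
open Cfsg

namespace Cfsg.Agent.S3889

/-- A finite abelian group that is the union of a family of proper subgroups any two of which intersect trivially is elementary abelian: its exponent is a prime. -/
theorem result {G : Type*} [CommGroup G] [Finite G] (𝓑 : Set (Subgroup G)) (hprop : ∀ B ∈ 𝓑, B ≠ ⊤)
    (hcov : ∀ g : G, ∃ B ∈ 𝓑, g ∈ B) (hdisj : ∀ B ∈ 𝓑, ∀ C ∈ 𝓑, B ≠ C → B ⊓ C = ⊥) :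
    (Monoid.exponent G).Prime := by
  classical
  -- key divisibility
  have key : ∀ B ∈ 𝓑, ∀ g ∈ B, ∀ h : G, h ∉ B → g ^ orderOf h = 1 := by
    intro B hB g hg h hh
    have hhg : h * g ∉ B := by
      intro hmem
      apply hh
      have := B.mul_mem hmem (B.inv_mem hg)
      simpa using this
    obtain ⟨C, hC, hCmem⟩ := hcov (h * g)
    have hne : B ≠ C := by
      rintro rfl
      exact hhg hCmem
    have h1 : (h * g) ^ orderOf h = g ^ orderOf h := by
      rw [mul_pow, pow_orderOf_eq_one, one_mul]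
    have h2 : g ^ orderOf h ∈ B ⊓ C := by
      refine ⟨B.pow_mem hg _, ?_⟩
      rw [← h1]
      exact C.pow_mem hCmem _
    rw [hdisj B hB C hC hne] at h2
    exact Subgroup.mem_bot.1 h2
  have step2 : ∀ B ∈ 𝓑, ∀ g ∈ B, g ≠ 1 → ∀ h : G, h ∉ B → orderOf g = orderOf h := by
    intro B hB g hg hg1 h hh
    apply Nat.dvd_antisymm
    · exact orderOf_dvd_of_pow_eq_one (key B hB g hg h hh)
    · obtain ⟨C, hC, hCmem⟩ := hcov h
      have hne : B ≠ C := by
        rintro rfl
        exact hh hCmem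
      have hgC : g ∉ C := by
        intro hgC
        have : g ∈ B ⊓ C := ⟨hg, hgC⟩
        rw [hdisj B hB C hC hne] at this
        exact hg1 (Subgroup.mem_bot.1 this)
      exact orderOf_dvd_of_pow_eq_one (key C hC h hCmem g hgC)
  have exists_not_mem : ∀ B ∈ 𝓑, ∃ h : G, h ∉ B := by
    intro B hB
    by_contra hall
    push Not at hall
    exact hprop B hB (eq_top_iff.2 fun x _ => hall x)
  have step3 : ∀ g g' : G, g ≠ 1 → g' ≠ 1 → orderOf g = orderOf g' := by
    intro g g' hg hg'
    obtain ⟨B, hB, hgB⟩ := hcov g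
    by_cases hg'B : g' ∈ B
    · obtain ⟨h, hh⟩ := exists_not_mem B hB
      rw [step2 B hB g hgB hg h hh, step2 B hB g' hg'B hg' h hh]
    · exact step2 B hB g hgB hg g' hg'B
  obtain ⟨B₀, hB₀, -⟩ := hcov 1
  obtain ⟨h, hh⟩ := exists_not_mem B₀ hB₀
  have hh1 : h ≠ 1 := by
    rintro rfl
    exact hh B₀.one_mem
  haveI : Nontrivial G := ⟨⟨h, 1, hh1⟩⟩
  set n := orderOf h with hn
  have hn0 : n ≠ 0 := (orderOf_pos h).ne'
  have hn1 : n ≠ 1 := by
    intro h1
    exact hh1 (orderOf_eq_one_iff.1 h1)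
  have hprime : n.Prime := by
    have hq : (n.minFac).Prime := Nat.minFac_prime hn1
    have hdvd : n.minFac ∣ orderOf h := Nat.minFac_dvd n
    have ho := orderOf_pow_orderOf_div hn0 hdvd
    have hne1 : h ^ (orderOf h / n.minFac) ≠ 1 := by
      intro h1
      rw [h1, orderOf_one] at ho
      exact hq.one_lt.ne' ho.symm
    have := step3 _ _ hne1 hh1
    rw [ho] at this
    rw [← hn] at this
    rw [← this]; exact hq
  rw [(Monoid.exponent_eq_prime_iff hprime).2 (fun g hg => step3 g h hg hh1)]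
  exact hprime

end Cfsg.Agent.S3889
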