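import Cfsg.Statements.S3890
import Cfsg.Agent.Lib.Helper2.NilpotentCover

set_option autoImplicit false
open Cfsg

namespace Cfsg.Agent.S3890

open Cfsg.Agent.Lib.Helper2

/-- A cover of a group is a finite set of proper subgroups whose union is the whole group; it is minimal when no cover has fewer members, and nilpotent when all its members are nilpotent. Let G be a finite group with trivial center admitting a nilpotent minimal cover 𝓐, and let P be an abelian Sylow p-subgroup of G that is not normal. Then either P is elementary abelian of order greater than p, or P is a Sylow p-subgroup of some member A of 𝓐, the normalizer N of P is a maximal subgroup of G, N meets each of its conjugates by elements outside N in a subgroup of order prime to p, and the centralizer of P equals A. -/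
theorem result {G : Type*} [Group G] [Finite G] (hZ : Subgroup.center G = ⊥) (𝓐 : Finset (Subgroup G))
    (h𝓐 : ((∀ A ∈ 𝓐, A ≠ ⊤) ∧ (∀ g : G, ∃ A ∈ 𝓐, g ∈ A)) ∧ (∀ 𝓑 : Finset (Subgroup G), (∀ A ∈ 𝓑, A ≠ ⊤) ∧ (∀ g : G, ∃ A ∈ 𝓑, g ∈ A) → 𝓐.card ≤ 𝓑.card) ∧ (∀ A ∈ 𝓐, Group.IsNilpotent ↥A)) {p : ℕ} [Fact p.Prime] (P : Sylow p G) (hab : IsMulCommutative ↥(P : Subgroup G))
    (hnn : ¬ (P : Subgroup G).Normal) :
    (Cfsg.IsElementaryAbelian p (P : Subgroup G) ∧ p < Nat.card ↥(P : Subgroup G)) ∨
    (∃ A ∈ 𝓐, (P : Subgroup G) ≤ A ∧ ¬ p ∣ ((P : Subgroup G).subgroupOf A).index ∧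
      IsCoatom (Subgroup.normalizer ((P : Subgroup G) : Set G)) ∧
      (∀ g : G, g ∉ Subgroup.normalizer ((P : Subgroup G) : Set G) →
        ¬ p ∣ Nat.card ↥(Subgroup.normalizer ((P : Subgroup G) : Set G) ⊓
          (Subgroup.normalizer ((P : Subgroup G) : Set G)).map (MulAut.conj g).toMonoidHom)) ∧
      Subgroup.centralizer ((P : Subgroup G) : Set G) = A) := by
  have hp : p.Prime := Fact.out
  have hcov : NilCover 𝓐 p :=
    ⟨hZ, h𝓐.1.1, h𝓐.1.2, h𝓐.2.1, h𝓐.2.2, NilCover.sylow_comm_of_one P hab⟩
  by_cases hel : Cfsg.IsElementaryAbelian p (P : Subgroup G) ∧ p < Nat.card ↥(P : Subgroup G)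
  · exact Or.inl hel
  · right
    have hP : (∃ y ∈ (P : Subgroup G), y ^ p ≠ 1) ∨ Nat.card (P : Subgroup G) = p := by
      by_cases hex : ∃ y ∈ (P : Subgroup G), y ^ p ≠ 1
      · exact Or.inl hex
      · right
        push Not at hex
        have h1 : Cfsg.IsElementaryAbelian p (P : Subgroup G) := ⟨hab, hex⟩
        have h2 : Nat.card (P : Subgroup G) ≤ p := by
          by_contra h3
          exact hel ⟨h1, not_le.mp h3⟩
        obtain ⟨k, hk⟩ := P.2.exists_card_eq
        have hP1 : (P : Subgroup G) ≠ ⊥ := by
          intro hb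
          apply hnn
          rw [hb]
          infer_instance
        rcases Nat.eq_zero_or_pos k with rfl | hk0
        · exfalso
          apply hP1
          rw [pow_zero] at hk
          exact Subgroup.card_eq_one.mp hk
        · rw [hk] at h2 ⊢
          have : k ≤ 1 := by
            by_contra h4
            have h5 : p ^ 2 ≤ p ^ k := Nat.pow_le_pow_right hp.pos (by omega)
            have h6 : p < p ^ 2 := by
              have := hp.one_lt
              nlinarith
            omega
          have : k = 1 := by omega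
          rw [this, pow_one]
    obtain ⟨A, hA, h1, h2, h3, h4, h5, -⟩ := hcov.main P hP hnn
    exact ⟨A, hA, h1, h2, h3, h4, h5⟩

end Cfsg.Agent.S3890
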