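import Cfsg.Statements.S3891
import Cfsg.Agent.Lib.Helper2.NilpotentCover

set_option autoImplicit false
open Cfsg

namespace Cfsg.Agent.S3891

open Cfsg.Agent.Lib.Helper2

/-- A cover of a group is a finite set of proper subgroups whose union is the whole group; it is minimal when no cover has fewer members, and nilpotent when all its members are nilpotent. Let G be a finite group with trivial center admitting a nilpotent minimal cover, and let P be a non-normal Sylow p-subgroup of G that is cyclic, or abelian but not elementary abelian. Then the centralizer of P is nilpotent and the normalizer of P is the unique maximal subgroup of G containing the centralizer of P. -/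
theorem result {G : Type*} [Group G] [Finite G] (hZ : Subgroup.center G = ⊥) (𝓐 : Finset (Subgroup G))
    (h𝓐 : ((∀ A ∈ 𝓐, A ≠ ⊤) ∧ (∀ g : G, ∃ A ∈ 𝓐, g ∈ A)) ∧ (∀ 𝓑 : Finset (Subgroup G), (∀ A ∈ 𝓑, A ≠ ⊤) ∧ (∀ g : G, ∃ A ∈ 𝓑, g ∈ A) → 𝓐.card ≤ 𝓑.card) ∧ (∀ A ∈ 𝓐, Group.IsNilpotent ↥A)) {p : ℕ} [Fact p.Prime] (P : Sylow p G)
    (hP : IsCyclic ↥(P : Subgroup G) ∨ (IsMulCommutative ↥(P : Subgroup G) ∧ ¬ Cfsg.IsElementaryAbelian p (P : Subgroup G)))
    (hnn : ¬ (P : Subgroup G).Normal) :
    Group.IsNilpotent ↥(Subgroup.centralizer ((P : Subgroup G) : Set G)) ∧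
      IsCoatom (Subgroup.normalizer ((P : Subgroup G) : Set G)) ∧
      ∀ M : Subgroup G, IsCoatom M → Subgroup.centralizer ((P : Subgroup G) : Set G) ≤ M →
        M = Subgroup.normalizer ((P : Subgroup G) : Set G) := by
  have hp : p.Prime := Fact.out
  have hP1 : (P : Subgroup G) ≠ ⊥ := by
    intro hb
    apply hnn
    rw [hb]
    infer_instance
  have hab : IsMulCommutative ↥(P : Subgroup G) := by
    rcases hP with hc | ⟨hc, -⟩
    · exact IsCyclic.isMulCommutative
    · exact hc
  have hcov : NilCover 𝓐 p :=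
    ⟨hZ, h𝓐.1.1, h𝓐.1.2, h𝓐.2.1, h𝓐.2.2, NilCover.sylow_comm_of_one P hab⟩
  have hP' : (∃ y ∈ (P : Subgroup G), y ^ p ≠ 1) ∨ Nat.card (P : Subgroup G) = p := by
    rcases hP with hc | ⟨hc, hne⟩
    · obtain ⟨y, hy⟩ := hc.exists_generator
      by_cases hyp : (y : G) ^ p = 1
      · right
        have h1 : orderOf y = Nat.card (P : Subgroup G) := orderOf_eq_card_of_forall_mem_zpowers hy
        have h2 : orderOf y ∣ p := by
          rw [← Subgroup.orderOf_coe]
          exact orderOf_dvd_of_pow_eq_one hyp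
        rcases (Nat.dvd_prime hp).1 h2 with h3 | h3
        · exfalso
          apply hP1
          rw [h3] at h1
          exact Subgroup.card_eq_one.mp h1.symm
        · rw [← h1, h3]
      · exact Or.inl ⟨y, y.2, hyp⟩
    · left
      by_contra hex
      push Not at hex
      exact hne ⟨hc, hex⟩
  obtain ⟨A, hA, -, -, h3, -, h5, h6⟩ := hcov.main P hP' hnn
  refine ⟨?_, h3, h6⟩
  rw [h5]
  exact h𝓐.2.2 A hA

end Cfsg.Agent.S3891
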