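import Cfsg.Statements.S3892
import Cfsg.Agent.Lib.Helper2.NilpotentCover

set_option autoImplicit false
open Cfsg

namespace Cfsg.Agent.S3892

open Cfsg.Agent.Lib.Helper2 Equiv

section general

variable {G : Type*} [Group G]

/-- the core argument -/
theorem core [Finite G] {p : ℕ} [Fact p.Prime] {𝓐 : Finset (Subgroup G)} (h : NilCover 𝓐 p)
    (y c : G) (hyp : y ^ p = 1) (H : Subgroup G) (hH : H ≠ ⊤)
    (hC : Subgroup.centralizer {y} ≤ H) (hc : c ∈ H)
    (hne : y * (c * y * c⁻¹) ≠ (c * y * c⁻¹) * y) : False := by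
  obtain ⟨A, hA, hyA⟩ := h.cover y
  obtain ⟨A', hA', hyA'⟩ := h.cover (c * y * c⁻¹)
  have hyk : y ^ p ^ 1 = 1 := by rwa [pow_one]
  have hy'k : (c * y * c⁻¹) ^ p ^ 1 = 1 := by
    rw [pow_one, conj_pow, hyp, mul_one, mul_inv_cancel]
  have h1 : A ≤ Subgroup.centralizer {y} := h.le_centralizer (h.nilp A hA) hyA hyk
  have h2 : A' ≤ Subgroup.centralizer {c * y * c⁻¹} :=
    h.le_centralizer (h.nilp A' hA') hyA' hy'k
  have h3 : Subgroup.centralizer {c * y * c⁻¹} ≤ H := by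
    intro g hg
    rw [Subgroup.mem_centralizer_singleton_iff] at hg
    have h4 : c⁻¹ * g * c ∈ Subgroup.centralizer {y} := by
      rw [Subgroup.mem_centralizer_singleton_iff]
      have : c⁻¹ * (g * (c * y * c⁻¹)) * c = c⁻¹ * ((c * y * c⁻¹) * g) * c := by rw [hg]
      calc c⁻¹ * g * c * y = c⁻¹ * (g * (c * y * c⁻¹)) * c := by group
        _ = c⁻¹ * ((c * y * c⁻¹) * g) * c := this
        _ = y * (c⁻¹ * g * c) := by group
    have h5 := H.mul_mem (H.mul_mem hc (hC h4)) (H.inv_mem hc)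
    have : c * (c⁻¹ * g * c) * c⁻¹ = g := by group
    rwa [this] at h5
  have hAA : A = A' := h.eq_of_le hH hA hA' (h1.trans hC) (h2.trans h3)
  apply hne
  have : c * y * c⁻¹ ∈ Subgroup.centralizer {y} := h1 (hAA ▸ hyA')
  exact (Subgroup.mem_centralizer_singleton_iff.mp this).symm

theorem sylow_comm_of_not_sq_dvd [Finite G] {p : ℕ} [Fact p.Prime] (h : ¬ p ^ 2 ∣ Nat.card G) :
    ∀ Q : Sylow p G, ∀ a ∈ (Q : Subgroup G), ∀ b ∈ (Q : Subgroup G), a * b = b * a := by
  intro Q a ha b hb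
  have hp : p.Prime := Fact.out
  have hcard := Q.card_eq_multiplicity
  have hdvd : Nat.card (Q : Subgroup G) ∣ Nat.card G := Subgroup.card_subgroup_dvd_card _
  have hk : Nat.factorization (Nat.card G) p < 2 := by
    by_contra hk
    push Not at hk
    apply h
    exact (pow_dvd_pow p hk).trans (hcard ▸ hdvd)
  have hcyc : IsCyclic (Q : Subgroup G) := by
    apply isCyclic_of_card_dvd_prime (p := p)
    rw [hcard]
    calc p ^ Nat.factorization (Nat.card G) p ∣ p ^ 1 := pow_dvd_pow p (by omega)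
      _ = p := pow_one p
  have := hcyc.isMulCommutative.is_comm.comm (⟨a, ha⟩ : (Q : Subgroup G)) ⟨b, hb⟩
  exact congrArg Subtype.val this

theorem not_sq_dvd_factorial {p n : ℕ} (hp : p.Prime) (hnp : n < 2 * p) : ¬ p ^ 2 ∣ n.factorial := by
  have h2 : 2 ≤ p := hp.two_le
  rcases Nat.eq_zero_or_pos n with rfl | hn0
  · simp only [Nat.factorial_zero, Nat.dvd_one]
    intro h
    have : p = 1 := by
      rcases Nat.pow_eq_one.mp h with h | h
      · exact h
      · omega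
    omega
  have hlog : Nat.log p n < 2 := by
    rw [Nat.log_lt_iff_lt_pow (by omega) (by omega)]
    nlinarith
  rw [hp.pow_dvd_factorial_iff hlog]
  have : Finset.Ico 1 2 = {1} := by decide
  rw [this, Finset.sum_singleton, pow_one]
  have : n / p < 2 := (Nat.div_lt_iff_lt_mul (by omega)).mpr hnp
  omega

variable {n : ℕ}

theorem card_dvd_factorial [Finite G] (φ : G →* Perm (Fin n)) (hφ : Function.Injective φ) :
    Nat.card G ∣ n.factorial := by
  have := Subgroup.card_dvd_of_injective φ hφ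
  rwa [Nat.card_eq_fintype_card (α := Perm (Fin n)), Fintype.card_perm, Fintype.card_fin] at this

theorem center_eq_bot_of_alt (hn : 4 ≤ n) (φ : G →* Perm (Fin n)) (hφ : Function.Injective φ)
    (hA : ∀ σ ∈ alternatingGroup (Fin n), ∃ g, φ g = σ) : Subgroup.center G = ⊥ := by
  rw [eq_bot_iff]
  intro z hz
  rw [Subgroup.mem_bot]
  apply hφ
  rw [map_one]
  by_contra hne
  obtain ⟨a, ha⟩ : ∃ a, φ z a ≠ a := by
    by_contra hcon
    push Not at hcon
    exact hne (Equiv.ext hcon)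
  have : 2 ≤ (({a, φ z a} : Finset (Fin n))ᶜ).card := by
    rw [← Nat.add_le_add_iff_left, Finset.card_add_card_compl, Finset.card_pair ha.symm,
      Fintype.card_fin]
    exact hn
  rw [← Nat.lt_iff_add_one_le, Finset.one_lt_card_iff] at this
  obtain ⟨c, d, hc, hd, hcd⟩ := this
  simp only [Finset.compl_insert, Finset.mem_erase, ← ne_eq, Finset.mem_compl,
    Finset.mem_singleton] at hc hd
  set b := φ z a with hb
  have hk : swap b d * swap b c ∈ alternatingGroup (Fin n) := by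
    rw [Equiv.Perm.mem_alternatingGroup, map_mul, Equiv.Perm.sign_swap hd.2.symm,
      Equiv.Perm.sign_swap hc.2.symm]
    rfl
  obtain ⟨g, hg⟩ := hA _ hk
  have hcomm : φ z * φ g = φ g * φ z := by
    rw [← map_mul, ← map_mul, (Subgroup.mem_center_iff.mp hz g).symm]
  have h1 := congrArg (fun σ : Perm (Fin n) => σ a) hcomm
  simp only [Equiv.Perm.mul_apply, hg] at h1
  rw [swap_apply_of_ne_of_ne (x := a) ha.symm hc.1.symm,
    swap_apply_of_ne_of_ne ha.symm hd.1.symm, ← hb, swap_apply_left,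
    swap_apply_of_ne_of_ne hc.2 hcd] at h1
  exact hc.2 h1.symm

theorem nilCover_of_inj [Finite G] {p : ℕ} [Fact p.Prime] (hn : 4 ≤ n) (hnp : n < 2 * p)
    (φ : G →* Perm (Fin n)) (hφ : Function.Injective φ)
    (hA : ∀ σ ∈ alternatingGroup (Fin n), ∃ g, φ g = σ) (𝓐 : Finset (Subgroup G))
    (h𝓐 : ((∀ A ∈ 𝓐, A ≠ ⊤) ∧ (∀ g : G, ∃ A ∈ 𝓐, g ∈ A)) ∧ (∀ 𝓑 : Finset (Subgroup G), (∀ A ∈ 𝓑, A ≠ ⊤) ∧ (∀ g : G, ∃ A ∈ 𝓑, g ∈ A) → 𝓐.card ≤ 𝓑.card) ∧ (∀ A ∈ 𝓐, Group.IsNilpotent ↥A)) :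
    NilCover 𝓐 p :=
  ⟨center_eq_bot_of_alt hn φ hφ hA, h𝓐.1.1, h𝓐.1.2, h𝓐.2.1, h𝓐.2.2,
    sylow_comm_of_not_sq_dvd (fun hdvd =>
      not_sq_dvd_factorial (Fact.out : p.Prime) hnp (hdvd.trans (card_dvd_factorial φ hφ)))⟩

/-- the general case: a prime `5 ≤ p < n < 2p` -/
theorem no_cover_of_prime [Finite G] {p : ℕ} [Fact p.Prime] (hp5 : 5 ≤ p) (hpn : p < n)
    (φ : G →* Perm (Fin n)) (hφ : Function.Injective φ)
    (hA : ∀ σ ∈ alternatingGroup (Fin n), ∃ g, φ g = σ) {𝓐 : Finset (Subgroup G)}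
    (h : NilCover 𝓐 p) : False := by
  have hp : p.Prime := Fact.out
  haveI : NeZero n := ⟨by omega⟩
  set a0 : Fin n := ⟨0, by omega⟩ with ha0
  set a1 : Fin n := ⟨1, by omega⟩ with ha1
  set a2 : Fin n := ⟨2, by omega⟩ with ha2
  set a3 : Fin n := ⟨3, by omega⟩ with ha3
  set ap : Fin n := ⟨p, hpn⟩ with hap
  set i₀ : Fin n := ⟨p - 1, by omega⟩ with hi₀
  set y₀ : Perm (Fin n) := Fin.cycleRange i₀ with hy₀
  -- fixed points of `y₀`
  have F1 : ∀ j : Fin n, y₀ j ≠ j ↔ j.val < p := by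
    intro j
    by_cases hj : j ≤ i₀
    · have h1 := Fin.coe_cycleRange_of_le hj
      have h2 : j.val ≤ p - 1 := hj
      constructor
      · intro _; omega
      · intro _ heq
        rw [← hy₀, heq] at h1
        split_ifs at h1 with h3
        · have : j.val = p - 1 := congrArg Fin.val h3
          omega
        · omega
    · push Not at hj
      have h2 : p - 1 < j.val := hj
      rw [hy₀, Fin.cycleRange_of_gt hj]
      constructor
      · intro h3; exact absurd rfl h3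
      · intro h3; omega
  have F2 : ∀ j : Fin n, j.val < p - 1 → (y₀ j).val = j.val + 1 := by
    intro j hj
    exact Fin.coe_cycleRange_of_lt (show j < i₀ from hj)
  have y0 : y₀ a0 = a1 := Fin.ext (by rw [F2 a0 (by simp [ha0]; omega)])
  have y1 : y₀ a1 = a2 := Fin.ext (by rw [F2 a1 (by simp [ha1]; omega)])
  have y2 : y₀ a2 = a3 := Fin.ext (by rw [F2 a2 (by simp [ha2]; omega)])
  have hsign : y₀ ∈ alternatingGroup (Fin n) := by
    rw [Equiv.Perm.mem_alternatingGroup, hy₀, Fin.sign_cycleRange]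
    have hodd : Odd p := hp.odd_of_ne_two (by omega)
    obtain ⟨k, hk⟩ := hodd
    have : (i₀ : ℕ) = 2 * k := by simp only [hi₀]; omega
    rw [this, pow_mul]
    simp
  have hord : y₀ ^ p = 1 := by
    have h0 : i₀ ≠ 0 := by
      intro h0
      have := congrArg Fin.val h0
      simp only [hi₀, Fin.val_zero] at this
      omega
    have h1 := Fin.cycleType_cycleRange h0
    have h2 : orderOf y₀ = p := by
      rw [← Equiv.Perm.lcm_cycleType, hy₀, h1, Multiset.lcm_singleton]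
      simp only [hi₀, normalize_eq]
      omega
    rw [← h2, pow_orderOf_eq_one]
  -- the three-cycle
  have h01 : a0 ≠ a1 := by simp [ha0, ha1]
  have h12 : a1 ≠ a2 := by simp [ha1, ha2]
  have h02 : a0 ≠ a2 := by simp [ha0, ha2]
  have h03 : a0 ≠ a3 := by simp [ha0, ha3]
  have h0p : a0 ≠ ap := by simp [ha0, hap]; omega
  have h1p : a1 ≠ ap := by simp [ha1, hap]; omega
  set c₀ : Perm (Fin n) := swap a0 a1 * swap a1 a2 with hc₀
  have c0 : c₀ a0 = a1 := by
    rw [hc₀, Equiv.Perm.mul_apply, swap_apply_of_ne_of_ne h01 h02, swap_apply_left]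
  have c1 : c₀ a1 = a2 := by
    rw [hc₀, Equiv.Perm.mul_apply, swap_apply_left, swap_apply_of_ne_of_ne h02.symm h12.symm]
  have c2 : c₀ a2 = a0 := by
    rw [hc₀, Equiv.Perm.mul_apply, swap_apply_right, swap_apply_right]
  have hcsign : c₀ ∈ alternatingGroup (Fin n) := by
    rw [Equiv.Perm.mem_alternatingGroup, hc₀, map_mul, Equiv.Perm.sign_swap h01,
      Equiv.Perm.sign_swap h12]
    rfl
  have hcpres : ∀ j : Fin n, (c₀ j).val < p ↔ j.val < p := by
    intro j
    by_cases hj0 : j = a0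
    · rw [hj0, c0]; simp [ha0, ha1]; omega
    by_cases hj1 : j = a1
    · rw [hj1, c1]; simp [ha1, ha2]; omega
    by_cases hj2 : j = a2
    · rw [hj2, c2]; simp [ha0, ha2]; omega
    · rw [hc₀, Equiv.Perm.mul_apply, swap_apply_of_ne_of_ne hj1 hj2,
        swap_apply_of_ne_of_ne hj0 hj1]
  set t₀ : Perm (Fin n) := swap a0 ap * swap a0 a1 with ht₀
  have t1 : t₀ a1 = ap := by
    rw [ht₀, Equiv.Perm.mul_apply, swap_apply_right, swap_apply_left]
  have htsign : t₀ ∈ alternatingGroup (Fin n) := by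
    rw [Equiv.Perm.mem_alternatingGroup, ht₀, map_mul, Equiv.Perm.sign_swap h0p,
      Equiv.Perm.sign_swap h01]
    rfl
  obtain ⟨y, hy⟩ := hA _ hsign
  obtain ⟨c, hc⟩ := hA _ hcsign
  obtain ⟨t, ht⟩ := hA _ htsign
  -- the subgroup `H`
  let H : Subgroup G :=
    { carrier := {g | ∀ j : Fin n, (φ g j).val < p ↔ j.val < p}
      one_mem' := by intro j; rw [map_one]; rfl
      mul_mem' := by
        intro g g' hg hg' j
        rw [map_mul, Equiv.Perm.mul_apply, hg, hg']
      inv_mem' := by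
        intro g hg j
        rw [← hg (φ g⁻¹ j), ← Equiv.Perm.mul_apply, ← map_mul, mul_inv_cancel, map_one]
        rfl }
  have hmemH : ∀ g : G, g ∈ H ↔ ∀ j : Fin n, (φ g j).val < p ↔ j.val < p := fun g => Iff.rfl
  refine core h y c ?_ H ?_ ?_ ?_ ?_
  · apply hφ
    rw [map_pow, hy, hord, map_one]
  · intro htop
    have h1 : t ∈ H := htop ▸ Subgroup.mem_top t
    have h2 := (hmemH t).mp h1 a1
    rw [ht, t1] at h2
    simp only [hap, ha1] at h2
    omega
  · intro g hg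
    rw [Subgroup.mem_centralizer_singleton_iff] at hg
    have hcomm : φ g * y₀ = y₀ * φ g := by rw [← hy, ← map_mul, ← map_mul, hg]
    rw [hmemH]
    intro j
    rw [← F1, ← F1]
    have h1 : y₀ (φ g j) = φ g (y₀ j) := by
      rw [← Equiv.Perm.mul_apply, ← Equiv.Perm.mul_apply, hcomm]
    rw [h1]
    exact (φ g).injective.ne_iff
  · rw [hmemH, hc]
    exact hcpres
  · intro hcomm
    have h1 := congrArg φ hcomm
    simp only [map_mul, map_inv, hy, hc] at h1
    have h2 := congrArg (fun σ : Perm (Fin n) => σ a1) h1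
    simp only [Equiv.Perm.mul_apply] at h2
    have i1 : c₀⁻¹ a1 = a0 := by rw [Equiv.Perm.inv_eq_iff_eq, c0]
    have i2 : c₀⁻¹ a2 = a1 := by rw [Equiv.Perm.inv_eq_iff_eq, c1]
    rw [i1, y0, c1, y2, y1, i2, y1, c2] at h2
    exact h03 h2.symm

end general

section small

theorem no_cover_S4 [Fact (Nat.Prime 3)] {𝓐 : Finset (Subgroup (Perm (Fin 4)))}
    (h : NilCover 𝓐 3) : False := by
  refine core h (swap 0 1 * swap 1 2) (swap 0 1 * swap 2 3) ?_ (alternatingGroup (Fin 4))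
    ?_ ?_ ?_ ?_
  · decide
  · intro htop
    have : swap (0 : Fin 4) 1 ∈ alternatingGroup (Fin 4) := htop ▸ Subgroup.mem_top _
    rw [Equiv.Perm.mem_alternatingGroup] at this
    revert this
    decide
  · intro g hg
    rw [Subgroup.mem_centralizer_singleton_iff] at hg
    rw [Equiv.Perm.mem_alternatingGroup]
    revert g
    decide
  · exact Equiv.Perm.mem_alternatingGroup.mpr (by decide)
  · decide

theorem no_cover_S5 [Fact (Nat.Prime 5)] {𝓐 : Finset (Subgroup (Perm (Fin 5)))}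
    (h : NilCover 𝓐 5) : False := by
  refine core h (swap 0 1 * swap 1 2 * swap 2 3 * swap 3 4) (swap 0 1 * swap 1 2) ?_
    (alternatingGroup (Fin 5)) ?_ ?_ ?_ ?_
  · decide
  · intro htop
    have : swap (0 : Fin 5) 1 ∈ alternatingGroup (Fin 5) := htop ▸ Subgroup.mem_top _
    rw [Equiv.Perm.mem_alternatingGroup] at this
    revert this
    decide
  · intro g hg
    rw [Subgroup.mem_centralizer_singleton_iff] at hg
    rw [Equiv.Perm.mem_alternatingGroup]
    revert g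
    decide +kernel
  · exact Equiv.Perm.mem_alternatingGroup.mpr (by decide)
  · decide

theorem A5_aux : ∀ g : Perm (Fin 5), Equiv.Perm.sign g = 1 →
    g * (swap 0 1 * swap 1 2) = (swap 0 1 * swap 1 2) * g → g 4 = 4 := by
  decide +kernel

theorem no_cover_A5 [Fact (Nat.Prime 3)] {𝓐 : Finset (Subgroup ↥(alternatingGroup (Fin 5)))}
    (h : NilCover 𝓐 3) : False := by
  refine core h ⟨swap 0 1 * swap 1 2, Equiv.Perm.mem_alternatingGroup.mpr (by decide)⟩
    ⟨swap 0 1 * swap 2 3, Equiv.Perm.mem_alternatingGroup.mpr (by decide)⟩ ?_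
    ((MulAction.stabilizer (Perm (Fin 5)) (4 : Fin 5)).subgroupOf (alternatingGroup (Fin 5)))
    ?_ ?_ ?_ ?_
  · apply Subtype.ext
    decide
  · intro htop
    have : (⟨swap 0 1 * swap 1 4, Equiv.Perm.mem_alternatingGroup.mpr (by decide)⟩ :
        ↥(alternatingGroup (Fin 5))) ∈
        (MulAction.stabilizer (Perm (Fin 5)) (4 : Fin 5)).subgroupOf (alternatingGroup (Fin 5)) :=
      htop ▸ Subgroup.mem_top _
    rw [Subgroup.mem_subgroupOf, MulAction.mem_stabilizer_iff] at this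
    revert this
    decide
  · rintro ⟨g, hg⟩ hcomm
    rw [Subgroup.mem_centralizer_singleton_iff] at hcomm
    rw [Subgroup.mem_subgroupOf, MulAction.mem_stabilizer_iff]
    exact A5_aux g (Equiv.Perm.mem_alternatingGroup.mp hg) (congrArg Subtype.val hcomm)
  · rw [Subgroup.mem_subgroupOf, MulAction.mem_stabilizer_iff]
    decide
  · intro hcomm
    have := congrArg Subtype.val hcomm
    revert this
    decide

theorem exists_prime (n : ℕ) (hn : 6 ≤ n) : ∃ p : ℕ, p.Prime ∧ 5 ≤ p ∧ p < n ∧ n < 2 * p := by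
  obtain ⟨p, hp, h1, h2⟩ := Nat.exists_prime_lt_and_le_two_mul (n / 2) (by omega)
  have h4 : p ≠ 4 := by
    rintro rfl
    norm_num at hp
  refine ⟨p, hp, by omega, ?_, by omega⟩
  rcases Nat.lt_or_ge p n with h | h
  · exact h
  · exfalso
    have hpn : p = n := by omega
    have h2n : p = 2 * (n / 2) := by omega
    have : 2 ∣ p := ⟨n / 2, h2n⟩
    have := (Nat.prime_dvd_prime_iff_eq Nat.prime_two hp).mp this
    omega

end small


/-- A cover of a group is a finite set of proper subgroups whose union is the whole group; it is minimal when no cover has fewer members, and nilpotent when all its members are nilpotent. The alternating groups of degree at least 5 and the symmetric groups of degree at least 4 have no nilpotent minimal cover. -/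
theorem result (n : ℕ) :
    (5 ≤ n → ¬ ∃ 𝓐 : Finset (Subgroup ↥(alternatingGroup (Fin n))), ((∀ A ∈ 𝓐, A ≠ ⊤) ∧ (∀ g : ↥(alternatingGroup (Fin n)), ∃ A ∈ 𝓐, g ∈ A)) ∧ (∀ 𝓑 : Finset (Subgroup ↥(alternatingGroup (Fin n))), (∀ A ∈ 𝓑, A ≠ ⊤) ∧ (∀ g : ↥(alternatingGroup (Fin n)), ∃ A ∈ 𝓑, g ∈ A) → 𝓐.card ≤ 𝓑.card) ∧ (∀ A ∈ 𝓐, Group.IsNilpotent ↥A)) ∧
    (4 ≤ n → ¬ ∃ 𝓐 : Finset (Subgroup (Equiv.Perm (Fin n))), ((∀ A ∈ 𝓐, A ≠ ⊤) ∧ (∀ g : (Equiv.Perm (Fin n)), ∃ A ∈ 𝓐, g ∈ A)) ∧ (∀ 𝓑 : Finset (Subgroup (Equiv.Perm (Fin n))), (∀ A ∈ 𝓑, A ≠ ⊤) ∧ (∀ g : (Equiv.Perm (Fin n)), ∃ A ∈ 𝓑, g ∈ A) → 𝓐.card ≤ 𝓑.card) ∧ (∀ A ∈ 𝓐, Group.IsNilpotent ↥A)) := by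
  constructor
  · rintro hn ⟨𝓐, h𝓐⟩
    have hA : ∀ σ ∈ alternatingGroup (Fin n),
        ∃ g, (alternatingGroup (Fin n)).subtype g = σ := fun σ hσ => ⟨⟨σ, hσ⟩, rfl⟩
    rcases Nat.lt_or_ge n 6 with h6 | h6
    · obtain rfl : n = 5 := by omega
      haveI : Fact (Nat.Prime 3) := ⟨by norm_num⟩
      exact no_cover_A5 (nilCover_of_inj (p := 3) (by norm_num) (by norm_num)
        (alternatingGroup (Fin 5)).subtype Subtype.val_injective hA 𝓐 h𝓐)
    · obtain ⟨p, hp, h5, hpn, hnp⟩ := exists_prime n h6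
      haveI := Fact.mk hp
      exact no_cover_of_prime h5 hpn _ Subtype.val_injective hA
        (nilCover_of_inj (by omega) hnp _ Subtype.val_injective hA 𝓐 h𝓐)
  · rintro hn ⟨𝓐, h𝓐⟩
    have hA : ∀ σ ∈ alternatingGroup (Fin n),
        ∃ g, (MonoidHom.id (Perm (Fin n))) g = σ := fun σ _ => ⟨σ, rfl⟩
    have hinj : Function.Injective (MonoidHom.id (Perm (Fin n))) := fun _ _ h => h
    rcases Nat.lt_or_ge n 6 with h6 | h6
    · rcases Nat.lt_or_ge n 5 with h5 | h5
      · obtain rfl : n = 4 := by omega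
        haveI : Fact (Nat.Prime 3) := ⟨by norm_num⟩
        exact no_cover_S4 (nilCover_of_inj (p := 3) (by norm_num) (by norm_num)
          (MonoidHom.id _) hinj hA 𝓐 h𝓐)
      · obtain rfl : n = 5 := by omega
        haveI : Fact (Nat.Prime 5) := ⟨by norm_num⟩
        exact no_cover_S5 (nilCover_of_inj (p := 5) (by norm_num) (by norm_num)
          (MonoidHom.id _) hinj hA 𝓐 h𝓐)
    · obtain ⟨p, hp, h5, hpn, hnp⟩ := exists_prime n h6
      haveI := Fact.mk hp
      exact no_cover_of_prime h5 hpn _ hinj hA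
        (nilCover_of_inj (by omega) hnp _ hinj hA 𝓐 h𝓐)

end Cfsg.Agent.S3892
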