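import Cfsg.Statements.S3893
import Cfsg.Agent.Lib.Helper4.Suz39

set_option autoImplicit false
open Cfsg

namespace Cfsg.Agent.S3893

open Cfsg.Agent.Lib.Helper4.Suz MulAction

/-- A cover of a group is a finite set of proper subgroups whose union is the whole group; it is minimal when no cover has fewer members, and nilpotent when all its members are nilpotent. The Suzuki groups Sz(q), q = 2^(2m+1) with m ≥ 1, have no nilpotent minimal cover. -/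
theorem result {F : Type*} [Field F] [Fintype F] (m : ℕ) (hm : 1 ≤ m) (hF : Fintype.card F = 2 ^ (2 * m + 1)) :
    ¬ ∃ 𝓐 : Finset (Subgroup ↥(Cfsg.Lie.Sz F (2 ^ (m + 1)))), ((∀ A ∈ 𝓐, A ≠ ⊤) ∧ (∀ g : ↥(Cfsg.Lie.Sz F (2 ^ (m + 1))), ∃ A ∈ 𝓐, g ∈ A)) ∧ (∀ 𝓑 : Finset (Subgroup ↥(Cfsg.Lie.Sz F (2 ^ (m + 1)))), (∀ A ∈ 𝓑, A ≠ ⊤) ∧ (∀ g : ↥(Cfsg.Lie.Sz F (2 ^ (m + 1))), ∃ A ∈ 𝓑, g ∈ A) → 𝓐.card ≤ 𝓑.card) ∧ (∀ A ∈ 𝓐, Group.IsNilpotent ↥A) := by
  obtain ⟨z, hz⟩ := exists_unit_ne_one hF hm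
  have hUB : USub hF ≤ stabilizer (Cfsg.Sz F m) (oInf F m) := by
    intro g hg
    rw [mem_USub_iff] at hg
    obtain ⟨a, b, rfl⟩ := hg
    rw [mem_stabilizer_iff, uZ_smul_oInf]
  have hTB : Tor hF ≤ stabilizer (Cfsg.Sz F m) (oInf F m) := by
    intro g hg
    rw [mem_Tor_iff] at hg
    obtain ⟨w, rfl⟩ := hg
    rw [mem_stabilizer_iff, hZ_smul_oInf]
  have hx1 : uZ hF (1 : F) 0 ≠ 1 := by
    intro h
    rw [← uZ_zero hF] at h
    exact one_ne_zero (uZ_injective hF h).1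
  apply no_nilpotent_min_cover_of_equiv (szEquiv hF hm) (stabilizer (Cfsg.Sz F m) (oInf F m)) _
    (uZ hF 1 0) (hZ hF z)
  · intro A hA hxA
    exact (nilpotent_le_USub hF hm A hA hx1 hxA).trans hUB
  · intro A hA hyA
    exact (nilpotent_le_Tor hF hm A hA hz hyA).trans hTB
  · intro A hA hxA hyA
    have h1 := nilpotent_le_USub hF hm A hA hx1 hxA hyA
    rw [mem_USub_iff] at h1
    obtain ⟨a, b, hab⟩ := h1
    have h2 : uZ hF 0 0 * hZ hF z = uZ hF a b * hZ hF 1 := by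
      rw [uZ_zero, one_mul, hZ_one, mul_one, hab]
    exact hz (borel_unique hF h2).2.2
  · intro h
    have : wZ hF ∈ stabilizer (Cfsg.Sz F m) (oInf F m) := by rw [h]; exact Subgroup.mem_top _
    rw [mem_stabilizer_iff, wZ_smul_oInf] at this
    exact oPt_ne_oInf (0 : F) 0 this

end Cfsg.Agent.S3893
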