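import Cfsg.Statements.S3899
import Mathlib
import Cfsg.Agent.Lib.Helper8.K3b

set_option autoImplicit false
open Cfsg

namespace Cfsg.Agent.S3899

/-- Let π be a finite non-empty set of odd primes with smallest member p and G a finite group. Write k_π(G) for the number of conjugacy classes of G consisting of π-elements (elements all of whose order's prime divisors lie in π) and |G|_π for the π-part of the order of G. If k_π(G) > (p + 1)|G|_π/(2p), then G has a normal π-complement (a normal subgroup of order prime to π whose index is a π-number) and an abelian Hall π-subgroup. -/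
theorem result {G : Type*} [Group G] [Finite G] (π : Finset ℕ) (hπ : ∀ r ∈ π, r.Prime) (h2 : 2 ∉ π) (p : ℕ) (hp : p ∈ π)
    (hmin : ∀ r ∈ π, p ≤ r) (hk : (p + 1) * π.prod (fun r => r ^ (Nat.card G).factorization r) < 2 * p * Nat.card {c : ConjClasses G // ∀ x ∈ c.carrier, ∀ r : ℕ, r.Prime → r ∣ orderOf x → r ∈ π}) :
    (∃ N : Subgroup G, N.Normal ∧ (∀ r : ℕ, r.Prime → r ∣ Nat.card ↥N → r ∉ π) ∧ ∀ r : ℕ, r.Prime → r ∣ N.index → r ∈ π) ∧ ∃ H : Subgroup G, Cfsg.IsPiHall (↑π : Set ℕ) H ∧ IsMulCommutative ↥H := by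
  classical
  have key : ∀ r ∈ π, r.Prime ∧ ∃ (Q : Subgroup G) (N : Subgroup G), N.Normal ∧
      N.IsComplement' Q ∧ IsPGroup r Q ∧ ¬ r ∣ Nat.card N ∧
      (∀ a ∈ Q, ∀ b ∈ Q, a * b = b * a) := by
    intro r hr
    have hrp := hπ r hr
    haveI : Fact r.Prime := ⟨hrp⟩
    have hr2 : r ≠ 2 := fun h => h2 (h ▸ hr)
    have hle := Cfsg.Agent.Lib.Helper8.KPi.card_piC_le_mul (G := G) π hπ r hr
    have hsplit : π.prod (fun s => s ^ (Nat.card G).factorization s) =
        r ^ (Nat.card G).factorization r *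
          (π.erase r).prod (fun s => s ^ (Nat.card G).factorization s) :=
      (Finset.mul_prod_erase π (fun s => s ^ (Nat.card G).factorization s) hr).symm
    set A := (π.erase r).prod (fun s => s ^ (Nat.card G).factorization s) with hA
    set v := r ^ (Nat.card G).factorization r with hv
    set kr := Nat.card (Cfsg.Agent.S3897.PC r G) with hkr
    have hApos : 0 < A := by
      apply Finset.prod_pos
      intro s hs
      exact pow_pos (hπ s (Finset.mem_of_mem_erase hs)).pos _
    have h3 : (p + 1) * v * A < 2 * p * kr * A := by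
      calc (p + 1) * v * A = (p + 1) * (v * A) := by ring
        _ < 2 * p * Nat.card (Cfsg.Agent.Lib.Helper8.KPi.PiC π G) := by rw [← hsplit]; exact hk
        _ ≤ 2 * p * (kr * A) := Nat.mul_le_mul_left _ hle
        _ = 2 * p * kr * A := by ring
    have h4 : (p + 1) * v < 2 * p * kr := Nat.lt_of_mul_lt_mul_right h3
    have hpr : p ≤ r := hmin r hr
    have hppos : 0 < p := (hπ p hp).pos
    have h5 : p * ((r + 1) * v) < p * (2 * r * kr) := by
      calc p * ((r + 1) * v) = (p * r + p) * v := by ring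
        _ ≤ (p * r + r) * v := Nat.mul_le_mul_right _ (by omega)
        _ = r * ((p + 1) * v) := by ring
        _ < r * (2 * p * kr) := Nat.mul_lt_mul_of_pos_left h4 hrp.pos
        _ = p * (2 * r * kr) := by ring
    have h6 : (r + 1) * v < 2 * r * kr := Nat.lt_of_mul_lt_mul_left h5
    obtain ⟨R⟩ := (inferInstance : Nonempty (Sylow r G))
    obtain ⟨⟨Q, N, hN, hc⟩, -⟩ := (Cfsg.Agent.S3897.result hr2 R).mp
      (by rw [Sylow.card_eq_multiplicity]; exact h6)
    obtain ⟨-, hQab⟩ := (Cfsg.Agent.S3897.result hr2 Q).mp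
      (by rw [Sylow.card_eq_multiplicity]; exact h6)
    refine ⟨hrp, Q, N, hN, hc, Q.isPGroup', ?_, ?_⟩
    · rw [← hc.index_eq_card]
      exact Q.not_dvd_index
    · intro a ha b hb
      exact congrArg Subtype.val (hQab.is_comm.comm ⟨a, ha⟩ ⟨b, hb⟩)
  obtain ⟨N, hN, h1, h2', h3⟩ := Cfsg.Agent.Lib.Helper8.KPi.exists_normal_pi_complement π key
  refine ⟨⟨N, hN, h1, h2'⟩, ?_⟩
  obtain ⟨H, hH, hab⟩ := Cfsg.Agent.Lib.Helper8.KPi.exists_abelian_hall π N hN h1 h2' h3
  exact ⟨H, hH, hab⟩

end Cfsg.Agent.S3899
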