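import Cfsg.Statements.S3908
import Cfsg.Agent.Lib.Lead.UniqueP
import Cfsg.Agent.Lib.Helper2.Cores

set_option autoImplicit false
open Cfsg

namespace Cfsg.Agent.S3908

open Cfsg.Agent.Lib.Lead.UniqueP Cfsg.Agent.Lib.Helper2

section

variable {H : Type*} [Group H] [Finite H] {p : ℕ} [hp : Fact p.Prime]

/-- a nontrivial finite `p`-group has a central element of order `p` -/
theorem exists_central_order_p (hH : IsPGroup p H) (hne : ∃ x : H, x ≠ 1) :
    ∃ z ∈ Subgroup.center H, z ^ p = 1 ∧ z ≠ 1 := by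
  haveI : Nontrivial H := by
    obtain ⟨x, hx⟩ := hne
    exact ⟨⟨x, 1, hx⟩⟩
  haveI := hH.center_nontrivial
  have hZ : IsPGroup p (Subgroup.center H) := hH.to_subgroup _
  obtain ⟨n, hn⟩ := IsPGroup.iff_card.1 hZ
  have hn0 : n ≠ 0 := by
    rintro rfl
    rw [pow_zero] at hn
    have : 1 < Nat.card (Subgroup.center H) := Finite.one_lt_card
    omega
  have hdvd : p ∣ Nat.card (Subgroup.center H) := by
    rw [hn]; exact dvd_pow_self p hn0
  obtain ⟨z, hz⟩ := exists_prime_orderOf_dvd_card' p hdvd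
  refine ⟨(z : H), z.2, ?_, ?_⟩
  · have := pow_orderOf_eq_one z
    rw [hz] at this
    have := congrArg Subtype.val this
    simpa using this
  · intro h1
    have : z = 1 := Subtype.ext h1
    rw [this, orderOf_one] at hz
    exact hp.out.one_lt.ne hz

/-- In a `p`-group without unique subgroup of order `p` there is an abelian subgroup of order
`p²` and exponent `p`. -/
theorem exists_elementary_of_not_uop (hH : IsPGroup p H) (hu : ¬ UOP p H) :
    ∃ E : Subgroup H, IsMulCommutative ↥E ∧ Nat.card E = p ^ 2 ∧ ∀ e ∈ E, e ^ p = 1 := by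
  unfold UOP at hu
  push Not at hu
  obtain ⟨x, y, hx, hy, hx1, hyx⟩ := hu
  obtain ⟨z, hzc, hzp, hz1⟩ := exists_central_order_p hH ⟨x, hx1⟩
  -- choose `b` of order `p` outside `zpowers z`
  obtain ⟨b, hbp, hbz⟩ : ∃ b : H, b ^ p = 1 ∧ b ∉ Subgroup.zpowers z := by
    by_cases hxz : x ∈ Subgroup.zpowers z
    · refine ⟨y, hy, fun hyz => hyx ?_⟩
      -- zpowers z = zpowers x
      have hox : orderOf x = p := orderOf_eq_prime hx hx1
      have hoz : orderOf z = p := orderOf_eq_prime hzp hz1
      have hle : Subgroup.zpowers x ≤ Subgroup.zpowers z := Subgroup.zpowers_le.2 hxz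
      have heq : Subgroup.zpowers x = Subgroup.zpowers z := by
        apply Subgroup.eq_of_le_of_card_ge hle
        rw [Nat.card_zpowers, Nat.card_zpowers, hox, hoz]
      rw [heq]; exact hyz
    · exact ⟨x, hx, hxz⟩
  have hb1 : b ≠ 1 := fun h => hbz (h ▸ Subgroup.one_mem _)
  have hob : orderOf b = p := orderOf_eq_prime hbp hb1
  have hoz : orderOf z = p := orderOf_eq_prime hzp hz1
  haveI hZn : (Subgroup.zpowers z).Normal := by
    constructor
    intro n hn g
    obtain ⟨k, rfl⟩ := Subgroup.mem_zpowers_iff.1 hn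
    have hcomm : g * z ^ k = z ^ k * g :=
      ((Subgroup.mem_center_iff.1 (Subgroup.zpow_mem _ hzc k)) g)
    rw [hcomm, mul_assoc, mul_inv_cancel, mul_one]
    exact Subgroup.zpow_mem _ (Subgroup.mem_zpowers z) k
  set E : Subgroup H := Subgroup.zpowers b ⊔ Subgroup.zpowers z with hE
  have hinf : Subgroup.zpowers b ⊓ Subgroup.zpowers z = ⊥ := by
    by_contra hne
    -- the intersection is a nontrivial subgroup of `zpowers b`, of prime order
    have h1 : Nat.card (Subgroup.zpowers b ⊓ Subgroup.zpowers z : Subgroup H) ∣ p := by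
      have := Subgroup.card_dvd_of_le (inf_le_left : Subgroup.zpowers b ⊓ Subgroup.zpowers z ≤ Subgroup.zpowers b)
      rwa [Nat.card_zpowers, hob] at this
    rcases (Nat.dvd_prime hp.out).1 h1 with h2 | h2
    · exact hne (Subgroup.card_eq_one.1 h2)
    · have h3 : Subgroup.zpowers b ⊓ Subgroup.zpowers z = Subgroup.zpowers b := by
        apply Subgroup.eq_of_le_of_card_ge inf_le_left
        rw [h2, Nat.card_zpowers, hob]
      apply hbz
      have : b ∈ Subgroup.zpowers b ⊓ Subgroup.zpowers z := by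
        rw [h3]; exact Subgroup.mem_zpowers b
      exact (Subgroup.mem_inf.1 this).2
  refine ⟨E, ?_, ?_, ?_⟩
  · -- commutative
    rw [← Subgroup.le_centralizer_iff_isMulCommutative]
    have hEcl : E = Subgroup.closure {b, z} := by
      rw [hE, Subgroup.zpowers_eq_closure, Subgroup.zpowers_eq_closure, ← Subgroup.closure_union]
      rfl
    have hbz_comm : b * z = z * b := ((Subgroup.mem_center_iff.1 hzc) b)
    rw [hEcl, Subgroup.closure_le]
    have hsub : ({b, z} : Set H) ⊆ Subgroup.centralizer ({b, z} : Set H) := by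
      intro w hw
      rw [SetLike.mem_coe, Subgroup.mem_centralizer_iff]
      intro v hv
      rcases hw with rfl | rfl <;> rcases hv with rfl | rfl
      · rfl
      · exact hbz_comm.symm
      · exact hbz_comm
      · rfl
    intro w hw
    have := hsub hw
    rw [SetLike.mem_coe, Subgroup.centralizer_closure] at *
    exact this
  · have := card_sup_mul_card_inf (Subgroup.zpowers b) (Subgroup.zpowers z)
    rw [hinf, Subgroup.card_bot, mul_one, Nat.card_zpowers, Nat.card_zpowers, hob, hoz] at this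
    rw [this, pow_two]
  · intro e he
    rw [hE, ← SetLike.mem_coe, Subgroup.mul_normal, Set.mem_mul] at he
    obtain ⟨u, hu', v, hv, rfl⟩ := he
    obtain ⟨i, rfl⟩ := Subgroup.mem_zpowers_iff.1 hu'
    obtain ⟨j, rfl⟩ := Subgroup.mem_zpowers_iff.1 hv
    have hcomm : Commute (b ^ i) (z ^ j) :=
      (((Subgroup.mem_center_iff.1 (Subgroup.zpow_mem _ hzc j)) (b ^ i)))
    rw [hcomm.mul_pow, ← zpow_natCast, ← zpow_natCast, ← zpow_mul, ← zpow_mul, mul_comm i,
      mul_comm j, zpow_mul, zpow_mul, zpow_natCast, zpow_natCast, hbp, hzp, one_zpow, one_zpow,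
      one_mul]

end

section

variable {G : Type*} [Group G] [Finite G]
  (hB : ∀ A B : Subgroup G, IsMulCommutative ↥A → IsMulCommutative ↥B → Nat.card ↥A = Nat.card ↥B →
    ∃ g : G, B = A.map (MulAut.conj g).toMonoidHom)

include hB in
/-- the key dichotomy -/
theorem sylow_dichotomy (p : ℕ) [hp : Fact p.Prime] (P : Sylow p G) :
    (∀ x ∈ (P : Subgroup G), x ^ p = 1) ∨ UOP p ↥(P : Subgroup G) := by
  by_contra hcon
  push Not at hcon
  obtain ⟨⟨y₀, hy₀P, hy₀⟩, hu⟩ := hcon
  -- an element of order `p²`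
  obtain ⟨c, hc⟩ : ∃ c : G, orderOf c = p ^ 2 := by
    obtain ⟨k, hk⟩ := P.isPGroup' ⟨y₀, hy₀P⟩
    have hk' : y₀ ^ p ^ k = 1 := by
      have := congrArg Subtype.val hk
      simpa using this
    obtain ⟨j, -, hj⟩ := (Nat.dvd_prime_pow hp.out).1 (orderOf_dvd_of_pow_eq_one hk')
    have hj2 : 2 ≤ j := by
      by_contra hlt
      push Not at hlt
      apply hy₀
      have : orderOf y₀ ∣ p := by
        rw [hj]
        interval_cases j
        · simp
        · simp
      exact orderOf_dvd_iff_pow_eq_one.1 this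
    refine ⟨y₀ ^ p ^ (j - 2), ?_⟩
    rw [orderOf_pow_of_dvd (pow_ne_zero _ hp.out.ne_zero) (by rw [hj]; exact pow_dvd_pow p (by omega)), hj]
    rw [Nat.pow_div (by omega) hp.out.pos]
    congr 1
    omega
  obtain ⟨E', hE'c, hE'card, hE'exp⟩ := exists_elementary_of_not_uop P.isPGroup' hu
  haveI := hE'c
  set E : Subgroup G := E'.map (P : Subgroup G).subtype with hE
  have hEcard : Nat.card E = p ^ 2 := by
    rw [hE, Subgroup.card_map_of_injective (Subgroup.subtype_injective _), hE'card]
  have hCcard : Nat.card (Subgroup.zpowers c) = Nat.card E := by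
    rw [Nat.card_zpowers, hc, hEcard]
  obtain ⟨g, hg⟩ := hB (Subgroup.zpowers c) E inferInstance inferInstance hCcard
  have hmem : g * c * g⁻¹ ∈ E := by
    rw [hg]
    exact ⟨c, Subgroup.mem_zpowers c, rfl⟩
  obtain ⟨e, he, hee⟩ := hmem
  have h1 : (g * c * g⁻¹) ^ p = 1 := by
    rw [← hee]
    have := hE'exp e he
    have := congrArg Subtype.val this
    simpa using this
  have h2 : c ^ p = 1 := by
    have h3 : (g * c * g⁻¹) ^ p = g * c ^ p * g⁻¹ := by
      rw [← MulAut.conj_apply, ← map_pow, MulAut.conj_apply]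
    rw [h3] at h1
    have : c ^ p = g⁻¹ * (g * c ^ p * g⁻¹) * g := by group
    rw [this, h1]; group
  have h4 := orderOf_dvd_of_pow_eq_one h2
  rw [hc] at h4
  have h5 : p ^ 2 ≤ p := Nat.le_of_dvd hp.out.pos h4
  have h6 : 1 < p := hp.out.one_lt
  nlinarith

end


/-- Let G be a finite group in which any two abelian subgroups of the same order are conjugate. Then a Sylow 2-subgroup of G is cyclic, elementary abelian or generalized quaternion, and for an odd prime p a Sylow p-subgroup of G is cyclic or has exponent dividing p. -/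
theorem result {G : Type*} [Group G] [Finite G] (hB : ∀ A B : Subgroup G, IsMulCommutative ↥A → IsMulCommutative ↥B → Nat.card ↥A = Nat.card ↥B → ∃ g : G, B = A.map (MulAut.conj g).toMonoidHom) :
    (∀ P : Sylow 2 G, IsCyclic ↥(P : Subgroup G) ∨ Cfsg.IsElementaryAbelian 2 (P : Subgroup G) ∨ ∃ k : ℕ, Nonempty (↥(P : Subgroup G) ≃* QuaternionGroup (2 ^ k))) ∧
    ∀ (p : ℕ) [Fact p.Prime], p ≠ 2 → ∀ P : Sylow p G, IsCyclic ↥(P : Subgroup G) ∨ ∀ x ∈ (P : Subgroup G), x ^ p = 1 := by
  refine ⟨fun P => ?_, fun p _ hp2 P => ?_⟩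
  · haveI : Fact (Nat.Prime 2) := ⟨Nat.prime_two⟩
    rcases sylow_dichotomy hB 2 P with h | h
    · right; left
      refine ⟨?_, h⟩
      rw [← Subgroup.le_centralizer_iff_isMulCommutative]
      intro a ha
      rw [Subgroup.mem_centralizer_iff]
      intro b hb
      -- exponent two implies abelian
      have ha2 := h a ha
      have hb2 := h b hb
      have hab2 := h (b * a) (Subgroup.mul_mem _ hb ha)
      have hai : a⁻¹ = a := by rw [inv_eq_iff_mul_eq_one, ← pow_two, ha2]
      have hbi : b⁻¹ = b := by rw [inv_eq_iff_mul_eq_one, ← pow_two, hb2]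
      have habi : (b * a)⁻¹ = b * a := by rw [inv_eq_iff_mul_eq_one, ← pow_two, hab2]
      rw [mul_inv_rev, hai, hbi] at habi
      exact habi.symm
    · rcases cyclic_or_quaternion 2 P.isPGroup' h with h1 | ⟨-, n, hn⟩
      · left; exact h1
      · right; right; exact ⟨n, hn⟩
  · rcases sylow_dichotomy hB p P with h | h
    · right; exact h
    · rcases cyclic_or_quaternion p P.isPGroup' h with h1 | ⟨h2, -⟩
      · left; exact h1
      · exact absurd h2 hp2


end Cfsg.Agent.S3908
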