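import Cfsg.Statements.S3909
-- import your own Cfsg.Agent.* helpers here

set_option autoImplicit false
open Cfsg

namespace Cfsg.Agent.S3909

/-- Let G be a finite group in which any two abelian subgroups of the same order are conjugate. Let M be a normal subgroup of G. If M contains an element of the same order as a ∈ G, then a ∈ M; and if M is elementary abelian of order p^t with p prime and t ≥ 2, then M is the unique Sylow p-subgroup of G. -/
theorem result {G : Type*} [Group G] [Finite G] (hB : ∀ A B : Subgroup G, IsMulCommutative ↥A → IsMulCommutative ↥B → Nat.card ↥A = Nat.card ↥B → ∃ g : G, B = A.map (MulAut.conj g).toMonoidHom) (M : Subgroup G) [M.Normal] :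
    (∀ a : G, (∃ m ∈ M, orderOf m = orderOf a) → a ∈ M) ∧
    ∀ (p t : ℕ) [Fact p.Prime], 2 ≤ t → Nat.card ↥M = p ^ t → Cfsg.IsElementaryAbelian p M → ∀ P : Sylow p G, (P : Subgroup G) = M := by
  have part1 : ∀ a : G, (∃ m ∈ M, orderOf m = orderOf a) → a ∈ M := by
    rintro a ⟨m, hm, hord⟩
    have h1 : IsMulCommutative ↥(Subgroup.zpowers m) := inferInstance
    have h2 : IsMulCommutative ↥(Subgroup.zpowers a) := inferInstance
    obtain ⟨g, hg⟩ := hB (Subgroup.zpowers m) (Subgroup.zpowers a) h1 h2
      (by rw [Nat.card_zpowers, Nat.card_zpowers, hord])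
    have ha : a ∈ (Subgroup.zpowers m).map (MulAut.conj g).toMonoidHom := by
      rw [← hg]; exact Subgroup.mem_zpowers a
    obtain ⟨y, hy, rfl⟩ := ha
    have hyM : y ∈ M := (Subgroup.zpowers_le.2 hm) hy
    show g * y * g⁻¹ ∈ M
    exact ‹M.Normal›.conj_mem y hyM g
  refine ⟨part1, ?_⟩
  intro p t hpf ht hcard hel P
  have hp : p.Prime := hpf.out
  have hMp : IsPGroup p M := IsPGroup.of_card hcard
  have hMP : M ≤ (P : Subgroup G) := hMp.le_sylow_of_normal P
  -- a subgroup of M of order p^2
  have hdvd : p ^ 2 ∣ Nat.card M := by rw [hcard]; exact pow_dvd_pow p ht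
  obtain ⟨K, hK⟩ := Sylow.exists_subgroup_card_pow_prime p hdvd
  set E : Subgroup G := K.map M.subtype with hE
  have hEcard : Nat.card E = p ^ 2 := by
    rw [hE, Subgroup.card_map_of_injective M.subtype_injective, hK]
  have hEM : E ≤ M := by
    rintro _ ⟨y, -, rfl⟩
    exact y.2
  have hEab : IsMulCommutative ↥E := by
    refine ⟨⟨fun u v => Subtype.ext ?_⟩⟩
    show (u : G) * v = v * u
    exact congrArg Subtype.val (hel.1.is_comm.comm (⟨u, hEM u.2⟩ : M) ⟨v, hEM v.2⟩)
  -- no element of order p^2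
  have hno : ∀ x : G, orderOf x ≠ p ^ 2 := by
    intro x hx
    have h2 : IsMulCommutative ↥(Subgroup.zpowers x) := inferInstance
    obtain ⟨g, hg⟩ := hB E (Subgroup.zpowers x) hEab h2
      (by rw [Nat.card_zpowers, hx, hEcard])
    have hxm : x ∈ E.map (MulAut.conj g).toMonoidHom := by
      rw [← hg]; exact Subgroup.mem_zpowers x
    obtain ⟨y, hy, rfl⟩ := hxm
    have hyp : y ^ p = 1 := hel.2 y (hEM hy)
    have : ((MulAut.conj g).toMonoidHom y) ^ p = 1 := by
      rw [← map_pow, hyp, map_one]
    have hdvd := orderOf_dvd_of_pow_eq_one this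
    rw [hx] at hdvd
    have := Nat.le_of_dvd hp.pos hdvd
    have := hp.one_lt
    nlinarith
  -- an element of order p in M
  have hpM : p ∣ Nat.card M := by
    rw [hcard]; exact dvd_pow_self p (by omega)
  obtain ⟨m, hm⟩ := exists_prime_orderOf_dvd_card' p hpM
  have hm' : orderOf (m : G) = p := by rw [Subgroup.orderOf_coe]; exact hm
  apply le_antisymm _ hMP
  intro x hx
  obtain ⟨k, hk⟩ := (IsPGroup.iff_orderOf.1 P.isPGroup') ⟨x, hx⟩
  rw [Subgroup.orderOf_mk] at hk
  rcases Nat.lt_or_ge k 2 with hk2 | hk2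
  · interval_cases k
    · rw [pow_zero, orderOf_eq_one_iff] at hk
      rw [hk]; exact M.one_mem
    · rw [pow_one] at hk
      exact part1 x ⟨m, m.2, hm'.trans hk.symm⟩
  · exfalso
    have hd : p ^ 2 ∣ orderOf x := by rw [hk]; exact pow_dvd_pow p hk2
    have := orderOf_pow_orderOf_div (orderOf_pos x).ne' hd
    exact hno _ this

end Cfsg.Agent.S3909
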