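import Cfsg.Statements.S3910
import Cfsg.Agent.Lib.Helper2.CyclicAux
import Cfsg.Agent.Lib.Helper1.MaxAbelianNormal
import Cfsg.Agent.Lib.Helper3.Fitting

set_option autoImplicit false
open Cfsg

namespace Cfsg.Agent.S3910
open Cfsg.Agent.Lib.Helper2 Cfsg.Agent.Lib.Helper1 Cfsg.Agent.Lib.Helper3
open scoped Pointwise

/-- A finite nilpotent group in which any two abelian subgroups of the same order are conjugate is cyclic. -/
theorem result {G : Type*} [Group G] [Finite G] (hB : ∀ A B : Subgroup G, IsMulCommutative ↥A → IsMulCommutative ↥B → Nat.card ↥A = Nat.card ↥B → ∃ g : G, B = A.map (MulAut.conj g).toMonoidHom) (hnil : Group.IsNilpotent G) : IsCyclic G := by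
  have := hnil
  -- (K): an abelian subgroup with the order of a normal abelian subgroup equals it
  have hK : ∀ N B : Subgroup G, N.Normal → IsMulCommutative ↥N → IsMulCommutative ↥B →
      Nat.card N = Nat.card B → B = N := by
    intro N B hN hNa hBa hc
    obtain ⟨g, hg⟩ := hB N B hNa hBa hc
    rw [hg]
    exact Subgroup.Normal.map_conj_eq N g
  -- maximal normal abelian subgroup
  obtain ⟨A, hAmax⟩ := (Set.toFinite {N : Subgroup G | N.Normal ∧ IsMulCommutative ↥N}).exists_maximal
    ⟨⊥, Subgroup.normal_bot, inferInstance⟩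
  obtain ⟨⟨hAn, hAa⟩, hAm⟩ := hAmax
  have := hAn
  have := hAa
  have hcomm : ∀ u v : G, u ∈ A → v ∈ A → u * v = v * u := fun u v hu hv =>
    congrArg Subtype.val (hAa.is_comm.comm (⟨u, hu⟩ : A) ⟨v, hv⟩)
  have hCA : Subgroup.centralizer (A : Set G) = A := by
    apply centralizer_eq_of_maximal_abelian_normal
    intro M hMn hMa hAM
    exact le_antisymm (hAm ⟨hMn, hMa⟩ hAM) hAM
  -- A is cyclic
  have hAcyc : IsCyclic ↥A := by
    apply isCyclic_of_forall_zpowers_eq
    intro p hp x hx y hy hox hoy
    -- the p-torsion of A as a normal subgroup of G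
    let Ω : Subgroup G :=
      { carrier := {a | a ∈ A ∧ a ^ p = 1}
        one_mem' := ⟨A.one_mem, one_pow p⟩
        mul_mem' := by
          rintro a b ⟨ha, hap⟩ ⟨hb, hbp⟩
          refine ⟨A.mul_mem ha hb, ?_⟩
          rw [(show Commute a b from hcomm a b ha hb).mul_pow, hap, hbp, one_mul]
        inv_mem' := by
          rintro a ⟨ha, hap⟩
          exact ⟨A.inv_mem ha, by rw [inv_pow, hap, inv_one]⟩ }
    have hΩn : Ω.Normal := by
      constructor
      rintro a ⟨ha, hap⟩ g
      refine ⟨hAn.conj_mem a ha g, ?_⟩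
      rw [conj_pow, hap, mul_one, mul_inv_cancel]
    have hΩne : Ω ≠ ⊥ := by
      intro hbot
      have : x ∈ Ω := ⟨hx, by rw [← hox]; exact pow_orderOf_eq_one x⟩
      rw [hbot, Subgroup.mem_bot] at this
      rw [this, orderOf_one] at hox
      exact hp.one_lt.ne' hox.symm
    have hne := normal_inf_center_ne_bot Ω hΩne
    obtain ⟨z, hz1⟩ := (Subgroup.ne_bot_iff_exists_ne_one).1 hne
    have hzΩ : (z : G) ∈ Ω := z.2.1
    have hzc : (z : G) ∈ Subgroup.center G := z.2.2
    have hz1' : (z : G) ≠ 1 := fun h => hz1 (Subtype.ext h)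
    have hoz : orderOf (z : G) = p := by
      rcases (Nat.dvd_prime hp).1 (orderOf_dvd_of_pow_eq_one hzΩ.2) with h2 | h2
      · exact absurd (orderOf_eq_one_iff.1 h2) hz1'
      · exact h2
    have hZn : (Subgroup.zpowers (z : G)).Normal := by
      constructor
      intro c hc g
      have hcc : c ∈ Subgroup.center G := (Subgroup.zpowers_le.2 hzc) hc
      have : g * c * g⁻¹ = c := by
        rw [(Subgroup.mem_center_iff.1 hcc g), mul_assoc, mul_inv_cancel, mul_one]
      rw [this]; exact hc
    have e1 := hK (Subgroup.zpowers (z : G)) (Subgroup.zpowers x) hZn inferInstance inferInstance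
      (by rw [Nat.card_zpowers, Nat.card_zpowers, hoz, hox])
    have e2 := hK (Subgroup.zpowers (z : G)) (Subgroup.zpowers y) hZn inferInstance inferInstance
      (by rw [Nat.card_zpowers, Nat.card_zpowers, hoz, hoy])
    rw [e1, e2]
  -- every subgroup of A is normal in G
  have hsubn : ∀ D : Subgroup G, D ≤ A → D.Normal := fun D hD => normal_of_le_isCyclic_normal hD
  -- a generator
  obtain ⟨g₀, hg₀⟩ := IsCyclic.exists_generator (α := ↥A)
  set a : G := (g₀ : G) with ha
  have haA : a ∈ A := g₀.2
  have hAz : ∀ h ∈ A, h ∈ Subgroup.zpowers a := by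
    intro h hh
    obtain ⟨i, hi⟩ := Subgroup.mem_zpowers_iff.1 (hg₀ ⟨h, hh⟩)
    rw [Subgroup.mem_zpowers_iff]
    refine ⟨i, ?_⟩
    have := congrArg Subtype.val hi
    simpa using this
  set n := orderOf a with hn
  have hn0 : n ≠ 0 := (orderOf_pos a).ne'
  -- every element of prime power order lies in A
  have hpel : ∀ (p k : ℕ), p.Prime → ∀ x : G, orderOf x = p ^ k → x ∈ A := by
    intro p k hp x hox
    have : Fact p.Prime := ⟨hp⟩
    set j := n.factorization p with hj
    set m := n / p ^ j with hm
    have hnm : p ^ j * m = n := Nat.ordProj_mul_ordCompl_eq_self n p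
    have hcop : Nat.Coprime p m := Nat.coprime_ordCompl hp hn0
    have hom : orderOf (a ^ m) = p ^ j := by
      rw [orderOf_pow_of_dvd (by
        intro h0; rw [h0, mul_zero] at hnm; exact hn0 hnm.symm) ⟨p ^ j, by rw [← hn, ← hnm, mul_comm]⟩,
        ← hn, ← hnm, Nat.mul_div_cancel _ (Nat.pos_of_ne_zero (by
          intro h0; rw [h0, mul_zero] at hnm; exact hn0 hnm.symm))]
    have hopj : orderOf (a ^ p ^ j) = m := by
      rw [orderOf_pow_of_dvd (pow_pos hp.pos j).ne' ⟨m, by rw [← hn, ← hnm]⟩,
        ← hn, ← hnm, Nat.mul_div_cancel_left _ (pow_pos hp.pos j)]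
    -- x commutes with a^m
    have c1 : Commute x (a ^ m) := by
      rcases le_total k j with hkj | hjk
      · -- zpowers x equals a subgroup of A
        set b := (a ^ m) ^ (p ^ (j - k)) with hb
        have hob : orderOf b = p ^ k := by
          rw [hb, orderOf_pow_of_dvd (pow_pos hp.pos _).ne' (by rw [hom]; exact pow_dvd_pow p (by omega)),
            hom, Nat.pow_div (by omega) hp.pos]
          congr 1; omega
        have hbA : b ∈ A := A.pow_mem (A.pow_mem haA _) _
        have hbn : (Subgroup.zpowers b).Normal := hsubn _ (Subgroup.zpowers_le.2 hbA)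
        have e := hK (Subgroup.zpowers b) (Subgroup.zpowers x) hbn inferInstance inferInstance
          (by rw [Nat.card_zpowers, Nat.card_zpowers, hob, hox])
        have hxA : x ∈ A := (Subgroup.zpowers_le.2 hbA) (e ▸ Subgroup.mem_zpowers x)
        exact hcomm x (a ^ m) hxA (A.pow_mem haA _)
      · set x' := x ^ (p ^ (k - j)) with hx'
        have hox' : orderOf x' = p ^ j := by
          rw [hx', orderOf_pow_of_dvd (pow_pos hp.pos _).ne' (by rw [hox]; exact pow_dvd_pow p (by omega)),
            hox, Nat.pow_div (by omega) hp.pos]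
          congr 1; omega
        have hamA : a ^ m ∈ A := A.pow_mem haA _
        have hbn : (Subgroup.zpowers (a ^ m)).Normal := hsubn _ (Subgroup.zpowers_le.2 hamA)
        have e := hK (Subgroup.zpowers (a ^ m)) (Subgroup.zpowers x') hbn inferInstance inferInstance
          (by rw [Nat.card_zpowers, Nat.card_zpowers, hom, hox'])
        have h1 : a ^ m ∈ Subgroup.zpowers x' := e ▸ Subgroup.mem_zpowers (a ^ m)
        have h2 : a ^ m ∈ Subgroup.zpowers x :=
          (Subgroup.zpowers_le.2 (Subgroup.npow_mem_zpowers x _)) h1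
        obtain ⟨i, hi⟩ := Subgroup.mem_zpowers_iff.1 h2
        rw [← hi]
        exact (Commute.refl x).zpow_right i
    -- x commutes with a^(p^j)
    have c2 : Commute x (a ^ p ^ j) := by
      obtain ⟨P, hP⟩ := (IsPGroup.of_card (p := p) (n := k)
        (by rw [Nat.card_zpowers, hox] : Nat.card (Subgroup.zpowers x) = p ^ k)).exists_le_sylow
      have hPn : (P : Subgroup G).Normal := inferInstance
      have hyA : a ^ p ^ j ∈ A := A.pow_mem haA _
      have hYn : (Subgroup.zpowers (a ^ p ^ j)).Normal := hsubn _ (Subgroup.zpowers_le.2 hyA)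
      have hdis : Disjoint (P : Subgroup G) (Subgroup.zpowers (a ^ p ^ j)) := by
        apply Subgroup.disjoint_of_coprime_natCard
        rw [Nat.card_zpowers, hopj]
        obtain ⟨e, he⟩ := IsPGroup.iff_card.1 P.isPGroup'
        rw [he]
        exact Nat.Coprime.pow_left e hcop
      exact Subgroup.commute_of_normal_of_disjoint _ _ hPn hYn hdis x _
        (hP (Subgroup.mem_zpowers x)) (Subgroup.mem_zpowers _)
    have c3 : Commute x a :=
      commute_of_commute_pow_coprime (Nat.Coprime.pow_right j hcop.symm) c1 c2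
    rw [← hCA, Subgroup.mem_centralizer_iff]
    intro h hh
    obtain ⟨i, hi⟩ := Subgroup.mem_zpowers_iff.1 (hAz h hh)
    rw [← hi]
    exact ((c3.zpow_right i).eq).symm
  have htop : A = ⊤ := by
    rw [eq_top_iff]
    intro x _
    apply mem_of_pParts_mem
    intro p hp
    exact hpel p _ hp _ (orderOf_pPart x p)
  rw [htop] at hAcyc
  exact (MulEquiv.isCyclic Subgroup.topEquiv).1 hAcyc

end Cfsg.Agent.S3910
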