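import Cfsg.Statements.S3921
import Cfsg.Agent.Lib.Helper2.NCycSyl
import Cfsg.Agent.Lib.Helper1.NCycSD2
import Cfsg.Agent.Lib.Helper1.NCycDih
import Cfsg.Agent.Lib.Helper7.NCycRev2

set_option autoImplicit false
open Cfsg

namespace Cfsg.Agent.S3921

/-- Say that a group has self-centralizing non-cyclic subgroups when every non-cyclic subgroup H satisfies C_G(H) ≤ H. A non-abelian finite simple group has self-centralizing non-cyclic subgroups if and only if it is isomorphic to PSL₂(q) with q = 4, q = 9, or q a prime of the form 2^k + 1 or 2^k − 1. -/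
theorem result {G : Type*} [Group G] [Finite G] [IsSimpleGroup G] (hna : ¬ IsMulCommutative G) :
    (∀ H : Subgroup G, ¬ IsCyclic ↥H → Subgroup.centralizer (H : Set G) ≤ H) ↔ ∃ (F : Type) (_ : Field F) (_ : Fintype F),
      (Fintype.card F = 4 ∨ Fintype.card F = 9 ∨ ((Fintype.card F).Prime ∧ ∃ k : ℕ, Fintype.card F = 2 ^ k + 1 ∨ Fintype.card F = 2 ^ k - 1)) ∧
      Nonempty (G ≃* Matrix.ProjectiveSpecialLinearGroup (Fin 2) F) := by
  constructor
  · intro h
    haveI : Fact (Nat.Prime 2) := ⟨Nat.prime_two⟩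
    obtain ⟨S⟩ : Nonempty (Sylow 2 G) := inferInstance
    rcases Cfsg.Agent.Lib.Helper2.NCyc.sylow_two_cases hna h S with ⟨k, hS⟩ | hS
    · have hn : 2 ≤ 2 ^ (k + 1) := by
        calc 2 = 2 ^ 1 := by norm_num
          _ ≤ 2 ^ (k + 1) := Nat.pow_le_pow_right (by norm_num) (by omega)
      obtain ⟨F, hF1, hF2, hodd, ⟨e⟩⟩ :=
        Cfsg.Agent.Lib.Helper1.NCyc.psl_of_dihedral hna h S (2 ^ (k + 1)) hn hS
      have hstar := Cfsg.Agent.Lib.Helper7.NCyc.star_of_injective e.symm.toMonoidHom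
        e.symm.injective h
      have hq := Cfsg.Agent.Lib.Helper7.NCyc.field_of_star hodd hstar
      exact ⟨F, hF1, hF2, Or.inr hq, ⟨e⟩⟩
    · exact (Cfsg.Agent.Lib.Helper1.NCyc.not_quasiDihedral hna h S hS).elim
  · rintro ⟨F, _, _, hq, ⟨e⟩⟩
    exact Cfsg.Agent.Lib.Helper7.NCyc.star_of_equiv_psl hq e

end Cfsg.Agent.S3921
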