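import Cfsg.Statements.S3937
import Cfsg.Agent.Lib.Helper2.Engel

set_option autoImplicit false
open Cfsg

namespace Cfsg.Agent.S3937

open Cfsg.Agent.Lib.Helper2
open scoped commutatorElement

theorem engel_mem_lowerCentralSeries {G : Type*} [Group G] (S : Subgroup G) (g y : G)
    (hg : g ∈ S) (hy : y ∈ S) (n : ℕ) : engel g n y ∈ S.lowerCentralSeries n := by
  induction n with
  | zero => exact hy
  | succ n ih =>
    rw [engel_succ', Subgroup.lowerCentralSeries_succ]
    exact Subgroup.commutator_mem_commutator ih hg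

theorem isLeftEngel_of_mem_fitting {G : Type*} [Group G] [Finite G] {g : G}
    (hg : g ∈ Cfsg.fittingSubgroup G) : IsLeftEngel g := by
  haveI hFn : (Cfsg.fittingSubgroup G).Normal := Cfsg.Agent.Lib.Helper1.fittingSubgroup_normal
  have hnil : Group.IsNilpotent (Cfsg.fittingSubgroup G) :=
    Cfsg.Agent.Lib.Helper1.fittingSubgroup_isNilpotent
  obtain ⟨n, hn⟩ := (Subgroup.isNilpotent_iff_lowerCentralSeries _).1 hnil
  intro x
  have hxg : ⁅x, g⁆ ∈ Cfsg.fittingSubgroup G := by
    rw [commutatorElement_def]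
    have h1 : x * g * x⁻¹ ∈ Cfsg.fittingSubgroup G := hFn.conj_mem g hg x
    exact Subgroup.mul_mem _ h1 (Subgroup.inv_mem _ hg)
  refine ⟨n + 1, ?_⟩
  rw [engel_succ]
  have h1 := engel_mem_lowerCentralSeries (Cfsg.fittingSubgroup G) g ⁅x, g⁆ hg hxg n
  rw [hn, Subgroup.mem_bot] at h1
  exact h1

/-- Baer's characterization of the Fitting subgroup: in a finite group G, an element g lies in the Fitting subgroup if and only if g is a left Engel element, that is, for every x there is n with [x, g, g, …, g] = 1 (n entries g, [a, b] = aba⁻¹b⁻¹). -/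
theorem result {G : Type*} [Group G] [Finite G] (g : G) :
    g ∈ Cfsg.fittingSubgroup G ↔ ∀ x : G, ∃ n : ℕ, (List.replicate n g).foldl (fun a b => a * b * a⁻¹ * b⁻¹) x = 1 := by
  rw [← isLeftEngel_iff_foldl]
  exact ⟨isLeftEngel_of_mem_fitting, leftEngel_mem_fitting⟩

end Cfsg.Agent.S3937
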