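import Cfsg.Statements.S3941
import Cfsg.Agent.Lib.Helper2.Hypercenter

set_option autoImplicit false
open Cfsg

namespace Cfsg.Agent.S3941

open Equiv Equiv.Perm

/-- `p`-closure is invariant under isomorphism -/
theorem isPClosed_of_equiv {G G' : Type*} [Group G] [Group G'] [Finite G] {p : ℕ} [Fact p.Prime]
    (e : G ≃* G') (h : Cfsg.IsPClosed p G) : Cfsg.IsPClosed p G' := by
  intro P'
  have hs : Function.Surjective e.symm.toMonoidHom := e.symm.surjective
  haveI : Finite G' := Finite.of_equiv _ e.toEquiv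
  have hP := h (P'.mapSurjective hs)
  have h1 : (P' : Subgroup G') = ((P'.mapSurjective hs : Sylow p G) : Subgroup G).map
      e.toMonoidHom := by
    rw [Sylow.coe_mapSurjective, Subgroup.map_map]
    ext x
    simp
  rw [h1]
  exact hP.map _ e.surjective

/-- the alternating group of degree 4 inside that of degree 5 is not 3-closed -/
theorem case_five (h : ∀ H : Subgroup ↥(alternatingGroup (Fin 5)), H ≠ ⊤ → 3 ∣ Nat.card ↥H →
    Cfsg.IsPClosed 3 ↥H) : False := by
  haveI : Fact (Nat.Prime 3) := ⟨by norm_num⟩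
  let c : alternatingGroup (Fin 5) := ⟨c[0, 1, 2], Equiv.Perm.mem_alternatingGroup.mpr (by decide)⟩
  let c' : alternatingGroup (Fin 5) := ⟨c[0, 1, 3], Equiv.Perm.mem_alternatingGroup.mpr (by decide)⟩
  let d : alternatingGroup (Fin 5) := ⟨c[0, 1, 4], Equiv.Perm.mem_alternatingGroup.mpr (by decide)⟩
  set H : Subgroup (alternatingGroup (Fin 5)) := Subgroup.closure {c, c'} with hH
  have hcH : c ∈ H := Subgroup.subset_closure (by simp)
  have hc'H : c' ∈ H := Subgroup.subset_closure (by simp)
  let K : Subgroup (alternatingGroup (Fin 5)) :=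
    (MulAction.stabilizer (Perm (Fin 5)) (4 : Fin 5)).comap (alternatingGroup (Fin 5)).subtype
  have hHK : H ≤ K := by
    rw [hH, Subgroup.closure_le]
    intro x hx
    rcases hx with rfl | rfl
    · show (c : Perm (Fin 5)) • (4 : Fin 5) = 4
      decide
    · show (c' : Perm (Fin 5)) • (4 : Fin 5) = 4
      decide
  have hHtop : H ≠ ⊤ := by
    intro htop
    have hd : d ∈ K := hHK (htop ▸ Subgroup.mem_top d)
    have hd' : (d : Perm (Fin 5)) • (4 : Fin 5) = 4 := hd
    revert hd'
    decide
  have hc3 : orderOf c = 3 := orderOf_eq_prime (by decide) (by decide)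
  have hdvd : 3 ∣ Nat.card H := by
    have h1 : orderOf (⟨c, hcH⟩ : H) = 3 := by rw [← Subgroup.orderOf_coe]; exact hc3
    rw [← h1]
    exact orderOf_dvd_natCard _
  have hcl := h H hHtop hdvd
  obtain ⟨P⟩ : Nonempty (Sylow 3 H) := inferInstance
  haveI := hcl P
  have hmem : ∀ x : H, x ^ 3 = 1 → x ∈ (P : Subgroup H) := by
    intro x hx
    have h1 : IsPGroup 3 (Subgroup.zpowers x) := by
      rw [IsPGroup.iff_orderOf]
      rintro ⟨y, hy⟩
      obtain ⟨k, rfl⟩ := hy
      have h2 : (x ^ k) ^ 3 = 1 := by rw [← zpow_natCast, ← zpow_mul, mul_comm, zpow_mul,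
        zpow_natCast, hx, one_zpow]
      have h3 : orderOf (x ^ k) ∣ 3 := orderOf_dvd_of_pow_eq_one h2
      have h4 : orderOf (⟨x ^ k, ⟨k, rfl⟩⟩ : Subgroup.zpowers x) = orderOf (x ^ k) :=
        Subgroup.orderOf_mk _ _
      rw [h4]
      rcases (Nat.dvd_prime (by norm_num : Nat.Prime 3)).mp h3 with h5 | h5
      · exact ⟨0, by rw [h5, pow_zero]⟩
      · exact ⟨1, by rw [h5, pow_one]⟩
    exact Cfsg.Agent.Lib.Helper2.le_of_normal_sylow P h1 (Subgroup.mem_zpowers x)
  have hc3' : c ^ 3 = 1 := by decide
  have hc'3 : c' ^ 3 = 1 := by decide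
  have h1 : (⟨c, hcH⟩ : H) ∈ (P : Subgroup H) := hmem _ (Subtype.ext hc3')
  have h2 : (⟨c', hc'H⟩ : H) ∈ (P : Subgroup H) := hmem _ (Subtype.ext hc'3)
  have h3 := (P : Subgroup H).mul_mem h1 h2
  obtain ⟨k, hk⟩ := P.2 ⟨_, h3⟩
  have hk' : (c * c') ^ 3 ^ k = 1 := by
    have := congrArg (fun t : (P : Subgroup H) => ((t : H) : alternatingGroup (Fin 5))) hk
    simpa using this
  have h4 : orderOf (c * c') = 2 := orderOf_eq_prime (by decide) (by decide)
  have h5 : 2 ∣ 3 ^ k := h4 ▸ orderOf_dvd_of_pow_eq_one hk'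
  have h6 := (Nat.Prime.dvd_of_dvd_pow Nat.prime_two h5)
  omega

/-- Let n ≥ 5 and p an odd prime with p ≤ n, and suppose that every proper subgroup of the alternating group of degree n whose order is divisible by p has a normal Sylow p-subgroup. Then n = p. -/
theorem result (n p : ℕ) (hn : 5 ≤ n) [Fact p.Prime] (hp : p ≠ 2) (hpn : p ≤ n)
    (h : ∀ H : Subgroup ↥(alternatingGroup (Fin n)), H ≠ ⊤ → p ∣ Nat.card ↥H → Cfsg.IsPClosed p ↥H) : n = p := by
  classical
  by_contra hne
  have hlt : p < n := lt_of_le_of_ne hpn (Ne.symm hne)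
  have hpp : p.Prime := Fact.out
  rcases Nat.lt_or_ge n 6 with h6 | h6
  · have hn5 : n = 5 := by omega
    subst hn5
    have hp3 : p = 3 := by
      have h2 : 2 ≤ p := hpp.two_le
      interval_cases p
      · exact absurd rfl hp
      · rfl
      · exact absurd hpp (by decide)
    subst hp3
    exact case_five h
  · let z : Fin n := ⟨0, by omega⟩
    let s : Finset (Fin n) := Finset.univ.erase z
    have hs : Nat.card s = n - 1 := by
      rw [Nat.card_eq_fintype_card, Fintype.card_coe, Finset.card_erase_of_mem (Finset.mem_univ z),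
        Finset.card_univ, Fintype.card_fin]
    have hφ : Function.Injective (alternatingGroup.ofSubtype s) :=
      alternatingGroup.ofSubtype_injective
    set H : Subgroup (alternatingGroup (Fin n)) := (alternatingGroup.ofSubtype s).range with hH
    have hcardH : Nat.card (alternatingGroup s) = Nat.card H :=
      Nat.card_congr (MonoidHom.ofInjective hφ).toEquiv
    haveI : Nontrivial s := by
      rw [← Finite.one_lt_card_iff_nontrivial, hs]; omega
    haveI : Nontrivial (Fin n) := Fin.nontrivial_iff_two_le.mpr (by omega)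
    have hc1 : 2 * Nat.card (alternatingGroup s) = (n - 1).factorial := by
      rw [two_mul_nat_card_alternatingGroup, Nat.card_perm, hs]
    have hc2 : 2 * Nat.card (alternatingGroup (Fin n)) = n.factorial := by
      rw [two_mul_nat_card_alternatingGroup, Nat.card_perm, Nat.card_fin]
    have hHtop : H ≠ ⊤ := by
      intro htop
      have h1 : Nat.card H = Nat.card (alternatingGroup (Fin n)) := by
        rw [htop, Subgroup.card_top]
      have h2 : (n - 1).factorial = n.factorial := by rw [← hc1, ← hc2, hcardH, h1]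
      have h3 : (n - 1).factorial < n.factorial := Nat.factorial_lt_of_lt (by omega) (by omega)
      omega
    have hpd : p ∣ Nat.card (alternatingGroup s) := by
      have h1 : p ∣ (n - 1).factorial := Nat.dvd_factorial hpp.pos (by omega)
      rw [← hc1] at h1
      have hcop : Nat.Coprime p 2 := by
        rw [Nat.coprime_primes hpp Nat.prime_two]; exact hp
      exact hcop.dvd_of_dvd_mul_left h1
    have hcl := h H hHtop (hcardH ▸ hpd)
    have hcl' : Cfsg.IsPClosed p (alternatingGroup s) :=
      isPClosed_of_equiv (MonoidHom.ofInjective hφ).symm hcl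
    haveI : IsSimpleGroup (alternatingGroup s) :=
      alternatingGroup.isSimpleGroup (by rw [hs]; omega)
    obtain ⟨P⟩ : Nonempty (Sylow p (alternatingGroup s)) := inferInstance
    have hPn := hcl' P
    rcases hPn.eq_bot_or_eq_top with hb | ht
    · exact P.ne_bot_of_dvd_card hpd hb
    · have hpg : IsPGroup p (alternatingGroup s) := by
        have := P.2
        rw [ht] at this
        exact this.of_equiv Subgroup.topEquiv
      obtain ⟨k, hk⟩ := hpg.exists_card_eq
      have h4 : 4 ∣ (n - 1).factorial := Nat.dvd_factorial (by norm_num) (by omega)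
      rw [← hc1, hk] at h4
      have h2 : 2 ∣ p ^ k := by
        obtain ⟨t, ht⟩ := h4
        exact ⟨t, by omega⟩
      have := (Nat.prime_dvd_prime_iff_eq Nat.prime_two hpp).mp
        (Nat.Prime.dvd_of_dvd_pow Nat.prime_two h2)
      exact hp this.symm

end Cfsg.Agent.S3941
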