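import Cfsg.Statements.S3946
import Cfsg.Agent.Lib.Helper2.Kegel2

set_option autoImplicit false
open Cfsg

namespace Cfsg.Agent.S3946

universe u

section aux

variable {G : Type u} [Group G]

/-- Powers in the semidirect product `G ⋊ ⟨α⟩`. -/
theorem sd_pow (α : MulAut G) (a : Subgroup.zpowers α) (ha : (a : MulAut G) = α) (g : G) (n : ℕ) :
    ((⟨g, a⟩ : G ⋊[(Subgroup.zpowers α).subtype] (Subgroup.zpowers α)) ^ n) =
      ⟨((List.range n).map (fun i : ℕ => (α ^ i) g)).prod, a ^ n⟩ := by
  induction n with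
  | zero => rfl
  | succ n ih =>
    rw [pow_succ, ih, List.range_succ, List.map_append, List.prod_append, List.map_singleton,
      List.prod_singleton, pow_succ a n]
    apply SemidirectProduct.ext
    · rw [SemidirectProduct.mul_left]
      show _ * ((a ^ n : Subgroup.zpowers α) : MulAut G) g = _ * (α ^ n) g
      rw [Subgroup.coe_pow, ha]
    · rw [SemidirectProduct.mul_right]

end aux

/-- Call an automorphism α of order n of a group G splitting when x · α(x) · α²(x) ⋯ α^(n−1)(x) = 1 for every x ∈ G. A finite group admitting a splitting automorphism of prime order is nilpotent (this contains the case of a fixed-point-free automorphism of prime order). -/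
theorem result {G : Type*} [Group G] [Finite G] (α : MulAut G) (hp : (orderOf α).Prime)
    (hsplit : ∀ x : G, (((List.range (orderOf α)).map (fun i : ℕ => (α ^ i) x)).prod = 1)) : Group.IsNilpotent G := by
  haveI : Finite (Subgroup.zpowers α) :=
    Nat.finite_of_card_ne_zero (by rw [Nat.card_zpowers]; exact hp.ne_zero)
  haveI hfinH : Finite (G ⋊[(Subgroup.zpowers α).subtype] (Subgroup.zpowers α)) :=
    Finite.of_equiv _ SemidirectProduct.equivProd.symm
  obtain ⟨a, ha⟩ : ∃ a : Subgroup.zpowers α, (a : MulAut G) = α :=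
    ⟨⟨α, Subgroup.mem_zpowers α⟩, rfl⟩
  obtain ⟨Gs, hGs⟩ : ∃ Gs : Subgroup (G ⋊[(Subgroup.zpowers α).subtype] (Subgroup.zpowers α)),
      Gs = (SemidirectProduct.rightHom :
        G ⋊[(Subgroup.zpowers α).subtype] (Subgroup.zpowers α) →* Subgroup.zpowers α).ker :=
    ⟨_, rfl⟩
  have hmem : ∀ x : G ⋊[(Subgroup.zpowers α).subtype] (Subgroup.zpowers α),
      x ∈ Gs ↔ x.right = 1 := by
    intro x
    rw [hGs, MonoidHom.mem_ker]
    rfl
  haveI hGsn : Gs.Normal := by rw [hGs]; infer_instance
  have hidx : Gs.index = orderOf α := by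
    rw [hGs, Subgroup.index_ker,
      MonoidHom.range_eq_top.mpr SemidirectProduct.rightHom_surjective, Subgroup.card_top,
      Nat.card_zpowers]
  have ha1 : a ≠ 1 := by
    intro h
    have h1 : α = 1 := by rw [← ha, h]; rfl
    rw [h1, orderOf_one] at hp
    exact Nat.not_prime_one hp
  have hap : a ^ orderOf α = 1 := by
    apply Subtype.ext
    rw [Subgroup.coe_pow, ha, pow_orderOf_eq_one]; rfl
  have hC : Cfsg.Agent.Lib.Helper2.Kegel.Ctx (orderOf α)
      (G ⋊[(Subgroup.zpowers α).subtype] (Subgroup.zpowers α)) Gs := by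
    refine ⟨hp, hGsn, hidx, ?_⟩
    apply Cfsg.Agent.Lib.Helper2.Kegel.pow_eq_one_of_coset Gs hp hidx
      (⟨1, a⟩ : G ⋊[(Subgroup.zpowers α).subtype] (Subgroup.zpowers α))
    · rw [hmem]; exact ha1
    · intro x hx
      rw [hmem] at hx
      have hxa : x * (⟨1, a⟩ : G ⋊[(Subgroup.zpowers α).subtype] (Subgroup.zpowers α)) =
          ⟨x.left, a⟩ := by
        apply SemidirectProduct.ext
        · rw [SemidirectProduct.mul_left]
          show x.left * ((Subgroup.zpowers α).subtype x.right) 1 = x.left
          rw [map_one, mul_one]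
        · rw [SemidirectProduct.mul_right, hx, one_mul]
      rw [hxa, sd_pow α a ha, hsplit, hap]
      rfl
  haveI hnil : Group.IsNilpotent Gs := Cfsg.Agent.Lib.Helper2.Kegel.kegel hC
  obtain ⟨f, hf⟩ : ∃ f : G →* Gs, ∀ g : G, ((f g : Gs) :
      G ⋊[(Subgroup.zpowers α).subtype] (Subgroup.zpowers α)) = SemidirectProduct.inl g :=
    ⟨(SemidirectProduct.inl).codRestrict Gs (fun g => (hmem _).mpr rfl), fun g => rfl⟩
  apply Subgroup.isNilpotent_of_ker_le_center f
  intro x hx
  have h1 : f x = 1 := hx
  have h2 : (SemidirectProduct.inl x :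
      G ⋊[(Subgroup.zpowers α).subtype] (Subgroup.zpowers α)) = 1 := by
    rw [← hf, h1]; rfl
  have h3 : x = 1 := SemidirectProduct.inl_injective (h2.trans (map_one _).symm)
  rw [h3]; exact Subgroup.one_mem _

end Cfsg.Agent.S3946
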