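import Cfsg.Statements.S3949
-- import your own Cfsg.Agent.* helpers here

set_option autoImplicit false
open Cfsg

namespace Cfsg.Agent.S3949

/-- Let G be a finite group and α an automorphism of G of order 2 such that the elements g·α(g)⁻¹ generate G. Let j be a positive integer such that 2^j divides the order of no element inverted by α. Then the set of values of the j-th iterate of the map c ↦ c·α(c)⁻¹ is exactly the set of elements of odd order inverted by α. -/
theorem result {G : Type*} [Group G] [Finite G] (α : MulAut G) (hα : orderOf α = 2) (hG : Subgroup.closure (Set.range (fun c : G => c * (α c)⁻¹)) = ⊤)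
    (j : ℕ) (hj : ∀ g : G, α g = g⁻¹ → ¬ 2 ^ j ∣ orderOf g) :
    Set.range ((fun c : G => c * (α c)⁻¹)^[j]) = {g : G | Odd (orderOf g) ∧ α g = g⁻¹} := by
  have hα2 : ∀ g : G, α (α g) = g := by
    intro g
    have h : α ^ 2 = 1 := by rw [← hα]; exact pow_orderOf_eq_one α
    have := congrArg (fun β : MulAut G => β g) h
    simpa [pow_two] using this
  set f : G → G := fun c => c * (α c)⁻¹ with hf
  have hfinv : ∀ c : G, α (f c) = (f c)⁻¹ := by
    intro c
    simp only [hf, map_mul, map_inv, hα2, mul_inv_rev, inv_inv]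
  have hfsq : ∀ g : G, α g = g⁻¹ → f g = g ^ 2 := by
    intro g hg
    simp only [hf, hg, inv_inv, pow_two]
  have hpowinv : ∀ (g : G) (k : ℕ), α g = g⁻¹ → α (g ^ k) = (g ^ k)⁻¹ := by
    intro g k hg
    rw [map_pow, hg, inv_pow]
  have hiter : ∀ (k : ℕ) (c : G), f^[k + 1] c = (f c) ^ (2 ^ k) := by
    intro k
    induction k with
    | zero => intro c; simp
    | succ k ih =>
      intro c
      rw [Function.iterate_succ_apply', ih, hfsq _ (hpowinv _ _ (hfinv c)), ← pow_mul, pow_succ]
  have hj0 : j ≠ 0 := by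
    rintro rfl
    exact hj 1 (by simp) (by simp)
  obtain ⟨k, rfl⟩ := Nat.exists_eq_succ_of_ne_zero hj0
  ext g
  simp only [Set.mem_range, Set.mem_ofPred_eq]
  constructor
  · rintro ⟨c, rfl⟩
    rw [hiter]
    refine ⟨?_, hpowinv _ _ (hfinv c)⟩
    -- order of (f c)^(2^k) is odd
    set h := f c with hh
    have hnd := hj h (hfinv c)
    rw [Nat.odd_iff]
    by_contra hev
    have h2 : 2 ∣ orderOf (h ^ 2 ^ k) := by omega
    apply hnd
    have h3 := orderOf_pow_dvd (x := h) (2 ^ k)
    -- orderOf (h^(2^k)) * gcd = orderOf h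
    have h4 : orderOf (h ^ 2 ^ k) = orderOf h / Nat.gcd (orderOf h) (2 ^ k) :=
      orderOf_pow' h (pow_pos (by norm_num) k).ne'
    have hpos : 0 < orderOf h := orderOf_pos h
    have hg : Nat.gcd (orderOf h) (2 ^ k) ∣ 2 ^ k := Nat.gcd_dvd_right _ _
    obtain ⟨a, ha, ha2⟩ := (Nat.dvd_prime_pow Nat.prime_two).1 hg
    by_cases hak : a = k
    · -- 2^k ∣ orderOf h and 2 ∣ quotient
      have h5 : 2 ^ k ∣ orderOf h := by
        rw [← hak, ← ha2]; exact Nat.gcd_dvd_left _ _
      obtain ⟨m, hm⟩ := h5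
      rw [h4, ha2, hak, hm, Nat.mul_div_cancel_left _ (pow_pos (by norm_num) k)] at h2
      rw [hm, pow_succ]
      exact Nat.mul_dvd_mul_left _ h2
    · -- gcd = 2^a with a < k: then orderOf h / 2^a is odd
      exfalso
      have hak' : a < k := lt_of_le_of_ne ha hak
      have h5 : Nat.gcd (orderOf h) (2 ^ k) ∣ orderOf h := Nat.gcd_dvd_left _ _
      obtain ⟨m, hm⟩ := h5
      rw [h4, ha2] at h2
      rw [ha2] at hm
      rw [hm, Nat.mul_div_cancel_left _ (pow_pos (by norm_num) a)] at h2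
      -- 2^(a+1) divides orderOf h and 2^k, so divides the gcd 2^a
      have h6 : 2 ^ (a + 1) ∣ orderOf h := by
        rw [hm, pow_succ]; exact Nat.mul_dvd_mul_left _ h2
      have h7 : 2 ^ (a + 1) ∣ 2 ^ k := pow_dvd_pow 2 hak'
      have h8 := Nat.dvd_gcd h6 h7
      rw [ha2] at h8
      have := Nat.le_of_dvd (pow_pos (by norm_num) a) h8
      have : 2 ^ a < 2 ^ (a + 1) := Nat.pow_lt_pow_right (by norm_num) (by omega)
      omega
  · rintro ⟨hodd, hinv⟩
    -- g = h ^ (2^(k+1)) with h a power of g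
    have hcop : Nat.Coprime (2 ^ (k + 1)) (orderOf g) :=
      Nat.Coprime.pow_left _ (Nat.coprime_two_left.2 hodd)
    obtain ⟨m, hm⟩ := exists_pow_eq_self_of_coprime hcop
    refine ⟨g ^ m, ?_⟩
    rw [hiter, hfsq _ (hpowinv g m hinv), ← pow_mul, ← pow_mul]
    have e : m * (2 * 2 ^ k) = 2 ^ (k + 1) * m := by rw [pow_succ]; ring
    rw [e, pow_mul]
    exact hm

end Cfsg.Agent.S3949
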