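import Cfsg.Statements.S3950
import Cfsg.Agent.Lib.Helper2.SchurBasic
import Cfsg.Agent.Lib.Helper2.BilinExt
import Cfsg.Agent.Lib.Helper2.AbelianCyclic

set_option autoImplicit false
open Cfsg

namespace Cfsg.Agent.S3950

open Cfsg.Agent.Lib.Helper2
open scoped commutatorElement

universe u

/-- the bimultiplicative map built from two homomorphisms to `ZMod p` -/
def beta {G : Type*} [CommGroup G] (p : ℕ) (φ₁ φ₂ : G →* Multiplicative (ZMod p)) :
    Bimul (Multiplicative (ZMod p)) G where
  toFun g h := Multiplicative.ofAdd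
    (Multiplicative.toAdd (φ₁ g) * Multiplicative.toAdd (φ₂ h))
  map_mul_left g g' h := by
    simp [toAdd_mul, add_mul, ofAdd_add]
  map_mul_right g h h' := by
    simp [toAdd_mul, mul_add, ofAdd_add]

theorem exists_two_functionals {p : ℕ} [Fact p.Prime] (W : Type*) [AddCommGroup W]
    [Module (ZMod p) W] [Finite W] (h : p < Nat.card W) :
    ∃ (f₁ f₂ : W →+ ZMod p) (w₁ w₂ : W), f₁ w₁ ≠ 0 ∧ f₂ w₁ = 0 ∧ f₂ w₂ ≠ 0 := by
  have hp : p.Prime := Fact.out
  obtain ⟨w₁, hw₁⟩ : ∃ w : W, w ≠ 0 := by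
    by_contra hcon
    push Not at hcon
    haveI : Subsingleton W := ⟨fun a b => by rw [hcon a, hcon b]⟩
    have : Nat.card W ≤ 1 := Finite.card_le_one_iff_subsingleton.2 inferInstance
    have := hp.two_le
    omega
  obtain ⟨w₂, hw₂⟩ : ∃ w : W, w ∉ Submodule.span (ZMod p) {w₁} := by
    by_contra hcon
    push Not at hcon
    have hsurj : Function.Surjective (fun c : ZMod p => c • w₁) := by
      intro w
      obtain ⟨c, hc⟩ := Submodule.mem_span_singleton.1 (hcon w)
      exact ⟨c, hc⟩
    have := Nat.card_le_card_of_surjective _ hsurj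
    rw [Nat.card_zmod] at this
    omega
  obtain ⟨f₁, hf₁, -⟩ := Submodule.exists_le_ker_of_notMem (p := (⊥ : Submodule (ZMod p) W))
    (v := w₁) (by simpa using hw₁)
  obtain ⟨f₂, hf₂, hker₂⟩ := Submodule.exists_le_ker_of_notMem hw₂
  have hf₂w₁ : f₂ w₁ = 0 := hker₂ (Submodule.subset_span rfl)
  exact ⟨f₁.toAddMonoidHom, f₂.toAddMonoidHom, w₁, w₂, hf₁, hf₂w₁, hf₂⟩

/-- A noncyclic finite abelian group admits two homomorphisms to `ZMod p` and elements `g, h`
with `φ₁ g ≠ 1`, `φ₂ g = 1`, `φ₂ h ≠ 1`. -/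
theorem exists_homs {G : Type u} [CommGroup G] [Finite G] (hG : ¬ IsCyclic G) :
    ∃ (p : ℕ) (_ : Fact p.Prime) (φ₁ φ₂ : G →* Multiplicative (ZMod p)) (g h : G),
      φ₁ g ≠ 1 ∧ φ₂ g = 1 ∧ φ₂ h ≠ 1 := by
  obtain ⟨p, hp, hlt⟩ := exists_prime_lt_card_torsionSub hG
  haveI : Fact p.Prime := ⟨hp⟩
  set H : Subgroup G := (powMonoidHom p : G →* G).range with hH
  have hidx : H.index = Nat.card (torsionSub G p) := by
    have h1 := Subgroup.card_mul_index (powMonoidHom p : G →* G).ker
    rw [Subgroup.index_ker] at h1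
    have h2 := Subgroup.card_mul_index H
    have h3 : Nat.card H * H.index = Nat.card H * Nat.card (torsionSub G p) := by
      rw [h2, ← h1, mul_comm]; rfl
    exact Nat.eq_of_mul_eq_mul_left Nat.card_pos h3
  -- the vector space
  let W := Additive (G ⧸ H)
  have hpW : ∀ w : W, p • w = 0 := by
    intro w
    obtain ⟨g, rfl⟩ := QuotientGroup.mk_surjective (Additive.toMul w)
    show Additive.ofMul ((QuotientGroup.mk g : G ⧸ H) ^ p) = 0
    have h1 : ((g ^ p : G) : G ⧸ H) = 1 :=
      (QuotientGroup.eq_one_iff _).2 (MonoidHom.mem_range.2 ⟨g, rfl⟩)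
    rw [← QuotientGroup.mk_pow, h1]
    rfl
  letI : Module (ZMod p) W := AddCommGroup.zmodModule hpW
  have hWcard : p < Nat.card W := by
    have : Nat.card W = H.index := rfl
    rw [this, hidx]; exact hlt
  haveI : Finite W := by
    show Finite (G ⧸ H)
    infer_instance
  obtain ⟨f₁, f₂, w₁, w₂, hf₁, hf₂w₁, hf₂⟩ := exists_two_functionals (p := p) W hWcard
  let mkHom : (W →+ ZMod p) → (G →* Multiplicative (ZMod p)) := fun f =>
    { toFun := fun g => Multiplicative.ofAdd (f (Additive.ofMul (QuotientGroup.mk g : G ⧸ H)))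
      map_one' := by
        show Multiplicative.ofAdd (f 0) = 1
        rw [map_zero]; rfl
      map_mul' := by
        intro a b
        show Multiplicative.ofAdd (f (Additive.ofMul ((QuotientGroup.mk (a * b) : G ⧸ H)))) = _
        rw [QuotientGroup.mk_mul, ofMul_mul, map_add, ofAdd_add] }
  obtain ⟨g, hg⟩ := QuotientGroup.mk_surjective (Additive.toMul w₁)
  obtain ⟨h, hh⟩ := QuotientGroup.mk_surjective (Additive.toMul w₂)
  refine ⟨p, inferInstance, mkHom f₁, mkHom f₂, g, h, ?_, ?_, ?_⟩
  · show Multiplicative.ofAdd (f₁ (Additive.ofMul (QuotientGroup.mk g : G ⧸ H))) ≠ 1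
    rw [hg]
    intro hcon
    exact hf₁ (Multiplicative.ofAdd.injective hcon)
  · show Multiplicative.ofAdd (f₂ (Additive.ofMul (QuotientGroup.mk g : G ⧸ H))) = 1
    rw [hg]
    show Multiplicative.ofAdd (f₂ w₁) = 1
    rw [hf₂w₁]; rfl
  · show Multiplicative.ofAdd (f₂ (Additive.ofMul (QuotientGroup.mk h : G ⧸ H))) ≠ 1
    rw [hh]
    intro hcon
    exact hf₂ (Multiplicative.ofAdd.injective hcon)

/-- A finite abelian group has trivial Schur multiplier if and only if it is cyclic. -/
theorem result {G : Type*} [CommGroup G] [Finite G] : Cfsg.HasCyclicSchurMultiplier G 1 ↔ IsCyclic G := by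
  constructor
  · intro hM
    by_contra hG
    obtain ⟨p, hp, φ₁, φ₂, g, h, h1, h2, h3⟩ := exists_homs hG
    haveI := hp
    set β := beta p φ₁ φ₂ with hβ
    have hcard : Nat.card (BilinExt.proj β).ker = p := by
      rw [Nat.card_congr (BilinExt.kerEquiv β).toEquiv]
      exact Nat.card_zmod p
    -- a nontrivial commutator in the kernel
    let x : BilinExt β := ⟨1, g⟩
    let y : BilinExt β := ⟨1, h⟩
    have hxy := BilinExt.commutator_eq x y (mul_comm _ _)
    have hfst : (⁅x, y⁆).fst ≠ 1 := by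
      rw [hxy]
      show Multiplicative.ofAdd (Multiplicative.toAdd (φ₁ g) * Multiplicative.toAdd (φ₂ h)) *
        (Multiplicative.ofAdd (Multiplicative.toAdd (φ₁ h) * Multiplicative.toAdd (φ₂ g)))⁻¹ ≠ 1
      rw [h2, toAdd_one, mul_zero, ofAdd_zero, inv_one, mul_one]
      intro hcon
      have h4 : Multiplicative.toAdd (φ₁ g) * Multiplicative.toAdd (φ₂ h) = 0 :=
        Multiplicative.ofAdd.injective hcon
      rcases mul_eq_zero.1 h4 with h5 | h5
      · exact h1 (Multiplicative.toAdd.injective h5)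
      · exact h3 (Multiplicative.toAdd.injective h5)
    have hmemker : ⁅x, y⁆ ∈ (BilinExt.proj β).ker := by
      rw [BilinExt.mem_ker_proj, hxy]
    have hstem : Cfsg.IsStemExtension (BilinExt.proj β) := by
      refine ⟨BilinExt.proj_surjective, BilinExt.ker_proj_le_center, ?_⟩
      haveI : Fact (Nat.card (BilinExt.proj β).ker).Prime := ⟨by rw [hcard]; exact hp.out⟩
      rcases ((commutator (BilinExt β)).subgroupOf (BilinExt.proj β).ker).eq_bot_or_eq_top_of_prime_card
        with hb | ht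
      · exfalso
        have : (⟨⁅x, y⁆, hmemker⟩ : (BilinExt.proj β).ker) ∈
            (commutator (BilinExt β)).subgroupOf (BilinExt.proj β).ker := by
          rw [Subgroup.mem_subgroupOf]
          exact Subgroup.commutator_mem_commutator (Subgroup.mem_top _) (Subgroup.mem_top _)
        rw [hb, Subgroup.mem_bot] at this
        have h5 := congrArg Subtype.val this
        apply hfst
        rw [show ⁅x, y⁆ = 1 from h5]
        rfl
      · exact Subgroup.subgroupOf_eq_top.1 ht
    have hbot := ker_eq_bot_of_hasCyclicSchurMultiplier_one hM (BilinExt β) (BilinExt.proj β) hstem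
    have : ⁅x, y⁆ ∈ (⊥ : Subgroup (BilinExt β)) := hbot ▸ hmemker
    rw [Subgroup.mem_bot] at this
    apply hfst
    rw [this]; rfl
  · intro hG
    apply hasCyclicSchurMultiplier_one_of_forall_ker_eq_bot
    intro Γ _ _ σ hσ
    have hcomm : ∀ a b : Γ, a * b = b * a :=
      (σ.isMulCommutative_of_isCyclic_of_ker_le_center hσ.2.1).is_comm.comm
    have hc : commutator Γ = ⊥ := by
      rw [eq_bot_iff, commutator_eq_closure, Subgroup.closure_le]
      rintro _ ⟨a, b, rfl⟩
      rw [SetLike.mem_coe, Subgroup.mem_bot, commutatorElement_eq_one_iff_mul_comm]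
      exact hcomm a b
    rw [eq_bot_iff, ← hc]
    exact hσ.2.2

end Cfsg.Agent.S3950
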