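import Cfsg.Statements.S3951
import Cfsg.Agent.Lib.Helper2.SchurBasic
import Cfsg.Agent.Lib.Helper2.BilinExt
import Cfsg.Agent.Lib.Helper2.FrattiniSub

set_option autoImplicit false
open Cfsg

namespace Cfsg.Agent.S3951

open Cfsg.Agent.Lib.Helper2
open scoped commutatorElement

/-- If `σ : Γ → G` is surjective onto an abelian group with central kernel and `x, y` are
elements whose images generate `G`, then the commutator subgroup is generated by `⁅y, x⁆`. -/
theorem commutator_le_zpowers {Γ G : Type*} [Group Γ] [CommGroup G] (σ : Γ →* G)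
    (hcen : σ.ker ≤ Subgroup.center Γ) (x y : Γ)
    (hgen : Subgroup.closure ({σ x, σ y} : Set G) = ⊤) :
    commutator Γ ≤ Subgroup.zpowers ⁅y, x⁆ := by
  set c := ⁅y, x⁆ with hc
  have hcK : c ∈ σ.ker := by
    rw [MonoidHom.mem_ker, hc, map_commutatorElement, commutatorElement_eq_one_iff_mul_comm]
    exact mul_comm _ _
  have hCcen : Subgroup.zpowers c ≤ Subgroup.center Γ := by
    rw [Subgroup.zpowers_le]; exact hcen hcK
  haveI hCn : (Subgroup.zpowers c).Normal := by
    constructor
    intro n hn g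
    have : g * n * g⁻¹ = n := by
      rw [Subgroup.mem_center_iff.1 (hCcen hn) g, mul_inv_cancel_right]
    rw [this]; exact hn
  -- top = closure {x,y} ⊔ ker
  have htop : Subgroup.closure ({x, y} : Set Γ) ⊔ σ.ker = ⊤ := by
    have h1 : (Subgroup.closure ({x, y} : Set Γ) ⊔ σ.ker).map σ = ⊤ := by
      rw [Subgroup.map_sup, MonoidHom.map_closure, Set.image_pair, hgen]
      exact top_sup_eq _
    have h2 := Subgroup.comap_map_eq_self (f := σ)
      (H := Subgroup.closure ({x, y} : Set Γ) ⊔ σ.ker) le_sup_right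
    rw [h1, Subgroup.comap_top] at h2
    exact h2.symm
  apply (Subgroup.Normal.quotient_commutative_iff_commutator_le).1
  set q := QuotientGroup.mk' (Subgroup.zpowers c) with hq
  have hqK : ∀ k ∈ σ.ker, q k ∈ Subgroup.center (Γ ⧸ Subgroup.zpowers c) := by
    intro k hk
    rw [Subgroup.mem_center_iff]
    intro g
    obtain ⟨g, rfl⟩ := QuotientGroup.mk'_surjective _ g
    rw [← map_mul, ← map_mul, Subgroup.mem_center_iff.1 (hcen hk) g]
  have hxy : q y * q x = q x * q y := by
    have h1 : y * x = c * (x * y) := by rw [hc, commutatorElement_def]; group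
    have h2 : q c = 1 := by
      rw [hq, QuotientGroup.mk'_apply, QuotientGroup.eq_one_iff]
      exact Subgroup.mem_zpowers c
    rw [← map_mul, ← map_mul, h1, map_mul, h2, one_mul]
  have hx : q x ∈ Subgroup.center (Γ ⧸ Subgroup.zpowers c) := by
    have hle : (⊤ : Subgroup Γ).map q ≤ Subgroup.centralizer {q x} := by
      rw [← htop, Subgroup.map_sup, sup_le_iff, MonoidHom.map_closure, Subgroup.closure_le]
      constructor
      · rintro _ ⟨z, hz, rfl⟩
        rcases hz with rfl | rfl
        · exact Subgroup.mem_centralizer_singleton_iff.2 rfl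
        · exact Subgroup.mem_centralizer_singleton_iff.2 hxy
      · rintro _ ⟨k, hk, rfl⟩
        exact Subgroup.mem_centralizer_singleton_iff.2 (Subgroup.mem_center_iff.1 (hqK k hk) _).symm
    rw [Subgroup.mem_center_iff]
    intro g
    obtain ⟨g, rfl⟩ := QuotientGroup.mk'_surjective _ g
    exact Subgroup.mem_centralizer_singleton_iff.1 (hle ⟨g, Subgroup.mem_top g, rfl⟩)
  have hy : q y ∈ Subgroup.center (Γ ⧸ Subgroup.zpowers c) := by
    have hle : (⊤ : Subgroup Γ).map q ≤ Subgroup.centralizer {q y} := by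
      rw [← htop, Subgroup.map_sup, sup_le_iff, MonoidHom.map_closure, Subgroup.closure_le]
      constructor
      · rintro _ ⟨z, hz, rfl⟩
        rcases hz with rfl | rfl
        · exact Subgroup.mem_centralizer_singleton_iff.2 hxy.symm
        · exact Subgroup.mem_centralizer_singleton_iff.2 rfl
      · rintro _ ⟨k, hk, rfl⟩
        exact Subgroup.mem_centralizer_singleton_iff.2 (Subgroup.mem_center_iff.1 (hqK k hk) _).symm
    rw [Subgroup.mem_center_iff]
    intro g
    obtain ⟨g, rfl⟩ := QuotientGroup.mk'_surjective _ g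
    exact Subgroup.mem_centralizer_singleton_iff.1 (hle ⟨g, Subgroup.mem_top g, rfl⟩)
  have hall : (⊤ : Subgroup Γ).map q ≤ Subgroup.center (Γ ⧸ Subgroup.zpowers c) := by
    rw [← htop, Subgroup.map_sup, sup_le_iff, MonoidHom.map_closure, Subgroup.closure_le]
    constructor
    · rintro _ ⟨z, hz, rfl⟩
      rcases hz with rfl | rfl
      · exact hx
      · exact hy
    · rintro _ ⟨k, hk, rfl⟩
      exact hqK k hk
  refine ⟨⟨fun g h => ?_⟩⟩
  obtain ⟨g, rfl⟩ := QuotientGroup.mk'_surjective _ g
  have hg : q g ∈ Subgroup.center (Γ ⧸ Subgroup.zpowers c) := hall ⟨g, Subgroup.mem_top g, rfl⟩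
  exact (Subgroup.mem_center_iff.1 hg h).symm

/-- the bimultiplicative map on `ZMod m × ZMod n` -/
def beta (m n : ℕ) (hnm : n ∣ m) :
    Bimul (Multiplicative (ZMod n)) (Multiplicative (ZMod m × ZMod n)) where
  toFun g h := Multiplicative.ofAdd
    (ZMod.castHom hnm (ZMod n) (Multiplicative.toAdd g).1 * (Multiplicative.toAdd h).2)
  map_mul_left g g' h := by
    simp [toAdd_mul, map_add, add_mul, ofAdd_add]
  map_mul_right g h h' := by
    simp [toAdd_mul, mul_add, ofAdd_add]

theorem closure_pair_eq_top (m n : ℕ) [NeZero m] [NeZero n] :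
    Subgroup.closure ({Multiplicative.ofAdd ((1 : ZMod m), (0 : ZMod n)),
      Multiplicative.ofAdd ((0 : ZMod m), (1 : ZMod n))} :
      Set (Multiplicative (ZMod m × ZMod n))) = ⊤ := by
  rw [eq_top_iff]
  intro g _
  have h1 : g = (Multiplicative.ofAdd ((1 : ZMod m), (0 : ZMod n))) ^ (Multiplicative.toAdd g).1.val *
      (Multiplicative.ofAdd ((0 : ZMod m), (1 : ZMod n))) ^ (Multiplicative.toAdd g).2.val := by
    rw [← ofAdd_nsmul, ← ofAdd_nsmul, ← ofAdd_add]
    apply Multiplicative.toAdd.injective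
    simp only [toAdd_ofAdd]
    ext
    · simp
    · simp
  rw [h1]
  exact Subgroup.mul_mem _ (Subgroup.pow_mem _ (Subgroup.subset_closure (by simp)) _)
    (Subgroup.pow_mem _ (Subgroup.subset_closure (by simp)) _)

/-- For positive integers `m` and `n` with `n` dividing `m`, the Schur multiplier of the abelian group `ZMod m × ZMod n` (written multiplicatively) is cyclic of order `n`. In particular the elementary abelian group of order `p ^ 2` has multiplier of order `p`. -/
theorem result (m n : ℕ) [NeZero m] [NeZero n] (hnm : n ∣ m) : Cfsg.HasCyclicSchurMultiplier (Multiplicative (ZMod m × ZMod n)) n := by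
  refine ⟨⟨BilinExt (beta m n hnm), inferInstance, inferInstance, BilinExt.proj _,
    ⟨BilinExt.proj_surjective, BilinExt.ker_proj_le_center, ?_⟩, ⟨BilinExt.kerEquiv _⟩⟩, ?_⟩
  · intro x hx
    rw [BilinExt.mem_ker_proj] at hx
    obtain ⟨u, hu⟩ := ZMod.castHom_surjective hnm (Multiplicative.toAdd x.fst)
    let g₁ : BilinExt (beta m n hnm) := ⟨1, Multiplicative.ofAdd (u, 0)⟩
    let g₂ : BilinExt (beta m n hnm) := ⟨1, Multiplicative.ofAdd (0, 1)⟩
    have h1 := BilinExt.commutator_eq g₁ g₂ (mul_comm _ _)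
    have h2 : x = ⁅g₁, g₂⁆ := by
      rw [h1]
      apply BilinExt.ext
      · show x.fst = (beta m n hnm).toFun (Multiplicative.ofAdd (u, 0)) (Multiplicative.ofAdd (0, 1)) *
          ((beta m n hnm).toFun (Multiplicative.ofAdd (0, 1)) (Multiplicative.ofAdd (u, 0)))⁻¹
        simp only [beta, toAdd_ofAdd, mul_one, mul_zero, ofAdd_zero, inv_one]
        rw [hu]
        rfl
      · exact hx
    rw [h2]
    exact Subgroup.commutator_mem_commutator (Subgroup.mem_top _) (Subgroup.mem_top _)
  · intro Γ _ _ σ hσ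
    obtain ⟨x, hx⟩ := hσ.1 (Multiplicative.ofAdd ((1 : ZMod m), (0 : ZMod n)))
    obtain ⟨y, hy⟩ := hσ.1 (Multiplicative.ofAdd ((0 : ZMod m), (1 : ZMod n)))
    have hgen : Subgroup.closure ({σ x, σ y} : Set (Multiplicative (ZMod m × ZMod n))) = ⊤ := by
      rw [hx, hy]; exact closure_pair_eq_top m n
    have hle := commutator_le_zpowers σ hσ.2.1 x y hgen
    set c := ⁅y, x⁆ with hc
    have hcK : c ∈ σ.ker := by
      rw [MonoidHom.mem_ker, hc, map_commutatorElement, commutatorElement_eq_one_iff_mul_comm]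
      exact mul_comm _ _
    have hcn : c ^ n = 1 := by
      have hcy : Commute ⁅y, x⁆ y := by
        have := Subgroup.mem_center_iff.1 (hσ.2.1 hcK) y
        exact this.symm
      rw [hc, ← commutatorElement_pow_left hcy n]
      have hyn : y ^ n ∈ σ.ker := by
        rw [MonoidHom.mem_ker, map_pow, hy, ← ofAdd_nsmul]
        have : n • ((0 : ZMod m), (1 : ZMod n)) = 0 := by
          ext
          · simp
          · simp
        rw [this]; rfl
      rw [commutatorElement_eq_one_iff_mul_comm]
      exact (Subgroup.mem_center_iff.1 (hσ.2.1 hyn) x).symm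
    apply exists_surjective_zmod_of_zpowers n (⟨c, hcK⟩ : σ.ker)
    · apply Subtype.ext
      simpa using hcn
    · rintro ⟨k, hk⟩
      obtain ⟨j, hj⟩ := Subgroup.mem_zpowers_iff.1 (hle (hσ.2.2 hk))
      rw [Subgroup.mem_zpowers_iff]
      refine ⟨j, Subtype.ext ?_⟩
      simpa using hj

end Cfsg.Agent.S3951
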