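import Cfsg.Statements.S3961
import Cfsg.Agent.Lib.Helper2.SchurBasic

set_option autoImplicit false
universe u v
open Cfsg

namespace Cfsg.Agent.S3961

open Cfsg.Agent.Lib.Helper2
open scoped commutatorElement

theorem commutatorElement_central_mul {H : Type*} [Group H] (z w a b : H)
    (hz : z ∈ Subgroup.center H) (hw : w ∈ Subgroup.center H) : ⁅z * a, w * b⁆ = ⁅a, b⁆ := by
  have hz' := Subgroup.mem_center_iff.1 hz
  have hw' := Subgroup.mem_center_iff.1 hw
  have h1 : z * a * (w * b) = (z * w) * (a * b) := by
    calc z * a * (w * b) = z * (a * w) * b := by group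
      _ = z * (w * a) * b := by rw [hw' a]
      _ = _ := by group
  have h2 : (z * a)⁻¹ * (w * b)⁻¹ = (b * a)⁻¹ * (z * w)⁻¹ := by
    rw [← mul_inv_rev, ← mul_inv_rev]
    congr 1
    calc w * b * (z * a) = w * (b * z) * a := by group
      _ = w * (z * b) * a := by rw [hz' b]
      _ = (w * z) * (b * a) := by group
      _ = (z * w) * (b * a) := by rw [hz' w]
  rw [commutatorElement_def, mul_assoc (z * a * (w * b)), h2, h1, commutatorElement_def]
  have hzw : ∀ g : H, g * (z * w) = (z * w) * g := fun g =>
    Subgroup.mem_center_iff.1 (Subgroup.mul_mem _ hz hw) g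
  calc z * w * (a * b) * ((b * a)⁻¹ * (z * w)⁻¹)
      = (z * w) * ((a * b) * (b * a)⁻¹) * (z * w)⁻¹ := by group
    _ = ((a * b) * (b * a)⁻¹) * (z * w) * (z * w)⁻¹ := by rw [← hzw ((a * b) * (b * a)⁻¹)]
    _ = a * b * a⁻¹ * b⁻¹ := by group

/-- two homomorphisms from a perfect group that agree modulo the centre are equal -/
theorem eq_of_central_diff {G H : Type*} [Group G] [Group H] (hG : Group.IsPerfect G)
    (f g : G →* H) (h : ∀ x : G, f x * (g x)⁻¹ ∈ Subgroup.center H) : f = g := by
  have hcomm : ∀ a b : G, f ⁅a, b⁆ = g ⁅a, b⁆ := by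
    intro a b
    rw [map_commutatorElement, map_commutatorElement]
    have hfa : f a = (f a * (g a)⁻¹) * g a := by group
    have hfb : f b = (f b * (g b)⁻¹) * g b := by group
    rw [hfa, hfb]
    exact commutatorElement_central_mul _ _ _ _ (h a) (h b)
  have htop : f.eqLocus g = ⊤ := by
    rw [eq_top_iff, ← hG.commutator_eq_top, commutator_eq_closure, Subgroup.closure_le]
    rintro _ ⟨a, b, rfl⟩
    exact hcomm a b
  ext x
  have : x ∈ f.eqLocus g := by rw [htop]; trivial
  exact this

/-- a stem extension of a perfect group is perfect -/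
theorem isPerfect_of_stem {Γ G : Type*} [Group Γ] [Group G] (hG : Group.IsPerfect G)
    (σ : Γ →* G) (hσ : Cfsg.IsStemExtension σ) : Group.IsPerfect Γ := by
  refine ⟨?_⟩
  rw [eq_top_iff]
  intro γ _
  have h1 : σ γ ∈ (commutator Γ).map σ := by
    have : (commutator Γ).map σ = commutator G := by
      rw [commutator_def, Subgroup.map_commutator, ← MonoidHom.range_eq_map,
        MonoidHom.range_eq_top.2 hσ.1, commutator_def]
    rw [this, hG.commutator_eq_top]; trivial
  obtain ⟨γ', hγ', hγγ'⟩ := h1
  have h2 : γ'⁻¹ * γ ∈ σ.ker := by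
    rw [MonoidHom.mem_ker, map_mul, map_inv, hγγ', inv_mul_cancel]
  have h3 : γ = γ' * (γ'⁻¹ * γ) := by group
  rw [h3]
  exact Subgroup.mul_mem _ hγ' (hσ.2.2 h2)

/-- a central extension of a central extension of a perfect group by a perfect group is central -/
theorem comp_ker_le_center {Γ G Q : Type*} [Group Γ] [Group G] [Group Q]
    (hΓ : Group.IsPerfect Γ) (σ : Γ →* G) (hσ : σ.ker ≤ Subgroup.center Γ) (π : G →* Q)
    (hπ : π.ker ≤ Subgroup.center G) : (π.comp σ).ker ≤ Subgroup.center Γ := by
  intro z hz
  have hz' : σ z ∈ Subgroup.center G := hπ (by rw [MonoidHom.mem_ker] at hz ⊢; exact hz)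
  have h2 : z ∈ Subgroup.upperCentralSeries Γ 2 := by
    rw [Subgroup.mem_upperCentralSeries_succ_iff]
    intro y
    rw [Subgroup.upperCentralSeries_one]
    apply hσ
    rw [MonoidHom.mem_ker, map_commutatorElement, commutatorElement_eq_one_iff_mul_comm]
    exact (Subgroup.mem_center_iff.1 hz' (σ y)).symm
  haveI := hΓ
  rwa [Group.IsPerfect.upperCentralSeries_eq_center Γ (by norm_num : (2 : ℕ) ≠ 0)] at h2

/-- Let `π : G →* Q` be a surjective homomorphism with central kernel from a finite perfect group `G` (a perfect cover of `Q`). Then `π` is universal, in the sense that every surjective homomorphism `ξ : X →* Q` with central kernel from a group `X` in the universe of `G` admits a homomorphism `η : G →* X` with `ξ ∘ η = π`, if and only if `G` has trivial Schur multiplier. -/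
theorem result {G : Type u} {Q : Type v} [Group G] [Group Q] [Finite G] (hG : Group.IsPerfect G) (π : G →* Q) (hπ : Function.Surjective π) (hker : π.ker ≤ Subgroup.center G) : (∀ (X : Type u) [Group X] (ξ : X →* Q), Function.Surjective ξ → ξ.ker ≤ Subgroup.center X → ∃ η : G →* X, ξ.comp η = π) ↔ Cfsg.HasCyclicSchurMultiplier G 1 := by
  constructor
  · intro hUP
    apply hasCyclicSchurMultiplier_one_of_forall_ker_eq_bot
    intro Γ _ _ σ hσ
    have hΓ : Group.IsPerfect Γ := isPerfect_of_stem hG σ hσ
    have hcen := comp_ker_le_center hΓ σ hσ.2.1 π hker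
    obtain ⟨η, hη⟩ := hUP Γ (π.comp σ) (hπ.comp hσ.1) hcen
    have hση : σ.comp η = MonoidHom.id G := by
      apply eq_of_central_diff hG
      intro x
      apply hker
      rw [MonoidHom.mem_ker, map_mul, map_inv]
      have h1 : π (σ (η x)) = π x := DFunLike.congr_fun hη x
      show π (σ (η x)) * (π x)⁻¹ = 1
      rw [h1, mul_inv_cancel]
    have hση' : ∀ g : G, σ (η g) = g := fun g => DFunLike.congr_fun hση g
    have key : ∀ γ : Γ, γ * (η (σ γ))⁻¹ ∈ Subgroup.center Γ := fun γ => hσ.2.1 (by
      rw [MonoidHom.mem_ker, map_mul, map_inv, hση', mul_inv_cancel])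
    have hrange : η.range = ⊤ := by
      rw [eq_top_iff, ← hΓ.commutator_eq_top, commutator_eq_closure, Subgroup.closure_le]
      rintro _ ⟨a, b, rfl⟩
      have ha : a = (a * (η (σ a))⁻¹) * η (σ a) := by group
      have hb : b = (b * (η (σ b))⁻¹) * η (σ b) := by group
      rw [ha, hb, commutatorElement_central_mul _ _ _ _ (key a) (key b), ← map_commutatorElement]
      exact ⟨_, rfl⟩
    rw [eq_bot_iff]
    intro k hk
    have hk' : k ∈ η.range := by rw [hrange]; trivial
    obtain ⟨g, rfl⟩ := hk'
    have : g = 1 := by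
      rw [← hση' g]; exact hk
    rw [this, map_one]
    exact Subgroup.one_mem _
  · intro hM X _ ξ hξ hξc
    let P : Subgroup (G × X) :=
      (π.comp (MonoidHom.fst G X)).eqLocus (ξ.comp (MonoidHom.snd G X))
    let p₁ : P →* G := (MonoidHom.fst G X).comp P.subtype
    let p₂ : P →* X := (MonoidHom.snd G X).comp P.subtype
    have hP : ∀ x : P, π (p₁ x) = ξ (p₂ x) := fun x => x.2
    have hp₁ : Function.Surjective p₁ := by
      intro g
      obtain ⟨x, hx⟩ := hξ (π g)
      exact ⟨⟨(g, x), hx.symm⟩, rfl⟩
    have hker₁ : p₁.ker ≤ Subgroup.center P := by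
      intro z hz
      rw [Subgroup.mem_center_iff]
      intro y
      have hz1 : (z : G × X).1 = 1 := hz
      have hzx : (z : G × X).2 ∈ ξ.ker := by
        rw [MonoidHom.mem_ker]
        have h1 := hP z
        have h2 : p₁ z = 1 := hz
        rw [h2, map_one] at h1
        exact h1.symm
      apply Subtype.ext
      apply Prod.ext
      · show (y : G × X).1 * (z : G × X).1 = (z : G × X).1 * (y : G × X).1
        rw [hz1, mul_one, one_mul]
      · exact Subgroup.mem_center_iff.1 (hξc hzx) _
    -- decomposition of elements via a section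
    let s : G → P := Function.surjInv hp₁
    have hs : ∀ g, p₁ (s g) = g := Function.surjInv_eq hp₁
    have hdec : ∀ a : P, a * (s (p₁ a))⁻¹ ∈ Subgroup.center P := fun a => hker₁ (by
      rw [MonoidHom.mem_ker, map_mul, map_inv, hs, mul_inv_cancel])
    have hcommsec : ∀ a b : P, ⁅a, b⁆ = ⁅s (p₁ a), s (p₁ b)⁆ := by
      intro a b
      have ha : a = (a * (s (p₁ a))⁻¹) * s (p₁ a) := by group
      have hb : b = (b * (s (p₁ b))⁻¹) * s (p₁ b) := by group
      conv_lhs => rw [ha, hb]
      exact commutatorElement_central_mul _ _ _ _ (hdec a) (hdec b)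
    haveI : Finite (commutatorSet P) := by
      apply Set.Finite.subset (Set.finite_range (fun gg : G × G => ⁅s gg.1, s gg.2⁆))
      rintro _ ⟨a, b, rfl⟩
      exact ⟨(p₁ a, p₁ b), (hcommsec a b).symm⟩
    let D : Subgroup P := commutator P
    haveI : Finite D := by
      show Finite (commutator P)
      infer_instance
    let σ : D →* G := p₁.comp D.subtype
    have hDmap : D.map p₁ = ⊤ := by
      show (commutator P).map p₁ = ⊤
      rw [commutator_def, Subgroup.map_commutator, ← MonoidHom.range_eq_map,
        MonoidHom.range_eq_top.2 hp₁, ← commutator_def, hG.commutator_eq_top]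
    have hσsurj : Function.Surjective σ := by
      intro g
      have : g ∈ D.map p₁ := by rw [hDmap]; trivial
      obtain ⟨d, hd, hdg⟩ := this
      exact ⟨⟨d, hd⟩, hdg⟩
    have hDperf : Group.IsPerfect D := by
      rw [Subgroup.isPerfect_iff]
      apply le_antisymm (Subgroup.commutator_le_left D D)
      show commutator P ≤ ⁅D, D⁆
      rw [commutator_eq_closure, Subgroup.closure_le]
      rintro _ ⟨a, b, rfl⟩
      obtain ⟨da, hda⟩ := hσsurj (p₁ a)
      obtain ⟨db, hdb⟩ := hσsurj (p₁ b)
      have hza : a * (da : P)⁻¹ ∈ Subgroup.center P := hker₁ (by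
        rw [MonoidHom.mem_ker, map_mul, map_inv]
        have : p₁ (da : P) = p₁ a := hda
        rw [this, mul_inv_cancel])
      have hzb : b * (db : P)⁻¹ ∈ Subgroup.center P := hker₁ (by
        rw [MonoidHom.mem_ker, map_mul, map_inv]
        have : p₁ (db : P) = p₁ b := hdb
        rw [this, mul_inv_cancel])
      have ha : a = (a * (da : P)⁻¹) * da := by group
      have hb : b = (b * (db : P)⁻¹) * db := by group
      rw [SetLike.mem_coe, ha, hb, commutatorElement_central_mul _ _ _ _ hza hzb]
      exact Subgroup.commutator_mem_commutator da.2 db.2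
    have hσstem : Cfsg.IsStemExtension σ := by
      refine ⟨hσsurj, ?_, ?_⟩
      · intro d hd
        rw [Subgroup.mem_center_iff]
        intro e
        have h1 : (d : P) ∈ Subgroup.center P := hker₁ (by
          rw [MonoidHom.mem_ker]; exact hd)
        exact Subtype.ext (Subgroup.mem_center_iff.1 h1 e)
      · rw [hDperf.commutator_eq_top]
        exact le_top
    have hkerσ := ker_eq_bot_of_hasCyclicSchurMultiplier_one hM D σ hσstem
    have hσinj : Function.Injective σ := (MonoidHom.ker_eq_bot_iff σ).1 hkerσ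
    let e : D ≃* G := MulEquiv.ofBijective σ ⟨hσinj, hσsurj⟩
    refine ⟨(p₂.comp D.subtype).comp e.symm.toMonoidHom, ?_⟩
    ext g
    show ξ (p₂ ((e.symm g : D) : P)) = π g
    rw [← hP]
    have : p₁ ((e.symm g : D) : P) = e (e.symm g) := rfl
    rw [this, MulEquiv.apply_symm_apply]

end Cfsg.Agent.S3961
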