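import Cfsg.Statements.S3960
import Cfsg.Agent.S3961

set_option autoImplicit false
universe u
open Cfsg

namespace Cfsg.Agent.S3960

open Cfsg.Agent.Lib.Helper2
open scoped commutatorElement

/-- the order of a finite perfect central extension of a finite group is bounded -/
theorem card_le_of_perfect_central {G Q : Type*} [Group G] [Group Q] [Finite Q] [Finite G]
    (hG : Group.IsPerfect G) (π : G →* Q) (hπ : Function.Surjective π)
    (hker : π.ker ≤ Subgroup.center G) :
    Nat.card G ≤ (Nat.card Q) ^ (Nat.card Q * (Nat.card Q * Nat.card Q) + 1) := by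
  have hqpos : 0 < Nat.card Q := Nat.card_pos
  have hidx : (Subgroup.center G).index ∣ Nat.card Q := by
    have h1 := Subgroup.index_dvd_of_le hker
    rw [Subgroup.index_ker, MonoidHom.range_eq_top.2 hπ, Subgroup.card_top] at h1
    exact h1
  have hidxpos : 0 < (Subgroup.center G).index := Nat.pos_of_ne_zero
    (fun h => by rw [h, zero_dvd_iff] at hidx; omega)
  let s : Q → G := Function.surjInv hπ
  have hs : ∀ x, π (s x) = x := Function.surjInv_eq hπ
  have hdec : ∀ a : G, a * (s (π a))⁻¹ ∈ Subgroup.center G := fun a => hker (by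
    rw [MonoidHom.mem_ker, map_mul, map_inv, hs, mul_inv_cancel])
  have hcommsec : ∀ a b : G, ⁅a, b⁆ = ⁅s (π a), s (π b)⁆ := by
    intro a b
    have ha : a = (a * (s (π a))⁻¹) * s (π a) := by group
    have hb : b = (b * (s (π b))⁻¹) * s (π b) := by group
    conv_lhs => rw [ha, hb]
    exact S3961.commutatorElement_central_mul _ _ _ _ (hdec a) (hdec b)
  have hcs : Nat.card (commutatorSet G) ≤ Nat.card Q * Nat.card Q := by
    rw [← Nat.card_prod]
    let f : Q × Q → commutatorSet G := fun xy => ⟨⁅s xy.1, s xy.2⁆, ⟨_, _, rfl⟩⟩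
    apply Nat.card_le_card_of_surjective f
    rintro ⟨_, a, b, rfl⟩
    exact ⟨(π a, π b), Subtype.ext (hcommsec a b).symm⟩
  have h1 := Subgroup.card_commutator_dvd_index_center_pow G
  have h2 : Nat.card (commutator G) = Nat.card G := by
    rw [hG.commutator_eq_top, Subgroup.card_top]
  rw [h2] at h1
  have h3 : Nat.card G ≤ (Subgroup.center G).index ^
      ((Subgroup.center G).index * Nat.card (commutatorSet G) + 1) :=
    Nat.le_of_dvd (pow_pos hidxpos _) h1
  refine h3.trans ?_
  have h4 : (Subgroup.center G).index ≤ Nat.card Q := Nat.le_of_dvd hqpos hidx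
  calc (Subgroup.center G).index ^ ((Subgroup.center G).index * Nat.card (commutatorSet G) + 1)
      ≤ (Nat.card Q) ^ ((Subgroup.center G).index * Nat.card (commutatorSet G) + 1) :=
        Nat.pow_le_pow_left h4 _
    _ ≤ _ := by
        apply Nat.pow_le_pow_right hqpos
        have := Nat.mul_le_mul h4 hcs
        omega

/-- A finite perfect group `Q` has a universal central extension: a finite perfect group `G` in the universe of `Q` and a surjective homomorphism `π : G →* Q` with central kernel such that for every group `X` in that universe and every surjective homomorphism `ξ : X →* Q` with central kernel there is exactly one homomorphism `η : G →* X` with `ξ ∘ η = π`. -/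
theorem result {Q : Type u} [Group Q] [Finite Q] (hQ : Group.IsPerfect Q) : ∃ (G : Type u) (_ : Group G) (_ : Finite G) (π : G →* Q), Group.IsPerfect G ∧ Function.Surjective π ∧ π.ker ≤ Subgroup.center G ∧ ∀ (X : Type u) [Group X] (ξ : X →* Q), Function.Surjective ξ → ξ.ker ≤ Subgroup.center X → ∃! η : G →* X, ξ.comp η = π := by
  classical
  let S : Set ℕ := {n | ∃ (G : Type u) (_ : Group G) (_ : Finite G) (π : G →* Q),
    Group.IsPerfect G ∧ Function.Surjective π ∧ π.ker ≤ Subgroup.center G ∧ Nat.card G = n}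
  have hne : S.Nonempty := ⟨Nat.card Q, Q, inferInstance, inferInstance, MonoidHom.id Q, hQ,
    Function.surjective_id, by rw [MonoidHom.ker_id]; exact bot_le, rfl⟩
  have hbdd : BddAbove S := by
    refine ⟨(Nat.card Q) ^ (Nat.card Q * (Nat.card Q * Nat.card Q) + 1), ?_⟩
    rintro n ⟨G, _, _, π, hG, hπ, hker, rfl⟩
    exact card_le_of_perfect_central hG π hπ hker
  obtain ⟨G, _, _, π, hG, hπ, hker, hcard⟩ := Nat.sSup_mem hne hbdd
  refine ⟨G, inferInstance, inferInstance, π, hG, hπ, hker, ?_⟩
  have hM : Cfsg.HasCyclicSchurMultiplier G 1 := by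
    apply hasCyclicSchurMultiplier_one_of_forall_ker_eq_bot
    intro Γ _ _ σ hσ
    have hΓ := S3961.isPerfect_of_stem hG σ hσ
    have hcen := S3961.comp_ker_le_center hΓ σ hσ.2.1 π hker
    have hmem : Nat.card Γ ∈ S :=
      ⟨Γ, inferInstance, inferInstance, π.comp σ, hΓ, hπ.comp hσ.1, hcen, rfl⟩
    have hle : Nat.card Γ ≤ Nat.card G := hcard ▸ le_csSup hbdd hmem
    have hbij := hσ.1.bijective_of_nat_card_le hle
    exact (MonoidHom.ker_eq_bot_iff σ).2 hbij.1
  intro X _ ξ hξ hξc
  obtain ⟨η, hη⟩ := (S3961.result hG π hπ hker).2 hM X ξ hξ hξc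
  refine ⟨η, hη, ?_⟩
  intro η' hη'
  apply S3961.eq_of_central_diff hG
  intro x
  apply hξc
  rw [MonoidHom.mem_ker, map_mul, map_inv]
  have h1 : ξ (η' x) = π x := DFunLike.congr_fun hη' x
  have h2 : ξ (η x) = π x := DFunLike.congr_fun hη x
  rw [h1, h2, mul_inv_cancel]

end Cfsg.Agent.S3960
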