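import Cfsg.Statements.S3964
import Cfsg.Agent.Lib.Helper2.SchurDihedral

set_option autoImplicit false
open Cfsg

namespace Cfsg.Agent.S3964

open Cfsg.Agent.Lib.Helper2 DihedralGroup

theorem eq_zero_of_add_self {n : ℕ} (hn : Odd n) (i : ZMod n) (h : i + i = 0) : i = 0 := by
  haveI : NeZero n := ⟨(Odd.pos hn).ne'⟩
  have h2 : ((i.val + i.val : ℕ) : ZMod n) = 0 := by
    rw [Nat.cast_add, ZMod.natCast_zmod_val]; exact h
  rw [ZMod.natCast_eq_zero_iff] at h2
  have hcop : Nat.Coprime n 2 := Nat.coprime_two_right.2 hn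
  have h3 : n ∣ i.val := by
    have : n ∣ 2 * i.val := by rw [two_mul]; exact h2
    exact hcop.dvd_of_dvd_mul_left this
  have h4 : i.val = 0 := Nat.eq_zero_of_dvd_of_lt h3 (ZMod.val_lt i)
  exact (ZMod.val_eq_zero i).1 h4

/-- For odd `n` the dihedral group of order `2 n` has trivial Schur multiplier. -/
theorem result (n : ℕ) (hn : Odd n) : Cfsg.HasCyclicSchurMultiplier (DihedralGroup n) 1 := by
  haveI : NeZero n := ⟨(Odd.pos hn).ne'⟩
  apply hasCyclicSchurMultiplier_one_of_forall_ker_eq_bot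
  intro Γ _ _ σ hσ
  rw [eq_bot_iff]
  intro k hk
  obtain ⟨t, ht⟩ := hσ.1 (sr 0)
  obtain ⟨a, i, hai, hii, hka⟩ := dihedral_stem_ker σ hσ t ht k hk
  have hi0 : i = 0 := eq_zero_of_add_self hn i hii
  have haker : a ∈ σ.ker := by
    rw [MonoidHom.mem_ker, hai, hi0]; rfl
  have hac := Subgroup.mem_center_iff.1 (hσ.2.1 haker)
  have h1 : t * a * t⁻¹ = a := by rw [hac t, mul_inv_cancel_right]
  rw [Subgroup.mem_bot, hka, h1, mul_inv_cancel]

end Cfsg.Agent.S3964
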