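import Cfsg.Statements.S3965
import Cfsg.Agent.Lib.Helper2.SchurDihedral

set_option autoImplicit false
open Cfsg

namespace Cfsg.Agent.S3965

open Cfsg.Agent.Lib.Helper2 DihedralGroup

theorem eq_zero_or_of_add_self {m : ℕ} [NeZero (m + m)] (i : ZMod (m + m)) (h : i + i = 0) :
    i = 0 ∨ i = ((m : ℕ) : ZMod (m + m)) := by
  have h2 : ((i.val + i.val : ℕ) : ZMod (m + m)) = 0 := by
    rw [Nat.cast_add, ZMod.natCast_zmod_val]; exact h
  rw [ZMod.natCast_eq_zero_iff] at h2
  obtain ⟨e, he⟩ := h2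
  have hlt : i.val < m + m := ZMod.val_lt i
  have he2 : e = 0 ∨ e = 1 := by
    rcases Nat.lt_or_ge e 2 with h | h
    · omega
    · exfalso
      have : (m + m) * 2 ≤ (m + m) * e := Nat.mul_le_mul_left _ h
      omega
  rcases he2 with rfl | rfl
  · left
    have : i.val = 0 := by omega
    exact (ZMod.val_eq_zero i).1 this
  · right
    have : i.val = m := by omega
    have h3 : ((i.val : ℕ) : ZMod (m + m)) = ((m : ℕ) : ZMod (m + m)) := congrArg _ this
    rw [ZMod.natCast_zmod_val] at h3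
    exact h3

/-- For even `n ≥ 2` the dihedral group of order `2 n` has Schur multiplier cyclic of order `2`. -/
theorem result (n : ℕ) [NeZero n] (hn : Even n) : Cfsg.HasCyclicSchurMultiplier (DihedralGroup n) 2 := by
  obtain ⟨m, rfl⟩ := hn
  haveI : NeZero (2 * (m + m)) := ⟨by have := NeZero.ne (m + m); omega⟩
  haveI : Fact (Nat.Prime 2) := ⟨Nat.prime_two⟩
  refine ⟨⟨DihedralGroup (2 * (m + m)), inferInstance, inferInstance, dihedralCast (m + m),
    dihedralCast_isStemExtension (m + m) ⟨m, rfl⟩, ⟨?_⟩⟩, ?_⟩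
  · apply mulEquivOfPrimeCardEq (p := 2) (dihedralCast_card_ker (m + m))
    rw [Nat.card_eq_fintype_card]
    rfl
  · intro Γ _ _ σ hσ
    obtain ⟨t, ht⟩ := hσ.1 (sr 0)
    obtain ⟨ρ, hρ⟩ := hσ.1 (r 1)
    set z : Γ := ρ ^ m * (t * ρ ^ m * t⁻¹)⁻¹ with hz
    have hρm : σ (ρ ^ m) = r ((m : ℕ) : ZMod (m + m)) := by
      rw [map_pow, hρ, r_one_pow]
    have hmm : ((m : ℕ) : ZMod (m + m)) + ((m : ℕ) : ZMod (m + m)) = 0 := by
      rw [← Nat.cast_add, ZMod.natCast_self]
    have hzker : z ∈ σ.ker := by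
      rw [MonoidHom.mem_ker, hz, map_mul, map_inv, map_mul, map_mul, map_inv, ht, hρm]
      simp only [sr_mul_r, inv_sr, sr_mul_sr, inv_r, r_mul_r, one_def, zero_add, zero_sub,
        neg_neg, r.injEq]
      exact hmm
    have hall : ∀ k ∈ σ.ker, k = 1 ∨ k = z := by
      intro k hk
      obtain ⟨a, i, hai, hii, hka⟩ := dihedral_stem_ker σ hσ t ht k hk
      rcases eq_zero_or_of_add_self i hii with hi0 | him
      · left
        have haker : a ∈ σ.ker := by
          rw [MonoidHom.mem_ker, hai, hi0]; rfl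
        have hac := Subgroup.mem_center_iff.1 (hσ.2.1 haker)
        have h1 : t * a * t⁻¹ = a := by rw [hac t, mul_inv_cancel_right]
        rw [hka, h1, mul_inv_cancel]
      · right
        have hwker : a * (ρ ^ m)⁻¹ ∈ σ.ker := by
          rw [MonoidHom.mem_ker, map_mul, map_inv, hai, hρm, him, mul_inv_cancel]
        have hwc := Subgroup.mem_center_iff.1 (hσ.2.1 hwker)
        set w := a * (ρ ^ m)⁻¹ with hw
        have haw : a = w * ρ ^ m := by rw [hw]; group
        have h1 : t * (w * ρ ^ m) * t⁻¹ = w * (t * ρ ^ m * t⁻¹) := by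
          rw [← mul_assoc, hwc t]; group
        rw [hka, haw, h1, mul_inv_rev, hz]
        have h2 : (t * ρ ^ m * t⁻¹)⁻¹ * w⁻¹ = w⁻¹ * (t * ρ ^ m * t⁻¹)⁻¹ := by
          have h3 := hwc (t * ρ ^ m * t⁻¹)
          rw [← mul_inv_rev, ← mul_inv_rev, h3]
        rw [h2]
        have h4 := hwc (ρ ^ m)
        calc w * ρ ^ m * (w⁻¹ * (t * ρ ^ m * t⁻¹)⁻¹)
            = (w * ρ ^ m) * w⁻¹ * (t * ρ ^ m * t⁻¹)⁻¹ := by group
          _ = (ρ ^ m * w) * w⁻¹ * (t * ρ ^ m * t⁻¹)⁻¹ := by rw [h4]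
          _ = ρ ^ m * (t * ρ ^ m * t⁻¹)⁻¹ := by group
    have hz2 : (⟨z, hzker⟩ : σ.ker) ^ 2 = 1 := by
      have h5 : z ^ 2 ∈ σ.ker := σ.ker.pow_mem hzker 2
      apply Subtype.ext
      show z ^ 2 = 1
      rcases hall _ h5 with h | h
      · exact h
      · have : z = 1 := by
          rw [pow_two] at h
          have := congrArg (fun x => z⁻¹ * x) h
          simpa using this
        rw [this, one_pow]
    apply exists_surjective_zmod_of_zpowers 2 (⟨z, hzker⟩ : σ.ker) hz2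
    rintro ⟨k, hk⟩
    rcases hall k hk with h | h
    · have : (⟨k, hk⟩ : σ.ker) = 1 := Subtype.ext h
      rw [this]; exact Subgroup.one_mem _
    · have : (⟨k, hk⟩ : σ.ker) = ⟨z, hzker⟩ := Subtype.ext h
      rw [this]; exact Subgroup.mem_zpowers _

end Cfsg.Agent.S3965
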