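import Cfsg.Statements.S3967
import Cfsg.Agent.Lib.Helper6.MetaSchur4

set_option autoImplicit false
open Cfsg

namespace Cfsg.Agent.S3967

open Cfsg.Agent.Lib.Helper6.MetaSchur in
/-- The statement with `r = q + 1`. -/
theorem core (m n q l : ℕ) (hm : 0 < m) (hn : 0 < n) (hrn : (q + 1) ^ n ≡ 1 [MOD m]) :
    Cfsg.HasSchurMultiplier (MP m n (q + 1) (m * l / Nat.gcd m q))
      (Multiplicative (ZMod (Nat.gcd l
        (Nat.gcd m q * Nat.gcd m (∑ i ∈ Finset.range n, (q + 1) ^ i) / m)))) := by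
  obtain ⟨d, m', u', e, hd, hm', hgd, hmd, hqd, hcop, hgs, hh, hed⟩ := arith_setup m q n hm hrn
  have ht : m * l / Nat.gcd m q = m' * l := by
    rw [hgd]
    apply Nat.div_eq_of_eq_mul_right hd
    rw [hmd]; ring
  have hk : Nat.gcd l (Nat.gcd m q * Nat.gcd m (∑ i ∈ Finset.range n, (q + 1) ^ i) / m)
      = Nat.gcd l e := by
    rw [hgd, hh]
  refine ⟨?_, ?_⟩
  · obtain ⟨Γ, iG, iF, σ, hstem, hiso⟩ :=
      existence_aux m n q l d m' u' e _ _ hn hd hm' hmd hqd hcop hgs hed ht hk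
    exact ⟨Γ, iG, iF, σ, ⟨hstem.1, hstem.2.1, hstem.2.2⟩, hiso⟩
  · intro Γ _ _ σ hσ
    exact upper_bound_aux m n q l d m' u' e _ _ hm hn hrn hmd hqd hcop hgs ht hk σ
      hσ.1 hσ.2.1 hσ.2.2

/-- Let `m, n ≥ 1`, `r ≥ 1` with `r ^ n ≡ 1 (mod m)`, and `l` a natural number; put `d = gcd(m, r - 1)`, `t = m l / d` and `h = d · gcd(m, 1 + r + ⋯ + r^(n-1)) / m`. The group presented by generators `a, b` and relations `a ^ m = 1`, `b ^ n = a ^ t`, `b a b⁻¹ = a ^ r` (a metacyclic group of order `m n`) has Schur multiplier cyclic of order `gcd(l, h)`. -/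
theorem result (m n r l : ℕ) (hm : 0 < m) (hn : 0 < n) (hr : 0 < r) (hrn : r ^ n ≡ 1 [MOD m]) : Cfsg.HasCyclicSchurMultiplier (PresentedGroup ({FreeGroup.of true ^ m, (FreeGroup.of false) ^ n * (FreeGroup.of true ^ (m * l / Nat.gcd m (r - 1)))⁻¹, FreeGroup.of false * FreeGroup.of true * (FreeGroup.of false)⁻¹ * (FreeGroup.of true ^ r)⁻¹} : Set (FreeGroup Bool))) (Nat.gcd l (Nat.gcd m (r - 1) * Nat.gcd m (∑ i ∈ Finset.range n, r ^ i) / m)) := by
  obtain ⟨q, rfl⟩ : ∃ q, r = q + 1 := ⟨r - 1, by omega⟩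
  simp only [Nat.add_sub_cancel]
  exact core m n q l hm hn hrn

end Cfsg.Agent.S3967
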