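import Cfsg.Statements.S3968
import Mathlib
import Cfsg.Agent.S0142
import Cfsg.Agent.Lib.Helper6.CharBasic
import Cfsg.Agent.Lib.Helper6.Multiplicity
import Cfsg.Agent.Lib.Helper6.Mult
import Cfsg.Agent.Lib.Helper6.CenterIndex
import Cfsg.Agent.Lib.Helper6.Constituent

set_option autoImplicit false
open Cfsg

namespace Cfsg.Agent.S3968

open Cfsg.Agent.Lib.Helper6

/-- Let `p` be a prime and `G` a finite group with a faithful irreducible complex character of degree `p` (so `G` is an irreducible linear group in `p` variables). If `p ^ 2` divides the order of `G`, then the centre of `G` is nontrivial. -/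
theorem result {G : Type*} [Group G] [Finite G] (p : ℕ) (hp : p.Prime) (χ : Cfsg.IrrCharacter G) (hdeg : χ.1 1 = p) (hfaith : ∀ g : G, χ.1 g = χ.1 1 → g = 1) (hdiv : p ^ 2 ∣ Nat.card G) : Subgroup.center G ≠ ⊥ := by
  classical
  have : Fintype G := Fintype.ofFinite G
  haveI hpF : Fact p.Prime := ⟨hp⟩
  obtain ⟨n, ρ, hirr, hchar⟩ := χ.2
  haveI := hirr
  have hn : n = p := by
    have h1 : χ.1 1 = (n : ℂ) := by rw [← hchar, Representation.char_one]; simp
    rw [hdeg] at h1; exact_mod_cast h1.symm
  subst hn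
  intro hZ
  -- key claim
  have key : ∀ z : G, z ≠ 1 → ‖χ.1 z‖ ≠ (n : ℝ) := by
    intro z hz1 hnorm
    have h0 : ‖ρ.character z‖ = (Module.finrank ℂ (Fin n → ℂ) : ℝ) := by
      rw [hchar, Module.finrank_fin_fun]; exact hnorm
    obtain ⟨ω, hω⟩ := (norm_character_eq_iff ρ z).mp h0
    have hzc : z ∈ Subgroup.center G := by
      rw [Subgroup.mem_center_iff]
      intro y
      have hcomm : ρ y * ρ z = ρ z * ρ y := by rw [hω]; ext v; simp
      have h1 : ρ (y * z * y⁻¹ * z⁻¹) = 1 := by
        rw [map_mul, map_mul, map_mul, hcomm, mul_assoc (ρ z), ← map_mul, mul_inv_cancel, map_one,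
          mul_one, ← map_mul, mul_inv_cancel, map_one]
      have h2 : χ.1 (y * z * y⁻¹ * z⁻¹) = χ.1 1 := by
        rw [← hchar]
        show LinearMap.trace ℂ _ (ρ (y * z * y⁻¹ * z⁻¹)) = LinearMap.trace ℂ _ (ρ 1)
        rw [h1, map_one ρ]
      have h3 := hfaith _ h2
      calc y * z = (y * z * y⁻¹ * z⁻¹) * (z * y) := by group
        _ = z * y := by rw [h3, one_mul]
    rw [hZ, Subgroup.mem_bot] at hzc
    exact hz1 hzc
  have burn : ∀ x : G, x ≠ 1 → ¬ n ∣ (Subgroup.centralizer ({x} : Set G)).index → χ.1 x = 0 := by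
    intro x hx1 hnd
    have hcop : Nat.Coprime (Module.finrank ℂ (Fin n → ℂ))
        (Subgroup.centralizer ({x} : Set G)).index := by
      rw [Module.finrank_fin_fun]; exact (Nat.Prime.coprime_iff_not_dvd hp).mpr hnd
    rcases Cfsg.Agent.S0142.result ρ x hcop with h0 | h0
    · rw [← hchar]; exact h0
    · exfalso; apply key x hx1; rw [← hchar, h0, Module.finrank_fin_fun]
  obtain ⟨P⟩ : Nonempty (Sylow n G) := inferInstance
  have hP2 : n ^ 2 ∣ Nat.card P := P.pow_dvd_card_of_pow_dvd_card hdiv
  have hPk : Nat.card P = n ^ (Nat.card G).factorization n := P.card_eq_multiplicity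
  have hPpos : 0 < Nat.card P := Nat.card_pos
  have hPge : n ^ 2 ≤ Nat.card P := Nat.le_of_dvd hPpos hP2
  have hn2 : 2 ≤ n := hp.two_le
  have : Fintype (P : Subgroup G) := Fintype.ofFinite _
  have : Fintype (Cfsg.IrrCharacter (P : Subgroup G)) := Fintype.ofFinite _
  have hψ0 : Cfsg.IsCharacter (P : Subgroup G) (fun x : (P : Subgroup G) => χ.1 (x : G)) :=
    IsCharacter.restrict (P : Subgroup G) (IsIrrCharacter.isCharacter χ.2)
  obtain ⟨m, hm, hmi⟩ := IsCharacter.exists_mult hψ0
  have hval : ∀ x : (P : Subgroup G), χ.1 (x : G)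
      = ∑ θ : Cfsg.IrrCharacter (P : Subgroup G), (m θ : ℂ) * θ.1 x :=
    fun x => apply_eq_sum_mult hm x
  have hd1 : ∀ θ : Cfsg.IrrCharacter (P : Subgroup G), θ.1 1
      = (Cfsg.charDegree θ.1 : ℂ) :=
    fun θ => IsCharacter.apply_one_eq_charDegree (IsIrrCharacter.isCharacter θ.2)
  have hsumN : n = ∑ θ : Cfsg.IrrCharacter (P : Subgroup G),
      m θ * Cfsg.charDegree θ.1 := by
    have h1 := hval 1
    rw [Subgroup.coe_one, hdeg] at h1
    have h2 : (n : ℂ) = ((∑ θ : Cfsg.IrrCharacter (P : Subgroup G),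
      m θ * Cfsg.charDegree θ.1 : ℕ) : ℂ) := by
      rw [h1]; push_cast
      apply Finset.sum_congr rfl
      intro θ _
      rw [hd1 θ]
    exact_mod_cast h2
  have hdpow : ∀ θ : Cfsg.IrrCharacter (P : Subgroup G), ∃ j : ℕ,
      Cfsg.charDegree θ.1 = n ^ j := by
    intro θ
    have h1 := IsIrrCharacter.charDegree_dvd_card θ.2
    rw [hPk] at h1
    obtain ⟨j, _, hj⟩ := (Nat.dvd_prime_pow hp).mp h1
    exact ⟨j, hj⟩
  have hPnt : Nontrivial (P : Subgroup G) := by
    rw [← Finite.one_lt_card_iff_nontrivial]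
    nlinarith
  by_cases hcase : ∀ θ : Cfsg.IrrCharacter (P : Subgroup G), m θ ≠ 0 →
      Cfsg.charDegree θ.1 = 1
  · -- all constituents linear: P abelian
    have hcomm : ∀ a b : (P : Subgroup G), a * b = b * a := by
      intro a b
      have hc : χ.1 ((a * b * a⁻¹ * b⁻¹ : (P : Subgroup G)) : G) = χ.1 1 := by
        have h1 := hval 1
        rw [Subgroup.coe_one] at h1
        rw [hval, h1]
        apply Finset.sum_congr rfl
        intro θ _
        by_cases h0 : m θ = 0
        · rw [h0]; simp
        · have h11 : θ.1 1 = 1 := by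
            rw [hd1 θ, hcase θ h0]; simp
          rw [IsCharacter.apply_commutator_of_apply_one_eq_one (IsIrrCharacter.isCharacter θ.2) h11,
            h11]
      have h3 := hfaith _ hc
      have h4 : a * b * a⁻¹ * b⁻¹ = 1 := Subtype.ext h3
      calc a * b = (a * b * a⁻¹ * b⁻¹) * (b * a) := by group
        _ = b * a := by rw [h4, one_mul]
    have hvan : ∀ x : (P : Subgroup G), x ≠ 1 → χ.1 (x : G) = 0 := by
      intro x hx
      apply burn
      · intro h; apply hx; exact Subtype.ext h
      · have hle : (P : Subgroup G) ≤ Subgroup.centralizer ({(x : G)} : Set G) := by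
          intro y hy
          rw [Subgroup.mem_centralizer_iff]
          intro h hh
          rw [Set.mem_singleton_iff] at hh
          subst hh
          have := hcomm x ⟨y, hy⟩
          exact congrArg Subtype.val this
        have hdvd := Subgroup.index_dvd_of_le hle
        intro hnd
        exact P.not_dvd_index (dvd_trans hnd hdvd)
    obtain ⟨n0, hn0⟩ := IsCharacter.classInner_irr_nat hψ0
      (isIrrCharacter_one (G := (P : Subgroup G)))
    unfold Cfsg.classInner at hn0
    have hs : ∑ x : (P : Subgroup G), χ.1 (x : G) * (starRingEnd ℂ) 1 = (n : ℂ) := by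
      rw [Finset.sum_eq_single (1 : (P : Subgroup G))]
      · rw [Subgroup.coe_one, hdeg]; simp
      · intro x _ hx
        rw [hvan x hx, zero_mul]
      · intro h; exact absurd (Finset.mem_univ _) h
    rw [hs] at hn0
    have hPc : (Nat.card (P : Subgroup G) : ℂ) ≠ 0 := by exact_mod_cast hPpos.ne'
    have h5 : (n : ℂ) = ((n0 * Nat.card (P : Subgroup G) : ℕ) : ℂ) := by
      push_cast
      field_simp at hn0
      linear_combination hn0
    have h6 : n = n0 * Nat.card (P : Subgroup G) := by exact_mod_cast h5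
    rcases Nat.eq_zero_or_pos n0 with h0 | h0
    · rw [h0, zero_mul] at h6; omega
    · have : Nat.card (P : Subgroup G) ≤ n := by
        calc Nat.card (P : Subgroup G) = 1 * Nat.card (P : Subgroup G) := (one_mul _).symm
          _ ≤ n0 * Nat.card (P : Subgroup G) := Nat.mul_le_mul_right _ h0
          _ = n := h6.symm
      nlinarith
  · -- some nonlinear constituent
    push Not at hcase
    obtain ⟨θ, hmθ, hdθ⟩ := hcase
    obtain ⟨j, hj⟩ := hdpow θ
    have hj0 : j ≠ 0 := by
      intro h; apply hdθ; rw [hj, h, pow_zero]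
    have hpd : n ∣ Cfsg.charDegree θ.1 := by
      rw [hj]; exact dvd_pow_self n hj0
    have hle1 : m θ * Cfsg.charDegree θ.1 ≤ n := by
      conv_rhs => rw [hsumN]
      exact Finset.single_le_sum
        (f := fun θ : Cfsg.IrrCharacter (P : Subgroup G) =>
          m θ * Cfsg.charDegree θ.1)
        (fun _ _ => Nat.zero_le _) (Finset.mem_univ θ)
    have hdpos : 0 < Cfsg.charDegree θ.1 := by
      rw [hj]; exact pow_pos hp.pos j
    have hmpos : 1 ≤ m θ := Nat.one_le_iff_ne_zero.mpr hmθ
    have hdle : Cfsg.charDegree θ.1 ≤ n := by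
      calc Cfsg.charDegree θ.1
          = 1 * Cfsg.charDegree θ.1 := (one_mul _).symm
        _ ≤ m θ * Cfsg.charDegree θ.1 := Nat.mul_le_mul_right _ hmpos
        _ ≤ n := hle1
    have hdeq : Cfsg.charDegree θ.1 = n :=
      Nat.le_antisymm hdle (Nat.le_of_dvd hdpos hpd)
    -- value at central element
    have hZP := IsPGroup.center_nontrivial P.isPGroup'
    obtain ⟨⟨z, hz⟩, hz1⟩ := exists_ne (1 : Subgroup.center (P : Subgroup G))
    have hzne : z ≠ 1 := by
      intro h; apply hz1; exact Subtype.ext h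
    -- all other multiplicities vanish
    have hm1 : m θ = 1 := by
      rw [hdeq] at hle1
      have : m θ ≤ 1 := by
        by_contra hcon
        push Not at hcon
        have : 2 * n ≤ m θ * n := Nat.mul_le_mul_right _ hcon
        omega
      omega
    have hm0 : ∀ θ' : Cfsg.IrrCharacter (P : Subgroup G), θ' ≠ θ → m θ' = 0 := by
      intro θ' hne
      by_contra h0
      have hsplit := Finset.add_sum_erase Finset.univ
        (fun θ : Cfsg.IrrCharacter (P : Subgroup G) =>
          m θ * Cfsg.charDegree θ.1) (Finset.mem_univ θ)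
      have hmem : θ' ∈ (Finset.univ : Finset (Cfsg.IrrCharacter (P : Subgroup G))).erase θ :=
        Finset.mem_erase.mpr ⟨hne, Finset.mem_univ _⟩
      have hle2 := Finset.single_le_sum
        (f := fun θ : Cfsg.IrrCharacter (P : Subgroup G) =>
          m θ * Cfsg.charDegree θ.1)
        (fun _ _ => Nat.zero_le _) hmem
      obtain ⟨j', hj'⟩ := hdpow θ'
      have hd'pos : 0 < Cfsg.charDegree θ'.1 := by
        rw [hj']; exact pow_pos hp.pos j'
      have hpos' : 0 < m θ' * Cfsg.charDegree θ'.1 :=
        Nat.mul_pos (Nat.pos_of_ne_zero h0) hd'pos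
      beta_reduce at hsplit hle2
      rw [← hsumN, hm1, hdeq, one_mul] at hsplit
      omega
    have hχθ : ∀ x : (P : Subgroup G), χ.1 (x : G) = θ.1 x := by
      intro x
      rw [hval x, Finset.sum_eq_single θ]
      · rw [hm1]; simp
      · intro θ' _ hne
        rw [hm0 θ' hne]; simp
      · intro h; exact absurd (Finset.mem_univ _) h
    obtain ⟨k', σ, hσirr, hσchar⟩ := θ.2
    haveI := hσirr
    obtain ⟨c, hc, _⟩ := exists_scalar_of_mem_center σ hz
    have hnorm : ‖σ.character z‖ = (Module.finrank ℂ (Fin k' → ℂ) : ℝ) :=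
      (norm_character_eq_iff σ z).mpr ⟨c, hc⟩
    have hk' : k' = n := by
      have h1 : θ.1 1 = (k' : ℂ) := by
        rw [← hσchar, Representation.char_one]; simp
      rw [hd1 θ, hdeq] at h1
      exact_mod_cast h1.symm
    apply key (z : G)
    · intro h; apply hzne; exact Subtype.ext h
    · rw [hχθ z, ← hσchar, hnorm, Module.finrank_fin_fun, hk']

end Cfsg.Agent.S3968
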