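import Cfsg.Statements.S3969
import Cfsg.Agent.Lib.Helper2.AbelianSylowAut
import Cfsg.Agent.Lib.Helper1.NormalPComplement

set_option autoImplicit false
open Cfsg

namespace Cfsg.Agent.S3969

open Cfsg.Agent.Lib.Helper2 Cfsg.Agent.Lib.Helper1

/-- the normalizer of an abelian Sylow subgroup centralizes it, provided no prime `q ≠ p` dividing
`|G|` divides some `p ^ j - 1` with `1 ≤ j ≤ rank P`. -/
theorem normalizer_le_centralizer {G : Type*} [Group G] [Finite G] (p : ℕ) [Fact p.Prime]
    (P : Sylow p G) (hab : IsMulCommutative (P : Subgroup G))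
    (hno : ∀ q : ℕ, q.Prime → q ≠ p → q ∣ Nat.card G → ∀ j, 1 ≤ j →
      j ≤ Group.rank (P : Subgroup G) → ¬ q ∣ p ^ j - 1) :
    Subgroup.normalizer ((P : Subgroup G) : Set G) ≤
      Subgroup.centralizer ((P : Subgroup G) : Set G) := by
  have hPC : (P : Subgroup G) ≤ Subgroup.centralizer ((P : Subgroup G) : Set G) := by
    intro x hx
    rw [Subgroup.mem_centralizer_iff]
    intro y hy
    exact congrArg Subtype.val (mul_comm' (⟨y, hy⟩ : (P : Subgroup G)) ⟨x, hx⟩)
  have key : ∀ q : ℕ, q.Prime → q ≠ p → ∀ x ∈ Subgroup.normalizer ((P : Subgroup G) : Set G),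
      ∀ k : ℕ, orderOf x = q ^ k → x ∈ Subgroup.centralizer ((P : Subgroup G) : Set G) := by
    intro q hq hqp x hxN k hxo
    haveI := Fact.mk hq
    by_contra hxC
    obtain ⟨j, hj1, hjd, hqj⟩ :=
      exists_dvd_pow_sub_one_of_not_centralizes P hab hqp x hxN hxo hxC
    have hk : k ≠ 0 := by
      rintro rfl
      rw [pow_zero, orderOf_eq_one_iff] at hxo
      rw [hxo] at hxC
      exact hxC (Subgroup.one_mem _)
    have hqG : q ∣ Nat.card G := by
      refine dvd_trans ?_ (orderOf_dvd_natCard x)
      rw [hxo]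
      exact dvd_pow_self q hk
    exact hno q hq hqp hqG j hj1 hjd hqj
  have htop : (Subgroup.centralizer ((P : Subgroup G) : Set G)).subgroupOf
      (Subgroup.normalizer ((P : Subgroup G) : Set G)) = ⊤ := by
    apply eq_top_of_forall_sylow_le
    intro r hr
    by_cases hrp : r = p
    · subst hrp
      refine ⟨P.subtype Subgroup.le_normalizer, ?_⟩
      intro y hy
      rw [Subgroup.mem_subgroupOf]
      apply hPC
      have : y ∈ (P : Subgroup G).subgroupOf (Subgroup.normalizer ((P : Subgroup G) : Set G)) := by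
        rw [← Sylow.coe_subtype]; exact hy
      exact this
    · obtain ⟨R⟩ : Nonempty (Sylow r (Subgroup.normalizer ((P : Subgroup G) : Set G))) :=
        inferInstance
      refine ⟨R, ?_⟩
      intro y hy
      rw [Subgroup.mem_subgroupOf]
      obtain ⟨k, hk⟩ := R.isPGroup' ⟨y, hy⟩
      have hk' : (y : G) ^ r ^ k = 1 := by
        have h1 := congrArg Subtype.val hk
        rw [Subgroup.coe_pow] at h1
        have h2 := congrArg Subtype.val h1
        rw [Subgroup.coe_pow] at h2
        exact h2
      obtain ⟨k', -, hk''⟩ := (Nat.dvd_prime_pow hr.out).1 (orderOf_dvd_of_pow_eq_one hk')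
      exact key r hr.out hrp y y.2 k' hk''
  rw [Subgroup.subgroupOf_eq_top] at htop
  exact htop

/-- Let `P` be an abelian Sylow `p`-subgroup of the finite group `G`, generated by `d` elements (`d` its minimal number of generators). If the order of `G` is coprime to `(p - 1)(p ^ 2 - 1) ⋯ (p ^ d - 1)`, then `G` has a normal `p`-complement. (The classical statement needs only the largest number of cyclic factors of `P` of equal order in place of `d`; the form here follows from it.) -/
theorem result {G : Type*} [Group G] [Finite G] (p : ℕ) [Fact p.Prime] (P : Sylow p G) (hab : IsMulCommutative (P : Subgroup G)) (hcop : Nat.Coprime (Nat.card G) (∏ i ∈ Finset.Icc 1 (Group.rank (P : Subgroup G)), (p ^ i - 1))) : Cfsg.HasNormalPComplement p G := by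
  apply hasNormalPComplement_of_normalizer_le_centralizer P
  apply normalizer_le_centralizer p P hab
  intro q hq hqp hqG j hj1 hjd hqj
  have hqprod : q ∣ ∏ i ∈ Finset.Icc 1 (Group.rank (P : Subgroup G)), (p ^ i - 1) :=
    dvd_trans hqj (Finset.dvd_prod_of_mem _ (Finset.mem_Icc.2 ⟨hj1, hjd⟩))
  have h1 := Nat.dvd_gcd hqG hqprod
  rw [hcop] at h1
  exact hq.one_lt.ne' (Nat.dvd_one.1 h1)

end Cfsg.Agent.S3969
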