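import Cfsg.Statements.S3970
import Cfsg.Agent.S3969

set_option autoImplicit false
open Cfsg

namespace Cfsg.Agent.S3970

open Cfsg.Agent.Lib.Helper2 Cfsg.Agent.Lib.Helper1

universe u

theorem rank_le_one_of_isCyclic {H : Type*} [Group H] [Finite H] [IsCyclic H] :
    Group.rank H ≤ 1 := by
  classical
  obtain ⟨g, hg⟩ := IsCyclic.exists_generator (α := H)
  have : Subgroup.closure (({g} : Finset H) : Set H) = ⊤ := by
    rw [Finset.coe_singleton, ← Subgroup.zpowers_eq_closure, eq_top_iff]
    intro x _
    exact hg x
  have h1 := Group.rank_le this
  simpa using h1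

theorem sq_sub_one (a : ℕ) (ha : 1 ≤ a) : a ^ 2 - 1 = (a - 1) * (a + 1) := by
  obtain ⟨m, rfl⟩ : ∃ m, a = m + 1 := ⟨a - 1, by omega⟩
  have : (m + 1) ^ 2 = (m + 1 - 1) * (m + 1 + 1) + 1 := by
    simp only [Nat.add_sub_cancel]
    ring
  omega

theorem aux : ∀ (n : ℕ) (G : Type u) [Group G] [Finite G], Nat.card G = n →
    (∀ p : ℕ, p.Prime → p ∣ Nat.card G → (∃ q : ℕ, q.Prime ∧ q ∣ Nat.card G ∧ p < q) →
      ∀ P : Sylow p G, IsMulCommutative (P : Subgroup G) ∧ Group.rank (P : Subgroup G) ≤ 2) →
    ¬ 12 ∣ Nat.card G → Group.IsSolvable G := by
  intro n
  induction n using Nat.strong_induction_on with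
  | _ n ih =>
    intro G _ _ hn h h12
    by_cases h1 : Nat.card G = 1
    · haveI : Subsingleton G := (Nat.card_eq_one_iff_unique.1 h1).1
      infer_instance
    set p := (Nat.card G).minFac with hp
    have hpp : p.Prime := Nat.minFac_prime h1
    haveI := Fact.mk hpp
    have hpG : p ∣ Nat.card G := Nat.minFac_dvd _
    have hmin : ∀ r : ℕ, r.Prime → r ∣ Nat.card G → p ≤ r := fun r hr hrG =>
      Nat.minFac_le_of_dvd hr.two_le hrG
    by_cases hlarge : ∃ q : ℕ, q.Prime ∧ q ∣ Nat.card G ∧ p < q
    · -- Burnside
      obtain ⟨P⟩ : Nonempty (Sylow p G) := inferInstance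
      obtain ⟨hab, hrank⟩ := h p hpp hpG hlarge P
      have hNC := S3969.normalizer_le_centralizer p P hab (by
        intro q hq hqp hqG j hj1 hjd hqj
        have hpq : p < q := lt_of_le_of_ne (hmin q hq hqG) (Ne.symm hqp)
        have hp2 := hpp.two_le
        have hj2 : j = 1 ∨ j = 2 := by omega
        rcases hj2 with rfl | rfl
        · rw [pow_one] at hqj
          have := Nat.le_of_dvd (by omega) hqj
          omega
        · have hfac : p ^ 2 - 1 = (p - 1) * (p + 1) := sq_sub_one p (by omega)
          rw [hfac] at hqj
          rcases (Nat.Prime.dvd_mul hq).1 hqj with h2 | h2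
          · have := Nat.le_of_dvd (by omega) h2
            omega
          · have hle := Nat.le_of_dvd (by omega) h2
            have hq' : q = p + 1 := by omega
            -- p and p+1 both prime: p = 2, q = 3
            have hp2' : p = 2 := by
              rcases Nat.Prime.eq_two_or_odd hpp with h3 | h3
              · exact h3
              · exfalso
                have hqeven : 2 ∣ q := by omega
                have := (Nat.prime_dvd_prime_iff_eq Nat.prime_two hq).1 hqeven
                omega
            have hq3 : q = 3 := by omega
            -- |P| ≥ 4 since rank P = 2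
            have hrank2 : Group.rank (P : Subgroup G) = 2 := by omega
            obtain ⟨k, hk⟩ := IsPGroup.iff_card.1 P.isPGroup'
            have hk2 : 2 ≤ k := by
              by_contra hk1
              push Not at hk1
              have hcyc : IsCyclic (P : Subgroup G) := by
                rcases Nat.lt_succ_iff.1 hk1 with hk1'
                rcases Nat.le_one_iff_eq_zero_or_eq_one.1 hk1' with rfl | rfl
                · rw [pow_zero] at hk
                  haveI : Subsingleton (P : Subgroup G) := (Nat.card_eq_one_iff_unique.1 hk).1
                  infer_instance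
                · rw [pow_one] at hk
                  exact isCyclic_of_prime_card hk
              have := rank_le_one_of_isCyclic (H := (P : Subgroup G))
              omega
            have h4 : 4 ∣ Nat.card G := by
              have h5 : Nat.card (P : Subgroup G) ∣ Nat.card G := Subgroup.card_subgroup_dvd_card _
              rw [hk, hp2'] at h5
              exact dvd_trans (pow_dvd_pow 2 hk2) h5
            have h3 : 3 ∣ Nat.card G := hq3 ▸ hqG
            apply h12
            exact Nat.Coprime.mul_dvd_of_dvd_of_dvd (by norm_num : Nat.Coprime 4 3) h4 h3)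
      obtain ⟨P', K, hKn, hK⟩ := hasNormalPComplement_of_normalizer_le_centralizer P hNC
      haveI := hKn
      have hcardKP : Nat.card K * Nat.card (P' : Subgroup G) = Nat.card G := hK.card_mul_card
      obtain ⟨k, hk⟩ := IsPGroup.iff_card.1 P'.isPGroup'
      have hk0 : k ≠ 0 := by
        rintro rfl
        have h2 := P'.card_eq_multiplicity
        rw [hk] at h2
        have hfpos : 0 < (Nat.card G).factorization p :=
          hpp.factorization_pos_of_dvd Nat.card_pos.ne' hpG
        have := (Nat.pow_right_injective hpp.two_le) h2
        omega
      have hKlt : Nat.card K < n := by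
        rw [← hn, ← hcardKP, hk]
        have h2 : 2 ≤ p ^ k := by
          calc 2 ≤ p := hpp.two_le
            _ = p ^ 1 := (pow_one p).symm
            _ ≤ p ^ k := Nat.pow_le_pow_right hpp.pos (by omega)
        have hKpos : 0 < Nat.card K := Nat.card_pos
        nlinarith
      have hpK : ¬ p ∣ Nat.card K := by
        intro hpK
        have h2 := P'.card_eq_multiplicity
        rw [hk] at h2
        have := (Nat.pow_right_injective hpp.two_le) h2
        have h3 : p ^ (k + 1) ∣ Nat.card G := by
          rw [← hcardKP, hk, pow_succ, mul_comm]
          exact Nat.mul_dvd_mul_right hpK _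
        have h4 := (hpp.pow_dvd_iff_le_factorization Nat.card_pos.ne').1 h3
        omega
      -- K inherits the hypotheses
      haveI hKsolv : Group.IsSolvable K := by
        apply ih _ hKlt K rfl
        · intro r hr hrK hlarger R
          have hrG : r ∣ Nat.card G := hrK.trans (Subgroup.card_subgroup_dvd_card K)
          obtain ⟨q, hq, hqK, hrq⟩ := hlarger
          have hqG : q ∣ Nat.card G := hqK.trans (Subgroup.card_subgroup_dvd_card K)
          haveI := Fact.mk hr
          have hrp : r ≠ p := by rintro rfl; exact hpK hrK
          have hcardR : Nat.card ((R : Subgroup K).map K.subtype) =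
              r ^ (Nat.card G).factorization r := by
            rw [Subgroup.card_map_of_injective K.subtype_injective, R.card_eq_multiplicity,
              ← hcardKP, hk, Nat.factorization_mul Nat.card_pos.ne' (pow_pos hpp.pos k).ne',
              Nat.factorization_pow, hpp.factorization]
            simp [hrp]
          obtain ⟨hab', hrank'⟩ := h r hr hrG ⟨q, hq, hqG, hrq⟩ (Sylow.ofCard _ hcardR)
          rw [Sylow.coe_ofCard] at hab' hrank'
          have e : (R : Subgroup K) ≃* ((R : Subgroup K).map K.subtype) :=
            Subgroup.equivMapOfInjective _ _ K.subtype_injective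
          refine ⟨⟨⟨fun a b => ?_⟩⟩, ?_⟩
          · apply e.injective
            rw [map_mul, map_mul]
            exact mul_comm' _ _
          · rw [Group.rank_congr e]
            exact hrank'
        · intro h12K
          exact h12 (h12K.trans (Subgroup.card_subgroup_dvd_card K))
      haveI hQsolv : Group.IsSolvable (G ⧸ K) := by
        have hQp : IsPGroup p (G ⧸ K) := by
          rw [IsPGroup.iff_card]
          refine ⟨k, ?_⟩
          have h2 : Nat.card (G ⧸ K) * Nat.card K = Nat.card G := by
            rw [mul_comm]; exact K.card_mul_index
          have hKpos : 0 < Nat.card K := Nat.card_pos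
          have : Nat.card (G ⧸ K) * Nat.card K = p ^ k * Nat.card K := by
            rw [h2, ← hcardKP, hk, mul_comm]
          exact Nat.eq_of_mul_eq_mul_right hKpos this
        haveI := hQp.isNilpotent
        infer_instance
      exact Group.isSolvable_of_ker_le_range K.subtype (QuotientGroup.mk' K) (by
        rw [QuotientGroup.ker_mk', Subgroup.range_subtype])
    · -- `G` is a `p`-group
      push Not at hlarge
      have hpgrp : IsPGroup p G := by
        rw [IsPGroup.iff_card]
        refine ⟨_, Nat.eq_prime_pow_of_unique_prime_dvd Nat.card_pos.ne' ?_⟩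
        intro d hd hdG
        have h2 := hmin d hd hdG
        have h3 := hlarge d hd hdG
        omega
      haveI := hpgrp.isNilpotent
      infer_instance

/-- Let `G` be a finite group such that for every prime `p` dividing its order, other than the largest such prime, the Sylow `p`-subgroups are abelian and generated by at most two elements, and suppose `12` does not divide the order of `G`. Then `G` is solvable. In particular a group of cube-free order not divisible by `12` is solvable. -/
theorem result {G : Type*} [Group G] [Finite G] (h : ∀ p : ℕ, p.Prime → p ∣ Nat.card G → (∃ q : ℕ, q.Prime ∧ q ∣ Nat.card G ∧ p < q) → ∀ P : Sylow p G, IsMulCommutative (P : Subgroup G) ∧ Group.rank (P : Subgroup G) ≤ 2) (h12 : ¬ 12 ∣ Nat.card G) : Group.IsSolvable G := by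
  exact aux _ G rfl h h12

end Cfsg.Agent.S3970
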