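import Cfsg.Statements.S3971
import Cfsg.Agent.Lib.Helper2.TwoGenAction
import Cfsg.Agent.Lib.Helper2.PGroup
import Cfsg.Agent.Lib.Helper1.PNilpotentLocal

set_option autoImplicit false
open Cfsg

namespace Cfsg.Agent.S3971

open Cfsg.Agent.Lib.Helper2 Cfsg.Agent.Lib.Helper1
open Pointwise

theorem isCyclic_of_le_zpowers {G : Type*} [Group G] (H : Subgroup G) (g : G)
    (h : H ≤ Subgroup.zpowers g) : IsCyclic H := by
  have e := Subgroup.subgroupOfEquivOfLe h
  exact isCyclic_of_surjective e e.surjective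

theorem exists_eq_zpowers_of_le_zpowers {G : Type*} [Group G] (H : Subgroup G) (g : G)
    (h : H ≤ Subgroup.zpowers g) : ∃ d : G, H = Subgroup.zpowers d := by
  haveI := isCyclic_of_le_zpowers H g h
  obtain ⟨d, hd⟩ := IsCyclic.exists_generator (α := H)
  refine ⟨(d : G), ?_⟩
  ext x
  constructor
  · intro hx
    obtain ⟨k, hk⟩ := Subgroup.mem_zpowers_iff.1 (hd ⟨x, hx⟩)
    rw [Subgroup.mem_zpowers_iff]
    refine ⟨k, ?_⟩
    have := congrArg Subtype.val hk
    rwa [Subgroup.coe_zpow] at this
  · intro hx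
    obtain ⟨k, rfl⟩ := Subgroup.mem_zpowers_iff.1 hx
    exact H.zpow_mem d.2 k

/-- a subgroup of a `2`-group with a cyclic subgroup of index at most two is generated by two
elements -/
theorem exists_two_generators {G : Type*} [Group G] [Finite G] (S Q : Subgroup G) (hQS : Q ≤ S)
    (c : G) (hc : c ∈ S) (hidx : (Subgroup.zpowers c).relIndex S ≤ 2) :
    ∃ d t : G, Q = Subgroup.closure {d, t} := by
  set C := Subgroup.zpowers c with hC
  have hCS : C ≤ S := by rw [hC, Subgroup.zpowers_le]; exact hc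
  have hne : C.relIndex S ≠ 0 := by
    show (C.subgroupOf S).index ≠ 0
    exact Subgroup.index_ne_zero_of_finite
  have h1 : (C ⊓ Q).relIndex Q ≤ 2 := by
    rw [Subgroup.inf_relIndex_right]
    exact (Subgroup.relIndex_le_of_le_right hQS hne).trans hidx
  obtain ⟨d, hd⟩ := exists_eq_zpowers_of_le_zpowers (C ⊓ Q) c inf_le_left
  have hdQ : d ∈ Q := by
    have : d ∈ C ⊓ Q := by rw [hd]; exact Subgroup.mem_zpowers d
    exact this.2
  by_cases hQD : Q ≤ C ⊓ Q
  · refine ⟨d, d, ?_⟩
    rw [Set.pair_eq_singleton, ← Subgroup.zpowers_eq_closure, ← hd]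
    exact le_antisymm hQD inf_le_right
  · obtain ⟨t, htQ, htD⟩ := SetLike.not_le_iff_exists.1 hQD
    refine ⟨d, t, ?_⟩
    have hrel : (C ⊓ Q).relIndex Q = 2 := by
      have h0 : (C ⊓ Q).relIndex Q ≠ 0 := by
        show ((C ⊓ Q).subgroupOf Q).index ≠ 0
        exact Subgroup.index_ne_zero_of_finite
      have h1' : (C ⊓ Q).relIndex Q ≠ 1 := by
        intro h
        exact hQD (Subgroup.relIndex_eq_one.1 h)
      omega
    have hmem : (C ⊓ Q) ∈ indexTwoIn Q := ⟨inf_le_right, hrel⟩
    apply le_antisymm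
    · intro x hx
      by_cases hxD : x ∈ C ⊓ Q
      · rw [hd] at hxD
        obtain ⟨k, rfl⟩ := Subgroup.mem_zpowers_iff.1 hxD
        exact Subgroup.zpow_mem _ (Subgroup.subset_closure (Set.mem_insert _ _)) k
      · have h2 : x * t⁻¹ ∈ C ⊓ Q := by
          rw [mul_mem_iff_of_mem_indexTwoIn hmem hx (Q.inv_mem htQ), inv_mem_iff]
          exact ⟨fun h => absurd h hxD, fun h => absurd h htD⟩
        rw [hd] at h2
        obtain ⟨k, hk⟩ := Subgroup.mem_zpowers_iff.1 h2
        have hx' : x = d ^ k * t := by rw [hk]; group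
        rw [hx']
        exact Subgroup.mul_mem _
          (Subgroup.zpow_mem _ (Subgroup.subset_closure (Set.mem_insert _ _)) k)
          (Subgroup.subset_closure (Set.mem_insert_of_mem _ rfl))
    · rw [Subgroup.closure_le]
      intro x hx
      rcases hx with rfl | hx
      · exact hdQ
      · rw [Set.mem_singleton_iff] at hx
        rw [hx]; exact htQ

/-- Let `G` be a finite group of order `2 ^ a * n` with `n` odd and not divisible by `3`, and suppose `G` has an element of order `2 ^ (a - 1)` (so a Sylow `2`-subgroup has a cyclic subgroup of index at most `2`). Then `G` has a normal subgroup of order `n`. -/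
theorem result {G : Type*} [Group G] [Finite G] (a n : ℕ) (hG : Nat.card G = 2 ^ a * n) (hn : Odd n) (h3 : ¬ 3 ∣ n) (hx : ∃ x : G, orderOf x = 2 ^ (a - 1)) : ∃ N : Subgroup G, N.Normal ∧ Nat.card N = n := by
  haveI : Fact (Nat.Prime 2) := ⟨Nat.prime_two⟩
  have hfac : (Nat.card G).factorization 2 = a := by
    have hn0 : n ≠ 0 := by rintro rfl; exact (by decide : ¬ Odd 0) hn
    rw [hG, Nat.factorization_mul (pow_pos (by norm_num) a).ne' hn0, Nat.factorization_pow,
      Nat.prime_two.factorization]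
    have : n.factorization 2 = 0 := by
      apply Nat.factorization_eq_zero_of_not_dvd
      rcases hn with ⟨m, hm⟩
      omega
    simp [this]
  have hcardS : ∀ S : Sylow 2 G, Nat.card S = 2 ^ a := by
    intro S
    rw [S.card_eq_multiplicity, hfac]
  have hFrob : FrobeniusCondition 2 G := by
    intro Q hQ2 g hg hgo
    -- order of `g` coprime to `6`
    have hg6 : (orderOf g).Coprime 6 := by
      have h1 : orderOf g ∣ 2 ^ a * n := hG ▸ orderOf_dvd_natCard g
      have h2 : orderOf g ∣ n := (Nat.Coprime.pow_right a hgo).dvd_of_dvd_mul_left h1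
      have h3' : (orderOf g).Coprime 3 := by
        rw [Nat.coprime_comm, Nat.Prime.coprime_iff_not_dvd Nat.prime_three]
        intro h
        exact h3 (h.trans h2)
      exact Nat.Coprime.mul_right hgo h3'
    obtain ⟨x, hxo⟩ := hx
    have hxp : IsPGroup 2 (Subgroup.zpowers x) := by
      rw [IsPGroup.iff_card, Nat.card_zpowers]
      exact ⟨_, hxo⟩
    obtain ⟨S₀, hS₀⟩ := hxp.exists_le_sylow
    obtain ⟨S₁, hS₁⟩ := hQ2.exists_le_sylow
    obtain ⟨h, rfl⟩ := MulAction.exists_smul_eq G S₀ S₁
    have hcS : h * x * h⁻¹ ∈ ((h • S₀ : Sylow 2 G) : Subgroup G) := by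
      rw [Sylow.coe_subgroup_smul]
      have : h * x * h⁻¹ = MulAut.conj h • x := rfl
      rw [this]
      exact Subgroup.smul_mem_pointwise_smul _ _ _ (hS₀ (Subgroup.mem_zpowers x))
    have hidx : (Subgroup.zpowers (h * x * h⁻¹)).relIndex ((h • S₀ : Sylow 2 G) : Subgroup G)
        ≤ 2 := by
      have hle : Subgroup.zpowers (h * x * h⁻¹) ≤ ((h • S₀ : Sylow 2 G) : Subgroup G) := by
        rw [Subgroup.zpowers_le]; exact hcS
      have h1 := card_mul_relIndex hle
      rw [hcardS, Nat.card_zpowers, mul_comm] at h1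
      have ho : orderOf (h * x * h⁻¹) = 2 ^ (a - 1) := by
        have : h * x * h⁻¹ = MulAut.conj h x := rfl
        rw [this, MulEquiv.orderOf_eq (MulAut.conj h) x, hxo]
      rw [ho] at h1
      rcases Nat.eq_zero_or_pos a with rfl | ha
      · rw [Nat.zero_sub, pow_zero, mul_one] at h1
        omega
      · have h2 : 2 ^ a = 2 * 2 ^ (a - 1) := by
          rw [← pow_succ']; congr 1; omega
        rw [h2] at h1
        have := Nat.eq_of_mul_eq_mul_right (pow_pos (by norm_num) (a - 1)) h1
        omega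
    obtain ⟨d, t, hQ⟩ := exists_two_generators _ Q hS₁ _ hcS hidx
    exact mem_centralizer_of_two_generated hQ2 hQ hg hg6
  obtain ⟨P, N, hNn, hN⟩ := hasNormalPComplement_iff_frobeniusCondition.2 hFrob
  refine ⟨N, hNn, ?_⟩
  have h1 := hN.card_mul_card
  rw [hcardS P, hG, mul_comm] at h1
  exact Nat.eq_of_mul_eq_mul_left (pow_pos (by norm_num) a) h1

end Cfsg.Agent.S3971
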