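import Cfsg.Statements.S3976
import Cfsg.Agent.S3975
import Cfsg.Agent.Lib.Helper1.FrattiniHall

set_option autoImplicit false
open Cfsg

namespace Cfsg.Agent.S3976
open Cfsg.Agent.Lib.Helper1
open Pointwise

/-- the conjugation action on the subgroups of a given order -/
noncomputable def conjActSub (G : Type*) [Group G] (k : ℕ) :
    MulAction G {H : Subgroup G // Nat.card H = k} where
  smul g H := ⟨MulAut.conj g • H.1, by
    rw [← Nat.card_congr (Subgroup.equivSMul (MulAut.conj g) H.1).toEquiv]; exact H.2⟩
  one_smul H := Subtype.ext (by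
    show MulAut.conj (1 : G) • H.1 = H.1
    rw [map_one, one_smul])
  mul_smul g h H := Subtype.ext (by
    show MulAut.conj (g * h) • H.1 = MulAut.conj g • (MulAut.conj h • H.1)
    rw [map_mul, mul_smul])

/-- Let `p` be a prime and `G` a group of order `p ^ m`. For every `s ≤ m` the number of normal subgroups of `G` of order `p ^ s` is congruent to `1` modulo `p`. -/
theorem result {G : Type*} [Group G] [Finite G] (p m s : ℕ) (hp : p.Prime) (hG : Nat.card G = p ^ m) (hs : s ≤ m) : Nat.card {H : Subgroup G // H.Normal ∧ Nat.card H = p ^ s} ≡ 1 [MOD p] := by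
  haveI : Fact p.Prime := ⟨hp⟩
  have hGp : IsPGroup p G := IsPGroup.of_card hG
  letI := conjActSub G (p ^ s)
  have hsmul : ∀ (g : G) (H : {H : Subgroup G // Nat.card H = p ^ s}),
      ((g • H : {H : Subgroup G // Nat.card H = p ^ s}) : Subgroup G) = MulAut.conj g • H.1 :=
    fun _ _ => rfl
  have h1 := hGp.card_modEq_card_fixedPoints {H : Subgroup G // Nat.card H = p ^ s}
  have h2 := Cfsg.Agent.S3975.result (G := G) p s hp (by rw [hG]; exact pow_dvd_pow p hs)
  have h3 : Nat.card (MulAction.fixedPoints G {H : Subgroup G // Nat.card H = p ^ s}) =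
      Nat.card {H : Subgroup G // H.Normal ∧ Nat.card H = p ^ s} := by
    apply Nat.card_congr
    refine ⟨fun H => ⟨H.1.1, ?_, H.1.2⟩, fun H => ⟨⟨H.1, H.2.2⟩, ?_⟩, ?_, ?_⟩
    · rw [← Subgroup.normalizer_eq_top_iff, eq_top_iff]
      intro g _
      apply mem_normalizer_of_conj_smul_eq
      have := H.2 g
      rw [← hsmul, this]
    · intro g
      apply Subtype.ext
      rw [hsmul]
      haveI := H.2.1
      exact Subgroup.Normal.conj_smul_eq_self g H.1
    · intro H; rfl
    · intro H; rfl
  rw [← h3]
  exact h1.symm.trans h2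

end Cfsg.Agent.S3976
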