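import Cfsg.Statements.S3981
import Cfsg.Agent.Lib.Helper2.PGroupNormal
import Cfsg.Agent.Lib.Helper2.Nilpotent
import Cfsg.Agent.S3800

set_option autoImplicit false
open Cfsg

namespace Cfsg.Agent.S3981
open Cfsg.Agent.Lib.Helper2 Cfsg.Agent.Lib.Helper1

/-- Let p be an odd prime, Q a p-subgroup of the finite group G and y an involution normalizing Q. Then Q is maximal among the p-subgroups of G normalized by y if and only if the image of y in N_G(Q) ⧸ Q neither inverts nor centralizes any element of order p there; the latter is phrased inside N_G(Q): for every x in N_G(Q) outside Q with x ^ p ∈ Q, neither y x y⁻¹ x nor y x y⁻¹ x⁻¹ lies in Q. -/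
theorem result {G : Type*} [Group G] [Finite G] (p : ℕ) [Fact p.Prime] (hp2 : p ≠ 2) (Q : Subgroup G) (hQ : IsPGroup p ↥Q) (y : G) (hy : orderOf y = 2) (hyQ : y ∈ Subgroup.normalizer (Q : Set G)) : (∀ R : Subgroup G, IsPGroup p ↥R → Q ≤ R → y ∈ Subgroup.normalizer (R : Set G) → R = Q) ↔ ∀ x : G, x ∈ Subgroup.normalizer (Q : Set G) → x ∉ Q → x ^ p ∈ Q → (y * x * y⁻¹ * x ∉ Q ∧ y * x * y⁻¹ * x⁻¹ ∉ Q) := by
  have hp : p.Prime := Fact.out
  have hy2 : y * y = 1 := by
    have := pow_orderOf_eq_one y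
    rwa [hy, pow_two] at this
  have hyinv : y⁻¹ = y := inv_eq_of_mul_eq_one_left hy2
  have hyQ' : ∀ q ∈ Q, y * q * y⁻¹ ∈ Q := fun q hq => (Subgroup.mem_normalizer_iff.1 hyQ q).1 hq
  constructor
  · intro hmax x hxN hxQ hxp
    -- R = ⟨x⟩ Q is a p-group
    have hxo : ∃ k : ℕ, orderOf x = p ^ k := by
      obtain ⟨k, hk⟩ := (IsPGroup.iff_orderOf.1 hQ) ⟨x ^ p, hxp⟩
      rw [Subgroup.orderOf_mk] at hk
      have h1 : orderOf x ∣ p * p ^ k := by
        apply orderOf_dvd_of_pow_eq_one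
        rw [pow_mul, ← hk, pow_orderOf_eq_one]
      rw [← pow_succ'] at h1
      obtain ⟨m, -, hm⟩ := (Nat.dvd_prime_pow hp).1 h1
      exact ⟨m, hm⟩
    obtain ⟨k, hk⟩ := hxo
    have hz : IsPGroup p ↥(Subgroup.zpowers x) :=
      IsPGroup.of_card (n := k) (by rw [Nat.card_zpowers, hk])
    have hR : IsPGroup p ↥(Subgroup.zpowers x ⊔ Q : Subgroup G) :=
      hz.to_sup_of_normal_right' hQ (Subgroup.zpowers_le.2 hxN)
    have hxR : x ∈ Subgroup.zpowers x ⊔ Q :=
      (le_sup_left : Subgroup.zpowers x ≤ _) (Subgroup.mem_zpowers x)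
    have hQR : Q ≤ Subgroup.zpowers x ⊔ Q := le_sup_right
    have key : y * x * y⁻¹ ∈ Subgroup.zpowers x ⊔ Q →
        y ∈ Subgroup.normalizer ((Subgroup.zpowers x ⊔ Q : Subgroup G) : Set G) := by
      intro hc
      apply Cfsg.Agent.S3800.mem_normalizer_of_conj_le
      intro u hu
      have hmap : (Subgroup.zpowers x ⊔ Q).map (MulAut.conj y).toMonoidHom ≤
          Subgroup.zpowers x ⊔ Q := by
        rw [Subgroup.map_sup, MonoidHom.map_zpowers]
        apply sup_le
        · rw [Subgroup.zpowers_le]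
          exact hc
        · rintro _ ⟨q, hq, rfl⟩
          exact hQR (hyQ' q hq)
      exact hmap ⟨u, hu, rfl⟩
    constructor
    · intro h1
      have hc : y * x * y⁻¹ ∈ Subgroup.zpowers x ⊔ Q := by
        have : y * x * y⁻¹ = (y * x * y⁻¹ * x) * x⁻¹ := by group
        rw [this]
        exact Subgroup.mul_mem _ (hQR h1) (Subgroup.inv_mem _ hxR)
      have := hmax _ hR hQR (key hc)
      exact hxQ (this ▸ hxR)
    · intro h1
      have hc : y * x * y⁻¹ ∈ Subgroup.zpowers x ⊔ Q := by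
        have : y * x * y⁻¹ = (y * x * y⁻¹ * x⁻¹) * x := by group
        rw [this]
        exact Subgroup.mul_mem _ (hQR h1) hxR
      have := hmax _ hR hQR (key hc)
      exact hxQ (this ▸ hxR)
  · intro hcond R hR hQR hyR
    by_contra hne
    have hlt : Q < R := lt_of_le_of_ne hQR (Ne.symm hne)
    obtain ⟨x₀, hx₀R, hx₀N, hx₀Q⟩ := exists_mem_normalizer_not_mem hR.isNilpotent hlt
    set K := R ⊓ Subgroup.normalizer (Q : Set G) with hK
    have hQK : Q ≤ K := le_inf hQR Subgroup.le_normalizer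
    have hKN : K ≤ Subgroup.normalizer (Q : Set G) := inf_le_right
    have hKp : IsPGroup p ↥K := hR.to_le inf_le_left
    -- K is y-invariant
    have hyK : ∀ k ∈ K, y * k * y⁻¹ ∈ K := by
      intro k hk
      refine ⟨(Subgroup.mem_normalizer_iff.1 hyR k).1 hk.1, ?_⟩
      have h1 : y * k * y⁻¹ ∈ Subgroup.normalizer (Q : Set G) :=
        Subgroup.mul_mem _ (Subgroup.mul_mem _ hyQ hk.2) (Subgroup.inv_mem _ hyQ)
      exact h1
    -- the quotient K / Q
    have hQn : (Q.subgroupOf K).Normal := by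
      have := Subgroup.normal_subgroupOf_iff_le_normalizer hQK |>.2 hKN  
      exact this
    have hquot : IsPGroup p (↥K ⧸ Q.subgroupOf K) := hKp.to_quotient _
    have hnt : (⊤ : Subgroup (↥K ⧸ Q.subgroupOf K)) ≠ ⊥ := by
      intro h
      have h1 : QuotientGroup.mk' (Q.subgroupOf K) ⟨x₀, hx₀R, hx₀N⟩ ∈
          (⊤ : Subgroup (↥K ⧸ Q.subgroupOf K)) := Subgroup.mem_top _
      rw [h, Subgroup.mem_bot, QuotientGroup.mk'_apply, QuotientGroup.eq_one_iff,
        Subgroup.mem_subgroupOf] at h1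
      exact hx₀Q h1
    obtain ⟨zb, -, hzc, hzo⟩ := exists_central_orderOf_eq_prime hquot ⊤ hnt
    obtain ⟨z, rfl⟩ := QuotientGroup.mk'_surjective (Q.subgroupOf K) zb
    set f := QuotientGroup.mk' (Q.subgroupOf K) with hf
    have hfQ : ∀ k : ↥K, f k = 1 ↔ (k : G) ∈ Q := by
      intro k
      rw [hf, QuotientGroup.mk'_apply, QuotientGroup.eq_one_iff, Subgroup.mem_subgroupOf]
    set x : G := (z : G) with hx
    have hxK : x ∈ K := z.2
    have hxQ : x ∉ Q := by
      intro h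
      have := (hfQ z).2 h
      rw [this, orderOf_one] at hzo
      exact hp.one_lt.ne' hzo.symm
    have hxp : x ^ p ∈ Q := by
      have h1 : f (z ^ p) = 1 := by rw [map_pow, ← hzo, pow_orderOf_eq_one]
      have := (hfQ _).1 h1
      simpa using this
    obtain ⟨hc1, hc2⟩ := hcond x (hKN hxK) hxQ hxp
    -- x' = y x y⁻¹
    let z' : ↥K := ⟨y * x * y⁻¹, hyK x hxK⟩
    have hz'p : f z' ^ p = 1 := by
      rw [← map_pow, hfQ]
      show (y * x * y⁻¹) ^ p ∈ Q
      rw [conj_pow]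
      exact hyQ' _ hxp
    have hcomm : Commute (f z) (f z') := (Subgroup.mem_center_iff.1 hzc (f z')).symm
    -- w = x x'
    set w : G := x * (y * x * y⁻¹) with hw
    have hwK : w ∈ K := K.mul_mem hxK (hyK x hxK)
    have hwf : f (z * z') = f z * f z' := map_mul f z z'
    have hwp : w ^ p ∈ Q := by
      have h1 : f ((z * z') ^ p) = 1 := by
        rw [map_pow, hwf, hcomm.mul_pow, hz'p, mul_one, ← hzo, pow_orderOf_eq_one]
      have := (hfQ _).1 h1
      simpa using this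
    have hwQ : w ∉ Q := by
      intro h
      apply hc1
      have hxN := hKN hxK
      have : y * x * y⁻¹ * x = x⁻¹ * w * x⁻¹⁻¹ := by rw [hw]; group
      rw [this]
      exact (Subgroup.mem_normalizer_iff.1 (Subgroup.inv_mem _ hxN) w).1 h
    obtain ⟨-, hd2⟩ := hcond w (hKN hwK) hwQ hwp
    apply hd2
    have e : y * w * y⁻¹ * w⁻¹ = (y * x * y⁻¹) * x * (y * x * y⁻¹)⁻¹ * x⁻¹ := by
      rw [hw]
      have : y * (x * (y * x * y⁻¹)) * y⁻¹ = (y * x * y⁻¹) * ((y * y) * x * (y * y)⁻¹) := by group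
      rw [this, hy2]
      group
    rw [e]
    have h2 : f (z' * z * z'⁻¹ * z⁻¹) = 1 := by
      rw [map_mul, map_mul, map_mul, map_inv, map_inv, ← hcomm.eq]
      group
    have h3 := (hfQ _).1 h2
    have h4 : ((z' * z * z'⁻¹ * z⁻¹ : ↥K) : G) =
        (y * x * y⁻¹) * x * (y * x * y⁻¹)⁻¹ * x⁻¹ := rfl
    rw [h4] at h3
    exact h3

end Cfsg.Agent.S3981
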