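import Cfsg.Statements.S3982
import Cfsg.Agent.Lib.Helper1.CoprimeSylow
import Cfsg.Agent.Lib.Helper2.FixedPointFree
import Cfsg.Agent.Lib.Helper2.Nilpotent
import Cfsg.Agent.Lib.Helper3.Fitting

set_option autoImplicit false
open Cfsg

namespace Cfsg.Agent.S3982

open Cfsg.Agent.Lib.Helper1 Cfsg.Agent.Lib.Helper2 Cfsg.Agent.Lib.Helper3

variable {G : Type*} [Group G]

/-- The normalizer of a subgroup normalizes its centralizer. -/
theorem conj_mem_centralizer {R : Subgroup G} {n c : G}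
    (hn : n ∈ Subgroup.normalizer (R : Set G)) (hc : c ∈ Subgroup.centralizer (R : Set G)) :
    n * c * n⁻¹ ∈ Subgroup.centralizer (R : Set G) := by
  rw [Subgroup.mem_centralizer_iff] at hc ⊢
  intro r hr
  have hr' : n⁻¹ * r * n ∈ R := by
    have := (Subgroup.mem_normalizer_iff.1 (Subgroup.inv_mem _ hn) r).1 hr
    simpa using this
  have h1 := hc _ hr'
  calc r * (n * c * n⁻¹) = n * ((n⁻¹ * r * n) * c) * n⁻¹ := by group
    _ = n * (c * (n⁻¹ * r * n)) * n⁻¹ := by rw [h1]
    _ = n * c * n⁻¹ * r := by group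

/-- An involution normalizing `R` and having no nontrivial fixed points on `R` inverts `R`. -/
theorem involution_inverts [Finite G] {R : Subgroup G} {t : G} (ht2 : t * t = 1)
    (htR : t ∈ Subgroup.normalizer (R : Set G))
    (hfpf : ∀ r ∈ R, t * r * t⁻¹ = r → r = 1) : ∀ r ∈ R, t * r * t⁻¹ = r⁻¹ := by
  have htinv : t⁻¹ = t := inv_eq_of_mul_eq_one_left ht2
  have hmem : ∀ r ∈ R, t * r * t⁻¹ ∈ R := fun r hr => (Subgroup.mem_normalizer_iff.1 htR r).1 hr
  let σ : ↥R ≃* ↥R :=
    { toFun := fun r => ⟨t * r * t⁻¹, hmem r r.2⟩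
      invFun := fun r => ⟨t * r * t⁻¹, hmem r r.2⟩
      left_inv := by
        intro r
        apply Subtype.ext
        show t * (t * r * t⁻¹) * t⁻¹ = r
        rw [htinv]
        calc t * (t * ↑r * t) * t = (t * t) * r * (t * t) := by group
          _ = r := by rw [ht2]; group
      right_inv := by
        intro r
        apply Subtype.ext
        show t * (t * r * t⁻¹) * t⁻¹ = r
        rw [htinv]
        calc t * (t * ↑r * t) * t = (t * t) * r * (t * t) := by group
          _ = r := by rw [ht2]; group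
      map_mul' := by
        intro a b
        apply Subtype.ext
        show t * (a * b) * t⁻¹ = (t * a * t⁻¹) * (t * b * t⁻¹)
        group }
  have hσ2 : ∀ r, σ (σ r) = r := by
    intro r
    apply Subtype.ext
    show t * (t * r * t⁻¹) * t⁻¹ = r
    rw [htinv]
    calc t * (t * ↑r * t) * t = (t * t) * r * (t * t) := by group
      _ = r := by rw [ht2]; group
  have hσfpf : ∀ r, σ r = r → r = 1 := by
    intro r hr
    apply Subtype.ext
    exact hfpf r r.2 (congrArg Subtype.val hr)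
  intro r hr
  have := fpf_involution_inverts σ hσ2 hσfpf ⟨r, hr⟩
  exact congrArg Subtype.val this

/-- If `t` inverts `R` then `n⁻¹ (t n t⁻¹)` centralizes `R` for every `n` normalizing `R`. -/
theorem comm_mem_centralizer_of_inverts {R : Subgroup G} {t n : G} (ht2 : t * t = 1)
    (hinv : ∀ r ∈ R, t * r * t⁻¹ = r⁻¹) (hn : n ∈ Subgroup.normalizer (R : Set G)) :
    n⁻¹ * (t * n * t⁻¹) ∈ Subgroup.centralizer (R : Set G) := by
  have htinv : t⁻¹ = t := inv_eq_of_mul_eq_one_left ht2
  rw [Subgroup.mem_centralizer_iff]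
  intro r hr
  have h1 : n * r⁻¹ * n⁻¹ ∈ R := (Subgroup.mem_normalizer_iff.1 hn _).1 (R.inv_mem hr)
  have h2 := hinv _ h1
  have h3 : t⁻¹ * r * t = r⁻¹ := by
    have := hinv r hr
    rw [htinv] at this ⊢
    exact this
  -- conjugating r by the element gives r
  have key : (n⁻¹ * (t * n * t⁻¹)) * r * (n⁻¹ * (t * n * t⁻¹))⁻¹ = r := by
    calc (n⁻¹ * (t * n * t⁻¹)) * r * (n⁻¹ * (t * n * t⁻¹))⁻¹
        = n⁻¹ * (t * (n * (t⁻¹ * r * t) * n⁻¹) * t⁻¹) * n := by group
      _ = n⁻¹ * (t * (n * r⁻¹ * n⁻¹) * t⁻¹) * n := by rw [h3]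
      _ = n⁻¹ * (n * r⁻¹ * n⁻¹)⁻¹ * n := by rw [h2]
      _ = r := by group
  calc r * (n⁻¹ * (t * n * t⁻¹))
      = ((n⁻¹ * (t * n * t⁻¹)) * r * (n⁻¹ * (t * n * t⁻¹))⁻¹) * (n⁻¹ * (t * n * t⁻¹)) := by
        rw [key]
    _ = (n⁻¹ * (t * n * t⁻¹)) * r := by group



/-- Powers of `x c` with `c` in a subgroup normalized by `x`. -/
theorem mul_pow_mem_coset {C : Subgroup G} {x c : G} (hx : ∀ d ∈ C, x⁻¹ * d * x ∈ C) (hc : c ∈ C)
    (j : ℕ) : ∃ d ∈ C, (x * c) ^ j = x ^ j * d := by
  induction j with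
  | zero => exact ⟨1, C.one_mem, by simp⟩
  | succ j ih =>
    obtain ⟨d, hd, hj⟩ := ih
    refine ⟨(x⁻¹ * d * x) * c, C.mul_mem (hx d hd) hc, ?_⟩
    rw [pow_succ, hj, pow_succ]
    group

theorem two_dvd_card_of_mem [Finite G] {H : Subgroup G} {t : G} (ht : orderOf t = 2) (htH : t ∈ H) :
    2 ∣ Nat.card H := by
  have := orderOf_dvd_natCard (⟨t, htH⟩ : H)
  rwa [Subgroup.orderOf_mk, ht] at this

/-- The core of the argument: a maximal `t`-invariant `p`-subgroup is a Sylow subgroup. -/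
theorem eq_sylow_of_maximal_invariant [Finite G] (p : ℕ) [Fact p.Prime]
    (hC : ∀ g : G, g ≠ 1 → (∃ k : ℕ, orderOf g = p ^ k) →
      Odd (Nat.card ↥(Subgroup.centralizer ({g} : Set G))))
    (R : Subgroup G) (hR : IsPGroup p ↥R) (hR1 : R ≠ ⊥) (t : G) (ht : orderOf t = 2)
    (htR : t ∈ Subgroup.normalizer (R : Set G))
    (hmax : ∀ S : Subgroup G, IsPGroup p ↥S → R ≤ S → t ∈ Subgroup.normalizer (S : Set G) → S = R)
    (P' : Sylow p G) (hRP : R ≤ (P' : Subgroup G)) : R = (P' : Subgroup G) := by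
  have hp : p.Prime := Fact.out
  by_contra hne
  have hlt : R < (P' : Subgroup G) := lt_of_le_of_ne hRP hne
  obtain ⟨x, hxP, hxN, hxR⟩ := exists_mem_normalizer_not_mem P'.isPGroup'.isNilpotent hlt
  obtain ⟨k, hk⟩ := (IsPGroup.iff_orderOf.1 P'.isPGroup') ⟨x, hxP⟩
  rw [Subgroup.orderOf_mk] at hk
  have ht2 : t * t = 1 := by
    have := pow_orderOf_eq_one t
    rwa [ht, pow_two] at this
  have htinv : t⁻¹ = t := inv_eq_of_mul_eq_one_left ht2
  -- t has no fixed points on R
  have hfpf : ∀ r ∈ R, t * r * t⁻¹ = r → r = 1 := by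
    intro r hr hfix
    by_contra hr1
    obtain ⟨j, hj⟩ := (IsPGroup.iff_orderOf.1 hR) ⟨r, hr⟩
    rw [Subgroup.orderOf_mk] at hj
    have hodd := hC r hr1 ⟨j, hj⟩
    have htc : t ∈ Subgroup.centralizer ({r} : Set G) := by
      rw [Subgroup.mem_centralizer_singleton_iff]
      calc t * r = (t * r * t⁻¹) * t := by group
        _ = r * t := by rw [hfix]
    have := two_dvd_card_of_mem ht htc
    exact (Nat.not_even_iff_odd.2 hodd) (even_iff_two_dvd.2 this)
  have hinv := involution_inverts ht2 htR hfpf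
  -- R is abelian
  have hab : ∀ a ∈ R, ∀ b ∈ R, a * b = b * a := by
    intro a ha b hb
    have h1 := hinv (a * b) (R.mul_mem ha hb)
    have h2 : t * (a * b) * t⁻¹ = (t * a * t⁻¹) * (t * b * t⁻¹) := by group
    rw [h2, hinv a ha, hinv b hb] at h1
    have h3 := congrArg Inv.inv h1
    have h4 : b * a = a * b := by simpa using h3
    exact h4.symm
  set C := Subgroup.centralizer (R : Set G) with hCdef
  have hRC : R ≤ C := by
    intro a ha
    rw [Subgroup.mem_centralizer_iff]
    intro b hb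
    exact hab b hb a ha
  -- C has odd order
  obtain ⟨r₀, hr₀⟩ := (Subgroup.ne_bot_iff_exists_ne_one).1 hR1
  have hr₀1 : (r₀ : G) ≠ 1 := fun h => hr₀ (Subtype.ext h)
  have hCodd : ¬ 2 ∣ Nat.card C := by
    obtain ⟨j, hj⟩ := (IsPGroup.iff_orderOf.1 hR) r₀
    have hj' : orderOf (r₀ : G) = p ^ j := by rw [Subgroup.orderOf_coe]; exact hj
    have hodd := hC r₀ hr₀1 ⟨j, hj'⟩
    have hle : C ≤ Subgroup.centralizer ({(r₀ : G)} : Set G) :=
      Subgroup.centralizer_le (Set.singleton_subset_iff.2 r₀.2)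
    intro h2
    have := h2.trans (Subgroup.card_dvd_of_le hle)
    exact (Nat.not_even_iff_odd.2 hodd) (even_iff_two_dvd.2 this)
  -- t normalizes C
  have htC : t ∈ Subgroup.normalizer (C : Set G) := by
    have h1 : Subgroup.zpowers t ≤ Subgroup.normalizer (C : Set G) := by
      apply le_normalizer_of_conj_mem
      intro g hg c hc
      exact conj_mem_centralizer ((Subgroup.zpowers_le.2 htR) hg) hc
    exact h1 (Subgroup.mem_zpowers t)
  -- t-invariant Sylow p-subgroup of C containing R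
  have hcardA : Nat.card (Subgroup.zpowers t) = 2 := by rw [Nat.card_zpowers, ht]
  have hcop : (Nat.card (Subgroup.zpowers t)).Coprime (Nat.card C) := by
    rw [hcardA]
    exact (Nat.Prime.coprime_iff_not_dvd Nat.prime_two).2 hCodd
  have hsolv : Group.IsSolvable ↥(Subgroup.zpowers t) :=
    Group.isSolvable_of_comm (fun a b => mul_comm' a b)
  obtain ⟨PC, hRPC, hAPC⟩ := coprime_invariant_le_sylow (Subgroup.zpowers t) C
    (Subgroup.zpowers_le.2 htC) hcop (Or.inl hsolv) p R hRC hR (Subgroup.zpowers_le.2 htR)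
  have hSeq : (PC : Subgroup ↥C).map C.subtype = R :=
    hmax _ (PC.isPGroup'.map _) hRPC (hAPC (Subgroup.mem_zpowers t))
  -- x ∉ C
  have hxC : x ∉ C := by
    intro hxC
    have hz : IsPGroup p ↥(Subgroup.zpowers x) :=
      IsPGroup.of_card (n := k) (by rw [Nat.card_zpowers, hk])
    have hK : IsPGroup p ↥(Subgroup.zpowers x ⊔ R : Subgroup G) :=
      hz.to_sup_of_normal_right' hR (Subgroup.zpowers_le.2 hxN)
    have hKC : Subgroup.zpowers x ⊔ R ≤ C := sup_le (Subgroup.zpowers_le.2 hxC) hRC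
    have hK' : IsPGroup p ↥((Subgroup.zpowers x ⊔ R : Subgroup G).subgroupOf C) :=
      hK.comap_of_injective C.subtype C.subtype_injective
    have hle : (PC : Subgroup ↥C) ≤ (Subgroup.zpowers x ⊔ R : Subgroup G).subgroupOf C := by
      intro y hy
      rw [Subgroup.mem_subgroupOf]
      have : (y : G) ∈ (PC : Subgroup ↥C).map C.subtype := ⟨y, hy, rfl⟩
      rw [hSeq] at this
      exact (le_sup_right : R ≤ _) this
    have heq := PC.is_maximal' hK' hle
    have hxmem : (⟨x, hxC⟩ : ↥C) ∈ (Subgroup.zpowers x ⊔ R : Subgroup G).subgroupOf C := by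
      rw [Subgroup.mem_subgroupOf]
      exact (le_sup_left : Subgroup.zpowers x ≤ _) (Subgroup.mem_zpowers x)
    rw [heq] at hxmem
    have : x ∈ (PC : Subgroup ↥C).map C.subtype := ⟨⟨x, hxC⟩, hxmem, rfl⟩
    rw [hSeq] at this
    exact hxR this
  -- the involution on C
  have hkey := comm_mem_centralizer_of_inverts ht2 hinv hxN
  have htCmem : ∀ c ∈ C, t * c * t⁻¹ ∈ C := fun c hc => conj_mem_centralizer htR hc
  have hσmem : ∀ c : ↥C, x⁻¹ * (t * (x * c) * t⁻¹) ∈ C := by
    intro c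
    have : x⁻¹ * (t * (x * c) * t⁻¹) = (x⁻¹ * (t * x * t⁻¹)) * (t * c * t⁻¹) := by group
    rw [this]
    exact C.mul_mem hkey (htCmem c c.2)
  have hσσ : ∀ c : ↥C, x⁻¹ * (t * (x * (x⁻¹ * (t * (x * c) * t⁻¹))) * t⁻¹) = c := by
    intro c
    rw [htinv]
    calc x⁻¹ * (t * (x * (x⁻¹ * (t * (x * ↑c) * t))) * t)
        = x⁻¹ * ((t * t) * (x * c) * (t * t)) := by group
      _ = c := by rw [ht2]; group
  let σ : Equiv.Perm ↥C :=
    { toFun := fun c => ⟨x⁻¹ * (t * (x * c) * t⁻¹), hσmem c⟩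
      invFun := fun c => ⟨x⁻¹ * (t * (x * c) * t⁻¹), hσmem c⟩
      left_inv := fun c => Subtype.ext (hσσ c)
      right_inv := fun c => Subtype.ext (hσσ c) }
  have hσ2 : σ ^ 2 ^ 1 = 1 := by
    ext c
    rw [pow_one, pow_two]
    exact hσσ c
  classical
  let _ : Fintype ↥C := Fintype.ofFinite _
  have hnd : ¬ 2 ∣ Fintype.card ↥C := by rwa [← Nat.card_eq_fintype_card]
  have : Fact (Nat.Prime 2) := ⟨Nat.prime_two⟩
  obtain ⟨c₀, hc₀⟩ := Equiv.Perm.exists_fixed_point_of_prime hnd hσ2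
  have hc₀' : x⁻¹ * (t * (x * c₀) * t⁻¹) = c₀ := congrArg Subtype.val hc₀
  set u : G := x * c₀ with hu
  have htu : t * u * t⁻¹ = u := by
    calc t * u * t⁻¹ = x * (x⁻¹ * (t * (x * c₀) * t⁻¹)) := by rw [hu]; group
      _ = u := by rw [hc₀']
  have htu' : Commute t u := by
    show t * u = u * t
    calc t * u = (t * u * t⁻¹) * t := by group
      _ = u * t := by rw [htu]
  -- the p-part of u
  set g := pPart u p with hg
  have hgo : orderOf g = p ^ (orderOf u).factorization p := orderOf_pPart u p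
  have htg : Commute t g := htu'.pow_right _
  have hg1 : g ≠ 1 := by
    intro hg1
    rw [hg1, orderOf_one] at hgo
    have hfac : (orderOf u).factorization p = 0 := by
      by_contra h0
      have : 1 < p ^ (orderOf u).factorization p := Nat.one_lt_pow h0 hp.one_lt
      omega
    have hpu : ¬ p ∣ orderOf u := by
      intro hd
      have := (hp.dvd_iff_one_le_factorization (orderOf_pos u).ne').1 hd
      omega
    -- x^m ∈ C where m = orderOf u
    have hxnorm : ∀ d ∈ C, x⁻¹ * d * x ∈ C := by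
      intro d hd
      have := conj_mem_centralizer (Subgroup.inv_mem _ hxN) hd
      simpa using this
    obtain ⟨d, hd, hpow⟩ := mul_pow_mem_coset hxnorm c₀.2 (orderOf u)
    rw [← hu, pow_orderOf_eq_one] at hpow
    have hxm : x ^ orderOf u ∈ C := by
      have : x ^ orderOf u = d⁻¹ := by
        rw [eq_inv_iff_mul_eq_one]; exact hpow.symm
      rw [this]; exact C.inv_mem hd
    apply hxC
    apply mem_of_pow_mem_of_coprime C x (orderOf u) _ hxm
    rw [hk]
    exact Nat.Coprime.pow_right k ((Nat.Prime.coprime_iff_not_dvd hp).2 hpu).symm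
  have hodd := hC g hg1 ⟨_, hgo⟩
  have htc : t ∈ Subgroup.centralizer ({g} : Set G) := by
    rw [Subgroup.mem_centralizer_singleton_iff]
    exact htg.eq
  have := two_dvd_card_of_mem ht htc
  exact (Nat.not_even_iff_odd.2 hodd) (even_iff_two_dvd.2 this)

/-- Let p be an odd prime and G a finite group of even order divisible by p in which the centralizer of every non-identity p-element has odd order. If some nontrivial p-subgroup of G has a normalizer of even order, then the normalizer of every Sylow p-subgroup of G has even order. -/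
theorem result {G : Type*} [Group G] [Finite G] (p : ℕ) [Fact p.Prime] (hp2 : p ≠ 2) (hpG : p ∣ Nat.card G) (h2G : 2 ∣ Nat.card G) (hC : ∀ g : G, g ≠ 1 → (∃ k : ℕ, orderOf g = p ^ k) → Odd (Nat.card ↥(Subgroup.centralizer ({g} : Set G)))) (Q : Subgroup G) (hQ : IsPGroup p ↥Q) (hQ1 : Q ≠ ⊥) (hev : Even (Nat.card ↥(Subgroup.normalizer (Q : Set G)))) (P : Sylow p G) : Even (Nat.card ↥(Subgroup.normalizer ((P : Subgroup G) : Set G))) := by
  -- an involution normalizing Q
  obtain ⟨t₀, ht₀⟩ := exists_prime_orderOf_dvd_card' 2 (even_iff_two_dvd.1 hev)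
  set t : G := (t₀ : G) with ht
  have hto : orderOf t = 2 := by rw [ht, Subgroup.orderOf_coe]; exact ht₀
  have htQ : t ∈ Subgroup.normalizer (Q : Set G) := t₀.2
  -- a maximal t-invariant p-subgroup containing Q
  obtain ⟨R, hQR, hRmax⟩ := (Set.toFinite {R : Subgroup G | IsPGroup p ↥R ∧
    t ∈ Subgroup.normalizer (R : Set G)}).exists_le_maximal
    (show Q ∈ {R : Subgroup G | IsPGroup p ↥R ∧ t ∈ Subgroup.normalizer (R : Set G)} from
      ⟨hQ, htQ⟩)
  obtain ⟨hRp, htR⟩ := hRmax.prop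
  have hR1 : R ≠ ⊥ := by
    rintro rfl
    exact hQ1 (le_bot_iff.1 hQR)
  have hmax : ∀ S : Subgroup G, IsPGroup p ↥S → R ≤ S →
      t ∈ Subgroup.normalizer (S : Set G) → S = R := by
    intro S hS hRS htS
    exact le_antisymm (hRmax.le_of_ge ⟨hS, htS⟩ hRS) hRS
  obtain ⟨P', hRP'⟩ := hRp.exists_le_sylow
  have hReq := eq_sylow_of_maximal_invariant p hC R hRp hR1 t hto htR hmax P' hRP'
  have htP' : t ∈ Subgroup.normalizer ((P' : Subgroup G) : Set G) := by rw [← hReq]; exact htR
  -- transport to P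
  obtain ⟨g, rfl⟩ := MulAction.exists_smul_eq G P' P
  have hmem : g * t * g⁻¹ ∈ Subgroup.normalizer (((g • P' : Sylow p G) : Subgroup G) : Set G) := by
    apply Sylow.smul_eq_iff_mem_normalizer.1
    rw [← mul_smul, mul_assoc, inv_mul_cancel, mul_one, mul_smul,
      Sylow.smul_eq_iff_mem_normalizer.2 htP']
  have ho : orderOf (g * t * g⁻¹) = 2 := by
    rw [← hto]
    exact MulEquiv.orderOf_eq (MulAut.conj g) t
  exact even_iff_two_dvd.2 (two_dvd_card_of_mem ho hmem)

end Cfsg.Agent.S3982
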