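import Cfsg.Statements.S3983
import Cfsg.Agent.Lib.Helper2.TISylow

set_option autoImplicit false
open scoped Pointwise
open Cfsg

namespace Cfsg.Agent.S3983
open Cfsg.Agent.Lib.Helper2 Cfsg.Agent.Lib.Helper1
open scoped Pointwise

/-- Let P be a Sylow p-subgroup of the finite group G that meets each conjugate g P g⁻¹ with g outside N_G(P) trivially, and let U be a subgroup of G of order divisible by p. Then a Sylow p-subgroup Q of U has the same property inside U: Q meets each conjugate u Q u⁻¹ with u ∈ U outside N_U(Q) trivially. -/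
theorem result {G : Type*} [Group G] [Finite G] (p : ℕ) [Fact p.Prime] (P : Sylow p G) (hTI : ∀ g : G, g ∉ Subgroup.normalizer ((P : Subgroup G) : Set G) → (P : Subgroup G) ⊓ (MulAut.conj g • (P : Subgroup G)) = ⊥) (U : Subgroup G) (hU : p ∣ Nat.card ↥U) (Q : Sylow p ↥U) : ∀ u : ↥U, u ∉ Subgroup.normalizer ((Q : Subgroup ↥U) : Set ↥U) → (Q : Subgroup ↥U) ⊓ (MulAut.conj u • (Q : Subgroup ↥U)) = ⊥ := by
  intro u hu
  have hpair := ti_pairwise_of_ti P hTI
  have hQ' : IsPGroup p ↥((Q : Subgroup ↥U).map U.subtype) := Q.isPGroup'.map _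
  obtain ⟨R, hR⟩ := hQ'.exists_le_sylow
  have hQR : ∀ x : ↥U, x ∈ (Q : Subgroup ↥U) → (x : G) ∈ (R : Subgroup G) :=
    fun x hx => hR ⟨x, hx, rfl⟩
  by_cases hRu : (u : G) • R = R
  · exfalso
    apply hu
    apply mem_normalizer_of_conj_smul_eq
    -- Q = R ∩ U
    have hK : IsPGroup p ↥((R : Subgroup G).subgroupOf U) :=
      R.isPGroup'.comap_of_injective U.subtype U.subtype_injective
    have hQK : (Q : Subgroup ↥U) ≤ (R : Subgroup G).subgroupOf U := by
      intro x hx
      rw [Subgroup.mem_subgroupOf]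
      exact hQR x hx
    have hKQ : (R : Subgroup G).subgroupOf U = (Q : Subgroup ↥U) := Q.is_maximal' hK hQK
    have hRu' : MulAut.conj (u : G) • (R : Subgroup G) = R := by
      have := congrArg (fun S : Sylow p G => (S : Subgroup G)) hRu
      exact this
    rw [← hKQ]
    ext y
    rw [Subgroup.mem_pointwise_smul_iff_inv_smul_mem, Subgroup.mem_subgroupOf,
      Subgroup.mem_subgroupOf]
    have h1 : (((MulAut.conj u)⁻¹ • y : ↥U) : G) = (MulAut.conj (u : G))⁻¹ • (y : G) := by
      simp [MulAut.smul_def, MulAut.conj_inv_apply]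
    rw [h1, ← Subgroup.mem_pointwise_smul_iff_inv_smul_mem, hRu']
  · have hne : R ≠ (u : G) • R := fun h => hRu h.symm
    have hbot := hpair R ((u : G) • R) hne
    rw [eq_bot_iff]
    intro x hx
    rw [Subgroup.mem_bot]
    have h1 : (x : G) ∈ (R : Subgroup G) := hQR x hx.1
    have h2 : (x : G) ∈ (((u : G) • R : Sylow p G) : Subgroup G) := by
      rw [Sylow.coe_subgroup_smul]
      have hx2 : x ∈ MulAut.conj u • (Q : Subgroup ↥U) := hx.2
      rw [Subgroup.mem_pointwise_smul_iff_inv_smul_mem] at hx2 ⊢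
      have h3 := hQR _ hx2
      have h4 : (((MulAut.conj u)⁻¹ • x : ↥U) : G) = (MulAut.conj (u : G))⁻¹ • (x : G) := by
        simp [MulAut.smul_def, MulAut.conj_inv_apply]
      rw [h4] at h3
      exact h3
    have h5 : (x : G) ∈ (R : Subgroup G) ⊓ (((u : G) • R : Sylow p G) : Subgroup G) := ⟨h1, h2⟩
    rw [hbot, Subgroup.mem_bot] at h5
    exact Subtype.ext h5

end Cfsg.Agent.S3983
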