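import Cfsg.Statements.S3984
import Cfsg.Agent.Lib.Helper2.TISylow

set_option autoImplicit false
open scoped Pointwise
open Cfsg

namespace Cfsg.Agent.S3984
open Cfsg.Agent.Lib.Helper2 Cfsg.Agent.Lib.Helper1
open scoped Pointwise

/-- Let P be a Sylow p-subgroup of the finite group G that meets each conjugate g P g⁻¹ with g outside N_G(P) trivially, and let N be a normal subgroup of G of order prime to p. Then every Sylow p-subgroup Q of G ⧸ N meets each conjugate x Q x⁻¹ with x outside its normalizer trivially. -/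
theorem result {G : Type*} [Group G] [Finite G] (p : ℕ) [Fact p.Prime] (P : Sylow p G) (hTI : ∀ g : G, g ∉ Subgroup.normalizer ((P : Subgroup G) : Set G) → (P : Subgroup G) ⊓ (MulAut.conj g • (P : Subgroup G)) = ⊥) (N : Subgroup G) [N.Normal] (hN : (Nat.card ↥N).Coprime p) (Q : Sylow p (G ⧸ N)) : ∀ x : G ⧸ N, x ∉ Subgroup.normalizer ((Q : Subgroup (G ⧸ N)) : Set (G ⧸ N)) → (Q : Subgroup (G ⧸ N)) ⊓ (MulAut.conj x • (Q : Subgroup (G ⧸ N))) = ⊥ := by
  have hpair := ti_pairwise_of_ti P hTI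
  set f := QuotientGroup.mk' N with hf
  have hfs : Function.Surjective f := QuotientGroup.mk'_surjective N
  have hker : f.ker = N := QuotientGroup.ker_mk' N
  -- pairwise TI in the quotient
  have hpairQ : ∀ Q₁ Q₂ : Sylow p (G ⧸ N), Q₁ ≠ Q₂ →
      (Q₁ : Subgroup (G ⧸ N)) ⊓ (Q₂ : Subgroup (G ⧸ N)) = ⊥ := by
    intro Q₁ Q₂ hne
    obtain ⟨P₁, rfl⟩ := Sylow.mapSurjective_surjective hfs p Q₁
    obtain ⟨P₂, rfl⟩ := Sylow.mapSurjective_surjective hfs p Q₂
    by_contra hnb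
    obtain ⟨⟨yb, hyb⟩, hyb1⟩ := (Subgroup.ne_bot_iff_exists_ne_one).1 hnb
    have hyb1' : yb ≠ 1 := fun h => hyb1 (Subtype.ext h)
    obtain ⟨hy1, hy2⟩ := hyb
    rw [Sylow.coe_mapSurjective] at hy1 hy2
    obtain ⟨a, ha, hfa⟩ := hy1
    obtain ⟨b, hb, hfb⟩ := hy2
    have hb1 : b ≠ 1 := by
      rintro rfl
      rw [map_one] at hfb
      exact hyb1' hfb.symm
    set M := (P₁ : Subgroup G) ⊔ N with hM
    have hP₁M : (P₁ : Subgroup G) ≤ M := le_sup_left
    have hbM : b ∈ M := by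
      have h1 : a⁻¹ * b ∈ N := by
        rw [← hker, MonoidHom.mem_ker, map_mul, map_inv, hfa, hfb, inv_mul_cancel]
      have : b = a * (a⁻¹ * b) := by group
      rw [this]
      exact Subgroup.mul_mem_sup ha h1
    have hbp : IsPGroup p ↥(Subgroup.zpowers (⟨b, hbM⟩ : ↥M)) := by
      obtain ⟨k, hk⟩ := (IsPGroup.iff_orderOf.1 P₂.isPGroup') ⟨b, hb⟩
      apply IsPGroup.of_card (n := k)
      rw [Nat.card_zpowers, ← hk, Subgroup.orderOf_mk, Subgroup.orderOf_mk]
    obtain ⟨S, hS⟩ := hbp.exists_le_sylow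
    obtain ⟨m, hm⟩ := MulAction.exists_smul_eq ↥M (P₁.subtype hP₁M) S
    rw [Sylow.smul_subtype] at hm
    have hbS : (⟨b, hbM⟩ : ↥M) ∈ (S : Subgroup ↥M) := hS (Subgroup.mem_zpowers _)
    rw [← hm, Sylow.coe_subtype, Subgroup.mem_subgroupOf] at hbS
    have hbR : b ∈ ((m • P₁ : Sylow p G) : Subgroup G) := hbS
    have hReq : (m • P₁ : Sylow p G) = P₂ := by
      by_contra hRne
      have := hpair _ _ hRne
      have hmem : b ∈ ((m • P₁ : Sylow p G) : Subgroup G) ⊓ (P₂ : Subgroup G) := ⟨hbR, hb⟩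
      rw [this, Subgroup.mem_bot] at hmem
      exact hb1 hmem
    apply hne
    apply Sylow.ext
    rw [Sylow.coe_mapSurjective, Sylow.coe_mapSurjective, ← hReq]
    have h1 : ((m • P₁ : Sylow p G) : Subgroup G) = MulAut.conj (m : G) • (P₁ : Subgroup G) := rfl
    rw [h1, map_conj_smul]
    have hfm : f (m : G) ∈ (P₁ : Subgroup G).map f := by
      have h2 : f (m : G) ∈ M.map f := Subgroup.mem_map_of_mem f m.2
      have h3 : N.map f = ⊥ := (Subgroup.map_eq_bot_iff _).2 hker.ge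
      have h4 : M.map f = (P₁ : Subgroup G).map f := by
        rw [hM, Subgroup.map_sup, h3, sup_bot_eq]
      rw [h4] at h2
      exact h2
    symm
    exact conj_smul_eq_of_mem_normalizer (Subgroup.le_normalizer hfm)
  exact fun x hx => ti_of_ti_pairwise hpairQ Q x hx

end Cfsg.Agent.S3984
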