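import Cfsg.Statements.S3985
import Cfsg.Agent.Lib.Helper2.CyclicAut
import Cfsg.Agent.Lib.Helper3.Fitting
import Cfsg.Agent.Lib.Helper1.FrattiniHall

set_option autoImplicit false
open scoped Pointwise
open Cfsg

namespace Cfsg.Agent.S3985
open Cfsg.Agent.Lib.Helper2 Cfsg.Agent.Lib.Helper1 Cfsg.Agent.Lib.Helper3
open scoped Pointwise

/-- Let P be a cyclic Sylow p-subgroup of the finite group G. Then P meets each conjugate g P g⁻¹ with g outside N_G(P) trivially if and only if P is weakly self-centralizing: C_G(x) = C_G(P) for every non-identity x ∈ P. -/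
theorem result {G : Type*} [Group G] [Finite G] (p : ℕ) [Fact p.Prime] (P : Sylow p G) (hcyc : IsCyclic ↥(P : Subgroup G)) : (∀ g : G, g ∉ Subgroup.normalizer ((P : Subgroup G) : Set G) → (P : Subgroup G) ⊓ (MulAut.conj g • (P : Subgroup G)) = ⊥) ↔ ∀ x : G, x ∈ (P : Subgroup G) → x ≠ 1 → Subgroup.centralizer ({x} : Set G) = Subgroup.centralizer ((P : Subgroup G) : Set G) := by
  have hp : p.Prime := Fact.out
  obtain ⟨a₀, ha₀⟩ := hcyc.exists_generator
  set a : G := (a₀ : G) with ha
  have haP : a ∈ (P : Subgroup G) := a₀.2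
  have hPa : ∀ y ∈ (P : Subgroup G), y ∈ Subgroup.zpowers a := by
    intro y hy
    obtain ⟨i, hi⟩ := Subgroup.mem_zpowers_iff.1 (ha₀ ⟨y, hy⟩)
    rw [Subgroup.mem_zpowers_iff]
    refine ⟨i, ?_⟩
    have := congrArg Subtype.val hi
    simpa using this
  have hPz : (P : Subgroup G) = Subgroup.zpowers a :=
    le_antisymm hPa (Subgroup.zpowers_le.2 haP)
  have hPab : ∀ y ∈ (P : Subgroup G), ∀ z ∈ (P : Subgroup G), y * z = z * y := by
    intro y hy z hz
    obtain ⟨i, rfl⟩ := Subgroup.mem_zpowers_iff.1 (hPa y hy)
    obtain ⟨j, rfl⟩ := Subgroup.mem_zpowers_iff.1 (hPa z hz)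
    rw [← zpow_add, ← zpow_add, add_comm]
  have hPC : (P : Subgroup G) ≤ Subgroup.centralizer ((P : Subgroup G) : Set G) := by
    intro y hy
    rw [Subgroup.mem_centralizer_iff]
    intro z hz
    exact hPab z hz y hy
  obtain ⟨n, hn⟩ := IsPGroup.iff_card.1 P.isPGroup'
  have hoa : orderOf a = p ^ n := by
    rw [← hn, hPz, Nat.card_zpowers]
  constructor
  · intro hTI x hx hx1
    have key1 : ∀ g ∈ Subgroup.centralizer ({x} : Set G),
        g ∈ Subgroup.normalizer ((P : Subgroup G) : Set G) := by
      intro g hg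
      by_contra hgN
      have hbot := hTI g hgN
      rw [Subgroup.mem_centralizer_singleton_iff] at hg
      have hxm : x ∈ MulAut.conj g • (P : Subgroup G) := by
        rw [Subgroup.mem_pointwise_smul_iff_inv_smul_mem]
        have : (MulAut.conj g)⁻¹ • x = x := by
          rw [MulAut.smul_def, MulAut.conj_inv_apply, mul_assoc, ← hg]; group
        rw [this]; exact hx
      have : x ∈ (P : Subgroup G) ⊓ MulAut.conj g • (P : Subgroup G) := ⟨hx, hxm⟩
      rw [hbot, Subgroup.mem_bot] at this
      exact hx1 this
    have key2 : ∀ g ∈ Subgroup.centralizer ({x} : Set G),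
        g ^ (p ^ n) ∈ Subgroup.centralizer ((P : Subgroup G) : Set G) := by
      intro g hg
      have hgN := key1 g hg
      have h1 : g * a * g⁻¹ ∈ Subgroup.zpowers a := by
        rw [← hPz]
        exact (Subgroup.mem_normalizer_iff.1 hgN a).1 haP
      rw [Subgroup.mem_centralizer_singleton_iff] at hg
      have h2 := pow_prime_pow_commute_of_fix hp hoa h1 (hPa x hx) hx1 hg
      rw [Subgroup.mem_centralizer_iff]
      intro y hy
      obtain ⟨i, rfl⟩ := Subgroup.mem_zpowers_iff.1 (hPa y hy)
      exact ((Commute.zpow_left (show Commute a (g ^ p ^ n) from h2.symm) i)).eq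
    apply le_antisymm
    · intro g hg
      apply mem_of_pParts_mem
      intro q hq
      have hmem : pPart g q ∈ Subgroup.centralizer ({x} : Set G) := pPart_mem hg q
      have hord := orderOf_pPart g q
      by_cases hqp : q = p
      · subst hqp
        exact hPC (mem_sylow_of_mem_normalizer P (key1 _ hmem) hord)
      · apply mem_of_pow_mem_of_coprime _ _ (p ^ n) _ (key2 _ hmem)
        rw [hord]
        apply Nat.Coprime.pow
        exact (Nat.coprime_primes hp hq).2 (Ne.symm hqp)
    · exact Subgroup.centralizer_le (Set.singleton_subset_iff.2 hx)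
  · intro hW g hgN
    by_contra hne
    obtain ⟨⟨x, hx⟩, hx1⟩ := (Subgroup.ne_bot_iff_exists_ne_one).1 hne
    have hx1' : x ≠ 1 := fun h => hx1 (Subtype.ext h)
    obtain ⟨hxP, hxg⟩ := hx
    have hxg' : x ∈ MulAut.conj g • (P : Subgroup G) := hxg
    rw [Subgroup.mem_pointwise_smul_iff_inv_smul_mem, MulAut.smul_def,
      MulAut.conj_inv_apply] at hxg'
    have hy1 : g⁻¹ * x * g ≠ 1 := by
      intro h
      apply hx1'
      have : x = g * (g⁻¹ * x * g) * g⁻¹ := by group
      rw [this, h]; group
    have hC1 := hW x hxP hx1'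
    have hC2 := hW _ hxg' hy1
    set C := Subgroup.centralizer ((P : Subgroup G) : Set G) with hC
    -- g normalizes C
    have hgC : ∀ c ∈ C, g * c * g⁻¹ ∈ C := by
      intro c hc
      rw [← hC2] at hc
      rw [← hC1]
      rw [Subgroup.mem_centralizer_singleton_iff] at hc ⊢
      have : g * c * g⁻¹ * x = g * (c * (g⁻¹ * x * g)) * g⁻¹ := by group
      rw [this, hc]; group
    -- g P g⁻¹ ≤ C is a p-subgroup, P is normal in C
    apply hgN
    apply mem_normalizer_of_conj_smul_eq
    have hle : MulAut.conj g • (P : Subgroup G) ≤ C := by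
      intro y hy
      rw [Subgroup.mem_pointwise_smul_iff_inv_smul_mem, MulAut.smul_def,
        MulAut.conj_inv_apply] at hy
      have := hgC _ (hPC hy)
      have e : g * (g⁻¹ * y * g) * g⁻¹ = y := by group
      rwa [e] at this
    have hCN : C ≤ Subgroup.normalizer ((P : Subgroup G) : Set G) := by
      intro c hc
      rw [Subgroup.mem_normalizer_iff]
      intro y
      rw [Subgroup.mem_centralizer_iff] at hc
      constructor
      · intro hy
        have : c * y * c⁻¹ = y := by rw [← hc y hy]; group
        rw [this]; exact hy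
      · intro hy
        have h3 := hc _ hy
        have : y = c * y * c⁻¹ := by
          have : c * y * c⁻¹ * c = c * (c * y * c⁻¹) := h3
          have h4 : c * y = c * (c * y * c⁻¹) := by
            rw [← this]; group
          exact mul_left_cancel h4
        rw [this]; exact hy
    have hKp : IsPGroup p ↥(MulAut.conj g • (P : Subgroup G)) := by
      have := P.isPGroup'.map (MulAut.conj g).toMonoidHom
      exact this
    have hsup : IsPGroup p ↥((MulAut.conj g • (P : Subgroup G)) ⊔ (P : Subgroup G) : Subgroup G) :=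
      hKp.to_sup_of_normal_right' P.isPGroup' (hle.trans hCN)
    have hmax := P.is_maximal' hsup le_sup_right
    have hle2 : MulAut.conj g • (P : Subgroup G) ≤ (P : Subgroup G) := by
      have h5 : MulAut.conj g • (P : Subgroup G) ≤
          (MulAut.conj g • (P : Subgroup G)) ⊔ (P : Subgroup G) := le_sup_left
      rw [hmax] at h5
      exact h5
    apply Subgroup.eq_of_le_of_card_ge hle2
    have h6 : Nat.card ↥(MulAut.conj g • (P : Subgroup G)) = Nat.card (P : Subgroup G) := by
      rw [conj_smul_eq_map]
      exact Subgroup.card_map_of_injective (MulAut.conj g).injective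
    exact h6.ge

end Cfsg.Agent.S3985
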