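import Cfsg.Statements.S3987
import Cfsg.Agent.Lib.Helper2.DirectFactor

set_option autoImplicit false
open Cfsg

namespace Cfsg.Agent.S3987

open Cfsg.Agent.Lib.Helper2
open scoped commutatorElement

variable {G : Type*} [Group G]

/-- The conjugate `g z g⁻¹` as a function of the coset `g C(z)`. -/
noncomputable def conjOfCoset (z : G) (q : G ⧸ Subgroup.centralizer ({z} : Set G)) : G :=
  ((Subgroup.quotientCentralizerEmbedding z q : commutatorSet G) : G) * z

theorem conjOfCoset_mk (z g : G) :
    conjOfCoset z (QuotientGroup.mk g) = g * z * g⁻¹ := by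
  unfold conjOfCoset
  rw [Subgroup.quotientCentralizerEmbedding_apply]
  show ⁅g, z⁆ * z = g * z * g⁻¹
  rw [commutatorElement_def]; group

theorem conjOfCoset_injective (z : G) : Function.Injective (conjOfCoset z) := by
  intro q₁ q₂ h
  unfold conjOfCoset at h
  have h2 := mul_right_cancel h
  exact (Subgroup.quotientCentralizerEmbedding z).injective (Subtype.ext h2)

/-- If `|(xy)^G| = |x^G| |y^G|` then the product map on `x^G × y^G` is injective. -/
theorem prod_conj_injective [Finite G] (x y : G)
    (h : (Subgroup.centralizer ({x * y} : Set G)).index =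
      (Subgroup.centralizer ({x} : Set G)).index * (Subgroup.centralizer ({y} : Set G)).index) :
    Function.Injective (fun q : (G ⧸ Subgroup.centralizer ({x} : Set G)) ×
      (G ⧸ Subgroup.centralizer ({y} : Set G)) => conjOfCoset x q.1 * conjOfCoset y q.2) := by
  set Ψ := (fun q : (G ⧸ Subgroup.centralizer ({x} : Set G)) ×
      (G ⧸ Subgroup.centralizer ({y} : Set G)) => conjOfCoset x q.1 * conjOfCoset y q.2) with hΨ
  have hsub : Set.range (conjOfCoset (x * y)) ⊆ Set.range Ψ := by
    rintro _ ⟨q, rfl⟩
    induction q using QuotientGroup.induction_on with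
    | H g =>
      refine ⟨(QuotientGroup.mk g, QuotientGroup.mk g), ?_⟩
      simp only [hΨ]
      rw [conjOfCoset_mk, conjOfCoset_mk, conjOfCoset_mk]
      group
  have h1 : Nat.card (Set.range (conjOfCoset (x * y))) =
      (Subgroup.centralizer ({x * y} : Set G)).index := by
    rw [Nat.card_range_of_injective (conjOfCoset_injective _), Subgroup.index_eq_card]
  have h2 : Nat.card (Set.range (conjOfCoset (x * y))) ≤ Nat.card (Set.range Ψ) :=
    Nat.card_mono (Set.toFinite _) hsub
  have h3 : Nat.card ((G ⧸ Subgroup.centralizer ({x} : Set G)) ×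
      (G ⧸ Subgroup.centralizer ({y} : Set G))) =
      (Subgroup.centralizer ({x} : Set G)).index * (Subgroup.centralizer ({y} : Set G)).index := by
    rw [Nat.card_prod, Subgroup.index_eq_card, Subgroup.index_eq_card]
  have h4 : Nat.card (Set.range Ψ) ≤ Nat.card ((G ⧸ Subgroup.centralizer ({x} : Set G)) ×
      (G ⧸ Subgroup.centralizer ({y} : Set G))) :=
    Nat.card_le_card_of_surjective _ Set.rangeFactorization_surjective  
  have h5 : Nat.card ((G ⧸ Subgroup.centralizer ({x} : Set G)) ×
      (G ⧸ Subgroup.centralizer ({y} : Set G))) = Nat.card (Set.range Ψ) := by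
    apply le_antisymm _ h4
    rw [h3, ← h, ← h1]; exact h2
  obtain ⟨e⟩ := Finite.card_eq.1 h5
  have hinj : Function.Injective (Set.rangeFactorization Ψ) :=
    (Finite.injective_iff_surjective_of_equiv e).2 Set.rangeFactorization_surjective
  intro a b hab
  apply hinj
  exact Subtype.ext hab


/-- Let p be a prime and G a finite group. Then some Sylow p-subgroup of G is a direct factor of G (normal with a normal complement) if and only if for every element x of p-power order and every element y whose order is a power of a prime other than p, the conjugacy class of x y has as many elements as the product of the sizes of the classes of x and of y. -/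
theorem result {G : Type*} [Group G] [Finite G] (p : ℕ) [Fact p.Prime] : (∃ (P : Sylow p G) (K : Subgroup G), (P : Subgroup G).Normal ∧ K.Normal ∧ (P : Subgroup G) ⊓ K = ⊥ ∧ (P : Subgroup G) ⊔ K = ⊤) ↔ ∀ x y : G, (∃ a : ℕ, orderOf x = p ^ a) → (∃ q b : ℕ, q.Prime ∧ q ≠ p ∧ orderOf y = q ^ b) → (Subgroup.centralizer ({x * y} : Set G)).index = (Subgroup.centralizer ({x} : Set G)).index * (Subgroup.centralizer ({y} : Set G)).index := by
  have hp : p.Prime := Fact.out
  constructor
  · rintro ⟨P, K, hPn, hKn, hdisj, hsup⟩ x y hx hy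
    have hcomm := commute_of_sylow_direct_factor P K hPn hKn hdisj hsup
    have hxy : x * y = y * x := hcomm x y hx hy
    obtain ⟨a, ha⟩ := hx
    obtain ⟨q, b, hq, hqp, hyo⟩ := hy
    have hcop : (orderOf x).Coprime (orderOf y) := by
      rw [ha, hyo]
      apply Nat.Coprime.pow
      exact (Nat.coprime_primes hp hq).2 (Ne.symm hqp)
    -- C(xy) = C(x) ⊓ C(y)
    have hC : Subgroup.centralizer ({x * y} : Set G) =
        Subgroup.centralizer ({x} : Set G) ⊓ Subgroup.centralizer ({y} : Set G) := by
      apply le_antisymm
      · intro g hg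
        rw [Subgroup.mem_centralizer_singleton_iff] at hg
        have hgc : Commute g (x * y) := hg
        have hx' : Commute g x := by
          have h1 : (x * y) ^ orderOf y = x ^ orderOf y := by
            rw [(show Commute x y from hxy).mul_pow, pow_orderOf_eq_one, mul_one]
          obtain ⟨m, hm⟩ := exists_pow_eq_self_of_coprime hcop.symm
          rw [← hm, ← h1]
          exact (hgc.pow_right _).pow_right _
        have hy' : Commute g y := by
          have h1 : (x * y) ^ orderOf x = y ^ orderOf x := by
            rw [(show Commute x y from hxy).mul_pow, pow_orderOf_eq_one, one_mul]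
          obtain ⟨m, hm⟩ := exists_pow_eq_self_of_coprime hcop
          rw [← hm, ← h1]
          exact (hgc.pow_right _).pow_right _
        exact ⟨Subgroup.mem_centralizer_singleton_iff.2 hx'.eq,
          Subgroup.mem_centralizer_singleton_iff.2 hy'.eq⟩
      · rintro g ⟨h1, h2⟩
        have h1' : g ∈ Subgroup.centralizer ({x} : Set G) := h1
        have h2' : g ∈ Subgroup.centralizer ({y} : Set G) := h2
        rw [Subgroup.mem_centralizer_singleton_iff] at h1' h2' ⊢
        rw [← mul_assoc, h1', mul_assoc, h2', mul_assoc]
    rw [hC]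
    -- indices are coprime
    have hKx : K ≤ Subgroup.centralizer ({x} : Set G) := by
      intro k hk
      rw [Subgroup.mem_centralizer_singleton_iff]
      have hxP : x ∈ (P : Subgroup G) := by
        have hz : IsPGroup p ↥(Subgroup.zpowers x) :=
          IsPGroup.of_card (n := a) (by rw [Nat.card_zpowers, ha])
        obtain ⟨Q, hQ⟩ := hz.exists_le_sylow
        have : Q = P := by
          let _ := Sylow.unique_of_normal P hPn
          exact Subsingleton.elim Q P
        rw [← this]
        exact hQ (Subgroup.mem_zpowers x)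
      exact ((Subgroup.commute_of_normal_of_disjoint _ _ hPn hKn (disjoint_iff.2 hdisj) x k
        hxP hk).eq).symm
    have hPy : (P : Subgroup G) ≤ Subgroup.centralizer ({y} : Set G) := by
      intro u hu
      rw [Subgroup.mem_centralizer_singleton_iff]
      obtain ⟨c, hc⟩ := (IsPGroup.iff_orderOf.1 P.isPGroup') ⟨u, hu⟩
      rw [Subgroup.orderOf_mk] at hc
      exact hcomm u y ⟨c, hc⟩ ⟨q, b, hq, hqp, hyo⟩
    have hcard : Nat.card (P : Subgroup G) * Nat.card K = Nat.card G := by
      have h1 := card_sup_mul_card_inf (P : Subgroup G) K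
      rw [hdisj, hsup, Subgroup.card_bot, mul_one, Subgroup.card_top] at h1
      exact h1.symm
    obtain ⟨n, hn⟩ := IsPGroup.iff_card.1 P.isPGroup'
    have hKidx : K.index = p ^ n := by
      have h2 := K.card_mul_index
      rw [← hcard, mul_comm, hn] at h2
      exact Nat.eq_of_mul_eq_mul_right Nat.card_pos h2
    have hPidx : ¬ p ∣ (P : Subgroup G).index := P.not_dvd_index
    have hix : (Subgroup.centralizer ({x} : Set G)).index ∣ p ^ n :=
      hKidx ▸ Subgroup.index_dvd_of_le hKx
    have hiy : (Subgroup.centralizer ({y} : Set G)).index ∣ (P : Subgroup G).index :=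
      Subgroup.index_dvd_of_le hPy
    have hcopi : ((Subgroup.centralizer ({x} : Set G)).index).Coprime
        ((Subgroup.centralizer ({y} : Set G)).index) := by
      apply Nat.Coprime.coprime_dvd_left hix
      apply Nat.Coprime.coprime_dvd_right hiy
      exact Nat.Coprime.pow_left n ((Nat.Prime.coprime_iff_not_dvd hp).2 hPidx)
    apply le_antisymm Subgroup.index_inf_le
    apply Nat.le_of_dvd (Nat.pos_of_ne_zero Subgroup.index_ne_zero_of_finite)
    exact hcopi.mul_dvd_of_dvd_of_dvd (Subgroup.index_dvd_of_le inf_le_left)
      (Subgroup.index_dvd_of_le inf_le_right)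
  · intro h
    have hcomm : ∀ x y : G, (∃ a : ℕ, orderOf x = p ^ a) → y ∈ primePowerElts G p →
        x * y = y * x := by
      intro x y hx hy
      obtain ⟨q, b, hq, hqp, hyo⟩ := hy
      have hinj := prod_conj_injective x y⁻¹ (h x y⁻¹ hx ⟨q, b, hq, hqp, by rw [orderOf_inv, hyo]⟩)
      have heq : conjOfCoset x (QuotientGroup.mk y⁻¹) * conjOfCoset y⁻¹ (QuotientGroup.mk 1) =
          conjOfCoset x (QuotientGroup.mk 1) * conjOfCoset y⁻¹ (QuotientGroup.mk x⁻¹) := by
        rw [conjOfCoset_mk, conjOfCoset_mk, conjOfCoset_mk, conjOfCoset_mk]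
        group
      have := hinj (a₁ := (QuotientGroup.mk y⁻¹, QuotientGroup.mk 1))
        (a₂ := (QuotientGroup.mk 1, QuotientGroup.mk x⁻¹)) heq
      have h1 := congrArg Prod.fst this
      simp only at h1
      rw [QuotientGroup.eq] at h1
      have h2 : y⁻¹⁻¹ * 1 ∈ Subgroup.centralizer ({x} : Set G) := h1
      rw [inv_inv, mul_one, Subgroup.mem_centralizer_singleton_iff] at h2
      exact h2.symm
    let P : Sylow p G := default
    obtain ⟨h1, h2, h3, h4⟩ := sylow_direct_factor_of_commute (p := p) hcomm P
    exact ⟨P, _, h1, h2, h3, h4⟩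

end Cfsg.Agent.S3987
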