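import Cfsg.Statements.S3992
import Cfsg.Agent.Lib.Helper1.EPPO2
import Cfsg.Agent.S1475

set_option autoImplicit false
open Cfsg

namespace Cfsg.Agent.S3992

/-- Let G be a finite non-solvable group in which every element has prime-power order, and let R be its largest solvable normal subgroup. Then R is a p-group for some prime p; G/R has a non-abelian simple normal subgroup contained in every nontrivial normal subgroup of G/R (its unique minimal normal subgroup); and the order of every solvable subgroup of G has at most two prime divisors. -/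
theorem result {G : Type*} [Group G] [Finite G] (hns : ¬ Group.IsSolvable G) (hpp : ∀ g : G, g ≠ 1 → IsPrimePow (orderOf g))
    (R : Subgroup G) [R.Normal] (hRs : Group.IsSolvable ↥R) (hRmax : ∀ N : Subgroup G, N.Normal → Group.IsSolvable ↥N → N ≤ R) :
    (∃ p : ℕ, p.Prime ∧ IsPGroup p ↥R) ∧
      (∃ M : Subgroup (G ⧸ R), M.Normal ∧ IsSimpleGroup ↥M ∧ ¬ IsMulCommutative ↥M ∧
        ∀ N : Subgroup (G ⧸ R), N.Normal → N ≠ ⊥ → M ≤ N) ∧
      ∀ H : Subgroup G, Group.IsSolvable ↥H → (Nat.card ↥H).primeFactors.card ≤ 2 := by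
  have hE : Cfsg.Agent.Lib.Helper1.EPPO.IsEPPO G := hpp
  refine ⟨hE.radical_isPGroup hns R hRs, ?_, ?_⟩
  · have hEq : Cfsg.Agent.Lib.Helper1.EPPO.IsEPPO (G ⧸ R) := hE.quotient R
    have hnt : Nontrivial (G ⧸ R) := by
      by_contra hnt
      rw [not_nontrivial_iff_subsingleton] at hnt
      apply hns
      have : Group.IsSolvable (G ⧸ R) := inferInstance
      exact Group.isSolvable_of_ker_le_range R.subtype (QuotientGroup.mk' R)
        (by rw [QuotientGroup.ker_mk', Subgroup.range_subtype])
    have hrad : ∀ N : Subgroup (G ⧸ R), N.Normal → Group.IsSolvable N → N = ⊥ := by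
      intro N hNn hNs
      obtain ⟨N₁, hN₁⟩ : ∃ N₁, N₁ = N.comap (QuotientGroup.mk' R) := ⟨_, rfl⟩
      have hN₁n : N₁.Normal := by rw [hN₁]; exact hNn.comap _
      have hRN₁ : R ≤ N₁ := by
        rw [hN₁]
        intro r hr
        rw [Subgroup.mem_comap]
        have hr1 : (QuotientGroup.mk' R) r = 1 := (QuotientGroup.eq_one_iff r).mpr hr
        rw [hr1]; exact Subgroup.one_mem _
      have hN₁s : Group.IsSolvable N₁ := by
        subst hN₁
        exact Group.isSolvable_of_ker_le_range (Subgroup.inclusion hRN₁)
          ((QuotientGroup.mk' R).subgroupComap N) (by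
            intro x hx
            rw [MonoidHom.mem_ker] at hx
            have hx' : (QuotientGroup.mk' R) (x : G) = 1 := congrArg Subtype.val hx
            have hxR : (x : G) ∈ R := (QuotientGroup.eq_one_iff _).mp hx'
            exact ⟨⟨x, hxR⟩, Subtype.ext rfl⟩)
      have hle := hRmax N₁ hN₁n hN₁s
      rw [eq_bot_iff]
      intro y hy
      obtain ⟨g, rfl⟩ := QuotientGroup.mk_surjective y
      have hg : g ∈ N₁ := by rw [hN₁]; exact hy
      exact Subgroup.mem_bot.mpr ((QuotientGroup.eq_one_iff g).mpr (hle hg))
    exact hEq.unique_minimal_normal hrad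
  · intro H hHs
    have hEH := hE.subgroup H
    exact Cfsg.Agent.S1475.result (fun g => by
      by_cases hg : g = 1
      · exact Or.inr hg
      · exact Or.inl (hEH g hg))

end Cfsg.Agent.S3992
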