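import Cfsg.Statements.S3994
import Cfsg.Agent.Lib.Helper2.FrobeniusDiv

set_option autoImplicit false
open Cfsg

namespace Cfsg.Agent.S3994

open Cfsg.Agent.Lib.Helper2

/-- the `n'`-part of `g` is coprime to `n`. -/
theorem coprime_div_gcd_pow (g n : ℕ) (hg : 0 < g) :
    Nat.Coprime (g / Nat.gcd g (n ^ g)) n := by
  set a := Nat.gcd g (n ^ g) with ha
  have hag : a ∣ g := Nat.gcd_dvd_left _ _
  obtain ⟨b, hb⟩ := hag
  have ha0 : 0 < a := Nat.pos_of_ne_zero (by rintro h; rw [h, zero_mul] at hb; omega)
  have hdiv : g / a = b := by rw [hb]; exact Nat.mul_div_cancel_left b ha0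
  rw [hdiv]
  rw [Nat.coprime_iff_gcd_eq_one]
  by_contra hne
  obtain ⟨q, hq, hqd⟩ := Nat.exists_prime_and_dvd hne
  have hqb : q ∣ b := hqd.trans (Nat.gcd_dvd_left _ _)
  have hqn : q ∣ n := hqd.trans (Nat.gcd_dvd_right _ _)
  obtain ⟨k, t, hqt, hgk⟩ := Nat.exists_eq_pow_mul_and_not_dvd hg.ne' q hq.ne_one
  have hkg : k ≤ g := by
    have h1 : q ^ k ≤ g := Nat.le_of_dvd hg ⟨t, hgk⟩
    have h2 : k < q ^ k := Nat.lt_pow_self hq.one_lt
    omega
  have h3 : q ^ k ∣ n ^ g := (pow_dvd_pow q hkg).trans (pow_dvd_pow_of_dvd hqn g)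
  have h4 : q ^ k ∣ a := Nat.dvd_gcd ⟨t, hgk⟩ h3
  have h5 : q ^ k * q ∣ q ^ k * t := by
    rw [← hgk, hb]; exact Nat.mul_dvd_mul h4 hqb
  exact hqt (Nat.dvd_of_mul_dvd_mul_left (pow_pos hq.pos k) h5)

open Classical in
theorem main {G : Type*} [Group G] [Fintype G] (n a b : ℕ) (hab : a * b = Nat.card G)
    (hcop : Nat.Coprime a b) (hbn : Nat.Coprime b n) :
    b ∣ (Finset.univ.filter (fun x : G => n ∣ orderOf x)).card := by
  obtain ⟨c, hc1, hc0⟩ := Nat.chineseRemainder hcop 1 0
  have hbc : b ∣ c := (Nat.modEq_zero_iff_dvd).1 hc0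
  have hall : ∀ x : G, x ^ (a * b) = 1 := fun x => by rw [hab]; exact pow_card_eq_one'
  set Y := Finset.univ.filter (fun x : G => n ∣ orderOf x) with hY
  set T := Finset.univ.filter (fun y : G => y ^ a = 1 ∧ n ∣ orderOf y) with hT
  let f : G → ℕ := fun y => (Finset.univ.filter (fun z : G => Commute y z ∧ z ^ b = 1)).card
  -- order of a product
  have hordmul : ∀ y z : G, Commute y z → y ^ a = 1 → z ^ b = 1 →
      orderOf (y * z) = orderOf y * orderOf z := by
    intro y z hyz hy hz
    apply hyz.orderOf_mul_eq_mul_orderOf_of_coprime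
    exact Nat.Coprime.coprime_dvd_left (orderOf_dvd_of_pow_eq_one hy)
      (Nat.Coprime.coprime_dvd_right (orderOf_dvd_of_pow_eq_one hz) hcop)
  have hmaps : ∀ x ∈ Y, x ^ c ∈ T := by
    intro x hx
    simp only [hY, hT, Finset.mem_filter, Finset.mem_univ, true_and] at hx ⊢
    obtain ⟨h1, h2, h3⟩ := frob_decomp hc1 hbc x (hall x)
    refine ⟨h1, ?_⟩
    have hxeq : x = x ^ c * ((x ^ c)⁻¹ * x) := by group
    rw [hxeq, hordmul _ _ h2 h1 h3] at hx
    have hco : Nat.Coprime n (orderOf ((x ^ c)⁻¹ * x)) :=
      (Nat.Coprime.coprime_dvd_left (orderOf_dvd_of_pow_eq_one h3) hbn).symm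
    exact hco.dvd_of_dvd_mul_right hx
  rw [Finset.card_eq_sum_card_fiberwise hmaps]
  have hfib : ∀ y ∈ T, (Y.filter (fun x => x ^ c = y)).card = f y := by
    intro y hy
    simp only [hT, Finset.mem_filter, Finset.mem_univ, true_and] at hy
    apply Finset.card_nbij' (fun x => y⁻¹ * x) (fun z => y * z)
    · intro x hx
      simp only [hY, Finset.coe_filter, Finset.mem_filter, Finset.mem_univ, true_and,
        Set.mem_ofPred_eq] at hx ⊢
      obtain ⟨h1, h2, h3⟩ := frob_decomp hc1 hbc x (hall x)
      rw [hx.2] at h2 h3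
      exact ⟨h2, h3⟩
    · intro z hz
      simp only [hY, Finset.coe_filter, Finset.mem_filter, Finset.mem_univ, true_and,
        Set.mem_ofPred_eq] at hz ⊢
      obtain ⟨hz1, hz2⟩ := hz
      refine ⟨?_, ?_⟩
      · rw [hordmul y z hz1 hy.1 hz2]
        exact hy.2.trans (Dvd.intro _ rfl)
      · rw [hz1.mul_pow]
        have h7 : y ^ c = y ^ 1 := by
          rw [pow_eq_pow_iff_modEq]
          exact hc1.of_dvd (orderOf_dvd_of_pow_eq_one hy.1)
        obtain ⟨k, rfl⟩ := hbc
        rw [h7, pow_one, pow_mul, hz2, one_pow, mul_one]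
    · intro x _
      group
    · intro z _
      group
  rw [Finset.sum_congr rfl hfib]
  apply dvd_sum_of_invariant (G := ConjAct G) T
  · intro g y hy
    simp only [hT, Finset.mem_filter, Finset.mem_univ, true_and] at hy ⊢
    refine ⟨?_, ?_⟩
    · rw [← smul_pow', hy.1, smul_one]
    · rw [ConjAct.smul_def]
      have := (MulAut.conj (ConjAct.ofConjAct g)).orderOf_eq y
      rw [MulAut.conj_apply] at this
      rw [this]; exact hy.2
  · intro g y
    show (Finset.univ.filter (fun z : G => Commute (g • y) z ∧ z ^ b = 1)).card =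
      (Finset.univ.filter (fun z : G => Commute y z ∧ z ^ b = 1)).card
    apply Finset.card_nbij' (fun z => g⁻¹ • z) (fun z => g • z)
    · intro z hz
      simp only [Finset.coe_filter, Finset.mem_univ, true_and,
        Set.mem_ofPred_eq] at hz ⊢
      obtain ⟨hz1, hz2⟩ := hz
      refine ⟨?_, ?_⟩
      · have := hz1.eq
        rw [commute_iff_eq]
        have h8 : g⁻¹ • (g • y * z) = g⁻¹ • (z * g • y) := by rw [this]
        simpa [smul_mul'] using h8
      · rw [← smul_pow', hz2, smul_one]
    · intro z hz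
      simp only [Finset.coe_filter, Finset.mem_univ, true_and,
        Set.mem_ofPred_eq] at hz ⊢
      obtain ⟨hz1, hz2⟩ := hz
      refine ⟨?_, ?_⟩
      · rw [commute_iff_eq, ← smul_mul', hz1.eq, smul_mul']
      · rw [← smul_pow', hz2, smul_one]
    · intro z _
      simp
    · intro z _
      simp
  · intro y hy
    set C := Subgroup.centralizer ({y} : Set G) with hC
    have hkC : Nat.card (MulAction.orbit (ConjAct G) y) * Nat.card C = Nat.card G := by
      rw [hC, Subgroup.nat_card_centralizer_nat_card_stabilizer]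
      exact card_orbit_mul_card_stabilizer y
    have hfy : f y = Nat.card {z : C // z ^ b = 1} := by
      show (Finset.univ.filter (fun z : G => Commute y z ∧ z ^ b = 1)).card = _
      rw [Nat.card_eq_fintype_card, Fintype.card_subtype]
      symm
      apply Finset.card_bij (fun (z : C) _ => (z : G))
      · intro z hz
        simp only [Finset.mem_filter, Finset.mem_univ, true_and] at hz ⊢
        refine ⟨?_, ?_⟩
        · have := Subgroup.mem_centralizer_singleton_iff.1 z.2
          exact this.symm
        · have := congrArg Subtype.val hz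
          simpa using this
      · intro a _ b _ h
        exact Subtype.ext h
      · intro z hz
        simp only [Finset.mem_filter, Finset.mem_univ, true_and] at hz
        refine ⟨⟨z, Subgroup.mem_centralizer_singleton_iff.2 hz.1.eq.symm⟩, ?_, rfl⟩
        simp only [Finset.mem_filter, Finset.mem_univ, true_and]
        apply Subtype.ext
        simpa using hz.2
    have h4 := frobenius_gcd C b
    show b ∣ Nat.card (MulAction.orbit (ConjAct G) y) * f y
    rw [hfy]
    set k := Nat.card (MulAction.orbit (ConjAct G) y) with hk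
    have h5 : b ∣ k * Nat.card C := by rw [hkC, ← hab]; exact Dvd.intro_left _ rfl
    have h7 : b ∣ k * Nat.gcd b (Nat.card C) := by
      rw [← Nat.gcd_mul_left]
      exact Nat.dvd_gcd (Dvd.intro_left _ rfl) h5
    exact h7.trans (Nat.mul_dvd_mul_left k h4)

/-- Let G be a finite group and n a positive integer. The number of elements of G whose order is divisible by n is either 0 or divisible by the largest divisor of the order of G that is coprime to n. -/
theorem result {G : Type*} [Group G] [Finite G] (n : ℕ) (hn : 0 < n) :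
    Nat.card {g : G // n ∣ orderOf g} = 0 ∨
      (Nat.card G / Nat.gcd (Nat.card G) (n ^ Nat.card G)) ∣ Nat.card {g : G // n ∣ orderOf g} := by
  right
  classical
  haveI : Fintype G := Fintype.ofFinite G
  set g := Nat.card G with hg
  have hg0 : 0 < g := Nat.card_pos
  set a := Nat.gcd g (n ^ g) with ha
  obtain ⟨b, hb⟩ : a ∣ g := Nat.gcd_dvd_left _ _
  have ha0 : 0 < a := Nat.pos_of_ne_zero (by rintro h; rw [h, zero_mul] at hb; omega)
  have hdiv : g / a = b := by rw [hb]; exact Nat.mul_div_cancel_left b ha0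
  have hbn : Nat.Coprime b n := by
    have := coprime_div_gcd_pow g n hg0
    rwa [← ha, hdiv] at this
  have hcop : Nat.Coprime a b := by
    have h1 : Nat.Coprime b (n ^ g) := hbn.pow_right g
    exact (Nat.Coprime.coprime_dvd_right (Nat.gcd_dvd_right g (n ^ g)) h1).symm
  rw [hdiv, Nat.card_eq_fintype_card, Fintype.card_subtype]
  exact main n a b hb.symm hcop hbn

end Cfsg.Agent.S3994
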