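import Cfsg.Statements.S3996
import Cfsg.Agent.Lib.Helper2.SOT3D
import Cfsg.Agent.Lib.Helper4.SOT3F
import Cfsg.Agent.Lib.Helper4.SOT3G
import Cfsg.Agent.Lib.Helper6.SOT3A
import Cfsg.Agent.Lib.Helper6.SOT3H

set_option autoImplicit false
set_option linter.style.haveILetI false
open Cfsg

namespace Cfsg.Agent.S3996

open Cfsg.Agent.Lib.Helper2.SOT3 Cfsg.Agent.Lib.Helper4.SOT3 Cfsg.Agent.Lib.Helper6.SOT3

/-- the values of the counting function lie in `{0, 1, m, n}`. -/
theorem exists_values {G : Type*} [Group G] [Finite G]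
    (h : (((fun m : ℕ => Nat.card {g : G // orderOf g = m}) '' Set.range (orderOf : G → ℕ))).ncard = 3) :
    ∃ m n : ℕ, ∀ d : ℕ, Nat.card {g : G // orderOf g = d} = 0 ∨ Nat.card {g : G // orderOf g = d} = 1 ∨
      Nat.card {g : G // orderOf g = d} = m ∨ Nat.card {g : G // orderOf g = d} = n := by
  obtain ⟨x, y, z, hxy, hxz, hyz, hV⟩ := Set.ncard_eq_three.mp h
  have h1 : (1 : ℕ) ∈ ((fun m : ℕ => Nat.card {g : G // orderOf g = m}) '' Set.range (orderOf : G → ℕ)) := by
    refine ⟨1, ⟨1, orderOf_one⟩, ?_⟩
    exact Cfsg.Agent.S3995.cnt_one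
  have hmem : ∀ d : ℕ, Nat.card {g : G // orderOf g = d} = 0 ∨
      Nat.card {g : G // orderOf g = d} ∈ ({x, y, z} : Set ℕ) := by
    intro d
    by_cases hd : d ∈ Set.range (orderOf : G → ℕ)
    · right
      rw [← hV]
      exact ⟨d, hd, rfl⟩
    · left
      by_contra h0
      exact hd ((Cfsg.Agent.S3995.cnt_pos_iff d).mp (Nat.pos_of_ne_zero h0))
  rw [hV] at h1
  simp only [Set.mem_insert_iff, Set.mem_singleton_iff] at h1 hmem
  rcases h1 with rfl | rfl | rfl
  · refine ⟨y, z, fun d => ?_⟩
    rcases hmem d with h0 | h0 | h0 | h0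
    · exact Or.inl h0
    · exact Or.inr (Or.inl h0)
    · exact Or.inr (Or.inr (Or.inl h0))
    · exact Or.inr (Or.inr (Or.inr h0))
  · refine ⟨x, z, fun d => ?_⟩
    rcases hmem d with h0 | h0 | h0 | h0
    · exact Or.inl h0
    · exact Or.inr (Or.inr (Or.inl h0))
    · exact Or.inr (Or.inl h0)
    · exact Or.inr (Or.inr (Or.inr h0))
  · refine ⟨x, y, fun d => ?_⟩
    rcases hmem d with h0 | h0 | h0 | h0
    · exact Or.inl h0
    · exact Or.inr (Or.inr (Or.inl h0))
    · exact Or.inr (Or.inr (Or.inr h0))
    · exact Or.inr (Or.inl h0)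

/-- among three distinct primes two are odd. -/
theorem two_odd_of_three {P : Prop} (p q r : ℕ) (hpq : p ≠ q) (hpr : p ≠ r) (hqr : q ≠ r)
    (h : ∀ a b : ℕ, (a = p ∨ a = q ∨ a = r) → (b = p ∨ b = q ∨ b = r) → a ≠ 2 → b ≠ 2 → a ≠ b → P) : P := by
  by_cases hp : p = 2
  · exact h q r (Or.inr (Or.inl rfl)) (Or.inr (Or.inr rfl)) (fun hq => hpq (hp.trans hq.symm))
      (fun hr => hpr (hp.trans hr.symm)) hqr
  · by_cases hq : q = 2
    · exact h p r (Or.inl rfl) (Or.inr (Or.inr rfl)) hp (fun hr => hqr (hq.trans hr.symm)) hpr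
    · exact h p q (Or.inl rfl) (Or.inr (Or.inl rfl)) hp hq hpq

/-- A finite group in which the numbers of elements of each order that occurs (the numbers #{g : o(g) = m}, m ranging over the element orders) take exactly three different values is solvable. -/
theorem result {G : Type*} [Group G] [Finite G] (h : (((fun m : ℕ => Nat.card {g : G // orderOf g = m}) '' Set.range (orderOf : G → ℕ))).ncard = 3) : Group.IsSolvable G := by
  obtain ⟨m, n, hval⟩ := exists_values h
  have hC := cnt_of_group G
  by_cases hodd : Odd (Nat.card G)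
  · exact solvable_of_primes (fun p q r hp hq hr hpq hpr hqr hpN hqN hrN =>
      odd_no_three m n hC hodd hval p q r hp hq hr hpq hpr hqr hpN hqN hrN)
  · have h2 : 2 ∣ Nat.card G := by
      rcases Nat.even_or_odd (Nat.card G) with he | ho
      · exact he.two_dvd
      · exact absurd ho hodd
    by_cases hc2 : Nat.card {g : G // orderOf g = 2} = 1
    · by_cases h4 : 4 ∣ Nat.card G
      · apply solvable_of_primes
        intro p q r hp hq hr hpq hpr hqr hpN hqN hrN
        apply two_odd_of_three p q r hpq hpr hqr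
        intro a b ha hb ha2 hb2 hab
        have hpa : a.Prime ∧ a ∣ Nat.card G := by
          rcases ha with rfl | rfl | rfl
          · exact ⟨hp, hpN⟩
          · exact ⟨hq, hqN⟩
          · exact ⟨hr, hrN⟩
        have hpb : b.Prime ∧ b ∣ Nat.card G := by
          rcases hb with rfl | rfl | rfl
          · exact ⟨hp, hpN⟩
          · exact ⟨hq, hqN⟩
          · exact ⟨hr, hrN⟩
        exact four_unique_no_two m n hC h4 hc2 (fun d hd => double_of_unique_involution hc2 d hd)
          hval a b hpa.1 hpb.1 ha2 hb2 hab hpa.2 hpb.2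
      · obtain ⟨K, hKn, hKi, hKodd, hKmem⟩ := exists_index_two h2 h4
        have hvalK : ∀ d : ℕ, Nat.card {g : K // orderOf g = d} = 0 ∨
            Nat.card {g : K // orderOf g = d} = 1 ∨ Nat.card {g : K // orderOf g = d} = m ∨
            Nat.card {g : K // orderOf g = d} = n := by
          intro d
          by_cases hd : Odd d
          · have e : {g : K // orderOf g = d} ≃ {g : G // orderOf g = d} :=
              { toFun := fun g => ⟨(g.1 : G), by rw [Subgroup.orderOf_coe]; exact g.2⟩
                invFun := fun g => ⟨⟨g.1, hKmem g.1 (by rw [g.2]; exact hd)⟩, by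
                  rw [← Subgroup.orderOf_coe]; exact g.2⟩
                left_inv := fun g => by ext; rfl
                right_inv := fun g => by ext; rfl }
            rw [Nat.card_congr e]
            exact hval d
          · left
            rw [Nat.card_eq_zero]
            left
            constructor
            rintro ⟨g, hg⟩
            apply hd
            rw [← hg]
            exact Odd.of_dvd_nat hKodd (orderOf_dvd_natCard g)
        haveI : Group.IsSolvable K := solvable_of_primes (fun p q r hp hq hr hpq hpr hqr hpN hqN hrN =>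
          odd_no_three m n (cnt_of_group K) hKodd hvalK p q r hp hq hr hpq hpr hqr hpN hqN hrN)
        haveI := hKn
        have hcardQ : Nat.card (G ⧸ K) = 2 := by
          rw [← Subgroup.index_eq_card]; exact hKi
        haveI : Fact (Nat.Prime 2) := ⟨Nat.prime_two⟩
        haveI : IsCyclic (G ⧸ K) := isCyclic_of_prime_card hcardQ
        haveI : Group.IsSolvable (G ⧸ K) := by
          letI : CommGroup (G ⧸ K) := IsCyclic.commGroup
          exact isSolvable_of_comm (fun a b => mul_comm a b)
        apply solvable_of_ker_le_range K.subtype (QuotientGroup.mk' K)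
        rw [QuotientGroup.ker_mk', Subgroup.range_subtype]
    · apply solvable_of_primes
      intro p q r hp hq hr hpq hpr hqr hpN hqN hrN
      apply two_odd_of_three p q r hpq hpr hqr
      intro a b ha hb ha2 hb2 hab
      have hpa : a.Prime ∧ a ∣ Nat.card G := by
        rcases ha with rfl | rfl | rfl
        · exact ⟨hp, hpN⟩
        · exact ⟨hq, hqN⟩
        · exact ⟨hr, hrN⟩
      have hpb : b.Prime ∧ b ∣ Nat.card G := by
        rcases hb with rfl | rfl | rfl
        · exact ⟨hp, hpN⟩
        · exact ⟨hq, hqN⟩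
        · exact ⟨hr, hrN⟩
      exact even_many_no_two m n hC h2 hc2 hval a b hpa.1 hpb.1 ha2 hb2 hab hpa.2 hpb.2

end Cfsg.Agent.S3996
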