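import Cfsg.Statements.S3997
import Mathlib

set_option autoImplicit false
open Cfsg

namespace Cfsg.Agent.S3997

/-- Two finite groups with the same order type admit an order-preserving bijection. -/
theorem exists_equiv_orderOf {G H : Type*} [Group G] [Finite G] [Group H] [Finite H]
    (hT : ∀ m : ℕ, Nat.card {g : G // orderOf g = m} = Nat.card {h : H // orderOf h = m}) :
    ∃ e : G ≃ H, ∀ g : G, orderOf (e g) = orderOf g := by
  have he : ∀ m : ℕ, Nonempty ({g : G // orderOf g = m} ≃ {h : H // orderOf h = m}) :=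
    fun m => Finite.card_eq.1 (hT m)
  choose em _ using fun m => (⟨(he m).some, trivial⟩ :
    ∃ _ : ({g : G // orderOf g = m} ≃ {h : H // orderOf h = m}), True)
  let e : G ≃ H := ((Equiv.sigmaFiberEquiv (orderOf : G → ℕ)).symm.trans
    (Equiv.sigmaCongrRight em)).trans (Equiv.sigmaFiberEquiv (orderOf : H → ℕ))
  refine ⟨e, fun g => ?_⟩
  exact (em (orderOf g) ⟨g, rfl⟩).2

/-- In a finite group with a normal Sylow `p`-subgroup `P`, the elements of `p`-power order are
exactly those of `P`. -/
theorem mem_sylow_iff_of_normal {G : Type*} [Group G] [Finite G] {p : ℕ} [Fact p.Prime]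
    (P : Sylow p G) (hP : (P : Subgroup G).Normal) (g : G) :
    g ∈ (P : Subgroup G) ↔ ∃ k : ℕ, orderOf g = p ^ k := by
  constructor
  · intro hg
    obtain ⟨k, hk⟩ := (IsPGroup.iff_orderOf.1 P.isPGroup') ⟨g, hg⟩
    exact ⟨k, by rw [← hk, Subgroup.orderOf_mk]⟩
  · rintro ⟨k, hk⟩
    have hz : IsPGroup p ↥(Subgroup.zpowers g) :=
      IsPGroup.of_card (n := k) (by rw [Nat.card_zpowers, hk])
    obtain ⟨Q, hQ⟩ := hz.exists_le_sylow
    have : Q = P := by
      let _ := Sylow.unique_of_normal P hP
      exact Subsingleton.elim Q P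
    rw [← this]
    exact hQ (Subgroup.mem_zpowers g)


/-- Let G and H be finite groups with the same order type: for every m they have the same number of elements of order m. If G is nilpotent then so is H. -/
theorem result {G H : Type*} [Group G] [Finite G] [Group H] [Finite H] (hT : (∀ m : ℕ, Nat.card {g : G // orderOf g = m} = Nat.card {h : H // orderOf h = m})) (hG : Group.IsNilpotent G) :
    Group.IsNilpotent H := by
  obtain ⟨e, he⟩ := exists_equiv_orderOf hT
  have hcard : Nat.card G = Nat.card H := Nat.card_congr e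
  apply (Group.isNilpotent_of_finite_tfae.out 0 3 rfl rfl).2
  intro p hp P
  have := hp
  -- the normal Sylow p-subgroup of G
  let PG : Sylow p G := default
  have hPGn : (PG : Subgroup G).Normal := inferInstance
  -- cardinalities
  have hcP : Nat.card (P : Subgroup H) = Nat.card (PG : Subgroup G) := by
    rw [Sylow.card_eq_multiplicity, Sylow.card_eq_multiplicity, hcard]
  -- T_H has the cardinality of PG
  have hTH : Nat.card {h : H // ∃ k : ℕ, orderOf h = p ^ k} = Nat.card (PG : Subgroup G) := by
    symm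
    apply Nat.card_congr
    refine Equiv.subtypeEquiv e (fun g => ?_)
    rw [he g]
    exact mem_sylow_iff_of_normal PG hPGn g
  have hsub : ((P : Subgroup H) : Set H) ⊆ {h : H | ∃ k : ℕ, orderOf h = p ^ k} := by
    intro h hh
    obtain ⟨k, hk⟩ := (IsPGroup.iff_orderOf.1 P.isPGroup') ⟨h, hh⟩
    exact ⟨k, by rw [← hk, Subgroup.orderOf_mk]⟩
  have heq : ((P : Subgroup H) : Set H) = {h : H | ∃ k : ℕ, orderOf h = p ^ k} := by
    apply Set.eq_of_subset_of_ncard_le hsub _ (Set.toFinite _)
    rw [← Nat.card_coe_set_eq, ← Nat.card_coe_set_eq]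
    exact (hTH.trans hcP.symm).le
  constructor
  intro n hn g
  have h1 : n ∈ ((P : Subgroup H) : Set H) := hn
  rw [heq] at h1
  obtain ⟨k, hk⟩ := h1
  have h2 : g * n * g⁻¹ ∈ ((P : Subgroup H) : Set H) := by
    rw [heq]
    refine ⟨k, ?_⟩
    rw [← hk]
    exact MulEquiv.orderOf_eq (MulAut.conj g) n
  exact h2

end Cfsg.Agent.S3997
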