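import Cfsg.Statements.S4004
import Cfsg.Agent.S3996
import Cfsg.Agent.Lib.Helper2.SOT4A
import Cfsg.Agent.Lib.Helper2.SOT4G3
import Cfsg.Agent.Lib.Helper2.SOT4G6
import Cfsg.Agent.Lib.Helper6.SOT4G1
import Cfsg.Agent.Lib.Helper5.SOT4x

set_option autoImplicit false
set_option linter.style.haveILetI false
open Cfsg

namespace Cfsg.Agent.S4004

open Cfsg.Agent.Lib.Helper2.SOT3 Cfsg.Agent.Lib.Helper4.SOT3 Cfsg.Agent.Lib.Helper6.SOT3 Cfsg.Agent.Lib.Helper2.SOT4
open Cfsg.Agent.Lib.Helper6.SOT4 (mixed_count_ge dvd_count_sq_of_no_mixed)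
open Cfsg.Agent.Lib.Helper5.SOT4 (exists_normal_abelian_pgroup)

/-- Let G be a finite group of odd order in which the numbers of elements of each order that occurs (the numbers #{g : o(g) = m}, m ranging over the element orders of G) take exactly three different values. Then the order of G has at most two prime divisors; and if it has exactly two, then every Sylow subgroup of G for a prime dividing its order has prime exponent, G is a Frobenius group, and some Frobenius complement of G has prime order. -/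
theorem result {G : Type*} [Group G] [Finite G] (hodd : Odd (Nat.card G)) (h : (((fun m : ℕ => Nat.card {g : G // orderOf g = m}) '' Set.range (orderOf : G → ℕ))).ncard = 3) :
    (Nat.card G).primeFactors.card ≤ 2 ∧
      ((Nat.card G).primeFactors.card = 2 →
        (∀ (p : ℕ) [Fact p.Prime] (P : Sylow p G), p ∣ Nat.card G → Monoid.exponent ↥(P : Subgroup G) = p) ∧
        ∃ C : Subgroup G, Cfsg.IsFrobeniusComplement C ∧ (Nat.card ↥C).Prime) := by
  classical
  obtain ⟨m, n, hval⟩ := Cfsg.Agent.S3996.exists_values h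
  have hC := cnt_of_group G
  have hpart1 : (Nat.card G).primeFactors.card ≤ 2 := by
    by_contra hgt
    have h3 : 2 < (Nat.card G).primeFactors.card := by omega
    obtain ⟨p, hp, q, hq, r, hr, hpq, hpr, hqr⟩ := Finset.two_lt_card.mp h3
    exact odd_no_three m n hC hodd hval p q r (Nat.prime_of_mem_primeFactors hp)
      (Nat.prime_of_mem_primeFactors hq) (Nat.prime_of_mem_primeFactors hr) hpq hpr hqr
      (Nat.dvd_of_mem_primeFactors hp) (Nat.dvd_of_mem_primeFactors hq)
      (Nat.dvd_of_mem_primeFactors hr)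
  refine ⟨hpart1, fun h2 => ?_⟩
  obtain ⟨p, q, hpq, hpf⟩ := Finset.card_eq_two.mp h2
  have hpm : p ∈ (Nat.card G).primeFactors := by rw [hpf]; simp
  have hqm : q ∈ (Nat.card G).primeFactors := by rw [hpf]; simp
  have hp := Nat.prime_of_mem_primeFactors hpm
  have hq := Nat.prime_of_mem_primeFactors hqm
  have hpG := Nat.dvd_of_mem_primeFactors hpm
  have hqG := Nat.dvd_of_mem_primeFactors hqm
  have hG0 : Nat.card G ≠ 0 := Nat.card_pos.ne'
  have hdiv : ∀ r : ℕ, r.Prime → r ∣ Nat.card G → r = p ∨ r = q := by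
    intro r hr hrG
    have : r ∈ (Nat.card G).primeFactors := Nat.mem_primeFactors.mpr ⟨hr, hrG, hG0⟩
    rw [hpf] at this
    simpa using this
  have hdiv' : ∀ r : ℕ, r.Prime → r ∣ Nat.card G → r = q ∨ r = p := fun r hr hrG =>
    (hdiv r hr hrG).symm
  -- no mixed elements
  have h0 : Nat.card {g : G // orderOf g = p * q} = 0 := by
    apply no_mixed_arith m n hC hodd hval p q hp hq hpq hpG hqG
    · exact mixed_count_ge p q hp hq hpq hpG
    · intro hh
      have := mixed_count_ge (G := G) q p hq hp (Ne.symm hpq) hqG hh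
      rwa [mul_comm q p] at this
  have h0' : Nat.card {g : G // orderOf g = q * p} = 0 := by rw [mul_comm]; exact h0
  have hp2 : Nat.card {g : G // orderOf g = p ^ 2} = 0 :=
    sq_zero_arith m n hC hodd hval p q hp hq hpq hpG hqG
      (dvd_count_sq_of_no_mixed p q hp hq hpq hqG h0)
  have hq2 : Nat.card {g : G // orderOf g = q ^ 2} = 0 :=
    sq_zero_arith m n hC hodd hval q p hq hp (Ne.symm hpq) hqG hpG
      (dvd_count_sq_of_no_mixed q p hq hp (Ne.symm hpq) hpG h0')
  have hepo := epo_of_counts p q hp hq hpq hdiv h0 hp2 hq2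
  have hepo' : ∀ g : G, g ≠ 1 → orderOf g = q ∨ orderOf g = p := fun g hg => (hepo g hg).symm
  refine ⟨fun r _ P hr => exponent_sylow_of_epo p q hp hq hepo r P hr, ?_⟩
  -- solvable
  have hsol : Group.IsSolvable G := by
    apply solvable_of_primes
    intro a b c ha hb hc hab hac hbc haG hbG hcG
    rcases hdiv a ha haG with rfl | rfl <;> rcases hdiv b hb hbG with rfl | rfl <;>
      rcases hdiv c hc hcG with rfl | rfl <;> first | exact hab rfl | exact hac rfl | exact hbc rfl
  haveI : Nontrivial G := by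
    rw [← Finite.one_lt_card_iff_nontrivial]
    exact lt_of_lt_of_le hp.one_lt (Nat.le_of_dvd Nat.card_pos hpG)
  obtain ⟨r, V, hr, hVn, hVab, hVr, hV1⟩ := exists_normal_abelian_pgroup hsol
  haveI := hVn
  have hrG : r ∣ Nat.card G := by
    haveI : Fact r.Prime := ⟨hr⟩
    have hVnt : Nontrivial V := (Subgroup.nontrivial_iff_ne_bot V).mpr hV1
    obtain ⟨k, hk⟩ := hVr.exists_card_eq
    have hk0 : k ≠ 0 := by
      rintro rfl
      rw [pow_zero] at hk
      have := Finite.one_lt_card_iff_nontrivial.mpr hVnt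
      omega
    have h1 : r ∣ Nat.card V := by rw [hk]; exact dvd_pow_self r hk0
    exact h1.trans (Subgroup.card_subgroup_dvd_card V)
  rcases hdiv r hr hrG with rfl | rfl
  · obtain ⟨C, hC1, hC2⟩ := frobenius_complement_of_epo r q hp hq hpq hqG hepo V hVab hVr hV1
    exact ⟨C, hC1, by rw [hC2]; exact hq⟩
  · obtain ⟨C, hC1, hC2⟩ := frobenius_complement_of_epo r p hq hp (Ne.symm hpq) hpG hepo' V hVab hVr hV1
    exact ⟨C, hC1, by rw [hC2]; exact hp⟩

end Cfsg.Agent.S4004
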