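import Cfsg.Statements.S4203
import Mathlib
import Cfsg.Agent.S0144

set_option autoImplicit false
open Cfsg

universe u

namespace Cfsg.Agent.S4203


/-- A subgroup containing the normalizer of a Sylow `q`-subgroup has index `≡ 1 (mod q)`. -/
theorem index_modEq_one_of_normalizer_le {G : Type*} [Group G] [Finite G] {q : ℕ} [Fact q.Prime]
    (Q : Sylow q G) (M : Subgroup G) (hNM : Subgroup.normalizer ((Q : Subgroup G) : Set G) ≤ M) :
    M.index ≡ 1 [MOD q] := by
  set N := Subgroup.normalizer ((Q : Subgroup G) : Set G) with hN
  have h1 : N.index ≡ 1 [MOD q] := by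
    have e : Nat.card (Sylow q G) = N.index := Sylow.card_eq_index_normalizer Q
    rw [← e]
    exact card_sylow_modEq_one q G
  have hQM : (Q : Subgroup G) ≤ M := le_trans Subgroup.le_normalizer hNM
  have h2 : N.relIndex M ≡ 1 [MOD q] := by
    have h3 : N.relIndex M = (Subgroup.normalizer (((Q.subtype hQM : Sylow q M) : Subgroup M) : Set M)).index := by
      rw [Sylow.coe_subtype, ← Subgroup.subgroupOf_normalizer_eq hQM]
      rfl
    have e : Nat.card (Sylow q M) = (Subgroup.normalizer (((Q.subtype hQM : Sylow q M) : Subgroup M) : Set M)).index :=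
      Sylow.card_eq_index_normalizer (Q.subtype hQM)
    rw [h3, ← e]
    exact card_sylow_modEq_one q M
  have h4 : N.relIndex M * M.index = N.index := Subgroup.relIndex_mul_index hNM
  have h5 : N.relIndex M * M.index ≡ 1 * M.index [MOD q] := Nat.ModEq.mul_right _ h2
  rw [h4, one_mul] at h5
  exact h5.symm.trans h1

/-- A number all of whose prime factors are at most `3` is of the form `2 ^ a * 3 ^ b`. -/
theorem eq_two_pow_mul_three_pow (n : ℕ) (hn : n ≠ 0) (h : ∀ r : ℕ, r.Prime → r ∣ n → r ≤ 3) :
    ∃ a b : ℕ, n = 2 ^ a * 3 ^ b := by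
  set m := n / 2 ^ n.factorization 2 with hm
  set m' := m / 3 ^ m.factorization 3 with hm'
  have h1 : 2 ^ n.factorization 2 * m = n := Nat.ordProj_mul_ordCompl_eq_self n 2
  have h2 : 3 ^ m.factorization 3 * m' = m := Nat.ordProj_mul_ordCompl_eq_self m 3
  have hm0 : m ≠ 0 := by
    rintro h0; rw [h0, mul_zero] at h1; exact hn h1.symm
  have hm'0 : m' ≠ 0 := by
    rintro h0; rw [h0, mul_zero] at h2; exact hm0 h2.symm
  have hm'1 : m' = 1 := by
    by_contra hne
    obtain ⟨s, hs, hsd⟩ := Nat.exists_prime_and_dvd hne
    have hsm : s ∣ m := dvd_trans hsd (Dvd.intro_left _ h2)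
    have hsn : s ∣ n := dvd_trans hsm (Dvd.intro_left _ h1)
    have hs3 := h s hs hsn
    have hs2 := hs.two_le
    have : s = 2 ∨ s = 3 := by omega
    rcases this with rfl | rfl
    · exact Nat.not_dvd_ordCompl Nat.prime_two hn hsm
    · exact Nat.not_dvd_ordCompl Nat.prime_three hm0 hsd
  refine ⟨n.factorization 2, m.factorization 3, ?_⟩
  have h3 : m = 3 ^ m.factorization 3 := by
    have := h2
    rw [hm'1, mul_one] at this
    exact this.symm
  calc n = 2 ^ n.factorization 2 * m := h1.symm
    _ = 2 ^ n.factorization 2 * 3 ^ m.factorization 3 := by congr 1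

theorem main (n : ℕ) : ∀ (G : Type u) [Group G] [Finite G], Nat.card G = n →
    (∀ M : Subgroup G, IsCoatom M → ∃ p : ℕ, p.Prime ∧ (M.index = p ∨ M.index = p ^ 2)) →
    Group.IsSolvable G := by
  induction n using Nat.strong_induction_on with
  | _ n ih =>
  intro G _ _ hcard h
  by_cases h1 : Nat.card G = 1
  · haveI : Subsingleton G := (Nat.card_eq_one_iff_unique.1 h1).1
    infer_instance
  -- the largest prime divisor
  have hne : (Nat.card G).primeFactors.Nonempty := by
    rw [Nat.nonempty_primeFactors]
    have : 0 < Nat.card G := Nat.card_pos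
    omega
  set q := (Nat.card G).primeFactors.max' hne with hq
  have hqmem : q ∈ (Nat.card G).primeFactors := Finset.max'_mem _ hne
  have hqp : q.Prime := Nat.prime_of_mem_primeFactors hqmem
  have hqd : q ∣ Nat.card G := Nat.dvd_of_mem_primeFactors hqmem
  have hqmax : ∀ r : ℕ, r.Prime → r ∣ Nat.card G → r ≤ q := by
    intro r hr hrd
    apply Finset.le_max'
    exact Nat.mem_primeFactors.2 ⟨hr, hrd, Nat.card_pos.ne'⟩
  haveI : Fact q.Prime := ⟨hqp⟩
  obtain ⟨Q⟩ : Nonempty (Sylow q G) := inferInstance
  by_cases hQn : (Q : Subgroup G).Normal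
  · -- pass to the quotient
    haveI := hQn
    have hQne : (Q : Subgroup G) ≠ ⊥ := Q.ne_bot_of_dvd_card hqd
    have hlt : Nat.card (G ⧸ (Q : Subgroup G)) < n := by
      rw [← hcard, Subgroup.card_eq_card_quotient_mul_card_subgroup (Q : Subgroup G)]
      have h1 : 1 < Nat.card (Q : Subgroup G) := by
        rw [Subgroup.one_lt_card_iff_ne_bot]; exact hQne
      have h2 : 0 < Nat.card (G ⧸ (Q : Subgroup G)) := Nat.card_pos
      nlinarith
    set f := QuotientGroup.mk' (Q : Subgroup G) with hf
    have hfs : Function.Surjective f := QuotientGroup.mk'_surjective _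
    have hquot : Group.IsSolvable (G ⧸ (Q : Subgroup G)) := by
      apply ih _ hlt _ rfl
      intro Mbar hMbar
      have hcoatom : IsCoatom (Mbar.comap f) := by
        constructor
        · intro htop
          apply hMbar.1
          rw [← Subgroup.map_comap_eq_self_of_surjective hfs Mbar, htop, ← MonoidHom.range_eq_map,
            MonoidHom.range_eq_top.2 hfs]
        · intro X hX
          have hker : f.ker ≤ X := le_trans (Subgroup.ker_le_comap f Mbar) hX.le
          have h2 : Mbar < X.map f := by
            refine lt_of_le_of_ne ?_ ?_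
            · rw [← Subgroup.map_comap_eq_self_of_surjective hfs Mbar]
              exact Subgroup.map_mono hX.le
            · intro heq
              apply not_le_of_gt hX
              rw [heq]
              exact Subgroup.le_comap_map f X
          have h3 := hMbar.2 _ h2
          have h4 : X = (X.map f).comap f := by
            rw [Subgroup.comap_map_eq, sup_eq_left.2 hker]
          rw [h4, h3, Subgroup.comap_top]
      obtain ⟨p, hp, hidx⟩ := h _ hcoatom
      refine ⟨p, hp, ?_⟩
      rwa [Subgroup.index_comap_of_surjective Mbar hfs] at hidx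
    haveI : Group.IsSolvable (Q : Subgroup G) := by
      haveI := Q.2.isNilpotent
      infer_instance
    apply Group.isSolvable_of_ker_le_range (Q : Subgroup G).subtype f
    rw [hf, QuotientGroup.ker_mk', Subgroup.range_subtype]
  · -- the normalizer lies in a maximal subgroup
    set N := Subgroup.normalizer ((Q : Subgroup G) : Set G) with hN
    have hNtop : N ≠ ⊤ := fun htop => hQn (Subgroup.normalizer_eq_top_iff.1 htop)
    obtain ⟨M, hM, hNM⟩ := (eq_top_or_exists_le_coatom N).resolve_left hNtop
    obtain ⟨r, hr, hidx⟩ := h M hM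
    have hmod := index_modEq_one_of_normalizer_le Q M hNM
    have hq2 := hqp.two_le
    have hr2 := hr.two_le
    have hrG : r ∣ Nat.card G := by
      have h1 : M.index ∣ Nat.card G := Subgroup.index_dvd_card M
      rcases hidx with h2 | h2
      · rw [h2] at h1; exact h1
      · rw [h2] at h1; exact dvd_trans (dvd_pow_self r two_ne_zero) h1
    have hrq : r ≤ q := hqmax r hr hrG
    have hrne : r ≠ q := by
      intro heq
      have h0 : M.index ≡ 0 [MOD q] := by
        rcases hidx with h2 | h2
        · rw [h2, heq]; exact (Nat.modEq_zero_iff_dvd).2 dvd_rfl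
        · rw [h2, heq]; exact (Nat.modEq_zero_iff_dvd).2 (dvd_pow_self q two_ne_zero)
      have := h0.symm.trans hmod
      have h3 : q ∣ 1 := (Nat.modEq_zero_iff_dvd).1 this.symm
      exact hqp.one_lt.ne' (Nat.dvd_one.1 h3)
    have hrlt : r < q := lt_of_le_of_ne hrq hrne
    have hq3 : q = 3 ∧ r = 2 := by
      rcases hidx with h2 | h2
      · exfalso
        rw [h2] at hmod
        have := Nat.ModEq.eq_of_lt_of_lt hmod hrlt (by omega)
        omega
      · rw [h2] at hmod
        have hdvd : q ∣ r ^ 2 - 1 := (Nat.modEq_iff_dvd' (by nlinarith)).1 hmod.symm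
        have hfac : r ^ 2 - 1 = (r - 1) * (r + 1) := by
          have : 1 ≤ r := by omega
          zify [this, Nat.one_le_pow 2 r (by omega)]
          ring
        rw [hfac] at hdvd
        rcases (Nat.Prime.dvd_mul hqp).1 hdvd with h3 | h3
        · exfalso
          have := Nat.le_of_dvd (by omega) h3
          omega
        · have h4 := Nat.le_of_dvd (by omega) h3
          have hq' : q = r + 1 := by omega
          rcases Nat.even_or_odd r with he | ho
          · have : r = 2 := (Nat.Prime.even_iff hr).1 he
            omega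
          · exfalso
            have he : Even q := by rw [hq']; exact Odd.add_one ho
            have : q = 2 := (Nat.Prime.even_iff hqp).1 he
            omega
    obtain ⟨a, b, hab⟩ := eq_two_pow_mul_three_pow (Nat.card G) Nat.card_pos.ne'
      (fun s hs hsd => hq3.1 ▸ hqmax s hs hsd)
    exact Cfsg.Agent.S0144.result 2 3 a b Nat.prime_two Nat.prime_three hab

/-- A finite group in which every maximal subgroup has index a prime or the square of a prime is solvable. -/
theorem result {G : Type*} [Group G] [Finite G] (h : ∀ M : Subgroup G, IsCoatom M → ∃ p : ℕ, p.Prime ∧ (M.index = p ∨ M.index = p ^ 2)) : Group.IsSolvable G := by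
  exact main _ G rfl h

end Cfsg.Agent.S4203
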