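import Cfsg.Statements.S4005
import Mathlib
import Cfsg.Agent.S0144
import Cfsg.Agent.S4203
import Cfsg.Agent.Lib.Helper3.SolvableMin

set_option autoImplicit false
open Cfsg

namespace Cfsg.Agent.S4005

/-- The hypothesis that all element orders are among `1, 2, 3`. -/
def Ord123 (G : Type*) [Group G] : Prop := ∀ g : G, orderOf g = 1 ∨ orderOf g = 2 ∨ orderOf g = 3

section basics
variable {G : Type*} [Group G]

theorem no6 (hG : Ord123 G) {t x : G} (ht : orderOf t = 2) (hx : orderOf x = 3) :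
    t * x ≠ x * t := by
  intro hc
  have hc' : Commute t x := hc
  have h6 : orderOf (t * x) = 2 * 3 := by
    have := hc'.orderOf_mul_eq_mul_orderOf_of_coprime (by rw [ht, hx]; norm_num)
    rw [this, ht, hx]
  rcases hG (t * x) with h | h | h <;> omega

theorem sq_eq_one_of_two_elt (hG : Ord123 G) {g : G} {k : ℕ} (hk : g ^ 2 ^ k = 1) : g * g = 1 := by
  have hd : orderOf g ∣ 2 ^ k := orderOf_dvd_of_pow_eq_one hk
  have h2 : orderOf g ∣ 2 := by
    rcases hG g with h | h | h
    · rw [h]; exact one_dvd _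
    · rw [h]
    · exfalso
      rw [h] at hd
      have := (Nat.Prime.dvd_of_dvd_pow Nat.prime_three hd)
      omega
  rw [← pow_two]
  exact orderOf_dvd_iff_pow_eq_one.1 h2

theorem cube_eq_one_of_three_elt (hG : Ord123 G) {g : G} {k : ℕ} (hk : g ^ 3 ^ k = 1) : g ^ 3 = 1 := by
  have hd : orderOf g ∣ 3 ^ k := orderOf_dvd_of_pow_eq_one hk
  have h3 : orderOf g ∣ 3 := by
    rcases hG g with h | h | h
    · rw [h]; exact one_dvd _
    · exfalso
      rw [h] at hd
      have := (Nat.Prime.dvd_of_dvd_pow Nat.prime_two hd)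
      omega
    · rw [h]
  exact orderOf_dvd_iff_pow_eq_one.1 h3

theorem orderOf_eq_two (hG : Ord123 G) {g : G} (h1 : g ≠ 1) (h2 : g * g = 1) : orderOf g = 2 := by
  have hd : orderOf g ∣ 2 := orderOf_dvd_of_pow_eq_one (by rw [pow_two]; exact h2)
  rcases hG g with h | h | h
  · exact absurd (orderOf_eq_one_iff.1 h) h1
  · exact h
  · rw [h] at hd; omega

theorem orderOf_eq_three (hG : Ord123 G) {g : G} (h1 : g ≠ 1) (h3 : g ^ 3 = 1) : orderOf g = 3 := by
  have hd : orderOf g ∣ 3 := orderOf_dvd_of_pow_eq_one h3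
  rcases hG g with h | h | h
  · exact absurd (orderOf_eq_one_iff.1 h) h1
  · rw [h] at hd; omega
  · exact h

end basics

/-- Two commuting "fixed-point-free order three" operators on an elementary abelian `2`-group whose
product is again of this kind coincide. -/
theorem act_eq {M : Type*} [Group M] (hc : ∀ u v : M, u * v = v * u) (he : ∀ u : M, u * u = 1)
    (X Z : M → M) (hXm : ∀ u v, X (u * v) = X u * X v)
    (hX : ∀ u, u * X u * X (X u) = 1) (hZ : ∀ u, u * Z u * Z (Z u) = 1)
    (hXZ : ∀ u, u * X (Z u) * X (Z (X (Z u))) = 1) (hcomm : ∀ u, X (Z u) = Z (X u)) (a : M) :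
    X a = Z a := by
  have key : ∀ u v : M, u * v = 1 → v = u := by
    intro u v huv
    have h1 : v = u⁻¹ := eq_inv_of_mul_eq_one_right huv
    have h2 : u⁻¹ = u := inv_eq_of_mul_eq_one_right (he u)
    rw [h1, h2]
  have e1 : Z (Z a) = a * Z a := key _ _ (hZ a)
  have e2 : X (X a) = a * X a := key _ _ (hX a)
  have e3 : X (X (Z a)) = Z a * X (Z a) := key _ _ (hX (Z a))
  have h4 := hXZ a
  rw [← hcomm (Z a), e1, hXm, hXm, e2, e3] at h4
  have h5 : a * X (Z a) * (a * X a * (Z a * X (Z a))) = X a * Z a := by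
    have r1 : a * X (Z a) * (a * X a * (Z a * X (Z a)))
        = (a * a) * (X (Z a) * X (Z a)) * (X a * Z a) := by
      rw [hc (Z a) (X (Z a))]
      rw [show a * X a * (X (Z a) * Z a) = a * (X (Z a) * (X a * Z a)) by
        rw [mul_assoc a, ← mul_assoc (X a), hc (X a) (X (Z a)), mul_assoc]]
      rw [mul_assoc a (X (Z a)), ← mul_assoc (X (Z a)) a, hc (X (Z a)) a]
      simp only [mul_assoc]
    rw [r1, he, he, one_mul, one_mul]
  rw [h5] at h4
  exact (key _ _ h4).symm

section rel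
variable {G : Type*} [Group G]

theorem not_mem_of_orderOf_three (hG : Ord123 G) {A : Subgroup G} (hA : IsPGroup 2 A) {x : G}
    (hx : orderOf x = 3) : x ∉ A := by
  intro hxA
  obtain ⟨k, hk⟩ := hA ⟨x, hxA⟩
  have hk' : x ^ 2 ^ k = 1 := by
    have := congrArg Subtype.val hk
    simpa using this
  have h2 := sq_eq_one_of_two_elt hG hk'
  have hd : orderOf x ∣ 2 := orderOf_dvd_of_pow_eq_one (by rw [pow_two]; exact h2)
  rw [hx] at hd
  omega

theorem rel3 (hG : Ord123 G) {A : Subgroup G} [hAn : A.Normal] (hA : IsPGroup 2 A) {x : G}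
    (hx : orderOf x = 3) {a : G} (ha : a ∈ A) :
    a * (x * a * x⁻¹) * (x * (x * a * x⁻¹) * x⁻¹) = 1 := by
  have hx3 : x ^ 3 = 1 := by rw [← hx]; exact pow_orderOf_eq_one x
  have hxA := not_mem_of_orderOf_three hG hA hx
  have hax : orderOf (a * x) = 3 := by
    have h1 : (QuotientGroup.mk' A) (a * x) = (QuotientGroup.mk' A) x := by
      have h0 : (QuotientGroup.mk' A) a = 1 := (QuotientGroup.eq_one_iff a).2 ha
      rw [map_mul, h0, one_mul]
    have h2 : orderOf ((QuotientGroup.mk' A) x) = 3 := by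
      haveI : Fact (Nat.Prime 3) := ⟨Nat.prime_three⟩
      apply orderOf_eq_prime
      · rw [← map_pow, hx3, map_one]
      · intro h
        exact hxA ((QuotientGroup.eq_one_iff x).1 h)
    have h3 : 3 ∣ orderOf (a * x) := by
      rw [← h2, ← h1]
      exact orderOf_map_dvd _ _
    rcases hG (a * x) with h | h | h
    · rw [h] at h3; omega
    · rw [h] at h3; omega
    · exact h
  have h4 : (a * x) ^ 3 = 1 := by rw [← hax]; exact pow_orderOf_eq_one _
  have h5 : (a * x) ^ 3 = a * (x * a * x⁻¹) * (x * (x * a * x⁻¹) * x⁻¹) * x ^ 3 := by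
    simp only [pow_succ, pow_zero, one_mul]
    group
  rw [h5, hx3, mul_one] at h4
  exact h4

end rel

section case2
variable {G : Type*} [Group G]

theorem sq_of_mem (hG : Ord123 G) {A : Subgroup G} (hA : IsPGroup 2 A) {a : G} (ha : a ∈ A) :
    a * a = 1 := by
  obtain ⟨k, hk⟩ := hA ⟨a, ha⟩
  have hk' : a ^ 2 ^ k = 1 := by
    have := congrArg Subtype.val hk
    simpa using this
  exact sq_eq_one_of_two_elt hG hk'

theorem exists_invol_of_ne_bot (hG : Ord123 G) {A : Subgroup G} (hA : IsPGroup 2 A) (hAne : A ≠ ⊥) :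
    ∃ a ∈ A, orderOf a = 2 := by
  obtain ⟨a, ha1⟩ := (Subgroup.ne_bot_iff_exists_ne_one.1 hAne : ∃ a : A, a ≠ 1)
  exact ⟨(a : G), a.2, orderOf_eq_two hG (fun h1 => ha1 (Subtype.ext h1)) (sq_of_mem hG hA a.2)⟩

theorem comm_three (hG : Ord123 G) {A : Subgroup G} [hAn : A.Normal] (hA : IsPGroup 2 A)
    (hAne : A ≠ ⊥) (hAc : ∀ a ∈ A, ∀ b ∈ A, a * b = b * a)
    {x y : G} (hx : orderOf x = 3) (hy : orderOf y = 3) (hxy : x * y = y * x) :
    y = x ∨ y = x⁻¹ := by
  by_contra hcon
  push Not at hcon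
  obtain ⟨hne1, hne2⟩ := hcon
  have hx3 : x ^ 3 = 1 := by rw [← hx]; exact pow_orderOf_eq_one x
  have hy3 : y ^ 3 = 1 := by rw [← hy]; exact pow_orderOf_eq_one y
  have hcm : Commute x y := hxy
  have hxy3 : orderOf (x * y) = 3 := by
    apply orderOf_eq_three hG
    · intro h1
      exact hne2 (eq_inv_of_mul_eq_one_right h1)
    · rw [hcm.mul_pow, hx3, hy3, one_mul]
  -- the operators
  let X : A → A := fun u => ⟨x * u * x⁻¹, hAn.conj_mem u u.2 x⟩
  let Z : A → A := fun u => ⟨y * u * y⁻¹, hAn.conj_mem u u.2 y⟩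
  have hXZ : ∀ u : A, X u = Z u := by
    apply act_eq (M := A) (fun u v => Subtype.ext (hAc u u.2 v v.2))
      (fun u => Subtype.ext (sq_of_mem hG hA u.2)) X Z
    · intro u v
      apply Subtype.ext
      show x * (u * v : G) * x⁻¹ = (x * u * x⁻¹) * (x * v * x⁻¹)
      group
    · intro u
      apply Subtype.ext
      exact rel3 hG hA hx u.2
    · intro u
      apply Subtype.ext
      exact rel3 hG hA hy u.2
    · intro u
      apply Subtype.ext
      have := rel3 hG hA hxy3 u.2
      show (u : G) * (x * (y * u * y⁻¹) * x⁻¹) * (x * (y * (x * (y * u * y⁻¹) * x⁻¹) * y⁻¹) * x⁻¹) = 1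
      rw [← this]
      simp only [mul_inv_rev, mul_assoc]
    · intro u
      apply Subtype.ext
      show x * (y * u * y⁻¹) * x⁻¹ = y * (x * u * x⁻¹) * y⁻¹
      have e1 : x * (y * u * y⁻¹) * x⁻¹ = (x * y) * u * (x * y)⁻¹ := by group
      have e2 : y * (x * u * x⁻¹) * y⁻¹ = (y * x) * u * (y * x)⁻¹ := by group
      rw [e1, e2, hxy]
  obtain ⟨a, ha, ha2⟩ := exists_invol_of_ne_bot hG hA hAne
  have hcmi : Commute x⁻¹ y := hcm.inv_left
  have hw3 : orderOf (x⁻¹ * y) = 3 := by
    apply orderOf_eq_three hG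
    · intro h1
      apply hne1
      have := eq_inv_of_mul_eq_one_right h1
      rw [this, inv_inv]
    · rw [hcmi.mul_pow, inv_pow, hx3, hy3, inv_one, one_mul]
  have h1 : x * a * x⁻¹ = y * a * y⁻¹ := congrArg Subtype.val (hXZ ⟨a, ha⟩)
  apply no6 hG ha2 hw3
  have h2 : a = x⁻¹ * (y * a * y⁻¹) * x := by rw [← h1]; group
  calc a * (x⁻¹ * y) = x⁻¹ * (y * a * y⁻¹) * x * (x⁻¹ * y) := by rw [← h2]
    _ = x⁻¹ * y * a * (y⁻¹ * x * x⁻¹ * y) := by group
    _ = x⁻¹ * y * a := by
      have : y⁻¹ * x * x⁻¹ * y = 1 := by group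
      rw [this, mul_one]

end case2

section case2b
variable {G : Type*} [Group G]

theorem case_two [Finite G] (hG : Ord123 G) {A : Subgroup G} [hAn : A.Normal] (hA : IsPGroup 2 A)
    (hAne : A ≠ ⊥) (hAc : ∀ a ∈ A, ∀ b ∈ A, a * b = b * a) (x₀ : G) (hx₀ : orderOf x₀ = 3) :
    ∃ N : Subgroup G, N.Normal ∧ Cfsg.IsElementaryAbelian 2 N ∧ N.index = 3 := by
  classical
  haveI : Fact (Nat.Prime 3) := ⟨Nat.prime_three⟩
  let Q : Sylow 3 G := default
  have h3card : 3 ∣ Nat.card G := by rw [← hx₀]; exact orderOf_dvd_natCard x₀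
  have hQne : (Q : Subgroup G) ≠ ⊥ := Q.ne_bot_of_dvd_card h3card
  haveI : Nontrivial (Q : Subgroup G) := (Subgroup.nontrivial_iff_ne_bot _).2 hQne
  haveI hcn : Nontrivial (Subgroup.center (Q : Subgroup G)) := IsPGroup.center_nontrivial Q.2
  obtain ⟨z0, hz0⟩ := exists_ne (1 : Subgroup.center (Q : Subgroup G))
  set z : G := ((z0 : (Q : Subgroup G)) : G) with hz
  have hzQ : z ∈ (Q : Subgroup G) := (z0 : (Q : Subgroup G)).2
  have hz1 : z ≠ 1 := by
    intro h1
    apply hz0
    apply Subtype.ext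
    apply Subtype.ext
    exact h1
  have three_of_mem : ∀ q ∈ (Q : Subgroup G), q ≠ 1 → orderOf q = 3 := by
    intro q hq hq1
    obtain ⟨k, hk⟩ := Q.2 ⟨q, hq⟩
    have hk' : q ^ 3 ^ k = 1 := by
      have := congrArg Subtype.val hk
      simpa using this
    exact orderOf_eq_three hG hq1 (cube_eq_one_of_three_elt hG hk')
  have hz3 : orderOf z = 3 := three_of_mem z hzQ hz1
  have hcz : ∀ q ∈ (Q : Subgroup G), z * q = q * z := by
    intro q hq
    have := (Subgroup.mem_center_iff.1 z0.2) ⟨q, hq⟩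
    have h2 := congrArg Subtype.val this
    simpa using h2.symm
  have hQelts : ∀ q ∈ (Q : Subgroup G), q = 1 ∨ q = z ∨ q = z⁻¹ := by
    intro q hq
    by_cases hq1 : q = 1
    · exact Or.inl hq1
    · exact Or.inr (comm_three hG hA hAne hAc hz3 (three_of_mem q hq hq1) (hcz q hq))
  have hQeq : (Q : Subgroup G) = Subgroup.zpowers z := by
    apply le_antisymm
    · intro q hq
      rcases hQelts q hq with h | h | h
      · rw [h]; exact one_mem _
      · rw [h]; exact Subgroup.mem_zpowers z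
      · rw [h]; exact inv_mem (Subgroup.mem_zpowers z)
    · rw [Subgroup.zpowers_le]; exact hzQ
  have hQcard : Nat.card (Q : Subgroup G) = 3 := by
    rw [hQeq, Nat.card_zpowers, hz3]
  have hz3' : z ^ 3 = 1 := by rw [← hz3]; exact pow_orderOf_eq_one z
  have hzinv : z ≠ z⁻¹ := by
    intro h
    have h2 : z * z = 1 := by
      calc z * z = z * z⁻¹ := by rw [← h]
        _ = 1 := mul_inv_cancel z
    have hd : orderOf z ∣ 2 := orderOf_dvd_of_pow_eq_one (by rw [pow_two]; exact h2)
    rw [hz3] at hd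
    omega
  obtain ⟨a, ha, ha2⟩ := exists_invol_of_ne_bot hG hA hAne
  have hNC : Subgroup.normalizer ((Q : Subgroup G) : Set G) ≤ Subgroup.centralizer ((Q : Subgroup G) : Set G) := by
    intro g hg
    have hgz : g * z * g⁻¹ ∈ (Q : Subgroup G) := (Subgroup.mem_normalizer_iff.1 hg z).1 hzQ
    rcases hQelts _ hgz with h | h | h
    · exfalso
      apply hz1
      have : z = g⁻¹ * (g * z * g⁻¹) * g := by group
      rw [this, h]; group
    · -- g commutes with z
      have hgc : g * z = z * g := by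
        calc g * z = (g * z * g⁻¹) * g := by group
          _ = z * g := by rw [h]
      rw [Subgroup.mem_centralizer_iff]
      intro q hq
      rcases hQelts q hq with h' | h' | h'
      · rw [h', one_mul, mul_one]
      · rw [h', hgc]
      · rw [h']
        calc z⁻¹ * g = z⁻¹ * (g * z) * z⁻¹ := by group
          _ = z⁻¹ * (z * g) * z⁻¹ := by rw [hgc]
          _ = g * z⁻¹ := by group
    · exfalso
      have hinv : g * z⁻¹ * g⁻¹ = z := by
        have : g * z⁻¹ * g⁻¹ = (g * z * g⁻¹)⁻¹ := by group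
        rw [this, h, inv_inv]
      rcases hG g with ho | ho | ho
      · -- g = 1
        have hg1 : g = 1 := orderOf_eq_one_iff.1 ho
        rw [hg1] at h
        apply hzinv
        simpa using h
      · -- involution
        have ht2 : g * g = 1 := by
          have := pow_orderOf_eq_one g
          rw [ho, pow_two] at this
          exact this
        have htinv : g⁻¹ = g := inv_eq_of_mul_eq_one_right ht2
        have hcomm : ∀ b ∈ A, g * b = b * g := by
          intro b hb
          have hb2 := sq_of_mem hG hA hb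
          have hbinv : b⁻¹ = b := inv_eq_of_mul_eq_one_right hb2
          have hs : (g * b) * (g * b) = (g * b * g⁻¹) * b := by
            rw [htinv]; group
          have hsA : (g * b) * (g * b) ∈ A := by
            rw [hs]; exact A.mul_mem (hAn.conj_mem b hb g) hb
          have h4 : (g * b) ^ 2 ^ 2 = 1 := by
            have := sq_of_mem hG hA hsA
            calc (g * b) ^ 2 ^ 2 = ((g * b) * (g * b)) * ((g * b) * (g * b)) := by
                  norm_num [pow_succ]
                  group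
              _ = 1 := this
          have h5 := sq_eq_one_of_two_elt hG h4
          have h6 : (g * b)⁻¹ = g * b := inv_eq_of_mul_eq_one_right h5
          rw [mul_inv_rev, hbinv, htinv] at h6
          exact h6.symm
        -- w = z g z⁻¹ commutes with `a`
        have hw : (z * g * z⁻¹) * a = a * (z * g * z⁻¹) := by
          have hb : z⁻¹ * a * z ∈ A := by
            have := hAn.conj_mem a ha z⁻¹
            simpa using this
          have := hcomm _ hb
          calc (z * g * z⁻¹) * a = z * (g * (z⁻¹ * a * z)) * z⁻¹ := by group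
            _ = z * ((z⁻¹ * a * z) * g) * z⁻¹ := by rw [this]
            _ = a * (z * g * z⁻¹) := by group
        have hzz : (z * g * z⁻¹) * g = z * z := by
          calc (z * g * z⁻¹) * g = z * (g * z⁻¹ * g⁻¹) := by rw [htinv]; group
            _ = z * z := by rw [hinv]
        have hzz3 : orderOf (z * z) = 3 := by
          apply orderOf_eq_three hG
          · intro h1
            have hd : orderOf z ∣ 2 := orderOf_dvd_of_pow_eq_one (by rw [pow_two]; exact h1)
            rw [hz3] at hd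
            omega
          · calc (z * z) ^ 3 = (z ^ 3) ^ 2 := by
                  rw [← pow_two, ← pow_mul, ← pow_mul]
              _ = 1 := by rw [hz3', one_pow]
        apply no6 hG ha2 hzz3
        rw [← hzz]
        calc a * (z * g * z⁻¹ * g) = (a * (z * g * z⁻¹)) * g := by group
          _ = ((z * g * z⁻¹) * a) * g := by rw [hw]
          _ = (z * g * z⁻¹) * (a * g) := by group
          _ = (z * g * z⁻¹) * (g * a) := by rw [hcomm a ha]
          _ = z * g * z⁻¹ * g * a := by group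
      · -- order three
        have hg3 : g ^ 3 = 1 := by rw [← ho]; exact pow_orderOf_eq_one g
        have h7 : g ^ 3 * z * (g ^ 3)⁻¹ = g * (g * (g * z * g⁻¹) * g⁻¹) * g⁻¹ := by
          simp only [pow_succ, pow_zero, one_mul]
          group
        rw [h, hinv, h, hg3] at h7
        apply hzinv
        simpa using h7
  have hK := MonoidHom.ker_transferSylow_isComplement' Q hNC
  set K : Subgroup G := (MonoidHom.transferSylow Q hNC).ker with hKdef
  have hKidx : K.index = 3 := by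
    rw [hK.symm.index_eq_card, hQcard]
  have hQidx : (Q : Subgroup G).index = Nat.card K := hK.index_eq_card
  have hcop : (Nat.card (Q : Subgroup G)).Coprime ((Q : Subgroup G).index) := Q.card_coprime_index
  rw [hQcard, hQidx] at hcop
  have hKsq : ∀ k ∈ K, k * k = 1 := by
    intro k hk
    have hd : orderOf k ∣ Nat.card K := by
      have := orderOf_dvd_natCard (⟨k, hk⟩ : K)
      rwa [Subgroup.orderOf_mk] at this
    rcases hG k with ho | ho | ho
    · rw [orderOf_eq_one_iff.1 ho, one_mul]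
    · have := pow_orderOf_eq_one k
      rwa [ho, pow_two] at this
    · exfalso
      rw [ho] at hd
      have := Nat.Coprime.eq_one_of_dvd hcop hd
      omega
  refine ⟨K, inferInstance, ⟨⟨⟨fun u v => ?_⟩⟩, fun k hk => ?_⟩, hKidx⟩
  · apply Subtype.ext
    have hu := hKsq u u.2
    have hv := hKsq v v.2
    have huv := hKsq (u * v) (K.mul_mem u.2 v.2)
    have huinv : (u : G)⁻¹ = u := inv_eq_of_mul_eq_one_right hu
    have hvinv : (v : G)⁻¹ = v := inv_eq_of_mul_eq_one_right hv
    have h6 : ((u : G) * v)⁻¹ = u * v := inv_eq_of_mul_eq_one_right huv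
    rw [mul_inv_rev, huinv, hvinv] at h6
    exact h6.symm
  · rw [pow_two]; exact hKsq k hk

end case2b

section case3
variable {G : Type*} [Group G]

theorem cube_of_mem (hG : Ord123 G) {A : Subgroup G} (hA : IsPGroup 3 A) {a : G} (ha : a ∈ A) :
    a ^ 3 = 1 := by
  obtain ⟨k, hk⟩ := hA ⟨a, ha⟩
  have hk' : a ^ 3 ^ k = 1 := by
    have := congrArg Subtype.val hk
    simpa using this
  exact cube_eq_one_of_three_elt hG hk'

/-- an involution has no nontrivial fixed points on a `3`-subgroup -/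
theorem eq_one_of_comm (hG : Ord123 G) {A : Subgroup G} (hA : IsPGroup 3 A) {t : G}
    (ht : orderOf t = 2) {c : G} (hc : c ∈ A) (htc : t * c = c * t) : c = 1 := by
  by_contra hc1
  exact no6 hG ht (orderOf_eq_three hG hc1 (cube_of_mem hG hA hc)) htc

theorem invol_inverts (hG : Ord123 G) {A : Subgroup G} [hAn : A.Normal] (hA : IsPGroup 3 A)
    (hAc : ∀ a ∈ A, ∀ b ∈ A, a * b = b * a) {t : G} (ht : orderOf t = 2) {a : G} (ha : a ∈ A) :
    t * a * t⁻¹ = a⁻¹ := by
  have ht2 : t * t = 1 := by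
    have := pow_orderOf_eq_one t
    rwa [ht, pow_two] at this
  have htinv : t⁻¹ = t := inv_eq_of_mul_eq_one_right ht2
  have hb : t * a * t⁻¹ ∈ A := hAn.conj_mem a ha t
  have hc : a * (t * a * t⁻¹) ∈ A := A.mul_mem ha hb
  have h1 : a * (t * a * t⁻¹) = 1 := by
    apply eq_one_of_comm hG hA ht hc
    calc t * (a * (t * a * t⁻¹)) = (t * a * t⁻¹) * (t * t) * a * t⁻¹ := by group
      _ = ((t * a * t⁻¹) * a) * t⁻¹ := by rw [ht2, mul_one]
      _ = (a * (t * a * t⁻¹)) * t⁻¹ := by rw [hAc _ hb _ ha]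
      _ = a * (t * a * t⁻¹) * t := by rw [htinv]
  exact (eq_inv_of_mul_eq_one_right h1)

theorem case_three [Finite G] (hG : Ord123 G) {A : Subgroup G} [hAn : A.Normal] (hA : IsPGroup 3 A)
    (hAne : A ≠ ⊥) (hAc : ∀ a ∈ A, ∀ b ∈ A, a * b = b * a) (t₀ : G) (ht₀ : orderOf t₀ = 2)
    (a b : ℕ) (hcard : Nat.card G = 2 ^ a * 3 ^ b) :
    ∃ N : Subgroup G, N.Normal ∧ Cfsg.IsElementaryAbelian 3 N ∧ N.index = 2 := by
  classical
  haveI : Fact (Nat.Prime 3) := ⟨Nat.prime_three⟩
  haveI : Fact (Nat.Prime 2) := ⟨Nat.prime_two⟩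
  -- product of two involutions is not an involution
  have hprod : ∀ s t : G, orderOf s = 2 → orderOf t = 2 → orderOf (s * t) ≠ 2 := by
    intro s t hs ht hst
    apply hAne
    rw [Subgroup.eq_bot_iff_forall]
    intro u hu
    have h1 : (s * t) * u * (s * t)⁻¹ = u⁻¹ := invol_inverts hG hA hAc hst hu
    have h2 : t * u * t⁻¹ = u⁻¹ := invol_inverts hG hA hAc ht hu
    have h3 : s * u⁻¹ * s⁻¹ = u⁻¹⁻¹ := invol_inverts hG hA hAc hs (A.inv_mem hu)
    have h4 : (s * t) * u * (s * t)⁻¹ = s * (t * u * t⁻¹) * s⁻¹ := by group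
    rw [h4, h2, h3, inv_inv] at h1
    -- u = u⁻¹
    have h5 : u * u = 1 := by
      calc u * u = u * u⁻¹ := by rw [← h1]
        _ = 1 := mul_inv_cancel u
    have h6 := cube_of_mem hG hA hu
    calc u = u ^ 3 * (u * u)⁻¹ := by group
      _ = 1 := by rw [h6, h5, inv_one, one_mul]
  -- Sylow 2-subgroups have order 2
  let P : Sylow 2 G := default
  have h2card : 2 ∣ Nat.card G := by rw [← ht₀]; exact orderOf_dvd_natCard t₀
  have hPne : (P : Subgroup G) ≠ ⊥ := P.ne_bot_of_dvd_card h2card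
  obtain ⟨s0, hs0⟩ := (Subgroup.ne_bot_iff_exists_ne_one.1 hPne : ∃ a : (P : Subgroup G), a ≠ 1)
  set s : G := (s0 : G) with hsdef
  have hsP : s ∈ (P : Subgroup G) := s0.2
  have hs1 : s ≠ 1 := fun h => hs0 (Subtype.ext h)
  have hs2 : s * s = 1 := sq_of_mem hG P.2 hsP
  have hso : orderOf s = 2 := orderOf_eq_two hG hs1 hs2
  have hPeq : (P : Subgroup G) = Subgroup.zpowers s := by
    apply le_antisymm
    · intro u hu
      by_cases hu1 : u = 1
      · rw [hu1]; exact one_mem _
      by_cases hus : u = s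
      · rw [hus]; exact Subgroup.mem_zpowers s
      exfalso
      have hu2 : u * u = 1 := sq_of_mem hG P.2 hu
      have huo : orderOf u = 2 := orderOf_eq_two hG hu1 hu2
      apply hprod s u hso huo
      apply orderOf_eq_two hG
      · intro h1
        apply hus
        have h2 : u = s⁻¹ := eq_inv_of_mul_eq_one_right h1
        rw [h2]; exact inv_eq_of_mul_eq_one_right hs2
      · exact sq_of_mem hG P.2 ((P : Subgroup G).mul_mem hsP hu)
    · rw [Subgroup.zpowers_le]; exact hsP
  have hPcard : Nat.card (P : Subgroup G) = 2 := by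
    rw [hPeq, Nat.card_zpowers, hso]
  have hf2 : (Nat.card G).factorization 2 = a := by
    rw [hcard, Nat.factorization_mul (by positivity) (by positivity)]
    simp [Nat.factorization_pow, Nat.Prime.factorization Nat.prime_two,
      Nat.Prime.factorization Nat.prime_three]
  have hf3 : (Nat.card G).factorization 3 = b := by
    rw [hcard, Nat.factorization_mul (by positivity) (by positivity)]
    simp [Nat.factorization_pow, Nat.Prime.factorization Nat.prime_two,
      Nat.Prime.factorization Nat.prime_three]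
  have ha1 : a = 1 := by
    have h1 := P.card_eq_multiplicity
    rw [hPcard, hf2] at h1
    have : 2 ^ 1 = 2 ^ a := by rw [← h1]; norm_num
    exact (Nat.pow_right_injective (le_refl 2) this).symm
  let Q : Sylow 3 G := default
  have hQcard : Nat.card (Q : Subgroup G) = 3 ^ b := by
    have h1 := Q.card_eq_multiplicity
    rw [hf3] at h1
    exact h1
  have hQidx : (Q : Subgroup G).index = 2 := by
    have h1 := (Q : Subgroup G).card_mul_index
    rw [hQcard, hcard, ha1] at h1
    have h3 : 0 < 3 ^ b := by positivity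
    have h4 : 3 ^ b * (Q : Subgroup G).index = 3 ^ b * 2 := by rw [h1]; ring
    exact Nat.eq_of_mul_eq_mul_left h3 h4
  haveI hQn : (Q : Subgroup G).Normal := Subgroup.normal_of_index_eq_two hQidx
  have ht2 : t₀ * t₀ = 1 := by
    have := pow_orderOf_eq_one t₀
    rwa [ht₀, pow_two] at this
  have htinv : t₀⁻¹ = t₀ := inv_eq_of_mul_eq_one_right ht2
  -- the map `x ↦ x⁻¹ * (t x t⁻¹)` on `Q`
  let φ : ↥(Q : Subgroup G) → ↥(Q : Subgroup G) := fun x =>
    ⟨(x : G)⁻¹ * (t₀ * x * t₀⁻¹), (Q : Subgroup G).mul_mem ((Q : Subgroup G).inv_mem x.2) (hQn.conj_mem x x.2 t₀)⟩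
  have hφinj : Function.Injective φ := by
    intro x y hxy
    have h1 : (x : G)⁻¹ * (t₀ * x * t₀⁻¹) = (y : G)⁻¹ * (t₀ * y * t₀⁻¹) := congrArg Subtype.val hxy
    have hw : (y : G) * (x : G)⁻¹ ∈ (Q : Subgroup G) := (Q : Subgroup G).mul_mem y.2 ((Q : Subgroup G).inv_mem x.2)
    have h2 : t₀ * ((y : G) * (x : G)⁻¹) = ((y : G) * (x : G)⁻¹) * t₀ := by
      calc t₀ * ((y : G) * (x : G)⁻¹) = (y : G) * ((y : G)⁻¹ * (t₀ * y * t₀⁻¹)) * t₀ * (x : G)⁻¹ := by group
        _ = (y : G) * ((x : G)⁻¹ * (t₀ * x * t₀⁻¹)) * t₀ * (x : G)⁻¹ := by rw [h1]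
        _ = ((y : G) * (x : G)⁻¹) * t₀ := by group
    have h3 := eq_one_of_comm hG Q.2 ht₀ hw h2
    apply Subtype.ext
    have h4 : (y : G) = (x : G)⁻¹⁻¹ := eq_inv_of_mul_eq_one_left h3
    rw [h4, inv_inv]
  have hφsurj : Function.Surjective φ := Finite.surjective_of_injective hφinj
  have hinv : ∀ q ∈ (Q : Subgroup G), t₀ * q * t₀⁻¹ = q⁻¹ := by
    intro q hq
    obtain ⟨x, hx⟩ := hφsurj ⟨q, hq⟩
    have h1 : (x : G)⁻¹ * (t₀ * x * t₀⁻¹) = q := congrArg Subtype.val hx
    rw [← h1]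
    calc t₀ * ((x : G)⁻¹ * (t₀ * x * t₀⁻¹)) * t₀⁻¹ = t₀ * (x : G)⁻¹ * t₀ * x * (t₀⁻¹ * t₀⁻¹) := by group
      _ = t₀ * (x : G)⁻¹ * t₀ * x := by rw [htinv, ht2, mul_one]
      _ = t₀ * (x : G)⁻¹ * t₀⁻¹ * x := by rw [htinv]
      _ = ((x : G)⁻¹ * (t₀ * x * t₀⁻¹))⁻¹ := by group
  refine ⟨(Q : Subgroup G), hQn, ⟨⟨⟨fun u v => ?_⟩⟩, fun k hk => cube_of_mem hG Q.2 hk⟩, hQidx⟩
  apply Subtype.ext
  have h1 := hinv _ ((Q : Subgroup G).mul_mem u.2 v.2)
  have h2 : t₀ * ((u : G) * v) * t₀⁻¹ = (t₀ * u * t₀⁻¹) * (t₀ * v * t₀⁻¹) := by group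
  rw [h2, hinv _ u.2, hinv _ v.2] at h1
  -- u⁻¹ v⁻¹ = (u v)⁻¹
  have h3 : ((u : G)⁻¹ * (v : G)⁻¹)⁻¹ = (((u : G) * v)⁻¹)⁻¹ := by rw [h1]
  rw [mul_inv_rev, inv_inv, inv_inv, inv_inv] at h3
  exact h3.symm

end case3

/-- A finite group whose set of element orders is exactly {1, 2, 3} has either a normal elementary abelian 3-subgroup of index 2 or a normal elementary abelian 2-subgroup of index 3. -/
theorem result {G : Type*} [Group G] [Finite G] (h : Set.range (orderOf : G → ℕ) = {k : ℕ | 1 ≤ k ∧ k ≤ 3}) :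
    (∃ N : Subgroup G, N.Normal ∧ Cfsg.IsElementaryAbelian 3 N ∧ N.index = 2) ∨
      (∃ N : Subgroup G, N.Normal ∧ Cfsg.IsElementaryAbelian 2 N ∧ N.index = 3) := by
  have hG : Ord123 G := by
    intro g
    have hg : orderOf g ∈ Set.range (orderOf : G → ℕ) := ⟨g, rfl⟩
    rw [h] at hg
    obtain ⟨h1, h2⟩ := hg
    omega
  obtain ⟨t₀, ht₀⟩ : ∃ t : G, orderOf t = 2 := by
    have h2 : (2 : ℕ) ∈ {k : ℕ | 1 ≤ k ∧ k ≤ 3} := ⟨by norm_num, by norm_num⟩
    rw [← h] at h2
    exact h2
  obtain ⟨x₀, hx₀⟩ : ∃ t : G, orderOf t = 3 := by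
    have h2 : (3 : ℕ) ∈ {k : ℕ | 1 ≤ k ∧ k ≤ 3} := ⟨by norm_num, by norm_num⟩
    rw [← h] at h2
    exact h2
  have hprimes : ∀ r : ℕ, r.Prime → r ∣ Nat.card G → r ≤ 3 := by
    intro r hr hrd
    haveI : Fact r.Prime := ⟨hr⟩
    obtain ⟨g, hg⟩ := exists_prime_orderOf_dvd_card' r hrd
    rcases hG g with h1 | h1 | h1 <;> omega
  obtain ⟨a, b, hcard⟩ := Cfsg.Agent.S4203.eq_two_pow_mul_three_pow (Nat.card G) Nat.card_pos.ne' hprimes
  have hsolv : Group.IsSolvable G :=
    Cfsg.Agent.S0144.result 2 3 a b Nat.prime_two Nat.prime_three hcard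
  haveI : Nontrivial G := by
    refine ⟨⟨t₀, 1, ?_⟩⟩
    intro h1
    rw [h1, orderOf_one] at ht₀
    omega
  obtain ⟨r, A, hr, hAn, hAne, hAp, hAc⟩ := Cfsg.Agent.Lib.Helper3.exists_normal_abelian_pgroup G hsolv
  haveI := hAn
  have hr23 : r = 2 ∨ r = 3 := by
    haveI : Fact r.Prime := ⟨hr⟩
    have hAcard : 1 < Nat.card A := (Subgroup.one_lt_card_iff_ne_bot A).2 hAne
    obtain ⟨n, hn⟩ := hAp.exists_card_eq
    have hn0 : n ≠ 0 := by
      rintro rfl
      rw [pow_zero] at hn
      omega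
    have h1 : r ∣ Nat.card A := by rw [hn]; exact dvd_pow_self r hn0
    have h2 : r ∣ Nat.card G := dvd_trans h1 (Subgroup.card_subgroup_dvd_card A)
    have h3 := hprimes r hr h2
    have h4 := hr.two_le
    omega
  rcases hr23 with rfl | rfl
  · right
    exact case_two hG hAp hAne hAc x₀ hx₀
  · left
    exact case_three hG hAp hAne hAc t₀ ht₀ a b hcard

end Cfsg.Agent.S4005
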