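import Cfsg.Statements.S4006
import Cfsg.Agent.Lib.Helper7.E4CaseA
import Cfsg.Agent.Lib.Helper7.E4CaseB

set_option autoImplicit false
open Cfsg

namespace Cfsg.Agent.S4006

open Cfsg.Agent.Lib.Helper7

/-- A finite group whose set of element orders is exactly {1, 2, 3, 4} has a normal subgroup N such that either N is a 2-group of exponent 4 and nilpotency class at most 2 with G/N of order 3, or N is an elementary abelian 2-group with G/N isomorphic to the symmetric group of degree 3, or N is an elementary abelian 3-group with G/N cyclic of order 4 or quaternion of order 8. -/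
theorem result {G : Type*} [Group G] [Finite G] (h : Set.range (orderOf : G → ℕ) = {k : ℕ | 1 ≤ k ∧ k ≤ 4}) :
    ∃ (N : Subgroup G) (_ : N.Normal),
      (IsPGroup 2 ↥N ∧ Monoid.exponent ↥N = 4 ∧ Group.nilpotencyClass ↥N ≤ 2 ∧ N.index = 3) ∨
      (Cfsg.IsElementaryAbelian 2 N ∧ Nonempty (G ⧸ N ≃* Equiv.Perm (Fin 3))) ∨
      (Cfsg.IsElementaryAbelian 3 N ∧ ((IsCyclic (G ⧸ N) ∧ N.index = 4) ∨ Nonempty (G ⧸ N ≃* QuaternionGroup 2))) := by
  have hE : E4 G := by
    intro g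
    have hg : orderOf g ∈ Set.range (orderOf : G → ℕ) := ⟨g, rfl⟩
    rw [h] at hg
    obtain ⟨h1, h2⟩ := hg
    have hcases : orderOf g = 1 ∨ orderOf g = 2 ∨ orderOf g = 3 ∨ orderOf g = 4 := by omega
    have hp := pow_orderOf_eq_one g
    rcases hcases with h' | h' | h' | h'
    · left; rw [orderOf_eq_one_iff.mp h', one_pow]
    · left; rw [h'] at hp; rw [show 4 = 2 * 2 from rfl, pow_mul, hp, one_pow]
    · right; rwa [h'] at hp
    · left; rwa [h'] at hp
  obtain ⟨g3, hg3⟩ : ∃ g : G, orderOf g = 3 := by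
    have h3 : (3 : ℕ) ∈ Set.range (orderOf : G → ℕ) := by
      rw [h]; exact ⟨by norm_num, by norm_num⟩
    exact h3
  obtain ⟨g4, hg4⟩ : ∃ g : G, orderOf g = 4 := by
    have h4 : (4 : ℕ) ∈ Set.range (orderOf : G → ℕ) := by
      rw [h]; exact ⟨by norm_num, by norm_num⟩
    exact h4
  haveI : Fact (Nat.Prime 2) := ⟨Nat.prime_two⟩
  haveI : Fact (Nat.Prime 3) := ⟨Nat.prime_three⟩
  haveI hn2 : (Cfsg.pCore 2 G).Normal := Cfsg.Agent.Lib.Helper1.pCore_normal 2
  haveI hn3 : (Cfsg.pCore 3 G).Normal := Cfsg.Agent.Lib.Helper1.pCore_normal 3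
  rcases hE.pCore_two_or_three_eq_bot with h2 | h3
  · have hcent := hE.centralizer_pCore_three_le h2
    obtain ⟨hea, hq⟩ := hE.caseB (Cfsg.pCore 3 G) (Cfsg.Agent.Lib.Helper1.pCore_isPGroup 3) hcent g4 hg4
    exact ⟨Cfsg.pCore 3 G, hn3, Or.inr (Or.inr ⟨hea, hq⟩)⟩
  · have hcent := hE.centralizer_pCore_two_le h3
    have hpc := E4.pCore_quotient_pCore_eq_bot' (G := G) 2
    rcases hE.caseA (Cfsg.pCore 2 G) (Cfsg.Agent.Lib.Helper1.pCore_isPGroup 2) hcent hpc g3 hg3 g4 hg4 with hA | hA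
    · exact ⟨Cfsg.pCore 2 G, hn2, Or.inl hA⟩
    · exact ⟨Cfsg.pCore 2 G, hn2, Or.inr (Or.inl hA)⟩

end Cfsg.Agent.S4006
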