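import Cfsg.Statements.S4013
import Mathlib
import Cfsg.Agent.Lib.Helper4.ConjClass

set_option autoImplicit false
open Cfsg

namespace Cfsg.Agent.S4013

/-- Let G be a finite p-group (p prime) and N < M normal subgroups of G such that for some g ∈ M ∖ N the conjugacy class of g is exactly M ∖ N. Then p = 2 and N has index 2 in M. -/
theorem result {G : Type*} [Group G] [Finite G] (p : ℕ) [Fact p.Prime] (hG : IsPGroup p G) (N M : Subgroup G) [N.Normal] [M.Normal] (hNM : N < M) (g : G) (hgM : g ∈ M) (hgN : g ∉ N) (hcl : {h : G | IsConj g h} = (M : Set G) \ (N : Set G)) : p = 2 ∧ N.relIndex M = 2 := by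
  have hp : p.Prime := Fact.out
  -- the class size is a power of p
  have hcls : {h : G | IsConj g h} = (ConjClasses.mk g).carrier := by
    ext h
    simp only [Set.mem_setOf_eq, ConjClasses.mem_carrier_iff_mk_eq, ConjClasses.mk_eq_mk_iff_isConj]
    exact ⟨fun h1 => h1.symm, fun h1 => h1.symm⟩
  have hcard1 : Nat.card ↥((M : Set G) \ (N : Set G)) =
      (Subgroup.centralizer ({g} : Set G)).index := by
    rw [← hcl, hcls]
    exact Cfsg.Agent.Lib.Helper4.card_carrier_eq_index g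
  obtain ⟨n, hn⟩ := IsPGroup.iff_card.1 hG
  obtain ⟨c, -, hc⟩ := (Nat.dvd_prime_pow hp).1
    (hn ▸ Subgroup.index_dvd_card (Subgroup.centralizer ({g} : Set G)))
  -- the size of M \ N
  have hcard2 : Nat.card ↥((M : Set G) \ (N : Set G)) = Nat.card M - Nat.card N := by
    rw [Nat.card_coe_set_eq, Set.ncard_diff (SetLike.coe_subset_coe.2 hNM.le) (Set.toFinite _),
      ← Nat.card_coe_set_eq, ← Nat.card_coe_set_eq]
    rfl
  have hMN : Nat.card N * N.relIndex M = Nat.card M := by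
    rw [← Subgroup.relIndex_bot_left, Subgroup.relIndex_mul_relIndex _ _ _ bot_le hNM.le,
      Subgroup.relIndex_bot_left]
  obtain ⟨a, ha⟩ := IsPGroup.iff_card.1 (hG.to_subgroup N)
  obtain ⟨m, hm⟩ := IsPGroup.iff_card.1 (hG.to_subgroup M)
  obtain ⟨b, -, hb⟩ := (Nat.dvd_prime_pow hp).1 (hm ▸ Dvd.intro_left _ hMN)
  have hb0 : b ≠ 0 := by
    rintro rfl
    rw [pow_zero, Subgroup.relIndex_eq_one] at hb
    exact (not_le_of_gt hNM) hb
  -- p ^ c = p ^ a * (p ^ b - 1)
  have hkey : p ^ c = p ^ a * (p ^ b - 1) := by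
    rw [← hc, ← hcard1, hcard2, ← hMN, ha, hb, Nat.mul_sub, mul_one]
  have hpb1 : 1 ≤ p ^ b := Nat.one_le_pow _ _ hp.pos
  have hdvd : p ^ b - 1 ∣ p ^ c := Dvd.intro_left _ hkey.symm
  obtain ⟨d, -, hd⟩ := (Nat.dvd_prime_pow hp).1 hdvd
  have hd0 : d = 0 := by
    by_contra hd0
    have h1 : p ∣ p ^ b - 1 := by rw [hd]; exact dvd_pow_self p hd0
    have h2 : p ∣ p ^ b := dvd_pow_self p hb0
    have h3 : p ∣ 1 := by
      have := (Nat.dvd_sub h2 h1)
      rwa [Nat.sub_sub_self hpb1] at this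
    exact hp.one_lt.ne' (Nat.dvd_one.1 h3)
  rw [hd0, pow_zero] at hd
  have hpb2 : p ^ b = 2 := by omega
  have hp2 : p = 2 := by
    have : p ∣ 2 := by rw [← hpb2]; exact dvd_pow_self p hb0
    exact (Nat.prime_dvd_prime_iff_eq hp Nat.prime_two).1 this
  refine ⟨hp2, ?_⟩
  rw [hb, hpb2]

end Cfsg.Agent.S4013
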