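import Cfsg.Statements.S4029
import Mathlib
import Cfsg.Agent.Lib.Helper3.ClassNumber
import Cfsg.Agent.Lib.Helper3.Irrational
import Cfsg.Agent.Lib.Helper1.FrattiniP
-- import your own Cfsg.Agent.* helpers here

set_option autoImplicit false
open Cfsg

namespace Cfsg.Agent.S4029

open Cfsg.Agent.Lib.Helper3
open Classical


/-- number of square roots -/
noncomputable def sqrtCount {P : Type*} [Group P] (z : P) : ℕ := Nat.card {x : P // x ^ 2 = z}


theorem card_sq_pairs {P : Type*} [Group P] [Fintype P] :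
    Nat.card {p : P × P // p.1 ^ 2 = p.2 ^ 2} = ∑ z : P, sqrtCount z ^ 2 := by
  have e : {p : P × P // p.1 ^ 2 = p.2 ^ 2} ≃ Σ z : P, {x : P // x ^ 2 = z} × {y : P // y ^ 2 = z} :=
    { toFun := fun p => ⟨p.1.1 ^ 2, ⟨p.1.1, rfl⟩, ⟨p.1.2, p.2.symm⟩⟩
      invFun := fun s => ⟨(s.2.1.1, s.2.2.1), s.2.1.2.trans s.2.2.2.symm⟩
      left_inv := by
        rintro ⟨⟨x, y⟩, h⟩
        rfl
      right_inv := by
        rintro ⟨z, ⟨x, hx⟩, ⟨y, hy⟩⟩
        subst hx
        rfl }
  rw [Nat.card_congr e, Nat.card_sigma]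
  apply Finset.sum_congr rfl
  intro z _
  rw [Nat.card_prod, sqrtCount, sq]


theorem card_sq_pairs_eq {P : Type*} [Group P] :
    Nat.card {p : P × P // p.1 ^ 2 = p.2 ^ 2} =
      Nat.card {q : P × P // q.2 * q.1 * q.2⁻¹ = q.1⁻¹} := by
  apply Nat.card_congr
  refine
    { toFun := fun p => ⟨(p.1.1⁻¹ * p.1.2, p.1.1), ?_⟩
      invFun := fun q => ⟨(q.1.2, q.1.2 * q.1.1), ?_⟩
      left_inv := ?_
      right_inv := ?_ }
  · have h := p.2
    simp only [mul_inv_rev, inv_inv]
    -- x * (x⁻¹ * y) * x⁻¹ = y⁻¹ * x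
    have h1 : p.1.1 * (p.1.1⁻¹ * p.1.2) * p.1.1⁻¹ = p.1.2 * p.1.1⁻¹ := by group
    rw [h1]
    have h2 : p.1.2 * p.1.2 = p.1.1 * p.1.1 := by rw [← sq, ← sq]; exact h.symm
    calc p.1.2 * p.1.1⁻¹ = p.1.2⁻¹ * (p.1.2 * p.1.2) * p.1.1⁻¹ := by group
      _ = p.1.2⁻¹ * (p.1.1 * p.1.1) * p.1.1⁻¹ := by rw [h2]
      _ = p.1.2⁻¹ * p.1.1 := by group
  · have h := q.2
    simp only
    -- x^2 = (x g)^2  from x g x⁻¹ = g⁻¹
    have h1 : q.1.2 * q.1.1 = q.1.1⁻¹ * q.1.2 := by
      calc q.1.2 * q.1.1 = (q.1.2 * q.1.1 * q.1.2⁻¹) * q.1.2 := by group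
        _ = q.1.1⁻¹ * q.1.2 := by rw [h]
    rw [sq, sq]
    calc q.1.2 * q.1.2 = q.1.2 * (q.1.1 * q.1.1⁻¹) * q.1.2 := by group
      _ = (q.1.2 * q.1.1) * (q.1.1⁻¹ * q.1.2) := by group
      _ = (q.1.2 * q.1.1) * (q.1.2 * q.1.1) := by rw [← h1]
  · rintro ⟨⟨x, y⟩, h⟩
    apply Subtype.ext
    simp
  · rintro ⟨⟨g, x⟩, h⟩
    apply Subtype.ext
    simp


/-- In an irrational group, only elements with `g² = 1` are real; count of inverting elements. -/
theorem card_inverting {P : Type*} [Group P] [Finite P]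
    (hirr : ∀ y : P, Subgroup.normalizer ((Subgroup.zpowers y : Subgroup P) : Set P) ≤ Subgroup.centralizer {y})
    (g : P) :
    Nat.card {x : P // x * g * x⁻¹ = g⁻¹} = if g ^ 2 = 1 then Nat.card {y : P // Commute g y} else 0 := by
  split_ifs with hg
  · apply Nat.card_congr
    have hginv : g⁻¹ = g := by
      rw [sq] at hg
      exact inv_eq_of_mul_eq_one_left hg
    refine Equiv.subtypeEquivRight ?_
    intro x
    rw [hginv]
    constructor
    · intro h
      show g * x = x * g
      calc g * x = (x * g * x⁻¹) * x := by rw [h]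
        _ = x * g := by group
    · intro h
      have h' : g * x = x * g := h
      calc x * g * x⁻¹ = (g * x) * x⁻¹ := by rw [h']
        _ = g := by group
  · rw [Nat.card_eq_zero]
    left
    constructor
    rintro ⟨x, hx⟩
    apply hg
    have hxN : x ∈ Subgroup.normalizer ((Subgroup.zpowers g : Subgroup P) : Set P) := by
      rw [mem_normalizer_zpowers_iff, hx]
      exact inv_mem (Subgroup.mem_zpowers g)
    have hxC := hirr g hxN
    rw [Subgroup.mem_centralizer_singleton_iff] at hxC
    have h1 : x * g * x⁻¹ = g := by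
      rw [hxC]; group
    rw [h1] at hx
    rw [sq]
    calc g * g = g * g⁻¹ := by rw [← hx]
      _ = 1 := mul_inv_cancel g




/-- orbit–stabilizer for conjugacy classes, product form. -/
theorem card_class_mul {P : Type*} [Group P] [Finite P] (g₀ : P) :
    Nat.card {g : P // ConjClasses.mk g = ConjClasses.mk g₀} * Nat.card {y : P // Commute g₀ y} =
      Nat.card P := by
  haveI : Fintype {g : P // ConjClasses.mk g = ConjClasses.mk g₀} := Fintype.ofFinite _
  let φ : P → {g : P // ConjClasses.mk g = ConjClasses.mk g₀} := fun x =>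
    ⟨x * g₀ * x⁻¹, by
      rw [ConjClasses.mk_eq_mk_iff_isConj, isConj_comm, isConj_iff]
      exact ⟨x, rfl⟩⟩
  rw [Nat.card_congr (Equiv.sigmaFiberEquiv φ).symm, Nat.card_sigma]
  have hfib : ∀ g : {g : P // ConjClasses.mk g = ConjClasses.mk g₀},
      Nat.card {x : P // φ x = g} = Nat.card {y : P // Commute g₀ y} := by
    intro g
    have hg := g.2
    rw [ConjClasses.mk_eq_mk_iff_isConj, isConj_comm, isConj_iff] at hg
    obtain ⟨x₀, hx₀⟩ := hg
    apply Nat.card_congr
    refine
      { toFun := fun x => ⟨x₀⁻¹ * x.1, ?_⟩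
        invFun := fun y => ⟨x₀ * y.1, ?_⟩
        left_inv := ?_
        right_inv := ?_ }
    · have h1 : x.1 * g₀ * x.1⁻¹ = g.1 := congrArg Subtype.val x.2
      show g₀ * (x₀⁻¹ * x.1) = (x₀⁻¹ * x.1) * g₀
      have h2 : x.1 * g₀ * x.1⁻¹ = x₀ * g₀ * x₀⁻¹ := h1.trans hx₀.symm
      calc g₀ * (x₀⁻¹ * x.1) = x₀⁻¹ * (x₀ * g₀ * x₀⁻¹) * x.1 := by group
        _ = x₀⁻¹ * (x.1 * g₀ * x.1⁻¹) * x.1 := by rw [h2]
        _ = (x₀⁻¹ * x.1) * g₀ := by group
    · apply Subtype.ext
      show x₀ * y.1 * g₀ * (x₀ * y.1)⁻¹ = g.1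
      have h1 : g₀ * y.1 = y.1 * g₀ := y.2
      rw [← hx₀]
      calc x₀ * y.1 * g₀ * (x₀ * y.1)⁻¹ = x₀ * (y.1 * g₀) * y.1⁻¹ * x₀⁻¹ := by group
        _ = x₀ * (g₀ * y.1) * y.1⁻¹ * x₀⁻¹ := by rw [h1]
        _ = x₀ * g₀ * x₀⁻¹ := by group
    · intro x
      apply Subtype.ext
      simp
    · intro y
      apply Subtype.ext
      simp
  simp only [hfib, Finset.sum_const, Finset.card_univ, smul_eq_mul, Nat.card_eq_fintype_card]


theorem card_commute_conj {P : Type*} [Group P] [Finite P] (g h : P) (hgh : IsConj g h) :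
    Nat.card {y : P // Commute g y} = Nat.card {y : P // Commute h y} := by
  obtain ⟨c, hc⟩ := isConj_iff.1 hgh
  apply Nat.card_congr
  refine
    { toFun := fun y => ⟨c * y.1 * c⁻¹, ?_⟩
      invFun := fun y => ⟨c⁻¹ * y.1 * c, ?_⟩
      left_inv := ?_
      right_inv := ?_ }
  · have h1 : g * y.1 = y.1 * g := y.2
    show h * (c * y.1 * c⁻¹) = (c * y.1 * c⁻¹) * h
    rw [← hc]
    calc c * g * c⁻¹ * (c * y.1 * c⁻¹) = c * (g * y.1) * c⁻¹ := by group
      _ = c * (y.1 * g) * c⁻¹ := by rw [h1]
      _ = c * y.1 * c⁻¹ * (c * g * c⁻¹) := by group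
  · have h1 : h * y.1 = y.1 * h := y.2
    show g * (c⁻¹ * y.1 * c) = (c⁻¹ * y.1 * c) * g
    have hg : g = c⁻¹ * h * c := by rw [← hc]; group
    rw [hg]
    calc c⁻¹ * h * c * (c⁻¹ * y.1 * c) = c⁻¹ * (h * y.1) * c := by group
      _ = c⁻¹ * (y.1 * h) * c := by rw [h1]
      _ = c⁻¹ * y.1 * c * (c⁻¹ * h * c) := by group
  · intro y
    apply Subtype.ext
    simp only
    group
  · intro y
    apply Subtype.ext
    simp only
    group


/-- The sum of centralizer orders over the elements with `g² = 1`, bounded by classes. -/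
theorem sum_real_le {P : Type*} [Group P] [Fintype P] :
    ∑ g : P, (if g ^ 2 = 1 then Nat.card {y : P // Commute g y} else 0) ≤
      Nat.card P * Nat.card {c : ConjClasses P // ∃ g : P, ConjClasses.mk g = c ∧ g ^ 2 = 1} := by
  have hfib := Finset.sum_fiberwise (Finset.univ : Finset P) (ConjClasses.mk : P → ConjClasses P)
    (fun g => if g ^ 2 = 1 then Nat.card {y : P // Commute g y} else 0)
  rw [← hfib]
  have hbound : ∀ c : ConjClasses P,
      (∑ g ∈ (Finset.univ : Finset P) with ConjClasses.mk g = c,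
        (if g ^ 2 = 1 then Nat.card {y : P // Commute g y} else 0)) ≤
      if (∃ g : P, ConjClasses.mk g = c ∧ g ^ 2 = 1) then Nat.card P else 0 := by
    intro c
    split_ifs with hc
    · obtain ⟨g₀, hg₀, -⟩ := hc
      calc (∑ g ∈ (Finset.univ : Finset P) with ConjClasses.mk g = c,
            (if g ^ 2 = 1 then Nat.card {y : P // Commute g y} else 0))
          ≤ ∑ g ∈ (Finset.univ : Finset P) with ConjClasses.mk g = c,
              Nat.card {y : P // Commute g₀ y} := by
            apply Finset.sum_le_sum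
            intro g hg
            rw [Finset.mem_filter] at hg
            have hconj : IsConj g g₀ := by
              rw [← ConjClasses.mk_eq_mk_iff_isConj, hg.2, hg₀]
            split_ifs
            · exact le_of_eq (card_commute_conj g g₀ hconj)
            · exact Nat.zero_le _
        _ = Nat.card {g : P // ConjClasses.mk g = ConjClasses.mk g₀} *
              Nat.card {y : P // Commute g₀ y} := by
            rw [Finset.sum_const, smul_eq_mul, hg₀]
            congr 1
            rw [Nat.card_eq_fintype_card, Fintype.card_subtype]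
        _ = Nat.card P := card_class_mul g₀
    · apply le_of_eq
      apply Finset.sum_eq_zero
      intro g hg
      rw [Finset.mem_filter] at hg
      rw [if_neg]
      intro hg2
      exact hc ⟨g, hg.2, hg2⟩
  calc (∑ c : ConjClasses P, ∑ g ∈ (Finset.univ : Finset P) with ConjClasses.mk g = c,
        (if g ^ 2 = 1 then Nat.card {y : P // Commute g y} else 0))
      ≤ ∑ c : ConjClasses P, if (∃ g : P, ConjClasses.mk g = c ∧ g ^ 2 = 1) then Nat.card P else 0 :=
        Finset.sum_le_sum (fun c _ => hbound c)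
    _ = Nat.card P * Nat.card {c : ConjClasses P // ∃ g : P, ConjClasses.mk g = c ∧ g ^ 2 = 1} := by
        rw [← Finset.sum_filter, Finset.sum_const, smul_eq_mul, mul_comm]
        congr 1
        rw [Nat.card_eq_fintype_card, Fintype.card_subtype]




/-- The number of classes of elements with `g² = 1` is at most `s + 1`. -/
theorem card_real_classes_le {P : Type*} [Group P] [Finite P] :
    Nat.card {c : ConjClasses P // ∃ g : P, ConjClasses.mk g = c ∧ g ^ 2 = 1} ≤
      Nat.card {c : ConjClasses P // ∃ y : P, ConjClasses.mk y = c ∧ orderOf y = 2} + 1 := by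
  rw [← Finite.card_option]
  let f : {c : ConjClasses P // ∃ g : P, ConjClasses.mk g = c ∧ g ^ 2 = 1} →
      Option {c : ConjClasses P // ∃ y : P, ConjClasses.mk y = c ∧ orderOf y = 2} := fun c =>
    if h : ∃ y : P, ConjClasses.mk y = c.1 ∧ orderOf y = 2 then some ⟨c.1, h⟩ else none
  apply Nat.card_le_card_of_injective f
  intro c c' hcc
  apply Subtype.ext
  by_cases h : ∃ y : P, ConjClasses.mk y = c.1 ∧ orderOf y = 2
  · by_cases h' : ∃ y : P, ConjClasses.mk y = c'.1 ∧ orderOf y = 2
    · simp only [f, dif_pos h, dif_pos h', Option.some.injEq, Subtype.mk.injEq] at hcc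
      exact hcc
    · simp only [f, dif_pos h, dif_neg h'] at hcc
      exact absurd hcc (by simp)
  · by_cases h' : ∃ y : P, ConjClasses.mk y = c'.1 ∧ orderOf y = 2
    · simp only [f, dif_neg h, dif_pos h'] at hcc
      exact absurd hcc (by simp)
    · -- both are the class of 1
      have key : ∀ d : {c : ConjClasses P // ∃ g : P, ConjClasses.mk g = c ∧ g ^ 2 = 1},
          (¬ ∃ y : P, ConjClasses.mk y = d.1 ∧ orderOf y = 2) → d.1 = ConjClasses.mk 1 := by
        intro d hd
        obtain ⟨g, hg, hg2⟩ := d.2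
        have h1 : orderOf g ∣ 2 := orderOf_dvd_of_pow_eq_one hg2
        rcases (Nat.dvd_prime Nat.prime_two).1 h1 with h2 | h2
        · rw [orderOf_eq_one_iff] at h2
          rw [← hg, h2]
        · exact absurd ⟨g, hg, h2⟩ hd
      rw [key c h, key c' h']


theorem sum_sqrtCount {P : Type*} [Group P] [Fintype P] : ∑ z : P, sqrtCount z = Nat.card P := by
  have e : P ≃ Σ z : P, {x : P // x ^ 2 = z} :=
    { toFun := fun x => ⟨x ^ 2, x, rfl⟩
      invFun := fun s => s.2.1
      left_inv := fun x => rfl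
      right_inv := by
        rintro ⟨z, x, hx⟩
        subst hx
        rfl }
  rw [Nat.card_congr e, Nat.card_sigma]
  rfl


theorem part1 {P : Type*} [Group P] [Finite P] (hP : IsPGroup 2 P)
    (hirr : ∀ y : P, Subgroup.normalizer ((Subgroup.zpowers y : Subgroup P) : Set P) ≤ Subgroup.centralizer {y}) :
    Nat.card (P ⧸ frattini P) ≤ Nat.card {c : ConjClasses P // ∃ y : P, ConjClasses.mk y = c ∧ orderOf y = 2} + 1 := by
  haveI : Fintype P := Fintype.ofFinite P
  haveI : Fact (Nat.Prime 2) := ⟨Nat.prime_two⟩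
  refine le_trans ?_ card_real_classes_le
  set k' := Nat.card {c : ConjClasses P // ∃ g : P, ConjClasses.mk g = c ∧ g ^ 2 = 1} with hk'
  -- the key inequality N₂ ≤ |P| k'
  have hN2 : ∑ z : P, sqrtCount z ^ 2 ≤ Nat.card P * k' := by
    rw [← card_sq_pairs, card_sq_pairs_eq,
      card_pairs_eq_sum_left (fun (g x : P) => x * g * x⁻¹ = g⁻¹)]
    simp only [card_inverting hirr]
    exact sum_real_le
  -- support in the Frattini subgroup
  have hsupp : ∀ z : P, z ∉ frattini P → sqrtCount z = 0 := by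
    intro z hz
    rw [sqrtCount, Nat.card_eq_zero]
    left
    constructor
    rintro ⟨x, hx⟩
    apply hz
    rw [← hx]
    exact Cfsg.Agent.Lib.Helper1.pow_prime_mem_frattini_of_isPGroup 2 hP x
  set Φ : Finset P := Finset.univ.filter (fun z => z ∈ frattini P) with hΦ
  have hΦcard : Φ.card = Nat.card (frattini P) := by
    rw [hΦ, Nat.card_eq_fintype_card, Fintype.card_subtype]
  have hsum1 : ∑ z ∈ Φ, sqrtCount z = Nat.card P := by
    rw [← sum_sqrtCount, hΦ, Finset.sum_filter]
    apply Finset.sum_congr rfl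
    intro z _
    split_ifs with hz
    · rfl
    · exact (hsupp z hz).symm
  have hsum2 : ∑ z ∈ Φ, sqrtCount z ^ 2 ≤ ∑ z : P, sqrtCount z ^ 2 :=
    Finset.sum_le_sum_of_subset (Finset.subset_univ _)
  have hCS : (∑ z ∈ Φ, sqrtCount z) ^ 2 ≤ Φ.card * ∑ z ∈ Φ, sqrtCount z ^ 2 :=
    sq_sum_le_card_mul_sum_sq
  rw [hsum1, hΦcard] at hCS
  have h1 : Nat.card P ^ 2 ≤ Nat.card (frattini P) * (Nat.card P * k') :=
    hCS.trans (Nat.mul_le_mul_left _ (hsum2.trans hN2))
  have hPpos : 0 < Nat.card P := Nat.card_pos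
  have h2 : Nat.card P ≤ Nat.card (frattini P) * k' := by
    have : Nat.card P * Nat.card P ≤ Nat.card P * (Nat.card (frattini P) * k') := by
      calc Nat.card P * Nat.card P = Nat.card P ^ 2 := (sq _).symm
        _ ≤ Nat.card (frattini P) * (Nat.card P * k') := h1
        _ = Nat.card P * (Nat.card (frattini P) * k') := by ring
    exact Nat.le_of_mul_le_mul_left this hPpos
  have h3 : Nat.card (frattini P) * (frattini P).index = Nat.card P := Subgroup.card_mul_index _
  rw [← Subgroup.index_eq_card]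
  have hΦpos : 0 < Nat.card (frattini P) := Nat.card_pos
  rw [← h3] at h2
  exact Nat.le_of_mul_le_mul_left h2 hΦpos


theorem part2 {P : Type*} [Group P] [Finite P] :
    Nat.card {c : ConjClasses P // ∃ y : P, ConjClasses.mk y = c ∧ orderOf y = 2} + 1 ≤
      Nat.card (Subgroup.closure {y : P | orderOf y = 2}) := by
  rw [← Finite.card_option]
  -- choose a representative involution for each class
  let f : Option {c : ConjClasses P // ∃ y : P, ConjClasses.mk y = c ∧ orderOf y = 2} →
      Subgroup.closure {y : P | orderOf y = 2} := fun o =>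
    match o with
    | none => 1
    | some c => ⟨c.2.choose, Subgroup.subset_closure c.2.choose_spec.2⟩
  apply Nat.card_le_card_of_injective f
  intro o o' hoo
  cases o with
  | none =>
    cases o' with
    | none => rfl
    | some c' =>
      exfalso
      have h1 : (1 : P) = c'.2.choose := congrArg Subtype.val hoo
      have h2 := c'.2.choose_spec.2
      rw [← h1, orderOf_one] at h2
      omega
  | some c =>
    cases o' with
    | none =>
      exfalso
      have h1 : c.2.choose = (1 : P) := congrArg Subtype.val hoo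
      have h2 := c.2.choose_spec.2
      rw [h1, orderOf_one] at h2
      omega
    | some c' =>
      have h1 : c.2.choose = c'.2.choose := congrArg Subtype.val hoo
      have h2 := c.2.choose_spec.1
      have h3 := c'.2.choose_spec.1
      congr 1
      apply Subtype.ext
      rw [← h2, ← h3, h1]


theorem main {P : Type*} [Group P] [Finite P] (hP : IsPGroup 2 P)
    (hirr : ∀ y : P, Subgroup.normalizer ((Subgroup.zpowers y : Subgroup P) : Set P) ≤ Subgroup.centralizer {y}) :
    Nat.card (P ⧸ frattini P) ≤ Nat.card {c : ConjClasses P // ∃ y : P, ConjClasses.mk y = c ∧ orderOf y = 2} + 1 ∧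
    Nat.card (P ⧸ frattini P) ≤ Nat.card (Subgroup.closure {y : P | orderOf y = 2}) :=
  ⟨part1 hP hirr, (part1 hP hirr).trans part2⟩





/-- Let P be a finite 2-group in which N_P(⟨y⟩) = C_P(y) for every y ∈ P. If s is the number of conjugacy classes of involutions of P, then #(P/Φ(P)) ≤ s + 1; in particular the subgroup generated by the involutions of P has order at least #(P/Φ(P)). -/
theorem result {P : Type*} [Group P] [Finite P] (hP : IsPGroup 2 P)
    (hirr : ∀ y : P, Subgroup.normalizer ((Subgroup.zpowers y : Subgroup P) : Set P) ≤ Subgroup.centralizer {y}) :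
    Nat.card (P ⧸ frattini P) ≤ Nat.card {c : ConjClasses P // ∃ y : P, ConjClasses.mk y = c ∧ orderOf y = 2} + 1 ∧
    Nat.card (P ⧸ frattini P) ≤ Nat.card (Subgroup.closure {y : P | orderOf y = 2}) := by
  exact main hP hirr

end Cfsg.Agent.S4029
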