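import Cfsg.Statements.S4034
import Cfsg.Agent.Lib.Helper3.PRegClass

set_option autoImplicit false
open Cfsg

namespace Cfsg.Agent.S4034

/-- Let G be a finite group and p a prime. Every conjugacy class of p-regular elements of G (elements of order prime to p) has p-power size if and only if G has an abelian p-complement, i.e. an abelian subgroup of order prime to p and p-power index. -/
theorem result {G : Type*} [Group G] [Finite G] {p : ℕ} (hp : p.Prime) :
    (∀ x : G, (orderOf x).Coprime p → ∃ k : ℕ, (ConjClasses.mk x).carrier.ncard = p ^ k) ↔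
    (∃ H : Subgroup G, IsMulCommutative H ∧ ¬ p ∣ Nat.card H ∧ ∃ k : ℕ, H.index = p ^ k) := by
  constructor
  · intro h
    have hG : Cfsg.Agent.Lib.Helper3.PRegClass.Hyp p G := fun x hx => by
      obtain ⟨k, hk⟩ := h x hx
      exact ⟨k, by rw [← Cfsg.Agent.Lib.Helper4.card_carrier_eq_index, Nat.card_coe_set_eq, hk]⟩
    obtain ⟨H, hab, hc, hk⟩ := Cfsg.Agent.Lib.Helper3.PRegClass.exists_abelian_complement hp hG
    refine ⟨H, ⟨⟨fun a b => Subtype.ext (hab a a.2 b b.2)⟩⟩, ?_, hk⟩
    exact (Nat.Prime.coprime_iff_not_dvd hp).mp hc.symm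
  · rintro ⟨H, hcomm, _, hk⟩ x hx
    have hab : ∀ a ∈ H, ∀ b ∈ H, a * b = b * a := fun a ha b hb => by
      have := hcomm.is_comm.comm (⟨a, ha⟩ : H) ⟨b, hb⟩
      exact congrArg Subtype.val this
    obtain ⟨k, hk'⟩ :=
      Cfsg.Agent.Lib.Helper3.PRegClass.index_centralizer_of_abelian_complement hp H hab hk x hx
    exact ⟨k, by rw [← Nat.card_coe_set_eq, Cfsg.Agent.Lib.Helper4.card_carrier_eq_index, hk']⟩

end Cfsg.Agent.S4034
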