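import Cfsg.Statements.S4035
import Mathlib
import Cfsg.Agent.Lib.Helper3.ConjCover
import Cfsg.Agent.Lib.Helper3.Irrational
import Cfsg.Agent.Lib.Helper3.Fitting
import Cfsg.Agent.Lib.Helper4.ConjClass

set_option autoImplicit false
open Cfsg
open Pointwise
open Cfsg.Agent.Lib.Helper3

namespace Cfsg.Agent.S4035


/-- If `p ∤ [G : C]`, a `p`-element `a` of `C` lies in a Sylow `p`-subgroup of `G` contained in `C`. -/
theorem exists_sylow_le_of_not_dvd_index {G : Type*} [Group G] [Finite G] {p : ℕ} [Fact p.Prime]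
    (C : Subgroup G) (hC : ¬ p ∣ C.index) (a : G) (haC : a ∈ C) (k : ℕ) (hak : orderOf a = p ^ k) :
    ∃ Q : Sylow p G, a ∈ (Q : Subgroup G) ∧ (Q : Subgroup G) ≤ C := by
  have hp : p.Prime := Fact.out
  set a' : ↥C := ⟨a, haC⟩ with ha'
  have hpa : IsPGroup p (Subgroup.zpowers a') := by
    apply IsPGroup.of_card (n := k)
    rw [Nat.card_zpowers, ha', Subgroup.orderOf_mk, hak]
  obtain ⟨R, hR⟩ := hpa.exists_le_sylow
  set Q₀ : Subgroup G := (R : Subgroup ↥C).map C.subtype with hQ₀
  have hfac : (Nat.card G).factorization p = (Nat.card C).factorization p := by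
    rw [← Subgroup.card_mul_index C, Nat.factorization_mul Nat.card_pos.ne' (Subgroup.index_ne_zero_of_finite)]
    simp [Nat.factorization_eq_zero_of_not_dvd hC]
  have hcard : Nat.card Q₀ = p ^ (Nat.card G).factorization p := by
    rw [hQ₀, Subgroup.card_map_of_injective C.subtype_injective, hfac]
    exact R.card_eq_multiplicity
  refine ⟨Sylow.ofCard Q₀ hcard, ?_, ?_⟩
  · rw [Sylow.coe_ofCard]
    exact ⟨a', hR (Subgroup.mem_zpowers a'), rfl⟩
  · rw [Sylow.coe_ofCard, hQ₀]
    exact Subgroup.map_subtype_le _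

/-- Let G be a finite group and p a prime such that p divides the size of no conjugacy class of p-regular elements (elements of order prime to p). Then G is the internal direct product of a Sylow p-subgroup P and a normal subgroup H of order prime to p: P is normal, P ⊓ H = 1 and PH = G. -/
theorem result {G : Type*} [Group G] [Finite G] {p : ℕ} [Fact p.Prime]
    (h : ∀ x : G, (orderOf x).Coprime p → ¬ p ∣ (ConjClasses.mk x).carrier.ncard) (P : Sylow p G) :
    (P : Subgroup G).Normal ∧ ∃ H : Subgroup G, H.Normal ∧ ¬ p ∣ Nat.card H ∧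
      (P : Subgroup G) ⊓ H = ⊥ ∧ (P : Subgroup G) ⊔ H = ⊤ := by
  have hp : p.Prime := Fact.out
  have hidx : ∀ x : G, (orderOf x).Coprime p → ¬ p ∣ (Subgroup.centralizer ({x} : Set G)).index := by
    intro x hx
    have := h x hx
    rwa [← Nat.card_coe_set_eq, Cfsg.Agent.Lib.Helper4.card_carrier_eq_index] at this
  set C := Subgroup.centralizer ((P : Subgroup G) : Set G) with hCdef
  set T := (P : Subgroup G) ⊔ C with hT
  -- every element lies in a conjugate of T
  have hcover : ∀ y : G, ∃ c : G, c⁻¹ * y * c ∈ T := by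
    intro y
    set n := orderOf y with hn
    have hn0 : n ≠ 0 := (orderOf_pos y).ne'
    set k := n.factorization p with hk
    set m := n / p ^ k with hm
    have hnkm : n = p ^ k * m := (Nat.ordProj_mul_ordCompl_eq_self n p).symm
    have hcop : Nat.Coprime p m := Nat.coprime_ordCompl hp hn0
    have hm0 : m ≠ 0 := by
      rintro h0; rw [h0, mul_zero] at hnkm; exact hn0 hnkm
    set a := y ^ m with ha
    set b := y ^ p ^ k with hb
    have hoa : orderOf a = p ^ k := by
      rw [ha, orderOf_pow_of_dvd hm0 ⟨p ^ k, by rw [← hn, hnkm, mul_comm]⟩, ← hn, hnkm]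
      exact Nat.mul_div_cancel _ (Nat.pos_of_ne_zero hm0)
    have hob : orderOf b = m := by
      rw [hb, orderOf_pow_of_dvd (pow_ne_zero _ hp.ne_zero) ⟨m, by rw [← hn, hnkm]⟩, ← hn, hnkm]
      exact Nat.mul_div_cancel_left _ (pow_pos hp.pos k)
    have hbreg : (orderOf b).Coprime p := by rw [hob]; exact hcop.symm
    have hab : a ∈ Subgroup.centralizer ({b} : Set G) := by
      rw [Subgroup.mem_centralizer_singleton_iff]
      exact ((Commute.refl y).pow_pow m (p ^ k)).eq
    obtain ⟨Q, haQ, hQb⟩ := exists_sylow_le_of_not_dvd_index _ (hidx b hbreg) a hab k hoa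
    obtain ⟨c, hc⟩ := MulAction.exists_smul_eq G P Q
    have hmemQ : ∀ u : G, u ∈ (Q : Subgroup G) ↔ c⁻¹ * u * c ∈ (P : Subgroup G) := by
      intro u
      rw [← hc, Sylow.coe_subgroup_smul, Subgroup.mem_pointwise_smul_iff_inv_smul_mem]
      simp [MulAut.smul_def]
    refine ⟨c, ?_⟩
    apply mem_of_pow_mem_of_pow_mem_coprime T (c⁻¹ * y * c) m (p ^ k)
    · exact (Nat.Coprime.pow_left k hcop).symm
    · have : (c⁻¹ * y * c) ^ m = c⁻¹ * a * c := by
        have e : c⁻¹ * y * c = c⁻¹ * y * c⁻¹⁻¹ := by rw [inv_inv]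
        rw [e, conj_pow, inv_inv]
      rw [this]
      exact Subgroup.mem_sup_left ((hmemQ a).1 haQ)
    · have : (c⁻¹ * y * c) ^ p ^ k = c⁻¹ * b * c := by
        have e : c⁻¹ * y * c = c⁻¹ * y * c⁻¹⁻¹ := by rw [inv_inv]
        rw [e, conj_pow, inv_inv]
      rw [this]
      apply Subgroup.mem_sup_right
      rw [hCdef, Subgroup.mem_centralizer_iff]
      intro u hu
      have h1 : c * u * c⁻¹ ∈ (Q : Subgroup G) := by
        rw [hmemQ]
        have : c⁻¹ * (c * u * c⁻¹) * c = u := by group
        rw [this]; exact hu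
      have h2 := hQb h1
      rw [Subgroup.mem_centralizer_singleton_iff] at h2
      calc u * (c⁻¹ * b * c) = c⁻¹ * ((c * u * c⁻¹) * b) * c := by group
        _ = c⁻¹ * (b * (c * u * c⁻¹)) * c := by rw [h2]
        _ = c⁻¹ * b * c * u := by group
  have hTtop : T = ⊤ := eq_top_of_conj_cover T hcover
  -- P is normal
  have hPn : (P : Subgroup G).Normal := by
    apply Subgroup.normalizer_eq_top_iff.1
    rw [eq_top_iff, ← hTtop, hT]
    apply sup_le Subgroup.le_normalizer
    intro c hc
    rw [Subgroup.mem_normalizer_iff]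
    intro u
    have hcomm : ∀ v ∈ (P : Subgroup G), c * v * c⁻¹ = v := by
      intro v hv
      have := Subgroup.mem_centralizer_iff.1 hc v hv
      calc c * v * c⁻¹ = (v * c) * c⁻¹ := by rw [this]
        _ = v := by group
    constructor
    · intro hu; rw [hcomm u hu]; exact hu
    · intro hu
      have h1 := hcomm _ hu
      have h2 : c * (c * u * c⁻¹) * c⁻¹ = c * u * c⁻¹ := h1
      have h3 : c * u * c⁻¹ = u := by
        calc c * u * c⁻¹ = c⁻¹ * (c * (c * u * c⁻¹) * c⁻¹) * c := by group
          _ = c⁻¹ * (c * u * c⁻¹) * c := by rw [h2]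
          _ = u := by group
      rw [← h3]; exact hu
  refine ⟨hPn, ?_⟩
  -- Schur–Zassenhaus complement
  haveI := hPn
  have hcopP : Nat.Coprime (Nat.card (P : Subgroup G)) (P : Subgroup G).index := by
    obtain ⟨j, hj⟩ := IsPGroup.iff_card.1 P.2
    rw [hj]
    apply Nat.Coprime.pow_left
    exact (Nat.Prime.coprime_iff_not_dvd hp).2 P.not_dvd_index
  obtain ⟨H, hH⟩ := Subgroup.exists_right_complement'_of_coprime hcopP
  have hHcard : Nat.card H = (P : Subgroup G).index := hH.symm.index_eq_card.symm
  have hHp : ¬ p ∣ Nat.card H := by rw [hHcard]; exact P.not_dvd_index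
  -- H centralizes P
  have hHC : H ≤ C := by
    intro x hx
    have hxT : x ∈ T := by rw [hTtop]; trivial
    have hPC : (P : Subgroup G) ≤ Subgroup.normalizer ((C : Subgroup G) : Set G) := by
      haveI : C.Normal := by rw [hCdef]; infer_instance
      rw [Subgroup.normalizer_eq_top]; exact le_top
    have hmul : x ∈ ((P : Subgroup G) : Set G) * (C : Set G) := by
      have : ((T : Subgroup G) : Set G) = ((P : Subgroup G) : Set G) * (C : Set G) := by
        rw [hT]
        haveI : C.Normal := by rw [hCdef]; infer_instance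
        exact Subgroup.mul_normal (P : Subgroup G) C
      rw [← this]; exact hxT
    obtain ⟨a, ha, c, hc, hac⟩ := hmul
    have hcomm : Commute a c := by
      have := Subgroup.mem_centralizer_iff.1 hc a ha
      exact this
    obtain ⟨j, hj⟩ := IsPGroup.iff_card.1 P.2
    have haj : a ^ p ^ j = 1 := by
      have := pow_card_eq_one' (G := (P : Subgroup G)) (x := ⟨a, ha⟩)
      rw [hj] at this
      have := congrArg Subtype.val this
      simpa using this
    have hxj : x ^ p ^ j ∈ C := by
      rw [← hac]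
      simp only
      rw [hcomm.mul_pow, haj, one_mul]
      exact C.pow_mem hc _
    apply Cfsg.Agent.Lib.Helper3.mem_of_pow_mem_of_coprime C x (p ^ j) _ hxj
    apply Nat.Coprime.pow_left
    have hox : orderOf x ∣ Nat.card H := by
      have := orderOf_dvd_natCard (⟨x, hx⟩ : H)
      rwa [Subgroup.orderOf_mk] at this
    exact Nat.Coprime.coprime_dvd_right hox ((Nat.Prime.coprime_iff_not_dvd hp).2 hHp)
  have hHn : H.Normal := by
    apply Subgroup.normalizer_eq_top_iff.1
    rw [eq_top_iff, ← hH.sup_eq_top]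
    apply sup_le _ Subgroup.le_normalizer
    intro u hu
    rw [Subgroup.mem_normalizer_iff]
    intro v
    have hcomm : ∀ w ∈ H, u * w * u⁻¹ = w := by
      intro w hw
      have := Subgroup.mem_centralizer_iff.1 (hHC hw) u hu
      calc u * w * u⁻¹ = (w * u) * u⁻¹ := by rw [this]
        _ = w := by group
    constructor
    · intro hv; rw [hcomm v hv]; exact hv
    · intro hv
      have h2 := hcomm _ hv
      have h3 : u * v * u⁻¹ = v := by
        calc u * v * u⁻¹ = u⁻¹ * (u * (u * v * u⁻¹) * u⁻¹) * u := by group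
          _ = u⁻¹ * (u * v * u⁻¹) * u := by rw [h2]
          _ = v := by group
      rw [← h3]; exact hv
  exact ⟨H, hHn, hHp, hH.disjoint.eq_bot, hH.sup_eq_top⟩

end Cfsg.Agent.S4035
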