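import Cfsg.Statements.S4036
import Mathlib

set_option autoImplicit false
open Cfsg

namespace Cfsg.Agent.S4036

/-- Let P be a finite abelian p-group and K a group of automorphisms of P (a subgroup of Aut P) whose order is divisible by p. If all non-identity elements of K have the same fixed-point subgroup on P, then K has no non-trivial normal subgroup of order prime to p. -/
theorem result {P : Type*} [CommGroup P] [Finite P] {p : ℕ}
    [Fact p.Prime] (hP : IsPGroup p P) (K : Subgroup (MulAut P)) (hK : p ∣ Nat.card K)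
    (hfix : ∀ x y : MulAut P, x ∈ K → y ∈ K → x ≠ 1 → y ≠ 1 → ∀ v : P, x v = v ↔ y v = v) :
    ∀ N : Subgroup ↥K, N.Normal → ¬ p ∣ Nat.card N → N = ⊥ := by
  classical
  intro N hN hpN
  by_contra hne
  -- M = image of N in MulAut P
  set M : Subgroup (MulAut P) := N.map K.subtype with hM
  have hMK : M ≤ K := by
    rintro _ ⟨n, _, rfl⟩; exact n.2
  have hMcard : Nat.card M = Nat.card N :=
    Subgroup.card_map_of_injective K.subtype_injective
  have hMnorm : ∀ k ∈ K, ∀ m ∈ M, k * m * k⁻¹ ∈ M := by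
    rintro k hk _ ⟨n, hn, rfl⟩
    exact ⟨⟨k, hk⟩ * n * ⟨k, hk⟩⁻¹, hN.conj_mem n hn ⟨k, hk⟩, rfl⟩
  obtain ⟨m₀, hm₀M, hm₀⟩ : ∃ m₀ ∈ M, m₀ ≠ 1 := by
    have hMne : M ≠ ⊥ := by
      intro h; apply hne
      exact (Subgroup.map_eq_bot_iff_of_injective N K.subtype_injective).1 h
    exact (Subgroup.ne_bot_iff_exists_ne_one).1 hMne |> fun ⟨a, ha⟩ => ⟨a.1, a.2, fun h => ha (Subtype.ext h)⟩
  obtain ⟨xK, hxK⟩ := exists_prime_orderOf_dvd_card' p hK
  set x : MulAut P := (xK : MulAut P) with hx
  have hxK' : x ∈ K := xK.2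
  have hp : p.Prime := Fact.out
  have hx1 : x ≠ 1 := by
    intro h
    have : xK = 1 := Subtype.ext h
    rw [this, orderOf_one] at hxK
    exact hp.ne_one hxK.symm
  letI : Fintype M := Fintype.ofFinite M
  let τ : P →* P := ∏ m : M, ((m : MulAut P).toMonoidHom)
  have hτ : ∀ v, τ v = ∏ m : M, (m : MulAut P) v := by
    intro v; simp [τ, MonoidHom.finset_prod_apply]
  -- equivariance
  have h1 : ∀ k ∈ K, ∀ v, k (τ v) = τ (k v) := by
    intro k hk v
    rw [hτ, hτ, map_prod]
    let e : M ≃ M :=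
      { toFun := fun m => ⟨k * m * k⁻¹, hMnorm k hk m m.2⟩
        invFun := fun m => ⟨k⁻¹ * m * k, by simpa using hMnorm k⁻¹ (K.inv_mem hk) m m.2⟩
        left_inv := fun m => Subtype.ext (by simp [mul_assoc])
        right_inv := fun m => Subtype.ext (by simp [mul_assoc]) }
    rw [← Equiv.prod_comp e (fun m => (m : MulAut P) (k v))]
    apply Finset.prod_congr rfl
    intro m _
    simp [e, MulAut.mul_apply]
  -- invariance under M
  have h2 : ∀ m ∈ M, ∀ v, m (τ v) = τ v := by
    intro m hm v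
    rw [hτ, map_prod]
    let e : M ≃ M := Equiv.mulLeft ⟨m, hm⟩
    rw [← Equiv.prod_comp e (fun m => (m : MulAut P) v)]
    apply Finset.prod_congr rfl
    intro m' _
    simp [e, MulAut.mul_apply]
  -- x fixes τ v
  have h3 : ∀ v, x (τ v) = τ v := by
    intro v
    exact (hfix x m₀ hxK' (hMK hm₀M) hx1 hm₀ (τ v)).2 (h2 m₀ hm₀M v)
  -- on fixed points of x, τ is the power map
  have h4 : ∀ v, x v = v → τ v = v ^ Nat.card M := by
    intro v hv
    rw [hτ]
    have : ∀ m : M, (m : MulAut P) v = v := by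
      intro m
      by_cases hm1 : (m : MulAut P) = 1
      · rw [hm1]; rfl
      · exact (hfix x m hxK' (hMK m.2) hx1 hm1 v).1 hv
    rw [Finset.prod_congr rfl (fun m _ => this m), Finset.prod_const, Finset.card_univ,
      Nat.card_eq_fintype_card]
  -- the kernel Q of τ
  set Q : Subgroup P := τ.ker with hQ
  have hQinv : ∀ k : ↥K, ∀ v : P, v ∈ Q → (k : MulAut P) v ∈ Q := by
    intro k v hv
    rw [hQ, MonoidHom.mem_ker] at hv ⊢
    rw [← h1 k k.2 v, hv, map_one]
  have hQbot : Q = ⊥ := by
    by_contra hQne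
    letI : MulAction ↥(Subgroup.zpowers xK) ↥Q :=
      { smul := fun g v => ⟨((g : ↥K) : MulAut P) v, hQinv g v v.2⟩
        one_smul := fun v => Subtype.ext (by
          change ((1 : ↥K) : MulAut P) v = v
          simp)
        mul_smul := fun g h v => Subtype.ext (by
          change (((g : ↥K) * (h : ↥K) : ↥K) : MulAut P) v = ((g : ↥K) : MulAut P) (((h : ↥K) : MulAut P) v)
          simp [MulAut.mul_apply]) }
    have hpg : IsPGroup p ↥(Subgroup.zpowers xK) := by
      apply IsPGroup.of_card (n := 1)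
      rw [Nat.card_zpowers, hxK, pow_one]
    have hQp : IsPGroup p Q := hP.to_subgroup Q
    have hdvd : p ∣ Nat.card Q := by
      obtain ⟨n, hn⟩ := IsPGroup.iff_card.1 hQp
      rw [hn]
      cases n with
      | zero =>
        exfalso; apply hQne
        rw [pow_zero] at hn
        exact Subgroup.eq_bot_of_card_eq Q hn
      | succ n => exact dvd_pow_self p (Nat.succ_ne_zero n)
    have hfix1 : (1 : ↥Q) ∈ MulAction.fixedPoints ↥(Subgroup.zpowers xK) ↥Q := by
      intro g
      apply Subtype.ext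
      change ((g : ↥K) : MulAut P) 1 = 1
      simp
    obtain ⟨b, hb, hb1⟩ := hpg.exists_fixed_point_of_prime_dvd_card_of_fixed_point ↥Q hdvd hfix1
    have hxb : x (b : P) = b := by
      have := hb ⟨xK, Subgroup.mem_zpowers xK⟩
      exact congrArg Subtype.val this
    have h5 := h4 b hxb
    have h6 : τ (b : P) = 1 := b.2
    rw [h6] at h5
    -- b is a p-element with b^|M| = 1, |M| coprime to p
    obtain ⟨j, hj⟩ := hP (b : P)
    have hcop : (Nat.card M).Coprime (p ^ j) := by
      apply Nat.Coprime.pow_right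
      rw [hMcard]
      exact (Nat.Coprime.symm ((Nat.Prime.coprime_iff_not_dvd hp).2 hpN))
    have hb1' : (b : P) = 1 := by
      have hd1 : orderOf (b : P) ∣ Nat.card M := orderOf_dvd_of_pow_eq_one h5.symm
      have hd2 : orderOf (b : P) ∣ p ^ j := orderOf_dvd_of_pow_eq_one hj
      have := Nat.eq_one_of_dvd_coprimes hcop hd1 hd2
      exact orderOf_eq_one_iff.1 this
    exact hb1 (Subtype.ext hb1'.symm)
  -- so τ is injective and x = 1
  apply hx1
  ext v
  have h7 : τ (x v) = τ v := by rw [← h1 x hxK' v, h3]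
  have h8 : x v * v⁻¹ ∈ Q := by
    rw [hQ, MonoidHom.mem_ker, map_mul, map_inv, h7, mul_inv_cancel]
  rw [hQbot, Subgroup.mem_bot] at h8
  simpa using mul_inv_eq_one.1 h8

end Cfsg.Agent.S4036
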