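import Cfsg.Statements.S4043
import Mathlib
import Cfsg.Agent.Lib.Helper3.PGroupFix
import Cfsg.Agent.Lib.Helper3.SZRel

set_option autoImplicit false
open Cfsg
open Pointwise
open Cfsg.Agent.Lib.Helper3

namespace Cfsg.Agent.S4043


/-- Data extracted from a normal `p`-complement of a subgroup `A` of `G`. -/
theorem exists_data_of_hasNormalPComplement {G : Type*} [Group G] [Finite G] {p : ℕ}
    [Fact p.Prime] (A : Subgroup G) (hAp : Cfsg.HasNormalPComplement p A) :
    ∃ K S : Subgroup G, K ≤ A ∧ S ≤ A ∧ IsPGroup p S ∧ (Nat.card K).Coprime p ∧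
      A ≤ Subgroup.normalizer ((K : Subgroup G) : Set G) ∧ K ⊔ S = A ∧
      Nat.card K * Nat.card S = Nat.card A ∧ Nat.card S = p ^ (Nat.card A).factorization p := by
  have hp : p.Prime := Fact.out
  obtain ⟨SA, KA, hKAn, hc⟩ := hAp
  refine ⟨KA.map A.subtype, (SA : Subgroup A).map A.subtype, Subgroup.map_subtype_le _,
    Subgroup.map_subtype_le _, SA.2.map _, ?_, ?_, ?_, ?_, ?_⟩
  · rw [Subgroup.card_map_of_injective A.subtype_injective]
    have : Nat.card KA = (SA : Subgroup A).index := hc.index_eq_card.symm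
    rw [this, Nat.coprime_comm]
    exact (Nat.Prime.coprime_iff_not_dvd hp).2 SA.not_dvd_index
  · intro a ha
    apply mem_normalizer_of_forall_conj_mem
    rintro _ ⟨k, hk, rfl⟩
    exact ⟨⟨a, ha⟩ * k * ⟨a, ha⟩⁻¹, hKAn.conj_mem k hk ⟨a, ha⟩, by simp⟩
  · rw [← Subgroup.map_sup, hc.sup_eq_top, ← MonoidHom.range_eq_map, Subgroup.range_subtype]
  · rw [Subgroup.card_map_of_injective A.subtype_injective,
      Subgroup.card_map_of_injective A.subtype_injective]
    exact hc.card_mul_card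
  · rw [Subgroup.card_map_of_injective A.subtype_injective]
    exact SA.card_eq_multiplicity

/-- Let G be a finite group that is the semidirect product of a normal p-subgroup N by a subgroup A, and also of N by a subgroup A₁, where p is a prime and A and A₁ both have normal p-complements. If C_N(A) = C_N(A₁) = 1, then A₁ is conjugate to A by an element of N. -/
theorem result {G : Type*} [Group G] [Finite G] {p : ℕ}
    [Fact p.Prime] (N : Subgroup G) [N.Normal] (hN : IsPGroup p N) (A A₁ : Subgroup G)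
    (hA : A.IsComplement' N) (hA₁ : A₁.IsComplement' N)
    (hAp : Cfsg.HasNormalPComplement p A) (hA₁p : Cfsg.HasNormalPComplement p A₁)
    (hC : ∀ n : G, n ∈ N → (∀ a : G, a ∈ A → a * n * a⁻¹ = n) → n = 1)
    (hC₁ : ∀ n : G, n ∈ N → (∀ a : G, a ∈ A₁ → a * n * a⁻¹ = n) → n = 1) :
    ∃ n : G, n ∈ N ∧ A₁ = A.map (MulAut.conj n).toMonoidHom := by
  have hp : p.Prime := Fact.out
  obtain ⟨K, S, hKA, hSA, hSp, hKp, hAK, hKS, hcardKS, hcardS⟩ :=
    exists_data_of_hasNormalPComplement A hAp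
  obtain ⟨K₁, S₁, hKA₁, hSA₁, hSp₁, hKp₁, hAK₁, hKS₁, hcardKS₁, hcardS₁⟩ :=
    exists_data_of_hasNormalPComplement A₁ hA₁p
  -- cardinalities
  have hcardA : Nat.card A = Nat.card A₁ := by
    have h1 := hA.card_mul_card
    have h2 := hA₁.card_mul_card
    have hNpos : 0 < Nat.card N := Nat.card_pos
    exact Nat.eq_of_mul_eq_mul_right hNpos (h1.trans h2.symm)
  have hcardSS : Nat.card S = Nat.card S₁ := by rw [hcardS, hcardS₁, hcardA]
  have hcardKK : Nat.card K₁ = Nat.card K := by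
    have hSpos : 0 < Nat.card S := Nat.card_pos
    apply Nat.eq_of_mul_eq_mul_right hSpos
    rw [hcardKS]
    nth_rewrite 1 [hcardSS]
    rw [hcardKS₁, hcardA]
  -- M = K N is normal of p-power index
  have hKN : K ⊓ N = ⊥ := by
    have := hA.disjoint.eq_bot
    exact le_bot_iff.1 (this ▸ inf_le_inf_right N hKA)
  set M := K ⊔ N with hM
  have hMn : M.Normal := by
    apply Subgroup.normalizer_eq_top_iff.1
    rw [eq_top_iff, ← hA.sup_eq_top]
    apply sup_le
    · intro a ha
      apply mem_normalizer_of_forall_conj_mem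
      intro x hx
      have hxm : x ∈ ((N ⊔ K : Subgroup G) : Set G) := by rw [sup_comm]; exact hx
      rw [Subgroup.normal_mul] at hxm
      obtain ⟨n, hn, k, hk, rfl⟩ := hxm
      have e : a * (n * k) * a⁻¹ = (a * n * a⁻¹) * (a * k * a⁻¹) := by group
      rw [e, hM]
      apply Subgroup.mul_mem
      · exact Subgroup.mem_sup_right (Subgroup.Normal.conj_mem inferInstance n hn a)
      · exact Subgroup.mem_sup_left ((Subgroup.mem_normalizer_iff.1 (hAK ha) k).1 hk)
    · exact le_trans le_sup_right Subgroup.le_normalizer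
  have hMcard : Nat.card M = Nat.card K * Nat.card N := card_sup_of_inf_eq_bot K N hKN
  have hMidx : M.index = p ^ (Nat.card A).factorization p := by
    have h1 := Subgroup.card_mul_index M
    rw [hMcard, ← hA.card_mul_card, ← hcardKS] at h1
    have hpos : 0 < Nat.card K * Nat.card N := Nat.mul_pos Nat.card_pos Nat.card_pos
    rw [← hcardS]
    apply Nat.eq_of_mul_eq_mul_left hpos
    rw [h1]; ring
  have hK₁M : K₁ ≤ M := by
    haveI := hMn
    exact le_of_coprime_of_index_prime_pow p K₁ M _ hMidx hKp₁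
  -- conjugate K to K₁ by an element of N
  obtain ⟨k, hk⟩ := IsPGroup.iff_card.1 hN
  have hcopNK : (Nat.card N).Coprime (Nat.card K) := by
    rw [hk]
    exact (Nat.Coprime.pow_left k ((Nat.Prime.coprime_iff_not_dvd hp).2
      (fun h => by
        have := Nat.Coprime.eq_one_of_dvd hKp.symm h
        exact hp.ne_one this)))
  have hsolv : Group.IsSolvable N ∨ Group.IsSolvable K := by
    left
    haveI := hN.isNilpotent
    infer_instance
  obtain ⟨n, hnN, hn⟩ := sz_conj_rel N K K₁ hcopNK hK₁M hcardKK hsolv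
  refine ⟨n, hnN, ?_⟩
  -- A' = n A n⁻¹
  have hA'eq : A.map (MulAut.conj n).toMonoidHom = MulAut.conj n • A := rfl
  rw [hA'eq]
  set A' := MulAut.conj n • A with hA'
  have hA'card : Nat.card A' = Nat.card A :=
    (Nat.card_congr (Subgroup.equivSMul (MulAut.conj n) A).toEquiv).symm
  have hA'K₁ : A' ≤ Subgroup.normalizer ((K₁ : Subgroup G) : Set G) := by
    intro a ha
    rw [hA', mem_conj_smul_iff] at ha
    apply mem_normalizer_of_forall_conj_mem
    intro x hx
    rw [← hn, mem_conj_smul_iff] at hx ⊢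
    have := (Subgroup.mem_normalizer_iff.1 (hAK ha) _).1 hx
    have e : n⁻¹ * (a * x * a⁻¹) * n = n⁻¹ * a * n * (n⁻¹ * x * n) * (n⁻¹ * a * n)⁻¹ := by group
    rw [e]; exact this
  -- N ⊓ N(K₁) centralizes K₁
  have hK₁N : K₁ ⊓ N = ⊥ := by
    have := hA₁.disjoint.eq_bot
    exact le_bot_iff.1 (this ▸ inf_le_inf_right N hKA₁)
  have hcent : ∀ x : G, x ∈ N → x ∈ Subgroup.normalizer ((K₁ : Subgroup G) : Set G) →
      x ∈ Subgroup.centralizer ((K₁ : Subgroup G) : Set G) := by
    intro x hxN hxL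
    rw [Subgroup.mem_centralizer_iff]
    intro y hy
    have h1 : x * y * x⁻¹ * y⁻¹ ∈ K₁ ⊓ N := by
      refine ⟨K₁.mul_mem ((Subgroup.mem_normalizer_iff.1 hxL y).1 hy) (K₁.inv_mem hy), ?_⟩
      have e : x * y * x⁻¹ * y⁻¹ = x * (y * x⁻¹ * y⁻¹) := by group
      rw [e]
      exact N.mul_mem hxN (Subgroup.Normal.conj_mem inferInstance x⁻¹ (N.inv_mem hxN) y)
    rw [hK₁N, Subgroup.mem_bot] at h1
    calc y * x = (x * y * x⁻¹ * y⁻¹)⁻¹ * (x * y) := by group
      _ = x * y := by rw [h1]; simp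
  set N₀ := N ⊓ Subgroup.centralizer ((K₁ : Subgroup G) : Set G) with hN₀
  have hN₀bot : N₀ = ⊥ := by
    by_contra hne
    have hN₀p : IsPGroup p N₀ := hN.to_le inf_le_left
    have hS₁N₀ : S₁ ≤ Subgroup.normalizer ((N₀ : Subgroup G) : Set G) := by
      intro s hs
      have hsA₁ : s ∈ A₁ := hSA₁ hs
      apply mem_normalizer_of_forall_conj_mem
      intro x hx
      obtain ⟨hxN, hxC⟩ := Subgroup.mem_inf.1 hx
      refine Subgroup.mem_inf.2 ⟨Subgroup.Normal.conj_mem inferInstance x hxN s, ?_⟩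
      rw [Subgroup.mem_centralizer_iff] at hxC ⊢
      intro y hy
      have hy' : s⁻¹ * y * s ∈ K₁ := by
        have := (Subgroup.mem_normalizer_iff.1 (hAK₁ hsA₁) (s⁻¹ * y * s)).2
        apply this
        have e : s * (s⁻¹ * y * s) * s⁻¹ = y := by group
        rw [e]; exact hy
      have h2 := hxC _ hy'
      calc y * (s * x * s⁻¹) = s * ((s⁻¹ * y * s) * x) * s⁻¹ := by group
        _ = s * (x * (s⁻¹ * y * s)) * s⁻¹ := by rw [h2]
        _ = s * x * s⁻¹ * y := by group
    have hfix := inf_centralizer_ne_bot_of_isPGroup p hN₀p hSp₁ hS₁N₀ hne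
    obtain ⟨x, hx, hx1⟩ := (Subgroup.ne_bot_iff_exists_ne_one).1 hfix |> fun ⟨a, ha⟩ =>
      (⟨a.1, a.2, fun h => ha (Subtype.ext h)⟩ : ∃ x : G, x ∈ N₀ ⊓ Subgroup.centralizer ((S₁ : Subgroup G) : Set G) ∧ x ≠ 1)
    apply hx1
    obtain ⟨⟨hxN, hxK⟩, hxS⟩ := hx
    apply hC₁ x hxN
    intro a ha
    have hle : A₁ ≤ Subgroup.centralizer ({x} : Set G) := by
      rw [← hKS₁]
      apply sup_le
      · intro y hy
        rw [Subgroup.mem_centralizer_singleton_iff]
        exact (Subgroup.mem_centralizer_iff.1 hxK y hy)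
      · intro y hy
        rw [Subgroup.mem_centralizer_singleton_iff]
        exact (Subgroup.mem_centralizer_iff.1 hxS y hy)
    have := Subgroup.mem_centralizer_singleton_iff.1 (hle ha)
    calc a * x * a⁻¹ = (x * a) * a⁻¹ := by rw [this]
      _ = x := by group
  -- A' ≤ A₁
  have hle : A' ≤ A₁ := by
    intro a ha
    have haT : a ∈ ((A₁ ⊔ N : Subgroup G) : Set G) := by rw [hA₁.sup_eq_top]; trivial
    rw [Subgroup.mul_normal] at haT
    obtain ⟨a₁, ha₁, x, hx, hax⟩ := haT
    have hax' : a₁ * x = a := hax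
    subst hax'
    have hxL : x ∈ Subgroup.normalizer ((K₁ : Subgroup G) : Set G) := by
      have h1 := hAK₁ ha₁
      have h2 := hA'K₁ ha
      have : x = a₁⁻¹ * (a₁ * x) := by group
      rw [this]
      exact Subgroup.mul_mem _ (Subgroup.inv_mem _ h1) h2
    have hx0 : x ∈ N₀ := ⟨hx, hcent x hx hxL⟩
    rw [hN₀bot, Subgroup.mem_bot] at hx0
    rw [hx0, mul_one]; exact ha₁
  exact (Subgroup.eq_of_le_of_card_ge hle (by rw [hA'card, hcardA])).symm

end Cfsg.Agent.S4043
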