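import Cfsg.Statements.S4049
import Mathlib
import Cfsg.Agent.Lib.Helper3.TwoClosed
import Cfsg.Agent.Lib.Helper3.SZRel

set_option autoImplicit false
open Cfsg
open Pointwise
open Cfsg.Agent.Lib.Helper3

universe u

namespace Cfsg.Agent.S4049


/-- If `C ⊴ N` has even index, some `t ∈ N \ C` has `t² ∈ C`. -/
theorem exists_of_two_dvd_relIndex {G : Type*} [Group G] [Finite G] (C N : Subgroup G)
    [hCn : (C.subgroupOf N).Normal] (h2 : 2 ∣ C.relIndex N) :
    ∃ t ∈ N, t ∉ C ∧ t ^ 2 ∈ C := by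
  haveI : Fact (Nat.Prime 2) := ⟨Nat.prime_two⟩
  rw [Subgroup.relIndex, Subgroup.index_eq_card] at h2
  obtain ⟨q, hq⟩ := exists_prime_orderOf_dvd_card' 2 h2
  obtain ⟨t, rfl⟩ := QuotientGroup.mk_surjective q
  refine ⟨(t : G), t.2, ?_, ?_⟩
  · intro htC
    have : (QuotientGroup.mk t : ↥N ⧸ C.subgroupOf N) = 1 :=
      (QuotientGroup.eq_one_iff t).2 (Subgroup.mem_subgroupOf.2 htC)
    rw [this, orderOf_one] at hq
    omega
  · have h1 : (QuotientGroup.mk t : ↥N ⧸ C.subgroupOf N) ^ 2 = 1 := by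
      rw [← hq]; exact pow_orderOf_eq_one _
    rw [← QuotientGroup.mk_pow, QuotientGroup.eq_one_iff, Subgroup.mem_subgroupOf] at h1
    simpa using h1

/-- If some `t ∈ N \ C` has `t² ∈ C`, then `C ⊴ N` has even index. -/
theorem two_dvd_relIndex_of_exists {G : Type*} [Group G] [Finite G] (C N : Subgroup G)
    [hCn : (C.subgroupOf N).Normal] (t : G) (htN : t ∈ N) (htC : t ∉ C) (ht2 : t ^ 2 ∈ C) :
    2 ∣ C.relIndex N := by
  rw [Subgroup.relIndex, Subgroup.index_eq_card]
  set q : ↥N ⧸ C.subgroupOf N := QuotientGroup.mk ⟨t, htN⟩ with hq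
  have h1 : q ^ 2 = 1 := by
    rw [hq, ← QuotientGroup.mk_pow, QuotientGroup.eq_one_iff, Subgroup.mem_subgroupOf]
    simpa using ht2
  have h2 : q ≠ 1 := by
    rw [hq, Ne, QuotientGroup.eq_one_iff, Subgroup.mem_subgroupOf]
    exact htC
  have h3 : orderOf q = 2 := orderOf_eq_prime h1 h2
  rw [← h3]
  exact orderOf_dvd_natCard q

/-- `t ^ [N : C] ∈ C` for `t ∈ N`, `C ⊴ N`. -/
theorem pow_relIndex_mem {G : Type*} [Group G] [Finite G] (C N : Subgroup G)
    [hCn : (C.subgroupOf N).Normal] (t : G) (htN : t ∈ N) : t ^ C.relIndex N ∈ C := by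
  rw [Subgroup.relIndex, Subgroup.index_eq_card]
  have h1 : (QuotientGroup.mk ⟨t, htN⟩ : ↥N ⧸ C.subgroupOf N) ^ Nat.card (↥N ⧸ C.subgroupOf N) = 1 :=
    pow_card_eq_one'
  rw [← QuotientGroup.mk_pow, QuotientGroup.eq_one_iff, Subgroup.mem_subgroupOf] at h1
  simpa using h1

/-- `N_G(H)/C_G(H)` has odd order for every non-trivial subgroup `H` of odd order. -/
def OddHom (G : Type*) [Group G] : Prop :=
  ∀ H : Subgroup G, H ≠ ⊥ → ¬ 2 ∣ Nat.card ↥H →
    ¬ 2 ∣ (Subgroup.centralizer (H : Set G)).relIndex (Subgroup.normalizer (H : Set G))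

theorem OddHom.subgroup {G : Type*} [Group G] [Finite G] (h : OddHom G) (M : Subgroup G) :
    OddHom ↥M := by
  intro H hH hodd h2
  set H' : Subgroup G := H.map M.subtype with hH'
  have hH'ne : H' ≠ ⊥ := by
    intro hb
    exact hH ((Subgroup.map_eq_bot_iff_of_injective H M.subtype_injective).1 hb)
  have hH'card : Nat.card H' = Nat.card H := Subgroup.card_map_of_injective M.subtype_injective
  have hmemH' : ∀ g : G, g ∈ H' ↔ ∃ hg : g ∈ M, (⟨g, hg⟩ : M) ∈ H := by
    intro g
    constructor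
    · rintro ⟨x, hx, rfl⟩
      exact ⟨x.2, hx⟩
    · rintro ⟨hg, hx⟩
      exact ⟨⟨g, hg⟩, hx, rfl⟩
  obtain ⟨t, htN, htC, ht2⟩ := exists_of_two_dvd_relIndex _ _ h2
  apply h H' hH'ne (hH'card ▸ hodd)
  have hcent : ∀ u : M, u ∈ Subgroup.centralizer (H : Set M) ↔
      (u : G) ∈ Subgroup.centralizer (H' : Set G) := by
    intro u
    rw [Subgroup.mem_centralizer_iff, Subgroup.mem_centralizer_iff]
    constructor
    · intro hu g hg
      obtain ⟨x, hx, rfl⟩ := hg
      have := hu x hx
      have := congrArg Subtype.val this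
      simpa using this
    · intro hu x hx
      have := hu (x : G) ⟨x, hx, rfl⟩
      apply Subtype.ext
      simpa using this
  apply two_dvd_relIndex_of_exists _ _ (t : G)
  · rw [Subgroup.mem_normalizer_iff]
    intro g
    rw [Subgroup.mem_normalizer_iff] at htN
    constructor
    · rintro ⟨x, hx, rfl⟩
      exact ⟨t * x * t⁻¹, (htN x).1 hx, by simp⟩
    · rintro ⟨y, hy, hyg⟩
      have hgM : g ∈ M := by
        have : g = (t : G)⁻¹ * (y : G) * (t : G) := by
          simp only [Subgroup.coe_subtype] at hyg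
          rw [hyg]; group
        rw [this]
        exact M.mul_mem (M.mul_mem (M.inv_mem t.2) y.2) t.2
      refine ⟨⟨g, hgM⟩, ?_, rfl⟩
      apply (htN _).2
      have : t * ⟨g, hgM⟩ * t⁻¹ = y := by
        apply Subtype.ext
        simp only [Subgroup.coe_subtype] at hyg
        simp [hyg]
      rw [this]; exact hy
  · intro hc
    exact htC ((hcent t).2 hc)
  · have := (hcent (t ^ 2)).1 ht2
    simpa using this

theorem OddHom.inv {G : Type*} [Group G] [Finite G] (h : OddHom G) (s d : G)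
    (hs : orderOf s = 2) (hd : Odd (orderOf d)) (hsd : s * d * s⁻¹ = d⁻¹) : d = 1 := by
  by_contra hd1
  set H := Subgroup.zpowers d with hH
  have hHne : H ≠ ⊥ := by
    rw [hH, Ne, Subgroup.zpowers_eq_bot]; exact hd1
  have hHodd : ¬ 2 ∣ Nat.card H := by
    rw [hH, Nat.card_zpowers]
    exact fun h2 => (Nat.not_even_iff_odd.2 hd) (even_iff_two_dvd.2 h2)
  apply h H hHne hHodd
  apply two_dvd_relIndex_of_exists _ _ s
  · rw [hH, mem_normalizer_zpowers_iff, hsd]
    exact Subgroup.inv_mem _ (Subgroup.mem_zpowers d)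
  · intro hc
    have h1 := Subgroup.mem_centralizer_iff.1 hc d (Subgroup.mem_zpowers d)
    have h2 : d = d⁻¹ := by
      calc d = d * s * s⁻¹ := by group
        _ = s * d * s⁻¹ := by rw [h1]
        _ = d⁻¹ := hsd
    have h3 : d ^ 2 = 1 := by
      rw [pow_two]
      nth_rewrite 1 [h2]
      simp
    have h4 : orderOf d ∣ 2 := orderOf_dvd_of_pow_eq_one h3
    have h5 : (orderOf d).Coprime 2 := Nat.coprime_two_right.2 hd
    have h6 : orderOf d = 1 := h5.eq_one_of_dvd h4
    exact hd1 (orderOf_eq_one_iff.1 h6)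
  · have : s ^ 2 = 1 := by rw [← hs]; exact pow_orderOf_eq_one s
    rw [this]; exact Subgroup.one_mem _

theorem OddHom.quotient {G : Type u} [Group G] [Finite G] (h : OddHom G) (N : Subgroup G)
    [N.Normal] (hN : IsPGroup 2 N) : OddHom (G ⧸ N) := by
  haveI : Fact (Nat.Prime 2) := ⟨Nat.prime_two⟩
  intro Hbar hHbar hodd h2
  obtain ⟨tbar, htN, htC, ht2⟩ := exists_of_two_dvd_relIndex _ _ h2
  set f := QuotientGroup.mk' N with hf
  have hfs : Function.Surjective f := QuotientGroup.mk'_surjective N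
  set L : Subgroup G := Hbar.comap f with hL
  have hNL : N ≤ L := by
    intro x hx
    change f x ∈ Hbar
    have : f x = 1 := (QuotientGroup.eq_one_iff x).2 hx
    rw [this]; exact Hbar.one_mem
  have hLmap : L.map f = Hbar := Subgroup.map_comap_eq_self_of_surjective hfs Hbar
  have hrel : N.relIndex L = Nat.card Hbar := by
    have h1 : N = (⊥ : Subgroup (G ⧸ N)).comap f := by
      rw [MonoidHom.comap_bot, hf, QuotientGroup.ker_mk']
    conv_lhs => rw [h1]
    rw [Subgroup.relIndex_comap, hLmap, Subgroup.relIndex_bot_left]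
  obtain ⟨k, hk⟩ := IsPGroup.iff_card.1 hN
  have hcopNH : (Nat.card N).Coprime (Nat.card Hbar) := by
    rw [hk]
    apply Nat.Coprime.pow_left
    exact (Nat.Prime.coprime_iff_not_dvd Nat.prime_two).2 hodd
  -- complement of N in L
  haveI : (N.subgroupOf L).Normal := Subgroup.normal_subgroupOf
  have hcN' : Nat.card (N.subgroupOf L) = Nat.card N :=
    Nat.card_congr (Subgroup.subgroupOfEquivOfLe hNL).toEquiv
  have hcop' : (Nat.card (N.subgroupOf L)).Coprime (N.subgroupOf L).index := by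
    rw [hcN']
    change (Nat.card N).Coprime (N.relIndex L)
    rw [hrel]; exact hcopNH
  obtain ⟨H', hH'⟩ := Subgroup.exists_right_complement'_of_coprime hcop'
  set H : Subgroup G := H'.map L.subtype with hH
  have hHL : H ≤ L := Subgroup.map_subtype_le _
  have hHcard : Nat.card H = Nat.card Hbar := by
    rw [hH, Subgroup.card_map_of_injective L.subtype_injective, ← hrel]
    exact hH'.symm.index_eq_card.symm
  have hcopNH' : (Nat.card N).Coprime (Nat.card H) := by rw [hHcard]; exact hcopNH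
  have hHN : H ⊓ N = ⊥ := (Subgroup.disjoint_of_coprime_natCard hcopNH'.symm).eq_bot
  have hHne : H ≠ ⊥ := by
    intro hb
    apply hHbar
    apply Subgroup.eq_bot_of_card_eq
    rw [← hHcard, hb, Subgroup.card_bot]
  have hsup : H ⊔ N = L := by
    apply Subgroup.eq_of_le_of_card_ge (sup_le hHL hNL)
    have hcL : Nat.card N * N.relIndex L = Nat.card L := by
      rw [← Subgroup.relIndex_bot_left, Subgroup.relIndex_mul_relIndex _ _ _ bot_le hNL,
        Subgroup.relIndex_bot_left]
    rw [card_sup_of_inf_eq_bot H N hHN, hHcard, ← hrel, mul_comm, hcL]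
  have hHmap : H.map f = Hbar := by
    have h1 : (H ⊔ N).map f = Hbar := by rw [hsup]; exact hLmap
    rw [Subgroup.map_sup] at h1
    have h2 : N.map f = ⊥ := by rw [hf]; exact QuotientGroup.map_mk'_self N
    rw [h2, sup_bot_eq] at h1
    exact h1
  obtain ⟨t, rfl⟩ := hfs tbar
  -- K = t H t⁻¹ lies in L
  set K : Subgroup G := MulAut.conj t • H with hK
  have hKcard : Nat.card K = Nat.card H :=
    (Nat.card_congr (Subgroup.equivSMul (MulAut.conj t) H).toEquiv).symm
  have hKL : K ≤ H ⊔ N := by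
    rw [hsup]
    intro u hu
    rw [hK, mem_conj_smul_iff] at hu
    change f u ∈ Hbar
    have h1 : f (t⁻¹ * u * t) ∈ Hbar := hHL hu
    have h2 := (Subgroup.mem_normalizer_iff.1 htN (f (t⁻¹ * u * t))).1 h1
    have h3 : f t * f (t⁻¹ * u * t) * (f t)⁻¹ = f u := by
      rw [← map_inv, ← map_mul, ← map_mul]
      congr 1
      group
    rwa [h3] at h2
  have hsolv : Group.IsSolvable N ∨ Group.IsSolvable H := by
    left
    haveI := hN.isNilpotent
    infer_instance
  obtain ⟨n, hnN, hn⟩ := sz_conj_rel N H K hcopNH' hKL hKcard hsolv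
  set t' := n⁻¹ * t with ht'
  have ht'N : t' ∈ Subgroup.normalizer ((H : Subgroup G) : Set G) := by
    rw [Subgroup.mem_normalizer_iff]
    intro u
    have e1 : t' * u * t'⁻¹ = n⁻¹ * (t * u * t⁻¹) * n := by rw [ht']; group
    have e2 : n⁻¹ * (t * u * t⁻¹) * n ∈ H ↔ t * u * t⁻¹ ∈ MulAut.conj n • H :=
      (mem_conj_smul_iff n _ H).symm
    rw [e1, e2, hn, hK, mem_conj_smul_iff]
    have e3 : t⁻¹ * (t * u * t⁻¹) * t = u := by group
    rw [e3]
  have hft' : f t' = f t := by
    rw [ht', map_mul, map_inv]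
    have : f n = 1 := (QuotientGroup.eq_one_iff n).2 hnN
    rw [this, inv_one, one_mul]
  set m := (Subgroup.centralizer (H : Set G)).relIndex (Subgroup.normalizer (H : Set G)) with hm
  have hmodd : ¬ 2 ∣ m := h H hHne (hHcard ▸ hodd)
  have hpow : t' ^ m ∈ Subgroup.centralizer (H : Set G) := pow_relIndex_mem _ _ t' ht'N
  have hpow' : f t ^ m ∈ Subgroup.centralizer (Hbar : Set (G ⧸ N)) := by
    rw [← hft', ← map_pow, Subgroup.mem_centralizer_iff]
    intro ybar hy
    rw [SetLike.mem_coe, ← hHmap] at hy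
    obtain ⟨y, hyH, rfl⟩ := hy
    rw [← map_mul, ← map_mul, Subgroup.mem_centralizer_iff.1 hpow y hyH]
  apply htC
  apply mem_of_pow_mem_of_pow_mem_coprime _ (f t) 2 m _ ht2 hpow'
  exact (Nat.Prime.coprime_iff_not_dvd Nat.prime_two).2 hmodd

/-- Let G be a finite group such that N_G(H)/C_G(H) has odd order for every nontrivial subgroup H of odd order. Then the Sylow 2-subgroups of G are normal. -/
theorem result {G : Type*} [Group G] [Finite G]
    (hhom : ∀ H : Subgroup G, H ≠ ⊥ → ¬ 2 ∣ Nat.card ↥H →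
        ¬ 2 ∣ (Subgroup.centralizer (H : Set G)).relIndex (Subgroup.normalizer (H : Set G))) (P : Sylow 2 G) :
    (P : Subgroup G).Normal := by
  have hmain := two_closed_of_class.{u_1} (fun G _ => OddHom G)
    (fun G _ _ h M => h.subgroup M)
    (fun G _ _ h N _ hN => h.quotient N hN)
    (fun G _ _ h s d hs hd hsd => h.inv s d hs hd hsd) (Nat.card G) G rfl hhom P
  exact hmain

end Cfsg.Agent.S4049
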