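import Cfsg.Statements.S4051
import Mathlib
import Cfsg.Agent.Lib.Helper3.PiClosed
import Cfsg.Agent.Lib.Helper3.PiLift
import Cfsg.Agent.Lib.Helper3.SZRel
import Cfsg.Agent.Lib.Helper3.Irrational
import Cfsg.Agent.S4049

set_option autoImplicit false
open Cfsg
open Pointwise
open Cfsg.Agent.Lib.Helper3

universe u

namespace Cfsg.Agent.S4051


/-- `N_G(H)/C_G(H)` is a `π'`-group for every non-trivial `π'`-subgroup `H`. -/
def PiPrimeHom (π : Set ℕ) (G : Type*) [Group G] : Prop :=
  ∀ H : Subgroup G, H ≠ ⊥ → (∀ p : ℕ, p.Prime → p ∣ Nat.card ↥H → p ∉ π) →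
    ∀ p : ℕ, p.Prime → p ∣ (Subgroup.centralizer (H : Set G)).relIndex
      (Subgroup.normalizer (H : Set G)) → p ∉ π

/-- `|K/L|` is a `π'`-number when `L` consists of the `π`-elements of `K`. -/
theorem isPiNum_compl_card_map {π : Set ℕ} {G : Type*} [Group G] [Finite G] (K L : Subgroup G)
    [L.Normal] (hLK : L ≤ K) (hLmem : ∀ x ∈ K, x ∈ L ↔ IsPiElt π x) :
    IsPiNum πᶜ (Nat.card (K.map (QuotientGroup.mk' L))) := by
  have hcard : Nat.card (K.map (QuotientGroup.mk' L)) = L.relIndex K := by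
    have h1 : L = (⊥ : Subgroup (G ⧸ L)).comap (QuotientGroup.mk' L) := by
      rw [MonoidHom.comap_bot, QuotientGroup.ker_mk']
    conv_rhs => rw [h1]
    rw [Subgroup.relIndex_comap, Subgroup.relIndex_bot_left]
  rw [hcard]
  intro q hq hqd hqπ
  haveI : Fact q.Prime := ⟨hq⟩
  obtain ⟨Q⟩ : Nonempty (Sylow q ↥K) := inferInstance
  have hQL : (Q : Subgroup K) ≤ L.subgroupOf K := by
    intro b hb
    rw [Subgroup.mem_subgroupOf, hLmem _ b.2, isPiElt_coe_iff]
    intro r hr hrb
    obtain ⟨k, hk⟩ := Q.2 ⟨b, hb⟩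
    have hk' : b ^ q ^ k = 1 := by
      have := congrArg Subtype.val hk
      simpa using this
    have h2 : r ∣ q ^ k := dvd_trans hrb (orderOf_dvd_of_pow_eq_one hk')
    have : r = q := (Nat.prime_dvd_prime_iff_eq hr hq).1 (hr.dvd_of_dvd_pow h2)
    rw [this]; exact hqπ
  have h3 : (L.subgroupOf K).index ∣ (Q : Subgroup K).index := Subgroup.index_dvd_of_le hQL
  exact Q.not_dvd_index (dvd_trans hqd h3)

/-- A Sylow `q`-subgroup of `K/L` centralized by the `π`-element `xbar`, for `q ∉ π`. -/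
theorem exists_centralized_sylow {π : Set ℕ} {G : Type u} [Group G] [Finite G]
    (hhom : PiPrimeHom π G) (K L : Subgroup G) [K.Normal] [L.Normal] (hLK : L ≤ K)
    (hLmem : ∀ x ∈ K, x ∈ L ↔ IsPiElt π x) (hLcard : IsPiNum π (Nat.card L))
    (xbar : G ⧸ L) (hx : IsPiElt π xbar) (q : ℕ) (hq : q.Prime) (hqπ : q ∉ π) :
    ∃ D : Subgroup (G ⧸ L), D ≤ K.map (QuotientGroup.mk' L) ∧
      D ≤ Subgroup.centralizer ({xbar} : Set (G ⧸ L)) ∧
      Nat.card D = q ^ (Nat.card K).factorization q := by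
  haveI : Fact q.Prime := ⟨hq⟩
  set f := QuotientGroup.mk' L with hf
  have hfs : Function.Surjective f := QuotientGroup.mk'_surjective L
  obtain ⟨x, hxf, hxπ⟩ := exists_pi_lift f hfs π xbar hx
  obtain ⟨Q⟩ : Nonempty (Sylow q ↥K) := inferInstance
  set QG : Subgroup G := (Q : Subgroup K).map K.subtype with hQG
  have hQGK : QG ≤ K := Subgroup.map_subtype_le _
  have hQGcard : Nat.card QG = q ^ (Nat.card K).factorization q := by
    rw [hQG, Subgroup.card_map_of_injective K.subtype_injective]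
    exact Q.card_eq_multiplicity
  by_cases hQbot : QG = ⊥
  · refine ⟨⊥, bot_le, bot_le, ?_⟩
    rw [← hQGcard, hQbot, Subgroup.card_bot, Subgroup.card_bot]
  -- Frattini argument
  have hfrat : Subgroup.normalizer ((QG : Subgroup G) : Set G) ⊔ K = ⊤ := Sylow.normalizer_sup_eq_top Q
  set NQ := Subgroup.normalizer ((QG : Subgroup G) : Set G) with hNQ
  set f' : ↥NQ →* G ⧸ K := (QuotientGroup.mk' K).comp NQ.subtype with hf'
  have hf's : Function.Surjective f' := by
    intro z
    obtain ⟨g, rfl⟩ := QuotientGroup.mk'_surjective K z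
    have hg : g ∈ ((NQ ⊔ K : Subgroup G) : Set G) := by rw [hfrat]; trivial
    rw [Subgroup.mul_normal] at hg
    obtain ⟨y, hy, k, hk, rfl⟩ := hg
    refine ⟨⟨y, hy⟩, ?_⟩
    simp only [hf', MonoidHom.comp_apply, Subgroup.coe_subtype]
    rw [map_mul]
    have : QuotientGroup.mk' K k = 1 := (QuotientGroup.eq_one_iff k).2 hk
    rw [this, mul_one]
  have hxπ' : IsPiElt π x := hxπ
  obtain ⟨y', hy'K, hy'π⟩ := exists_pi_lift f' hf's π (QuotientGroup.mk' K x) (hxπ'.map _)
  set y : G := (y' : G) with hy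
  have hyN : y ∈ NQ := y'.2
  have hyπ : IsPiElt π y := (isPiElt_coe_iff y').2 hy'π
  have hyK : QuotientGroup.mk' K y = QuotientGroup.mk' K x := hy'K
  -- y centralizes QG
  have hQGπ : ∀ p : ℕ, p.Prime → p ∣ Nat.card ↥QG → p ∉ π := by
    intro p hp hpd
    rw [hQGcard] at hpd
    have : p = q := (Nat.prime_dvd_prime_iff_eq hp hq).1 (hp.dvd_of_dvd_pow hpd)
    rw [this]; exact hqπ
  have hrel := hhom QG hQbot hQGπ
  have hyC : y ∈ Subgroup.centralizer ((QG : Subgroup G) : Set G) := by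
    have h1 := Cfsg.Agent.S4049.pow_relIndex_mem (Subgroup.centralizer ((QG : Subgroup G) : Set G))
      NQ y hyN
    apply mem_of_pow_mem_of_coprime _ y _ _ h1
    apply Nat.coprime_of_dvd
    intro p hp hp1 hp2
    exact hrel p hp hp1 (hyπ p hp hp2)
  -- Schur–Zassenhaus in G/L
  set N : Subgroup (G ⧸ L) := K.map f with hN
  haveI hNn : N.Normal := Subgroup.Normal.map inferInstance f hfs
  set ybar := f y with hybar
  have hybarπ : IsPiElt π ybar := hyπ.map f
  have hNcard : IsPiNum πᶜ (Nat.card N) := isPiNum_compl_card_map K L hLK hLmem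
  have hyx : ybar⁻¹ * xbar ∈ N := by
    have h1 : y⁻¹ * x ∈ K := (QuotientGroup.eq (s := K)).1 hyK
    refine ⟨y⁻¹ * x, h1, ?_⟩
    rw [map_mul, map_inv, hxf]
  have hcopy : (Nat.card N).Coprime (orderOf ybar) :=
    (IsPiNum.coprime (fun p hp hpd => hybarπ p hp hpd) hNcard).symm
  have hcopx : (Nat.card N).Coprime (orderOf xbar) :=
    (IsPiNum.coprime (fun p hp hpd => hx p hp hpd) hNcard).symm
  have hord : orderOf xbar = orderOf ybar := by
    rw [← orderOf_mk_of_coprime N xbar hcopx.symm, ← orderOf_mk_of_coprime N ybar hcopy.symm]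
    congr 1
    rw [eq_comm]
    exact (QuotientGroup.eq (s := N)).2 hyx
  have hKle : Subgroup.zpowers xbar ≤ Subgroup.zpowers ybar ⊔ N := by
    rw [Subgroup.zpowers_le]
    have : xbar = ybar * (ybar⁻¹ * xbar) := by group
    rw [this]
    exact Subgroup.mul_mem_sup (Subgroup.mem_zpowers ybar) hyx
  have hsolv : Group.IsSolvable N ∨ Group.IsSolvable (Subgroup.zpowers ybar) := by
    right
    haveI : IsMulCommutative (Subgroup.zpowers ybar) := IsCyclic.commutative
    exact isSolvable_of_comm (fun a b => mul_comm' a b)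
  obtain ⟨n, hnN, hn⟩ := sz_conj_rel N (Subgroup.zpowers ybar) (Subgroup.zpowers xbar)
    (by rw [Nat.card_zpowers]; exact hcopy) hKle
    (by rw [Nat.card_zpowers, Nat.card_zpowers, hord]) hsolv
  -- the Sylow subgroup
  set Qbar : Subgroup (G ⧸ L) := QG.map f with hQbar
  have hQbarN : Qbar ≤ N := Subgroup.map_mono hQGK
  have hQbarcard : Nat.card Qbar = Nat.card QG := by
    have h1 : L = (⊥ : Subgroup (G ⧸ L)).comap f := by
      rw [MonoidHom.comap_bot, hf, QuotientGroup.ker_mk']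
    have h2 : L ⊓ QG = ⊥ := by
      apply (Subgroup.disjoint_of_coprime_natCard _).eq_bot
      rw [hQGcard]
      apply Nat.Coprime.pow_right
      apply Nat.coprime_of_dvd
      intro p hp hp1 hp2
      have : p = q := (Nat.prime_dvd_prime_iff_eq hp hq).1 hp2
      exact hqπ (this ▸ hLcard p hp hp1)
    rw [hQbar, ← Subgroup.relIndex_bot_left, ← Subgroup.relIndex_comap, ← h1,
      ← Subgroup.inf_relIndex_right, h2, Subgroup.relIndex_bot_left]
  refine ⟨MulAut.conj n • Qbar, ?_, ?_, ?_⟩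
  · intro u hu
    rw [mem_conj_smul_iff] at hu
    have : u = n * (n⁻¹ * u * n) * n⁻¹ := by group
    rw [this]
    exact N.mul_mem (N.mul_mem hnN (hQbarN hu)) (N.inv_mem hnN)
  · intro u hu
    rw [mem_conj_smul_iff] at hu
    obtain ⟨v, hv, hvw⟩ := hu
    have hxn : n⁻¹ * xbar * n ∈ Subgroup.zpowers ybar := by
      rw [← mem_conj_smul_iff, hn]; exact Subgroup.mem_zpowers xbar
    obtain ⟨j, hj⟩ := hxn
    simp only at hj
    have hyv : ybar * f v = f v * ybar := by
      rw [hybar, ← map_mul, ← map_mul, (Subgroup.mem_centralizer_iff.1 hyC v hv)]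
    have hcomm : Commute (n⁻¹ * xbar * n) (f v) := by
      rw [← hj]
      exact (Commute.zpow_left (show Commute ybar (f v) from hyv) j)
    rw [Subgroup.mem_centralizer_singleton_iff]
    have e1 : u = n * f v * n⁻¹ := by rw [hvw]; group
    rw [e1]
    calc n * f v * n⁻¹ * xbar = n * (f v * (n⁻¹ * xbar * n)) * n⁻¹ := by group
      _ = n * ((n⁻¹ * xbar * n) * f v) * n⁻¹ := by rw [hcomm.eq]
      _ = xbar * (n * f v * n⁻¹) := by group
  · rw [← hQGcard, ← hQbarcard]
    exact (Nat.card_congr (Subgroup.equivSMul (MulAut.conj n) Qbar).toEquiv).symm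

/-- Every `π`-element of `G/L` centralizes `K/L`. -/
theorem mem_centralizer_map_of_isPiElt {π : Set ℕ} {G : Type u} [Group G] [Finite G]
    (hhom : PiPrimeHom π G) (K L : Subgroup G) [K.Normal] [L.Normal] (hLK : L ≤ K)
    (hLmem : ∀ x ∈ K, x ∈ L ↔ IsPiElt π x) (hLcard : IsPiNum π (Nat.card L))
    (xbar : G ⧸ L) (hx : IsPiElt π xbar) :
    xbar ∈ Subgroup.centralizer ((K.map (QuotientGroup.mk' L) : Subgroup (G ⧸ L)) : Set (G ⧸ L)) := by
  set N : Subgroup (G ⧸ L) := K.map (QuotientGroup.mk' L) with hN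
  set C : Subgroup (G ⧸ L) := N ⊓ Subgroup.centralizer ({xbar} : Set (G ⧸ L)) with hC
  have hNcard : IsPiNum πᶜ (Nat.card N) := isPiNum_compl_card_map K L hLK hLmem
  have hCN : C = N := by
    by_contra hne
    have hrel : C.relIndex N ≠ 1 := by
      intro h1
      apply hne
      exact le_antisymm inf_le_left (le_inf le_rfl ((Subgroup.relIndex_eq_one.1 h1).trans inf_le_right))
    obtain ⟨q, hq, hqd⟩ := Nat.exists_prime_and_dvd hrel
    have hqN : q ∣ Nat.card N := dvd_trans hqd (Subgroup.relIndex_dvd_card C N)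
    have hqπ : q ∉ π := hNcard q hq hqN
    obtain ⟨D, hDN, hDc, hDcard⟩ :=
      exists_centralized_sylow hhom K L hLK hLmem hLcard xbar hx q hq hqπ
    have hDC : D ≤ C := le_inf hDN hDc
    have h1 : q ^ (Nat.card K).factorization q ∣ Nat.card C := hDcard ▸ Subgroup.card_dvd_of_le hDC
    have h2 : Nat.card C * C.relIndex N = Nat.card N := by
      rw [← Subgroup.relIndex_bot_left, Subgroup.relIndex_mul_relIndex _ _ _ bot_le inf_le_left,
        Subgroup.relIndex_bot_left]
    have h3 : q ^ ((Nat.card K).factorization q + 1) ∣ Nat.card N := by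
      rw [← h2, pow_succ]
      exact Nat.mul_dvd_mul h1 hqd
    have h4 : Nat.card N ∣ Nat.card K := Subgroup.card_map_dvd K _
    exact Nat.pow_succ_factorization_not_dvd Nat.card_pos.ne' hq (dvd_trans h3 h4)
  rw [Subgroup.mem_centralizer_iff]
  intro u hu
  have : u ∈ C := by rw [hCN]; exact hu
  have h5 := Subgroup.mem_centralizer_singleton_iff.1 this.2
  exact h5

/-- The extension theorem for `π`-closure under `π'`-homogeneity. -/
theorem piClosed_of_normal_of_quotient {π : Set ℕ} {G : Type u} [Group G] [Finite G]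
    (hhom : PiPrimeHom π G) (K : Subgroup G) [K.Normal] (hK : PiClosed π K)
    (hQ : PiClosed π (G ⧸ K)) : PiClosed π G := by
  obtain ⟨L', hL'⟩ := hK
  set L : Subgroup G := L'.map K.subtype with hL
  have hLK : L ≤ K := Subgroup.map_subtype_le _
  have hLmem : ∀ x ∈ K, x ∈ L ↔ IsPiElt π x := by
    intro x hx
    constructor
    · rintro ⟨b, hb, rfl⟩
      exact (isPiElt_coe_iff b).2 ((hL' b).1 hb)
    · intro hxπ
      exact ⟨⟨x, hx⟩, (hL' _).2 ((isPiElt_coe_iff (⟨x, hx⟩ : K)).1 hxπ), rfl⟩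
  haveI hLn : L.Normal := by
    constructor
    intro x hxL g
    have hxK : x ∈ K := hLK hxL
    have hgK : g * x * g⁻¹ ∈ K := Subgroup.Normal.conj_mem inferInstance x hxK g
    rw [hLmem _ hgK]
    have hxπ := (hLmem x hxK).1 hxL
    intro p hp hpd
    have := (MulAut.conj g).orderOf_eq x
    rw [MulAut.conj_apply] at this
    rw [this] at hpd
    exact hxπ p hp hpd
  have hLcard : IsPiNum π (Nat.card L) := by
    apply isPiNum_card_of_forall_isPiElt
    intro b
    exact (isPiElt_coe_iff b).1 ((hLmem (b : G) (hLK b.2)).1 b.2)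
  apply PiClosed.of_quotient L hLcard
  have hLK' : L ≤ K.comap (MonoidHom.id G) := by rw [Subgroup.comap_id]; exact hLK
  set φ : G ⧸ L →* G ⧸ K := QuotientGroup.map L K (MonoidHom.id G) hLK' with hφ
  have hφs : Function.Surjective φ := by
    intro z
    obtain ⟨g, rfl⟩ := QuotientGroup.mk'_surjective K z
    exact ⟨QuotientGroup.mk' L g, rfl⟩
  have hker : φ.ker = K.map (QuotientGroup.mk' L) := by
    rw [hφ, QuotientGroup.ker_map, Subgroup.comap_id]
  apply PiClosed.of_central_ker φ hφs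
  · rw [hker]
    exact isPiNum_compl_card_map K L hLK hLmem
  · intro xbar hx
    rw [hker]
    exact mem_centralizer_map_of_isPiElt hhom K L hLK hLmem hLcard xbar hx
  · exact hQ

/-- Let π be a set of primes and G a finite group such that N_G(H)/C_G(H) is a π'-group for every nontrivial π'-subgroup H of G. If K is a normal subgroup of G such that the π-elements of K form a subgroup and the π-elements of G/K form a subgroup, then the π-elements of G form a subgroup. -/
theorem result {G : Type*} [Group G] [Finite G] (π : Set ℕ)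
    (hπ : ∀ p ∈ π, p.Prime) (hhom : (∀ H : Subgroup G, H ≠ ⊥ → (∀ p : ℕ, p.Prime → p ∣ Nat.card ↥H → p ∉ π) →
        ∀ p : ℕ, p.Prime → p ∣ (Subgroup.centralizer (H : Set G)).relIndex (Subgroup.normalizer (H : Set G)) → p ∉ π))
    (K : Subgroup G) [K.Normal]
    (hK : ∃ L : Subgroup ↥K, ∀ x : ↥K, x ∈ L ↔ ∀ p : ℕ, p.Prime → p ∣ orderOf x → p ∈ π)
    (hQ : ∃ L : Subgroup (G ⧸ K), ∀ x : G ⧸ K, x ∈ L ↔ ∀ p : ℕ, p.Prime → p ∣ orderOf x → p ∈ π) :
    (∃ K : Subgroup G, ∀ x : G, x ∈ K ↔ ∀ p : ℕ, p.Prime → p ∣ orderOf x → p ∈ π) := by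
  exact piClosed_of_normal_of_quotient hhom K hK hQ

end Cfsg.Agent.S4051
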