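import Cfsg.Statements.S4050
import Mathlib
import Cfsg.Agent.S4051

set_option autoImplicit false
open Cfsg
open Pointwise
open Cfsg.Agent.Lib.Helper3
open Cfsg.Agent.S4051

universe u

namespace Cfsg.Agent.S4050


/-- If `C ⊴ N` has index divisible by the prime `p`, some `t ∈ N \ C` has `t ^ p ∈ C`. -/
theorem exists_of_prime_dvd_relIndex {G : Type*} [Group G] [Finite G] (C N : Subgroup G)
    [hCn : (C.subgroupOf N).Normal] (p : ℕ) (hp : p.Prime) (h2 : p ∣ C.relIndex N) :
    ∃ t ∈ N, t ∉ C ∧ t ^ p ∈ C := by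
  haveI : Fact p.Prime := ⟨hp⟩
  rw [Subgroup.relIndex, Subgroup.index_eq_card] at h2
  obtain ⟨q, hq⟩ := exists_prime_orderOf_dvd_card' p h2
  obtain ⟨t, rfl⟩ := QuotientGroup.mk_surjective q
  refine ⟨(t : G), t.2, ?_, ?_⟩
  · intro htC
    have : (QuotientGroup.mk t : ↥N ⧸ C.subgroupOf N) = 1 :=
      (QuotientGroup.eq_one_iff t).2 (Subgroup.mem_subgroupOf.2 htC)
    rw [this, orderOf_one] at hq
    exact hp.one_lt.ne hq
  · have h1 : (QuotientGroup.mk t : ↥N ⧸ C.subgroupOf N) ^ p = 1 := by
      rw [← hq]; exact pow_orderOf_eq_one _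
    rw [← QuotientGroup.mk_pow, QuotientGroup.eq_one_iff, Subgroup.mem_subgroupOf] at h1
    simpa using h1

/-- If some `t ∈ N \ C` has `t ^ p ∈ C`, then `p` divides the index of `C ⊴ N`. -/
theorem prime_dvd_relIndex_of_exists {G : Type*} [Group G] [Finite G] (C N : Subgroup G)
    [hCn : (C.subgroupOf N).Normal] (p : ℕ) (hp : p.Prime) (t : G) (htN : t ∈ N) (htC : t ∉ C)
    (ht2 : t ^ p ∈ C) : p ∣ C.relIndex N := by
  haveI : Fact p.Prime := ⟨hp⟩
  rw [Subgroup.relIndex, Subgroup.index_eq_card]
  set q : ↥N ⧸ C.subgroupOf N := QuotientGroup.mk ⟨t, htN⟩ with hq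
  have h1 : q ^ p = 1 := by
    rw [hq, ← QuotientGroup.mk_pow, QuotientGroup.eq_one_iff, Subgroup.mem_subgroupOf]
    simpa using ht2
  have h2 : q ≠ 1 := by
    rw [hq, Ne, QuotientGroup.eq_one_iff, Subgroup.mem_subgroupOf]
    exact htC
  have h3 : orderOf q = p := orderOf_eq_prime h1 h2
  rw [← h3]
  exact orderOf_dvd_natCard q

theorem PiPrimeHom.subgroup {π : Set ℕ} {G : Type*} [Group G] [Finite G] (h : PiPrimeHom π G)
    (M : Subgroup G) : PiPrimeHom π ↥M := by
  intro H hH hcard p hp h2
  set H' : Subgroup G := H.map M.subtype with hH'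
  have hH'ne : H' ≠ ⊥ := by
    intro hb
    exact hH ((Subgroup.map_eq_bot_iff_of_injective H M.subtype_injective).1 hb)
  have hH'card : Nat.card H' = Nat.card H := Subgroup.card_map_of_injective M.subtype_injective
  obtain ⟨t, htN, htC, ht2⟩ := exists_of_prime_dvd_relIndex _ _ p hp h2
  apply h H' hH'ne (hH'card ▸ hcard) p hp
  have hcent : ∀ u : M, u ∈ Subgroup.centralizer (H : Set M) ↔
      (u : G) ∈ Subgroup.centralizer (H' : Set G) := by
    intro u
    rw [Subgroup.mem_centralizer_iff, Subgroup.mem_centralizer_iff]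
    constructor
    · intro hu g hg
      obtain ⟨x, hx, rfl⟩ := hg
      have := hu x hx
      have := congrArg Subtype.val this
      simpa using this
    · intro hu x hx
      have := hu (x : G) ⟨x, hx, rfl⟩
      apply Subtype.ext
      simpa using this
  apply prime_dvd_relIndex_of_exists _ _ p hp (t : G)
  · rw [Subgroup.mem_normalizer_iff]
    intro g
    rw [Subgroup.mem_normalizer_iff] at htN
    constructor
    · rintro ⟨x, hx, rfl⟩
      exact ⟨t * x * t⁻¹, (htN x).1 hx, by simp⟩
    · rintro ⟨y, hy, hyg⟩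
      have hgM : g ∈ M := by
        have : g = (t : G)⁻¹ * (y : G) * (t : G) := by
          simp only [Subgroup.coe_subtype] at hyg
          rw [hyg]; group
        rw [this]
        exact M.mul_mem (M.mul_mem (M.inv_mem t.2) y.2) t.2
      refine ⟨⟨g, hgM⟩, ?_, rfl⟩
      apply (htN _).2
      have : t * ⟨g, hgM⟩ * t⁻¹ = y := by
        apply Subtype.ext
        simp only [Subgroup.coe_subtype] at hyg
        simp [hyg]
      rw [this]; exact hy
  · intro hc
    exact htC ((hcent t).2 hc)
  · have := (hcent (t ^ p)).1 ht2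
    simpa using this

theorem PiClosed.of_mulEquiv {π : Set ℕ} {A B : Type*} [Group A] [Group B] (e : A ≃* B)
    (h : PiClosed π B) : PiClosed π A := by
  obtain ⟨K, hK⟩ := h
  refine ⟨K.comap e.toMonoidHom, fun x => ?_⟩
  rw [Subgroup.mem_comap]
  change e x ∈ K ↔ _
  rw [hK]
  unfold IsPiElt
  rw [MulEquiv.orderOf_eq]

theorem PiClosed.of_isPiNum_card {π : Set ℕ} {A : Type*} [Group A] [Finite A]
    (h : IsPiNum π (Nat.card A)) : PiClosed π A :=
  ⟨⊤, fun x => ⟨fun _ => isPiElt_of_isPiNum_card h x, fun _ => Subgroup.mem_top x⟩⟩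

theorem PiClosed.of_isPiNum_compl_card {π : Set ℕ} {A : Type*} [Group A] [Finite A]
    (h : IsPiNum πᶜ (Nat.card A)) : PiClosed π A := by
  refine ⟨⊥, fun x => ⟨fun hx => ?_, fun hx => ?_⟩⟩
  · rw [Subgroup.mem_bot] at hx
    intro p hp hpd
    rw [hx, orderOf_one] at hpd
    exact absurd (Nat.dvd_one.1 hpd) hp.one_lt.ne'
  · rw [Subgroup.mem_bot]
    exact eq_one_of_isPiElt_of_isPiNum_compl h hx

/-- One step up a `π`-series. -/
theorem piClosed_step {π : Set ℕ} {G : Type u} [Group G] [Finite G] (hhom : PiPrimeHom π G)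
    (A B : Subgroup G) [A.Normal] (hAB : A ≤ B) (hA : PiClosed π A)
    (hrel : IsPiNum π (A.relIndex B) ∨ IsPiNum πᶜ (A.relIndex B)) : PiClosed π B := by
  haveI : (A.subgroupOf B).Normal := Subgroup.normal_subgroupOf
  apply piClosed_of_normal_of_quotient (PiPrimeHom.subgroup hhom B) (A.subgroupOf B)
  · exact PiClosed.of_mulEquiv (Subgroup.subgroupOfEquivOfLe hAB) hA
  · have hcard : Nat.card (↥B ⧸ A.subgroupOf B) = A.relIndex B := by
      rw [Subgroup.relIndex, Subgroup.index_eq_card]
    rcases hrel with h | h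
    · exact PiClosed.of_isPiNum_card (hcard ▸ h)
    · exact PiClosed.of_isPiNum_compl_card (hcard ▸ h)

/-- Let π be a set of primes and G a finite group. The π-elements of G (elements whose order is divisible only by primes of π) form a subgroup if and only if G is π-separable (it has a chain of normal subgroups from 1 to G with each successive index divisible only by primes in π or only by primes outside π) and N_G(H)/C_G(H) is a π'-group for every nontrivial π'-subgroup H of G. -/
theorem result {G : Type*} [Group G] [Finite G] (π : Set ℕ)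
    (hπ : ∀ p ∈ π, p.Prime) :
    (∃ K : Subgroup G, ∀ x : G, x ∈ K ↔ ∀ p : ℕ, p.Prime → p ∣ orderOf x → p ∈ π) ↔
    ((∃ (n : ℕ) (H : Fin (n + 1) → Subgroup G), H 0 = ⊥ ∧ H (Fin.last n) = ⊤ ∧ Monotone H ∧ (∀ i, (H i).Normal) ∧
      ∀ i : Fin n, (∀ q : ℕ, q.Prime → q ∣ (H i.castSucc).relIndex (H i.succ) → q ∈ π) ∨
        (∀ q : ℕ, q.Prime → q ∣ (H i.castSucc).relIndex (H i.succ) → q ∉ π)) ∧
     (∀ H : Subgroup G, H ≠ ⊥ → (∀ p : ℕ, p.Prime → p ∣ Nat.card ↥H → p ∉ π) →
        ∀ p : ℕ, p.Prime → p ∣ (Subgroup.centralizer (H : Set G)).relIndex (Subgroup.normalizer (H : Set G)) → p ∉ π)) := by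
  constructor
  · rintro ⟨K, hK⟩
    have hKmem : ∀ x : G, x ∈ K ↔ IsPiElt π x := hK
    haveI hKn : K.Normal := by
      constructor
      intro x hx g
      rw [hKmem] at hx ⊢
      intro p hp hpd
      have := (MulAut.conj g).orderOf_eq x
      rw [MulAut.conj_apply] at this
      rw [this] at hpd
      exact hx p hp hpd
    have hKcard : IsPiNum π (Nat.card K) := by
      apply isPiNum_card_of_forall_isPiElt
      intro b
      exact (isPiElt_coe_iff b).1 ((hKmem b).1 b.2)
    have hKidx : IsPiNum πᶜ K.index := by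
      intro q hq hqd hqπ
      haveI : Fact q.Prime := ⟨hq⟩
      rw [Subgroup.index_eq_card] at hqd
      obtain ⟨ybar, hy⟩ := exists_prime_orderOf_dvd_card' q hqd
      have hyπ : IsPiElt π ybar := by
        intro r hr hrd
        rw [hy] at hrd
        rw [(Nat.prime_dvd_prime_iff_eq hr hq).1 hrd]; exact hqπ
      obtain ⟨x, hxy, hxπ⟩ := exists_pi_lift (QuotientGroup.mk' K) (QuotientGroup.mk'_surjective K) π ybar hyπ
      have hxK : x ∈ K := (hKmem x).2 hxπ
      have : ybar = 1 := by rw [← hxy]; exact (QuotientGroup.eq_one_iff x).2 hxK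
      rw [this, orderOf_one] at hy
      exact hq.one_lt.ne hy
    refine ⟨⟨2, ![⊥, K, ⊤], rfl, rfl, ?_, ?_, ?_⟩, ?_⟩
    · rw [Fin.monotone_iff_le_succ]
      intro i
      fin_cases i
      · exact bot_le
      · exact le_top
    · intro i
      fin_cases i
      · exact Subgroup.normal_bot
      · exact hKn
      · exact Subgroup.normal_top
    · intro i
      fin_cases i
      · left
        intro q hq hqd
        have : (⊥ : Subgroup G).relIndex K = Nat.card K := Subgroup.relIndex_bot_left K
        exact hKcard q hq (this ▸ hqd)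
      · right
        intro q hq hqd
        have : K.relIndex ⊤ = K.index := Subgroup.relIndex_top_right K
        exact hKidx q hq (this ▸ hqd)
    · intro H hH hHcard p hp hpd hpπ
      haveI : Fact p.Prime := ⟨hp⟩
      set C := Subgroup.centralizer (H : Set G) with hC
      set N := Subgroup.normalizer (H : Set G) with hN
      rw [Subgroup.relIndex, Subgroup.index_eq_card] at hpd
      obtain ⟨qbar, hq⟩ := exists_prime_orderOf_dvd_card' p hpd
      have hqπ : IsPiElt π qbar := by
        intro r hr hrd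
        rw [hq] at hrd
        rw [(Nat.prime_dvd_prime_iff_eq hr hp).1 hrd]; exact hpπ
      obtain ⟨t, htq, htπ⟩ := exists_pi_lift (QuotientGroup.mk' (C.subgroupOf N))
        (QuotientGroup.mk'_surjective _) π qbar hqπ
      have htK : (t : G) ∈ K := (hKmem _).2 ((isPiElt_coe_iff t).2 htπ)
      have htC : (t : G) ∈ C := by
        rw [hC, Subgroup.mem_centralizer_iff]
        intro h hh
        have h1 : (t : G) * h * (t : G)⁻¹ * h⁻¹ ∈ H ⊓ K := by
          refine ⟨H.mul_mem ((Subgroup.mem_normalizer_iff.1 t.2 h).1 hh) (H.inv_mem hh), ?_⟩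
          have e : (t : G) * h * (t : G)⁻¹ * h⁻¹ = (t : G) * (h * (t : G)⁻¹ * h⁻¹) := by group
          rw [e]
          exact K.mul_mem htK (hKn.conj_mem _ (K.inv_mem htK) h)
        have hdisj : H ⊓ K = ⊥ := by
          apply (Subgroup.disjoint_of_coprime_natCard _).eq_bot
          exact (IsPiNum.coprime hKcard (fun r hr hrd => hHcard r hr hrd)).symm
        rw [hdisj, Subgroup.mem_bot] at h1
        calc h * (t : G) = ((t : G) * h * (t : G)⁻¹ * h⁻¹)⁻¹ * ((t : G) * h) := by group
          _ = (t : G) * h := by rw [h1]; simp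
      have : qbar = 1 := by
        rw [← htq]
        exact (QuotientGroup.eq_one_iff t).2 (Subgroup.mem_subgroupOf.2 htC)
      rw [this, orderOf_one] at hq
      exact hp.one_lt.ne hq
  · rintro ⟨⟨n, H, h0, hlast, hmono, hnorm, hstep⟩, hhom⟩
    have hhom' : PiPrimeHom π G := hhom
    have key : ∀ (i : ℕ) (hi : i < n + 1), PiClosed π ↥(H ⟨i, hi⟩) := by
      intro i
      induction i with
      | zero =>
        intro hi
        have : H ⟨0, hi⟩ = ⊥ := h0
        rw [this]
        apply PiClosed.of_isPiNum_card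
        rw [Subgroup.card_bot]
        intro p hp hpd
        exact absurd (Nat.dvd_one.1 hpd) hp.one_lt.ne'
      | succ i ih =>
        intro hi
        have hi' : i < n := by omega
        have hi0 : i < n + 1 := by omega
        have hA := ih hi0
        haveI := hnorm ⟨i, hi0⟩
        have hle : H ⟨i, hi0⟩ ≤ H ⟨i + 1, hi⟩ := hmono (by simp [Fin.le_def])
        exact piClosed_step hhom' (H ⟨i, hi0⟩) (H ⟨i + 1, hi⟩) hle hA (hstep ⟨i, hi'⟩)
    have htop := key n (by omega)
    have hn : H ⟨n, by omega⟩ = ⊤ := hlast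
    rw [hn] at htop
    exact PiClosed.of_mulEquiv Subgroup.topEquiv.symm htop

end Cfsg.Agent.S4050
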