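import Cfsg.Statements.S4056
import Mathlib
import Cfsg.Agent.Lib.Helper1.FrattiniP

set_option autoImplicit false
open Cfsg
open scoped commutatorElement

namespace Cfsg.Agent.S4056


/-- The central elements of square one. -/
def centralInvolutions (P : Type*) [Group P] : Subgroup P where
  carrier := {z | z ∈ Subgroup.center P ∧ z ^ 2 = 1}
  one_mem' := ⟨Subgroup.one_mem _, one_pow 2⟩
  mul_mem' := by
    rintro a b ⟨ha, ha2⟩ ⟨hb, hb2⟩
    refine ⟨Subgroup.mul_mem _ ha hb, ?_⟩
    have hc : Commute a b := (Subgroup.mem_center_iff.1 ha b).symm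
    rw [hc.mul_pow, ha2, hb2, one_mul]
  inv_mem' := by
    rintro a ⟨ha, ha2⟩
    exact ⟨Subgroup.inv_mem _ ha, by rw [inv_pow, ha2, inv_one]⟩

/-- The fourth-power formula in class two. -/
theorem mul_pow_four_of_central {P : Type*} [Group P] (x y c : P) (hc : ∀ g : P, g * c = c * g)
    (hyx : y * x = c * x * y) : (x * y) ^ 4 = c ^ 6 * x ^ 4 * y ^ 4 := by
  have h1 : y * x ^ 2 = c ^ 2 * x ^ 2 * y := by
    calc y * x ^ 2 = (y * x) * x := by rw [pow_two, mul_assoc]
      _ = c * x * y * x := by rw [hyx]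
      _ = c * x * (y * x) := by rw [mul_assoc]
      _ = c * x * (c * x * y) := by rw [hyx]
      _ = c * (x * c) * x * y := by simp only [mul_assoc]
      _ = c * (c * x) * x * y := by rw [hc x]
      _ = c ^ 2 * x ^ 2 * y := by simp only [pow_two, mul_assoc]
  have hc2 : ∀ g : P, g * c ^ 2 = c ^ 2 * g := by
    intro g
    rw [pow_two, ← mul_assoc, hc g, mul_assoc, hc g, mul_assoc]
  have h2 : y ^ 2 * x ^ 2 = c ^ 4 * x ^ 2 * y ^ 2 := by
    calc y ^ 2 * x ^ 2 = y * (y * x ^ 2) := by rw [pow_two, mul_assoc]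
      _ = y * (c ^ 2 * x ^ 2 * y) := by rw [h1]
      _ = (y * c ^ 2) * x ^ 2 * y := by simp only [mul_assoc]
      _ = c ^ 2 * (y * x ^ 2) * y := by rw [hc2 y]; simp only [mul_assoc]
      _ = c ^ 2 * (c ^ 2 * x ^ 2 * y) * y := by rw [h1]
      _ = c ^ 4 * x ^ 2 * y ^ 2 := by
        have : c ^ 4 = c ^ 2 * c ^ 2 := by rw [← pow_add]
        rw [this, pow_two y]; simp only [mul_assoc]
  have h3 : (x * y) ^ 2 = c * x ^ 2 * y ^ 2 := by
    calc (x * y) ^ 2 = x * (y * x) * y := by rw [pow_two]; simp only [mul_assoc]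
      _ = x * (c * x * y) * y := by rw [hyx]
      _ = (x * c) * x * y * y := by simp only [mul_assoc]
      _ = c * x * x * y * y := by rw [hc x]
      _ = c * x ^ 2 * y ^ 2 := by simp only [pow_two, mul_assoc]
  have hc4 : ∀ g : P, g * c ^ 4 = c ^ 4 * g := by
    intro g
    have : c ^ 4 = c ^ 2 * c ^ 2 := by rw [← pow_add]
    rw [this, ← mul_assoc, hc2 g, mul_assoc, hc2 g, mul_assoc]
  calc (x * y) ^ 4 = (x * y) ^ 2 * (x * y) ^ 2 := by rw [← pow_add]
    _ = c * x ^ 2 * y ^ 2 * (c * x ^ 2 * y ^ 2) := by rw [h3]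
    _ = c * x ^ 2 * (y ^ 2 * c) * x ^ 2 * y ^ 2 := by simp only [mul_assoc]
    _ = c * x ^ 2 * (c * y ^ 2) * x ^ 2 * y ^ 2 := by rw [hc (y ^ 2)]
    _ = c * (x ^ 2 * c) * (y ^ 2 * x ^ 2) * y ^ 2 := by simp only [mul_assoc]
    _ = c * (c * x ^ 2) * (c ^ 4 * x ^ 2 * y ^ 2) * y ^ 2 := by rw [hc (x ^ 2), h2]
    _ = c * c * (x ^ 2 * c ^ 4) * x ^ 2 * y ^ 2 * y ^ 2 := by simp only [mul_assoc]
    _ = c * c * (c ^ 4 * x ^ 2) * x ^ 2 * y ^ 2 * y ^ 2 := by rw [hc4 (x ^ 2)]
    _ = c ^ 6 * x ^ 4 * y ^ 4 := by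
      have e6 : c ^ 6 = c * c * c ^ 4 := by rw [← pow_two, ← pow_add]
      have e4 : ∀ z : P, z ^ 4 = z ^ 2 * z ^ 2 := by intro z; rw [← pow_add]
      rw [e6, e4 x, e4 y]; simp only [mul_assoc]

/-- In a finite 2-group of nilpotency class at most 2 and exponent dividing 4, the Frattini subgroup lies in the centre and is elementary abelian. -/
theorem result {P : Type*} [Group P] [Finite P] (hP : IsPGroup 2 P)
    (hcl : Group.nilpotencyClass P ≤ 2) (hexp : Monoid.exponent P ∣ 4) :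
    frattini P ≤ Subgroup.center P ∧ Cfsg.IsElementaryAbelian 2 (frattini P) := by
  haveI : Fact (Nat.Prime 2) := ⟨Nat.prime_two⟩
  haveI hnil : Group.IsNilpotent P := hP.isNilpotent
  have h4 : ∀ x : P, x ^ 4 = 1 := Monoid.exponent_dvd_iff_forall_pow_eq_one.1 hexp
  have hucs : Subgroup.upperCentralSeries P 2 = ⊤ :=
    Subgroup.upperCentralSeries_eq_top_iff_nilpotencyClass_le.2 hcl
  have hcomm_central : ∀ x y : P, ⁅x, y⁆ ∈ Subgroup.center P := by
    intro x y
    have hx : x ∈ Subgroup.upperCentralSeries P (1 + 1) := by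
      rw [show (1 + 1 : ℕ) = 2 from rfl, hucs]; trivial
    have := Subgroup.mem_upperCentralSeries_succ_iff.1 hx y
    rwa [Subgroup.upperCentralSeries_one] at this
  have hcomm_sq : ∀ x y : P, ⁅y, x⁆ ^ 2 = 1 := by
    intro x y
    set c := ⁅y, x⁆ with hc
    have hcc : ∀ g : P, g * c = c * g := fun g => (Subgroup.mem_center_iff.1 (hcomm_central y x) g)
    have hyx : y * x = c * x * y := by
      rw [hc, commutatorElement_def]; group
    have h6 := mul_pow_four_of_central x y c hcc hyx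
    rw [h4, h4, h4, mul_one, mul_one] at h6
    have hc4 : c ^ 4 = 1 := h4 c
    have : c ^ 6 = c ^ 4 * c ^ 2 := by rw [← pow_add]
    rw [this, hc4, one_mul] at h6
    exact h6.symm
  have hsq_central : ∀ x : P, x ^ 2 ∈ Subgroup.center P := by
    intro x
    rw [Subgroup.mem_center_iff]
    intro y
    set c := ⁅y, x⁆ with hc
    have hcc : ∀ g : P, g * c = c * g := fun g => (Subgroup.mem_center_iff.1 (hcomm_central y x) g)
    have hyx : y * x = c * x * y := by
      rw [hc, commutatorElement_def]; group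
    have hc2 : c * c = 1 := by rw [← pow_two]; exact hcomm_sq x y
    calc y * x ^ 2 = (y * x) * x := by rw [pow_two, mul_assoc]
      _ = c * x * y * x := by rw [hyx]
      _ = c * x * (y * x) := by simp only [mul_assoc]
      _ = c * x * (c * x * y) := by rw [hyx]
      _ = c * (x * c) * x * y := by simp only [mul_assoc]
      _ = (c * c) * x * x * y := by rw [hcc x]; simp only [mul_assoc]
      _ = x ^ 2 * y := by rw [hc2, one_mul, pow_two]
  have hle : frattini P ≤ centralInvolutions P := by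
    apply Cfsg.Agent.Lib.Helper1.frattini_le_of_elementary_quotient 2
    · rw [commutator_def, Subgroup.commutator_le]
      intro x _ y _
      exact ⟨hcomm_central x y, hcomm_sq y x⟩
    · intro x
      refine ⟨hsq_central x, ?_⟩
      rw [← pow_mul]; exact h4 x
  have hcen : frattini P ≤ Subgroup.center P := fun z hz => (hle hz).1
  refine ⟨hcen, ⟨⟨fun a b => ?_⟩⟩, fun a ha => (hle ha).2⟩
  apply Subtype.ext
  rw [Subgroup.coe_mul, Subgroup.coe_mul]
  exact (Subgroup.mem_center_iff.1 (hcen b.2) a.1)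

end Cfsg.Agent.S4056
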