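import Cfsg.Statements.S4057
import Cfsg.Agent.Lib.Helper7.THA
import Cfsg.Agent.Lib.Helper7.THC
import Cfsg.Agent.Lib.Helper7.THEA
import Cfsg.Agent.Lib.Helper7.THREP
import Cfsg.Agent.Lib.Helper7.THUT

set_option autoImplicit false
open Cfsg

namespace Cfsg.Agent.S4057

open Cfsg.Agent.Lib.Helper7.TH

/-- Let p be an odd prime and P a finite p-group in which every normal abelian subgroup can be generated by k elements. Then every subgroup of P can be generated by at most ⌊k(k+4)/4⌋ elements. -/
theorem result {P : Type*} [Group P] [Finite P] {p : ℕ} [Fact p.Prime]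
    (hp : p ≠ 2) (hP : IsPGroup p P) (k : ℕ)
    (hab : ∀ A : Subgroup P, A.Normal → IsMulCommutative A → ∃ S : Finset P, S.card ≤ k ∧ Subgroup.closure (S : Set P) = A) :
    ∀ H : Subgroup P, ∃ S : Finset P, S.card ≤ k * (k + 4) / 4 ∧ Subgroup.closure (S : Set P) = H := by
  classical
  intro H
  -- Step 1: a maximal normal elementary abelian subgroup E
  let good : Subgroup P → Prop := fun F =>
    F.Normal ∧ (∀ x ∈ F, ∀ y ∈ F, x * y = y * x) ∧ (∀ x ∈ F, x ^ p = 1)
  have hbot : good ⊥ := by
    refine ⟨inferInstance, ?_, ?_⟩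
    · intro x hx y hy
      rw [Subgroup.mem_bot] at hx hy
      rw [hx, hy]
    · intro x hx
      rw [Subgroup.mem_bot] at hx
      rw [hx, one_pow]
  obtain ⟨E, -, hEmax⟩ := Finite.exists_le_maximal (p := good) hbot
  obtain ⟨hEn, hEc, hEp⟩ := hEmax.prop
  have := hEn
  have hmax : ∀ F : Subgroup P, F.Normal → (∀ x ∈ F, ∀ y ∈ F, x * y = y * x) →
      (∀ x ∈ F, x ^ p = 1) → E ≤ F → F = E :=
    fun F h1 h2 h3 hle => le_antisymm (hEmax.le_of_ge ⟨h1, h2, h3⟩ hle) hle
  -- Step 2: |E| = p^m and m ≤ k
  obtain ⟨m, hm⟩ := (hP.to_subgroup E).exists_card_eq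
  have hcomm : IsMulCommutative E := ⟨⟨fun a b => Subtype.ext (hEc a a.2 b b.2)⟩⟩
  obtain ⟨S0, hS0c, hS0⟩ := hab E hEn hcomm
  have hmk : m ≤ k := by
    have h1 := card_le_of_closure (p := p) E hEc hEp S0 hS0
    rw [hm] at h1
    exact ((Nat.pow_le_pow_iff_right (Fact.out : p.Prime).one_lt).mp h1).trans hS0c
  -- Step 3: the unitriangular representation
  obtain ⟨r, htri, hdiag, hker⟩ := exists_unitriangular_rep hP E hEc hEp m hm
  -- Step 4: K = H ∩ C_P(E) is m-generated
  let K : Subgroup P := H ⊓ Subgroup.centralizer (E : Set P)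
  have hKE : ∀ z ∈ K, z ^ p = 1 → z ∈ E := by
    intro z hz hzp
    refine alperin_omega hp hP E hEc hEp hmax z ?_ hzp
    intro e he
    exact ((Subgroup.mem_centralizer_iff.mp hz.2) e he).symm
  have hKc : ∀ z : K, z ^ p = 1 → ∀ y : K, z * y = y * z := by
    intro z hzp y
    have hzE : (z : P) ∈ E := hKE z z.2 (by
      have := congrArg (fun w : K => (w : P)) hzp
      simpa using this)
    apply Subtype.ext
    have := (Subgroup.mem_centralizer_iff.mp y.2.2) (z : P) hzE
    simpa using this
  have hKcount : Nat.card {z : K // z ^ p = 1} ≤ p ^ m := by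
    rw [← hm]
    let f : {z : K // z ^ p = 1} → E := fun z => ⟨((z : K) : P), hKE _ (z : K).2 (by
      have := congrArg (fun w : K => (w : P)) z.2
      simpa using this)⟩
    have hf : Function.Injective f := by
      intro a b hab'
      apply Subtype.ext
      apply Subtype.ext
      exact congrArg (fun w : E => (w : P)) hab'
    exact Nat.card_le_card_of_injective f hf
  obtain ⟨T1, hT1c, hT1⟩ := pcentral_rank hp (hP.to_subgroup K) hKc m hKcount
  -- Step 5: the image of H in the unitriangular group
  obtain ⟨S2, hS2c, hS2⟩ := ut_generation (r.comp H.subtype)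
    (fun g i j hij => htri (g : P) i j hij) (fun g i => hdiag (g : P) i)
  -- Step 6: the generating set
  refine ⟨S2.image (fun h : H => (h : P)) ∪ T1.image (fun z : K => (z : P)), ?_, ?_⟩
  · have h1 : (S2.image (fun h : H => (h : P)) ∪ T1.image (fun z : K => (z : P))).card
        ≤ m * m / 4 + m :=
      (Finset.card_union_le _ _).trans
        (Nat.add_le_add (Finset.card_image_le.trans hS2c) (Finset.card_image_le.trans hT1c))
    have h2 : m * m + 4 * m ≤ k * (k + 4) := by nlinarith
    have h3 : m * m / 4 + m ≤ k * (k + 4) / 4 := by omega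
    exact h1.trans h3
  · apply le_antisymm
    · rw [Subgroup.closure_le]
      intro x hx
      rw [Finset.coe_union, Finset.coe_image, Finset.coe_image] at hx
      rcases hx with ⟨h, -, rfl⟩ | ⟨z, -, rfl⟩
      · exact h.2
      · exact z.2.1
    · intro h hh
      obtain ⟨h', hh'cl, hh'r⟩ := hS2 ⟨h, hh⟩
      have hsub1 : Subgroup.closure ((fun h : H => (h : P)) '' (S2 : Set H)) ≤
          Subgroup.closure ((S2.image (fun h : H => (h : P)) ∪
            T1.image (fun z : K => (z : P)) : Finset P) : Set P) := by
        apply Subgroup.closure_mono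
        rw [Finset.coe_union, Finset.coe_image]
        exact Set.subset_union_left
      have hsub2 : Subgroup.closure ((fun z : K => (z : P)) '' (T1 : Set K)) ≤
          Subgroup.closure ((S2.image (fun h : H => (h : P)) ∪
            T1.image (fun z : K => (z : P)) : Finset P) : Set P) := by
        apply Subgroup.closure_mono
        rw [Finset.coe_union, Finset.coe_image, Finset.coe_image]
        exact Set.subset_union_right
      have hh'P : (h' : P) ∈ Subgroup.closure ((fun h : H => (h : P)) '' (S2 : Set H)) := by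
        have : (Subgroup.closure (S2 : Set H)).map H.subtype =
            Subgroup.closure (H.subtype '' (S2 : Set H)) := MonoidHom.map_closure _ _
        have h2 : H.subtype h' ∈ (Subgroup.closure (S2 : Set H)).map H.subtype :=
          Subgroup.mem_map_of_mem _ hh'cl
        rw [this] at h2
        exact h2
      -- c = h'⁻¹ h lies in K
      have hrc : r ((h' : P)⁻¹ * h) = 1 := by
        have e1 : r (h' : P) = r h := hh'r
        rw [map_mul, ← e1, ← map_mul, inv_mul_cancel, map_one]
      have hcK : (h' : P)⁻¹ * h ∈ K := by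
        refine ⟨H.mul_mem (H.inv_mem h'.2) hh, ?_⟩
        show _ ∈ Subgroup.centralizer (E : Set P)
        rw [Subgroup.mem_centralizer_iff]
        intro x hx
        exact (((hker _).mp hrc) x hx).symm
      have hcP : (h' : P)⁻¹ * h ∈ Subgroup.closure ((fun z : K => (z : P)) '' (T1 : Set K)) := by
        have : (Subgroup.closure (T1 : Set K)).map K.subtype =
            Subgroup.closure (K.subtype '' (T1 : Set K)) := MonoidHom.map_closure _ _
        have h2 : K.subtype ⟨(h' : P)⁻¹ * h, hcK⟩ ∈ (Subgroup.closure (T1 : Set K)).map K.subtype :=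
          Subgroup.mem_map_of_mem _ (by rw [hT1]; exact Subgroup.mem_top _)
        rw [this] at h2
        exact h2
      have : h = (h' : P) * ((h' : P)⁻¹ * h) := by group
      rw [this]
      exact Subgroup.mul_mem _ (hsub1 hh'P) (hsub2 hcP)

end Cfsg.Agent.S4057
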