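import Cfsg.Statements.S4195
-- import your own Cfsg.Agent.* helpers here

set_option autoImplicit false
open Cfsg

namespace Cfsg.Agent.S4195

/-- The extended centralizer of `x`: elements conjugating `x` to `x` or `x⁻¹`. -/
def extCentralizer {G : Type*} [Group G] (x : G) : Subgroup G where
  carrier := {h | h * x * h⁻¹ = x ∨ h * x * h⁻¹ = x⁻¹}
  one_mem' := by left; simp
  mul_mem' := by
    intro a b ha hb
    have key : a * b * x * (a * b)⁻¹ = a * (b * x * b⁻¹) * a⁻¹ := by group
    have hinv : ∀ c : G, c * x⁻¹ * c⁻¹ = (c * x * c⁻¹)⁻¹ := by intro c; group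
    simp only [Set.mem_ofPred_eq] at ha hb ⊢
    rw [key]
    rcases hb with hb | hb <;> rcases ha with ha | ha
    · left; rw [hb, ha]
    · right; rw [hb, ha]
    · right; rw [hb, hinv, ha]
    · left; rw [hb, hinv, ha, inv_inv]
  inv_mem' := by
    intro a ha
    simp only [Set.mem_ofPred_eq] at ha ⊢
    rcases ha with ha | ha
    · left
      calc a⁻¹ * x * a⁻¹⁻¹ = a⁻¹ * (a * x * a⁻¹) * a := by rw [ha, inv_inv]
        _ = x := by group
    · right
      have : a * x⁻¹ * a⁻¹ = x := by
        have h2 : a * x⁻¹ * a⁻¹ = (a * x * a⁻¹)⁻¹ := by group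
        rw [h2, ha, inv_inv]
      calc a⁻¹ * x * a⁻¹⁻¹ = a⁻¹ * (a * x⁻¹ * a⁻¹) * a := by rw [this, inv_inv]
        _ = x⁻¹ := by group

theorem sq_eq_one_of_real_of_odd_index {G : Type*} [Group G] [Finite G] (x : G)
    (hodd : ¬ 2 ∣ (Subgroup.centralizer ({x} : Set G)).index) (hreal : IsConj x x⁻¹) :
    x = x⁻¹ := by
  by_contra hne
  obtain ⟨g, hg⟩ := isConj_iff.1 hreal
  have hCle : Subgroup.centralizer ({x} : Set G) ≤ extCentralizer x := by
    intro h hh
    left
    have := Subgroup.mem_centralizer_singleton_iff.1 hh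
    rw [this]; group
  have hg' : g ∈ extCentralizer x := Or.inr hg
  have h2 : (Subgroup.centralizer ({x} : Set G)).relIndex (extCentralizer x) = 2 := by
    rw [Subgroup.relIndex, Subgroup.index_eq_two_iff]
    refine ⟨⟨g, hg'⟩, ?_⟩
    rintro ⟨b, hb⟩
    simp only [Subgroup.mem_subgroupOf, Subgroup.coe_mul, Subgroup.mem_centralizer_singleton_iff]
    have key : b * g * x = b * x⁻¹ * g := by
      have : g * x = x⁻¹ * g := by rw [← hg]; group
      rw [mul_assoc, this, ← mul_assoc]
    rcases hb with hb | hb
    · have hbx : b * x = x * b := by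
        calc b * x = (b * x * b⁻¹) * b := by group
          _ = x * b := by rw [hb]
      have hbx' : b * x⁻¹ = x⁻¹ * b := by
        calc b * x⁻¹ = x⁻¹ * (x * b) * x⁻¹ := by group
          _ = x⁻¹ * (b * x) * x⁻¹ := by rw [hbx]
          _ = x⁻¹ * b := by group
      right
      refine ⟨hbx, ?_⟩
      intro h
      rw [key, hbx', ← mul_assoc] at h
      apply hne
      have := mul_right_cancel h
      exact (mul_right_cancel this).symm
    · have hbx : b * x = x⁻¹ * b := by
        calc b * x = (b * x * b⁻¹) * b := by group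
          _ = x⁻¹ * b := by rw [hb]
      have hbx' : b * x⁻¹ = x * b := by
        calc b * x⁻¹ = x * (x⁻¹ * b) * x⁻¹ := by group
          _ = x * (b * x) * x⁻¹ := by rw [hbx]
          _ = x * b := by group
      left
      refine ⟨?_, ?_⟩
      · rw [key, hbx', mul_assoc]
      · intro h
        rw [hbx] at h
        exact hne (mul_right_cancel h).symm
  apply hodd
  rw [← Subgroup.relIndex_mul_index hCle, h2]
  exact dvd_mul_right _ _

/-- Let x be a non-identity element of a finite group G whose centralizer contains a Sylow 2-subgroup of G. If x is conjugate to its inverse, then x has order 2. -/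
theorem result {G : Type*} [Group G] [Finite G] (x : G) (hx : x ≠ 1) (P : Sylow 2 G) (hP : (P : Subgroup G) ≤ Subgroup.centralizer ({x} : Set G)) (hreal : IsConj x x⁻¹) : orderOf x = 2 := by
  have hodd : ¬ 2 ∣ (Subgroup.centralizer ({x} : Set G)).index := by
    intro h
    exact P.not_dvd_index (dvd_trans h (Subgroup.index_dvd_of_le hP))
  have h1 := sq_eq_one_of_real_of_odd_index x hodd hreal
  have h2 : x ^ 2 = 1 := by
    rw [pow_two]
    nth_rewrite 1 [h1]
    simp
  exact orderOf_eq_prime h2 hx

end Cfsg.Agent.S4195
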