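import Cfsg.Statements.S4059
import Mathlib
import Cfsg.Agent.S4195

set_option autoImplicit false
open Cfsg
open scoped commutatorElement

namespace Cfsg.Agent.S4059


/-- If `g` inverts `x`, then any odd power of `g` inverts `x`. -/
theorem odd_pow_inverts {G : Type*} [Group G] (x g : G) (hg : g * x * g⁻¹ = x⁻¹) (r : ℕ) (hr : Odd r) :
    g ^ r * x * (g ^ r)⁻¹ = x⁻¹ := by
  obtain ⟨j, rfl⟩ := hr
  have h1 : SemiconjBy g x x⁻¹ := by
    unfold SemiconjBy
    calc g * x = (g * x * g⁻¹) * g := by group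
      _ = x⁻¹ * g := by rw [hg]
  have h2 : SemiconjBy g x⁻¹ x := by
    have := h1.inv_right
    rwa [inv_inv] at this
  have h3 : Commute (g * g) x := h2.mul_left h1
  have h4 : Commute ((g * g) ^ j) x := h3.pow_left j
  have h5 : g ^ (2 * j + 1) = (g * g) ^ j * g := by
    rw [pow_succ, pow_mul, pow_two]
  rw [h5]
  have h6 : (g * g) ^ j * x = x * (g * g) ^ j := h4.eq
  calc (g * g) ^ j * g * x * ((g * g) ^ j * g)⁻¹
      = (g * g) ^ j * (g * x * g⁻¹) * ((g * g) ^ j)⁻¹ := by group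
    _ = (g * g) ^ j * x⁻¹ * ((g * g) ^ j)⁻¹ := by rw [hg]
    _ = ((g * g) ^ j * x * ((g * g) ^ j)⁻¹)⁻¹ := by group
    _ = (x * (g * g) ^ j * ((g * g) ^ j)⁻¹)⁻¹ := by rw [h6]
    _ = x⁻¹ := by group

/-- Every element of a finite group has a power by an odd number that is a 2-element. -/
theorem exists_odd_pow_two_elt {G : Type*} [Group G] [Finite G] (g : G) :
    ∃ r : ℕ, Odd r ∧ ∃ k : ℕ, orderOf (g ^ r) = 2 ^ k := by
  have hpos : orderOf g ≠ 0 := (orderOf_pos g).ne'
  obtain ⟨k, m, hm, hkm⟩ := Nat.exists_eq_two_pow_mul_odd hpos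
  refine ⟨m, hm, k, ?_⟩
  have hm0 : m ≠ 0 := by
    rintro rfl
    simp at hm
  rw [orderOf_pow_of_dvd hm0 ⟨2 ^ k, by rw [hkm, mul_comm]⟩, hkm]
  exact Nat.mul_div_cancel _ (Nat.pos_of_ne_zero hm0)

/-- Let G be a finite group in which every element is conjugate to its inverse. Then: every non-identity element commuting with all elements of some Sylow 2-subgroup is an involution; the centre of G is an elementary abelian 2-group; the commutator quotient G/G' is an elementary abelian 2-group; and G is generated by its 2-elements. -/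
theorem result {G : Type*} [Group G] [Finite G] (hamb : ∀ x : G, IsConj x x⁻¹) :
    (∀ (S : Sylow 2 G) (x : G), x ∈ Subgroup.centralizer ((S : Subgroup G) : Set G) → x ≠ 1 → orderOf x = 2) ∧
    (∀ z : G, z ∈ Subgroup.center G → z ^ 2 = 1) ∧
    (∀ x : G, x ^ 2 ∈ commutator G) ∧
    Subgroup.closure {x : G | ∃ k : ℕ, orderOf x = 2 ^ k} = ⊤ := by
  have hinv : ∀ x : G, ∃ g : G, g * x * g⁻¹ = x⁻¹ := fun x => isConj_iff.1 (hamb x)
  refine ⟨?_, ?_, ?_, ?_⟩
  · intro S x hx hx1
    refine Cfsg.Agent.S4195.result x hx1 S ?_ (hamb x)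
    intro s hs
    rw [Subgroup.mem_centralizer_singleton_iff]
    exact hx s hs
  · intro z hz
    obtain ⟨g, hg⟩ := hinv z
    have h1 : g * z = z * g := (Subgroup.mem_center_iff.1 hz g)
    have h2 : z = z⁻¹ := by
      calc z = z * g * g⁻¹ := by group
        _ = g * z * g⁻¹ := by rw [h1]
        _ = z⁻¹ := hg
    rw [pow_two]
    nth_rewrite 1 [h2]
    simp
  · intro x
    obtain ⟨g, hg⟩ := hinv x
    have h1 : x ^ 2 = ⁅x, g⁆ := by
      rw [commutatorElement_def]
      have : g * x⁻¹ * g⁻¹ = x := by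
        calc g * x⁻¹ * g⁻¹ = (g * x * g⁻¹)⁻¹ := by group
          _ = x := by rw [hg, inv_inv]
      calc x ^ 2 = x * (g * x⁻¹ * g⁻¹) := by rw [this, pow_two]
        _ = x * g * x⁻¹ * g⁻¹ := by group
    rw [h1]
    exact Subgroup.commutator_mem_commutator (Subgroup.mem_top x) (Subgroup.mem_top g)
  · set K : Subgroup G := Subgroup.closure {x : G | ∃ k : ℕ, orderOf x = 2 ^ k} with hK
    have hsq : ∀ x : G, x ^ 2 ∈ K := by
      intro x
      obtain ⟨g, hg⟩ := hinv x
      obtain ⟨r, hr, k, hk⟩ := exists_odd_pow_two_elt g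
      set t := g ^ r with ht
      have htx : t * x * t⁻¹ = x⁻¹ := odd_pow_inverts x g hg r hr
      have ht1 : t ∈ K := Subgroup.subset_closure ⟨k, hk⟩
      have ht2 : x * t * x⁻¹ ∈ K := by
        apply Subgroup.subset_closure
        refine ⟨k, ?_⟩
        have := (MulAut.conj x).orderOf_eq t
        rw [MulAut.conj_apply] at this
        rw [this, hk]
      have h3 : (x ^ 2)⁻¹ = t⁻¹ * (x * t * x⁻¹) := by
        have h4 : t * x = x⁻¹ * t := by
          calc t * x = (t * x * t⁻¹) * t := by group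
            _ = x⁻¹ * t := by rw [htx]
        have h5 : x * t = t * x⁻¹ := by
          calc x * t = x * (t * x) * x⁻¹ := by group
            _ = x * (x⁻¹ * t) * x⁻¹ := by rw [h4]
            _ = t * x⁻¹ := by group
        calc (x ^ 2)⁻¹ = t⁻¹ * (t * x⁻¹ * x⁻¹) := by group
          _ = t⁻¹ * (x * t * x⁻¹) := by rw [h5]
      have h6 : (x ^ 2)⁻¹ ∈ K := by
        rw [h3]; exact K.mul_mem (K.inv_mem ht1) ht2
      simpa using K.inv_mem h6
    rw [eq_top_iff]
    intro x _
    obtain ⟨r, hr, k, hk⟩ := exists_odd_pow_two_elt x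
    have h1 : x ^ r ∈ K := Subgroup.subset_closure ⟨k, hk⟩
    obtain ⟨j, rfl⟩ := hr
    have h2 : x = ((x ^ 2) ^ j)⁻¹ * x ^ (2 * j + 1) := by
      rw [pow_succ x (2 * j), pow_mul]; group
    rw [h2]
    exact K.mul_mem (K.inv_mem (K.pow_mem (hsq x) j)) h1

end Cfsg.Agent.S4059
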