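import Cfsg.Statements.S4060
import Cfsg.Agent.S4195
import Cfsg.Agent.Lib.Helper3.SolvableMin

set_option autoImplicit false
open Cfsg

namespace Cfsg.Agent.S4060

open Cfsg.Agent.Lib.Helper3 in
theorem aux (n : ℕ) : ∀ (G : Type*) [Group G] [Finite G], Group.IsSolvable G → Nat.card G = n →
    ∀ (S : Sylow 2 G) (x : G), x ≠ 1 → Odd (orderOf x) →
      x ∈ Subgroup.normalizer ((S : Subgroup G) : Set G) → ¬ IsConj x x⁻¹ := by
  induction n using Nat.strong_induction_on with
  | _ n ih =>
    intro G _ _ hs hG S x hx hodd hnorm hreal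
    haveI : Nontrivial G := ⟨⟨x, 1, hx⟩⟩
    obtain ⟨p, A, hp, hAn, hAbot, hAp, -⟩ := exists_normal_abelian_pgroup G hs
    haveI := hAn
    haveI : Fact p.Prime := ⟨hp⟩
    let π := QuotientGroup.mk' A
    have hπs : Function.Surjective π := QuotientGroup.mk'_surjective A
    by_cases hxA : x ∈ A
    · -- x ∈ A
      obtain ⟨k, hk⟩ := hAp ⟨x, hxA⟩
      have hk' : x ^ p ^ k = 1 := by simpa using congrArg Subtype.val hk
      have hp2 : p ≠ 2 := by
        rintro rfl
        obtain ⟨j, -, hj⟩ := (Nat.dvd_prime_pow Nat.prime_two).1 (orderOf_dvd_of_pow_eq_one hk')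
        rw [hj] at hodd
        rcases Nat.eq_zero_or_pos j with rfl | hjpos
        · rw [pow_zero, orderOf_eq_one_iff] at hj
          exact hx hj
        · have : Even (2 ^ j) := (Nat.even_pow' hjpos.ne').2 even_two
          exact (Nat.not_odd_iff_even.2 this) hodd
      have hdisj : Disjoint (S : Subgroup G) A :=
        IsPGroup.disjoint_of_ne 2 p (Ne.symm hp2) _ _ S.2 hAp
      have hSC : (S : Subgroup G) ≤ Subgroup.centralizer ({x} : Set G) := by
        intro s hs'
        rw [Subgroup.mem_centralizer_singleton_iff]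
        have h1 : x * s * x⁻¹ ∈ (S : Subgroup G) :=
          (Subgroup.mem_set_normalizer_iff.1 hnorm s).1 hs'
        have h2 : x * s * x⁻¹ * s⁻¹ ∈ (S : Subgroup G) :=
          (S : Subgroup G).mul_mem h1 ((S : Subgroup G).inv_mem hs')
        have h3 : x * s * x⁻¹ * s⁻¹ ∈ A := by
          have : x * s * x⁻¹ * s⁻¹ = x * (s * x⁻¹ * s⁻¹) := by group
          rw [this]
          exact A.mul_mem hxA (hAn.conj_mem _ (A.inv_mem hxA) _)
        have h4 : x * s * x⁻¹ * s⁻¹ = 1 := by
          have := Subgroup.disjoint_def.1 hdisj h2 h3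
          exact this
        calc s * x = (x * s * x⁻¹ * s⁻¹)⁻¹ * (x * s) := by group
          _ = x * s := by rw [h4]; group
      have hoddidx : ¬ 2 ∣ (Subgroup.centralizer ({x} : Set G)).index := fun h =>
        S.not_dvd_index (dvd_trans h (Subgroup.index_dvd_of_le hSC))
      have hxx := Cfsg.Agent.S4195.sq_eq_one_of_real_of_odd_index x hoddidx hreal
      have hx2 : x ^ 2 = 1 := by
        rw [pow_two]
        nth_rewrite 1 [hxx]
        simp
      have hd : orderOf x ∣ 2 := orderOf_dvd_of_pow_eq_one hx2
      rcases (Nat.dvd_prime Nat.prime_two).1 hd with h1 | h2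
      · exact hx (orderOf_eq_one_iff.1 h1)
      · rw [h2] at hodd
        exact (by decide : ¬ Odd 2) hodd
    · -- pass to the quotient
      have hlt : Nat.card (G ⧸ A) < n := by
        rw [← hG, Subgroup.card_eq_card_quotient_mul_card_subgroup A]
        have h1 : 1 < Nat.card A := by
          rcases Nat.lt_or_ge 1 (Nat.card A) with h | h
          · exact h
          · exfalso
            have : Nat.card A = 1 := le_antisymm h Nat.card_pos
            exact hAbot (Subgroup.card_eq_one.1 this)
        have h2 : 0 < Nat.card (G ⧸ A) := Nat.card_pos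
        nlinarith
      have hxb : π x ≠ 1 := by
        intro h
        exact hxA ((QuotientGroup.eq_one_iff x).1 h)
      have hoddb : Odd (orderOf (π x)) := Odd.of_dvd_nat hodd (orderOf_map_dvd π x)
      have hnormb : π x ∈ Subgroup.normalizer
          (((S.mapSurjective hπs : Sylow 2 (G ⧸ A)) : Subgroup (G ⧸ A)) : Set (G ⧸ A)) := by
        rw [Subgroup.mem_set_normalizer_iff]
        intro m
        rw [Sylow.coe_mapSurjective]
        constructor
        · rintro ⟨s, hs', rfl⟩
          refine ⟨x * s * x⁻¹, (Subgroup.mem_set_normalizer_iff.1 hnorm s).1 hs', ?_⟩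
          simp
        · rintro ⟨s, hs', hsm⟩
          refine ⟨x⁻¹ * s * x, ?_, ?_⟩
          · have := (Subgroup.mem_set_normalizer_iff.1 hnorm (x⁻¹ * s * x)).2
            apply this
            have e : x * (x⁻¹ * s * x) * x⁻¹ = s := by group
            rw [e]; exact hs'
          · rw [map_mul, map_mul, hsm, map_inv]; group
      have hrealb : IsConj (π x) (π x)⁻¹ := by
        have := π.map_isConj hreal
        rwa [map_inv] at this
      exact ih _ hlt (G ⧸ A) (Group.isSolvable_of_surjective hπs) rfl
        (S.mapSurjective hπs) (π x) hxb hoddb hnormb hrealb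

/-- Let G be a finite solvable group with Sylow 2-subgroup S, and let x ≠ 1 be an element of odd order normalizing S. Then x is not conjugate to its inverse in G. -/
theorem result {G : Type*} [Group G] [Finite G] [Group.IsSolvable G]
    (S : Sylow 2 G) (x : G) (hx : x ≠ 1) (hodd : Odd (orderOf x))
    (hnorm : x ∈ Subgroup.normalizer ((S : Subgroup G) : Set G)) : ¬ IsConj x x⁻¹ := by
  exact aux _ G inferInstance rfl S x hx hodd hnorm

end Cfsg.Agent.S4060
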