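import Mathlib
import Cfsg.Statements.S4062
import Cfsg.Agent.Lib.Lead.Amb3

set_option autoImplicit false

open Cfsg

namespace Cfsg.Agent.S4062

theorem result {G : Type*} [Group G] [Finite G] [Group.IsSolvable G]
    (h : ∀ x y : G, orderOf x = orderOf y → IsConj x y) :
    Nat.card G = 1 ∨ Nat.card G = 2 ∨ Nonempty (G ≃* Equiv.Perm (Fin 3)) := by
  exact Cfsg.Agent.Lib.Lead.Amb3.main4062 h

end Cfsg.Agent.S4062
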