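import Cfsg.Statements.S4066
import Mathlib

set_option autoImplicit false
open Cfsg

namespace Cfsg.Agent.S4066

open Pointwise

theorem mem_smul_sylow_iff {G : Type*} [Group G] {p : ℕ} (P : Sylow p G) (g x : G) :
    x ∈ ((g • P : Sylow p G) : Subgroup G) ↔ g⁻¹ * x * g ∈ (P : Subgroup G) := by
  rw [Sylow.coe_subgroup_smul, Subgroup.mem_pointwise_smul_iff_inv_smul_mem]
  simp [MulAut.smul_def]

/-- The `p`-elements of the double centralizer of `u`. -/
def dcP {G : Type*} [Group G] (p : ℕ) (u : G) : Subgroup G where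
  carrier := {a | a ∈ Subgroup.centralizer (Subgroup.centralizer ({u} : Set G) : Set G) ∧
    ∃ k : ℕ, a ^ p ^ k = 1}
  one_mem' := ⟨Subgroup.one_mem _, 0, by simp⟩
  mul_mem' := by
    rintro a b ⟨ha, k, hk⟩ ⟨hb, l, hl⟩
    refine ⟨Subgroup.mul_mem _ ha hb, k + l, ?_⟩
    -- a and b commute: b ∈ C(u) since b commutes with u
    have hbC : b ∈ Subgroup.centralizer ({u} : Set G) := by
      rw [Subgroup.mem_centralizer_singleton_iff]
      have := (Subgroup.mem_centralizer_iff.1 hb) u
        (Subgroup.mem_centralizer_singleton_iff.2 rfl)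
      exact this.symm
    have hcomm : Commute a b := ((Subgroup.mem_centralizer_iff.1 ha) b hbC).symm
    rw [hcomm.mul_pow, pow_add, pow_mul, hk, one_pow, mul_comm (p ^ k), pow_mul, hl, one_pow, one_mul]
  inv_mem' := by
    rintro a ⟨ha, k, hk⟩
    exact ⟨Subgroup.inv_mem _ ha, k, by rw [inv_pow, hk, inv_one]⟩

theorem dcP_isPGroup {G : Type*} [Group G] (p : ℕ) (u : G) : IsPGroup p (dcP p u) := by
  rintro ⟨a, ha, k, hk⟩
  exact ⟨k, Subtype.ext hk⟩

theorem normalizer_le_normalizer_dcP {G : Type*} [Group G] (p : ℕ) (u : G) :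
    Subgroup.normalizer ((Subgroup.centralizer ({u} : Set G) : Subgroup G) : Set G) ≤
      Subgroup.normalizer ((dcP p u : Subgroup G) : Set G) := by
  intro h hh
  rw [Subgroup.mem_set_normalizer_iff] at hh
  have key : ∀ (h : G), (∀ n, n ∈ (Subgroup.centralizer ({u} : Set G) : Set G) ↔
      h * n * h⁻¹ ∈ (Subgroup.centralizer ({u} : Set G) : Set G)) →
      ∀ a ∈ dcP p u, h * a * h⁻¹ ∈ dcP p u := by
    intro h hh a ha
    obtain ⟨ha1, k, hk⟩ := ha
    refine ⟨?_, k, ?_⟩
    · rw [Subgroup.mem_centralizer_iff]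
      intro c hc
      -- c = h c' h⁻¹ with c' = h⁻¹ c h ∈ C(u)
      have hc' : h⁻¹ * c * h ∈ (Subgroup.centralizer ({u} : Set G) : Set G) := by
        rw [hh]
        have : h * (h⁻¹ * c * h) * h⁻¹ = c := by group
        rw [this]; exact hc
      have h1 := (Subgroup.mem_centralizer_iff.1 ha1) _ hc'
      calc c * (h * a * h⁻¹) = h * ((h⁻¹ * c * h) * a) * h⁻¹ := by group
        _ = h * (a * (h⁻¹ * c * h)) * h⁻¹ := by rw [h1]
        _ = h * a * h⁻¹ * c := by group
    · rw [conj_pow, hk]; group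
  rw [Subgroup.mem_set_normalizer_iff]
  intro a
  constructor
  · exact key h hh a
  · intro ha
    have hh' : ∀ n, n ∈ (Subgroup.centralizer ({u} : Set G) : Set G) ↔
        h⁻¹ * n * h⁻¹⁻¹ ∈ (Subgroup.centralizer ({u} : Set G) : Set G) := by
      intro n
      rw [hh (h⁻¹ * n * h⁻¹⁻¹)]
      have : h * (h⁻¹ * n * h⁻¹⁻¹) * h⁻¹ = n := by group
      rw [this]
    have := key h⁻¹ hh' _ ha
    have e : h⁻¹ * (h * a * h⁻¹) * h⁻¹⁻¹ = a := by group
    rwa [e] at this

/-- If a Sylow `p`-subgroup `Q` normalizes `C(u)` for a `p`-element `u`, then `u ∈ Q`. -/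
theorem mem_sylow_of_le_normalizer {G : Type*} [Group G] {p : ℕ} [Fact p.Prime] (Q : Sylow p G)
    (u : G) (hu : ∃ k : ℕ, u ^ p ^ k = 1)
    (hQ : (Q : Subgroup G) ≤
      Subgroup.normalizer ((Subgroup.centralizer ({u} : Set G) : Subgroup G) : Set G)) :
    u ∈ (Q : Subgroup G) := by
  have h1 : IsPGroup p ((Q : Subgroup G) ⊔ dcP p u : Subgroup G) :=
    IsPGroup.to_sup_of_normal_right' Q.2 (dcP_isPGroup p u)
      (le_trans hQ (normalizer_le_normalizer_dcP p u))
  have h2 := Q.is_maximal' h1 le_sup_left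
  have h3 : dcP p u ≤ (Q : Subgroup G) := by
    rw [← h2]; exact le_sup_right
  apply h3
  refine ⟨?_, hu⟩
  rw [Subgroup.mem_centralizer_iff]
  intro c hc
  exact Subgroup.mem_centralizer_singleton_iff.1 hc

/-- Let G be a finite group in which the centralizer of every element meets each of its conjugates by elements outside its normalizer trivially. Then any two distinct Sylow p-subgroups of G, for any prime p, intersect trivially. -/
theorem result {G : Type*} [Group G] [Finite G] (hTI : ∀ x : G, Cfsg.IsTISubset (Subgroup.centralizer ({x} : Set G) : Set G))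
    {p : ℕ} [Fact p.Prime] (P Q : Sylow p G) (hPQ : P ≠ Q) : (P : Subgroup G) ⊓ (Q : Subgroup G) = ⊥ := by
  classical
  by_contra hne
  -- a nontrivial element of the intersection
  have : ∃ y ∈ (P : Subgroup G) ⊓ (Q : Subgroup G), y ≠ 1 := by
    by_contra hcon
    push Not at hcon
    apply hne
    rw [eq_bot_iff]
    intro y hy
    rw [Subgroup.mem_bot]
    exact hcon y hy
  obtain ⟨y, hy, hy1⟩ := this
  obtain ⟨hyP, hyQ⟩ := Subgroup.mem_inf.1 hy
  -- observation A
  have obsA : ∀ u v : G, v ∈ Subgroup.centralizer ({u} : Set G) → v ≠ 1 →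
      Subgroup.centralizer ({v} : Set G) ≤
        Subgroup.normalizer ((Subgroup.centralizer ({u} : Set G) : Subgroup G) : Set G) := by
    intro u v hv hv1 h hh
    by_contra hN
    apply hv1
    apply hTI u h hN v hv
    have := Subgroup.mem_centralizer_singleton_iff.1 hh
    have e : h * v * h⁻¹ = v := by rw [this]; group
    rw [e]; exact hv
  -- a nontrivial central element of P
  haveI : Nontrivial (P : Subgroup G) := by
    refine ⟨⟨⟨y, hyP⟩, 1, ?_⟩⟩
    intro h
    exact hy1 (congrArg Subtype.val h)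
  haveI : Nontrivial (Subgroup.center (P : Subgroup G)) := P.2.center_nontrivial
  obtain ⟨⟨z, hz⟩, hz1⟩ := exists_ne (1 : Subgroup.center (P : Subgroup G))
  have hz1' : (z : G) ≠ 1 := by
    intro h
    apply hz1
    apply Subtype.ext
    apply Subtype.ext
    exact h
  have hzP : ∀ x ∈ (P : Subgroup G), x * (z : G) = (z : G) * x := by
    intro x hx
    have := Subgroup.mem_center_iff.1 hz ⟨x, hx⟩
    exact congrArg Subtype.val this
  have hPC : (P : Subgroup G) ≤ Subgroup.centralizer ({(z : G)} : Set G) := by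
    intro x hx
    exact Subgroup.mem_centralizer_singleton_iff.2 (hzP x hx)
  obtain ⟨g, rfl⟩ := MulAction.exists_smul_eq G P Q
  have hgN : g ∈ Subgroup.normalizer
      ((Subgroup.centralizer ({(z : G)} : Set G) : Subgroup G) : Set G) := by
    by_contra hN
    have h1 : g⁻¹ * y * g ∈ (P : Subgroup G) := (mem_smul_sylow_iff P g y).1 hyQ
    have h2 := hTI (z : G) g hN (g⁻¹ * y * g) (hPC h1)
      (by
        have : g * (g⁻¹ * y * g) * g⁻¹ = y := by group
        rw [this]; exact hPC hyP)
    apply hy1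
    calc y = g * (g⁻¹ * y * g) * g⁻¹ := by group
      _ = 1 := by rw [h2]; group
  have hQC : ((g • P : Sylow p G) : Subgroup G) ≤ Subgroup.centralizer ({(z : G)} : Set G) := by
    intro q hq
    have h1 : g⁻¹ * q * g ∈ (P : Subgroup G) := (mem_smul_sylow_iff P g q).1 hq
    have h2 := (Subgroup.mem_set_normalizer_iff.1 hgN (g⁻¹ * q * g)).1 (hPC h1)
    have : g * (g⁻¹ * q * g) * g⁻¹ = q := by group
    rwa [this] at h2
  -- now P ≤ g • P
  have hle : (P : Subgroup G) ≤ ((g • P : Sylow p G) : Subgroup G) := by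
    intro u hu
    by_cases hu1 : u = 1
    · rw [hu1]; exact Subgroup.one_mem _
    have hzu : (z : G) ∈ Subgroup.centralizer ({u} : Set G) :=
      Subgroup.mem_centralizer_singleton_iff.2 (hzP u hu).symm
    have h1 := obsA u (z : G) hzu hz1'
    apply mem_sylow_of_le_normalizer (g • P) u _ (le_trans hQC h1)
    obtain ⟨k, hk⟩ := P.2 ⟨u, hu⟩
    exact ⟨k, by simpa using congrArg Subtype.val hk⟩
  have := P.is_maximal' (g • P).2 hle
  exact hPQ (Sylow.ext this.symm)

end Cfsg.Agent.S4066
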