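import Cfsg.Statements.S4067
import Cfsg.Agent.Lib.Helper1.AutOrbDefs
import Cfsg.Agent.Lib.Helper1.AutOrbC
import Cfsg.Agent.Lib.Helper1.AutOrbD2
import Cfsg.Agent.Lib.Helper4.AutOrbA
import Cfsg.Agent.Lib.Helper4.AutOrbE
import Cfsg.Agent.Lib.Helper4.AutOrbD3
import Cfsg.Agent.Lib.Helper6.AutOrbB
import Cfsg.Agent.Lib.Helper6.AutOrbD1

set_option autoImplicit false
set_option linter.unusedVariables false
open Cfsg

namespace Cfsg.Agent.S4067

open Cfsg.Agent.Lib.Helper1.AutOrb Cfsg.Agent.Lib.Helper4.AutOrb Cfsg.Agent.Lib.Helper6.AutOrb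


theorem good_of_cl2 {G : Type*} [Group G] [Finite G] {p : ℕ} (H : Cl2 G p) : Good G p := by
  haveI : Fact p.Prime := ⟨H.hp⟩
  by_cases hΩ : ∀ w ∈ Subgroup.center G, w ^ p = 1 → w ∈ commutator G
  · by_cases hp2 : p = 2
    · subst hp2
      exact good_of_two H hΩ
    · exact good_of_odd H hp2 hΩ
  · push_neg at hΩ
    obtain ⟨w, hw, hwp, hwc⟩ := hΩ
    exact good_of_central H w hw hwp hwc

theorem orbit_ge_of_noncentral {G : Type*} [Group G] [Finite G] {p : ℕ} (H : Cl2 G p) (x : G)
    (hx : x ∉ Subgroup.center G) : p ≤ Nat.card (MulAction.orbit (MulAut G) x) := by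
  classical
  -- the map `c ↦ x * c` from `G'` into the orbit
  have hinj : Function.Injective
      (fun c : commutator G => (⟨x * (c : G), by
        obtain ⟨g, hg⟩ := conj_eq_mul H x hx c c.2
        exact ⟨MulAut.conj g, by simpa [MulAut.conj_apply] using hg⟩⟩ : MulAction.orbit (MulAut G) x)) := by
    intro c d hcd
    have h1 : x * (c : G) = x * (d : G) := congrArg Subtype.val hcd
    exact Subtype.ext (mul_left_cancel h1)
  have := Nat.card_le_card_of_injective _ hinj
  rwa [H.card] at this

theorem orbit_ge_of_not_mem {G : Type*} [Group G] [Finite G] {p : ℕ} (M W : Subgroup G)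
    (hW : Nat.card W = p ^ 2)
    (hgood : ∀ x : G, x ∉ M → ∀ u ∈ W, ∃ α : MulAut G, α x = x * u) (x : G) (hx : x ∉ M) :
    p ^ 2 ≤ Nat.card (MulAction.orbit (MulAut G) x) := by
  classical
  have hinj : Function.Injective
      (fun u : W => (⟨x * (u : G), by
        obtain ⟨α, hα⟩ := hgood x hx u u.2
        exact ⟨α, hα⟩⟩ : MulAction.orbit (MulAut G) x)) := by
    intro c d hcd
    have h1 : x * (c : G) = x * (d : G) := congrArg Subtype.val hcd
    exact Subtype.ext (mul_left_cancel h1)
  have := Nat.card_le_card_of_injective _ hinj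
  rwa [hW] at this

/-- Let G be a finite non-abelian group and p the least prime dividing its order. Then the automorphism group of G has at most #G/p orbits on G. -/
theorem result {G : Type*} [Group G] [Finite G] (hna : ¬ IsMulCommutative G) :
    Nat.card (MulAction.orbitRel.Quotient (MulAut G) G) ≤ Nat.card G / (Nat.card G).minFac := by
  have hn1 : Nat.card G ≠ 1 := by
    intro h1
    apply hna
    haveI : Subsingleton G := (Nat.card_eq_one_iff_unique.mp h1).1
    exact ⟨⟨fun a b => Subsingleton.elim _ _⟩⟩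
  have hp : (Nat.card G).minFac.Prime := Nat.minFac_prime hn1
  have hpos : 0 < (Nat.card G).minFac := hp.pos
  rw [Nat.le_div_iff_mul_le hpos]
  by_cases h : Nat.card G < (Nat.card G).minFac * Nat.card (ConjClasses G)
  · have H := cl2_of_many_classes hna h
    obtain ⟨M, W, hZM, hM, hGW, hW, hgood⟩ := good_of_cl2 H
    refine orbit_count_le (A := MulAut G) (X := G) _ hp
      ((Subgroup.center G : Subgroup G) : Set G) (M : Set G) hZM ?_ ?_ ?_ ?_
    · have := M.card_mul_index
      rw [hM] at this
      exact this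
    · exact card_center_mul_sq_le H
    · intro x hx
      exact orbit_ge_of_noncentral H x hx
    · intro x hx
      exact orbit_ge_of_not_mem M W hW hgood x hx
  · push_neg at h
    calc Nat.card (MulAction.orbitRel.Quotient (MulAut G) G) * (Nat.card G).minFac
        ≤ Nat.card (ConjClasses G) * (Nat.card G).minFac :=
          Nat.mul_le_mul_right _ orbits_le_classes
      _ = (Nat.card G).minFac * Nat.card (ConjClasses G) := Nat.mul_comm _ _
      _ ≤ Nat.card G := h

end Cfsg.Agent.S4067
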