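import Cfsg.Statements.S4074
import Mathlib

set_option autoImplicit false
open Cfsg

namespace Cfsg.Agent.S4074

open DihedralGroup

/-- The index of an element of the dihedral group. -/
def idx {n : ℕ} : DihedralGroup n → ZMod n
  | r i => i
  | sr i => i

/-- For even `n`, the subgroup `⟨r², s⟩` of `D_n`. -/
def evenSub (n : ℕ) (h2 : 2 ∣ n) : Subgroup (DihedralGroup n) where
  carrier := {g | ZMod.castHom h2 (ZMod 2) (idx g) = 0}
  one_mem' := by
    change ZMod.castHom h2 (ZMod 2) (idx (1 : DihedralGroup n)) = 0
    rw [one_def]; simp [idx]
  mul_mem' := by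
    intro a b ha hb
    simp only [Set.mem_ofPred_eq] at ha hb ⊢
    cases a <;> cases b <;> simp only [idx, r_mul_r, r_mul_sr, sr_mul_r, sr_mul_sr] at ha hb ⊢ <;>
      simp [map_add, map_sub, ha, hb]
  inv_mem' := by
    intro a ha
    simp only [Set.mem_ofPred_eq] at ha ⊢
    cases a <;> simp only [idx, inv_r, inv_sr] at ha ⊢ <;> simp [map_neg, ha]

theorem mem_evenSub {n : ℕ} (h2 : 2 ∣ n) (g : DihedralGroup n) :
    g ∈ evenSub n h2 ↔ ZMod.castHom h2 (ZMod 2) (idx g) = 0 := Iff.rfl

/-- For n > 2, every non-abelian subgroup of the dihedral group of order 2n is self-normalizing if and only if n = 4 or n is odd. -/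
theorem result (n : ℕ) (hn : 2 < n) :
    (∀ H : Subgroup (DihedralGroup n), ¬ IsMulCommutative H → Subgroup.normalizer (H : Set (DihedralGroup n)) = H) ↔
    (n = 4 ∨ Odd n) := by
  classical
  haveI : NeZero n := ⟨by omega⟩
  constructor
  · intro h
    by_contra hcon
    push Not at hcon
    obtain ⟨hn4, hnodd⟩ := hcon
    have h2 : 2 ∣ n := by
      rcases Nat.even_or_odd n with he | ho
      · exact he.two_dvd
      · exact absurd ho hnodd
    have hn6 : 6 ≤ n := by
      obtain ⟨k, rfl⟩ := h2
      omega
    -- H = ⟨r², s⟩ is nonabelian
    have hna : ¬ IsMulCommutative (evenSub n h2) := by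
      intro hc
      have hr2 : (r 2 : DihedralGroup n) ∈ evenSub n h2 := by
        rw [mem_evenSub]
        simp only [idx, map_ofNat]
        decide
      have hs0 : (sr 0 : DihedralGroup n) ∈ evenSub n h2 := by
        rw [mem_evenSub]; simp [idx]
      have := hc.is_comm.comm (⟨r 2, hr2⟩ : evenSub n h2) ⟨sr 0, hs0⟩
      have h' : (r 2 : DihedralGroup n) * sr 0 = sr 0 * r 2 := congrArg Subtype.val this
      rw [r_mul_sr, sr_mul_r] at h'
      have h'' : (0 : ZMod n) - 2 = 0 + 2 := by
        injection h'
      have h4 : ((4 : ℕ) : ZMod n) = 0 := by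
        push_cast
        linear_combination (-1 : ZMod n) * h''
      rw [ZMod.natCast_eq_zero_iff] at h4
      have := Nat.le_of_dvd (by norm_num) h4
      omega
    have hself := h (evenSub n h2) hna
    -- r 1 normalizes H but is not in H
    have hr1N : (r 1 : DihedralGroup n) ∈ Subgroup.normalizer ((evenSub n h2 : Subgroup _) : Set _) := by
      rw [Subgroup.mem_set_normalizer_iff]
      intro g
      change g ∈ evenSub n h2 ↔ r 1 * g * (r 1)⁻¹ ∈ evenSub n h2
      rw [mem_evenSub, mem_evenSub]
      cases g with
      | r i => simp [idx, inv_r, r_mul_r]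
      | sr i =>
        simp only [idx, inv_r, r_mul_sr, sr_mul_r, map_sub, map_add, map_neg, map_one]
        have : (1 : ZMod 2) = -1 := by decide
        constructor
        · intro hi; rw [hi]; decide
        · intro hi
          have h3 : (ZMod.castHom h2 (ZMod 2)) i - 1 + -1 = (ZMod.castHom h2 (ZMod 2)) i := by
            have : ((-1 : ZMod 2) + -1) = 0 := by decide
            linear_combination this
          rwa [h3] at hi
    rw [hself] at hr1N
    rw [mem_evenSub] at hr1N
    simp only [idx, map_one] at hr1N
    exact absurd hr1N (by decide)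
  · rintro (rfl | hodd) H hH
    · -- n = 4 : a nonabelian subgroup of a group of order 8 is everything
      have hcard : Nat.card H ∣ 8 := by
        have := Subgroup.card_subgroup_dvd_card H
        rwa [DihedralGroup.nat_card] at this
      have hHtop : H = ⊤ := by
        by_contra hne
        apply hH
        have hlt : Nat.card H ≠ 8 := by
          intro h8
          apply hne
          apply (Subgroup.card_eq_iff_eq_top H).1
          rw [h8, DihedralGroup.nat_card]
        have hdiv : Nat.card H ∈ Nat.divisors 8 := Nat.mem_divisors.2 ⟨hcard, by norm_num⟩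
        have h8 : Nat.divisors 8 = {1, 2, 4, 8} := by decide
        rw [h8] at hdiv
        simp only [Finset.mem_insert, Finset.mem_singleton] at hdiv
        rcases hdiv with h1 | h2 | h4 | h8'
        · haveI : Subsingleton H := (Nat.card_eq_one_iff_unique.1 h1).1
          exact ⟨⟨fun a b => Subsingleton.elim _ _⟩⟩
        · haveI : Fact (Nat.Prime 2) := ⟨Nat.prime_two⟩
          haveI : IsCyclic H := isCyclic_of_prime_card h2
          exact ⟨⟨fun a b => (IsCyclic.commGroup (α := H)).mul_comm a b⟩⟩
        · haveI : Fact (Nat.Prime 2) := ⟨Nat.prime_two⟩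
          have h4' : Nat.card H = 2 ^ 2 := by rw [h4]; norm_num
          exact IsPGroup.isMulCommutative_of_card_eq_prime_sq h4'
        · exact absurd h8' hlt
      rw [hHtop]
      ext x
      simp [Subgroup.mem_set_normalizer_iff]
    · -- n odd
      apply le_antisymm _ Subgroup.le_normalizer
      -- H contains a reflection
      have hrefl : ∃ i, (sr i : DihedralGroup n) ∈ H := by
        by_contra hcon
        push Not at hcon
        apply hH
        refine ⟨⟨?_⟩⟩
        rintro ⟨a, ha⟩ ⟨b, hb⟩
        apply Subtype.ext
        change a * b = b * a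
        cases a with
        | sr i => exact absurd ha (hcon i)
        | r i =>
          cases b with
          | sr j => exact absurd hb (hcon j)
          | r j => rw [r_mul_r, r_mul_r, add_comm]
      obtain ⟨i, hi⟩ := hrefl
      -- rotations in the normalizer lie in H
      have hrot : ∀ j : ZMod n, (r j : DihedralGroup n) ∈
          Subgroup.normalizer ((H : Subgroup _) : Set _) → (r j : DihedralGroup n) ∈ H := by
        intro j hj
        have h1 := (Subgroup.mem_set_normalizer_iff.1 hj (sr i)).1 hi
        rw [inv_r, r_mul_sr, sr_mul_r] at h1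
        have h2 : (sr i : DihedralGroup n) * sr (i - j + -j) ∈ H := H.mul_mem hi h1
        rw [sr_mul_sr] at h2
        have h3 : (r (j * 2) : DihedralGroup n) ∈ H := by
          have := H.inv_mem h2
          rw [inv_r] at this
          have e : -(i - j + -j - i) = j * 2 := by ring
          rwa [e] at this
        obtain ⟨m, rfl⟩ := hodd
        have h4 := H.pow_mem h3 (m + 1)
        rw [r_pow] at h4
        have e : j * 2 * ((m + 1 : ℕ) : ZMod (2 * m + 1)) = j := by
          have hz : ((2 * m + 1 : ℕ) : ZMod (2 * m + 1)) = 0 := ZMod.natCast_self _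
          push_cast at hz ⊢
          linear_combination j * hz
        rwa [e] at h4
      intro g hg
      cases g with
      | r j => exact hrot j hg
      | sr j =>
        have h1 : (sr i : DihedralGroup n) * sr j ∈
            Subgroup.normalizer ((H : Subgroup _) : Set _) :=
          Subgroup.mul_mem _ (Subgroup.le_normalizer hi) hg
        rw [sr_mul_sr] at h1
        have h2 := hrot _ h1
        have h3 := H.mul_mem hi h2
        rw [sr_mul_r] at h3
        have e : i + (j - i) = j := by ring
        rwa [e] at h3

end Cfsg.Agent.S4074
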