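import Cfsg.Statements.S4075
import Mathlib

set_option autoImplicit false
open Cfsg

namespace Cfsg.Agent.S4075

/-- Let G be a finite nilpotent group. Every non-abelian subgroup of G is self-normalizing if and only if G is abelian or G is a minimal non-abelian p-group for some prime p (non-abelian of prime-power order with every proper subgroup abelian). -/
theorem result {G : Type*} [Group G] [Finite G]
    [Group.IsNilpotent G] :
    (∀ H : Subgroup G, ¬ IsMulCommutative H → Subgroup.normalizer (H : Set G) = H) ↔
    (IsMulCommutative G ∨ (IsPrimePow (Nat.card G) ∧ ¬ IsMulCommutative G ∧ ∀ H : Subgroup G, H ≠ ⊤ → IsMulCommutative H)) := by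
  classical
  constructor
  · intro h
    by_cases hG : IsMulCommutative G
    · left; exact hG
    right
    -- every proper subgroup is abelian
    have hprop : ∀ H : Subgroup G, H ≠ ⊤ → IsMulCommutative H := by
      intro H hH
      by_contra hna
      have h1 := h H hna
      have h2 : H < Subgroup.normalizer (H : Set G) :=
        Group.normalizerCondition_of_isNilpotent H (lt_top_iff_ne_top.2 hH)
      rw [h1] at h2
      exact lt_irrefl _ h2
    refine ⟨?_, hG, hprop⟩
    -- prime power order
    rw [isPrimePow_iff_unique_prime_dvd]
    have hcard : Nat.card G ≠ 1 := by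
      intro h1
      haveI : Subsingleton G := (Nat.card_eq_one_iff_unique.1 h1).1
      apply hG
      exact ⟨⟨fun a b => Subsingleton.elim _ _⟩⟩
    obtain ⟨p, hp, hpG⟩ := Nat.exists_prime_and_dvd hcard
    refine ⟨p, ⟨hp, hpG⟩, ?_⟩
    rintro q ⟨hq, hqG⟩
    by_contra hqp
    -- then every Sylow subgroup is proper, hence abelian, so G is abelian
    apply hG
    have hsyl : ∀ (r : ℕ) [Fact r.Prime] (P : Sylow r G), IsMulCommutative (P : Subgroup G) := by
      intro r _ P
      apply hprop
      intro htop
      -- then G is an r-group, but p and q both divide |G|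
      have hPG : IsPGroup r G := by
        have := P.2
        rw [htop] at this
        exact this.of_equiv Subgroup.topEquiv
      obtain ⟨k, hk⟩ := IsPGroup.iff_card.1 hPG
      rw [hk] at hpG hqG
      have hr : r.Prime := Fact.out
      have e1 := (Nat.prime_dvd_prime_iff_eq hp hr).1 (hp.dvd_of_dvd_pow hpG)
      have e2 := (Nat.prime_dvd_prime_iff_eq hq hr).1 (hq.dvd_of_dvd_pow hqG)
      exact hqp (e2.trans e1.symm)
    obtain ⟨e⟩ := ((Group.isNilpotent_of_finite_tfae (G := G)).out 0 4).1 (by infer_instance)
    refine ⟨⟨fun x y => ?_⟩⟩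
    obtain ⟨a, rfl⟩ := e.surjective x
    obtain ⟨b, rfl⟩ := e.surjective y
    rw [← map_mul, ← map_mul]
    congr 1
    funext r P
    haveI : Fact (r : ℕ).Prime := ⟨Nat.prime_of_mem_primeFactors r.2⟩
    have := (hsyl r P).is_comm.comm (a r P) (b r P)
    exact this
  · rintro (hG | ⟨-, hG, hprop⟩) H hH
    · exact absurd (by infer_instance) hH
    · have : H = ⊤ := by
        by_contra hne
        exact hH (hprop H hne)
      rw [this]
      ext x
      simp [Subgroup.mem_set_normalizer_iff]

end Cfsg.Agent.S4075
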