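import Cfsg.Statements.S4079
import Cfsg.Agent.Lib.Helper1.S4079A
import Cfsg.Agent.Lib.Helper9.S4079C1
import Cfsg.Agent.Lib.Helper4.S4079C2
import Cfsg.Agent.Lib.Helper8.S4079D
import Cfsg.Agent.Lib.Helper9.S4079B

set_option autoImplicit false
open Cfsg

namespace Cfsg.Agent.S4079

/-- Let p be an odd prime and L a finite metacyclic p-group with no cyclic subgroup of index p, and let a be an automorphism of L of order p. Then a moves some element of order p of L if and only if p = 3 and the semidirect product L ⋊ ⟨a⟩ (of order 3·#L) has maximal class, i.e. nilpotency class m where #L = 3^m. -/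
theorem result {L : Type*} [Group L] [Finite L] {p : ℕ} [Fact p.Prime]
    (hp : p ≠ 2) (hL : IsPGroup p L) (hmc : Cfsg.IsMetacyclic L) (hnc : ∀ C : Subgroup L, IsCyclic C → C.index ≠ p)
    (a : MulAut L) (ha : orderOf a = p) (m : ℕ) (hm : Nat.card L = p ^ m) :
    (∃ x : L, orderOf x = p ∧ a x ≠ x) ↔
    (p = 3 ∧ Group.nilpotencyClass (SemidirectProduct L ↥(Subgroup.zpowers a) (Subgroup.zpowers a).subtype) = m) := by
  have hpp : p.Prime := Fact.out
  haveI : Nontrivial L := by
    by_contra hnt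
    rw [not_nontrivial_iff_subsingleton] at hnt
    have ha1 : a = 1 := by
      ext x
      exact Subsingleton.elim _ _
    rw [ha1, orderOf_one] at ha
    exact hpp.one_lt.ne ha
  obtain ⟨W, H, hW, hH, hWc, hHc⟩ :=
    Cfsg.Agent.Lib.Helper9.S4079C1.structure1 hp hL hmc hnc
  obtain ⟨hcen, hpow⟩ :=
    Cfsg.Agent.Lib.Helper4.S4079C2.structure2 hp hL hmc W H hW hH hWc hHc
  have hm4 : 4 ≤ m := by
    have h1 : Nat.card H ≤ Nat.card L := Subgroup.card_le_card_group H
    rw [hHc, hm] at h1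
    exact (Nat.pow_le_pow_iff_right hpp.one_lt).mp h1
  constructor
  · rintro ⟨x, hx, hmv⟩
    obtain ⟨h3, hfix⟩ := Cfsg.Agent.Lib.Helper8.S4079D.compute hp hL W H hW hH hWc hHc hcen hpow a
      (by rw [← ha]; exact pow_orderOf_eq_one a) x (by rw [← hx]; exact pow_orderOf_eq_one x) hmv
    subst h3
    exact ⟨rfl, Cfsg.Agent.Lib.Helper9.S4079B.class_eq a ha m hm hfix⟩
  · rintro ⟨h3, hcl⟩
    subst h3
    exact Cfsg.Agent.Lib.Helper1.S4079.converse hmc hnc a ha m hm4 hm hcl

end Cfsg.Agent.S4079
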