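import Cfsg.Statements.S4080
import Cfsg.Agent.Lib.Helper7.HomoRk2

set_option autoImplicit false
open Cfsg

namespace Cfsg.Agent.S4080

open Cfsg.Agent.Lib.Helper7

/-- Let p > 3 be a prime and L the direct product of two cyclic groups of order p². Every automorphism of L of order p fixes every element of order p of L. -/
theorem result {p : ℕ} [Fact p.Prime] (hp : 3 < p)
    (a : MulAut (Multiplicative (ZMod (p ^ 2) × ZMod (p ^ 2)))) (ha : orderOf a = p)
    (x : Multiplicative (ZMod (p ^ 2) × ZMod (p ^ 2))) (hx : orderOf x = p) : a x = x := by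
  let φ : AddMonoid.End (ZMod (p ^ 2) × ZMod (p ^ 2)) :=
    AddMonoidHom.toMultiplicative.symm a.toMonoidHom
  have hφ : ∀ v, φ v = Multiplicative.toAdd (a (Multiplicative.ofAdd v)) := fun v => rfl
  have hpow : ∀ k : ℕ, ∀ v, (φ ^ k) v
      = Multiplicative.toAdd ((a ^ k) (Multiplicative.ofAdd v)) := by
    intro k
    induction k with
    | zero => intro v; rw [pow_zero φ, pow_zero a]; rfl
    | succ k ih =>
      intro v
      rw [pow_succ φ k, pow_succ a k]
      show (φ ^ k) (φ v) = Multiplicative.toAdd ((a ^ k) (a (Multiplicative.ofAdd v)))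
      rw [ih, hφ]; rfl
  have hap : a ^ p = 1 := by
    have h1 := pow_orderOf_eq_one a
    rwa [ha] at h1
  have hxp : x ^ p = 1 := by
    have h1 := pow_orderOf_eq_one x
    rwa [hx] at h1
  have hφp : φ ^ p = 1 := by
    apply AddMonoid.End.ext; intro v
    rw [hpow, hap]; rfl
  have hxs : p • Multiplicative.toAdd x = 0 := by
    rw [← toAdd_pow, hxp]; rfl
  have h1 := HomoRk2.main hp φ hφp (Multiplicative.toAdd x) hxs
  exact Multiplicative.toAdd.injective h1

end Cfsg.Agent.S4080
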