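import Cfsg.Statements.S4084
import Mathlib

set_option autoImplicit false
open Cfsg

namespace Cfsg.Agent.S4084

/-- The double centralizer of an element. -/
def dc {G : Type*} [Group G] (x : G) : Subgroup G :=
  Subgroup.centralizer (Subgroup.centralizer ({x} : Set G) : Set G)

theorem mem_dc {G : Type*} [Group G] (x y : G) :
    y ∈ dc x ↔ ∀ z : G, Commute z x → Commute z y := by
  unfold dc
  rw [Subgroup.mem_centralizer_iff]
  constructor
  · intro h z hz
    exact h z (Subgroup.mem_centralizer_singleton_iff.2 hz)
  · intro h z hz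
    exact h z (Subgroup.mem_centralizer_singleton_iff.1 hz)

theorem self_mem_dc {G : Type*} [Group G] (x : G) : x ∈ dc x := by
  rw [mem_dc]; intro z hz; exact hz

theorem dc_comm {G : Type*} [Group G] (x : G) (a b : G) (ha : a ∈ dc x) (hb : b ∈ dc x) :
    Commute a b := by
  rw [mem_dc] at ha hb
  have h1 : Commute a x := (ha x (Commute.refl x)).symm
  exact hb a h1

theorem key {G H : Type*} [Group G] [Finite G] [Group H] [Finite H] (e : G ≃ H)
    (he : ∀ x y : G, Commute x y ↔ Commute (e x) (e y))
    {p q : ℕ} (hp : p.Prime) (hq : q.Prime) (hpq : p ≠ q) :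
    (∃ g : G, orderOf g = p * q) → (∃ h : H, orderOf h = p * q) := by
  rintro ⟨g, hg⟩
  -- e maps dc g onto dc (e g)
  have hbij : ∀ y : G, y ∈ dc g ↔ e y ∈ dc (e g) := by
    intro y
    rw [mem_dc, mem_dc]
    constructor
    · intro h w hw
      obtain ⟨z, rfl⟩ := e.surjective w
      exact (he z y).1 (h z ((he z g).2 hw))
    · intro h z hz
      exact (he z y).2 (h (e z) ((he z g).1 hz))
  have hcard : Nat.card (dc g) = Nat.card (dc (e g)) := by
    apply Nat.card_congr
    exact { toFun := fun y => ⟨e y.1, (hbij y.1).1 y.2⟩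
            invFun := fun w => ⟨e.symm w.1, (hbij _).2 (by rw [e.apply_symm_apply]; exact w.2)⟩
            left_inv := fun y => Subtype.ext (e.symm_apply_apply _)
            right_inv := fun w => Subtype.ext (e.apply_symm_apply _) }
  have hdvd : p * q ∣ Nat.card (dc (e g)) := by
    rw [← hcard, ← hg]
    have := orderOf_dvd_natCard (⟨g, self_mem_dc g⟩ : dc g)
    rwa [Subgroup.orderOf_mk] at this
  haveI : Fact p.Prime := ⟨hp⟩
  haveI : Fact q.Prime := ⟨hq⟩
  obtain ⟨a, ha⟩ := exists_prime_orderOf_dvd_card' p (dvd_trans (dvd_mul_right p q) hdvd)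
  obtain ⟨b, hb⟩ := exists_prime_orderOf_dvd_card' q (dvd_trans (dvd_mul_left q p) hdvd)
  have hcomm : Commute (a : H) (b : H) := dc_comm (e g) a b a.2 b.2
  refine ⟨(a : H) * b, ?_⟩
  rw [hcomm.orderOf_mul_eq_mul_orderOf_of_coprime, Subgroup.orderOf_coe, Subgroup.orderOf_coe,
    ha, hb]
  rw [Subgroup.orderOf_coe, Subgroup.orderOf_coe, ha, hb]
  exact (Nat.coprime_primes hp hq).2 hpq

/-- Let G and H be finite groups whose commuting graphs are isomorphic: there is a bijection e : G → H with x, y commuting exactly when e(x), e(y) commute. Then G and H have the same prime graph: for distinct primes p, q, G has an element of order pq if and only if H does (and #G = #H, so the prime divisors agree). -/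
theorem result {G H : Type*} [Group G] [Finite G] [Group H] [Finite H] (e : G ≃ H)
    (he : ∀ x y : G, Commute x y ↔ Commute (e x) (e y))
    {p q : ℕ} (hp : p.Prime) (hq : q.Prime) (hpq : p ≠ q) :
    (∃ g : G, orderOf g = p * q) ↔ (∃ h : H, orderOf h = p * q) := by
  constructor
  · exact key e he hp hq hpq
  · refine key e.symm ?_ hp hq hpq
    intro x y
    rw [he (e.symm x) (e.symm y), e.apply_symm_apply, e.apply_symm_apply]

end Cfsg.Agent.S4084
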