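import Cfsg.Statements.S4086
import Cfsg.Agent.Lib.Helper3.CyclicSub

set_option autoImplicit false
open Cfsg

namespace Cfsg.Agent.S4086

open Cfsg.Agent.Lib.Helper3 in
/-- In a cyclic subgroup `C` of prime power order, elements are comparable. -/
theorem comparable_of_card_prime_pow {G : Type*} [Group G] [Finite G] (C : Subgroup G) [IsCyclic C]
    (p k : ℕ) (hp : p.Prime) (hC : Nat.card C = p ^ k) (x y : G) (hx : x ∈ C) (hy : y ∈ C) :
    x ∈ Subgroup.zpowers y ∨ y ∈ Subgroup.zpowers x := by
  have hordx : orderOf x ∣ p ^ k := by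
    rw [← hC]
    have := orderOf_dvd_natCard (⟨x, hx⟩ : C)
    rwa [Subgroup.orderOf_mk] at this
  have hordy : orderOf y ∣ p ^ k := by
    rw [← hC]
    have := orderOf_dvd_natCard (⟨y, hy⟩ : C)
    rwa [Subgroup.orderOf_mk] at this
  obtain ⟨a, -, ha⟩ := (Nat.dvd_prime_pow hp).1 hordx
  obtain ⟨b, -, hb⟩ := (Nat.dvd_prime_pow hp).1 hordy
  -- general claim
  have claim : ∀ (u v : G) (a b : ℕ), u ∈ C → v ∈ C → orderOf u = p ^ a → orderOf v = p ^ b →
      a ≤ b → u ∈ Subgroup.zpowers v := by
    intro u v a b hu hv hua hvb hab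
    have hv0 : orderOf v ≠ 0 := (orderOf_pos v).ne'
    have hdvd : p ^ a ∣ orderOf v := by rw [hvb]; exact pow_dvd_pow p hab
    have h1 : orderOf (v ^ (orderOf v / p ^ a)) = p ^ a := orderOf_pow_orderOf_div hv0 hdvd
    have h2 : Subgroup.zpowers u = Subgroup.zpowers (v ^ (orderOf v / p ^ a)) := by
      apply subgroup_eq_of_card_eq_of_le_isCyclic C
      · rw [Subgroup.zpowers_le]; exact hu
      · rw [Subgroup.zpowers_le]; exact C.pow_mem hv _
      · rw [Nat.card_zpowers, Nat.card_zpowers, hua, h1]
    have h3 : u ∈ Subgroup.zpowers (v ^ (orderOf v / p ^ a)) := by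
      rw [← h2]; exact Subgroup.mem_zpowers u
    have h4 : Subgroup.zpowers (v ^ (orderOf v / p ^ a)) ≤ Subgroup.zpowers v := by
      rw [Subgroup.zpowers_le]
      exact Subgroup.pow_mem _ (Subgroup.mem_zpowers v) _
    exact h4 h3
  rcases le_total a b with hab | hab
  · left; exact claim x y a b hx hy ha hb hab
  · right; exact claim y x b a hy hx hb ha hab

/-- For a finite group G the following are equivalent: every non-identity element has prime-power order; whenever two elements generate a cyclic subgroup, one of them is a power of the other (the enhanced power graph of G coincides with its power graph). -/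
theorem result {G : Type*} [Group G] [Finite G] :
    (∀ g : G, g ≠ 1 → IsPrimePow (orderOf g)) ↔
    (∀ x y : G, IsCyclic ↥(Subgroup.closure ({x, y} : Set G)) → (x ∈ Subgroup.zpowers y ∨ y ∈ Subgroup.zpowers x)) := by
  classical
  constructor
  · intro h x y hcyc
    obtain ⟨z, hz⟩ := hcyc.exists_generator
    have hcard : Nat.card ↥(Subgroup.closure ({x, y} : Set G)) = orderOf (z : G) := by
      rw [Subgroup.orderOf_coe]
      exact (orderOf_eq_card_of_forall_mem_zpowers hz).symm
    have hxC : x ∈ Subgroup.closure ({x, y} : Set G) := Subgroup.subset_closure (by simp)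
    have hyC : y ∈ Subgroup.closure ({x, y} : Set G) := Subgroup.subset_closure (by simp)
    by_cases hz1 : (z : G) = 1
    · rw [hz1, orderOf_one] at hcard
      exact comparable_of_card_prime_pow _ 2 0 Nat.prime_two (by rw [hcard, pow_zero]) x y hxC hyC
    · obtain ⟨p, k, hp, -, hpk⟩ := (isPrimePow_nat_iff _).1 (h _ hz1)
      exact comparable_of_card_prime_pow _ p k hp (by rw [hcard, hpk]) x y hxC hyC
  · intro h g hg1
    by_contra hnpp
    have hn1 : orderOf g ≠ 1 := fun h1 => hg1 (orderOf_eq_one_iff.1 h1)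
    have hn0 : orderOf g ≠ 0 := (orderOf_pos g).ne'
    obtain ⟨p, hp, hpn⟩ := Nat.exists_prime_and_dvd hn1
    have : ∃ q : ℕ, q.Prime ∧ q ∣ orderOf g ∧ q ≠ p := by
      by_contra hcon
      push Not at hcon
      apply hnpp
      rw [isPrimePow_iff_unique_prime_dvd]
      exact ⟨p, ⟨hp, hpn⟩, fun q hq => hcon q hq.1 hq.2⟩
    obtain ⟨q, hq, hqn, hqp⟩ := this
    set x := g ^ (orderOf g / p) with hx
    set y := g ^ (orderOf g / q) with hy
    have hox : orderOf x = p := orderOf_pow_orderOf_div hn0 hpn
    have hoy : orderOf y = q := orderOf_pow_orderOf_div hn0 hqn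
    have hle : Subgroup.closure ({x, y} : Set G) ≤ Subgroup.zpowers g := by
      rw [Subgroup.closure_le]
      intro w hw
      rcases hw with rfl | rfl
      · exact Subgroup.pow_mem _ (Subgroup.mem_zpowers g) _
      · exact Subgroup.pow_mem _ (Subgroup.mem_zpowers g) _
    have hcyc : IsCyclic ↥(Subgroup.closure ({x, y} : Set G)) := Subgroup.isCyclic_of_le hle
    rcases h x y hcyc with hxy | hyx
    · have := orderOf_dvd_of_mem_zpowers hxy
      rw [hox, hoy] at this
      exact hqp ((Nat.prime_dvd_prime_iff_eq hp hq).1 this).symm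
    · have := orderOf_dvd_of_mem_zpowers hyx
      rw [hox, hoy] at this
      exact hqp ((Nat.prime_dvd_prime_iff_eq hq hp).1 this)

end Cfsg.Agent.S4086
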