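import Cfsg.Statements.S4092
import Mathlib
import Cfsg.Agent.S0216

set_option autoImplicit false
open Cfsg

namespace Cfsg.Agent.S4092


open scoped Pointwise

/-- the finset of elements of a subgroup -/
theorem card_filter_mem {G : Type*} [Group G] [Fintype G] [DecidableEq G] (K : Subgroup G)
    [DecidablePred (· ∈ K)] :
    (Finset.univ.filter (· ∈ K)).card = Nat.card K := by
  rw [Nat.card_eq_fintype_card, Fintype.card_subtype]

/-- The geometric configuration: `p + 1` Sylow subgroups meeting pairwise in `D`. -/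
theorem exists_config {G : Type*} [Group G] [Finite G] (p : ℕ) [Fact p.Prime]
    (P : Sylow p G) (hP : ¬ (P : Subgroup G).Normal) :
    ∃ (P₁ : Sylow p G) (D : Subgroup G) (O : Set (Sylow p G)),
      D < (P₁ : Subgroup G) ∧ p ≤ Nat.card O ∧ (∀ Q ∈ O, D ≤ (Q : Subgroup G)) ∧
      (∀ Q ∈ O, (P₁ : Subgroup G) ⊓ (Q : Subgroup G) = D) ∧
      (∀ Q ∈ O, ∀ Q' ∈ O, Q ≠ Q' → (Q : Subgroup G) ⊓ (Q' : Subgroup G) = D) := by
  classical
  have hp : p.Prime := Fact.out
  -- two distinct Sylow subgroups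
  have hex : ∃ pq : Sylow p G × Sylow p G, pq.1 ≠ pq.2 := by
    by_contra hcon
    push Not at hcon
    apply hP
    rw [← Subgroup.normalizer_eq_top_iff, eq_top_iff]
    intro g _
    exact Sylow.smul_eq_iff_mem_normalizer.1 (hcon (g • P, P))
  haveI : Nonempty {pq : Sylow p G × Sylow p G // pq.1 ≠ pq.2} := by
    obtain ⟨pq, h⟩ := hex
    exact ⟨⟨pq, h⟩⟩
  obtain ⟨⟨⟨P₁, P₂⟩, hne⟩, hmax⟩ := Finite.exists_max
    (fun pq : {pq : Sylow p G × Sylow p G // pq.1 ≠ pq.2} =>
      Nat.card ((pq.1.1 : Subgroup G) ⊓ (pq.1.2 : Subgroup G) : Subgroup G))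
  simp only at hne
  have hmax' : ∀ Q Q' : Sylow p G, Q ≠ Q' →
      Nat.card ((Q : Subgroup G) ⊓ (Q' : Subgroup G) : Subgroup G) ≤
        Nat.card ((P₁ : Subgroup G) ⊓ (P₂ : Subgroup G) : Subgroup G) :=
    fun Q Q' h => hmax ⟨(Q, Q'), h⟩
  obtain ⟨D, hD⟩ : ∃ D : Subgroup G, D = (P₁ : Subgroup G) ⊓ (P₂ : Subgroup G) := ⟨_, rfl⟩
  rw [← hD] at hmax'
  have hDP₁ : D ≤ P₁ := hD ▸ inf_le_left
  have hDP₂ : D ≤ P₂ := hD ▸ inf_le_right
  have hDlt : D < (P₁ : Subgroup G) := by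
    refine lt_of_le_of_ne hDP₁ ?_
    intro h
    apply hne
    have : (P₁ : Subgroup G) ≤ P₂ := h ▸ hDP₂
    exact (Sylow.ext (P₁.3 P₂.2 this)).symm
  -- key: a pair of distinct Sylow subgroups containing D meets in D
  have hkey : ∀ Q Q' : Sylow p G, Q ≠ Q' → D ≤ Q → D ≤ Q' →
      (Q : Subgroup G) ⊓ (Q' : Subgroup G) = D := by
    intro Q Q' h h1 h2
    exact (Subgroup.eq_of_le_of_card_ge (le_inf h1 h2) (hmax' Q Q' h)).symm
  -- an element of N_{P₁}(D) outside D
  obtain ⟨x, hxP₁, hxN, hxD⟩ : ∃ x : G, x ∈ (P₁ : Subgroup G) ∧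
      x ∈ Subgroup.normalizer (D : Set G) ∧ x ∉ D := by
    haveI : Group.IsNilpotent (P₁ : Subgroup G) := P₁.2.isNilpotent
    have hnc := Group.normalizerCondition_of_isNilpotent (G := (P₁ : Subgroup G))
    have hlt : D.subgroupOf (P₁ : Subgroup G) < ⊤ := by
      rw [lt_top_iff_ne_top]
      intro h
      rw [Subgroup.subgroupOf_eq_top] at h
      exact hDlt.not_ge h
    have h2 := hnc _ hlt
    obtain ⟨y, hy1, hy2⟩ := SetLike.exists_of_lt h2
    rw [← Subgroup.subgroupOf_normalizer_eq hDP₁, Subgroup.mem_subgroupOf] at hy1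
    rw [Subgroup.mem_subgroupOf] at hy2
    exact ⟨y, y.2, hy1, hy2⟩
  have hxP₂ : x ∉ (P₂ : Subgroup G) := fun h => hxD (hD ▸ Subgroup.mem_inf.2 ⟨hxP₁, h⟩)
  obtain ⟨R, hRdef⟩ : ∃ R : Subgroup G, R = Subgroup.zpowers x := ⟨_, rfl⟩
  have hRP₁ : R ≤ P₁ := by rw [hRdef, Subgroup.zpowers_le]; exact hxP₁
  have hRN : R ≤ Subgroup.normalizer (D : Set G) := by rw [hRdef, Subgroup.zpowers_le]; exact hxN
  have hRp : IsPGroup p R := P₁.2.to_le hRP₁
  refine ⟨P₁, D, MulAction.orbit R P₂, hDlt, ?_, ?_, ?_, ?_⟩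
  · -- orbit has at least p elements
    obtain ⟨j, hj⟩ := IsPGroup.card_orbit hRp P₂
    have hj0 : j ≠ 0 := by
      intro h0
      rw [h0, pow_zero] at hj
      apply hxP₂
      have hfix : P₂ ∈ MulAction.fixedPoints R (Sylow p G) := by
        rw [← MulAction.subsingleton_orbit_iff_mem_fixedPoints]
        have := (Nat.card_eq_one_iff_unique.1 hj).1
        exact Set.subsingleton_coe _ |>.1 this
      rw [hRp.sylow_mem_fixedPoints_iff] at hfix
      exact hfix (hRdef ▸ Subgroup.mem_zpowers x)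
    rw [hj]
    calc p = p ^ 1 := (pow_one p).symm
      _ ≤ p ^ j := Nat.pow_le_pow_right hp.pos (Nat.one_le_iff_ne_zero.2 hj0)
  · -- D ≤ Q
    rintro Q ⟨r, rfl⟩
    intro d hd
    show d ∈ ((r : G) • P₂ : Sylow p G)
    rw [Cfsg.Agent.S0216.mem_smul_sylow]
    have hr := (Subgroup.normalizer (D : Set G)).inv_mem (hRN r.2)
    have := (Subgroup.mem_normalizer_iff.1 hr d).1 hd
    rw [inv_inv] at this
    exact hDP₂ this
  · rintro Q ⟨r, rfl⟩
    have hDQ : D ≤ ((r • P₂ : Sylow p G) : Subgroup G) := by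
      intro d hd
      show d ∈ ((r : G) • P₂ : Sylow p G)
      rw [Cfsg.Agent.S0216.mem_smul_sylow]
      have hr := (Subgroup.normalizer (D : Set G)).inv_mem (hRN r.2)
      have := (Subgroup.mem_normalizer_iff.1 hr d).1 hd
      rw [inv_inv] at this
      exact hDP₂ this
    apply hkey P₁ _ ?_ hDP₁ hDQ
    intro h
    apply hne
    have h1 : ((r : G) • P₁ : Sylow p G) = P₁ := by
      rw [Sylow.smul_eq_iff_mem_normalizer]
      exact Subgroup.le_normalizer (hRP₁ r.2)
    have h2 : ((r : G) • P₂ : Sylow p G) = (r : G) • P₁ := by rw [h1]; exact h.symm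
    exact (smul_left_cancel _ h2).symm
  · rintro Q ⟨r, rfl⟩ Q' ⟨r', rfl⟩ hQQ'
    have hDQ : ∀ r : R, D ≤ ((r • P₂ : Sylow p G) : Subgroup G) := by
      intro r d hd
      show d ∈ ((r : G) • P₂ : Sylow p G)
      rw [Cfsg.Agent.S0216.mem_smul_sylow]
      have hr := (Subgroup.normalizer (D : Set G)).inv_mem (hRN r.2)
      have := (Subgroup.mem_normalizer_iff.1 hr d).1 hd
      rw [inv_inv] at this
      exact hDP₂ this
    exact hkey _ _ hQQ' (hDQ r) (hDQ r')

theorem main {G : Type*} [Group G] [Finite G] (p : ℕ) [Fact p.Prime]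
    (P : Sylow p G) (hP : ¬ (P : Subgroup G).Normal) :
    p * Nat.card (P : Subgroup G) ≤ Nat.card {g : G // ∃ k : ℕ, orderOf g = p ^ k} := by
  classical
  have hp : p.Prime := Fact.out
  haveI : Fintype G := Fintype.ofFinite G
  obtain ⟨P₁, D, O, hDlt, hO, hDQ, hP₁Q, hQQ'⟩ := exists_config p P hP
  -- cardinalities
  have hcardS : ∀ Q : Sylow p G, Nat.card (Q : Subgroup G) = Nat.card (P : Subgroup G) := by
    intro Q
    rw [Sylow.card_eq_multiplicity, Sylow.card_eq_multiplicity]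
  obtain ⟨a, ha⟩ := P.2.exists_card_eq
  have hDp : IsPGroup p D := P₁.2.to_le hDlt.le
  obtain ⟨b, hb⟩ := IsPGroup.iff_card.1 hDp
  have hba : b < a := by
    have h1 : Nat.card D < Nat.card (P₁ : Subgroup G) := by
      rcases lt_or_eq_of_le (Subgroup.card_le_of_le hDlt.le) with h | h
      · exact h
      · exact absurd (Subgroup.eq_of_le_of_card_ge hDlt.le h.ge) hDlt.ne
    rw [hcardS P₁, ha, hb] at h1
    exact (Nat.pow_lt_pow_iff_right hp.one_lt).1 h1
  have hpD : p * Nat.card D ≤ Nat.card (P : Subgroup G) := by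
    rw [ha, hb, ← pow_succ']
    exact Nat.pow_le_pow_right hp.pos hba
  -- finsets
  let S : Subgroup G → Finset G := fun K => Finset.univ.filter (· ∈ K)
  have hS : ∀ K : Subgroup G, (S K).card = Nat.card K := fun K => card_filter_mem K
  have hSmem : ∀ (K : Subgroup G) (g : G), g ∈ S K ↔ g ∈ K := by
    intro K g; simp [S]
  let Of : Finset (Sylow p G) := Finset.univ.filter (· ∈ O)
  have hOf : Of.card = Nat.card O := by
    rw [Nat.card_eq_fintype_card, Fintype.card_subtype]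
  have hOfmem : ∀ Q, Q ∈ Of ↔ Q ∈ O := by intro Q; simp [Of]
  let U : Finset G := S (P₁ : Subgroup G) ∪ Of.biUnion (fun Q => S (Q : Subgroup G) \ S D)
  -- U consists of p-elements
  have hUE : U ⊆ Finset.univ.filter (fun g : G => ∃ k : ℕ, orderOf g = p ^ k) := by
    intro g hg
    rw [Finset.mem_filter]
    refine ⟨Finset.mem_univ _, ?_⟩
    rw [Finset.mem_union, Finset.mem_biUnion] at hg
    rcases hg with hg | ⟨Q, -, hg⟩
    · rw [hSmem] at hg
      obtain ⟨k, hk⟩ := (IsPGroup.iff_orderOf.1 P₁.2) ⟨g, hg⟩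
      exact ⟨k, by rwa [Subgroup.orderOf_mk] at hk⟩
    · rw [Finset.mem_sdiff, hSmem] at hg
      obtain ⟨k, hk⟩ := (IsPGroup.iff_orderOf.1 Q.2) ⟨g, hg.1⟩
      exact ⟨k, by rwa [Subgroup.orderOf_mk] at hk⟩
  -- card U
  have hdisj1 : Disjoint (S (P₁ : Subgroup G)) (Of.biUnion (fun Q => S (Q : Subgroup G) \ S D)) := by
    rw [Finset.disjoint_left]
    intro g hg1 hg2
    rw [Finset.mem_biUnion] at hg2
    obtain ⟨Q, hQ, hg2⟩ := hg2
    rw [Finset.mem_sdiff, hSmem, hSmem] at hg2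
    rw [hSmem] at hg1
    apply hg2.2
    rw [← hP₁Q Q ((hOfmem Q).1 hQ)]
    exact Subgroup.mem_inf.2 ⟨hg1, hg2.1⟩
  have hdisj2 : (Of : Set (Sylow p G)).PairwiseDisjoint (fun Q => S (Q : Subgroup G) \ S D) := by
    intro Q hQ Q' hQ' hne
    simp only [Function.onFun]
    rw [Finset.disjoint_left]
    intro g hg1 hg2
    rw [Finset.mem_sdiff, hSmem, hSmem] at hg1 hg2
    apply hg1.2
    rw [← hQQ' Q ((hOfmem Q).1 hQ) Q' ((hOfmem Q').1 hQ') hne]
    exact Subgroup.mem_inf.2 ⟨hg1.1, hg2.1⟩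
  have hcardB : ∀ Q ∈ Of, (S (Q : Subgroup G) \ S D).card =
      Nat.card (P : Subgroup G) - Nat.card D := by
    intro Q hQ
    rw [Finset.card_sdiff_of_subset, hS, hS, hcardS]
    intro g hg
    rw [hSmem] at hg ⊢
    exact hDQ Q ((hOfmem Q).1 hQ) hg
  have hcardU : U.card = Nat.card (P : Subgroup G) +
      Nat.card O * (Nat.card (P : Subgroup G) - Nat.card D) := by
    rw [Finset.card_union_of_disjoint hdisj1, Finset.card_biUnion hdisj2, hS, hcardS,
      Finset.sum_congr rfl hcardB, Finset.sum_const, smul_eq_mul, hOf]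
  have hE : Nat.card {g : G // ∃ k : ℕ, orderOf g = p ^ k} =
      (Finset.univ.filter (fun g : G => ∃ k : ℕ, orderOf g = p ^ k)).card := by
    rw [Nat.card_eq_fintype_card, Fintype.card_subtype]
  rw [hE]
  refine le_trans ?_ (Finset.card_le_card hUE)
  rw [hcardU]
  have h1 : p * (Nat.card (P : Subgroup G) - Nat.card D) ≤
      Nat.card O * (Nat.card (P : Subgroup G) - Nat.card D) := Nat.mul_le_mul_right _ hO
  have h2 : p * (Nat.card (P : Subgroup G) - Nat.card D) =
      p * Nat.card (P : Subgroup G) - p * Nat.card D := Nat.mul_sub _ _ _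
  omega

/-- Let G be a finite group, p a prime and P a Sylow p-subgroup of G that is not normal in G. Then G has at least p·#P elements of p-power order (the identity included). -/
theorem result {G : Type*} [Group G] [Finite G] (p : ℕ) [Fact p.Prime]
    (P : Sylow p G) (hP : ¬ (P : Subgroup G).Normal) :
    p * Nat.card (P : Subgroup G) ≤ Nat.card {g : G // ∃ k : ℕ, orderOf g = p ^ k} :=
  main p P hP

end Cfsg.Agent.S4092
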