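import Cfsg.Statements.S4093
import Mathlib

set_option autoImplicit false
open scoped BigOperators
open Cfsg

namespace Cfsg.Agent.S4093

open Pointwise

theorem mem_smul_sylow_iff {G : Type*} [Group G] {p : ℕ} (P : Sylow p G) (g x : G) :
    x ∈ ((g • P : Sylow p G) : Subgroup G) ↔ g⁻¹ * x * g ∈ (P : Subgroup G) := by
  rw [Sylow.coe_subgroup_smul, Subgroup.mem_pointwise_smul_iff_inv_smul_mem]
  simp [MulAut.smul_def]

/-- Let G be a finite group with a normal subgroup N complementing a Sylow p-subgroup P (a normal p-complement). Then the number of elements of G of p-power order equals the sum over x ∈ P of the index of C_N(x) in N. -/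
theorem result {G : Type*} [Group G] [Finite G] (p : ℕ) [Fact p.Prime]
    (P : Sylow p G) (N : Subgroup G) [N.Normal] (hNP : N.IsComplement' (P : Subgroup G)) :
    Nat.card {g : G // ∃ k : ℕ, orderOf g = p ^ k} =
      ∑ᶠ x : (P : Subgroup G), Nat.card N / Nat.card ↥(N ⊓ Subgroup.centralizer ({(x : G)} : Set G)) := by
  classical
  have hinf : N ⊓ (P : Subgroup G) = ⊥ := hNP.disjoint.eq_bot
  have hsup : N ⊔ (P : Subgroup G) = ⊤ := hNP.sup_eq_top
  have hdecomp : ∀ g : G, ∃ n ∈ N, ∃ x ∈ (P : Subgroup G), g = n * x := by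
    intro g
    have hg : g ∈ N ⊔ (P : Subgroup G) := by rw [hsup]; trivial
    have : g ∈ (N : Set G) * ((P : Subgroup G) : Set G) := by
      rw [← Subgroup.normal_mul]; exact hg
    obtain ⟨n, hn, x, hx, rfl⟩ := this
    exact ⟨n, hn, x, hx, rfl⟩
  -- N acts on G by conjugation
  letI : MulAction N G := MulAction.compHom G (MulAut.conj.comp N.subtype)
  have hsmul : ∀ (m : N) (g : G), m • g = (m : G) * g * (m : G)⁻¹ := fun m g => rfl
  -- orbit sizes
  have horb : ∀ x : G, Nat.card (MulAction.orbit N x) =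
      Nat.card N / Nat.card ↥(N ⊓ Subgroup.centralizer ({x} : Set G)) := by
    intro x
    have h1 : Nat.card (MulAction.orbit N x) * Nat.card (MulAction.stabilizer N x) = Nat.card N := by
      rw [Nat.card_coe_set_eq, ← MulAction.index_stabilizer, mul_comm]
      exact Subgroup.card_mul_index _
    have h2 : Nat.card (MulAction.stabilizer N x) =
        Nat.card ↥(N ⊓ Subgroup.centralizer ({x} : Set G)) := by
      apply Nat.card_congr
      refine { toFun := fun m => ⟨(m.1 : G), ⟨m.1.2, ?_⟩⟩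
               invFun := fun m => ⟨⟨m.1, m.2.1⟩, ?_⟩
               left_inv := fun m => rfl
               right_inv := fun m => rfl }
      · apply Subgroup.mem_centralizer_singleton_iff.2
        have := MulAction.mem_stabilizer_iff.1 m.2
        rw [hsmul] at this
        calc (m.1 : G) * x = ((m.1 : G) * x * (m.1 : G)⁻¹) * m.1 := by group
          _ = x * m.1 := by rw [this]
      · rw [MulAction.mem_stabilizer_iff, hsmul]
        have := Subgroup.mem_centralizer_singleton_iff.1 m.2.2
        change m.1 * x * (m.1)⁻¹ = x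
        rw [this]; group
    rw [h2] at h1
    have hpos : 0 < Nat.card ↥(N ⊓ Subgroup.centralizer ({x} : Set G)) := Nat.card_pos
    exact (Nat.div_eq_of_eq_mul_left hpos h1.symm).symm
  -- the bijection
  have hbij : Nat.card {g : G // ∃ k : ℕ, orderOf g = p ^ k} =
      Nat.card (Σ x : (P : Subgroup G), MulAction.orbit N (x : G)) := by
    symm
    apply Nat.card_congr
    refine Equiv.ofBijective (fun z => ⟨(z.2 : G), ?_⟩) ⟨?_, ?_⟩
    · obtain ⟨x, g, hg⟩ := z
      obtain ⟨m, rfl⟩ := hg
      change ∃ k : ℕ, orderOf (m • (x : G)) = p ^ k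
      rw [hsmul]
      have : orderOf ((m : G) * x * (m : G)⁻¹) = orderOf (x : G) := (MulAut.conj (m : G)).orderOf_eq x
      rw [this]
      obtain ⟨k, hk⟩ := P.2 x
      have hk' : (x : G) ^ p ^ k = 1 := by
        have := congrArg Subtype.val hk
        simpa using this
      obtain ⟨j, -, hj⟩ := (Nat.dvd_prime_pow Fact.out).1 (orderOf_dvd_of_pow_eq_one hk')
      exact ⟨j, hj⟩
    · rintro ⟨x, g, hg⟩ ⟨x', g', hg'⟩ h
      have hgg : g = g' := congrArg Subtype.val h
      subst hgg
      obtain ⟨m, hm⟩ := hg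
      obtain ⟨m', hm'⟩ := hg'
      have hm2 : (m : G) * x * (m : G)⁻¹ = g := hm
      have hm2' : (m' : G) * x' * (m' : G)⁻¹ = g := hm'
      have h1 : g * (x : G)⁻¹ ∈ N := by
        rw [← hm2]
        have : (m : G) * x * (m : G)⁻¹ * (x : G)⁻¹ = m * ((x : G) * (m : G)⁻¹ * (x : G)⁻¹) := by group
        rw [this]
        exact N.mul_mem m.2 (Subgroup.Normal.conj_mem inferInstance _ (N.inv_mem m.2) _)
      have h2 : g * (x' : G)⁻¹ ∈ N := by
        rw [← hm2']
        have : (m' : G) * x' * (m' : G)⁻¹ * (x' : G)⁻¹ = m' * ((x' : G) * (m' : G)⁻¹ * (x' : G)⁻¹) := by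
          group
        rw [this]
        exact N.mul_mem m'.2 (Subgroup.Normal.conj_mem inferInstance _ (N.inv_mem m'.2) _)
      have h3 : (x : G) * (x' : G)⁻¹ ∈ N := by
        have : (x : G) * (x' : G)⁻¹ = (g * (x : G)⁻¹)⁻¹ * (g * (x' : G)⁻¹) := by group
        rw [this]
        exact N.mul_mem (N.inv_mem h1) h2
      have h4 : (x : G) * (x' : G)⁻¹ ∈ N ⊓ (P : Subgroup G) :=
        ⟨h3, (P : Subgroup G).mul_mem x.2 ((P : Subgroup G).inv_mem x'.2)⟩
      rw [hinf, Subgroup.mem_bot] at h4
      have hxx : x = x' := Subtype.ext (mul_inv_eq_one.1 h4)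
      subst hxx
      rfl
    · rintro ⟨g, hg⟩
      -- g lies in a Sylow subgroup, conjugate to P by an element of N
      have hgp : IsPGroup p (Subgroup.zpowers g) := by
        rw [IsPGroup.iff_card, Nat.card_zpowers]; exact hg
      obtain ⟨Q, hQ⟩ := hgp.exists_le_sylow
      obtain ⟨h, rfl⟩ := MulAction.exists_smul_eq G P Q
      have hgQ := (mem_smul_sylow_iff P h g).1 (hQ (Subgroup.mem_zpowers g))
      obtain ⟨n, hn, y, hy, rfl⟩ := hdecomp h
      -- g = n (y x' y⁻¹) n⁻¹ with x' = (n y)⁻¹ g (n y) ∈ P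
      set x' := (n * y)⁻¹ * g * (n * y) with hx'
      have hx'' : y * x' * y⁻¹ ∈ (P : Subgroup G) :=
        (P : Subgroup G).mul_mem ((P : Subgroup G).mul_mem hy hgQ) ((P : Subgroup G).inv_mem hy)
      refine ⟨⟨⟨y * x' * y⁻¹, hx''⟩, ⟨g, ⟨⟨n, hn⟩, ?_⟩⟩⟩, rfl⟩
      change n * (y * x' * y⁻¹) * n⁻¹ = g
      rw [hx']; group
  haveI : Fintype (P : Subgroup G) := Fintype.ofFinite _
  rw [hbij, Nat.card_sigma, finsum_eq_sum_of_fintype]
  exact Finset.sum_congr rfl (fun x _ => horb x)

end Cfsg.Agent.S4093
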