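-- Statement S4106: the number of classes of π-elements is at most the π-part of |G|.
import Cfsg.Statements.S4106
import Mathlib
import Cfsg.Agent.Lib.Helper2.FrobeniusDiv
import Cfsg.Agent.Lib.Helper2.PiNumber
import Cfsg.Agent.Lib.Helper3.PiClosed
import Cfsg.Agent.S0216

set_option autoImplicit false
open Cfsg

namespace Cfsg.Agent.S4106

universe u

open Cfsg.Agent.Lib.Helper3

/-- The class-level `π`-condition of the statement. -/
def piClass (π : Set ℕ) (G : Type*) [Group G] (C : ConjClasses G) : Prop :=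
  ∀ q : ℕ, q.Prime → (∃ g : G, ConjClasses.mk g = C ∧ q ∣ orderOf g) → q ∈ π

theorem orderOf_eq_of_isConj {G : Type*} [Group G] {a b : G} (h : IsConj a b) :
    orderOf a = orderOf b := by
  obtain ⟨c, hc⟩ := isConj_iff.1 h
  have := orderOf_injective (MulAut.conj c).toMonoidHom (MulEquiv.injective _) a
  rw [← hc]
  simpa [MulAut.conj_apply] using this.symm

theorem piClass_mk_iff (π : Set ℕ) {G : Type*} [Group G] (g : G) :
    piClass π G (ConjClasses.mk g) ↔ IsPiElt π g := by
  constructor
  · intro h q hq hqg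
    exact h q hq ⟨g, rfl, hqg⟩
  · rintro h q hq ⟨g', hg', hqg'⟩
    have := orderOf_eq_of_isConj (ConjClasses.mk_eq_mk_iff_isConj.1 hg')
    rw [this] at hqg'
    exact h q hq hqg'

/-- the `p`-part / `p'`-part decomposition -/
theorem exists_p_decomp {G : Type*} [Group G] [Finite G] (p : ℕ) (hp : p.Prime) (g : G) :
    ∃ u v : G, g = u * v ∧ Commute u v ∧ (∃ e : ℕ, u ^ (p ^ e) = 1) ∧
      (∃ s : ℕ, ¬ p ∣ s ∧ s ∣ orderOf g ∧ v ^ s = 1) := by
  have ho : orderOf g ≠ 0 := (orderOf_pos g).ne'
  obtain ⟨e, s, hps, hes⟩ := Nat.exists_eq_pow_mul_and_not_dvd ho p hp.ne_one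
  have hcop : Nat.Coprime (p ^ e) s := ((Nat.Prime.coprime_iff_not_dvd hp).2 hps).pow_left e
  obtain ⟨c, hc1, hc0⟩ := Nat.chineseRemainder hcop 1 0
  have hsc : s ∣ c := (Nat.modEq_zero_iff_dvd).1 hc0
  have hx : g ^ (p ^ e * s) = 1 := by rw [← hes]; exact pow_orderOf_eq_one g
  obtain ⟨h1, h2, h3⟩ := Cfsg.Agent.Lib.Helper2.frob_decomp hc1 hsc g hx
  refine ⟨g ^ c, (g ^ c)⁻¹ * g, by group, h2, ⟨e, h1⟩, ⟨s, hps, ?_, h3⟩⟩
  rw [hes]; exact Dvd.intro_left _ rfl

theorem main : ∀ (m : ℕ) (G : Type u) [Group G] [Finite G] (π : Set ℕ) (n : ℕ),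
    Nat.card G = m * n → IsPiNum π m → IsPiNum πᶜ n →
    Nat.card {C : ConjClasses G // piClass π G C} ≤ m := by
  intro m
  induction m using Nat.strong_induction_on with
  | _ m IH =>
  intro G _ _ π n hcard hm hn
  classical
  have hGpos : 0 < Nat.card G := Nat.card_pos
  have hm0 : m ≠ 0 := by
    rintro rfl
    rw [zero_mul] at hcard; omega
  have hn0 : n ≠ 0 := by
    rintro rfl
    rw [mul_zero] at hcard; omega
  by_cases hm1 : m = 1
  · subst hm1
    rw [Finite.card_le_one_iff_subsingleton]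
    have hall : ∀ C : {C : ConjClasses G // piClass π G C}, C.1 = ConjClasses.mk 1 := by
      rintro ⟨C, hC⟩
      obtain ⟨g, rfl⟩ := ConjClasses.exists_rep C
      rw [piClass_mk_iff] at hC
      have : IsPiNum πᶜ (Nat.card G) := by rw [hcard, one_mul]; exact hn
      have hg1 : g = 1 := eq_one_of_isPiElt_of_isPiNum_compl this hC
      show ConjClasses.mk g = ConjClasses.mk 1
      rw [hg1]
    constructor
    intro C₁ C₂
    apply Subtype.ext
    rw [hall C₁, hall C₂]
  · obtain ⟨p, hp, hpm⟩ := Nat.exists_prime_and_dvd hm1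
    haveI : Fact p.Prime := ⟨hp⟩
    have hpπ : p ∈ π := hm p hp hpm
    obtain ⟨a, m', hpm', hmeq⟩ := Nat.exists_eq_pow_mul_and_not_dvd hm0 p hp.ne_one
    have ha : a ≠ 0 := by
      rintro rfl
      rw [pow_zero, one_mul] at hmeq
      exact hpm' (hmeq ▸ hpm)
    have hm'pos : 0 < m' := by
      rcases Nat.eq_zero_or_pos m' with h | h
      · rw [h, mul_zero] at hmeq; exact absurd hmeq hm0
      · exact h
    have hm'lt : m' < m := by
      rw [hmeq]
      have : 2 ≤ p ^ a := by
        calc 2 ≤ p := hp.two_le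
          _ = p ^ 1 := (pow_one p).symm
          _ ≤ p ^ a := Nat.pow_le_pow_right hp.pos (Nat.one_le_iff_ne_zero.2 ha)
      nlinarith
    have hpn : ¬ p ∣ n := fun h => hn p hp h hpπ
    obtain ⟨P⟩ : Nonempty (Sylow p G) := inferInstance
    -- |P| = p ^ a
    have hPcard : Nat.card (P : Subgroup G) = p ^ a := by
      obtain ⟨k, hk⟩ := IsPGroup.iff_card.1 P.2
      have hidx := P.card_coprime_index
      have hmul := (P : Subgroup G).card_mul_index
      rw [hk] at hidx hmul
      rw [hk]
      have hcop1 : Nat.Coprime (p ^ k) (m' * n) :=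
        (Nat.Coprime.mul_right ((Nat.Prime.coprime_iff_not_dvd hp).2 hpm')
          ((Nat.Prime.coprime_iff_not_dvd hp).2 hpn)).pow_left k
      have hcop2 : Nat.Coprime (p ^ a) (P : Subgroup G).index := by
        rcases Nat.eq_zero_or_pos k with hk0 | hkpos
        · -- then p ∤ |G|, contradiction with p ∣ m
          exfalso
          rw [hk0, pow_zero, one_mul] at hmul
          rw [hk0, pow_zero] at hidx
          have : p ∣ Nat.card G := by rw [hcard]; exact Dvd.dvd.mul_right hpm n
          have hpk : p ∣ (P : Subgroup G).index := by rw [hmul]; exact this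
          have hnd := P.not_dvd_index
          exact hnd hpk
        · have : Nat.Coprime p (P : Subgroup G).index :=
            (Nat.coprime_pow_left_iff hkpos _ _).1 hidx
          exact this.pow_left a
      have e1 : p ^ k * (P : Subgroup G).index = p ^ a * (m' * n) := by
        rw [hmul, hcard, hmeq, mul_assoc]
      have d1 : p ^ k ∣ p ^ a := hcop1.dvd_of_dvd_mul_right (e1 ▸ Dvd.intro _ rfl)
      have d2 : p ^ a ∣ p ^ k := hcop2.dvd_of_dvd_mul_right (e1.symm ▸ Dvd.intro _ rfl)
      exact Nat.dvd_antisymm d1 d2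
    -- the bound for each centralizer
    have hbound : ∀ x : (P : Subgroup G),
        Nat.card {C' : ConjClasses (Subgroup.centralizer ({(x : G)} : Set G)) //
          piClass (π \ {p}) _ C'} ≤ m' := by
      intro x
      have hCpos : Nat.card (Subgroup.centralizer ({(x : G)} : Set G)) ≠ 0 := Nat.card_pos.ne'
      obtain ⟨mx, nx, hx, hmx, hnx⟩ :=
        Cfsg.Agent.Lib.Helper2.exists_pi_decomp (π \ {p}) _ hCpos
      have hmx' : IsPiNum (π \ {p}) mx := hmx
      have hnx' : IsPiNum (π \ {p})ᶜ nx := hnx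
      have hdvd : mx ∣ p ^ a * m' * n := by
        rw [← hmeq, ← hcard]
        exact (Dvd.intro _ hx.symm).trans (Subgroup.card_subgroup_dvd_card _)
      have hc1 : Nat.Coprime mx n := by
        apply Nat.coprime_of_dvd
        intro q hq h1 h2
        exact hn q hq h2 (hmx' q hq h1).1
      have hc2 : Nat.Coprime mx (p ^ a) := by
        apply Nat.Coprime.pow_right
        rw [Nat.coprime_comm, Nat.Prime.coprime_iff_not_dvd hp]
        intro h
        exact (hmx' p hp h).2 rfl
      have hd2 : mx ∣ m' := by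
        have := hc1.dvd_of_dvd_mul_right hdvd
        exact hc2.dvd_of_dvd_mul_left this
      have hmxle : mx ≤ m' := Nat.le_of_dvd hm'pos hd2
      exact le_trans (IH mx (lt_of_le_of_lt hmxle hm'lt) _ (π \ {p}) nx hx hmx' hnx') hmxle
    -- the surjection
    let F : (Σ x : (P : Subgroup G),
        {C' : ConjClasses (Subgroup.centralizer ({(x : G)} : Set G)) // piClass (π \ {p}) _ C'}) →
        {C : ConjClasses G // piClass π G C} := fun z =>
      ⟨ConjClasses.mk ((z.1 : G) * ((Quotient.out z.2.1 :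
          Subgroup.centralizer ({(z.1 : G)} : Set G)) : G)), by
        rw [piClass_mk_iff]
        obtain ⟨x, C', hC'⟩ := z
        have hout : ConjClasses.mk (Quotient.out C') = C' := Quotient.out_eq C'
        rw [← hout, piClass_mk_iff] at hC'
        have hy : IsPiElt (π \ {p}) ((Quotient.out C' :
            Subgroup.centralizer ({(x : G)} : Set G)) : G) := (isPiElt_coe_iff _).2 hC'
        have hcomm : Commute (x : G) ((Quotient.out C' :
            Subgroup.centralizer ({(x : G)} : Set G)) : G) :=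
          (Subgroup.mem_centralizer_singleton_iff.1 (Quotient.out C').2).symm
        obtain ⟨j, hj⟩ := (IsPGroup.iff_orderOf.1 P.2) x
        rw [Subgroup.orderOf_mk] at hj
        intro q hq hqd
        have h1 := hqd.trans (hcomm.orderOf_mul_dvd_lcm.trans (Nat.lcm_dvd_mul _ _))
        rcases (hq.dvd_mul).1 h1 with h | h
        · rw [hj] at h
          have := (Nat.prime_dvd_prime_iff_eq hq hp).1 (hq.dvd_of_dvd_pow h)
          rw [this]; exact hpπ
        · exact (hy q hq h).1⟩
    have hsurj : Function.Surjective F := by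
      rintro ⟨C, hC⟩
      obtain ⟨g, rfl⟩ := ConjClasses.exists_rep C
      rw [piClass_mk_iff] at hC
      obtain ⟨u, v, hguv, hcomm, ⟨e, hu⟩, ⟨s, hps, hsg, hv⟩⟩ := exists_p_decomp p hp g
      have hup : IsPGroup p (Subgroup.zpowers u) := by
        rw [IsPGroup.iff_orderOf]
        intro w
        have hw : (w : G) ^ (p ^ e) = 1 := by
          obtain ⟨k, hk⟩ := Subgroup.mem_zpowers_iff.1 w.2
          rw [← hk, ← zpow_natCast, ← zpow_mul, mul_comm, zpow_mul, zpow_natCast, hu, one_zpow]
        have hdvd : orderOf w ∣ p ^ e := by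
          rw [← Subgroup.orderOf_coe]; exact orderOf_dvd_of_pow_eq_one hw
        obtain ⟨k, -, hk⟩ := (Nat.dvd_prime_pow hp).1 hdvd
        exact ⟨k, hk⟩
      obtain ⟨P', hP'⟩ := hup.exists_le_sylow
      obtain ⟨t, ht⟩ := MulAction.exists_smul_eq G P P'
      have hxP : t⁻¹ * u * t ∈ P := by
        rw [← Cfsg.Agent.S0216.mem_smul_sylow, ht]
        exact hP' (Subgroup.mem_zpowers u)
      set x : (P : Subgroup G) := ⟨t⁻¹ * u * t, hxP⟩ with hxdef
      have hy₀mem : t⁻¹ * v * t ∈ Subgroup.centralizer ({(x : G)} : Set G) := by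
        rw [Subgroup.mem_centralizer_singleton_iff]
        show t⁻¹ * v * t * (t⁻¹ * u * t) = t⁻¹ * u * t * (t⁻¹ * v * t)
        have e1 : t⁻¹ * u * t * (t⁻¹ * v * t) = t⁻¹ * (u * v) * t := by group
        have e2 : t⁻¹ * v * t * (t⁻¹ * u * t) = t⁻¹ * (v * u) * t := by group
        rw [e1, e2, hcomm.eq]
      set y₀ : Subgroup.centralizer ({(x : G)} : Set G) := ⟨t⁻¹ * v * t, hy₀mem⟩ with hy₀def
      have hy₀π : IsPiElt (π \ {p}) y₀ := by
        rw [← isPiElt_coe_iff]
        intro q hq hqd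
        have hvo : orderOf (t⁻¹ * v * t) = orderOf v := by
          have := orderOf_injective (MulAut.conj t⁻¹).toMonoidHom (MulEquiv.injective _) v
          simpa [MulAut.conj_apply] using this
        have hqs : q ∣ s := by
          have h1 : q ∣ orderOf v := by rw [← hvo]; exact hqd
          exact h1.trans (orderOf_dvd_of_pow_eq_one hv)
        refine ⟨hC q hq (hqs.trans hsg), ?_⟩
        intro hqp
        rw [Set.mem_singleton_iff] at hqp
        rw [hqp] at hqs
        exact hps hqs
      have hC' : piClass (π \ {p}) _ (ConjClasses.mk y₀) := (piClass_mk_iff _ _).2 hy₀π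
      refine ⟨⟨x, ⟨ConjClasses.mk y₀, hC'⟩⟩, ?_⟩
      apply Subtype.ext
      show ConjClasses.mk ((x : G) * ((Quotient.out (ConjClasses.mk y₀) :
          Subgroup.centralizer ({(x : G)} : Set G)) : G)) = ConjClasses.mk g
      have hconj : IsConj y₀ (Quotient.out (ConjClasses.mk y₀)) :=
        ConjClasses.mk_eq_mk_iff_isConj.1 (Quotient.out_eq (ConjClasses.mk y₀)).symm
      obtain ⟨c, hc⟩ := isConj_iff.1 hconj
      rw [ConjClasses.mk_eq_mk_iff_isConj, isConj_comm, isConj_iff]
      refine ⟨(c : G) * t⁻¹, ?_⟩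
      have hcx : (c : G) * (x : G) = (x : G) * (c : G) :=
        (Subgroup.mem_centralizer_singleton_iff.1 c.2)
      have hc' : ((Quotient.out (ConjClasses.mk y₀) :
          Subgroup.centralizer ({(x : G)} : Set G)) : G) = (c : G) * (t⁻¹ * v * t) * (c : G)⁻¹ := by
        rw [← hc]; rfl
      rw [hc', hguv]
      have hx' : (x : G) = t⁻¹ * u * t := rfl
      have key : ∀ xg cg : G, xg = t⁻¹ * u * t → cg * xg = xg * cg →
          cg * t⁻¹ * (u * v) * (cg * t⁻¹)⁻¹ = xg * (cg * (t⁻¹ * v * t) * cg⁻¹) := by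
        intro xg cg hxg hcg
        have e1 : xg * (cg * (t⁻¹ * v * t) * cg⁻¹) = cg * (xg * (t⁻¹ * v * t)) * cg⁻¹ := by
          rw [← mul_assoc, ← mul_assoc, ← hcg]; group
        rw [e1, hxg]
        group
      exact key _ _ hx' hcx
    have h1 := Nat.card_le_card_of_surjective F hsurj
    haveI : Fintype (P : Subgroup G) := Fintype.ofFinite _
    rw [Nat.card_sigma] at h1
    refine le_trans h1 ?_
    calc ∑ x : (P : Subgroup G), Nat.card {C' : ConjClasses (Subgroup.centralizer ({(x : G)} : Set G)) //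
          piClass (π \ {p}) _ C'} ≤ ∑ _x : (P : Subgroup G), m' := Finset.sum_le_sum (fun x _ => hbound x)
      _ = m := by
        rw [Finset.sum_const, Finset.card_univ, smul_eq_mul, ← Nat.card_eq_fintype_card, hPcard, hmeq]

theorem result {G : Type*} [Group G] [Finite G]
    (π : Set ℕ) (hπ : ∀ q ∈ π, q.Prime)
    (m : ℕ) (hm : m ∣ Nat.card G) (hmπ : ∀ q : ℕ, q.Prime → q ∣ m → q ∈ π)
    (hm' : ∀ q ∈ π, ¬ q ∣ Nat.card G / m) :
    Nat.card {C : ConjClasses G // ∀ q : ℕ, q.Prime → (∃ g : G, ConjClasses.mk g = C ∧ q ∣ orderOf g) → q ∈ π} ≤ m := by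
  have h := main m G π (Nat.card G / m) (Nat.mul_div_cancel' hm).symm hmπ
    (fun q _ hqd hqπ => hm' q hqπ hqd)
  exact h

end Cfsg.Agent.S4106
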