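import Cfsg.Statements.S4107
import Cfsg.Agent.Lib.Helper1.Fitting

set_option autoImplicit false
open Cfsg

namespace Cfsg.Agent.S4107


/-- Let G be a finite group and N a proper non-trivial normal subgroup such that for every x outside N all elements of the coset xN have the same order as x. Then N ≤ F(G) or F(G) ≤ N, where F(G) is the Fitting subgroup; and if N is properly contained in F(G) then F(G) has prime-power order. -/
theorem result {G : Type*} [Group G] [Finite G] (N : Subgroup G) [N.Normal] (hN1 : N ≠ ⊥) (hN2 : N ≠ ⊤)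
    (heq : ∀ x : G, x ∉ N → ∀ n ∈ N, orderOf (x * n) = orderOf x) :
    (N ≤ Cfsg.fittingSubgroup G ∨ Cfsg.fittingSubgroup G ≤ N) ∧
    (N < Cfsg.fittingSubgroup G → IsPrimePow (Nat.card (Cfsg.fittingSubgroup G))) := by

  classical
  have hfin : Finite G := inferInstance
  -- key: if O_p(G) is not inside N then N is a p-group
  have key : ∀ (p : ℕ) [Fact p.Prime], ¬ Cfsg.pCore p G ≤ N → IsPGroup p N := by
    intro p _ hnot
    obtain ⟨x, hxO, hxN⟩ := SetLike.not_le_iff_exists.mp hnot
    have hOn : (Cfsg.pCore p G).Normal := Cfsg.Agent.Lib.Helper1.pCore_normal p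
    have hOp : IsPGroup p (Cfsg.pCore p G) := Cfsg.Agent.Lib.Helper1.pCore_isPGroup p
    obtain ⟨k, hk⟩ := hOp ⟨x, hxO⟩
    have hk' : x ^ (p ^ k) = 1 := by
      have := congrArg Subtype.val hk
      simpa using this
    intro n
    have h1 : orderOf (x * (n : G)) = orderOf x := heq x hxN n n.2
    have h2 : (x * (n : G)) ^ (p ^ k) = 1 := by
      rw [← orderOf_dvd_iff_pow_eq_one, h1, orderOf_dvd_iff_pow_eq_one]
      exact hk'
    -- pass to the quotient by O_p(G)
    have h3 : ((QuotientGroup.mk' (Cfsg.pCore p G)) (n : G)) ^ (p ^ k) = 1 := by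
      have hx1 : (QuotientGroup.mk' (Cfsg.pCore p G)) x = 1 := by
        rw [QuotientGroup.mk'_apply, QuotientGroup.eq_one_iff]; exact hxO
      have : (QuotientGroup.mk' (Cfsg.pCore p G)) ((x * (n : G)) ^ (p ^ k)) = 1 := by
        rw [h2, map_one]
      rw [map_pow, map_mul, hx1, one_mul] at this
      exact this
    have h4 : (n : G) ^ (p ^ k) ∈ Cfsg.pCore p G := by
      rw [← map_pow, QuotientGroup.mk'_apply, QuotientGroup.eq_one_iff] at h3
      exact h3
    obtain ⟨j, hj⟩ := hOp ⟨(n : G) ^ (p ^ k), h4⟩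
    have hj' : ((n : G) ^ (p ^ k)) ^ (p ^ j) = 1 := by
      have := congrArg Subtype.val hj
      simpa using this
    refine ⟨k + j, ?_⟩
    apply Subtype.ext
    rw [Subgroup.coe_pow, Subgroup.coe_one, pow_add, pow_mul]
    exact hj'
  have hF : Cfsg.fittingSubgroup G = ⨆ p : Nat.Primes, Cfsg.pCore (p : ℕ) G :=
    Cfsg.Agent.Lib.Helper1.fittingSubgroup_eq_iSup_pCore
  have exP : ¬ Cfsg.fittingSubgroup G ≤ N → ∃ p : Nat.Primes, ¬ Cfsg.pCore (p : ℕ) G ≤ N := by
    intro h
    by_contra hcon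
    push Not at hcon
    apply h
    rw [hF]
    exact iSup_le hcon
  have pcle : ∀ (p : ℕ) [Fact p.Prime], Cfsg.pCore p G ≤ Cfsg.fittingSubgroup G := by
    intro p _
    exact Cfsg.Agent.Lib.Helper1.le_fittingSubgroup (Cfsg.Agent.Lib.Helper1.pCore_normal p)
      (Cfsg.Agent.Lib.Helper1.pCore_isPGroup p).isNilpotent
  refine ⟨?_, ?_⟩
  · by_cases h : Cfsg.fittingSubgroup G ≤ N
    · exact Or.inr h
    · left
      obtain ⟨p, hp⟩ := exP h
      haveI : Fact (p : ℕ).Prime := ⟨p.2⟩
      have hNp := key p hp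
      exact (Cfsg.Agent.Lib.Helper1.le_pCore inferInstance hNp).trans (pcle p)
  · intro hlt
    have h : ¬ Cfsg.fittingSubgroup G ≤ N := not_le_of_gt hlt
    obtain ⟨p, hp⟩ := exP h
    haveI : Fact (p : ℕ).Prime := ⟨p.2⟩
    have hNp := key p hp
    have hFle : Cfsg.fittingSubgroup G ≤ Cfsg.pCore (p : ℕ) G := by
      rw [hF]
      apply iSup_le
      intro q
      haveI : Fact (q : ℕ).Prime := ⟨q.2⟩
      by_cases hqp : (q : ℕ) = (p : ℕ)
      · rw [hqp]
      · by_cases hq : Cfsg.pCore (q : ℕ) G ≤ N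
        · have hqq : IsPGroup (q : ℕ) (Cfsg.pCore (q : ℕ) G) :=
            Cfsg.Agent.Lib.Helper1.pCore_isPGroup (q : ℕ)
          have hd : Disjoint (Cfsg.pCore (q : ℕ) G) N :=
            IsPGroup.disjoint_of_ne (q : ℕ) (p : ℕ) hqp _ _ hqq hNp
          have : Cfsg.pCore (q : ℕ) G = ⊥ := by
            rw [eq_bot_iff]
            exact hd le_rfl hq
          rw [this]; exact bot_le
        · exfalso
          have hNq := key q hq
          have hd : Disjoint N N := IsPGroup.disjoint_of_ne (q : ℕ) (p : ℕ) hqp _ _ hNq hNp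
          exact hN1 (disjoint_self.mp hd)
    have hFp : IsPGroup (p : ℕ) (Cfsg.fittingSubgroup G) :=
      (Cfsg.Agent.Lib.Helper1.pCore_isPGroup (p : ℕ)).to_le hFle
    obtain ⟨k, hk⟩ := IsPGroup.iff_card.mp hFp
    rw [hk]
    have hk0 : k ≠ 0 := by
      rintro rfl
      rw [pow_zero] at hk
      have hbot : Cfsg.fittingSubgroup G = ⊥ := Subgroup.card_eq_one.mp hk
      rw [hbot] at hlt
      exact not_lt_bot hlt
    exact (Nat.Prime.isPrimePow p.2).pow hk0


end Cfsg.Agent.S4107
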