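import Cfsg.Statements.S4108
-- import your own Cfsg.Agent.* helpers here

set_option autoImplicit false
open Cfsg

namespace Cfsg.Agent.S4108

open Pointwise

theorem mem_conj_smul_iff {G : Type*} [Group G] (H : Subgroup G) (g x : G) :
    x ∈ MulAut.conj g • H ↔ g⁻¹ * x * g ∈ H := by
  rw [Subgroup.mem_pointwise_smul_iff_inv_smul_mem]
  simp [MulAut.smul_def]

theorem frob_of_equal_order {K : Type*} [Group K] [Finite K] (N H : Subgroup K) [N.Normal]
    (p : ℕ) [Fact p.Prime] (hNp : IsPGroup p N) (hN1 : N ≠ ⊥) (hH1 : H ≠ ⊥)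
    (hcop : (Nat.card H).Coprime p) (hsup : N ⊔ H = ⊤)
    (heq : ∀ x : K, x ∉ N → ∀ n ∈ N, orderOf (x * n) = orderOf x) :
    Cfsg.IsFrobeniusComplement H ∧ Cfsg.frobeniusKernel H = (N : Set K) := by
  classical
  have hp : p.Prime := Fact.out
  -- N ⊓ H = ⊥
  have hcopNH : (Nat.card N).Coprime (Nat.card H) := by
    obtain ⟨k, hk⟩ := IsPGroup.iff_card.1 hNp
    rw [hk]
    exact (hcop.symm).pow_left k
  have hinf : N ⊓ H = ⊥ := (Subgroup.disjoint_of_coprime_natCard hcopNH).eq_bot
  have hHN : ∀ y ∈ H, y ≠ 1 → y ∉ N := by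
    intro y hy hy1 hyN
    have : y ∈ N ⊓ H := ⟨hyN, hy⟩
    rw [hinf, Subgroup.mem_bot] at this
    exact hy1 this
  -- the key non-commuting fact
  have hkey : ∀ y ∈ H, y ≠ 1 → ∀ n ∈ N, Commute y n → n = 1 := by
    intro y hy hy1 n hn hcomm
    have hyN := hHN y hy hy1
    have hoy : (orderOf y).Coprime (orderOf n) := by
      have h1 : orderOf y ∣ Nat.card H := by
        have := orderOf_dvd_natCard (⟨y, hy⟩ : H)
        rwa [Subgroup.orderOf_mk] at this
      obtain ⟨k, hk⟩ := hNp ⟨n, hn⟩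
      have hk' : n ^ p ^ k = 1 := by
        have := congrArg Subtype.val hk
        simpa using this
      have h2 : orderOf n ∣ p ^ k := orderOf_dvd_of_pow_eq_one hk'
      exact Nat.Coprime.coprime_dvd_left h1 (Nat.Coprime.coprime_dvd_right h2 (hcop.pow_right k))
    have h3 := hcomm.orderOf_mul_eq_mul_orderOf_of_coprime hoy
    rw [heq y hyN n hn] at h3
    have hpos : 0 < orderOf y := orderOf_pos y
    have : orderOf n = 1 := by
      have : orderOf y * 1 = orderOf y * orderOf n := by rw [mul_one]; exact h3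
      exact (Nat.eq_of_mul_eq_mul_left hpos this).symm
    exact orderOf_eq_one_iff.1 this
  -- every element is n * h
  have hdecomp : ∀ g : K, ∃ n ∈ N, ∃ h ∈ H, g = n * h := by
    intro g
    have hg : g ∈ N ⊔ H := by rw [hsup]; trivial
    have : g ∈ (N : Set K) * (H : Set K) := by
      rw [← Subgroup.normal_mul]; exact hg
    obtain ⟨n, hn, h, hh, rfl⟩ := this
    exact ⟨n, hn, h, hh, rfl⟩
  refine ⟨⟨hH1, ?_, ?_⟩, ?_⟩
  · -- H ≠ ⊤
    intro htop
    apply hN1
    rw [eq_bot_iff, ← hinf, htop]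
    exact le_inf le_rfl le_top
  · -- TI property
    intro g hg
    rw [eq_bot_iff]
    intro y hy
    rw [Subgroup.mem_bot]
    by_contra hy1
    obtain ⟨hyH, hyg⟩ := Subgroup.mem_inf.1 hy
    rw [mem_conj_smul_iff] at hyg
    obtain ⟨n, hn, h, hh, rfl⟩ := hdecomp g
    -- y' := (n h)⁻¹ y (n h) ∈ H, so n⁻¹ y n ∈ H
    have h1 : n⁻¹ * y * n ∈ H := by
      have : n⁻¹ * y * n = h * ((n * h)⁻¹ * y * (n * h)) * h⁻¹ := by group
      rw [this]
      exact H.mul_mem (H.mul_mem hh hyg) (H.inv_mem hh)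
    -- y⁻¹ * (n⁻¹ y n) ∈ N ⊓ H
    have h2 : y⁻¹ * (n⁻¹ * y * n) ∈ N := by
      have : y⁻¹ * (n⁻¹ * y * n) = (y⁻¹ * n⁻¹ * y⁻¹⁻¹) * n := by group
      rw [this]
      exact N.mul_mem (Subgroup.Normal.conj_mem inferInstance _ (N.inv_mem hn) _) hn
    have h3 : y⁻¹ * (n⁻¹ * y * n) ∈ N ⊓ H := ⟨h2, H.mul_mem (H.inv_mem hyH) h1⟩
    rw [hinf, Subgroup.mem_bot] at h3
    have hcomm : Commute y n := by
      have : n⁻¹ * y * n = y := by
        have := congrArg (fun z => y * z) h3
        simpa [mul_assoc] using this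
      have h4 : y * n = n * y := by
        calc y * n = n * (n⁻¹ * y * n) := by group
          _ = n * y := by rw [this]
      exact h4
    have hn1 := hkey y hyH hy1 n hn hcomm
    apply hg
    rw [hn1, one_mul]; exact hh
  · -- kernel
    ext x
    simp only [Cfsg.frobeniusKernel, Set.mem_ofPred_eq, SetLike.mem_coe]
    constructor
    · rintro (rfl | hx)
      · exact N.one_mem
      · by_contra hxN
        obtain ⟨n, hn, h, hh, rfl⟩ := hdecomp x
        have hh1 : h ≠ 1 := by
          rintro rfl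
          apply hxN; rw [mul_one]; exact hn
        -- the map m ↦ m h m⁻¹ h⁻¹ on N is injective hence surjective
        let f : N → N := fun m => ⟨(m : K) * h * (m : K)⁻¹ * h⁻¹, by
          have : (m : K) * h * (m : K)⁻¹ * h⁻¹ = m * (h * (m : K)⁻¹ * h⁻¹) := by group
          rw [this]
          exact N.mul_mem m.2 (Subgroup.Normal.conj_mem inferInstance _ (N.inv_mem m.2) _)⟩
        have hf : Function.Injective f := by
          intro m m' hmm
          have h1 : (m : K) * h * (m : K)⁻¹ * h⁻¹ = m' * h * (m' : K)⁻¹ * h⁻¹ :=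
            congrArg Subtype.val hmm
          have h2 : (m : K) * h * (m : K)⁻¹ = m' * h * (m' : K)⁻¹ := mul_right_cancel h1
          have hcomm : Commute h ((m' : K)⁻¹ * m) := by
            change h * ((m' : K)⁻¹ * m) = (m' : K)⁻¹ * m * h
            calc h * ((m' : K)⁻¹ * m) = (m' : K)⁻¹ * (m' * h * (m' : K)⁻¹) * m := by group
              _ = (m' : K)⁻¹ * (m * h * (m : K)⁻¹) * m := by rw [h2]
              _ = (m' : K)⁻¹ * m * h := by group
          have := hkey h hh hh1 _ (N.mul_mem (N.inv_mem m'.2) m.2) hcomm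
          apply Subtype.ext
          have h3 : (m : K) = m' * ((m' : K)⁻¹ * m) := by group
          rw [h3, this, mul_one]
        have hsurj : Function.Surjective f := Finite.injective_iff_surjective.1 hf
        obtain ⟨m, hm⟩ := hsurj ⟨n, hn⟩
        have hm' : (m : K) * h * (m : K)⁻¹ * h⁻¹ = n := congrArg Subtype.val hm
        apply hx m
        rw [mem_conj_smul_iff]
        have : (m : K)⁻¹ * (n * h) * m = h := by
          rw [← hm']; group
        rw [this]; exact hh
    · intro hxN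
      by_cases hx1 : x = 1
      · left; exact hx1
      · right
        intro g hg
        rw [mem_conj_smul_iff] at hg
        have : g⁻¹ * x * g ∈ N ⊓ H := ⟨Subgroup.Normal.conj_mem' inferInstance _ hxN _, hg⟩
        rw [hinf, Subgroup.mem_bot] at this
        apply hx1
        calc x = g * (g⁻¹ * x * g) * g⁻¹ := by group
          _ = 1 := by rw [this]; group

/-- Let G be a finite group, p a prime and N a proper non-trivial normal p-subgroup such that for every x outside N all elements of the coset xN have the same order as x. Then every non-trivial subgroup H of G of order prime to p acts fixed-point-freely on N: NH is a Frobenius group with complement H and kernel N. -/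
theorem result {G : Type*} [Group G] [Finite G] (N : Subgroup G) [N.Normal] (hN1 : N ≠ ⊥) (hN2 : N ≠ ⊤)
    (heq : ∀ x : G, x ∉ N → ∀ n ∈ N, orderOf (x * n) = orderOf x)
    (p : ℕ) [Fact p.Prime] (hNp : IsPGroup p N) :
    ∀ H : Subgroup G, H ≠ ⊥ → (Nat.card H).Coprime p →
      Cfsg.IsFrobeniusComplement (H.subgroupOf (N ⊔ H)) ∧ Cfsg.frobeniusKernel (H.subgroupOf (N ⊔ H)) = (N.subgroupOf (N ⊔ H) : Set ↥(N ⊔ H)) := by
  intro H hH1 hcop
  have hNK : N ≤ N ⊔ H := le_sup_left
  have hHK : H ≤ N ⊔ H := le_sup_right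
  haveI : (N.subgroupOf (N ⊔ H)).Normal := Subgroup.normal_subgroupOf
  refine frob_of_equal_order (N.subgroupOf (N ⊔ H)) (H.subgroupOf (N ⊔ H)) p ?_ ?_ ?_ ?_ ?_ ?_
  · exact hNp.of_equiv (Subgroup.subgroupOfEquivOfLe hNK).symm
  · intro h
    rw [Subgroup.subgroupOf_eq_bot, disjoint_iff, inf_of_le_left hNK] at h
    exact hN1 h
  · intro h
    rw [Subgroup.subgroupOf_eq_bot, disjoint_iff, inf_of_le_left hHK] at h
    exact hH1 h
  · rw [Nat.card_congr (Subgroup.subgroupOfEquivOfLe hHK).toEquiv]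
    exact hcop
  · rw [← Subgroup.subgroupOf_sup hNK hHK, Subgroup.subgroupOf_self]
  · intro x hx n hn
    rw [Subgroup.mem_subgroupOf] at hx hn
    have := heq x.1 hx n.1 hn
    rw [← Subgroup.orderOf_coe, ← Subgroup.orderOf_coe x]
    exact this

end Cfsg.Agent.S4108
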