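import Cfsg.Statements.S4112
import Cfsg.Agent.Lib.Helper3.Supplement
import Cfsg.Agent.Lib.Helper3.PElements

set_option autoImplicit false
open Cfsg

namespace Cfsg.Agent.S4112

/-- If every element outside `N` acts fixed-point-freely on `M`, then `[G : N]` is coprime to `|M|`. -/
theorem coprime_of_fpf {G : Type*} [Group G] [Finite G] (N M : Subgroup G) [N.Normal] [M.Normal]
    (h1 : ∀ x ∈ M, x ≠ 1 → Subgroup.centralizer ({x} : Set G) ≤ N) :
    N.index.Coprime (Nat.card M) := by
  classical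
  by_contra hnc
  obtain ⟨q, hq, hqN, hqM⟩ := Nat.Prime.not_coprime_iff_dvd.1 hnc
  haveI : Fact q.Prime := ⟨hq⟩
  -- an element of order q in G ⧸ N
  have hqQ : q ∣ Nat.card (G ⧸ N) := hqN
  obtain ⟨gb, hgb⟩ := exists_prime_orderOf_dvd_card' q hqQ
  obtain ⟨g, hg1, hg2⟩ := Cfsg.Agent.Lib.Helper3.exists_pElement_lift N gb ⟨1, by rw [hgb, pow_one]⟩
  have hgN : g ∉ N := by
    intro h
    have : (QuotientGroup.mk g : G ⧸ N) = 1 := (QuotientGroup.eq_one_iff g).2 h
    rw [hg1] at this
    rw [this, orderOf_one] at hgb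
    exact hq.one_lt.ne hgb
  -- `zpowers g` is a `q`-group acting on `M` by conjugation
  have hP : IsPGroup q (Subgroup.zpowers g) := by
    rw [IsPGroup.iff_card, Nat.card_zpowers]; exact hg2
  letI : MulAction (Subgroup.zpowers g) M :=
    MulAction.compHom M ((MulAut.conjNormal (H := M)).comp (Subgroup.zpowers g).subtype)
  have hsmul : ∀ (h : Subgroup.zpowers g) (m : M), ((h • m : M) : G) = h * m * (h : G)⁻¹ := by
    intro h m; rfl
  have hmod := hP.card_modEq_card_fixedPoints M
  have hfix : Nat.card (MulAction.fixedPoints (Subgroup.zpowers g) M) = 1 := by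
    rw [Nat.card_eq_one_iff_unique]
    refine ⟨⟨?_⟩, ⟨⟨1, ?_⟩⟩⟩
    · rintro ⟨a, ha⟩ ⟨b, hb⟩
      have key : ∀ m : M, m ∈ MulAction.fixedPoints (Subgroup.zpowers g) M → m = 1 := by
        intro m hm
        by_contra hm1
        have h2 := hm ⟨g, Subgroup.mem_zpowers g⟩
        have h3 : g * m * g⁻¹ = m := by
          have := congrArg Subtype.val h2
          rwa [hsmul] at this
        have hm1' : (m : G) ≠ 1 := fun h => hm1 (Subtype.ext h)
        apply hgN
        apply h1 m m.2 hm1'
        rw [Subgroup.mem_centralizer_singleton_iff]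
        calc g * m = (g * m * g⁻¹) * g := by group
          _ = m * g := by rw [h3]
      apply Subtype.ext
      change a = b
      rw [key a ha, key b hb]
    · intro h
      apply Subtype.ext
      rw [hsmul]
      simp
  rw [hfix] at hmod
  have : Nat.card M % q = 0 := Nat.mod_eq_zero_of_dvd hqM
  have h2 : 1 % q = 1 := Nat.mod_eq_of_lt hq.one_lt
  rw [Nat.ModEq, this, h2] at hmod
  exact zero_ne_one hmod

/-- Camina condition + coprimality implies fixed-point-freeness. -/
theorem fpf_of_coprime {G : Type*} [Group G] [Finite G] (N M : Subgroup G) [N.Normal] [M.Normal]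
    (hcam : ∀ g : G, g ∉ N → ∀ m ∈ M, ∃ x : G, x * g * x⁻¹ = g * m)
    (hcop : N.index.Coprime (Nat.card M)) :
    ∀ x ∈ M, x ≠ 1 → Subgroup.centralizer ({x} : Set G) ≤ N := by
  classical
  -- Step 1: if g ∉ N commutes with y ∈ M, then orderOf y ∣ orderOf g
  have step1 : ∀ g : G, g ∉ N → ∀ y ∈ M, Commute g y → orderOf y ∣ orderOf g := by
    intro g hg y hy hcomm
    obtain ⟨z, hz⟩ := hcam g hg y hy
    have ho : orderOf (g * y) = orderOf g := by
      rw [← hz]
      exact (MulAut.conj z).orderOf_eq g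
    have h1 : (g * y) ^ orderOf g = 1 := by rw [← ho, pow_orderOf_eq_one]
    rw [hcomm.mul_pow, pow_orderOf_eq_one, one_mul] at h1
    exact orderOf_dvd_of_pow_eq_one h1
  intro x hx hx1 g hg
  by_contra hgN
  rw [Subgroup.mem_centralizer_singleton_iff] at hg
  have hcomm : Commute g x := hg
  -- a prime q dividing orderOf x
  have hox : orderOf x ≠ 1 := fun h => hx1 (orderOf_eq_one_iff.1 h)
  obtain ⟨q, hq, hqx⟩ := Nat.exists_prime_and_dvd hox
  have hqM : q ∣ Nat.card M := by
    have : orderOf x ∣ Nat.card M := by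
      have := orderOf_dvd_natCard (⟨x, hx⟩ : M)
      rwa [Subgroup.orderOf_mk] at this
    exact dvd_trans hqx this
  have hqN : ¬ q ∣ N.index := by
    intro h
    exact hq.one_lt.ne' (Nat.eq_one_of_dvd_coprimes hcop h hqM)
  -- write orderOf g = q^a * r
  have hog : orderOf g ≠ 0 := (orderOf_pos g).ne'
  obtain ⟨a, r, hr, hor⟩ := Nat.exists_eq_pow_mul_and_not_dvd hog q hq.ne_one
  set g' := g ^ q ^ a with hg'
  have hg'r : g' ^ r = 1 := by
    rw [hg', ← pow_mul, ← hor, pow_orderOf_eq_one]
  have hqg' : ¬ q ∣ orderOf g' := fun h => hr (dvd_trans h (orderOf_dvd_of_pow_eq_one hg'r))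
  have hg'N : g' ∉ N := by
    intro h
    have hb : (QuotientGroup.mk g : G ⧸ N) ^ q ^ a = 1 := by
      rw [← QuotientGroup.mk_pow]; exact (QuotientGroup.eq_one_iff _).2 h
    have hd1 : orderOf (QuotientGroup.mk g : G ⧸ N) ∣ q ^ a := orderOf_dvd_of_pow_eq_one hb
    have hd2 : orderOf (QuotientGroup.mk g : G ⧸ N) ∣ N.index := orderOf_dvd_natCard _
    have hcop2 : (q ^ a).Coprime N.index := ((Nat.Prime.coprime_iff_not_dvd hq).2 hqN).pow_left a
    have := Nat.eq_one_of_dvd_coprimes hcop2 hd1 hd2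
    rw [orderOf_eq_one_iff, QuotientGroup.eq_one_iff] at this
    exact hgN this
  have hcomm' : Commute g' x := hcomm.pow_left _
  exact hqg' (dvd_trans hqx (step1 g' hg'N x hx hcomm'))

/-- Let G be a finite group and M ≤ N non-trivial proper normal subgroups such that for every g outside N the conjugacy class of g is a union of cosets of M (equivalently gm is conjugate to g for every m ∈ M). Then (1) and (2) below are equivalent, and they imply (3): (1) every g outside N acts fixed-point-freely on M, that is C_G(x) ≤ N for every x ∈ M, x ≠ 1; (2) the index of N in G is coprime to the order of M; (3) there is a subgroup H of G with HN = G and H ∩ M = 1. -/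
theorem result {G : Type*} [Group G] [Finite G] (N M : Subgroup G) [N.Normal] [M.Normal] (hMN : M ≤ N) (hM1 : M ≠ ⊥) (hN2 : N ≠ ⊤)
    (hcam : ∀ g : G, g ∉ N → ∀ m ∈ M, ∃ x : G, x * g * x⁻¹ = g * m) :
    ((∀ x ∈ M, x ≠ 1 → Subgroup.centralizer ({x} : Set G) ≤ N) ↔ N.index.Coprime (Nat.card M)) ∧
    ((∀ x ∈ M, x ≠ 1 → Subgroup.centralizer ({x} : Set G) ≤ N) → ∃ H : Subgroup G, H ⊔ N = ⊤ ∧ H ⊓ M = ⊥) := by
  refine ⟨⟨fun h => coprime_of_fpf N M h, fun h => fpf_of_coprime N M hcam h⟩, ?_⟩
  intro h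
  exact Cfsg.Agent.Lib.Helper3.exists_supplement_of_coprime N M hMN (coprime_of_fpf N M h)

end Cfsg.Agent.S4112
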