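import Cfsg.Statements.S4113
-- import your own Cfsg.Agent.* helpers here

set_option autoImplicit false
open Cfsg

namespace Cfsg.Agent.S4113

open Pointwise

/-- Let G be a finite group, M ≤ N non-trivial proper normal subgroups, and H a subgroup with HM = G and H ∩ M = 1. Then every element of G outside N acts fixed-point-freely on M (C_G(x) ≤ N for every x ∈ M, x ≠ 1) if and only if H ∩ gHg⁻¹ ≤ H ∩ N for every g outside H, with H proper and non-trivial and H ∩ N proper in H. -/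
theorem result {G : Type*} [Group G] [Finite G] (N M : Subgroup G) [N.Normal] [M.Normal] (hMN : M ≤ N) (hM1 : M ≠ ⊥) (hN2 : N ≠ ⊤)
    (H : Subgroup G) (hHM : H ⊔ M = ⊤) (hHM' : H ⊓ M = ⊥) :
    (∀ x ∈ M, x ≠ 1 → Subgroup.centralizer ({x} : Set G) ≤ N) ↔
      (H ≠ ⊥ ∧ H ≠ ⊤ ∧ H ⊓ N < H ∧ ∀ g : G, g ∉ H → H ⊓ H.map (MulAut.conj g).toMonoidHom ≤ N) := by
  classical
  have hinfmem : ∀ y, y ∈ H → y ∈ M → y = 1 := by
    intro y hyH hyM
    have : y ∈ H ⊓ M := ⟨hyH, hyM⟩
    rwa [hHM', Subgroup.mem_bot] at this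
  have hdecomp : ∀ g : G, ∃ m ∈ M, ∃ h ∈ H, g = m * h := by
    intro g
    have hg : g ∈ M ⊔ H := by rw [sup_comm, hHM]; trivial
    have : g ∈ (M : Set G) * (H : Set G) := by
      rw [← Subgroup.normal_mul]; exact hg
    obtain ⟨m, hm, h, hh, rfl⟩ := this
    exact ⟨m, hm, h, hh, rfl⟩
  constructor
  · intro h1
    refine ⟨?_, ?_, ?_, ?_⟩
    · rintro rfl
      rw [bot_sup_eq] at hHM
      apply hN2
      rw [eq_top_iff, ← hHM]; exact hMN
    · rintro rfl
      rw [top_inf_eq] at hHM'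
      exact hM1 hHM'
    · refine lt_of_le_of_ne inf_le_left ?_
      intro h
      have hHN : H ≤ N := inf_eq_left.1 h
      apply hN2
      rw [eq_top_iff, ← hHM]
      exact sup_le hHN hMN
    · intro g hg y hy
      obtain ⟨hyH, hyg⟩ := Subgroup.mem_inf.1 hy
      obtain ⟨z, hz, hzy⟩ := Subgroup.mem_map.1 hyg
      have hzy' : g * z * g⁻¹ = y := hzy
      obtain ⟨m, hm, h, hh, rfl⟩ := hdecomp g
      have hm1 : m ≠ 1 := by
        rintro rfl
        apply hg; rw [one_mul]; exact hh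
      set y' := h * z * h⁻¹ with hy'
      have hy'H : y' ∈ H := H.mul_mem (H.mul_mem hh hz) (H.inv_mem hh)
      have hyy' : y = m * y' * m⁻¹ := by rw [← hzy', hy']; group
      have h2 : y'⁻¹ * y ∈ M := by
        have : y'⁻¹ * y = (y'⁻¹ * m * y'⁻¹⁻¹) * m⁻¹ := by rw [hyy']; group
        rw [this]
        exact M.mul_mem (Subgroup.Normal.conj_mem inferInstance _ hm _) (M.inv_mem hm)
      have h3 : y'⁻¹ * y = 1 := hinfmem _ (H.mul_mem (H.inv_mem hy'H) hyH) h2
      have h4 : y = y' := by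
        have := congrArg (fun t => y' * t) h3
        simpa using this
      apply h1 m hm hm1
      rw [Subgroup.mem_centralizer_singleton_iff]
      -- y * m = m * y
      rw [← h4] at hyy'
      calc y * m = (m * y * m⁻¹) * m := by rw [← hyy']
        _ = m * y := by group
  · rintro ⟨hH1, hH2, hlt, hTI⟩ x hx hx1 g hg
    by_contra hgN
    rw [Subgroup.mem_centralizer_singleton_iff] at hg
    obtain ⟨m, hm, h, hh, rfl⟩ := hdecomp g
    have hhN : h ∉ N := by
      intro hhN
      exact hgN (N.mul_mem (hMN hm) hhN)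
    -- C_M(h) = 1
    have hCM : ∀ u ∈ M, u * h = h * u → u = 1 := by
      intro u hu hcomm
      by_contra hu1
      have huH : u ∉ H := fun huH => hu1 (hinfmem u huH hu)
      apply hhN
      apply hTI u huH
      refine Subgroup.mem_inf.2 ⟨hh, ?_⟩
      rw [Subgroup.mem_map]
      refine ⟨h, hh, ?_⟩
      change u * h * u⁻¹ = h
      rw [hcomm]; group
    -- the map u ↦ u h u⁻¹ h⁻¹ on M
    let f : M → M := fun u => ⟨(u : G) * h * (u : G)⁻¹ * h⁻¹, by
      have : (u : G) * h * (u : G)⁻¹ * h⁻¹ = u * (h * (u : G)⁻¹ * h⁻¹) := by group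
      rw [this]
      exact M.mul_mem u.2 (Subgroup.Normal.conj_mem inferInstance _ (M.inv_mem u.2) _)⟩
    have hf : Function.Injective f := by
      intro u u' huu
      have h1 : (u : G) * h * (u : G)⁻¹ * h⁻¹ = u' * h * (u' : G)⁻¹ * h⁻¹ :=
        congrArg Subtype.val huu
      have h2 : (u : G) * h * (u : G)⁻¹ = u' * h * (u' : G)⁻¹ := mul_right_cancel h1
      have hcomm : ((u' : G)⁻¹ * u) * h = h * ((u' : G)⁻¹ * u) := by
        calc ((u' : G)⁻¹ * u) * h = (u' : G)⁻¹ * (u * h * (u : G)⁻¹) * u := by group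
          _ = (u' : G)⁻¹ * (u' * h * (u' : G)⁻¹) * u := by rw [h2]
          _ = h * ((u' : G)⁻¹ * u) := by group
      have := hCM _ (M.mul_mem (M.inv_mem u'.2) u.2) hcomm
      apply Subtype.ext
      have h3 : (u : G) = u' * ((u' : G)⁻¹ * u) := by group
      rw [h3, this, mul_one]
    have hsurj : Function.Surjective f := Finite.injective_iff_surjective.1 hf
    obtain ⟨u, hu⟩ := hsurj ⟨m, hm⟩
    have hu' : (u : G) * h * (u : G)⁻¹ * h⁻¹ = m := congrArg Subtype.val hu
    have hg' : m * h = u * h * (u : G)⁻¹ := by rw [← hu']; group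
    rw [hg'] at hg
    -- u⁻¹ x u commutes with h
    have hxu : (u : G)⁻¹ * x * u ∈ M := Subgroup.Normal.conj_mem' inferInstance _ hx _
    have hcomm : ((u : G)⁻¹ * x * u) * h = h * ((u : G)⁻¹ * x * u) := by
      calc ((u : G)⁻¹ * x * u) * h = (u : G)⁻¹ * (x * (u * h * (u : G)⁻¹)) * u := by group
        _ = (u : G)⁻¹ * ((u * h * (u : G)⁻¹) * x) * u := by rw [hg]
        _ = h * ((u : G)⁻¹ * x * u) := by group
    have := hCM _ hxu hcomm
    apply hx1
    calc x = u * ((u : G)⁻¹ * x * u) * (u : G)⁻¹ := by group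
      _ = 1 := by rw [this]; group

end Cfsg.Agent.S4113
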