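import Cfsg.Statements.S4130
import Mathlib
import Cfsg.Agent.Lib.Helper6.SqfComm
import Cfsg.Agent.Lib.Helper6.SqfFit
import Cfsg.Agent.Lib.Helper1.FittingMinimalNormal

set_option autoImplicit false
open Cfsg
open scoped commutatorElement

namespace Cfsg.Agent.S4130

/-- Let G be a finite group all of whose conjugacy class sizes are square-free. Then G is supersolvable, G/F(G) and the derived subgroup G′ are cyclic of square-free order (F(G) the Fitting subgroup, which is normal), F(G) has nilpotency class at most 2, and G is metabelian. -/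
theorem result {G : Type*} [Group G] [Finite G]
    (h : ∀ x : G, Squarefree (Subgroup.centralizer ({x} : Set G)).index) :
    Cfsg.IsSupersolvable G ∧ (Cfsg.fittingSubgroup G).Normal ∧
    (∀ _h : (Cfsg.fittingSubgroup G).Normal, IsCyclic (G ⧸ Cfsg.fittingSubgroup G) ∧ Squarefree (Cfsg.fittingSubgroup G).index) ∧
    IsCyclic (commutator G) ∧ Squarefree (Nat.card (commutator G)) ∧
    Subgroup.upperCentralSeries ↥(Cfsg.fittingSubgroup G) 2 = ⊤ ∧ commutator ↥(commutator G) = ⊥ := by
  classical
  have hss := Cfsg.Agent.Lib.Helper6.SqF.isSupersolvable_of_squarefree_index h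
  have hnil : Group.IsNilpotent (commutator G) :=
    Cfsg.Agent.Lib.Helper1.isNilpotent_commutator_of_isSupersolvable G hss
  have hsq := Cfsg.Agent.Lib.Helper6.SqF.squarefree_card_commutator h
  have hcyc : IsCyclic (commutator G) := by
    haveI := IsZGroup.of_squarefree hsq
    haveI := hnil
    infer_instance
  have hFn : (Cfsg.fittingSubgroup G).Normal := Cfsg.Agent.Lib.Helper1.fittingSubgroup_normal
  have hF_le : Cfsg.fittingSubgroup G ≤ Subgroup.centralizer ((commutator G : Subgroup G) : Set G) :=
    Cfsg.Agent.Lib.Helper6.SqF.fitting_le_centralizer_of_cyclic_squarefree (commutator G) hcyc hsq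
  have hle : commutator G ≤ Cfsg.fittingSubgroup G :=
    Cfsg.Agent.Lib.Helper1.le_fittingSubgroup (inferInstance : (commutator G).Normal) hnil
  have hF_ge : Subgroup.centralizer ((commutator G : Subgroup G) : Set G) ≤ Cfsg.fittingSubgroup G := by
    set C := Subgroup.centralizer ((commutator G : Subgroup G) : Set G) with hC
    have hCn : C.Normal := inferInstance
    apply Cfsg.Agent.Lib.Helper1.le_fittingSubgroup hCn
    apply Cfsg.Agent.Lib.Helper1.isNilpotent_of_commutator_commutator_eq_bot
    rw [eq_bot_iff]
    have h1 : ⁅C, C⁆ ≤ commutator G := by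
      rw [commutator_def]; exact Subgroup.commutator_mono le_top le_top
    have h2 : ⁅commutator G, C⁆ = ⊥ := by
      rw [Subgroup.commutator_comm, Subgroup.commutator_eq_bot_iff_le_centralizer]
    rw [← h2]
    exact Subgroup.commutator_mono h1 le_rfl
  have hFeq : Cfsg.fittingSubgroup G = Subgroup.centralizer ((commutator G : Subgroup G) : Set G) :=
    le_antisymm hF_le hF_ge
  obtain ⟨c, hc⟩ := IsCyclic.exists_generator (α := commutator G)
  have hcent : Subgroup.centralizer ((commutator G : Subgroup G) : Set G) =
      Subgroup.centralizer ({(c : G)} : Set G) := by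
    apply le_antisymm
    · apply Subgroup.centralizer_le
      intro x hx
      rw [Set.mem_singleton_iff] at hx
      rw [hx]; exact c.2
    · intro x hx
      rw [Subgroup.mem_centralizer_iff] at hx ⊢
      intro y hy
      have hy' := hc ⟨y, hy⟩
      obtain ⟨k, hk⟩ := Subgroup.mem_zpowers_iff.mp hy'
      have hk' : (c : G) ^ k = y := by
        have := congrArg Subtype.val hk
        simpa using this
      have hcx : Commute (c : G) x := hx c (Set.mem_singleton _)
      rw [← hk']
      exact (hcx.zpow_left k).eq
  have hidx : Squarefree (Cfsg.fittingSubgroup G).index := by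
    rw [hFeq, hcent]; exact h c
  refine ⟨hss, hFn, ?_, hcyc, hsq, ?_, ?_⟩
  · intro hFn'
    refine ⟨?_, hidx⟩
    haveI := hFn'
    have hcomm : IsMulCommutative (G ⧸ Cfsg.fittingSubgroup G) :=
      Subgroup.Normal.quotient_commutative_iff_commutator_le.mpr hle
    letI : CommGroup (G ⧸ Cfsg.fittingSubgroup G) :=
      { (inferInstance : Group (G ⧸ Cfsg.fittingSubgroup G)) with
        mul_comm := hcomm.is_comm.comm }
    haveI : IsZGroup (G ⧸ Cfsg.fittingSubgroup G) := IsZGroup.of_squarefree hidx
    infer_instance
  · rw [eq_top_iff]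
    intro x _
    rw [Subgroup.mem_upperCentralSeries_succ_iff]
    intro y
    rw [Subgroup.upperCentralSeries_one, Subgroup.mem_center_iff]
    intro z
    have h1 : ((⁅x, y⁆ : Cfsg.fittingSubgroup G) : G) ∈ commutator G := by
      rw [commutator_def]
      have : ((⁅x, y⁆ : Cfsg.fittingSubgroup G) : G) = ⁅(x : G), (y : G)⁆ := by
        simp [commutatorElement_def]
      rw [this]
      exact Subgroup.commutator_mem_commutator (Subgroup.mem_top _) (Subgroup.mem_top _)
    have h2 := hF_le z.2
    rw [Subgroup.mem_centralizer_iff] at h2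
    exact Subtype.ext (h2 _ h1).symm
  · have hd : commutator ↥(commutator G) = ⁅(⊤ : Subgroup ↥(commutator G)), ⊤⁆ := commutator_def _
    rw [hd, Subgroup.commutator_eq_bot_iff_le_centralizer]
    intro x _
    rw [Subgroup.mem_centralizer_iff]
    intro y _
    exact (IsCyclic.commGroup (α := commutator G)).mul_comm y x

end Cfsg.Agent.S4130
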