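import Cfsg.Statements.S4142
-- import your own Cfsg.Agent.* helpers here

set_option autoImplicit false
open Cfsg

namespace Cfsg.Agent.S4142

/-- For `g : G` and normal `N`: with `D` the preimage of `C_{G/N}(gN)`, the map
`x ↦ g⁻¹ x g x⁻¹` induces an injection `D ⧸ C_G(g) → N`, which is a bijection iff
every `g n` (`n ∈ N`) is conjugate to `g`. Consequently
`|C_G(g)| = |C_{G/N}(gN)|` iff the Camina condition holds at `g`. -/
theorem camina_at {G : Type*} [Group G] [Finite G] (N : Subgroup G) [N.Normal] (g : G) :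
    (∀ n ∈ N, ∃ x : G, x * g * x⁻¹ = g * n) ↔
      Nat.card (Subgroup.centralizer ({g} : Set G)) =
        Nat.card (Subgroup.centralizer ({(QuotientGroup.mk g : G ⧸ N)} : Set (G ⧸ N))) := by
  classical
  let π := QuotientGroup.mk' N
  have hπs : Function.Surjective π := QuotientGroup.mk'_surjective N
  set K := Subgroup.centralizer ({(QuotientGroup.mk g : G ⧸ N)} : Set (G ⧸ N)) with hK
  set C := Subgroup.centralizer ({g} : Set G) with hC
  set D := K.comap π with hD
  have hmemD : ∀ x, x ∈ D ↔ π x * π g = π g * π x := by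
    intro x
    rw [hD, Subgroup.mem_comap, hK, Subgroup.mem_centralizer_singleton_iff]
    constructor
    · intro h; exact h
    · intro h; exact h
  have hmemC : ∀ x, x ∈ C ↔ x * g = g * x := by
    intro x
    rw [hC, Subgroup.mem_centralizer_singleton_iff]
  have hCD : C ≤ D := by
    intro x hx
    rw [hmemD, ← map_mul, ← map_mul, (hmemC x).1 hx]
  -- |D| = |N| * |K|
  have hcardD : Nat.card D = Nat.card N * Nat.card K := by
    have h1 : D.index = K.index := Subgroup.index_comap_of_surjective K hπs
    have h2 : Nat.card D * D.index = Nat.card G := Subgroup.card_mul_index D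
    have h3 : Nat.card K * K.index = Nat.card (G ⧸ N) := Subgroup.card_mul_index K
    have h4 : Nat.card G = Nat.card (G ⧸ N) * Nat.card N :=
      Subgroup.card_eq_card_quotient_mul_card_subgroup N
    have hpos : 0 < K.index := Nat.pos_of_ne_zero Subgroup.index_ne_zero_of_finite
    apply Nat.eq_of_mul_eq_mul_right hpos
    rw [← h1, h2, h4, ← h3, h1]; ring
  -- |D| = [D : C] * |C|
  have hcardD' : Nat.card D = C.relIndex D * Nat.card C := by
    rw [Subgroup.relIndex, ← Subgroup.card_mul_index (C.subgroupOf D), mul_comm]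
    congr 1
    exact Nat.card_congr (Subgroup.subgroupOfEquivOfLe hCD).toEquiv
  -- the map D → N
  have hκmem : ∀ x ∈ D, g⁻¹ * x * g * x⁻¹ ∈ N := by
    intro x hx
    rw [← QuotientGroup.eq_one_iff]
    have := (hmemD x).1 hx
    change π (g⁻¹ * x * g * x⁻¹) = 1
    simp only [map_mul, map_inv]
    rw [mul_assoc (π g)⁻¹, this]; group
  let ι : D ⧸ (C.subgroupOf D) → N := Quotient.lift
    (fun x : D => (⟨g⁻¹ * x * g * x⁻¹, hκmem x x.2⟩ : N)) (by
      intro a b hab
      have hab' : a⁻¹ * b ∈ C.subgroupOf D := QuotientGroup.leftRel_apply.1 hab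
      rw [Subgroup.mem_subgroupOf, hmemC] at hab'
      apply Subtype.ext
      simp only [Subgroup.coe_mul, Subgroup.coe_inv] at hab'
      change g⁻¹ * a * g * (a : G)⁻¹ = g⁻¹ * b * g * (b : G)⁻¹
      have : (b : G) * g * (b : G)⁻¹ = a * g * (a : G)⁻¹ := by
        have h1 : (b : G) = a * ((a : G)⁻¹ * b) := by group
        have h2 : (a : G)⁻¹ * b * g * ((a : G)⁻¹ * b)⁻¹ = g := by
          rw [hab']; group
        calc (b : G) * g * (b : G)⁻¹
            = a * ((a : G)⁻¹ * b * g * ((a : G)⁻¹ * b)⁻¹) * (a : G)⁻¹ := by group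
          _ = a * g * (a : G)⁻¹ := by rw [h2]
      calc g⁻¹ * a * g * (a : G)⁻¹ = g⁻¹ * (a * g * (a : G)⁻¹) := by group
        _ = g⁻¹ * (b * g * (b : G)⁻¹) := by rw [this]
        _ = g⁻¹ * b * g * (b : G)⁻¹ := by group)
  have hι : ∀ x : D, ι (QuotientGroup.mk x) = ⟨g⁻¹ * x * g * x⁻¹, hκmem x x.2⟩ := fun x => rfl
  have hιinj : Function.Injective ι := by
    intro q1 q2 h
    induction q1 using QuotientGroup.induction_on with | _ a => ?_
    induction q2 using QuotientGroup.induction_on with | _ b => ?_
    rw [hι, hι] at h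
    have h' : g⁻¹ * a * g * (a : G)⁻¹ = g⁻¹ * b * g * (b : G)⁻¹ := congrArg Subtype.val h
    rw [QuotientGroup.eq, Subgroup.mem_subgroupOf, hmemC]
    simp only [Subgroup.coe_mul, Subgroup.coe_inv]
    have h2 : (a : G) * g * (a : G)⁻¹ = b * g * (b : G)⁻¹ := by
      calc (a : G) * g * (a : G)⁻¹ = g * (g⁻¹ * a * g * (a : G)⁻¹) := by group
        _ = g * (g⁻¹ * b * g * (b : G)⁻¹) := by rw [h']
        _ = b * g * (b : G)⁻¹ := by group
    calc (a : G)⁻¹ * b * g = (a : G)⁻¹ * (b * g * (b : G)⁻¹) * b := by group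
      _ = (a : G)⁻¹ * (a * g * (a : G)⁻¹) * b := by rw [h2]
      _ = g * ((a : G)⁻¹ * b) := by group
  have hNpos : 0 < Nat.card N := Nat.card_pos
  have hcardQ : Nat.card (D ⧸ (C.subgroupOf D)) = C.relIndex D := rfl
  constructor
  · intro hcam
    have hιsurj : Function.Surjective ι := by
      rintro ⟨n, hn⟩
      obtain ⟨x, hx⟩ := hcam n hn
      have hxD : x ∈ D := by
        rw [hmemD]
        have : π (x * g * x⁻¹) = π (g * n) := by rw [hx]
        simp only [map_mul, map_inv] at this
        have hn1 : π n = 1 := (QuotientGroup.eq_one_iff n).2 hn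
        rw [hn1, mul_one] at this
        calc π x * π g = (π x * π g * (π x)⁻¹) * π x := by group
          _ = π g * π x := by rw [this]
      refine ⟨QuotientGroup.mk ⟨x, hxD⟩, ?_⟩
      rw [hι]
      apply Subtype.ext
      change g⁻¹ * x * g * x⁻¹ = n
      calc g⁻¹ * x * g * x⁻¹ = g⁻¹ * (x * g * x⁻¹) := by group
        _ = n := by rw [hx]; group
    have hbij : Nat.card (D ⧸ (C.subgroupOf D)) = Nat.card N :=
      Nat.card_eq_of_bijective ι ⟨hιinj, hιsurj⟩
    rw [hcardQ] at hbij
    rw [hbij, hcardD] at hcardD'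
    exact (Nat.eq_of_mul_eq_mul_left hNpos hcardD').symm
  · intro hcard
    have hrel : C.relIndex D = Nat.card N := by
      rw [hcardD, ← hcard] at hcardD'
      have hCpos : 0 < Nat.card C := Nat.card_pos
      exact (Nat.eq_of_mul_eq_mul_right hCpos hcardD').symm
    have hιsurj : Function.Surjective ι := by
      have hfin : Finite N := inferInstance
      have : Function.Bijective ι := by
        rw [Nat.bijective_iff_injective_and_card]
        exact ⟨hιinj, by rw [hcardQ, hrel]⟩
      exact this.2
    intro n hn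
    obtain ⟨q, hq⟩ := hιsurj ⟨n, hn⟩
    induction q using QuotientGroup.induction_on with | _ x => ?_
    rw [hι] at hq
    have hq' : g⁻¹ * x * g * (x : G)⁻¹ = n := congrArg Subtype.val hq
    refine ⟨x, ?_⟩
    rw [← hq']; group

/-- Let G be a finite group and N a normal subgroup. Then the conjugacy class of every element g outside N is a union of cosets of N (gn is conjugate to g for all n ∈ N) if and only if for every g outside N the centralizer of g in G has the same order as the centralizer of gN in G/N. -/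
theorem result {G : Type*} [Group G] [Finite G] (N : Subgroup G) [N.Normal] :
    (∀ g : G, g ∉ N → ∀ n ∈ N, ∃ x : G, x * g * x⁻¹ = g * n) ↔
      ∀ g : G, g ∉ N → Nat.card (Subgroup.centralizer ({g} : Set G)) =
        Nat.card (Subgroup.centralizer ({(QuotientGroup.mk g : G ⧸ N)} : Set (G ⧸ N))) := by
  constructor
  · intro h g hg
    exact (camina_at N g).1 (h g hg)
  · intro h g hg
    exact (camina_at N g).2 (h g hg)

end Cfsg.Agent.S4142
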