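import Cfsg.Statements.S4144
import Cfsg.Agent.Lib.Helper3.EP8

set_option autoImplicit false
open Cfsg

namespace Cfsg.Agent.S4144

/-- Let X be a finite p-group of order p^n, n ≥ 2, of nilpotency class n − 1 (maximal class), and H any subgroup of X. Then the index in H of the subgroup generated by the p-th powers of elements of H is at most p^p. -/
theorem result {X : Type*} [Group X] [Finite X] {p : ℕ} [Fact p.Prime] (n : ℕ) (hn : 2 ≤ n) (hX : Nat.card X = p ^ n)
    (hmax : Group.nilpotencyClass X = n - 1) (H : Subgroup X) :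
    (Subgroup.closure {y : X | ∃ h ∈ H, y = h ^ p}).relIndex H ≤ p ^ p := by
  classical
  have hp := (Fact.out : p.Prime)
  have hp2le := hp.two_le
  obtain ⟨K, hK⟩ : ∃ K : Subgroup X, K = Subgroup.closure {y : X | ∃ h ∈ H, y = h ^ p} := ⟨_, rfl⟩
  rw [← hK]
  have hKH : K ≤ H := by
    rw [hK, Subgroup.closure_le]
    rintro y ⟨g, hg, rfl⟩
    exact H.pow_mem hg p
  have hcm := Cfsg.Agent.Lib.Helper2.card_mul_relIndex hKH
  have hKpos : 0 < Nat.card K := Nat.card_pos
  have hrel_le : K.relIndex H ≤ Nat.card H := by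
    rw [← hcm]
    exact Nat.le_mul_of_pos_left _ hKpos
  have hHdvd : Nat.card H ∣ p ^ n := by
    rw [← hX]
    exact Subgroup.card_subgroup_dvd_card H
  by_cases h1 : n ≤ p
  · have : Nat.card H ≤ p ^ n := Nat.le_of_dvd (pow_pos hp.pos n) hHdvd
    exact hrel_le.trans (this.trans (Nat.pow_le_pow_right hp.pos h1))
  by_cases h2 : p + 2 ≤ n
  · have hmc := Cfsg.Agent.Lib.Helper1.Mcl.maxCl_of_class n (by omega) hX hmax
    rw [hK]
    exact Cfsg.Agent.Lib.Helper3.EP.relIndex_pow_le_of_large hmc h2 H
  have hn1 : n = p + 1 := by omega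
  subst hn1
  have hmc := Cfsg.Agent.Lib.Helper1.Mcl.maxCl_of_class (p + 1) (by omega) hX hmax
  by_cases hH : H = ⊤
  · subst hH
    have hKne : K ≠ ⊥ := by
      intro hKbot
      have hexp : ∀ g : X, g ^ p = 1 := by
        intro g
        have : g ^ p ∈ K := by
          rw [hK]
          exact Subgroup.subset_closure ⟨g, Subgroup.mem_top g, rfl⟩
        rw [hKbot, Subgroup.mem_bot] at this
        exact this
      by_cases hp2 : p = 2
      · subst hp2
        have hcomm : ∀ a b : X, a * b = b * a := by
          intro a b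
          have ha := hexp a
          have hb := hexp b
          have hab := hexp (a * b)
          have ha' : a⁻¹ = a := by
            rw [inv_eq_iff_mul_eq_one, ← pow_two]; exact ha
          have hb' : b⁻¹ = b := by
            rw [inv_eq_iff_mul_eq_one, ← pow_two]; exact hb
          have hab' : (a * b)⁻¹ = a * b := by
            rw [inv_eq_iff_mul_eq_one, ← pow_two]; exact hab
          rw [← hab', mul_inv_rev, ha', hb']
        apply hmc.top
        show (⊤ : Subgroup X).lowerCentralSeries (2 + 1 - 2) = ⊥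
        have : 2 + 1 - 2 = 0 + 1 := by norm_num
        rw [this, Subgroup.lowerCentralSeries_succ, eq_bot_iff, Subgroup.commutator_le]
        intro a _ b _
        rw [Subgroup.mem_bot, commutatorElement_def, hcomm a b]
        group
      · obtain ⟨g, hg⟩ := Cfsg.Agent.Lib.Helper3.EP.exists_pow_ne_one hp2 hmc
        exact hg (hexp g)
    have hKdvd : Nat.card K ∣ p ^ (p + 1) := by
      rw [← hX]
      exact Subgroup.card_subgroup_dvd_card K
    obtain ⟨a, ha, hKa⟩ := (Nat.dvd_prime_pow hp).1 hKdvd
    have ha0 : a ≠ 0 := by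
      rintro rfl
      rw [pow_zero] at hKa
      exact hKne ((Subgroup.card_eq_one).1 hKa)
    have hpK : p ≤ Nat.card K := by
      rw [hKa]
      calc p = p ^ 1 := (pow_one p).symm
        _ ≤ p ^ a := Nat.pow_le_pow_right hp.pos (Nat.one_le_iff_ne_zero.mpr ha0)
    have htop : Nat.card (⊤ : Subgroup X) = p ^ (p + 1) := by
      rw [Subgroup.card_top, hX]
    rw [htop] at hcm
    have h3 : p * K.relIndex ⊤ ≤ p * p ^ p := by
      calc p * K.relIndex ⊤ ≤ Nat.card K * K.relIndex ⊤ := Nat.mul_le_mul_right _ hpK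
        _ = p ^ (p + 1) := hcm
        _ = p * p ^ p := by rw [pow_succ']
    exact Nat.le_of_mul_le_mul_left h3 hp.pos
  · obtain ⟨a, ha, hHa⟩ := (Nat.dvd_prime_pow hp).1 hHdvd
    have hane : a ≠ p + 1 := by
      rintro rfl
      apply hH
      apply Subgroup.eq_top_of_card_eq
      rw [hHa, hX]
    have : Nat.card H ≤ p ^ p := by
      rw [hHa]
      exact Nat.pow_le_pow_right hp.pos (by omega)
    exact hrel_le.trans this

end Cfsg.Agent.S4144
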