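import Cfsg.Statements.S4145
import Mathlib
import Cfsg.Agent.Lib.Helper1.PNilpotentLocal
import Cfsg.Agent.Lib.Helper1.AbelianSylow
import Cfsg.Agent.Lib.Helper1.CyclicPGroup
import Cfsg.Agent.Lib.Helper1.TransferFocal
import Cfsg.Agent.Lib.Helper1.NormalPComplement
import Cfsg.Agent.S0216

set_option autoImplicit false
open Cfsg

namespace Cfsg.Agent.S4145


open Cfsg.Agent.Lib.Helper1
open scoped commutatorElement

/-- Dichotomy for a cyclic Sylow subgroup. -/
theorem dich {X : Type*} [Group X] [Finite X] (p : ℕ) [Fact p.Prime] (P : Sylow p X)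
    (hP : IsCyclic (P : Subgroup X)) :
    Subgroup.normalizer (P : Set X) ≤ Subgroup.centralizer (P : Set X) ∨
    ((P : Subgroup X) ⊓ Subgroup.centralizer (Subgroup.normalizer (P : Set X) : Set X) = ⊥ ∧
      (P : Subgroup X) ≤ commutator X) := by
  have hc : IsMulCommutative (P : Subgroup X) := IsCyclic.isMulCommutative
  obtain ⟨h1, h2⟩ := abelian_sylow_decomposition P hc
  rcases cyclic_pgroup_subgroup_eq_bot_or_eq_bot (P : Subgroup X) hP P.2 _ _ inf_le_left
    inf_le_right h1 with hA | hB
  · right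
    refine ⟨hA, ?_⟩
    rw [hA, bot_sup_eq] at h2
    rw [← h2]
    exact inf_le_left
  · left
    rw [hB, sup_bot_eq] at h2
    intro n hn
    rw [Subgroup.mem_centralizer_iff]
    intro x hx
    have hx' : x ∈ (P : Subgroup X) ⊓ Subgroup.centralizer
        (Subgroup.normalizer (P : Set X) : Set X) := by rw [h2]; exact hx
    have := (Subgroup.mem_centralizer_iff.1 hx'.2) n hn
    exact this.symm

/-- The Frobenius condition pulls back along injective homomorphisms. -/
theorem frobeniusCondition_of_injective {A B : Type*} [Group A] [Group B] (f : B →* A)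
    (hf : Function.Injective f) {p : ℕ} (h : FrobeniusCondition p A) :
    FrobeniusCondition p B := by
  intro Q hQ g hg hgo
  have hQ' : IsPGroup p (Q.map f) := hQ.map _
  have hg' : f g ∈ Subgroup.normalizer ((Q.map f : Subgroup A) : Set A) := by
    rw [Subgroup.mem_normalizer_iff]
    intro y
    constructor
    · rintro ⟨y₀, hy₀, rfl⟩
      refine ⟨g * y₀ * g⁻¹, (Subgroup.mem_normalizer_iff.mp hg y₀).mp hy₀, ?_⟩
      simp
    · rintro ⟨z₀, hz₀, hz⟩
      refine ⟨g⁻¹ * z₀ * g, ?_, ?_⟩
      · have hginv := (Subgroup.normalizer (Q : Set B)).inv_mem hg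
        have := (Subgroup.mem_normalizer_iff.mp hginv z₀).mp hz₀
        simpa using this
      · rw [map_mul, map_mul, hz, map_inv]; group
  have hgo' : Nat.Coprime (orderOf (f g)) p := by rwa [orderOf_injective f hf g]
  have hc := h _ hQ' _ hg' hgo'
  rw [Subgroup.mem_centralizer_iff] at hc ⊢
  intro y hy
  apply hf
  rw [map_mul, map_mul]
  exact hc (f y) ⟨y, hy, rfl⟩

theorem hasNormalPComplement_of_injective {A B : Type*} [Group A] [Group B] [Finite A] [Finite B]
    (f : B →* A) (hf : Function.Injective f) {p : ℕ} [Fact p.Prime]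
    (h : Cfsg.HasNormalPComplement p A) : Cfsg.HasNormalPComplement p B := by
  rw [hasNormalPComplement_iff_frobeniusCondition] at h ⊢
  exact frobeniusCondition_of_injective f hf h

/-- Step 1: `H ⊔ P` has a normal `p`-complement. -/
theorem step1 {G : Type*} [Group G] [Finite G] (p : ℕ) [Fact p.Prime]
    (P : Sylow p G) (hP : IsCyclic (P : Subgroup G)) (H : Subgroup G) [H.Normal]
    (h2 : p ∣ H.index) :
    Cfsg.HasNormalPComplement p (H ⊔ (P : Subgroup G) : Subgroup G) := by
  have hPH : ¬ (P : Subgroup G) ≤ H := by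
    intro hle
    exact P.not_dvd_index (h2.trans (Subgroup.index_dvd_of_le hle))
  set X : Subgroup G := H ⊔ (P : Subgroup G) with hX
  have hPX : (P : Subgroup G) ≤ X := le_sup_right
  have hHX : H ≤ X := le_sup_left
  let PX : Sylow p X := P.subtype hPX
  have hPXc : IsCyclic (PX : Subgroup X) := by
    have e : (PX : Subgroup X) ≃* (P : Subgroup G) := Subgroup.subgroupOfEquivOfLe hPX
    exact isCyclic_of_surjective e.symm.toMonoidHom e.symm.surjective
  rcases dich p PX hPXc with h | ⟨-, h⟩
  · exact hasNormalPComplement_of_normalizer_le_centralizer PX h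
  · exfalso
    apply hPH
    haveI : (H.subgroupOf X).Normal := Subgroup.Normal.subgroupOf inferInstance X
    have hsup : H.subgroupOf X ⊔ (PX : Subgroup X) = ⊤ := by
      rw [Sylow.coe_subtype, ← Subgroup.subgroupOf_sup hHX hPX]
      exact Subgroup.subgroupOf_self X
    have hcomm : ⁅(PX : Subgroup X), (PX : Subgroup X)⁆ ≤ H.subgroupOf X := by
      have hcm : IsMulCommutative (PX : Subgroup X) := IsCyclic.isMulCommutative
      rw [Subgroup.commutator_le]
      intro a ha b hb
      have : a * b = b * a := by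
        have := hcm.is_comm.comm ⟨a, ha⟩ ⟨b, hb⟩
        exact congrArg Subtype.val this
      rw [commutatorElement_def, this]
      simp
    have hle := commutator_le_of_sup_eq_top (H.subgroupOf X) (PX : Subgroup X) hsup hcomm
    intro x hx
    have : (⟨x, hPX hx⟩ : X) ∈ (PX : Subgroup X) := by
      rw [Sylow.coe_subtype, Subgroup.mem_subgroupOf]; exact hx
    have := hle (h this)
    rwa [Subgroup.mem_subgroupOf] at this

/-- The normal `p`-complement of a normal subgroup, as a normal subgroup of the whole group. -/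
theorem compl_sub {G : Type*} [Group G] [Finite G] (p : ℕ) [Fact p.Prime] (Y : Subgroup G)
    [Y.Normal] (hY : Cfsg.HasNormalPComplement p Y) :
    ∃ T : Subgroup G, T.Normal ∧ T ≤ Y ∧
      (∀ x : G, x ∈ T ↔ x ∈ Y ∧ Nat.Coprime (orderOf x) p) ∧ (Nat.card T).Coprime p ∧
      ∃ m : ℕ, T.relIndex Y = p ^ m := by
  have hp : p.Prime := Fact.out
  obtain ⟨PY, TY, hTn, hTc⟩ := hY
  have hmem : ∀ x : G, x ∈ TY.map Y.subtype ↔ x ∈ Y ∧ Nat.Coprime (orderOf x) p := by
    intro x
    constructor
    · rintro ⟨y, hy, rfl⟩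
      refine ⟨y.2, ?_⟩
      have := (mem_normal_complement_iff PY TY hTc y).1 hy
      simpa [Subgroup.orderOf_coe] using this
    · rintro ⟨hxY, hxo⟩
      refine ⟨⟨x, hxY⟩, ?_, rfl⟩
      apply (mem_normal_complement_iff PY TY hTc ⟨x, hxY⟩).2
      rwa [← Subgroup.orderOf_coe]
  refine ⟨TY.map Y.subtype, ?_, ?_, hmem, ?_, ?_⟩
  · constructor
    intro x hx g
    rw [hmem] at hx ⊢
    refine ⟨‹Y.Normal›.conj_mem x hx.1 g, ?_⟩
    have : orderOf (g * x * g⁻¹) = orderOf x := by
      have := orderOf_injective (MulAut.conj g).toMonoidHom (MulEquiv.injective _) x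
      simpa [MulAut.conj_apply] using this
    rw [this]; exact hx.2
  · rintro _ ⟨y, -, rfl⟩
    exact y.2
  · rw [Subgroup.card_map_of_injective Y.subtype_injective, ← hTc.index_eq_card]
    exact ((Nat.Prime.coprime_iff_not_dvd hp).2 PY.not_dvd_index).symm
  · obtain ⟨m, hm⟩ := PY.2.exists_card_eq
    refine ⟨m, ?_⟩
    have h1 : (TY.map Y.subtype).subgroupOf Y = TY := by
      ext y
      rw [Subgroup.mem_subgroupOf]
      constructor
      · rintro ⟨z, hz, hzy⟩
        have : z = y := Subtype.ext hzy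
        rwa [← this]
      · intro hy
        exact ⟨y, hy, rfl⟩
    rw [Subgroup.relIndex, h1, hTc.symm.index_eq_card, hm]

/-- Step 4: `[P, H]` consists of `p'`-elements. -/
theorem step4 {G : Type*} [Group G] [Finite G] (p : ℕ) [Fact p.Prime]
    (P : Sylow p G) (hP : IsCyclic (P : Subgroup G)) (H : Subgroup G) [H.Normal]
    (h2 : p ∣ H.index) (g : G) (hg : g ∈ P) (h : G) (hh : h ∈ H) :
    Nat.Coprime (orderOf (g * h * g⁻¹ * h⁻¹)) p := by
  have hs := step1 p P hP H h2
  obtain ⟨X, hX⟩ : ∃ X : Subgroup G, X = H ⊔ (P : Subgroup G) := ⟨_, rfl⟩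
  rw [← hX] at hs
  obtain ⟨PX', KX, hKXn, hKXc'⟩ := hs
  have hPX : (P : Subgroup G) ≤ X := hX ▸ le_sup_right
  have hHX : H ≤ X := hX ▸ le_sup_left
  let PX : Sylow p X := P.subtype hPX
  have hKXc : KX.IsComplement' (PX : Subgroup X) :=
    isComplement'_sylow_of_isComplement'_sylow PX PX' KX hKXc'
  have hPXc : IsCyclic (PX : Subgroup X) := by
    have e : (PX : Subgroup X) ≃* (P : Subgroup G) := Subgroup.subgroupOfEquivOfLe hPX
    exact isCyclic_of_surjective e.symm.toMonoidHom e.symm.surjective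
  have hcomm : ⁅(PX : Subgroup X), (PX : Subgroup X)⁆ ≤ KX := by
    have hcm : IsMulCommutative (PX : Subgroup X) := IsCyclic.isMulCommutative
    rw [Subgroup.commutator_le]
    intro a ha b hb
    have : a * b = b * a := by
      have := hcm.is_comm.comm ⟨a, ha⟩ ⟨b, hb⟩
      exact congrArg Subtype.val this
    rw [commutatorElement_def, this]
    simp
  have hle := commutator_le_of_sup_eq_top KX (PX : Subgroup X) hKXc.sup_eq_top hcomm
  have hmem : ⁅(⟨g, hPX hg⟩ : X), ⟨h, hHX hh⟩⁆ ∈ KX :=
    hle (Subgroup.commutator_mem_commutator (Subgroup.mem_top _) (Subgroup.mem_top _))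
  rw [mem_normal_complement_iff PX KX hKXc, ← Subgroup.orderOf_coe] at hmem
  simpa [commutatorElement_def] using hmem

/-- An element of order `p` in `P ∩ H`. -/
theorem exists_mem_of_order_p {G : Type*} [Group G] [Finite G] (p : ℕ) [Fact p.Prime]
    (P : Sylow p G) (H : Subgroup G) [H.Normal] (h1 : p ∣ Nat.card H) :
    ∃ y : G, y ∈ P ∧ y ∈ H ∧ y ≠ 1 := by
  have hp : p.Prime := Fact.out
  obtain ⟨y₀, hy₀⟩ := exists_prime_orderOf_dvd_card' p h1
  have hy : orderOf (y₀ : G) = p := by rw [Subgroup.orderOf_coe]; exact hy₀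
  have hyp : IsPGroup p (Subgroup.zpowers (y₀ : G)) := by
    apply IsPGroup.of_card (n := 1)
    rw [Nat.card_zpowers, hy, pow_one]
  obtain ⟨P', hP'⟩ := hyp.exists_le_sylow
  obtain ⟨g, hg⟩ := MulAction.exists_smul_eq G P P'
  have hyP' : (y₀ : G) ∈ (g • P : Sylow p G) := by
    rw [hg]; exact hP' (Subgroup.mem_zpowers _)
  rw [Cfsg.Agent.S0216.mem_smul_sylow] at hyP'
  refine ⟨g⁻¹ * y₀ * g, hyP', ?_, ?_⟩
  · have := ‹H.Normal›.conj_mem (y₀ : G) y₀.2 g⁻¹
    simpa using this
  · intro h
    have : (y₀ : G) = 1 := by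
      have h' : (y₀ : G) = g * (g⁻¹ * y₀ * g) * g⁻¹ := by group
      rw [h', h]; group
    rw [this, orderOf_one] at hy
    exact hp.one_lt.ne hy

theorem main {G : Type*} [Group G] [Finite G] (p : ℕ) [Fact p.Prime]
    (P : Sylow p G) (hP : IsCyclic (P : Subgroup G)) (H : Subgroup G) [H.Normal]
    (h1 : p ∣ Nat.card H) (h2 : p ∣ H.index) :
    Cfsg.HasNormalPComplement p H ∧ Cfsg.IsPSolvable p G := by
  have hp : p.Prime := Fact.out
  have hH : Cfsg.HasNormalPComplement p H :=
    hasNormalPComplement_of_injective (Subgroup.inclusion (le_sup_left : H ≤ H ⊔ (P : Subgroup G)))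
      (Subgroup.inclusion_injective _) (step1 p P hP H h2)
  refine ⟨hH, ?_⟩
  obtain ⟨K, hKn, hKH, hKmem, hKcard, -⟩ := compl_sub p H hH
  -- K ∩ P = 1
  have hKP : ∀ x : G, x ∈ K → x ∈ P → x = 1 := by
    intro x hxK hxP
    have h3 := ((hKmem x).1 hxK).2
    obtain ⟨j, hj⟩ := (IsPGroup.iff_orderOf.1 P.2) ⟨x, hxP⟩
    rw [Subgroup.orderOf_mk] at hj
    rw [hj] at h3
    rcases Nat.eq_zero_or_pos j with h0 | h0
    · rw [h0, pow_zero] at hj
      exact orderOf_eq_one_iff.1 hj
    · exfalso
      have := (Nat.coprime_pow_left_iff h0 p p).1 h3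
      rw [Nat.coprime_self] at this
      exact hp.one_lt.ne' this
  -- the centralizer of H mod K
  obtain ⟨C, hCdef⟩ : ∃ C : Subgroup G, C = (Subgroup.centralizer
      ((H.map (QuotientGroup.mk' K) : Subgroup (G ⧸ K)) : Set (G ⧸ K))).comap
      (QuotientGroup.mk' K) := ⟨_, rfl⟩
  have hCn : C.Normal := by
    rw [hCdef]
    haveI : (H.map (QuotientGroup.mk' K)).Normal :=
      Subgroup.Normal.map inferInstance _ (QuotientGroup.mk'_surjective K)
    exact Subgroup.Normal.comap inferInstance _
  have hCmem : ∀ g : G, g ∈ C ↔ ∀ h ∈ H, g * h * g⁻¹ * h⁻¹ ∈ K := by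
    intro g
    rw [hCdef, Subgroup.mem_comap, Subgroup.mem_centralizer_iff]
    constructor
    · intro hg h hh
      have := hg _ (Subgroup.mem_map_of_mem (QuotientGroup.mk' K) hh)
      apply (QuotientGroup.eq_one_iff _).1
      simp only [QuotientGroup.mk'_apply] at this
      simp only [QuotientGroup.mk_mul, QuotientGroup.mk_inv]
      rw [← this]
      group
    · intro hg y hy
      obtain ⟨h, hh, rfl⟩ := hy
      have := (QuotientGroup.eq_one_iff _).2 (hg h hh)
      simp only [QuotientGroup.mk_mul, QuotientGroup.mk_inv] at this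
      simp only [QuotientGroup.mk'_apply]
      have h4 : (g : G ⧸ K) * h = h * g := by
        calc (g : G ⧸ K) * h = ((g : G ⧸ K) * h * (g : G ⧸ K)⁻¹ * (h : G ⧸ K)⁻¹) * (h * g) := by
              group
          _ = h * g := by rw [this, one_mul]
      exact h4.symm
  have hPC : (P : Subgroup G) ≤ C := by
    intro g hg
    rw [hCmem]
    intro h hh
    rw [hKmem]
    refine ⟨?_, step4 p P hP H h2 g hg h hh⟩
    have := ‹H.Normal›.conj_mem h hh g
    exact H.mul_mem this (H.inv_mem hh)
  -- C has a normal p-complement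
  have hCcomp : Cfsg.HasNormalPComplement p C := by
    let PC : Sylow p C := P.subtype hPC
    have hPCc : IsCyclic (PC : Subgroup C) := by
      have e : (PC : Subgroup C) ≃* (P : Subgroup G) := Subgroup.subgroupOfEquivOfLe hPC
      exact isCyclic_of_surjective e.symm.toMonoidHom e.symm.surjective
    rcases dich p PC hPCc with h | ⟨h, -⟩
    · exact hasNormalPComplement_of_normalizer_le_centralizer PC h
    · exfalso
      obtain ⟨y, hyP, hyH, hy1⟩ := exists_mem_of_order_p p P H h1
      have hmem : (⟨y, hPC hyP⟩ : C) ∈ (PC : Subgroup C) ⊓ Subgroup.centralizer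
          (Subgroup.normalizer (PC : Set C) : Set C) := by
        refine Subgroup.mem_inf.2 ⟨?_, ?_⟩
        · rw [Sylow.coe_subtype, Subgroup.mem_subgroupOf]; exact hyP
        · rw [Subgroup.mem_centralizer_iff]
          intro n hn
          -- n normalizes P, centralizes H mod K
          have h3 : (n : G) * y * (n : G)⁻¹ * y⁻¹ ∈ K := (hCmem n).1 n.2 y hyH
          have h4 : (n : G) * y * (n : G)⁻¹ ∈ (P : Subgroup G) := by
            have := (Subgroup.mem_normalizer_iff.1 hn ⟨y, hPC hyP⟩).1 (by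
              show (⟨y, hPC hyP⟩ : C) ∈ (PC : Subgroup C)
              rw [Sylow.coe_subtype, Subgroup.mem_subgroupOf]; exact hyP)
            have h5 : n * ⟨y, hPC hyP⟩ * n⁻¹ ∈ (PC : Subgroup C) := this
            rw [Sylow.coe_subtype, Subgroup.mem_subgroupOf] at h5
            simpa using h5
          have h6 := hKP _ h3 ((P : Subgroup G).mul_mem h4 ((P : Subgroup G).inv_mem hyP))
          apply Subtype.ext
          simp only [Subgroup.coe_mul]
          have : (n : G) * y = ((n : G) * y * (n : G)⁻¹ * y⁻¹) * (y * n) := by group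
          rw [this, h6, one_mul]
      rw [h, Subgroup.mem_bot] at hmem
      exact hy1 (congrArg Subtype.val hmem)
  obtain ⟨T, hTn, hTC, hTmem, hTcard, m, hTm⟩ := compl_sub p C hCcomp
  -- the chain
  refine ⟨3, ![⊥, T, C, ⊤], rfl, rfl, ?_, ?_, ?_⟩
  · rw [Fin.monotone_iff_le_succ]
    intro i
    fin_cases i
    · exact bot_le
    · exact hTC
    · exact le_top
  · intro i
    fin_cases i
    · exact Subgroup.normal_bot
    · exact hTn
    · exact hCn
    · exact Subgroup.normal_top
  · intro i
    fin_cases i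
    · right
      show ((⊥ : Subgroup G).relIndex T).Coprime p
      rw [Subgroup.relIndex_bot_left]; exact hTcard
    · left
      exact ⟨m, hTm⟩
    · right
      show (C.relIndex ⊤).Coprime p
      rw [Subgroup.relIndex_top_right]
      apply (Nat.Prime.coprime_iff_not_dvd hp).2 _ |>.symm
      intro hdvd
      exact P.not_dvd_index (hdvd.trans (Subgroup.index_dvd_of_le hPC))

/-- Let G be a finite group with a cyclic Sylow p-subgroup and H a normal subgroup such that p divides both the order of H and the index of H. Then H has a normal p-complement and G is p-solvable. -/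
theorem result {G : Type*} [Group G] [Finite G] (p : ℕ) [Fact p.Prime]
    (P : Sylow p G) (hP : IsCyclic (P : Subgroup G)) (H : Subgroup G) [H.Normal] (h1 : p ∣ Nat.card H) (h2 : p ∣ H.index) :
    Cfsg.HasNormalPComplement p H ∧ Cfsg.IsPSolvable p G :=
  main p P hP H h1 h2

end Cfsg.Agent.S4145
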