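import Cfsg.Statements.S4153
import Cfsg.Agent.Lib.Helper3.PElements

set_option autoImplicit false
open Cfsg

namespace Cfsg.Agent.S4153

theorem pElement_of_mem_sylow {G : Type*} [Group G] {p : ℕ} [Fact p.Prime] (R : Sylow p G) (y : G)
    (hy : y ∈ (R : Subgroup G)) : ∃ k : ℕ, orderOf y = p ^ k := by
  obtain ⟨k, hk⟩ := R.2 ⟨y, hy⟩
  have hk' : y ^ p ^ k = 1 := by
    have := congrArg Subtype.val hk
    simpa using this
  obtain ⟨j, -, hj⟩ := (Nat.dvd_prime_pow Fact.out).1 (orderOf_dvd_of_pow_eq_one hk')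
  exact ⟨j, hj⟩

theorem mem_smul_sylow_iff' {G : Type*} [Group G] {p : ℕ} (P : Sylow p G) (g x : G) :
    x ∈ ((g • P : Sylow p G) : Subgroup G) ↔ g⁻¹ * x * g ∈ (P : Subgroup G) := by
  rw [Sylow.coe_subgroup_smul, Subgroup.mem_pointwise_smul_iff_inv_smul_mem]
  simp [MulAut.smul_def]

/-- A central `p`-element lies in every Sylow `p`-subgroup. -/
theorem central_pElement_mem_sylow {G : Type*} [Group G] [Finite G] {p : ℕ} [Fact p.Prime]
    (P : Sylow p G) (n : G) (hn : n ∈ Subgroup.center G) (hpn : ∃ k : ℕ, orderOf n = p ^ k) :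
    n ∈ (P : Subgroup G) := by
  have : IsPGroup p (Subgroup.zpowers n) := by
    rw [IsPGroup.iff_card, Nat.card_zpowers]; exact hpn
  obtain ⟨R, hR⟩ := this.exists_le_sylow
  obtain ⟨h, rfl⟩ := MulAction.exists_smul_eq G P R
  have h1 := (mem_smul_sylow_iff' P h n).1 (hR (Subgroup.mem_zpowers n))
  have h2 : h⁻¹ * n * h = n := by
    have := Subgroup.mem_center_iff.1 hn h
    rw [mul_assoc, ← this]; group
  rwa [h2] at h1

/-- Let G be a finite group, p a prime, N a normal subgroup, P a Sylow p-subgroup of G and P̄ a Sylow p-subgroup of G/N. Count the elements of p-power order, the identity included. Then (number of such elements of G/N)/#P̄ ≤ (number of such elements of G)/#P, stated as a cross-multiplied inequality, with equality when N is central. -/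
theorem result {G : Type*} [Group G] [Finite G] (p : ℕ) [Fact p.Prime] (N : Subgroup G) [N.Normal]
    (P : Sylow p G) (Pbar : Sylow p (G ⧸ N)) :
    Nat.card {g : (G ⧸ N) // ∃ k : ℕ, orderOf g = p ^ k} * Nat.card (P : Subgroup G) ≤ Nat.card {g : G // ∃ k : ℕ, orderOf g = p ^ k} * Nat.card (Pbar : Subgroup (G ⧸ N)) ∧
    (N ≤ Subgroup.center G → Nat.card {g : (G ⧸ N) // ∃ k : ℕ, orderOf g = p ^ k} * Nat.card (P : Subgroup G) = Nat.card {g : G // ∃ k : ℕ, orderOf g = p ^ k} * Nat.card (Pbar : Subgroup (G ⧸ N))) := by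
  classical
  have hp : p.Prime := Fact.out
  set c := (Nat.card N).factorization p with hc
  -- lifts
  have hlift : ∀ q : {g : (G ⧸ N) // ∃ k : ℕ, orderOf g = p ^ k},
      ∃ x : G, (QuotientGroup.mk x : G ⧸ N) = q.1 ∧ ∃ e : ℕ, orderOf x = p ^ e :=
    fun q => Cfsg.Agent.Lib.Helper3.exists_pElement_lift N q.1 q.2
  choose xq hxq1 hxq2 using hlift
  have hsyl : ∀ q : {g : (G ⧸ N) // ∃ k : ℕ, orderOf g = p ^ k},
      ∃ R : Sylow p G, xq q ∈ (R : Subgroup G) := by
    intro q
    have : IsPGroup p (Subgroup.zpowers (xq q)) := by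
      rw [IsPGroup.iff_card, Nat.card_zpowers]; exact hxq2 q
    obtain ⟨R, hR⟩ := this.exists_le_sylow
    exact ⟨R, hR (Subgroup.mem_zpowers _)⟩
  choose Rq hRq using hsyl
  -- orders of Sylow subgroups
  have hcardP : Nat.card (P : Subgroup G) = Nat.card (Pbar : Subgroup (G ⧸ N)) * p ^ c := by
    rw [P.card_eq_multiplicity, Pbar.card_eq_multiplicity, ← pow_add]
    congr 1
    rw [Subgroup.card_eq_card_quotient_mul_card_subgroup N,
      Nat.factorization_mul Nat.card_pos.ne' Nat.card_pos.ne', Finsupp.add_apply]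
  -- the inequality
  have hineq : Nat.card {g : (G ⧸ N) // ∃ k : ℕ, orderOf g = p ^ k} * p ^ c ≤
      Nat.card {g : G // ∃ k : ℕ, orderOf g = p ^ k} := by
    let f : (Σ q : {g : (G ⧸ N) // ∃ k : ℕ, orderOf g = p ^ k}, ↥((Rq q : Subgroup G) ⊓ N)) →
        {g : G // ∃ k : ℕ, orderOf g = p ^ k} := fun z =>
      ⟨xq z.1 * z.2.1, pElement_of_mem_sylow (Rq z.1) _
        ((Rq z.1 : Subgroup G).mul_mem (hRq z.1) z.2.2.1)⟩
    have hf : Function.Injective f := by
      rintro ⟨q, n, hn⟩ ⟨q', n', hn'⟩ h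
      have h' : xq q * n = xq q' * n' := congrArg Subtype.val h
      have hq : q = q' := by
        apply Subtype.ext
        rw [← hxq1 q, ← hxq1 q']
        have h1 : (QuotientGroup.mk (xq q * n) : G ⧸ N) = QuotientGroup.mk (xq q' * n') := by
          rw [h']
        rw [QuotientGroup.mk_mul, QuotientGroup.mk_mul, (QuotientGroup.eq_one_iff n).2 hn.2,
          (QuotientGroup.eq_one_iff n').2 hn'.2, mul_one, mul_one] at h1
        exact h1
      subst hq
      have : n = n' := mul_left_cancel h'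
      subst this
      rfl
    have hle := Nat.card_le_card_of_injective f hf
    haveI : Fintype {g : (G ⧸ N) // ∃ k : ℕ, orderOf g = p ^ k} := Fintype.ofFinite _
    rw [Nat.card_sigma] at hle
    have hsum : ∑ q : {g : (G ⧸ N) // ∃ k : ℕ, orderOf g = p ^ k},
        Nat.card ↥((Rq q : Subgroup G) ⊓ N) =
        Nat.card {g : (G ⧸ N) // ∃ k : ℕ, orderOf g = p ^ k} * p ^ c := by
      rw [Finset.sum_congr rfl
        (fun q _ => Cfsg.Agent.Lib.Helper3.card_sylow_inf_normal (Rq q) N),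
        Finset.sum_const, Finset.card_univ, smul_eq_mul, ← Nat.card_eq_fintype_card]
    rw [hsum] at hle
    exact hle
  refine ⟨?_, ?_⟩
  · rw [hcardP]
    calc Nat.card {g : (G ⧸ N) // ∃ k : ℕ, orderOf g = p ^ k} *
          (Nat.card (Pbar : Subgroup (G ⧸ N)) * p ^ c)
        = (Nat.card {g : (G ⧸ N) // ∃ k : ℕ, orderOf g = p ^ k} * p ^ c) *
          Nat.card (Pbar : Subgroup (G ⧸ N)) := by ring
      _ ≤ _ := Nat.mul_le_mul_right _ hineq
  · intro hcen
    have hineq2 : Nat.card {g : G // ∃ k : ℕ, orderOf g = p ^ k} ≤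
        Nat.card {g : (G ⧸ N) // ∃ k : ℕ, orderOf g = p ^ k} * p ^ c := by
      have hqmem : ∀ g : {g : G // ∃ k : ℕ, orderOf g = p ^ k},
          ∃ k : ℕ, orderOf (QuotientGroup.mk g.1 : G ⧸ N) = p ^ k := by
        intro g
        obtain ⟨k, hk⟩ := g.2
        have := orderOf_map_dvd (QuotientGroup.mk' N) g.1
        rw [hk] at this
        obtain ⟨j, -, hj⟩ := (Nat.dvd_prime_pow hp).1 this
        exact ⟨j, hj⟩
      have hnmem : ∀ g : {g : G // ∃ k : ℕ, orderOf g = p ^ k},
          (xq ⟨QuotientGroup.mk g.1, hqmem g⟩)⁻¹ * g.1 ∈ (P : Subgroup G) ⊓ N := by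
        intro g
        set x := xq ⟨QuotientGroup.mk g.1, hqmem g⟩ with hx
        have hxg : (QuotientGroup.mk x : G ⧸ N) = QuotientGroup.mk g.1 :=
          hxq1 ⟨QuotientGroup.mk g.1, hqmem g⟩
        have hN : x⁻¹ * g.1 ∈ N := QuotientGroup.eq.1 hxg
        refine ⟨?_, hN⟩
        have hcenn : x⁻¹ * g.1 ∈ Subgroup.center G := hcen hN
        apply central_pElement_mem_sylow P _ hcenn
        -- order is a p-power
        have hcomm : Commute x⁻¹ g.1 := by
          have h1 := Subgroup.mem_center_iff.1 hcenn x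
          -- x * (x⁻¹ * g) = (x⁻¹ * g) * x
          have h2 : g.1 * x = x * g.1 := by
            calc g.1 * x = x * ((x⁻¹ * g.1) * x) := by group
              _ = x * (x * (x⁻¹ * g.1)) := by rw [h1]
              _ = x * g.1 := by group
          have : Commute x g.1 := h2.symm
          exact this.inv_left
        obtain ⟨e, he⟩ := hxq2 ⟨QuotientGroup.mk g.1, hqmem g⟩
        obtain ⟨k, hk⟩ := g.2
        have hd := hcomm.orderOf_mul_dvd_lcm
        rw [orderOf_inv, he, hk] at hd
        have hd2 : Nat.lcm (p ^ e) (p ^ k) ∣ p ^ (max e k) :=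
          Nat.lcm_dvd (pow_dvd_pow _ (le_max_left _ _)) (pow_dvd_pow _ (le_max_right _ _))
        obtain ⟨j, -, hj⟩ := (Nat.dvd_prime_pow hp).1 (dvd_trans hd hd2)
        exact ⟨j, hj⟩
      let F : {g : G // ∃ k : ℕ, orderOf g = p ^ k} →
          {g : (G ⧸ N) // ∃ k : ℕ, orderOf g = p ^ k} × ↥((P : Subgroup G) ⊓ N) := fun g =>
        (⟨QuotientGroup.mk g.1, hqmem g⟩, ⟨_, hnmem g⟩)
      have hF : Function.Injective F := by
        intro g g' h
        have h1 : (⟨QuotientGroup.mk g.1, hqmem g⟩ :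
            {g : (G ⧸ N) // ∃ k : ℕ, orderOf g = p ^ k}) = ⟨QuotientGroup.mk g'.1, hqmem g'⟩ :=
          congrArg Prod.fst h
        have h2 : (xq ⟨QuotientGroup.mk g.1, hqmem g⟩)⁻¹ * g.1 =
            (xq ⟨QuotientGroup.mk g'.1, hqmem g'⟩)⁻¹ * g'.1 :=
          congrArg (fun z => (z.2 : G)) h
        rw [h1] at h2
        exact Subtype.ext (mul_left_cancel h2)
      have hle := Nat.card_le_card_of_injective F hF
      rw [Nat.card_prod, Cfsg.Agent.Lib.Helper3.card_sylow_inf_normal P N] at hle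
      exact hle
    have heq := le_antisymm hineq hineq2
    rw [hcardP, ← heq]; ring

end Cfsg.Agent.S4153
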