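import Cfsg.Statements.S4154
-- import your own Cfsg.Agent.* helpers here

set_option autoImplicit false
open Cfsg

namespace Cfsg.Agent.S4154

/-- The subgroup of elements `g` with `g⁻¹ α(g) ∈ N`. -/
def twistedFix {G : Type*} [Group G] (α : MulAut G) (N : Subgroup G) [N.Normal]
    (hN : ∀ n ∈ N, α n ∈ N) : Subgroup G where
  carrier := {g | g⁻¹ * α g ∈ N}
  one_mem' := by simp
  mul_mem' := by
    intro a b ha hb
    simp only [Set.mem_ofPred_eq] at ha hb ⊢
    have h1 : b⁻¹ * (a⁻¹ * α a) * b⁻¹⁻¹ ∈ N := Subgroup.Normal.conj_mem inferInstance _ ha _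
    have := N.mul_mem h1 hb
    have e : (a * b)⁻¹ * α (a * b) = b⁻¹ * (a⁻¹ * α a) * b⁻¹⁻¹ * (b⁻¹ * α b) := by
      rw [map_mul]; group
    rw [e]; exact this
  inv_mem' := by
    intro a ha
    simp only [Set.mem_ofPred_eq] at ha ⊢
    have h1 : a * (a⁻¹ * α a)⁻¹ * a⁻¹ ∈ N :=
      Subgroup.Normal.conj_mem inferInstance _ (N.inv_mem ha) _
    have e : a⁻¹⁻¹ * α a⁻¹ = a * (a⁻¹ * α a)⁻¹ * a⁻¹ := by
      rw [map_inv]; group
    rw [e]; exact h1

/-- The fixed-point subgroup of an automorphism. -/
def fixSub {G : Type*} [Group G] (α : MulAut G) : Subgroup G where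
  carrier := {g | α g = g}
  one_mem' := by simp
  mul_mem' := by
    intro a b ha hb
    simp only [Set.mem_ofPred_eq] at ha hb ⊢
    rw [map_mul, ha, hb]
  inv_mem' := by
    intro a ha
    simp only [Set.mem_ofPred_eq] at ha ⊢
    rw [map_inv, ha]

/-- Let G be a finite group and α an automorphism of G such that every element of G is the product of an element fixed by α and an element of the form g⁻¹α(g). If N is a normal α-invariant subgroup, then the automorphism ᾱ induced on G/N has the same property, and every coset fixed by ᾱ contains an element fixed by α (so the fixed points of ᾱ are the images of the fixed points of α). -/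
theorem result {G : Type*} [Group G] [Finite G] (α : MulAut G)
    (hccp : ∀ x : G, ∃ c g : G, α c = c ∧ x = c * (g⁻¹ * α g))
    (N : Subgroup G) [N.Normal] (hN : ∀ n ∈ N, α n ∈ N) :
    (∀ x : G, ∃ c g : G, c⁻¹ * α c ∈ N ∧ x⁻¹ * (c * (g⁻¹ * α g)) ∈ N) ∧
    (∀ x : G, x⁻¹ * α x ∈ N → ∃ c : G, α c = c ∧ c⁻¹ * x ∈ N) := by
  classical
  refine ⟨?_, ?_⟩
  · intro x
    obtain ⟨c, g, hc, hx⟩ := hccp x
    refine ⟨c, g, ?_, ?_⟩
    · rw [hc, inv_mul_cancel]; exact N.one_mem
    · rw [← hx, inv_mul_cancel]; exact N.one_mem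
  · set S := twistedFix α N hN with hS
    set C := fixSub α with hC
    let π := QuotientGroup.mk' N
    have hπs : Function.Surjective π := QuotientGroup.mk'_surjective N
    have hker : π.ker = N := QuotientGroup.ker_mk' N
    have hNS : N ≤ S := by
      intro n hn
      exact N.mul_mem (N.inv_mem hn) (hN n hn)
    have hCS : C ≤ S := by
      intro c hc
      change c⁻¹ * α c ∈ N
      have : α c = c := hc
      rw [this, inv_mul_cancel]; exact N.one_mem
    -- the map G ⧸ S → G ⧸ N
    let ψ : G ⧸ S → G ⧸ N := Quotient.lift (fun g : G => π (g * (α g)⁻¹)) (by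
      intro a b hab
      have hab' : a⁻¹ * b ∈ S := QuotientGroup.leftRel_apply.1 hab
      change π (a * (α a)⁻¹) = π (b * (α b)⁻¹)
      have h1 : (a⁻¹ * b)⁻¹ * α (a⁻¹ * b) ∈ N := hab'
      have h2 : π (a⁻¹ * b) = π (α (a⁻¹ * b)) := by
        rw [QuotientGroup.mk'_apply, QuotientGroup.mk'_apply, QuotientGroup.eq]; exact h1
      simp only [map_mul, map_inv] at h2 ⊢
      -- π a⁻¹ * π b = π (α a)⁻¹ * π (α b)
      have h3 : π b * (π (α b))⁻¹ = π a * (π (α a))⁻¹ := by
        have : π b = π a * ((π (α a))⁻¹ * π (α b)) := by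
          rw [← h2]; group
        rw [this]; group
      exact h3.symm)
    have hψ : ∀ g : G, ψ (QuotientGroup.mk g) = π (g * (α g)⁻¹) := fun g => rfl
    -- surjection from C.map π × G ⧸ S onto G ⧸ N
    let F : (C.map π) × (G ⧸ S) → G ⧸ N := fun z => (z.1 : G ⧸ N) * ψ z.2
    have hF : Function.Surjective F := by
      intro q
      obtain ⟨x, rfl⟩ := hπs q
      obtain ⟨c, g, hc, hx⟩ := hccp x
      refine ⟨(⟨π c, Subgroup.mem_map_of_mem π hc⟩, QuotientGroup.mk g⁻¹), ?_⟩
      change π c * ψ (QuotientGroup.mk g⁻¹) = π x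
      rw [hψ, hx, map_inv, inv_inv, map_mul, map_mul, map_mul]
    have hcard1 : Nat.card (G ⧸ N) ≤ Nat.card (C.map π) * S.index := by
      have := Nat.card_le_card_of_surjective F hF
      rwa [Nat.card_prod] at this
    have hidx : (S.map π).index = S.index := Subgroup.index_map_eq S hπs (hker.symm ▸ hNS)
    have hcard2 : Nat.card (S.map π) * S.index = Nat.card (G ⧸ N) := by
      rw [← hidx]; exact Subgroup.card_mul_index _
    have hle : Nat.card (S.map π) ≤ Nat.card (C.map π) := by
      have hpos : 0 < S.index := Nat.pos_of_ne_zero Subgroup.index_ne_zero_of_finite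
      rw [← hcard2] at hcard1
      exact Nat.le_of_mul_le_mul_right hcard1 hpos
    have heq : C.map π = S.map π :=
      Subgroup.eq_of_le_of_card_ge (Subgroup.map_mono hCS) hle
    intro x hx
    have hxS : x ∈ S := hx
    have : π x ∈ C.map π := by rw [heq]; exact Subgroup.mem_map_of_mem π hxS
    obtain ⟨c, hc, hcx⟩ := this
    refine ⟨c, hc, ?_⟩
    rw [← QuotientGroup.eq]
    exact hcx

end Cfsg.Agent.S4154
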