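import Cfsg.Statements.S4155
import Cfsg.Agent.Lib.Helper7.EqOrd2
import Cfsg.Agent.S4107

set_option autoImplicit false
open Cfsg

namespace Cfsg.Agent.S4155

open Cfsg.Agent.Lib.Helper7

/-- Let G be a finite group and N a proper non-trivial normal nilpotent subgroup whose order is not a prime power, such that for every x outside N all elements of the coset xN have the same order as x. Then N is the Fitting subgroup of G, and for every prime q every Sylow q-subgroup of G/N is cyclic or generalized quaternion. -/
theorem result {G : Type*} [Group G] [Finite G] (N : Subgroup G) [N.Normal] (hN1 : N ≠ ⊥) (hN2 : N ≠ ⊤)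
    (heq : ∀ x : G, x ∉ N → ∀ n ∈ N, orderOf (x * n) = orderOf x)
    (hnil : Group.IsNilpotent N) (hnpp : ¬ IsPrimePow (Nat.card N)) :
    N = Cfsg.fittingSubgroup G ∧
    ∀ (q : ℕ) [Fact q.Prime] (Q : Sylow q (G ⧸ N)), IsCyclic (Q : Subgroup (G ⧸ N)) ∨ ∃ n : ℕ, Nonempty ((Q : Subgroup (G ⧸ N)) ≃* QuaternionGroup (2 ^ n)) := by

  have h07 := Cfsg.Agent.S4107.result N hN1 hN2 heq
  have hNF : N = Cfsg.fittingSubgroup G := by
    apply le_antisymm
    · exact Cfsg.Agent.Lib.Helper1.le_fittingSubgroup inferInstance hnil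
    · by_contra hnot
      have hle : N ≤ Cfsg.fittingSubgroup G :=
        Cfsg.Agent.Lib.Helper1.le_fittingSubgroup inferInstance hnil
      have hlt : N < Cfsg.fittingSubgroup G := lt_of_le_not_ge hle hnot
      have hpp := h07.2 hlt
      apply hnpp
      -- N has prime power order as a nontrivial subgroup of a group of prime power order
      obtain ⟨p, k, hp, hk, hpk⟩ := hpp
      have hdvd : Nat.card N ∣ p ^ k := by
        rw [hpk]
        exact Subgroup.card_dvd_of_le hle
      obtain ⟨j, hjk, hj⟩ := (Nat.dvd_prime_pow hp.nat_prime).mp hdvd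
      rw [hj]
      have hj0 : j ≠ 0 := by
        rintro rfl
        rw [pow_zero] at hj
        exact hN1 (Subgroup.card_eq_one.mp hj)
      exact (Nat.Prime.isPrimePow hp.nat_prime).pow hj0
  refine ⟨hNF, ?_⟩
  intro q _ Q
  exact EqOrd.main N hN1 heq hNF hnpp q Q


end Cfsg.Agent.S4155
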