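import Cfsg.Statements.S4156
-- import your own Cfsg.Agent.* helpers here

set_option autoImplicit false
open Cfsg

namespace Cfsg.Agent.S4156

section construction

variable (n : ℕ) (F : Type*) [Field F]

/-- Extend a vector of length `n` to a sum-zero vector of length `n+1`. -/
def extZ : (Fin n → F) →ₗ[F] (Fin (n + 1) → F) where
  toFun v := Fin.snoc (α := fun _ => F) v (-∑ i, v i)
  map_add' := by
    intro v w
    ext j
    refine Fin.lastCases ?_ (fun i => ?_) j
    · simp [Finset.sum_add_distrib]; ring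
    · simp
  map_smul' := by
    intro c v
    ext j
    refine Fin.lastCases ?_ (fun i => ?_) j
    · simp [Finset.mul_sum]
    · simp

theorem extZ_castSucc (v : Fin n → F) (i : Fin n) : extZ n F v (Fin.castSucc i) = v i := by
  simp [extZ]

theorem extZ_last (v : Fin n → F) : extZ n F v (Fin.last n) = -∑ i, v i := by
  simp [extZ]

theorem sum_extZ (v : Fin n → F) : ∑ j, extZ n F v j = 0 := by
  rw [Fin.sum_univ_castSucc]
  simp [extZ_castSucc, extZ_last]

theorem extZ_restrict (w : Fin (n + 1) → F) (hw : ∑ j, w j = 0) :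
    extZ n F (fun i => w (Fin.castSucc i)) = w := by
  ext j
  refine Fin.lastCases ?_ (fun i => ?_) j
  · rw [extZ_last]
    rw [Fin.sum_univ_castSucc] at hw
    linear_combination (-1 : F) * hw
  · rw [extZ_castSucc]

/-- The action of a permutation of `Fin (n+1)` on `Fin n → F` (deleted permutation module). -/
def Lmap (σ : Equiv.Perm (Fin (n + 1))) : Module.End F (Fin n → F) :=
  (LinearMap.funLeft F F Fin.castSucc) ∘ₗ (LinearMap.funLeft F F σ.symm) ∘ₗ extZ n F

theorem Lmap_apply (σ : Equiv.Perm (Fin (n + 1))) (v : Fin n → F) (i : Fin n) :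
    Lmap n F σ v i = extZ n F v (σ.symm (Fin.castSucc i)) := rfl

theorem Lmap_one : Lmap n F 1 = 1 := by
  apply LinearMap.ext
  intro v
  funext i
  rw [Lmap_apply]
  have : (Equiv.symm (1 : Equiv.Perm (Fin (n + 1)))) (Fin.castSucc i) = Fin.castSucc i := rfl
  rw [this, extZ_castSucc]
  rfl

theorem Lmap_mul (σ τ : Equiv.Perm (Fin (n + 1))) : Lmap n F (σ * τ) = Lmap n F σ * Lmap n F τ := by
  apply LinearMap.ext
  intro v
  funext i
  rw [Module.End.mul_apply, Lmap_apply, Lmap_apply]
  have hw : ∑ j, (fun j => extZ n F v (τ.symm j)) j = 0 := by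
    rw [Equiv.sum_comp τ.symm (fun j => extZ n F v j)]
    exact sum_extZ n F v
  have := extZ_restrict n F (fun j => extZ n F v (τ.symm j)) hw
  have h2 : Lmap n F τ v = fun i => (fun j => extZ n F v (τ.symm j)) (Fin.castSucc i) := by
    funext i'
    rw [Lmap_apply]
  rw [h2, this]
  rfl

/-- The monoid hom into endomorphisms. -/
def LHom : Equiv.Perm (Fin (n + 1)) →* Module.End F (Fin n → F) where
  toFun := Lmap n F
  map_one' := Lmap_one n F
  map_mul' := Lmap_mul n F

/-- The matrix representation. -/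
noncomputable def matHom : Equiv.Perm (Fin (n + 1)) →* Matrix (Fin n) (Fin n) F :=
  ((LinearMap.toMatrixAlgEquiv' (R := F) (n := Fin n) : _ ≃ₐ[F] _) : _ →* _).comp (LHom n F)

end construction

/-- Let n ≥ 5 and F a finite field. Then the projective special linear group PSL_n(F) contains a subgroup isomorphic to the alternating group of degree n + 1. -/
theorem result (n : ℕ) (hn : 5 ≤ n) (F : Type*) [Field F] [Finite F] :
    ∃ f : alternatingGroup (Fin (n + 1)) →* Matrix.ProjectiveSpecialLinearGroup (Fin n) F, Function.Injective f := by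
  classical
  have h5 : 5 ≤ Nat.card (Fin (n + 1)) := by simp; omega
  let φ₁ : alternatingGroup (Fin (n + 1)) →* Matrix (Fin n) (Fin n) F :=
    (matHom n F).comp (alternatingGroup (Fin (n + 1))).subtype
  -- det = 1
  have hdet : ∀ a : alternatingGroup (Fin (n + 1)), (φ₁ a).det = 1 := by
    intro a
    let d : alternatingGroup (Fin (n + 1)) →* F := Matrix.detMonoidHom.comp φ₁
    let d' : alternatingGroup (Fin (n + 1)) →* Fˣ := d.toHomUnits
    have hle : commutator (alternatingGroup (Fin (n + 1))) ≤ d'.ker :=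
      Abelianization.commutator_subset_ker d'
    rw [commutator_alternatingGroup_eq_top h5] at hle
    have ha : a ∈ d'.ker := hle trivial
    have := congrArg Units.val (MonoidHom.mem_ker.1 ha)
    simpa [d', d] using this
  let φ₂ : alternatingGroup (Fin (n + 1)) →* Matrix.SpecialLinearGroup (Fin n) F :=
    { toFun := fun a => ⟨φ₁ a, hdet a⟩
      map_one' := Subtype.ext (map_one φ₁)
      map_mul' := fun a b => Subtype.ext (map_mul φ₁ a b) }
  let f : alternatingGroup (Fin (n + 1)) →* Matrix.ProjectiveSpecialLinearGroup (Fin n) F :=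
    (QuotientGroup.mk' _).comp φ₂
  refine ⟨f, ?_⟩
  haveI : IsSimpleGroup (alternatingGroup (Fin (n + 1))) := alternatingGroup.isSimpleGroup h5
  rw [← MonoidHom.ker_eq_bot_iff]
  rcases (f.normal_ker).eq_bot_or_eq_top with h | h
  · exact h
  · exfalso
    let i0 : Fin n := ⟨0, by omega⟩
    let i1 : Fin n := ⟨1, by omega⟩
    let i2 : Fin n := ⟨2, by omega⟩
    have h01 : i0 ≠ i1 := by simp [i0, i1, Fin.ext_iff]
    have h02 : i0 ≠ i2 := by simp [i0, i2, Fin.ext_iff]
    have h12 : i1 ≠ i2 := by simp [i1, i2, Fin.ext_iff]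
    have hab : Fin.castSucc i0 ≠ Fin.castSucc i1 := fun h => h01 (Fin.castSucc_injective _ h)
    have had : Fin.castSucc i0 ≠ Fin.castSucc i2 := fun h => h02 (Fin.castSucc_injective _ h)
    have hbd : Fin.castSucc i1 ≠ Fin.castSucc i2 := fun h => h12 (Fin.castSucc_injective _ h)
    set c : Equiv.Perm (Fin (n + 1)) :=
      Equiv.swap (Fin.castSucc i0) (Fin.castSucc i1) * Equiv.swap (Fin.castSucc i0) (Fin.castSucc i2)
      with hc
    have hc3 : c.IsThreeCycle := Equiv.Perm.isThreeCycle_swap_mul_swap_same hab had hbd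
    have hcA : c ∈ alternatingGroup (Fin (n + 1)) := hc3.mem_alternatingGroup
    have hcb : c.symm (Fin.castSucc i0) = Fin.castSucc i1 := by
      rw [Equiv.symm_apply_eq, hc, Equiv.Perm.mul_apply,
        Equiv.swap_apply_of_ne_of_ne hab.symm hbd, Equiv.swap_apply_right]
    have hker : (⟨c, hcA⟩ : alternatingGroup (Fin (n + 1))) ∈ f.ker := by rw [h]; trivial
    have h1 : φ₂ ⟨c, hcA⟩ ∈ Subgroup.center (Matrix.SpecialLinearGroup (Fin n) F) := by
      have := MonoidHom.mem_ker.1 hker
      exact (QuotientGroup.eq_one_iff _).1 this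
    obtain ⟨r, hr1, hr2⟩ := Matrix.SpecialLinearGroup.mem_center_iff.1 h1
    have h2 : Matrix.scalar (Fin n) r = LinearMap.toMatrixAlgEquiv' (Lmap n F c) := hr2
    have h3 : Lmap n F c = Matrix.toLinAlgEquiv' (Matrix.scalar (Fin n) r) := by
      rw [h2, Matrix.toLinAlgEquiv'_toMatrixAlgEquiv']
    have h4 := congrFun (congrArg (fun L => L (Pi.single i0 (1 : F))) h3) i0
    simp only [Lmap_apply, hcb, extZ_castSucc, Matrix.toLinAlgEquiv'_apply] at h4
    rw [Pi.single_eq_of_ne h01.symm] at h4
    have h5' : (Matrix.scalar (Fin n) r).mulVec (Pi.single i0 (1 : F)) i0 = r := by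
      simp [Matrix.scalar_apply, Matrix.mulVec_diagonal]
    rw [h5'] at h4
    rw [← h4, Fintype.card_fin, zero_pow (by omega)] at hr1
    exact zero_ne_one hr1

end Cfsg.Agent.S4156
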