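import Cfsg.Statements.S4157
import Cfsg.Agent.Lib.Helper7.K2F

set_option autoImplicit false
open Cfsg

namespace Cfsg.Agent.S4157

/-- Let G be a finite p-group of order p^m that is not cyclic and, when p = 2, not of maximal class (nilpotency class m − 1). Then for every 1 ≤ k < m the number of subgroups of G of order p^k is congruent to 1 + p modulo p². -/
theorem result {G : Type*} [Group G] [Finite G] {p : ℕ} [Fact p.Prime] (m : ℕ)
    (hG : Nat.card G = p ^ m) (hnc : ¬ IsCyclic G) (h2 : p = 2 → Group.nilpotencyClass G ≠ m - 1)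
    (k : ℕ) (hk1 : 1 ≤ k) (hk2 : k < m) :
    Nat.card {H : Subgroup G // Nat.card H = p ^ k} ≡ 1 + p [MOD p ^ 2] := by
  classical
  by_cases hp2 : p = 2
  · subst hp2
    have hP : IsPGroup 2 G := IsPGroup.of_card hG
    have : Group.IsNilpotent G := hP.isNilpotent
    have hm3 : 3 ≤ m := by
      by_contra hlt
      have hm2 : m = 2 := by omega
      subst hm2
      have hcomm : IsMulCommutative G := IsPGroup.isMulCommutative_of_card_eq_prime_sq hG
      have hc1 : Group.nilpotencyClass G ≤ 1 :=
        Cfsg.Agent.Lib.Helper1.nilpotencyClass_le_one_of_comm (fun a b => mul_comm' a b)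
      have hc0 : Group.nilpotencyClass G ≠ 0 := by
        intro h0
        rw [Group.nilpotencyClass_zero_iff_subsingleton] at h0
        have := Nat.card_unique (α := G)
        rw [hG] at this
        norm_num at this
      have hh := h2 rfl
      omega
    have hnb : (commutator G).index ≠ 4 := by
      intro hidx
      exact h2 rfl (Cfsg.Agent.Lib.Helper1.max_class_of_index_commutator_aux m hm3 G hG hidx)
    have key := (Cfsg.Agent.Lib.Helper7.K2.count_two m G hG k hk1 hk2).1 ⟨hnc, Or.inr hnb⟩
    unfold Nat.ModEq
    norm_num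
    exact key
  · exact Cfsg.Agent.Lib.Lead.Kul.kulakoff hp2 m G hG hnc k hk1 hk2

end Cfsg.Agent.S4157
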