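import Cfsg.Statements.S4160
import Cfsg.Agent.Lib.Helper2.ConjCover

set_option autoImplicit false
open Cfsg
open Cfsg.Agent.Lib.Helper2.ConjCover

namespace Cfsg.Agent.S4160

/-- Let G be a finite group and p ≠ q primes each dividing the size of some conjugacy class of G, such that no conjugacy class size is divisible by pq. Then G has a normal p-complement or a normal q-complement. -/
theorem result {G : Type*} [Group G] [Finite G] (p q : ℕ) (hp : p.Prime) (hq : q.Prime) (hpq : p ≠ q)
    (hp' : ∃ x : G, p ∣ (Subgroup.centralizer ({x} : Set G)).index) (hq' : ∃ x : G, q ∣ (Subgroup.centralizer ({x} : Set G)).index) (h : ∀ x : G, ¬ p * q ∣ (Subgroup.centralizer ({x} : Set G)).index) :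
    Cfsg.HasNormalPComplement p G ∨ Cfsg.HasNormalPComplement q G := by
  haveI : Fact p.Prime := ⟨hp⟩
  haveI : Fact q.Prime := ⟨hq⟩
  obtain ⟨P⟩ : Nonempty (Sylow p G) := inferInstance
  obtain ⟨Q⟩ : Nonempty (Sylow q G) := inferInstance
  have hcov : ∀ x : G, x ≠ 1 →
      x ∈ conjSet (Subgroup.centralizer ((P : Subgroup G) : Set G)) ∨
      x ∈ conjSet (Subgroup.centralizer ((Q : Subgroup G) : Set G)) := by
    intro x hx1
    have hx := h x
    have hor : ¬ p ∣ (Subgroup.centralizer ({x} : Set G)).index ∨
        ¬ q ∣ (Subgroup.centralizer ({x} : Set G)).index := by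
      by_contra hcon
      push Not at hcon
      exact hx (Nat.Coprime.mul_dvd_of_dvd_of_dvd ((Nat.coprime_primes hp hq).2 hpq) hcon.1 hcon.2)
    rcases hor with h1 | h1
    · left; exact mem_conjSet_centralizer_of_not_dvd P x hx1 h1
    · right; exact mem_conjSet_centralizer_of_not_dvd Q x hx1 h1
  rcases self_normalizing_of_cover _ _ hcov with hk | hk
  · left; exact npc_of_self_normalizing P hk
  · right; exact npc_of_self_normalizing Q hk

end Cfsg.Agent.S4160
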