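import Cfsg.Statements.S4169
import Cfsg.Agent.Lib.Helper7.IS1
import Cfsg.Agent.Lib.Helper1.Puig3

set_option autoImplicit false
open Cfsg

namespace Cfsg.Agent.S4169

open Cfsg.Agent.Lib.Helper7

/-- Let P be a finite p-group whose conjugacy classes have exactly two sizes (1 and one other value). Then P has nilpotency class at most 3. -/
theorem result {P : Type*} [Group P] [Finite P] {p : ℕ} [Fact p.Prime] (hP : IsPGroup p P)
    (m : ℕ) (hm : 1 < m) (h : ∀ x : P, (Subgroup.centralizer ({x} : Set P)).index = 1 ∨ (Subgroup.centralizer ({x} : Set P)).index = m) :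
    upperCentralSeries P 3 = ⊤ := by
  classical
  obtain ⟨A₀, _, hcomm, hnorm, hcent⟩ :=
    Cfsg.Agent.Lib.Helper1.Puig.exists_self_centralizing (⊤ : Subgroup P) (hP.to_subgroup ⊤)
  haveI : A₀.Normal := by
    rw [← Subgroup.normalizer_eq_top_iff]
    exact top_le_iff.mp hnorm
  have hCA : Subgroup.centralizer (A₀ : Set P) ≤ A₀ := by
    intro c hc
    exact hcent ⟨Subgroup.mem_top c, hc⟩
  exact IS.ishikawa A₀ hcomm hCA m h

end Cfsg.Agent.S4169
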