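import Cfsg.Statements.S4170
import Cfsg.Agent.Lib.Helper2.PgenA

set_option autoImplicit false
open scoped Pointwise
open Cfsg

namespace Cfsg.Agent.S4170

/-- Let p be an odd prime and G a nontrivial group of permutations of a finite set Ω that is generated by its elements of p-power order. Then Ω has two disjoint nonempty subsets Δ₁ and Δ₂ such that the index in G of the subgroup of elements mapping Δ₁ onto Δ₁ and Δ₂ onto Δ₂ (and hence also the complement of their union onto itself) is divisible by p. -/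
theorem result {Ω : Type*} [Fintype Ω] (p : ℕ) [Fact p.Prime] (hp : p ≠ 2) (G : Subgroup (Equiv.Perm Ω)) (hG : G ≠ ⊥) (hgen : Subgroup.closure {g : G | ∃ k : ℕ, orderOf g = p ^ k} = ⊤) :
    ∃ Δ₁ Δ₂ : Set Ω, Δ₁.Nonempty ∧ Δ₂.Nonempty ∧ Disjoint Δ₁ Δ₂ ∧ p ∣ (MulAction.stabilizer G Δ₁ ⊓ MulAction.stabilizer G Δ₂).index := by
  classical
  haveI : Finite (Equiv.Perm Ω) := inferInstance
  haveI : Finite G := inferInstance
  have hex : ∃ g : G, g ≠ 1 ∧ ∃ k : ℕ, orderOf g = p ^ k := by
    by_contra hcon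
    push Not at hcon
    apply hG
    have h1 : Subgroup.closure {g : G | ∃ k : ℕ, orderOf g = p ^ k} ≤ ⊥ := by
      rw [Subgroup.closure_le]
      intro g hg
      obtain ⟨k, hk⟩ := hg
      by_contra hne
      have hg1 : g ≠ 1 := fun h => hne (by rw [h]; exact Subgroup.mem_bot.mpr rfl)
      exact hcon g hg1 k hk
    rw [hgen] at h1
    rw [Subgroup.eq_bot_iff_forall]
    intro x hx
    have h2 : (⟨x, hx⟩ : G) ∈ (⊤ : Subgroup G) := Subgroup.mem_top _
    have h3 := Subgroup.mem_bot.mp (h1 h2)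
    exact congrArg Subtype.val h3
  obtain ⟨g, hg1, k, hk⟩ := hex
  have hk0 : k ≠ 0 := by
    rintro rfl
    rw [pow_zero, orderOf_eq_one_iff] at hk
    exact hg1 hk
  have hdvd : p ∣ Nat.card G := by
    have h1 : p ∣ orderOf g := by
      rw [hk]
      exact dvd_pow_self p hk0
    exact h1.trans (orderOf_dvd_natCard g)
  exact Cfsg.Agent.Lib.Helper2.Pgen.main (H := G) (Ω := Ω) p hdvd

end Cfsg.Agent.S4170
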