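import Cfsg.Statements.S4172
import Cfsg.Agent.Lib.Helper1.Fsg4

set_option autoImplicit false
open Cfsg

namespace Cfsg.Agent.S4172

/-- Let p be a prime and G a finite group with a non-commutative Sylow p-subgroup P whose Frattini subgroup has index p² in P (P is generated by two elements). Suppose G has no nontrivial normal subgroup of order prime to p and the Frattini subgroup of P contains no nontrivial normal subgroup of G. Then the generalized Fitting subgroup F*(G) is the unique minimal normal subgroup of G, the image of P in G/F*(G) is cyclic, and if F*(G) is not commutative then P permutes the components of G transitively by conjugation. -/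
theorem result {G : Type*} [Group G] [Finite G] (p : ℕ) [Fact p.Prime] (P : Sylow p G) (hna : ¬ IsMulCommutative (P : Subgroup G)) (hgen : (frattini ↥(P : Subgroup G)).index = p ^ 2) (hcore : Cfsg.pPrimeCore p G = ⊥) (hfrat : ((frattini ↥(P : Subgroup G)).map (P : Subgroup G).subtype).normalCore = ⊥) [hFn : (Cfsg.generalizedFittingSubgroup G).Normal] :
    (Cfsg.generalizedFittingSubgroup G ≠ ⊥ ∧ ∀ K : Subgroup G, K.Normal → K ≠ ⊥ → Cfsg.generalizedFittingSubgroup G ≤ K) ∧
      IsCyclic ↥((P : Subgroup G).map (QuotientGroup.mk' (Cfsg.generalizedFittingSubgroup G))) ∧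
      (¬ IsMulCommutative (Cfsg.generalizedFittingSubgroup G) → ∀ K L : Subgroup G, Cfsg.IsComponent K → Cfsg.IsComponent L → ∃ x ∈ (P : Subgroup G), L = K.map (MulAut.conj x).toMonoidHom) := by
  classical
  have h : Cfsg.Agent.Lib.Helper1.Fsg.Hyp p P := ⟨hna, hgen, hcore, hfrat⟩
  have hpp := (Fact.out : p.Prime)
  obtain ⟨N₀, hN₀, hne, hmin⟩ := h.exists_min_normal
  haveI := hN₀
  have hcl := Cfsg.Agent.Lib.Helper1.Fsg.claim1 P hcore hfrat N₀ hne
  obtain ⟨z, hzP, hPz⟩ := Cfsg.Agent.Lib.Helper1.Fsg.two_gen_sub p hpp (P : Subgroup G) hgen N₀ hcl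
  have hPz' : (P : Subgroup G) ≤ N₀ ⊔ Subgroup.zpowers z :=
    hPz.trans (sup_le_sup_right inf_le_left _)
  by_cases hab : IsMulCommutative N₀
  · obtain ⟨hE, hF⟩ := h.caseA N₀ hne hmin hab
    have hFs : Cfsg.generalizedFittingSubgroup G = N₀ := by
      unfold Cfsg.generalizedFittingSubgroup
      rw [hE, hF, bot_sup_eq]
    refine ⟨⟨hFs ▸ hne, fun K hK hKne => hFs ▸ hmin K hK hKne⟩, ?_, ?_⟩
    · exact Cfsg.Agent.Lib.Helper1.Fsg.isCyclic_map_mk_of_le_sup (P : Subgroup G)
        (Cfsg.generalizedFittingSubgroup G) z (hFs ▸ hPz')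
    · intro hnc
      exact absurd (hFs ▸ hab) hnc
  · obtain ⟨hF, hE, hC⟩ := h.caseB N₀ hne hmin hab
    have hFs : Cfsg.generalizedFittingSubgroup G = N₀ := by
      unfold Cfsg.generalizedFittingSubgroup
      rw [hE, hF, sup_bot_eq]
    refine ⟨⟨hFs ▸ hne, fun K hK hKne => hFs ▸ hmin K hK hKne⟩, ?_, ?_⟩
    · exact Cfsg.Agent.Lib.Helper1.Fsg.isCyclic_map_mk_of_le_sup (P : Subgroup G)
        (Cfsg.generalizedFittingSubgroup G) z (hFs ▸ hPz')
    · intro _ K L hK hL
      exact h.transitive N₀ hE hC K L hK hL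

end Cfsg.Agent.S4172
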