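import Cfsg.Statements.S4177
import Cfsg.Agent.Lib.Helper3.CoprimeOrbits

set_option autoImplicit false
open Cfsg

namespace Cfsg.Agent.S4177

theorem orbitSum_invariant {k V H : Type*} [Field k] [AddCommGroup V] [Module k V] [Group H]
    (ρ : Representation k H V) (a : V) (O : Finset V) (hO : ∀ u, u ∈ O ↔ ∃ h : H, ρ h a = u)
    (g : H) : ρ g (∑ u ∈ O, u) = ∑ u ∈ O, u := by
  classical
  rw [map_sum]
  refine Finset.sum_nbij' (fun u => ρ g u) (fun u => ρ g⁻¹ u) ?_ ?_ ?_ ?_ ?_
  · intro u hu
    obtain ⟨h, rfl⟩ := (hO u).1 hu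
    exact (hO _).2 ⟨g * h, by rw [map_mul]; rfl⟩
  · intro u hu
    obtain ⟨h, rfl⟩ := (hO u).1 hu
    exact (hO _).2 ⟨g⁻¹ * h, by rw [map_mul]; rfl⟩
  · intro u _
    change (ρ g⁻¹ * ρ g) u = u
    rw [← map_mul, inv_mul_cancel, map_one]; rfl
  · intro u _
    change (ρ g * ρ g⁻¹) u = u
    rw [← map_mul, mul_inv_cancel, map_one]; rfl
  · intro u _; rfl

open Cfsg.Agent.Lib.Helper3 in
/-- Key lemma: if a subgroup `K` of `H` is transitive on the `H`-orbit `O` of `a`, the orbit spans `V`,
and the relevant cardinalities are invertible in `k`, then every `K`-invariant vector is a multiple of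
the orbit sum. -/
theorem mem_span_orbitSum {k V H : Type*} [Field k] [AddCommGroup V] [Module k V] [Group H] [Finite H]
    (ρ : Representation k H V) (a : V) (O : Finset V) (hO : ∀ u, u ∈ O ↔ ∃ h : H, ρ h a = u)
    (hspan : Submodule.span k (O : Set V) = ⊤)
    (K : Subgroup H) (htrans : ∀ u ∈ O, ∃ h ∈ K, ρ h a = u)
    (hKne : (Nat.card K : k) ≠ 0) (hOne : (O.card : k) ≠ 0)
    (v : V) (hv : ∀ h ∈ K, ρ h v = v) :
    v ∈ Submodule.span k {∑ u ∈ O, u} := by
  classical
  haveI : Fintype K := Fintype.ofFinite K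
  set σ := ∑ u ∈ O, u with hσ
  -- σ is H-invariant
  have hσinv : ∀ g : H, ρ g σ = σ := fun g => orbitSum_invariant ρ a O hO g
  -- the averaging operator
  let E : V →ₗ[k] V := ∑ h : K, ρ (h : H)
  have hE : ∀ w, E w = ∑ h : K, ρ (h : H) w := by
    intro w; simp [E, LinearMap.sum_apply]
  have hEinv : ∀ w, (∀ h ∈ K, ρ h w = w) → E w = (Nat.card K : k) • w := by
    intro w hw
    rw [hE, Finset.sum_congr rfl (fun h _ => hw h.1 h.2), Finset.sum_const, Finset.card_univ,
      Nat.card_eq_fintype_card, Nat.cast_smul_eq_nsmul]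
  have hEshift : ∀ (g : K) w, E (ρ (g : H) w) = E w := by
    intro g w
    rw [hE, hE]
    refine Fintype.sum_equiv (Equiv.mulRight g) _ _ ?_
    intro h
    simp only [Equiv.coe_mulRight, Subgroup.coe_mul, map_mul]
    rfl
  set τ := E a with hτ
  have hEO : ∀ u ∈ O, E u = τ := by
    intro u hu
    obtain ⟨h, hh, rfl⟩ := htrans u hu
    exact hEshift ⟨h, hh⟩ a
  have hrel : (O.card : k) • τ = (Nat.card K : k) • σ := by
    rw [← hEinv σ (fun h _ => hσinv h), hσ, map_sum, Finset.sum_congr rfl hEO, Finset.sum_const,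
      Nat.cast_smul_eq_nsmul]
  have hτmem : τ ∈ Submodule.span k {σ} := by
    have : τ = ((O.card : k)⁻¹ * (Nat.card K : k)) • σ := by
      rw [mul_smul, ← hrel, smul_smul, inv_mul_cancel₀ hOne, one_smul]
    rw [this]
    exact Submodule.smul_mem _ _ (Submodule.mem_span_singleton_self σ)
  have hEmem : ∀ w, E w ∈ Submodule.span k {σ} := by
    intro w
    have hw : w ∈ Submodule.span k (O : Set V) := by rw [hspan]; trivial
    have : Submodule.span k (O : Set V) ≤ (Submodule.span k {σ}).comap E := by
      rw [Submodule.span_le]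
      intro u hu
      simp only [Submodule.comap_coe, Set.mem_preimage, SetLike.mem_coe]
      rw [hEO u hu]; exact hτmem
    exact this hw
  have : v = (Nat.card K : k)⁻¹ • E v := by
    rw [hEinv v hv, smul_smul, inv_mul_cancel₀ hKne, one_smul]
  rw [this]
  exact Submodule.smul_mem _ _ (hEmem v)

/-- Let k be a field whose characteristic does not divide the order of the finite group H (for instance a field of characteristic zero), and ρ a k-linear representation of H on V. Let a be a vector whose H-orbit spans V. Then the space of H-fixed vectors has dimension at most 1, and every vector b whose H-orbit has size coprime to the size of the orbit of a is fixed by H. -/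
theorem result {k V H : Type*} [Field k] [AddCommGroup V] [Module k V] [Group H] [Finite H]
    (hchar : ¬ ringChar k ∣ Nat.card H) (ρ : Representation k H V) (a : V)
    (hspan : Submodule.span k {u : V | ∃ h : H, ρ h a = u} = ⊤) :
    Module.finrank k ρ.invariants ≤ 1 ∧
    ∀ b : V, (Nat.card {u : V | ∃ h : H, ρ h a = u}).Coprime (Nat.card {u : V | ∃ h : H, ρ h b = u}) → ∀ h : H, ρ h b = b := by
  classical
  letI : MulAction H V := MulAction.compHom V ρ
  have hfin : (MulAction.orbit H a).Finite := Finite.finite_mulAction_orbit a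
  have horb : ∀ c : V, {u : V | ∃ h : H, ρ h c = u} = MulAction.orbit H c := by
    intro c; ext u; rfl
  set O : Finset V := hfin.toFinset with hOdef
  have hO : ∀ u, u ∈ O ↔ ∃ h : H, ρ h a = u := by
    intro u
    rw [hOdef, Set.Finite.mem_toFinset]
    rfl
  have hspan' : Submodule.span k (O : Set V) = ⊤ := by
    rw [hOdef, Set.Finite.coe_toFinset, ← horb]; exact hspan
  have hdiv : ∀ n : ℕ, n ∣ Nat.card H → (n : k) ≠ 0 := by
    intro n hn h0
    have := (ringChar.spec k n).1 h0
    exact hchar (dvd_trans this hn)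
  have hOcard : O.card = (MulAction.stabilizer H a).index := by
    rw [MulAction.index_stabilizer, Set.ncard_eq_toFinset_card _ hfin]
  have hOne : (O.card : k) ≠ 0 := hdiv _ (hOcard ▸ Subgroup.index_dvd_card _)
  refine ⟨?_, ?_⟩
  · have hle : ρ.invariants ≤ Submodule.span k {∑ u ∈ O, u} := by
      intro v hv
      refine mem_span_orbitSum ρ a O hO hspan' ⊤ ?_ ?_ hOne v (fun h _ => hv h)
      · intro u hu
        obtain ⟨h, hh⟩ := (hO u).1 hu
        exact ⟨h, trivial, hh⟩
      · exact hdiv _ (Subgroup.card_subgroup_dvd_card _)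
    calc Module.finrank k ρ.invariants
        ≤ Module.finrank k (Submodule.span k {∑ u ∈ O, u}) := Submodule.finrank_mono hle
      _ ≤ 1 := by
        have := finrank_span_finset_le_card (R := k) ({∑ u ∈ O, u} : Finset V)
        rw [Finset.coe_singleton] at this
        simpa [Set.finrank] using this
  · intro b hcop h
    have htrans : ∀ u ∈ O, ∃ g ∈ MulAction.stabilizer H b, ρ g a = u := by
      intro u hu
      obtain ⟨h', rfl⟩ := (hO u).1 hu
      rw [horb, horb] at hcop
      exact Cfsg.Agent.Lib.Helper3.exists_mem_stabilizer_smul_eq_of_coprime a b hcop h'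
    have hb : b ∈ Submodule.span k {∑ u ∈ O, u} :=
      mem_span_orbitSum ρ a O hO hspan' (MulAction.stabilizer H b) htrans
        (hdiv _ (Subgroup.card_subgroup_dvd_card _)) hOne b (fun g hg => hg)
    obtain ⟨c, rfl⟩ := Submodule.mem_span_singleton.1 hb
    rw [map_smul, orbitSum_invariant ρ a O hO h]

end Cfsg.Agent.S4177
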