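import Cfsg.Statements.S4182
import Mathlib
import Mathlib
import Cfsg.Agent.Lib.Helper1.SZHelpers
-- import your own Cfsg.Agent.* helpers here

set_option autoImplicit false
open Cfsg

namespace Cfsg.Agent.S4182

open Cfsg.Agent.Lib.Helper1 (card_lt_of_ne_top)
universe u v
variable {G : Type*} [Group G]


/-- A finite `p`-group is not the union of at most `p` proper subgroups. -/
theorem pgroup_not_cover [Finite G] (p : ℕ) [hp : Fact p.Prime] (hG : IsPGroup p G)
    {ι : Type*} [Fintype ι] (K : ι → Subgroup G) (hK : ∀ i, K i ≠ ⊤)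
    (hcov : ∀ g : G, ∃ i, g ∈ K i) : p + 1 ≤ Fintype.card ι := by
  classical
  by_contra hr
  push Not at hr
  have hr' : Fintype.card ι ≤ p := by omega
  haveI : Fintype G := Fintype.ofFinite G
  obtain ⟨n, hn⟩ := IsPGroup.iff_card.1 hG
  have hp1 : 1 < p := hp.out.one_lt
  -- each `K i` has at most `|G| / p` elements
  have hKcard : ∀ i, p * Nat.card (K i) ≤ Nat.card G := by
    intro i
    have h1 := (K i).card_mul_index
    have h2 : (K i).index ≠ 1 := fun h => hK i (Subgroup.index_eq_one.1 h)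
    have h3 : (K i).index ∣ p ^ n := by rw [← hn]; exact Subgroup.index_dvd_card _
    obtain ⟨m, -, hm⟩ := (Nat.dvd_prime_pow hp.out).1 h3
    have hm0 : m ≠ 0 := by
      rintro rfl
      rw [pow_zero] at hm
      exact h2 hm
    have h4 : p ∣ (K i).index := by
      rw [hm]; exact dvd_pow_self p hm0
    obtain ⟨c, hc⟩ := h4
    rw [hc] at h1
    have hcpos : 0 < c := by
      rcases Nat.eq_zero_or_pos c with h | h
      · rw [h, mul_zero] at hc
        exact absurd hc Subgroup.index_ne_zero_of_finite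
      · exact h
    calc p * Nat.card (K i) ≤ p * Nat.card (K i) * c := Nat.le_mul_of_pos_right _ hcpos
      _ = Nat.card (K i) * (p * c) := by ring
      _ = Nat.card G := h1
  -- counting non-identity elements
  have hcover : (Finset.univ : Finset G).erase 1 ⊆
      Finset.univ.biUnion (fun i => (Finset.univ.filter (fun g => g ∈ K i)).erase 1) := by
    intro g hg
    rw [Finset.mem_erase] at hg
    obtain ⟨i, hi⟩ := hcov g
    rw [Finset.mem_biUnion]
    exact ⟨i, Finset.mem_univ _, Finset.mem_erase.2 ⟨hg.1, Finset.mem_filter.2 ⟨Finset.mem_univ _, hi⟩⟩⟩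
  have h1 := Finset.card_le_card hcover
  have h2 := Finset.card_biUnion_le (s := (Finset.univ : Finset ι))
    (t := fun i => (Finset.univ.filter (fun g => g ∈ K i)).erase 1)
  have h3 : ∀ i, ((Finset.univ.filter (fun g => g ∈ K i)).erase (1 : G)).card = Nat.card (K i) - 1 := by
    intro i
    rw [Finset.card_erase_of_mem (Finset.mem_filter.2 ⟨Finset.mem_univ _, (K i).one_mem⟩)]
    congr 1
    rw [Nat.card_eq_fintype_card, Fintype.card_subtype]
  have h4 : ((Finset.univ : Finset G).erase 1).card = Nat.card G - 1 := by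
    rw [Finset.card_erase_of_mem (Finset.mem_univ _), Finset.card_univ, Nat.card_eq_fintype_card]
  have h5 : ∑ i : ι, ((Finset.univ.filter (fun g => g ∈ K i)).erase (1 : G)).card
      ≤ ∑ _i : ι, (Nat.card G / p - 1) := by
    apply Finset.sum_le_sum
    intro i _
    rw [h3]
    have := hKcard i
    have h6 : Nat.card (K i) ≤ Nat.card G / p := by
      rw [Nat.le_div_iff_mul_le hp.out.pos, mul_comm]; exact this
    omega
  rw [Finset.sum_const, Finset.card_univ, smul_eq_mul] at h5
  have h7 : p ∣ Nat.card G ∨ Nat.card G = 1 := by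
    rcases n with _ | n
    · right; rw [hn, pow_zero]
    · left; rw [hn, pow_succ]; exact Dvd.intro_left _ rfl
  have hGpos : 0 < Nat.card G := Nat.card_pos
  rcases h7 with ⟨c, hc⟩ | h1'
  · have hcpos : 0 < c := by
      rcases Nat.eq_zero_or_pos c with h | h
      · rw [h, mul_zero] at hc; omega
      · exact h
    have h8 : Nat.card G / p = c := by rw [hc, Nat.mul_div_cancel_left _ hp.out.pos]
    rw [h8] at h5
    have h9 : Fintype.card ι * (c - 1) ≤ p * (c - 1) := Nat.mul_le_mul_right _ hr'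
    have h10 : p * (c - 1) = p * c - p := by rw [Nat.mul_sub, mul_one]
    have : Nat.card G - 1 ≤ p * c - p := by
      calc Nat.card G - 1 = ((Finset.univ : Finset G).erase 1).card := h4.symm
        _ ≤ _ := h1
        _ ≤ _ := h2
        _ ≤ _ := h5
        _ ≤ _ := h9
        _ = _ := h10
    rw [hc] at this
    have h11 : p ≤ p * c := Nat.le_mul_of_pos_right p hcpos
    omega
  · -- trivial group: no proper subgroups
    obtain ⟨i, -⟩ := hcov 1
    apply hK i
    haveI : Subsingleton G := (Nat.card_eq_one_iff_unique.1 h1').1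
    exact Subsingleton.elim _ _




/-- `H` is generated by its elements of `p`-power order. -/
def PGen (p : ℕ) (H : Subgroup G) : Prop :=
  Subgroup.closure {g : G | g ∈ H ∧ ∃ k : ℕ, orderOf g = p ^ k} = H


theorem pgen_closure (p : ℕ) (K : Subgroup G) :
    PGen p (Subgroup.closure {g : G | g ∈ K ∧ ∃ k : ℕ, orderOf g = p ^ k}) := by
  unfold PGen
  apply le_antisymm
  · rw [Subgroup.closure_le]
    rintro g ⟨hg, -⟩
    exact hg
  · apply Subgroup.closure_mono
    rintro g ⟨hg, hk⟩
    exact ⟨Subgroup.subset_closure ⟨hg, hk⟩, hk⟩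


theorem closure_pel_le (p : ℕ) (K : Subgroup G) :
    Subgroup.closure {g : G | g ∈ K ∧ ∃ k : ℕ, orderOf g = p ^ k} ≤ K := by
  rw [Subgroup.closure_le]
  rintro g ⟨hg, -⟩
  exact hg


theorem pgen_map_conj (p : ℕ) (H : Subgroup G) (hH : PGen p H) (g : G) :
    PGen p (H.map (MulAut.conj g).toMonoidHom) := by
  unfold PGen at hH ⊢
  conv_rhs => rw [← hH]
  rw [MonoidHom.map_closure]
  congr 1
  ext z
  constructor
  · rintro ⟨⟨y, hy, rfl⟩, k, hk⟩
    refine ⟨y, ⟨hy, k, ?_⟩, rfl⟩
    rw [← hk]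
    exact ((MulAut.conj g).orderOf_eq y).symm
  · rintro ⟨y, ⟨hy, k, hk⟩, rfl⟩
    refine ⟨⟨y, hy, rfl⟩, k, ?_⟩
    rw [← hk]
    exact (MulAut.conj g).orderOf_eq y


theorem pgen_subtype (p : ℕ) (H : Subgroup G) (hH : PGen p H) :
    Subgroup.closure {h : H | ∃ k : ℕ, orderOf h = p ^ k} = ⊤ := by
  unfold PGen at hH
  have h1 : (Subgroup.closure {h : H | ∃ k : ℕ, orderOf h = p ^ k}).map H.subtype = H := by
    rw [MonoidHom.map_closure]
    conv_rhs => rw [← hH]
    congr 1
    ext z
    constructor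
    · rintro ⟨y, ⟨k, hk⟩, rfl⟩
      refine ⟨y.2, k, ?_⟩
      rw [← hk]
      exact Subgroup.orderOf_coe y
    · rintro ⟨hz, k, hk⟩
      refine ⟨⟨z, hz⟩, ⟨k, ?_⟩, rfl⟩
      rw [← hk]
      exact (Subgroup.orderOf_coe (⟨z, hz⟩ : H)).symm
  rw [eq_top_iff]
  intro x _
  have hx : (x : G) ∈ (Subgroup.closure {h : H | ∃ k : ℕ, orderOf h = p ^ k}).map H.subtype := by
    rw [h1]; exact x.2
  obtain ⟨y, hy, hyx⟩ := hx
  have : y = x := Subtype.ext hyx
  rw [← this]; exact hy


theorem pgen_of_isPGroup (p : ℕ) (H : Subgroup G) (hH : IsPGroup p H) [Fact p.Prime] : PGen p H := by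
  unfold PGen
  apply le_antisymm (closure_pel_le p H)
  intro g hg
  apply Subgroup.subset_closure
  refine ⟨hg, ?_⟩
  obtain ⟨k, hk⟩ := (IsPGroup.iff_orderOf.1 hH) ⟨g, hg⟩
  exact ⟨k, by rw [← hk]; exact Subgroup.orderOf_coe (⟨g, hg⟩ : H)⟩




theorem map_conj_eq_of_mem_normalizer {H : Subgroup G} {g : G}
    (h : g ∈ Subgroup.normalizer (H : Set G)) : H.map (MulAut.conj g).toMonoidHom = H :=
  Subgroup.mem_normalizer_iff_map_conj_eq.1 h


theorem mem_normalizer_of_map_conj_eq {H : Subgroup G} {g : G}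
    (h : H.map (MulAut.conj g).toMonoidHom = H) : g ∈ Subgroup.normalizer (H : Set G) :=
  Subgroup.mem_normalizer_iff_map_conj_eq.2 h


theorem map_conj_mul' (H : Subgroup G) (a b : G) :
    (H.map (MulAut.conj b).toMonoidHom).map (MulAut.conj a).toMonoidHom
      = H.map (MulAut.conj (a * b)).toMonoidHom := by
  rw [Subgroup.map_map]
  congr 1
  ext y
  simp [MulAut.conj_apply, mul_assoc]


/-- A `p`-element lying in a member of a small conjugation-closed family of subgroups normalizes
every member. -/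
theorem normalizes_of_small_family [Finite G] (p : ℕ) [hp : Fact p.Prime] {ι : Type*} [Fintype ι]
    (hι : Fintype.card ι ≤ p) (M : ι → Subgroup G)
    (hclosed : ∀ i (g : G), ∃ j, (M i).map (MulAut.conj g).toMonoidHom = M j)
    (x : G) (k : ℕ) (hx : orderOf x = p ^ k) (j0 : ι) (hxj : x ∈ M j0) (i : ι) :
    x ∈ Subgroup.normalizer ((M i : Subgroup G) : Set G) := by
  classical
  by_contra hxi
  let f : Fin p → Subgroup G := fun t => (M i).map (MulAut.conj (x ^ (t : ℕ))).toMonoidHom
  have hkey : ∀ (s t : ℕ) (hst : s < t) (htp : t < p), f ⟨s, hst.trans htp⟩ ≠ f ⟨t, htp⟩ := by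
    intro s t hst htp heq
    apply hxi
    have h1 : (M i).map (MulAut.conj (x ^ s)).toMonoidHom
        = (M i).map (MulAut.conj (x ^ t)).toMonoidHom := heq
    have h2 : (M i).map (MulAut.conj (x ^ (t - s))).toMonoidHom = M i := by
      have h3 := congrArg (fun H => H.map (MulAut.conj ((x ^ s)⁻¹)).toMonoidHom) h1
      simp only [map_conj_mul'] at h3
      rw [inv_mul_cancel] at h3
      have h4 : (x ^ s)⁻¹ * x ^ t = x ^ (t - s) := by
        rw [← pow_sub_mul_pow x hst.le]; group
      rw [h4] at h3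
      rw [← h3]
      ext y
      simp
    have h5 : x ^ (t - s) ∈ Subgroup.normalizer ((M i : Subgroup G) : Set G) :=
      mem_normalizer_of_map_conj_eq h2
    have hcop : Nat.Coprime (t - s) (orderOf x) := by
      rw [hx]
      apply Nat.Coprime.pow_right
      rw [Nat.coprime_comm, Nat.Prime.coprime_iff_not_dvd hp.out]
      intro hd
      have := Nat.le_of_dvd (by omega) hd
      omega
    obtain ⟨m, hm⟩ := exists_pow_eq_self_of_coprime hcop
    rw [← hm]
    exact Subgroup.pow_mem _ h5 m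
  have hinj : Function.Injective f := by
    intro a b hab
    by_contra hne
    rcases lt_or_gt_of_ne (fun h => hne (Fin.ext h) : (a : ℕ) ≠ b) with h | h
    · exact hkey a b h b.2 hab
    · exact hkey b a h a.2 hab.symm
  have hsub : Finset.univ.image f ⊆ Finset.univ.image M := by
    intro H hH
    obtain ⟨t, -, rfl⟩ := Finset.mem_image.1 hH
    obtain ⟨j, hj⟩ := hclosed i (x ^ (t : ℕ))
    exact Finset.mem_image.2 ⟨j, Finset.mem_univ _, hj.symm⟩
  have hcard1 : (Finset.univ.image f).card = p := by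
    rw [Finset.card_image_of_injective _ hinj, Finset.card_univ, Fintype.card_fin]
  have hcard2 : (Finset.univ.image M).card ≤ p :=
    (Finset.card_image_le).trans (by rw [Finset.card_univ]; exact hι)
  have heq : Finset.univ.image f = Finset.univ.image M :=
    Finset.eq_of_subset_of_card_le hsub (by rw [hcard1]; exact hcard2)
  have hj0 : M j0 ∈ Finset.univ.image f := by
    rw [heq]; exact Finset.mem_image.2 ⟨j0, Finset.mem_univ _, rfl⟩
  obtain ⟨t, -, ht⟩ := Finset.mem_image.1 hj0
  have hx' : x ∈ (M i).map (MulAut.conj (x ^ (t : ℕ))).toMonoidHom := by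
    show x ∈ f t
    rw [ht]; exact hxj
  obtain ⟨m, hm, hmx⟩ := hx'
  have hmx' : x ^ (t : ℕ) * m * (x ^ (t : ℕ))⁻¹ = x := hmx
  have hmeq : m = x := by
    have : m = (x ^ (t : ℕ))⁻¹ * (x ^ (t : ℕ) * m * (x ^ (t : ℕ))⁻¹) * x ^ (t : ℕ) := by group
    rw [this, hmx']
    have hc : Commute ((x ^ (t : ℕ))⁻¹) x := ((Commute.refl x).pow_left _).inv_left
    rw [hc.eq, mul_assoc, inv_mul_cancel, mul_one]
  apply hxi
  apply Subgroup.le_normalizer
  rw [← hmeq]; exact hm




theorem map_conj_ne_top {H : Subgroup G} (hH : H ≠ ⊤) (g : G) :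
    H.map (MulAut.conj g).toMonoidHom ≠ ⊤ := by
  intro h
  apply hH
  rw [eq_top_iff]
  intro y _
  have : g * y * g⁻¹ ∈ H.map (MulAut.conj g).toMonoidHom := h ▸ Subgroup.mem_top _
  obtain ⟨z, hz, hzy⟩ := this
  have h1 : g * z * g⁻¹ = g * y * g⁻¹ := hzy
  have h2 : z = y := by
    have := mul_right_cancel h1
    exact mul_left_cancel this
  rw [← h2]; exact hz


theorem main (p : ℕ) [hp : Fact p.Prime] {ι : Type v} [Fintype ι] (n : ℕ) :
    ∀ (G : Type u) [Group G] [Finite G], Nat.card G = n →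
      Subgroup.closure {g : G | ∃ k : ℕ, orderOf g = p ^ k} = ⊤ →
      ∀ K : ι → Subgroup G, (∀ i, K i ≠ ⊤) →
        (∀ g : G, (∃ k : ℕ, orderOf g = p ^ k) → ∃ i, g ∈ K i) → p + 1 ≤ Fintype.card ι := by
  induction n using Nat.strong_induction_on with
  | _ n ih =>
  intro G _ _ hn hgen K hK hcov
  by_contra hr
  have hι : Fintype.card ι ≤ p := by omega
  -- every proper `p`-generated subgroup lies in a member of any covering family
  have hstar : ∀ (K' : ι → Subgroup G),
      (∀ g : G, (∃ k : ℕ, orderOf g = p ^ k) → ∃ i, g ∈ K' i) →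
      ∀ H : Subgroup G, H ≠ ⊤ → PGen p H → ∃ i, H ≤ K' i := by
    intro K' hcov' H hH hpg
    by_contra hcon
    push Not at hcon
    apply hr
    have hlt : Nat.card H < n := hn ▸ card_lt_of_ne_top H hH
    refine ih _ hlt H rfl (pgen_subtype p H hpg) (fun i => (K' i).subgroupOf H)
      (fun i h => hcon i (Subgroup.subgroupOf_eq_top.1 h)) ?_
    rintro h ⟨k, hk⟩
    obtain ⟨i, hi⟩ := hcov' (h : G) ⟨k, by rw [Subgroup.orderOf_coe]; exact hk⟩
    exact ⟨i, Subgroup.mem_subgroupOf.2 hi⟩
  -- maximal `p`-generated proper subgroups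
  have hex : ∀ i, ∃ M : Subgroup G, Maximal (fun H : Subgroup G => H ≠ ⊤ ∧ PGen p H ∧
      Subgroup.closure {g : G | g ∈ K i ∧ ∃ k : ℕ, orderOf g = p ^ k} ≤ H) M := by
    intro i
    apply Set.Finite.exists_maximal (Set.toFinite _)
    refine ⟨Subgroup.closure {g : G | g ∈ K i ∧ ∃ k : ℕ, orderOf g = p ^ k}, ?_, pgen_closure p _, le_rfl⟩
    intro h
    apply hK i
    rw [eq_top_iff, ← h]
    exact closure_pel_le p _
  choose M hM using hex
  have hMtop : ∀ i, M i ≠ ⊤ := fun i => (hM i).1.1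
  have hMpg : ∀ i, PGen p (M i) := fun i => (hM i).1.2.1
  have hMcov : ∀ g : G, (∃ k : ℕ, orderOf g = p ^ k) → ∃ i, g ∈ M i := by
    intro g hg
    obtain ⟨i, hi⟩ := hcov g hg
    exact ⟨i, (hM i).1.2.2 (Subgroup.subset_closure ⟨hi, hg⟩)⟩
  have hMmax : ∀ i (H : Subgroup G), H ≠ ⊤ → PGen p H → M i ≤ H → H = M i := by
    intro i H hH hpg hle
    exact le_antisymm ((hM i).2 ⟨hH, hpg, (hM i).1.2.2.trans hle⟩ hle) hle
  -- the family is closed under conjugation
  have hclosed : ∀ i (g : G), ∃ j, (M i).map (MulAut.conj g).toMonoidHom = M j := by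
    intro i g
    obtain ⟨j, hj⟩ := hstar M hMcov _ (map_conj_ne_top (hMtop i) g) (pgen_map_conj p _ (hMpg i) g)
    refine ⟨j, le_antisymm hj ?_⟩
    obtain ⟨k, hk⟩ := hstar M hMcov _ (map_conj_ne_top (hMtop j) g⁻¹)
      (pgen_map_conj p _ (hMpg j) g⁻¹)
    have h1 : M i ≤ (M j).map (MulAut.conj g⁻¹).toMonoidHom := by
      have := Subgroup.map_mono (f := (MulAut.conj g⁻¹).toMonoidHom) hj
      rw [map_conj_mul', inv_mul_cancel] at this
      have h2 : (M i).map (MulAut.conj (1 : G)).toMonoidHom = M i := by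
        ext y; simp
      rw [h2] at this
      exact this
    have h3 : M k = M i := hMmax i (M k) (hMtop k) (hMpg k) (h1.trans hk)
    have h4 : (M j).map (MulAut.conj g⁻¹).toMonoidHom ≤ M i := h3 ▸ hk
    have h5 := Subgroup.map_mono (f := (MulAut.conj g).toMonoidHom) h4
    rw [map_conj_mul', mul_inv_cancel] at h5
    have h6 : (M j).map (MulAut.conj (1 : G)).toMonoidHom = M j := by
      ext y; simp
    rw [h6] at h5
    exact h5
  -- every member is normal
  have hnormal : ∀ i, Subgroup.normalizer ((M i : Subgroup G) : Set G) = ⊤ := by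
    intro i
    rw [eq_top_iff, ← hgen, Subgroup.closure_le]
    rintro x ⟨k, hk⟩
    obtain ⟨j0, hj0⟩ := hMcov x ⟨k, hk⟩
    exact normalizes_of_small_family p hι M hclosed x k hk j0 hj0 i
  -- a Sylow subgroup
  obtain ⟨P⟩ : Nonempty (Sylow p G) := inferInstance
  by_cases hPtop : (P : Subgroup G) = ⊤
  · apply hr
    have hG : IsPGroup p G := by
      have := P.isPGroup'
      intro g
      obtain ⟨k, hk⟩ := this ⟨g, hPtop ▸ Subgroup.mem_top g⟩
      exact ⟨k, congrArg Subtype.val hk⟩
    apply pgroup_not_cover p hG K hK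
    intro g
    obtain ⟨k, hk⟩ := (IsPGroup.iff_orderOf.1 hG) g
    exact hcov g ⟨k, hk⟩
  · obtain ⟨i, hi⟩ := hstar M hMcov P hPtop (pgen_of_isPGroup p _ P.isPGroup')
    apply hMtop i
    rw [eq_top_iff, ← hgen, Subgroup.closure_le]
    rintro x ⟨k, hk⟩
    have hxp : IsPGroup p (Subgroup.zpowers x) := by
      apply IsPGroup.of_card (n := k)
      rw [Nat.card_zpowers, hk]
    obtain ⟨Q, hQ⟩ := hxp.exists_le_sylow
    obtain ⟨g, hg⟩ := MulAction.exists_smul_eq G P Q
    have hxQ : x ∈ (Q : Subgroup G) := hQ (Subgroup.mem_zpowers x)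
    rw [← hg] at hxQ
    rw [Sylow.coe_subgroup_smul, Subgroup.mem_pointwise_smul_iff_inv_smul_mem] at hxQ
    have h1 : g⁻¹ * x * g ∈ M i := hi (by simpa [MulAut.smul_def] using hxQ)
    haveI : (M i).Normal := Subgroup.normalizer_eq_top_iff.1 (hnormal i)
    have h2 := Subgroup.Normal.conj_mem inferInstance _ h1 g
    have h3 : g * (g⁻¹ * x * g) * g⁻¹ = x := by group
    rw [h3] at h2
    exact h2





/-- Let p be a prime and G a finite group generated by its p-elements. If a finite family of proper subgroups of G covers the set of p-elements of G (every element of p-power order lies in one of them), then the family has at least p + 1 members. -/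
theorem result {G : Type*} [Group G] [Finite G] (p : ℕ) [Fact p.Prime] (hgen : Subgroup.closure {g : G | ∃ k : ℕ, orderOf g = p ^ k} = ⊤)
    {ι : Type*} [Fintype ι] (K : ι → Subgroup G) (hK : ∀ i, K i ≠ ⊤)
    (hcov : ∀ g : G, (∃ k : ℕ, orderOf g = p ^ k) → ∃ i, g ∈ K i) :
    p + 1 ≤ Fintype.card ι := by
  exact main p _ G rfl hgen K hK hcov

end Cfsg.Agent.S4182
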