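import Cfsg.Statements.S4186
-- import your own Cfsg.Agent.* helpers here

set_option autoImplicit false
open Cfsg

namespace Cfsg.Agent.S4186

/-- Let T and X be subgroups of a group with T a finite 2-group normalizing X but not centralizing it. Then some element of T inverts some non-identity element of X under conjugation. -/
theorem result {G : Type*} [Group G] (T X : Subgroup G) [Finite ↥T] (hT : IsPGroup 2 ↥T) (hTN : T ≤ Subgroup.normalizer (X : Set G)) (hTC : ¬ T ≤ Subgroup.centralizer (X : Set G)) : ∃ t ∈ T, ∃ x ∈ X, x ≠ 1 ∧ t * x * t⁻¹ = x⁻¹ := by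
  classical
  -- pick t ∈ T not centralizing X
  obtain ⟨t, htT, htC⟩ := SetLike.not_le_iff_exists.1 hTC
  -- t ^ (2^n) = 1 for some n
  obtain ⟨n, hn⟩ := hT ⟨t, htT⟩
  have hn' : t ^ 2 ^ n = 1 := by
    have := congrArg Subtype.val hn
    simpa using this
  have hex : ∃ k, t ^ 2 ^ k ∈ Subgroup.centralizer (X : Set G) :=
    ⟨n, by rw [hn']; exact Subgroup.one_mem _⟩
  have hk := Nat.find_spec hex
  have hk0 : Nat.find hex ≠ 0 := by
    intro h0
    rw [h0] at hk
    simp only [pow_zero, pow_one] at hk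
    exact htC hk
  obtain ⟨j, hj⟩ := Nat.exists_eq_succ_of_ne_zero hk0
  set s := t ^ 2 ^ j with hs
  have hsT : s ∈ T := T.pow_mem htT _
  have hsC : s ∉ Subgroup.centralizer (X : Set G) := by
    intro h
    have := Nat.find_min' hex h
    omega
  have hs2 : s ^ 2 ∈ Subgroup.centralizer (X : Set G) := by
    have : s ^ 2 = t ^ 2 ^ (Nat.find hex) := by
      rw [hj, hs, ← pow_mul, Nat.succ_eq_add_one, pow_succ]
    rw [this]; exact hk
  -- find y ∈ X not commuting with s
  have : ∃ y ∈ X, y * s ≠ s * y := by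
    by_contra hcon
    push Not at hcon
    apply hsC
    rw [Subgroup.mem_centralizer_iff]
    intro y hy
    exact hcon y hy
  obtain ⟨y, hyX, hys⟩ := this
  have hsN : s ∈ Subgroup.normalizer (X : Set G) := hTN hsT
  have hsyX : s * y * s⁻¹ ∈ X := by
    have := (Subgroup.mem_set_normalizer_iff.1 hsN y).1
    exact this hyX
  refine ⟨s, hsT, y⁻¹ * (s * y * s⁻¹), X.mul_mem (X.inv_mem hyX) hsyX, ?_, ?_⟩
  · intro h
    apply hys
    have : s * y * s⁻¹ = y := by
      rw [inv_mul_eq_one] at h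
      exact h.symm
    calc y * s = (s * y * s⁻¹) * s := by rw [this]
      _ = s * y := by group
  · have hc : s ^ 2 * y = y * s ^ 2 := by
      rw [Subgroup.mem_centralizer_iff] at hs2
      exact (hs2 y hyX).symm
    have hc' : s * s * y * s⁻¹ * s⁻¹ = y := by
      have : s * s * y = y * (s * s) := by rw [← pow_two]; exact hc
      rw [this]; group
    calc s * (y⁻¹ * (s * y * s⁻¹)) * s⁻¹ = (s * y * s⁻¹)⁻¹ * (s * s * y * s⁻¹ * s⁻¹) := by group
      _ = (s * y * s⁻¹)⁻¹ * y := by rw [hc']
      _ = (y⁻¹ * (s * y * s⁻¹))⁻¹ := by group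

end Cfsg.Agent.S4186
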