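import Cfsg.Statements.S4194
import Cfsg.Agent.Lib.Helper7.CaminaHerzog2

set_option autoImplicit false
open Cfsg

namespace Cfsg.Agent.S4194

/-- A finite group G has commutative Sylow 2-subgroups if and only if every 2-element of G (element of order a power of 2) is 2-central, that is, its centralizer contains a Sylow 2-subgroup of G. -/
theorem result {G : Type*} [Group G] [Finite G] (P : Sylow 2 G) :
    IsMulCommutative (P : Subgroup G) ↔ ∀ x : G, (∃ k : ℕ, orderOf x = 2 ^ k) → (∃ Q : Sylow 2 G, (Q : Subgroup G) ≤ Subgroup.centralizer ({x} : Set G)) := by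
  open Cfsg.Agent.Lib.Helper7 Cfsg.Agent.Lib.Helper7.CH in
  constructor
  · intro hcomm x hx
    obtain ⟨k, hk⟩ := hx
    have hpz : IsPGroup 2 ↥(Subgroup.zpowers x) :=
      IsPGroup.of_card (n := k) (by rw [Nat.card_zpowers, hk])
    obtain ⟨Q, hQ⟩ := hpz.exists_le_sylow
    obtain ⟨g, hg⟩ := MulAction.exists_smul_eq G P Q
    refine ⟨Q, ?_⟩
    have hxQ : x ∈ (Q : Subgroup G) := hQ (Subgroup.mem_zpowers x)
    intro y hy
    rw [Subgroup.mem_centralizer_iff]
    intro w hw
    rw [Set.mem_singleton_iff] at hw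
    subst hw
    rw [← hg, mem_smul_sylow_iff] at hxQ hy
    have h1 := hcomm.is_comm.comm ⟨_, hxQ⟩ ⟨_, hy⟩
    have h2 : (g⁻¹ * w * g) * (g⁻¹ * y * g) = (g⁻¹ * y * g) * (g⁻¹ * w * g) :=
      congrArg Subtype.val h1
    have h3 : g⁻¹ * (w * y) * g = g⁻¹ * (y * w) * g := by
      calc g⁻¹ * (w * y) * g = (g⁻¹ * w * g) * (g⁻¹ * y * g) := by group
        _ = (g⁻¹ * y * g) * (g⁻¹ * w * g) := h2
        _ = g⁻¹ * (y * w) * g := by group
    exact mul_left_cancel (mul_right_cancel h3)
  · intro hall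
    have h : TwoCentral G := by
      intro x hx hdvd
      obtain ⟨Q, hQ⟩ := hall x hx
      exact Q.not_dvd_index (dvd_trans hdvd (Subgroup.index_dvd_of_le hQ))
    have hc := sylow_two_comm (G := G) h P
    exact ⟨⟨fun x y => Subtype.ext (hc x x.2 y y.2)⟩⟩

end Cfsg.Agent.S4194
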