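import Cfsg.Statements.S4196
import Cfsg.Agent.S4195

set_option autoImplicit false
open Cfsg

namespace Cfsg.Agent.S4196

theorem mem_smul_sylow_iff {G : Type*} [Group G] {p : ℕ} (P : Sylow p G) (g x : G) :
    x ∈ ((g • P : Sylow p G) : Subgroup G) ↔ g⁻¹ * x * g ∈ (P : Subgroup G) := by
  rw [Sylow.coe_subgroup_smul, Subgroup.mem_pointwise_smul_iff_inv_smul_mem]
  simp [MulAut.smul_def]

/-- A finite group G has elementary abelian Sylow 2-subgroups (commutative with every element squaring to the identity) if and only if every 2-element of G has a Sylow 2-subgroup in its centralizer and is conjugate to its inverse. -/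
theorem result {G : Type*} [Group G] [Finite G] (P : Sylow 2 G) :
    (IsMulCommutative (P : Subgroup G) ∧ ∀ x ∈ (P : Subgroup G), x ^ 2 = 1) ↔
      ∀ x : G, (∃ k : ℕ, orderOf x = 2 ^ k) → (∃ Q : Sylow 2 G, (Q : Subgroup G) ≤ Subgroup.centralizer ({x} : Set G)) ∧ IsConj x x⁻¹ := by
  constructor
  · rintro ⟨hcomm, hexp⟩ x ⟨k, hk⟩
    have hxp : IsPGroup 2 (Subgroup.zpowers x) := by
      rw [IsPGroup.iff_card, Nat.card_zpowers]
      exact ⟨k, hk⟩
    obtain ⟨Q, hQ⟩ := hxp.exists_le_sylow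
    obtain ⟨g, rfl⟩ := MulAction.exists_smul_eq G P Q
    have hxQ : g⁻¹ * x * g ∈ (P : Subgroup G) :=
      (mem_smul_sylow_iff P g x).1 (hQ (Subgroup.mem_zpowers x))
    have hx2 : x ^ 2 = 1 := by
      have := hexp _ hxQ
      have h2 : (g⁻¹ * x * g) ^ 2 = g⁻¹ * x ^ 2 * g := by
        rw [pow_two, pow_two]; group
      rw [h2] at this
      calc x ^ 2 = g * (g⁻¹ * x ^ 2 * g) * g⁻¹ := by group
        _ = 1 := by rw [this]; group
    refine ⟨⟨g • P, ?_⟩, ?_⟩
    · intro z hz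
      rw [Subgroup.mem_centralizer_singleton_iff]
      have hzP := (mem_smul_sylow_iff P g z).1 hz
      have hc : (g⁻¹ * z * g) * (g⁻¹ * x * g) = (g⁻¹ * x * g) * (g⁻¹ * z * g) := by
        have := hcomm.is_comm.comm (⟨_, hzP⟩ : (P : Subgroup G)) ⟨_, hxQ⟩
        exact congrArg Subtype.val this
      calc z * x = g * ((g⁻¹ * z * g) * (g⁻¹ * x * g)) * g⁻¹ := by group
        _ = g * ((g⁻¹ * x * g) * (g⁻¹ * z * g)) * g⁻¹ := by rw [hc]
        _ = x * z := by group
    · have : x⁻¹ = x := by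
        rw [inv_eq_iff_mul_eq_one, ← pow_two, hx2]
      rw [this]
  · intro h
    have hexp : ∀ x ∈ (P : Subgroup G), x ^ 2 = 1 := by
      intro y hy
      have hyk : ∃ k : ℕ, orderOf y = 2 ^ k := by
        obtain ⟨k, hk⟩ := P.2 ⟨y, hy⟩
        have hk' : y ^ 2 ^ k = 1 := by
          have := congrArg Subtype.val hk
          simpa using this
        exact (Nat.dvd_prime_pow Nat.prime_two).1 (orderOf_dvd_of_pow_eq_one hk') |>.imp
          fun _ h => h.2
      obtain ⟨⟨Q, hQ⟩, hreal⟩ := h y hyk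
      by_cases hy1 : y = 1
      · rw [hy1, one_pow]
      · have := Cfsg.Agent.S4195.result y hy1 Q hQ hreal
        rw [← this, pow_orderOf_eq_one]
    refine ⟨⟨⟨?_⟩⟩, hexp⟩
    rintro ⟨a, ha⟩ ⟨b, hb⟩
    apply Subtype.ext
    change a * b = b * a
    have ha2 := hexp a ha
    have hb2 := hexp b hb
    have hab2 := hexp (a * b) ((P : Subgroup G).mul_mem ha hb)
    have hai : a⁻¹ = a := by rw [inv_eq_iff_mul_eq_one, ← pow_two, ha2]
    have hbi : b⁻¹ = b := by rw [inv_eq_iff_mul_eq_one, ← pow_two, hb2]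
    have habi : (a * b)⁻¹ = a * b := by rw [inv_eq_iff_mul_eq_one, ← pow_two, hab2]
    rw [← habi, mul_inv_rev, hai, hbi]

end Cfsg.Agent.S4196
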