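import Cfsg.Statements.S4200
import Cfsg.Agent.Lib.Helper3.ClassNumber
import Cfsg.Agent.Lib.Helper1.Index

set_option autoImplicit false
open Cfsg

namespace Cfsg.Agent.S4200

open Cfsg.Agent.Lib.Helper3

variable {X : Type*} [Group X]

/-- commuting within the subgroup type vs. in the ambient group -/
theorem card_commute_in_subgroup (Y : Subgroup X) (y : Y) :
    Nat.card {y' : Y // Commute y y'} = Nat.card {y' : Y // Commute (y : X) (y' : X)} := by
  apply Nat.card_congr
  apply Equiv.subtypeEquivRight
  intro y'
  constructor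
  · intro h
    exact congrArg Subtype.val h.eq
  · intro h
    exact Subtype.ext h.eq

theorem sumY_eq [Fintype X] (Y : Subgroup X) [Fintype Y] :
    Nat.card (ConjClasses Y) * Nat.card Y = ∑ y : Y, Nat.card {y' : Y // Commute (y : X) (y' : X)} := by
  rw [card_conjClasses_mul_card_eq_sum]
  exact Finset.sum_congr rfl (fun y _ => card_commute_in_subgroup Y y)

theorem mixed_eq [Fintype X] (Y : Subgroup X) [Fintype Y] :
    ∑ x : X, Nat.card {y : Y // Commute x (y : X)} = ∑ y : Y, Nat.card {x : X // Commute (y : X) x} := by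
  rw [sum_card_left_eq_sum_card_right]
  apply Finset.sum_congr rfl
  intro y _
  apply Nat.card_congr
  apply Equiv.subtypeEquivRight
  intro x
  exact ⟨fun h => h.symm, fun h => h.symm⟩

theorem normal_of_relIndex_eq [Finite X] (Y : Subgroup X)
    (h : ∀ y : Y, Y.relIndex (Subgroup.centralizer ({(y : X)} : Set X)) = Y.index) : Y.Normal := by
  constructor
  intro y hy g
  obtain ⟨c, hc, y', hy', hg⟩ :=
    Cfsg.Agent.Lib.Helper1.mul_eq_of_relIndex_eq_index _ Y (h ⟨y, hy⟩) g⁻¹
  rw [Subgroup.mem_centralizer_singleton_iff] at hc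
  have hg' : g = y'⁻¹ * c⁻¹ := by
    rw [← inv_inv g, hg]; group
  have h1 : c⁻¹ * y * c = y := by
    have : c * y = y * c := hc
    calc c⁻¹ * y * c = c⁻¹ * (y * c) := by group
      _ = c⁻¹ * (c * y) := by rw [this]
      _ = y := by group
  have : g * y * g⁻¹ = y'⁻¹ * (c⁻¹ * y * c) * y' := by rw [hg']; group
  rw [this, h1]
  exact Y.mul_mem (Y.mul_mem (Y.inv_mem hy') hy) hy'

theorem result {X : Type*} [Group X] [Finite X] (Y : Subgroup X) : Nat.card (ConjClasses Y) ≤ Y.index * Nat.card (ConjClasses X) ∧ Nat.card (ConjClasses X) ≤ Y.index * Nat.card (ConjClasses Y) ∧ (¬ Y.Normal → Nat.card (ConjClasses X) < Y.index * Nat.card (ConjClasses Y)) := by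
  classical
  haveI := Fintype.ofFinite X
  haveI : Fintype Y := Fintype.ofFinite Y
  have hcard : Nat.card Y * Y.index = Nat.card X := Y.card_mul_index
  have hYpos : 0 < Nat.card Y := Nat.card_pos
  have hXpos : 0 < Nat.card X := Nat.card_pos
  have hX := card_conjClasses_mul_card_eq_sum X
  have hY := sumY_eq Y
  have hmix := mixed_eq Y
  -- bound (b) pieces
  have hb1 : ∑ x : X, Nat.card {y : X // Commute x y} ≤
      Y.index * ∑ x : X, Nat.card {y : Y // Commute x (y : X)} := by
    rw [Finset.mul_sum]
    exact Finset.sum_le_sum (fun x _ => card_centralizer_le Y x)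
  have hb2 : ∑ y : Y, Nat.card {x : X // Commute (y : X) x} ≤
      Y.index * ∑ y : Y, Nat.card {y' : Y // Commute (y : X) (y' : X)} := by
    rw [Finset.mul_sum]
    exact Finset.sum_le_sum (fun y _ => card_centralizer_le Y (y : X))
  refine ⟨?_, ?_, ?_⟩
  · -- (a)
    have hinj : Nat.card {p : Y × Y // Commute p.1 p.2} ≤ Nat.card {p : X × X // Commute p.1 p.2} := by
      refine Nat.card_le_card_of_injective
        (fun p => ⟨⟨p.1.1, p.1.2⟩, congrArg Subtype.val p.2.eq⟩) ?_
      intro p q h
      simpa only [Subtype.ext_iff, Prod.ext_iff] using h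
    rw [card_comm_eq_card_conjClasses_mul_card, card_comm_eq_card_conjClasses_mul_card] at hinj
    have : Nat.card (ConjClasses Y) * Nat.card Y ≤ (Y.index * Nat.card (ConjClasses X)) * Nat.card Y := by
      calc Nat.card (ConjClasses Y) * Nat.card Y ≤ Nat.card (ConjClasses X) * Nat.card X := hinj
        _ = (Y.index * Nat.card (ConjClasses X)) * Nat.card Y := by rw [← hcard]; ring
    exact Nat.le_of_mul_le_mul_right this hYpos
  · -- (b)
    have : Nat.card (ConjClasses X) * Nat.card X ≤ (Y.index * Nat.card (ConjClasses Y)) * Nat.card X := by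
      calc Nat.card (ConjClasses X) * Nat.card X
          = ∑ x : X, Nat.card {y : X // Commute x y} := hX
        _ ≤ Y.index * ∑ x : X, Nat.card {y : Y // Commute x (y : X)} := hb1
        _ = Y.index * ∑ y : Y, Nat.card {x : X // Commute (y : X) x} := by rw [hmix]
        _ ≤ Y.index * (Y.index * ∑ y : Y, Nat.card {y' : Y // Commute (y : X) (y' : X)}) :=
            Nat.mul_le_mul_left _ hb2
        _ = Y.index * (Y.index * (Nat.card (ConjClasses Y) * Nat.card Y)) := by rw [hY]
        _ = (Y.index * Nat.card (ConjClasses Y)) * Nat.card X := by rw [← hcard]; ring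
    exact Nat.le_of_mul_le_mul_right this hXpos
  · intro hnn
    -- some y with strict inequality
    have hex : ∃ y : Y, Nat.card {x : X // Commute (y : X) x} <
        Y.index * Nat.card {y' : Y // Commute (y : X) (y' : X)} := by
      by_contra hcon
      push Not at hcon
      apply hnn
      apply normal_of_relIndex_eq
      intro y
      have h1 := hcon y
      have h2 := card_centralizer_le Y (y : X)
      have h3 := le_antisymm h2 h1
      rw [card_centralizer_eq_relIndex_mul Y (y : X)] at h3
      have hpos : 0 < Nat.card {y' : Y // Commute (y : X) (y' : X)} := by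
        haveI : Nonempty {y' : Y // Commute (y : X) (y' : X)} := ⟨⟨1, by simp⟩⟩
        exact Nat.card_pos
      exact Nat.eq_of_mul_eq_mul_right hpos h3
    have hb2' : ∑ y : Y, Nat.card {x : X // Commute (y : X) x} <
        Y.index * ∑ y : Y, Nat.card {y' : Y // Commute (y : X) (y' : X)} := by
      rw [Finset.mul_sum]
      obtain ⟨y₀, hy₀⟩ := hex
      exact Finset.sum_lt_sum (fun y _ => card_centralizer_le Y (y : X)) ⟨y₀, Finset.mem_univ _, hy₀⟩
    have hmpos : 0 < Y.index := Nat.pos_of_ne_zero Subgroup.index_ne_zero_of_finite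
    have : Nat.card (ConjClasses X) * Nat.card X < (Y.index * Nat.card (ConjClasses Y)) * Nat.card X := by
      calc Nat.card (ConjClasses X) * Nat.card X
          = ∑ x : X, Nat.card {y : X // Commute x y} := hX
        _ ≤ Y.index * ∑ x : X, Nat.card {y : Y // Commute x (y : X)} := hb1
        _ = Y.index * ∑ y : Y, Nat.card {x : X // Commute (y : X) x} := by rw [hmix]
        _ < Y.index * (Y.index * ∑ y : Y, Nat.card {y' : Y // Commute (y : X) (y' : X)}) :=
            Nat.mul_lt_mul_of_pos_left hb2' hmpos
        _ = Y.index * (Y.index * (Nat.card (ConjClasses Y) * Nat.card Y)) := by rw [hY]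
        _ = (Y.index * Nat.card (ConjClasses Y)) * Nat.card X := by rw [← hcard]; ring
    exact Nat.lt_of_mul_lt_mul_right this

end Cfsg.Agent.S4200
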