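import Cfsg.Statements.S4201
import Cfsg.Agent.Lib.Helper3.ClassNumber

set_option autoImplicit false
open Cfsg

namespace Cfsg.Agent.S4201

open Cfsg.Agent.Lib.Helper3

variable {X : Type*} [Group X]

theorem card_commute_in_subgroup (Y : Subgroup X) (y : Y) :
    Nat.card {y' : Y // Commute y y'} = Nat.card {y' : Y // Commute (y : X) (y' : X)} := by
  apply Nat.card_congr
  apply Equiv.subtypeEquivRight
  intro y'
  constructor
  · intro h
    exact congrArg Subtype.val h.eq
  · intro h
    exact Subtype.ext h.eq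

theorem sumY_eq (Y : Subgroup X) [Fintype Y] :
    Nat.card (ConjClasses Y) * Nat.card Y = ∑ y : Y, Nat.card {y' : Y // Commute (y : X) (y' : X)} := by
  rw [card_conjClasses_mul_card_eq_sum]
  exact Finset.sum_congr rfl (fun y _ => card_commute_in_subgroup Y y)

/-- T1 -/
theorem T1 [Finite X] (N : Subgroup X) [N.Normal] (x : X) :
    Nat.card {y : X // Commute x y} ≤
      Nat.card {r : X ⧸ N // Commute (x : X ⧸ N) r} * Nat.card {n : N // Commute x (n : X)} := by
  rw [card_centralizer_eq_relIndex_mul N x]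
  apply Nat.mul_le_mul_right
  have h1 : N.relIndex (Subgroup.centralizer ({x} : Set X)) =
      Nat.card ((Subgroup.centralizer ({x} : Set X)).map (QuotientGroup.mk' N)) := by
    have := Subgroup.relIndex_ker (QuotientGroup.mk' N) (K := Subgroup.centralizer ({x} : Set X))
    rwa [QuotientGroup.ker_mk'] at this
  rw [h1, card_commute_eq_card_centralizer]
  apply Subgroup.card_le_of_le
  rintro _ ⟨c, hc, rfl⟩
  have hc : c ∈ Subgroup.centralizer ({x} : Set X) := hc
  rw [Subgroup.mem_centralizer_singleton_iff] at hc ⊢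
  change (c : X ⧸ N) * (x : X ⧸ N) = (x : X ⧸ N) * (c : X ⧸ N)
  rw [← QuotientGroup.mk_mul, ← QuotientGroup.mk_mul, hc]

/-- T2, inner bound: elements of a coset commuting with `n` are at most `|C_N(n)|`. -/
theorem T2_inner [Finite X] (N : Subgroup X) [N.Normal] (q : X ⧸ N) (n : N) :
    Nat.card {x : {x : X // (x : X ⧸ N) = q} // Commute (x : X) (n : X)} ≤
      Nat.card {n' : N // Commute (n : X) (n' : X)} := by
  by_cases hne : Nonempty {x : {x : X // (x : X ⧸ N) = q} // Commute (x : X) (n : X)}
  · obtain ⟨⟨⟨x₀, hx₀q⟩, hx₀⟩⟩ := hne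
    refine Nat.card_le_card_of_injective
      (fun x => ⟨⟨x₀⁻¹ * (x.1.1 : X), ?_⟩, ?_⟩) ?_
    · have : ((x₀ : X) : X ⧸ N) = ((x.1.1 : X) : X ⧸ N) := by rw [hx₀q, x.1.2]
      exact QuotientGroup.eq.1 this
    · have h1 : Commute (x₀ : X) (n : X) := hx₀
      have h2 : Commute (x.1.1 : X) (n : X) := x.2
      exact (h1.inv_left.mul_left h2).symm
    · intro a b hab
      simp only [Subtype.mk.injEq, mul_right_inj] at hab
      exact Subtype.ext (Subtype.ext hab)
  · rw [not_nonempty_iff] at hne
    rw [Nat.card_of_isEmpty]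
    exact Nat.zero_le _

theorem T2 [Fintype X] (N : Subgroup X) [N.Normal] [Fintype N] (q : X ⧸ N)
    [Fintype {x : X // (x : X ⧸ N) = q}] :
    ∑ x : {x : X // (x : X ⧸ N) = q}, Nat.card {n : N // Commute (x : X) (n : X)} ≤
      Nat.card (ConjClasses N) * Nat.card N := by
  rw [sum_card_left_eq_sum_card_right, sumY_eq]
  exact Finset.sum_le_sum (fun n _ => T2_inner N q n)

theorem result {X : Type*} [Group X] [Finite X] (N : Subgroup X) [N.Normal] : Nat.card (ConjClasses X) ≤ Nat.card (ConjClasses N) * Nat.card (ConjClasses (X ⧸ N)) := by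
  classical
  haveI := Fintype.ofFinite X
  haveI : Fintype N := Fintype.ofFinite N
  haveI : Fintype (X ⧸ N) := Fintype.ofFinite _
  have hcard : Nat.card N * Nat.card (X ⧸ N) = Nat.card X := by
    rw [← Subgroup.index_eq_card]; exact N.card_mul_index
  have hXpos : 0 < Nat.card X := Nat.card_pos
  have hX := card_conjClasses_mul_card_eq_sum X
  have hQ := card_conjClasses_mul_card_eq_sum (X ⧸ N)
  have key : Nat.card (ConjClasses X) * Nat.card X ≤
      (Nat.card (ConjClasses N) * Nat.card (ConjClasses (X ⧸ N))) * Nat.card X := by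
    calc Nat.card (ConjClasses X) * Nat.card X
        = ∑ x : X, Nat.card {y : X // Commute x y} := hX
      _ ≤ ∑ x : X, Nat.card {r : X ⧸ N // Commute (x : X ⧸ N) r} *
            Nat.card {n : N // Commute x (n : X)} := Finset.sum_le_sum (fun x _ => T1 N x)
      _ = ∑ q : X ⧸ N, ∑ x : {x : X // (x : X ⧸ N) = q},
            Nat.card {r : X ⧸ N // Commute ((x : X) : X ⧸ N) r} *
            Nat.card {n : N // Commute (x : X) (n : X)} :=
          (Fintype.sum_fiberwise (fun x : X => (x : X ⧸ N)) _).symm
      _ = ∑ q : X ⧸ N, Nat.card {r : X ⧸ N // Commute q r} *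
            ∑ x : {x : X // (x : X ⧸ N) = q}, Nat.card {n : N // Commute (x : X) (n : X)} := by
          apply Finset.sum_congr rfl
          intro q _
          rw [Finset.mul_sum]
          apply Finset.sum_congr rfl
          intro x _
          rw [x.2]
      _ ≤ ∑ q : X ⧸ N, Nat.card {r : X ⧸ N // Commute q r} *
            (Nat.card (ConjClasses N) * Nat.card N) :=
          Finset.sum_le_sum (fun q _ => Nat.mul_le_mul_left _ (T2 N q))
      _ = (∑ q : X ⧸ N, Nat.card {r : X ⧸ N // Commute q r}) *
            (Nat.card (ConjClasses N) * Nat.card N) := by rw [Finset.sum_mul]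
      _ = (Nat.card (ConjClasses (X ⧸ N)) * Nat.card (X ⧸ N)) *
            (Nat.card (ConjClasses N) * Nat.card N) := by rw [hQ]
      _ = (Nat.card (ConjClasses N) * Nat.card (ConjClasses (X ⧸ N))) * Nat.card X := by
          rw [← hcard]; ring
  exact Nat.le_of_mul_le_mul_right key hXpos

end Cfsg.Agent.S4201
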