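import Cfsg.Statements.S4205

set_option autoImplicit false
open Cfsg

namespace Cfsg.Agent.S4205

theorem ucs_succ_le_normalizer {G : Type*} [Group G] (n : ℕ) (K : Subgroup G)
    (h : Subgroup.upperCentralSeries G n ≤ K) :
    Subgroup.upperCentralSeries G (n + 1) ≤ Subgroup.normalizer (K : Set G) := by
  have key : ∀ z ∈ Subgroup.upperCentralSeries G (n + 1), ∀ k ∈ K, z * k * z⁻¹ ∈ K := by
    intro z hz k hk
    rw [Subgroup.mem_upperCentralSeries_succ_iff] at hz
    have h1 : z * k * z⁻¹ * k⁻¹ ∈ K := h (hz k)
    have h2 := K.mul_mem h1 hk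
    simpa using h2
  intro z hz
  rw [Subgroup.mem_set_normalizer_iff]
  intro k
  constructor
  · exact fun hk => key z hz k hk
  · intro hk
    have := key z⁻¹ (Subgroup.inv_mem _ hz) _ hk
    simpa [mul_assoc] using this

theorem result {G : Type*} [Group G] [Finite G] (c : ℕ) (hG : Subgroup.upperCentralSeries G c = ⊤) (H : Subgroup G) : (fun K : Subgroup G => Subgroup.normalizer (K : Set G))^[c] H = ⊤ := by
  have key : ∀ n : ℕ, Subgroup.upperCentralSeries G n ≤
      (fun K : Subgroup G => Subgroup.normalizer (K : Set G))^[n] H := by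
    intro n
    induction n with
    | zero => simp
    | succ n ih =>
      rw [Function.iterate_succ_apply']
      exact ucs_succ_le_normalizer n _ ih
  exact top_le_iff.1 (hG ▸ key c)

end Cfsg.Agent.S4205
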