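import Cfsg.Statements.S4208
import Mathlib
import Cfsg.Agent.Lib.Helper3.AutElemAb
import Cfsg.Agent.Lib.Helper1.FrattiniP
import Cfsg.Agent.S4207

set_option autoImplicit false
open Cfsg
open scoped commutatorElement

namespace Cfsg.Agent.S4208

/-- Let `P` be a group of order `p^n` whose Frattini subgroup has index `p^r`. Then the order of the automorphism group of `P` divides `p^(r(n-r)) · (p^r - 1)(p^r - p) ⋯ (p^r - p^(r-1))`. -/
theorem result {P : Type*} [Group P] [Finite P] {p n r : ℕ} [Fact p.Prime] (hP : Nat.card P = p ^ n) (hr : (frattini P).index = p ^ r) : Nat.card (MulAut P) ∣ p ^ (r * (n - r)) * ∏ i ∈ Finset.range r, (p ^ r - p ^ i) := by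
  classical
  have hp : p.Prime := Fact.out
  have hPp : IsPGroup p P := IsPGroup.of_card hP
  set Φ := frattini P with hΦ
  have hchar : ∀ α : MulAut P, Φ.map (α : P →* P) = Φ := fun α =>
    (Subgroup.characteristic_iff_map_eq.1 (inferInstance : Φ.Characteristic)) α
  -- the induced action on the Frattini quotient
  let ρ : MulAut P →* MulAut (P ⧸ Φ) :=
    { toFun := fun α => QuotientGroup.congr Φ Φ α (hchar α)
      map_one' := by
        ext q
        obtain ⟨x, rfl⟩ := QuotientGroup.mk_surjective q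
        rfl
      map_mul' := fun α β => by
        ext q
        obtain ⟨x, rfl⟩ := QuotientGroup.mk_surjective q
        rfl }
  have hρ : ∀ (α : MulAut P) (x : P), ρ α (QuotientGroup.mk x) = QuotientGroup.mk (α x) :=
    fun α x => rfl
  -- the kernel
  have hker : Nat.card ρ.ker ∣ p ^ (r * (n - r)) := by
    apply Cfsg.Agent.S4207.result hP hr ρ.ker
    intro α hα x
    have h1 : ρ α (QuotientGroup.mk x) = QuotientGroup.mk x := by
      rw [MonoidHom.mem_ker.1 hα]; rfl
    rw [hρ] at h1
    have h2 : (α x)⁻¹ * x ∈ Φ := (QuotientGroup.eq (s := Φ)).1 h1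
    have h3 : α x * x⁻¹ = x * ((α x)⁻¹ * x)⁻¹ * x⁻¹ := by group
    rw [h3]
    exact (inferInstance : Φ.Normal).conj_mem _ (Φ.inv_mem h2) x
  -- the range
  have hquot : Nat.card (P ⧸ Φ) = p ^ r := by rw [← Subgroup.index_eq_card]; exact hr
  have hcomm : ∀ a b : P ⧸ Φ, a * b = b * a := by
    intro a b
    obtain ⟨x, rfl⟩ := QuotientGroup.mk_surjective a
    obtain ⟨y, rfl⟩ := QuotientGroup.mk_surjective b
    rw [← QuotientGroup.mk_mul, ← QuotientGroup.mk_mul]
    apply (QuotientGroup.eq (s := Φ)).2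
    have h1 : (x * y)⁻¹ * (y * x) = ⁅y⁻¹, x⁻¹⁆ := by
      rw [commutatorElement_def]; group
    rw [h1]
    apply Cfsg.Agent.Lib.Helper1.commutator_le_frattini_of_isPGroup p hPp
    exact Subgroup.commutator_mem_commutator (Subgroup.mem_top _) (Subgroup.mem_top _)
  have hexp : ∀ a : P ⧸ Φ, a ^ p = 1 := by
    intro a
    obtain ⟨x, rfl⟩ := QuotientGroup.mk_surjective a
    rw [← QuotientGroup.mk_pow, QuotientGroup.eq_one_iff]
    exact Cfsg.Agent.Lib.Helper1.pow_prime_mem_frattini_of_isPGroup p hPp x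
  have hrange : Nat.card ρ.range ∣ ∏ i ∈ Finset.range r, (p ^ r - p ^ i) := by
    apply dvd_trans (Subgroup.card_subgroup_dvd_card ρ.range)
    letI : CommGroup (P ⧸ Φ) := { (inferInstance : Group (P ⧸ Φ)) with mul_comm := hcomm }
    exact Cfsg.Agent.Lib.Helper3.card_mulAut_dvd_of_elementary p r hexp hquot
  have hcard : Nat.card (MulAut P) = Nat.card ρ.ker * Nat.card ρ.range := by
    rw [← Subgroup.card_mul_index ρ.ker, Subgroup.index_ker]
  rw [hcard]
  exact Nat.mul_dvd_mul hker hrange

end Cfsg.Agent.S4208
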