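import Cfsg.Statements.S4211
import Mathlib
import Cfsg.Agent.Lib.Helper3.QuatLift
import Cfsg.Agent.Lib.Helper3.CyclicSub
-- import your own Cfsg.Agent.* helpers here

set_option autoImplicit false
open Cfsg

namespace Cfsg.Agent.S4211

open Cfsg.Agent.Lib.Helper3
open Pointwise
variable {G : Type*} [Group G]


/-- In a Dedekind group the commutator of `x` and `y` lies in both cyclic subgroups. -/
theorem comm_mem (hn : ∀ H : Subgroup G, H.Normal) (x y : G) :
    x * y * x⁻¹ * y⁻¹ ∈ Subgroup.zpowers x ∧ x * y * x⁻¹ * y⁻¹ ∈ Subgroup.zpowers y := by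
  constructor
  · have h1 : y * x⁻¹ * y⁻¹ ∈ Subgroup.zpowers x :=
      (hn (Subgroup.zpowers x)).conj_mem _ (Subgroup.inv_mem _ (Subgroup.mem_zpowers x)) y
    have e : x * y * x⁻¹ * y⁻¹ = x * (y * x⁻¹ * y⁻¹) := by group
    rw [e]
    exact Subgroup.mul_mem _ (Subgroup.mem_zpowers x) h1
  · have h1 : x * y * x⁻¹ ∈ Subgroup.zpowers y :=
      (hn (Subgroup.zpowers y)).conj_mem _ (Subgroup.mem_zpowers y) x
    exact Subgroup.mul_mem _ h1 (Subgroup.inv_mem _ (Subgroup.mem_zpowers y))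


theorem commute_of_mem_zpowers {x c : G} (h : c ∈ Subgroup.zpowers x) : Commute c x := by
  obtain ⟨k, rfl⟩ := h
  exact (Commute.refl x).zpow_left k


/-- `y x^n y⁻¹ = c⁻ⁿ xⁿ` where `c = [x, y]` commutes with `x`. -/
theorem conj_zpow_formula (x y : G) (hc : Commute (x * y * x⁻¹ * y⁻¹) x) (n : ℤ) :
    y * x ^ n * y⁻¹ = ((x * y * x⁻¹ * y⁻¹)⁻¹) ^ n * x ^ n := by
  have h1 : y * x * y⁻¹ = (x * y * x⁻¹ * y⁻¹)⁻¹ * x := by group
  have h2 : Commute ((x * y * x⁻¹ * y⁻¹)⁻¹) x := hc.inv_left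
  calc y * x ^ n * y⁻¹ = (y * x * y⁻¹) ^ n := by rw [conj_zpow]
    _ = ((x * y * x⁻¹ * y⁻¹)⁻¹ * x) ^ n := by rw [h1]
    _ = ((x * y * x⁻¹ * y⁻¹)⁻¹) ^ n * x ^ n := h2.mul_zpow n


/-- Powers of a product in class two. -/
theorem pow_mul_comm_formula (u v d : G) (hdu : Commute d u) (hdv : Commute d v)
    (h : v * u = d * u * v) (n : ℕ) : v ^ n * u = d ^ n * u * v ^ n := by
  induction n with
  | zero => simp
  | succ n ih =>
    calc v ^ (n + 1) * u = v * (v ^ n * u) := by rw [pow_succ']; group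
      _ = v * (d ^ n * u * v ^ n) := by rw [ih]
      _ = d ^ n * (v * u) * v ^ n := by
        have : Commute v (d ^ n) := (hdv.symm).pow_right n
        rw [← mul_assoc, ← mul_assoc, this.eq]
        group
      _ = d ^ n * (d * u * v) * v ^ n := by rw [h]
      _ = d ^ (n + 1) * u * v ^ (n + 1) := by
        rw [pow_succ, pow_succ']; group


theorem mul_pow_class_two (u v d : G) (hdu : Commute d u) (hdv : Commute d v)
    (h : v * u = d * u * v) (n : ℕ) : (u * v) ^ n = d ^ (n.choose 2) * u ^ n * v ^ n := by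
  induction n with
  | zero => simp
  | succ n ih =>
    have h1 := pow_mul_comm_formula u v d hdu hdv h n
    have hc2 : (n + 1).choose 2 = n.choose 2 + n := by
      rw [Nat.choose_succ_succ' n 1, Nat.choose_one_right, add_comm]
    calc (u * v) ^ (n + 1) = (u * v) ^ n * (u * v) := pow_succ _ _
      _ = d ^ (n.choose 2) * u ^ n * v ^ n * (u * v) := by rw [ih]
      _ = d ^ (n.choose 2) * u ^ n * (v ^ n * u) * v := by group
      _ = d ^ (n.choose 2) * u ^ n * (d ^ n * u * v ^ n) * v := by rw [h1]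
      _ = d ^ (n.choose 2) * (u ^ n * d ^ n) * u * v ^ n * v := by group
      _ = d ^ (n.choose 2) * (d ^ n * u ^ n) * u * v ^ n * v := by
        have : Commute (u ^ n) (d ^ n) := ((hdu.symm).pow_left n).pow_right n
        rw [this.eq]
      _ = d ^ ((n + 1).choose 2) * u ^ (n + 1) * v ^ (n + 1) := by
        rw [hc2, pow_add, pow_succ, pow_succ]; group




/-- Divisibility of `choose (p ^ k) 2` by `p`. -/
theorem dvd_choose_two (p k : ℕ) (hp : p.Prime) (h : (p ≠ 2 ∧ 1 ≤ k) ∨ 2 ≤ k) :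
    p ∣ (p ^ k).choose 2 := by
  have h2 : (p ^ k).choose 2 * 2 = p ^ k * (p ^ k - 1) := by
    rw [Nat.choose_two_right]
    exact Nat.div_mul_cancel (Nat.even_mul_pred_self (p ^ k)).two_dvd
  by_cases hp2 : p = 2
  · have hk : 2 ≤ k := by
      rcases h with h | h
      · exact absurd hp2 h.1
      · exact h
    subst hp2
    obtain ⟨j, rfl⟩ : ∃ j, k = j + 2 := ⟨k - 2, by omega⟩
    have e : 2 ^ (j + 2) = 2 * (2 * 2 ^ j) := by ring
    rw [e] at h2
    have h3 : (2 * (2 * 2 ^ j)).choose 2 = (2 * 2 ^ j) * (2 * (2 * 2 ^ j) - 1) := by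
      have : (2 * (2 * 2 ^ j)).choose 2 * 2 = ((2 * 2 ^ j) * (2 * (2 * 2 ^ j) - 1)) * 2 := by
        rw [h2]; ring
      exact Nat.eq_of_mul_eq_mul_right (by norm_num) this
    rw [e, h3, mul_assoc]
    exact Dvd.intro _ rfl
  · have hk : 1 ≤ k := by
      rcases h with h | h
      · exact h.2
      · omega
    have h3 : p ∣ (p ^ k).choose 2 * 2 := by
      rw [h2]
      exact Dvd.dvd.mul_right (dvd_pow_self p (by omega)) _
    have hcop : Nat.Coprime p 2 := (Nat.coprime_primes hp Nat.prime_two).2 hp2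
    exact hcop.dvd_of_dvd_mul_right h3




/-- The subgroup of order `p` of a cyclic group of order `p ^ a` generated by `x`. -/
theorem zpowers_eq_of_orderOf [Finite G] (x c : G) (p a : ℕ) (hp : p.Prime) (ha : 1 ≤ a)
    (hx : orderOf x = p ^ a) (hc : orderOf c = p) (hcx : c ∈ Subgroup.zpowers x) :
    Subgroup.zpowers (x ^ p ^ (a - 1)) = Subgroup.zpowers c := by
  have ho : orderOf (x ^ p ^ (a - 1)) = p := by
    rw [orderOf_pow_of_dvd (pow_ne_zero _ hp.ne_zero) (by rw [hx]; exact pow_dvd_pow p (by omega)), hx]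
    have : p ^ a = p ^ (a - 1) * p := by rw [← pow_succ]; congr 1; omega
    rw [this, Nat.mul_div_cancel_left _ (pow_pos hp.pos _)]
  apply subgroup_eq_of_card_eq_of_le_isCyclic (Subgroup.zpowers x)
  · rw [Subgroup.zpowers_le]; exact Subgroup.pow_mem _ (Subgroup.mem_zpowers x) _
  · rw [Subgroup.zpowers_le]; exact hcx
  · rw [Nat.card_zpowers, Nat.card_zpowers, ho, hc]


/-- The descent step. -/
theorem descent [Finite G] (x y : G) (p a b : ℕ) (hp : p.Prime)
    (hcx : x * y * x⁻¹ * y⁻¹ ∈ Subgroup.zpowers x) (hcy : x * y * x⁻¹ * y⁻¹ ∈ Subgroup.zpowers y)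
    (hc : orderOf (x * y * x⁻¹ * y⁻¹) = p) (hx : orderOf x = p ^ a) (hy : orderOf y = p ^ b)
    (hb : 2 ≤ b) (hab : b ≤ a) (hcase : p ≠ 2 ∨ 3 ≤ b ∨ b < a) :
    ∃ u ∈ Subgroup.zpowers x, orderOf (u * y) < orderOf y ∧ x * (u * y) ≠ (u * y) * x := by
  set c := x * y * x⁻¹ * y⁻¹ with hcdef
  have hccx : Commute c x := commute_of_mem_zpowers hcx
  have hccy : Commute c y := commute_of_mem_zpowers hcy
  have h1 := zpowers_eq_of_orderOf x c p a hp (by omega) hx hc hcx
  have h2 := zpowers_eq_of_orderOf y c p b hp (by omega) hy hc hcy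
  have h3 : y ^ p ^ (b - 1) ∈ Subgroup.zpowers (x ^ p ^ (a - 1)) := by
    rw [h1, ← h2]; exact Subgroup.mem_zpowers _
  obtain ⟨j, hj⟩ := h3
  -- hj : (x ^ p ^ (a - 1)) ^ j = y ^ p ^ (b - 1)
  set t : ℤ := -j * (p ^ (a - b) : ℕ) with ht
  set u := x ^ t with hu
  have hun : u ^ p ^ (b - 1) = (y ^ p ^ (b - 1))⁻¹ := by
    have hj' : (x ^ p ^ (a - 1)) ^ j = y ^ p ^ (b - 1) := hj
    rw [← hj', hu, ← zpow_natCast, ← zpow_mul, ← zpow_natCast x, ← zpow_mul, ← zpow_neg]
    congr 1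
    rw [ht]
    have : (p ^ (a - 1) : ℕ) = (p ^ (a - b) : ℕ) * (p ^ (b - 1) : ℕ) := by
      rw [← pow_add]; congr 1; omega
    rw [this]
    push_cast
    ring
  refine ⟨u, ⟨t, rfl⟩, ?_, ?_⟩
  · -- the order drops
    set d := (c⁻¹) ^ t with hd
    have hdu : Commute d u := ((hccx.inv_left).zpow_left t).zpow_right t
    have hdy : Commute d y := (hccy.inv_left).zpow_left t
    have hyu : y * u = d * u * y := by
      have := conj_zpow_formula x y hccx t
      calc y * u = (y * x ^ t * y⁻¹) * y := by rw [hu]; group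
        _ = (c⁻¹ ^ t * x ^ t) * y := by rw [this]
        _ = d * u * y := rfl
    have hpow := mul_pow_class_two u y d hdu hdy hyu (p ^ (b - 1))
    have hd1 : d ^ (p ^ (b - 1)).choose 2 = 1 := by
      rw [hd, ← zpow_natCast, ← zpow_mul, inv_zpow, inv_eq_one]
      apply (orderOf_dvd_iff_zpow_eq_one).1
      rw [hc]
      rcases hcase with h | h | h
      · apply Dvd.dvd.mul_left
        exact Int.natCast_dvd_natCast.2 (dvd_choose_two p (b - 1) hp (Or.inl ⟨h, by omega⟩))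
      · apply Dvd.dvd.mul_left
        exact Int.natCast_dvd_natCast.2 (dvd_choose_two p (b - 1) hp (Or.inr (by omega)))
      · apply Dvd.dvd.mul_right
        rw [ht]
        apply Dvd.dvd.mul_left
        exact Int.natCast_dvd_natCast.2 (dvd_pow_self p (by omega))
    rw [hd1, one_mul, hun, inv_mul_cancel] at hpow
    have hdvd : orderOf (u * y) ∣ p ^ (b - 1) := orderOf_dvd_of_pow_eq_one hpow
    have hle : orderOf (u * y) ≤ p ^ (b - 1) := Nat.le_of_dvd (pow_pos hp.pos _) hdvd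
    rw [hy]
    exact lt_of_le_of_lt hle (Nat.pow_lt_pow_right hp.one_lt (by omega))
  · intro h
    have hux : Commute u x := (Commute.refl x).zpow_left t
    have h4 : x * y = y * x := by
      have : u * (x * y) = u * (y * x) := by
        calc u * (x * y) = x * (u * y) := by rw [← mul_assoc, hux.eq, mul_assoc]
          _ = u * y * x := h
          _ = u * (y * x) := mul_assoc _ _ _
      exact mul_left_cancel this
    have hc1 : c = 1 := by
      rw [hcdef, h4]; group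
    rw [hc1, orderOf_one] at hc
    exact hp.one_lt.ne hc




/-- If `x ^ q` commutes with `y` then the commutator has order dividing `q`. -/
theorem comm_pow_eq_one (x y : G) (hccx : Commute (x * y * x⁻¹ * y⁻¹) x) (q : ℕ)
    (h : x ^ q * y = y * x ^ q) : (x * y * x⁻¹ * y⁻¹) ^ q = 1 := by
  have h1 := conj_zpow_formula x y hccx (q : ℤ)
  rw [zpow_natCast, zpow_natCast] at h1
  have h2 : y * x ^ q * y⁻¹ = x ^ q := by rw [← h]; group
  rw [h2] at h1
  have h3 : ((x * y * x⁻¹ * y⁻¹)⁻¹) ^ q = 1 := by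
    have := mul_right_cancel (a := 1) (b := x ^ q) (c := ((x * y * x⁻¹ * y⁻¹)⁻¹) ^ q)
      (by rw [one_mul]; exact h1)
    exact this.symm
  rwa [inv_pow, inv_eq_one] at h3


/-- A minimal non-commuting pair has prime power orders. -/
theorem minimal_pair_orders [Finite G] (hn : ∀ H : Subgroup G, H.Normal) (H : Subgroup G)
    (x y : G) (hx : x ∈ H) (hy : y ∈ H) (hxy : x * y ≠ y * x)
    (hmin : ∀ x' ∈ H, ∀ y' ∈ H, x' * y' ≠ y' * x' →
      orderOf x + orderOf y ≤ orderOf x' + orderOf y') :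
    ∀ q : ℕ, q.Prime → q ∣ orderOf x → orderOf (x * y * x⁻¹ * y⁻¹) = q := by
  intro q hq hqx
  have hccx : Commute (x * y * x⁻¹ * y⁻¹) x := commute_of_mem_zpowers (comm_mem hn x y).1
  have hne : x * y * x⁻¹ * y⁻¹ ≠ 1 := by
    intro h
    apply hxy
    calc x * y = (x * y * x⁻¹ * y⁻¹) * (y * x) := by group
      _ = y * x := by rw [h, one_mul]
  have hcomm : x ^ q * y = y * x ^ q := by
    by_contra hcon
    have h1 := hmin (x ^ q) (H.pow_mem hx q) y hy hcon
    have hpos : 0 < orderOf x := orderOf_pos x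
    have h2 : orderOf (x ^ q) = orderOf x / q := orderOf_pow_of_dvd hq.ne_zero hqx
    have h3 : orderOf x / q < orderOf x := Nat.div_lt_self hpos hq.one_lt
    omega
  have h4 := comm_pow_eq_one x y hccx q hcomm
  have h5 : orderOf (x * y * x⁻¹ * y⁻¹) ∣ q := orderOf_dvd_of_pow_eq_one h4
  rcases (Nat.dvd_prime hq).1 h5 with h6 | h6
  · exact absurd (orderOf_eq_one_iff.1 h6) hne
  · exact h6




/-- Prime power order from a unique prime divisor. -/
theorem exists_eq_prime_pow (n p : ℕ) (hn : n ≠ 0) (h : ∀ q : ℕ, q.Prime → q ∣ n → q = p) :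
    ∃ a, n = p ^ a :=
  ⟨_, Nat.eq_prime_pow_of_unique_prime_dvd hn (fun {d} hd hdn => h d hd hdn)⟩


/-- In the minimal pair, the exponents are at least two. -/
theorem two_le_exponent [Finite G] (x y : G) (p b : ℕ) (hp : p.Prime)
    (hcx : x * y * x⁻¹ * y⁻¹ ∈ Subgroup.zpowers x) (hcy : x * y * x⁻¹ * y⁻¹ ∈ Subgroup.zpowers y)
    (hc : orderOf (x * y * x⁻¹ * y⁻¹) = p) (hy : orderOf y = p ^ b) (hxy : x * y ≠ y * x) :
    2 ≤ b := by
  by_contra hb
  have hb' : b = 0 ∨ b = 1 := by omega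
  rcases hb' with rfl | rfl
  · rw [pow_zero, orderOf_eq_one_iff] at hy
    rw [hy] at hxy
    simp at hxy
  · rw [pow_one] at hy
    have h1 : Subgroup.zpowers (x * y * x⁻¹ * y⁻¹) = Subgroup.zpowers y := by
      apply Subgroup.eq_of_le_of_card_ge
      · rw [Subgroup.zpowers_le]; exact hcy
      · rw [Nat.card_zpowers, Nat.card_zpowers, hc, hy]
    have h2 : y ∈ Subgroup.zpowers x := by
      have : y ∈ Subgroup.zpowers (x * y * x⁻¹ * y⁻¹) := by rw [h1]; exact Subgroup.mem_zpowers y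
      exact (Subgroup.zpowers_le.2 hcx) this
    exact hxy (commute_of_mem_zpowers h2).eq.symm


/-- An element of order `2` in a cyclic group of order `4` is the square of the generator. -/
theorem eq_sq_of_orderOf_two (x c : G) (hx : orderOf x = 4) (hc : orderOf c = 2)
    (hcx : c ∈ Subgroup.zpowers x) : c = x ^ 2 := by
  obtain ⟨k, hk⟩ := hcx
  have hk' : x ^ k = c := hk
  subst hk'
  have h1 := zpow_mod_orderOf x k
  rw [hx] at h1
  have h2 : 0 ≤ k % 4 := Int.emod_nonneg k (by norm_num)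
  have h3 : k % 4 < 4 := Int.emod_lt_of_pos k (by norm_num)
  rw [← h1] at hc ⊢
  obtain ⟨m, hm⟩ : ∃ m : ℕ, k % ((4 : ℕ) : ℤ) = m := ⟨(k % 4).toNat, by
    rw [Int.toNat_of_nonneg]; · rfl
    · exact h2⟩
  rw [hm, zpow_natCast] at hc ⊢
  have hm4 : m < 4 := by
    have : (m : ℤ) < 4 := by rw [← hm]; exact h3
    exact_mod_cast this
  interval_cases m
  · rw [pow_zero, orderOf_one] at hc; omega
  · rw [pow_one, hx] at hc; omega
  · rfl
  · have : orderOf (x ^ 3) = 4 := by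
      rw [orderOf_pow' x (by norm_num), hx]; norm_num
    rw [this] at hc; omega


theorem exists_quat_pair [Finite G] (hn : ∀ H : Subgroup G, H.Normal) (H : Subgroup G)
    (hH : ∃ x ∈ H, ∃ y ∈ H, x * y ≠ y * x) :
    ∃ x ∈ H, ∃ y ∈ H, orderOf x = 4 ∧ y * y = x ^ 2 ∧ y * x * y⁻¹ = x⁻¹ := by
  classical
  -- a minimal pair
  have hex : ∃ n : ℕ, ∃ x ∈ H, ∃ y ∈ H, x * y ≠ y * x ∧ orderOf x + orderOf y = n := by
    obtain ⟨x, hx, y, hy, hxy⟩ := hH
    exact ⟨_, x, hx, y, hy, hxy, rfl⟩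
  obtain ⟨x, hx, y, hy, hxy, hsum⟩ := Nat.find_spec hex
  have hmin : ∀ x' ∈ H, ∀ y' ∈ H, x' * y' ≠ y' * x' →
      orderOf x + orderOf y ≤ orderOf x' + orderOf y' := by
    intro x' hx' y' hy' hxy'
    rw [hsum]
    exact Nat.find_min' hex ⟨x', hx', y', hy', hxy', rfl⟩
  have hmin' : ∀ x' ∈ H, ∀ y' ∈ H, x' * y' ≠ y' * x' →
      orderOf y + orderOf x ≤ orderOf x' + orderOf y' := by
    intro x' hx' y' hy' hxy'
    rw [add_comm]; exact hmin x' hx' y' hy' hxy'
  set c := x * y * x⁻¹ * y⁻¹ with hcdef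
  obtain ⟨hcx, hcy⟩ := comm_mem hn x y
  have hcinv : y * x * y⁻¹ * x⁻¹ = c⁻¹ := by rw [hcdef]; group
  have hA := minimal_pair_orders hn H x y hx hy hxy hmin
  have hB := minimal_pair_orders hn H y x hy hx (Ne.symm hxy) hmin'
  rw [hcinv, orderOf_inv] at hB
  -- the prime
  have hx1 : orderOf x ≠ 1 := by
    intro h
    rw [orderOf_eq_one_iff] at h
    rw [h] at hxy; simp at hxy
  obtain ⟨p, hp, hpx⟩ := Nat.exists_prime_and_dvd hx1
  have hc : orderOf c = p := hA p hp hpx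
  obtain ⟨a, ha⟩ := exists_eq_prime_pow (orderOf x) p (orderOf_pos x).ne'
    (fun q hq hqx => by rw [← hA q hq hqx, hc])
  obtain ⟨b, hb⟩ := exists_eq_prime_pow (orderOf y) p (orderOf_pos y).ne'
    (fun q hq hqy => by rw [← hB q hq hqy, hc])
  have hb2 : 2 ≤ b := two_le_exponent x y p b hp hcx hcy hc hb hxy
  have hcx' : y * x * y⁻¹ * x⁻¹ ∈ Subgroup.zpowers y := by
    rw [hcinv]; exact Subgroup.inv_mem _ hcy
  have hcy' : y * x * y⁻¹ * x⁻¹ ∈ Subgroup.zpowers x := by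
    rw [hcinv]; exact Subgroup.inv_mem _ hcx
  have hc' : orderOf (y * x * y⁻¹ * x⁻¹) = p := by rw [hcinv, orderOf_inv]; exact hc
  have ha2 : 2 ≤ a := two_le_exponent y x p a hp hcx' hcy' hc' ha (Ne.symm hxy)
  -- `a ≥ b`
  have hab : b ≤ a := by
    by_contra hlt
    push Not at hlt
    obtain ⟨u, hu, hord, hne⟩ := descent y x p b a hp hcx' hcy' hc' hb ha ha2 hlt.le
      (Or.inr (Or.inr hlt))
    have huH : u ∈ H := (Subgroup.zpowers_le.2 hy) hu
    have := hmin (u * x) (H.mul_mem huH hx) y hy (Ne.symm hne)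
    omega
  have hcase : ¬ (p ≠ 2 ∨ 3 ≤ b ∨ b < a) := by
    intro hcase
    obtain ⟨u, hu, hord, hne⟩ := descent x y p a b hp hcx hcy hc ha hb hb2 hab hcase
    have huH : u ∈ H := (Subgroup.zpowers_le.2 hx) hu
    have := hmin x hx (u * y) (H.mul_mem huH hy) hne
    omega
  push Not at hcase
  obtain ⟨hp2, hb3, hab'⟩ := hcase
  have hbe : b = 2 := by omega
  have hae : a = 2 := by omega
  subst hp2 hbe hae
  have hx4 : orderOf x = 4 := by rw [ha]; norm_num
  have hy4 : orderOf y = 4 := by rw [hb]; norm_num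
  have hcx2 : c = x ^ 2 := eq_sq_of_orderOf_two x c hx4 hc hcx
  have hcy2 : c = y ^ 2 := eq_sq_of_orderOf_two y c hy4 hc hcy
  refine ⟨x, hx, y, hy, hx4, ?_, ?_⟩
  · rw [← hcx2, hcy2, pow_two]
  · have h1 : y * x * y⁻¹ = c⁻¹ * x := by rw [hcdef]; group
    rw [h1, hcx2]
    have hx4' : x ^ 4 = 1 := by rw [← hx4]; exact pow_orderOf_eq_one x
    have : (x ^ 2)⁻¹ = x ^ 2 := by
      rw [inv_eq_iff_mul_eq_one, ← pow_add]; exact hx4'
    rw [this]
    have : x ^ 2 * x = x ^ 3 := by rw [← pow_succ]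
    rw [this, eq_inv_iff_mul_eq_one, ← pow_succ]
    exact hx4'




/-- Reduction of an integer power modulo four. -/
theorem zpow_cases_four (w : G) (hw : w ^ 4 = 1) (k : ℤ) :
    w ^ k = 1 ∨ w ^ k = w ∨ w ^ k = w ^ 2 ∨ w ^ k = w ^ 3 := by
  have h1 := zpow_eq_zpow_emod' k hw
  have h2 : 0 ≤ k % ((4 : ℕ) : ℤ) := Int.emod_nonneg k (by norm_num)
  have h3 : k % ((4 : ℕ) : ℤ) < 4 := Int.emod_lt_of_pos k (by norm_num)
  obtain ⟨m, hm⟩ : ∃ m : ℕ, k % ((4 : ℕ) : ℤ) = m := ⟨(k % ((4 : ℕ) : ℤ)).toNat, by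
    rw [Int.toNat_of_nonneg h2]⟩
  rw [hm, zpow_natCast] at h1
  have hm4 : m < 4 := by
    have : (m : ℤ) < 4 := by rw [← hm]; exact h3
    exact_mod_cast this
  rw [h1]
  interval_cases m
  · left; exact pow_zero w
  · right; left; exact pow_one w
  · right; right; left; rfl
  · right; right; right; rfl


/-- Conjugates of an element of order four in a Dedekind group. -/
theorem conj_eq_or_inv (hn : ∀ H : Subgroup G, H.Normal) (x : G) (hx : orderOf x = 4) (g : G) :
    g * x * g⁻¹ = x ∨ g * x * g⁻¹ = x⁻¹ := by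
  have h1 : g * x * g⁻¹ ∈ Subgroup.zpowers x :=
    (hn (Subgroup.zpowers x)).conj_mem _ (Subgroup.mem_zpowers x) g
  have ho : orderOf (g * x * g⁻¹) = 4 := by
    have := orderOf_injective (MulAut.conj g).toMonoidHom (MulAut.conj g).injective x
    rw [← hx, ← this]
    rfl
  have hx4 : x ^ 4 = 1 := by rw [← hx]; exact pow_orderOf_eq_one x
  obtain ⟨k, hk⟩ := h1
  have hk' : x ^ k = g * x * g⁻¹ := hk
  rcases zpow_cases_four x hx4 k with h | h | h | h
  · rw [← hk', h, orderOf_one] at ho; omega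
  · left; rw [← hk', h]
  · rw [← hk', h, orderOf_pow' x (by norm_num), hx] at ho
    norm_num at ho
  · right
    rw [← hk', h, eq_inv_iff_mul_eq_one, ← pow_succ]
    exact hx4


/-- Relations in the quaternion pair. -/
theorem quat_relations (x y : G) (hx : orderOf x = 4) (hyy : y * y = x ^ 2)
    (hyx : y * x * y⁻¹ = x⁻¹) :
    x ^ 4 = 1 ∧ x ^ 2 ≠ 1 ∧ y ^ 4 = 1 ∧ x * y * x⁻¹ = y⁻¹ ∧ x * y * x⁻¹ * y⁻¹ = x ^ 2 ∧
      x * y ≠ y * x := by
  have hx4 : x ^ 4 = 1 := by rw [← hx]; exact pow_orderOf_eq_one x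
  have hx2 : x ^ 2 ≠ 1 := by
    intro h
    have := orderOf_dvd_of_pow_eq_one h
    rw [hx] at this
    norm_num at this
  have hy4 : y ^ 4 = 1 := by
    have : y ^ 4 = (y * y) * (y * y) := by simp [pow_succ, mul_assoc]
    rw [this, hyy, ← pow_add]; exact hx4
  have h1 : x * y * x⁻¹ = y⁻¹ := by
    have e1 : y * x⁻¹ * y⁻¹ = x := by
      have := congrArg (fun z => z⁻¹) hyx
      simp only [mul_inv_rev, inv_inv] at this
      rw [← mul_assoc] at this
      exact this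
    have e2 : y * x⁻¹ = x * y := by
      calc y * x⁻¹ = (y * x⁻¹ * y⁻¹) * y := by group
        _ = x * y := by rw [e1]
    calc x * y * x⁻¹ = x * (y * x⁻¹) := by group
      _ = x * (x * y) := by rw [e2]
      _ = x ^ 2 * y := by simp [pow_succ, mul_assoc]
      _ = y * y * y := by rw [hyy]
      _ = y ^ 4 * y⁻¹ := by simp [pow_succ, mul_assoc]
      _ = y⁻¹ := by rw [hy4, one_mul]
  refine ⟨hx4, hx2, hy4, h1, ?_, ?_⟩
  · rw [h1]
    have : y⁻¹ * y⁻¹ = (y * y)⁻¹ := by group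
    rw [this, hyy, inv_eq_iff_mul_eq_one, ← pow_add]
    exact hx4
  · intro h
    have : y * x * y⁻¹ = x := by rw [← h]; group
    rw [hyx] at this
    apply hx2
    calc x ^ 2 = x * x := pow_two x
      _ = x⁻¹ * x := by rw [this]
      _ = 1 := inv_mul_cancel x


/-- Elements of the centralizer of the quaternion pair have no order four. -/
theorem sq_eq_one_of_centralizer (hn : ∀ H : Subgroup G, H.Normal) (x y : G)
    (hx : orderOf x = 4) (hyy : y * y = x ^ 2) (hyx : y * x * y⁻¹ = x⁻¹)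
    (g : G) (hgx : g * x = x * g) (hgy : g * y = y * g) (hg4 : g ^ 4 = 1) : g ^ 2 = 1 := by
  obtain ⟨hx4, hx2, hy4, h1, hc, hxy⟩ := quat_relations x y hx hyy hyx
  set w := g * y with hw
  have hcw : x * w * x⁻¹ * w⁻¹ = x ^ 2 := by
    rw [← hc, hw]
    have e : x * (g * y) * x⁻¹ * (g * y)⁻¹ = g * (x * y * x⁻¹ * y⁻¹) * g⁻¹ := by
      have : x * g = g * x := hgx.symm
      calc x * (g * y) * x⁻¹ * (g * y)⁻¹ = (x * g) * y * x⁻¹ * y⁻¹ * g⁻¹ := by group
        _ = (g * x) * y * x⁻¹ * y⁻¹ * g⁻¹ := by rw [this]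
        _ = g * (x * y * x⁻¹ * y⁻¹) * g⁻¹ := by group
    rw [e, hc]
    have hg2 : Commute g (x ^ 2) := (show Commute g x from hgx).pow_right 2
    rw [hg2.eq]; group
  have hmem := (comm_mem hn x w).2
  rw [hcw] at hmem
  have hw4 : w ^ 4 = 1 := by
    rw [hw, (show Commute g y from hgy).mul_pow, hg4, hy4, one_mul]
  have hw2 : w ^ 2 = g ^ 2 * x ^ 2 := by
    rw [hw, (show Commute g y from hgy).mul_pow, pow_two y, hyy]
  have hxw : x * w ≠ w * x := by
    intro h
    apply hx2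
    rw [← hcw, h]; group
  obtain ⟨k, hk⟩ := hmem
  have hk' : w ^ k = x ^ 2 := hk
  have hcomm2 : Commute (x ^ 2) x := (Commute.refl x).pow_left 2
  rcases zpow_cases_four w hw4 k with h | h | h | h
  · rw [h] at hk'; exact absurd hk'.symm hx2
  · rw [h] at hk'
    exfalso; apply hxw
    rw [hk']; exact hcomm2.eq.symm
  · rw [h, hw2] at hk'
    exact mul_right_cancel (b := x ^ 2) (by rw [hk', one_mul])
  · rw [h] at hk'
    exfalso; apply hxw
    have hw9 : w = (w ^ 3) ^ 3 := by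
      rw [← pow_mul]
      have : w ^ (3 * 3) = w ^ 4 * w ^ 4 * w := by simp [pow_succ, mul_assoc]
      rw [this, hw4, one_mul, one_mul]
    have : Commute (w ^ 3) x := by rw [hk']; exact hcomm2
    have h2 : Commute w x := by rw [hw9]; exact this.pow_left 3
    exact h2.eq.symm




/-- Elements of a commutative subgroup killed by `k`. -/
def powKer (C : Subgroup G) (hC : ∀ u ∈ C, ∀ v ∈ C, u * v = v * u) (k : ℕ) : Subgroup G where
  carrier := {g | g ∈ C ∧ g ^ k = 1}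
  one_mem' := ⟨C.one_mem, one_pow k⟩
  mul_mem' := by
    rintro a b ⟨ha, ha'⟩ ⟨hb, hb'⟩
    refine ⟨C.mul_mem ha hb, ?_⟩
    rw [(show Commute a b from hC a ha b hb).mul_pow, ha', hb', one_mul]
  inv_mem' := by
    rintro a ⟨ha, ha'⟩
    exact ⟨C.inv_mem ha, by rw [inv_pow, ha', inv_one]⟩


theorem mem_powKer (C : Subgroup G) (hC : ∀ u ∈ C, ∀ v ∈ C, u * v = v * u) (k : ℕ) (g : G) :
    g ∈ powKer C hC k ↔ g ∈ C ∧ g ^ k = 1 := Iff.rfl


/-- A complement to an involution in an elementary abelian `2`-subgroup of a Dedekind group. -/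
theorem exists_complement_of_involution [Finite G] (hn : ∀ H : Subgroup G, H.Normal)
    (E₁ : Subgroup G) (hE₁ : ∀ g ∈ E₁, g ^ 2 = 1) (c : G) (hc1 : c ≠ 1) :
    ∃ E : Subgroup G, E ≤ E₁ ∧ c ∉ E ∧ ∀ e₁ ∈ E₁, e₁ ∈ E ∨ c * e₁ ∈ E := by
  have hfin : {E : Subgroup G | E ≤ E₁ ∧ c ∉ E}.Finite := Set.toFinite _
  have hne : {E : Subgroup G | E ≤ E₁ ∧ c ∉ E}.Nonempty :=
    ⟨⊥, bot_le, fun h => hc1 (Subgroup.mem_bot.1 h)⟩
  obtain ⟨E, ⟨hEle, hcE⟩, hmax⟩ := hfin.exists_maximal hne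
  refine ⟨E, hEle, hcE, ?_⟩
  intro e₁ he₁
  by_cases hcE' : c ∈ E ⊔ Subgroup.zpowers e₁
  · right
    haveI := hn (Subgroup.zpowers e₁)
    have hmem : c ∈ ((E ⊔ Subgroup.zpowers e₁ : Subgroup G) : Set G) := hcE'
    rw [Subgroup.mul_normal] at hmem
    obtain ⟨f, hf, z, ⟨k, hk⟩, hfz⟩ := hmem
    have hk' : e₁ ^ k = z := hk
    have hfz' : f * z = c := hfz
    have he2 : e₁ ^ 2 = 1 := hE₁ e₁ he₁
    have h1 := zpow_eq_zpow_emod' k he2
    have h2 : 0 ≤ k % ((2 : ℕ) : ℤ) := Int.emod_nonneg k (by norm_num)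
    have h3 : k % ((2 : ℕ) : ℤ) < 2 := Int.emod_lt_of_pos k (by norm_num)
    have h4 : k % ((2 : ℕ) : ℤ) = 0 ∨ k % ((2 : ℕ) : ℤ) = 1 := by omega
    rcases h4 with h4 | h4
    · rw [h4, zpow_zero] at h1
      rw [← hk', h1, mul_one] at hfz'
      rw [hfz'] at hf
      exact absurd hf hcE
    · rw [h4, zpow_one] at h1
      rw [← hk', h1] at hfz'
      rw [← hfz', mul_assoc, ← pow_two, he2, mul_one]
      exact hf
  · left
    have hmem : E ⊔ Subgroup.zpowers e₁ ∈ {E : Subgroup G | E ≤ E₁ ∧ c ∉ E} :=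
      ⟨sup_le hEle (Subgroup.zpowers_le.2 he₁), hcE'⟩
    have := hmax hmem le_sup_left
    exact this (le_sup_right (a := E) (Subgroup.mem_zpowers e₁))


/-- No elements of order four implies exponent two on `2`-elements. -/
theorem sq_eq_one_of_two_pow (C : Subgroup G) (hCsq : ∀ g ∈ C, g ^ 4 = 1 → g ^ 2 = 1) :
    ∀ e : ℕ, ∀ h ∈ C, h ^ 2 ^ e = 1 → h ^ 2 = 1 := by
  intro e
  induction e with
  | zero =>
    intro h _ hh
    rw [pow_zero, pow_one] at hh
    rw [hh, one_pow]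
  | succ e ih =>
    intro h hhC hh
    rcases Nat.eq_zero_or_pos e with he | he
    · subst he
      simpa using hh
    · obtain ⟨e', rfl⟩ : ∃ e', e = e' + 1 := ⟨e - 1, by omega⟩
      have h1 : (h ^ 2 ^ e') ^ 4 = 1 := by
        rw [← pow_mul]
        have : 2 ^ e' * 4 = 2 ^ (e' + 1 + 1) := by ring
        rw [this]; exact hh
      have h2 := hCsq _ (C.pow_mem hhC _) h1
      apply ih h hhC
      rw [← pow_mul] at h2
      have : 2 ^ e' * 2 = 2 ^ (e' + 1) := by ring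
      rw [this] at h2
      exact h2




/-- Every element is a product of an element of `{1, x, y, y x}` and a centralizing element. -/
theorem decomp (hn : ∀ H : Subgroup G, H.Normal) (x y : G) (hx : orderOf x = 4)
    (hyy : y * y = x ^ 2) (hyx : y * x * y⁻¹ = x⁻¹) (g : G) :
    ∃ q : G, (q = 1 ∨ q = x ∨ q = y ∨ q = y * x) ∧ (q⁻¹ * g) * x = x * (q⁻¹ * g) ∧
      (q⁻¹ * g) * y = y * (q⁻¹ * g) := by
  obtain ⟨hx4, hx2, hy4, h1, hc, hxy⟩ := quat_relations x y hx hyy hyx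
  have hy : orderOf y = 4 := by
    have hd : orderOf y ∣ 4 := orderOf_dvd_of_pow_eq_one hy4
    have hy2 : y ^ 2 ≠ 1 := by rw [pow_two, hyy]; exact hx2
    have h4 : (4 : ℕ) = 2 ^ 2 := by norm_num
    rw [h4] at hd
    obtain ⟨k, hk, hk'⟩ := (Nat.dvd_prime_pow Nat.prime_two).1 hd
    interval_cases k
    · rw [pow_zero, orderOf_eq_one_iff] at hk'
      rw [hk', one_pow] at hy2; exact absurd rfl hy2
    · exfalso; apply hy2
      rw [pow_one] at hk'
      rw [← hk']; exact pow_orderOf_eq_one y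
    · rw [hk']; norm_num
  -- a general principle
  have key : ∀ q : G, g * x * g⁻¹ = q * x * q⁻¹ → g * y * g⁻¹ = q * y * q⁻¹ →
      (q⁻¹ * g) * x = x * (q⁻¹ * g) ∧ (q⁻¹ * g) * y = y * (q⁻¹ * g) := by
    intro q hqx hqy
    constructor
    · calc q⁻¹ * g * x = q⁻¹ * (g * x * g⁻¹) * g := by group
        _ = q⁻¹ * (q * x * q⁻¹) * g := by rw [hqx]
        _ = x * (q⁻¹ * g) := by group
    · calc q⁻¹ * g * y = q⁻¹ * (g * y * g⁻¹) * g := by group
        _ = q⁻¹ * (q * y * q⁻¹) * g := by rw [hqy]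
        _ = y * (q⁻¹ * g) := by group
  have hyxy : y * x * y * (y * x)⁻¹ = y⁻¹ := by
    calc y * x * y * (y * x)⁻¹ = y * (x * y * x⁻¹) * y⁻¹ := by group
      _ = y * y⁻¹ * y⁻¹ := by rw [h1]
      _ = y⁻¹ := by group
  have hyxx : y * x * x * (y * x)⁻¹ = x⁻¹ := by
    calc y * x * x * (y * x)⁻¹ = y * x * y⁻¹ := by group
      _ = x⁻¹ := hyx
  rcases conj_eq_or_inv hn x hx g with hgx | hgx <;> rcases conj_eq_or_inv hn y hy g with hgy | hgy
  · exact ⟨1, Or.inl rfl, key 1 (by rw [hgx]; group) (by rw [hgy]; group)⟩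
  · exact ⟨x, Or.inr (Or.inl rfl), key x (by rw [hgx]; group) (by rw [hgy, h1])⟩
  · exact ⟨y, Or.inr (Or.inr (Or.inl rfl)), key y (by rw [hgx, hyx]) (by rw [hgy]; group)⟩
  · exact ⟨y * x, Or.inr (Or.inr (Or.inr rfl)), key (y * x) (by rw [hgx, hyxx]) (by rw [hgy, hyxy])⟩




/-- An element killed by `2` and by an odd number is trivial. -/
theorem eq_one_of_sq_of_odd_pow (g : G) (m : ℕ) (hm : Odd m) (h2 : g ^ 2 = 1) (hgm : g ^ m = 1) :
    g = 1 := by
  obtain ⟨k, rfl⟩ := hm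
  rw [pow_succ, pow_mul, h2, one_pow, one_mul] at hgm
  exact hgm


theorem main [Finite G] (hna : ¬ IsMulCommutative G) (hn : ∀ H : Subgroup G, H.Normal) :
    ∃ Q E A : Subgroup G, Nonempty (Q ≃* QuaternionGroup 2) ∧ Cfsg.IsElementaryAbelian 2 E ∧
      IsMulCommutative A ∧ Odd (Nat.card A) ∧ E ⊓ A = ⊥ ∧ Q ⊓ (E ⊔ A) = ⊥ ∧
      Q ⊔ (E ⊔ A) = ⊤ := by
  have hH : ∃ x ∈ (⊤ : Subgroup G), ∃ y ∈ (⊤ : Subgroup G), x * y ≠ y * x := by
    by_contra hcon
    push Not at hcon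
    exact hna ⟨⟨fun a b => hcon a trivial b trivial⟩⟩
  obtain ⟨x, -, y, -, hx, hyy, hyx⟩ := exists_quat_pair hn ⊤ hH
  obtain ⟨hx4, hx2, hy4, h1, hc, hxy⟩ := quat_relations x y hx hyy hyx
  have hA : x ^ (2 * 2) = 1 := hx4
  set φ := quatLift 2 x y hA hyy hyx with hφ
  have hφinj : Function.Injective φ := by
    rw [injective_iff_map_eq_one]
    rintro (i | i) hq
    · rw [hφ, quatLift_a] at hq
      unfold zmodPw at hq
      have h2 : orderOf x ∣ i.val := orderOf_dvd_of_pow_eq_one hq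
      rw [hx] at h2
      have hlt : i.val < 2 * 2 := ZMod.val_lt i
      have h3 : i.val = 0 := Nat.eq_zero_of_dvd_of_lt h2 (by omega)
      have h4 : i = 0 := (ZMod.val_eq_zero i).1 h3
      rw [h4]; rfl
    · exfalso
      rw [hφ, quatLift_xa] at hq
      unfold zmodPw at hq
      apply hxy
      have hy : y = (x ^ i.val)⁻¹ := eq_inv_of_mul_eq_one_left hq
      rw [hy]
      exact (((Commute.refl x).pow_right i.val).inv_right).eq
  set Q := φ.range with hQ
  have hQx : x ∈ Q := ⟨QuaternionGroup.a ((1 : ℕ) : ZMod (2 * 2)), by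
    rw [hφ, quatLift_a_natCast, pow_one]⟩
  have hQy : y ∈ Q := ⟨QuaternionGroup.xa 0, by
    rw [hφ, quatLift_xa, zmodPw_zero, mul_one]⟩
  set C := Subgroup.centralizer ({x, y} : Set G) with hC
  have hCmem : ∀ g : G, g ∈ C ↔ g * x = x * g ∧ g * y = y * g := by
    intro g
    rw [hC, Subgroup.mem_centralizer_iff]
    constructor
    · intro h
      exact ⟨(h x (by simp)).symm, (h y (by simp)).symm⟩
    · rintro ⟨h1, h2⟩ z hz
      rcases hz with rfl | rfl
      · exact h1.symm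
      · exact h2.symm
  have hCsq : ∀ g ∈ C, g ^ 4 = 1 → g ^ 2 = 1 := by
    intro g hg hg4
    obtain ⟨hgx, hgy⟩ := (hCmem g).1 hg
    exact sq_eq_one_of_centralizer hn x y hx hyy hyx g hgx hgy hg4
  have hCcomm : ∀ u ∈ C, ∀ v ∈ C, u * v = v * u := by
    intro u hu v hv
    by_contra huv
    obtain ⟨x', hx', y', hy', hx'4, -, -⟩ := exists_quat_pair hn C ⟨u, hu, v, hv, huv⟩
    have h4 : x' ^ 4 = 1 := by rw [← hx'4]; exact pow_orderOf_eq_one x'
    have h2 := hCsq x' hx' h4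
    have := orderOf_dvd_of_pow_eq_one h2
    rw [hx'4] at this
    norm_num at this
  obtain ⟨e, m, hm, hcard⟩ := Nat.exists_eq_two_pow_mul_odd (n := Nat.card G) Nat.card_pos.ne'
  have hexp : ∀ g ∈ C, g ^ (2 * m) = 1 := by
    intro g hg
    have h2 : (g ^ m) ^ 2 ^ e = 1 := by
      rw [← pow_mul, mul_comm, ← hcard]; exact pow_card_eq_one'
    have := sq_eq_one_of_two_pow C hCsq e (g ^ m) (C.pow_mem hg m) h2
    rw [← pow_mul, mul_comm] at this
    exact this
  set E₁ := powKer C hCcomm 2 with hE₁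
  set A := powKer C hCcomm m with hAdef
  have hcC : x ^ 2 ∈ C := by
    rw [hCmem]
    constructor
    · exact ((Commute.refl x).pow_left 2).eq
    · rw [← hyy]; simp [mul_assoc]
  have hcE₁ : x ^ 2 ∈ E₁ := ⟨hcC, by rw [← pow_mul]; exact hx4⟩
  obtain ⟨E, hEle, hcE, hEc⟩ := exists_complement_of_involution hn E₁ (fun g hg => hg.2) (x ^ 2) hx2
  have hEC : E ≤ C := fun g hg => (hEle hg).1
  have hAC : A ≤ C := fun g hg => hg.1
  refine ⟨Q, E, A, ⟨(MonoidHom.ofInjective hφinj).symm⟩, ?_, ?_, ?_, ?_, ?_, ?_⟩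
  · exact ⟨⟨⟨fun a b => Subtype.ext (hCcomm a (hEC a.2) b (hEC b.2))⟩⟩, fun a ha => (hEle ha).2⟩
  · exact ⟨⟨fun a b => Subtype.ext (hCcomm a (hAC a.2) b (hAC b.2))⟩⟩
  · by_contra hodd
    rw [Nat.not_odd_iff_even] at hodd
    haveI : Fact (Nat.Prime 2) := ⟨Nat.prime_two⟩
    obtain ⟨g, hg⟩ := exists_prime_orderOf_dvd_card' 2 hodd.two_dvd
    have hg' : orderOf (g : G) = 2 := by
      rw [← hg]; exact orderOf_injective A.subtype A.subtype_injective g
    have h2 : (g : G) ^ m = 1 := g.2.2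
    have := orderOf_dvd_of_pow_eq_one h2
    rw [hg'] at this
    exact (Nat.not_even_iff_odd.2 hm) (even_iff_two_dvd.2 this)
  · rw [eq_bot_iff]
    rintro g ⟨hgE, hgA⟩
    rw [Subgroup.mem_bot]
    exact eq_one_of_sq_of_odd_pow g m hm (hEle hgE).2 hgA.2
  · rw [eq_bot_iff]
    rintro g ⟨hgQ, hgEA⟩
    rw [Subgroup.mem_bot]
    have hgC : g ∈ C := (sup_le hEC hAC) hgEA
    obtain ⟨hgx, hgy⟩ := (hCmem g).1 hgC
    obtain ⟨q, hq⟩ := hgQ
    have hq' : φ q = g := hq
    -- `g` is `1` or `x ^ 2`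
    have hg12 : g = 1 ∨ g = x ^ 2 := by
      rcases q with i | i
      · rw [hφ, quatLift_a] at hq'
        unfold zmodPw at hq'
        have hlt : i.val < 2 * 2 := ZMod.val_lt i
        obtain ⟨k, hk⟩ : ∃ k, i.val = k := ⟨_, rfl⟩
        rw [hk] at hq' hlt
        have hk4 : k < 4 := by omega
        interval_cases k
        · left; rw [← hq', pow_zero]
        · exfalso; apply hxy
          rw [pow_one] at hq'
          rw [hq']; exact hgy
        · right; exact hq'.symm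
        · exfalso; apply hxy
          have h3 : x = g ^ 3 := by
            rw [← hq', ← pow_mul]
            have : x ^ (3 * 3) = x ^ 4 * x ^ 4 * x := by simp [pow_succ, mul_assoc]
            rw [this, hx4, one_mul, one_mul]
          rw [h3]
          exact ((show Commute g y from hgy).pow_left 3).eq
      · exfalso; apply hxy
        rw [hφ, quatLift_xa] at hq'
        unfold zmodPw at hq'
        have hxk : Commute (x ^ i.val) x := (Commute.refl x).pow_left _
        have h5 : y * x * x ^ i.val = x * y * x ^ i.val := by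
          calc y * x * x ^ i.val = (y * x ^ i.val) * x := by
                rw [mul_assoc, ← hxk.eq, ← mul_assoc]
            _ = g * x := by rw [hq']
            _ = x * g := hgx
            _ = x * y * x ^ i.val := by rw [← hq', mul_assoc]
        exact (mul_right_cancel h5).symm
    rcases hg12 with h | h
    · exact h
    · exfalso
      haveI := hn A
      have hmem : g ∈ ((E ⊔ A : Subgroup G) : Set G) := hgEA
      rw [Subgroup.mul_normal] at hmem
      obtain ⟨f, hf, a', ha', hfa⟩ := hmem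
      have hfa' : f * a' = g := hfa
      have ha2 : a' ^ 2 = 1 := by
        have e1 : a' = f⁻¹ * g := by rw [← hfa']; group
        have hcomm : Commute f⁻¹ g := hCcomm _ (C.inv_mem (hEC hf)) _ hgC
        rw [e1, hcomm.mul_pow, inv_pow, (hEle hf).2, inv_one, one_mul, h, ← pow_mul]
        exact hx4
      have ha1 : a' = 1 := eq_one_of_sq_of_odd_pow a' m hm ha2 ha'.2
      rw [ha1, mul_one] at hfa'
      rw [hfa', h] at hf
      exact hcE hf
  · rw [eq_top_iff]
    intro g _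
    obtain ⟨q, hq, hc1, hc2⟩ := decomp hn x y hx hyy hyx g
    have hqQ : q ∈ Q := by
      rcases hq with rfl | rfl | rfl | rfl
      · exact Q.one_mem
      · exact hQx
      · exact hQy
      · exact Q.mul_mem hQy hQx
    set c₀ := q⁻¹ * g with hc₀
    have hc₀C : c₀ ∈ C := (hCmem c₀).2 ⟨hc1, hc2⟩
    have hg : g = q * c₀ := by rw [hc₀]; group
    -- split `c₀`
    have hcop : Nat.Coprime m 2 := Nat.coprime_two_right.2 hm
    have hbez := Int.gcd_eq_gcd_ab (m : ℤ) (2 : ℤ)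
    have hgcd : Int.gcd (m : ℤ) (2 : ℤ) = 1 := by
      have : Int.gcd (m : ℤ) ((2 : ℕ) : ℤ) = Nat.gcd m 2 := Int.gcd_natCast_natCast m 2
      rw [show ((2 : ℕ) : ℤ) = 2 from rfl] at this
      rw [this]; exact hcop
    rw [hgcd] at hbez
    set u := Int.gcdA (m : ℤ) 2
    set v := Int.gcdB (m : ℤ) 2
    have hsplit : c₀ = (c₀ ^ m) ^ u * (c₀ ^ 2) ^ v := by
      rw [← zpow_natCast, ← zpow_natCast, ← zpow_mul, ← zpow_mul, ← zpow_add]
      have : ((m : ℕ) : ℤ) * u + ((2 : ℕ) : ℤ) * v = 1 := by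
        rw [show ((2 : ℕ) : ℤ) = 2 from rfl]; exact_mod_cast hbez.symm
      rw [this, zpow_one]
    have he₁ : (c₀ ^ m) ^ u ∈ E₁ := by
      refine ⟨C.zpow_mem (C.pow_mem hc₀C m) u, ?_⟩
      rw [← zpow_natCast, ← zpow_mul, mul_comm, zpow_mul, zpow_natCast, ← pow_mul, mul_comm m 2,
        hexp c₀ hc₀C, one_zpow]
    have ha' : (c₀ ^ 2) ^ v ∈ A := by
      refine ⟨C.zpow_mem (C.pow_mem hc₀C 2) v, ?_⟩
      rw [← zpow_natCast, ← zpow_mul, mul_comm, zpow_mul, zpow_natCast, ← pow_mul,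
        hexp c₀ hc₀C, one_zpow]
    rw [hg, hsplit]
    rcases hEc _ he₁ with h | h
    · exact Subgroup.mul_mem _ (le_sup_left (a := Q) hqQ)
        (le_sup_right (a := Q) (Subgroup.mul_mem _ (le_sup_left (a := E) h)
          (le_sup_right (a := E) ha')))
    · have e2 : q * ((c₀ ^ m) ^ u * (c₀ ^ 2) ^ v) =
          (q * x ^ 2) * ((x ^ 2 * (c₀ ^ m) ^ u) * (c₀ ^ 2) ^ v) := by
        have : x ^ 2 * x ^ 2 = 1 := by rw [← pow_add]; exact hx4
        calc q * ((c₀ ^ m) ^ u * (c₀ ^ 2) ^ v)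
            = q * (x ^ 2 * x ^ 2) * ((c₀ ^ m) ^ u * (c₀ ^ 2) ^ v) := by rw [this, mul_one]
          _ = (q * x ^ 2) * ((x ^ 2 * (c₀ ^ m) ^ u) * (c₀ ^ 2) ^ v) := by
            simp only [mul_assoc]
      rw [e2]
      exact Subgroup.mul_mem _ (le_sup_left (a := Q) (Q.mul_mem hqQ (Q.pow_mem hQx 2)))
        (le_sup_right (a := Q) (Subgroup.mul_mem _ (le_sup_left (a := E) h)
          (le_sup_right (a := E) ha')))





/-- A finite non-abelian group in which every subgroup is normal is the internal direct product of a subgroup isomorphic to the quaternion group of order `8`, an elementary abelian `2`-subgroup and an abelian subgroup of odd order. -/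
theorem result {G : Type*} [Group G] [Finite G] (hna : ¬ IsMulCommutative G) (hn : ∀ H : Subgroup G, H.Normal) : ∃ Q E A : Subgroup G, Nonempty (Q ≃* QuaternionGroup 2) ∧ Cfsg.IsElementaryAbelian 2 E ∧ IsMulCommutative A ∧ Odd (Nat.card A) ∧ E ⊓ A = ⊥ ∧ Q ⊓ (E ⊔ A) = ⊥ ∧ Q ⊔ (E ⊔ A) = ⊤ := by
  exact main hna hn

end Cfsg.Agent.S4211
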