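-- Statement S4212: P. Hall's generalisation of Frobenius' theorem.
import Cfsg.Statements.S4212
import Mathlib
import Cfsg.Agent.Lib.Helper2.FrobeniusDiv
import Cfsg.Agent.Lib.Lead.ConjCount

set_option autoImplicit false
open Cfsg

namespace Cfsg.Agent.S4212

universe u

/-- The fibres of `x ↦ x ^ n` over a conjugacy class all have the same size. -/
theorem card_conj_pow {G : Type*} [Group G] [Finite G] (c : G) (n : ℕ) :
    Nat.card {x : G // IsConj c (x ^ n)} =
      Nat.card {y : G // IsConj c y} * Nat.card {x : G // x ^ n = c} := by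
  classical
  let f : {x : G // IsConj c (x ^ n)} → {y : G // IsConj c y} := fun x => ⟨x.1 ^ n, x.2⟩
  rw [Nat.card_congr (Equiv.sigmaFiberEquiv f).symm]
  haveI : Fintype {y : G // IsConj c y} := Fintype.ofFinite _
  rw [Nat.card_sigma]
  have hfib : ∀ y : {y : G // IsConj c y},
      Nat.card {x // f x = y} = Nat.card {x : G // x ^ n = c} := by
    rintro ⟨y, hy⟩
    obtain ⟨g, hg⟩ := isConj_iff.1 hy
    apply Nat.card_congr
    refine ⟨fun x => ⟨g⁻¹ * x.1.1 * g, ?_⟩, fun x => ⟨⟨g * x.1 * g⁻¹, ?_⟩, ?_⟩, ?_, ?_⟩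
    · have h1 : x.1.1 ^ n = y := congrArg Subtype.val x.2
      have h2 : (g⁻¹ * x.1.1 * g) ^ n = g⁻¹ * x.1.1 ^ n * g := by
        have := conj_pow (a := g⁻¹) (b := x.1.1) (i := n)
        simpa using this
      rw [h2, h1, ← hg]; group
    · rw [conj_pow, x.2, hg]; exact hy
    · apply Subtype.ext
      show (g * x.1 * g⁻¹) ^ n = y
      rw [conj_pow, x.2, hg]
    · intro x
      apply Subtype.ext; apply Subtype.ext
      show g * (g⁻¹ * x.1.1 * g) * g⁻¹ = x.1.1
      group
    · intro x
      apply Subtype.ext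
      show g⁻¹ * (g * x.1 * g⁻¹) * g = x.1
      group
  simp only [hfib, Finset.sum_const, Finset.card_univ, smul_eq_mul, Nat.card_eq_fintype_card]

/-- `p ^ a ∣ #{x | x ^ (p ^ a) = c}` when `a ≥ 1` and `p ∣ o(c)`. -/
theorem dvd_card_of_prime_dvd_order {H : Type*} [Group H] [Finite H] (c : H) (p a : ℕ)
    (hp : p.Prime) (ha : 0 < a) (hpc : p ∣ orderOf c) :
    p ^ a ∣ Nat.card {x : H // x ^ (p ^ a) = c} := by
  classical
  haveI : Fintype H := Fintype.ofFinite H
  set n := p ^ a with hn
  set r := orderOf c with hr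
  have hr0 : 0 < r := orderOf_pos c
  have hr1 : 1 < r := lt_of_lt_of_le hp.one_lt (Nat.le_of_dvd hr0 hpc)
  have hnpos : 0 < n := pow_pos hp.pos a
  -- the order of a solution
  have hord : ∀ x : H, x ^ n = c → orderOf x = n * r := by
    intro x hx
    have ho : 0 < orderOf x := orderOf_pos x
    have h1 : r = orderOf x / Nat.gcd (orderOf x) n := by rw [hr, ← hx, orderOf_pow]
    have hgd : Nat.gcd (orderOf x) n ∣ orderOf x := Nat.gcd_dvd_left _ _
    have h2 : orderOf x = r * Nat.gcd (orderOf x) n := by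
      rw [h1, Nat.div_mul_cancel hgd]
    obtain ⟨b, hb, hgb⟩ := (Nat.dvd_prime_pow hp).1 (Nat.gcd_dvd_right (orderOf x) n)
    rcases Nat.lt_or_ge b a with hlt | hge
    · exfalso
      have h3 : p ^ (b + 1) ∣ orderOf x := by
        rw [h2, hgb, pow_succ, mul_comm (p ^ b) p]
        exact Nat.mul_dvd_mul hpc dvd_rfl
      have h4 : p ^ (b + 1) ∣ n := pow_dvd_pow p hlt
      have h5 : p ^ (b + 1) ∣ p ^ b := by
        rw [← hgb]; exact Nat.dvd_gcd h3 h4
      have := Nat.le_of_dvd (pow_pos hp.pos b) h5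
      have h6 : p ^ b < p ^ (b + 1) := Nat.pow_lt_pow_right hp.one_lt (Nat.lt_succ_self b)
      omega
    · have hba : b = a := le_antisymm hb hge
      rw [h2, hgb, hba, mul_comm]
  rw [Nat.card_eq_fintype_card, Fintype.card_subtype]
  set Y := Finset.univ.filter (fun x : H => x ^ n = c) with hY
  rw [Finset.card_eq_sum_card_image (fun x => Subgroup.zpowers x) Y]
  apply Finset.dvd_sum
  intro K hK
  obtain ⟨x₀, hx₀, rfl⟩ := Finset.mem_image.1 hK
  have hx₀n : x₀ ^ n = c := (Finset.mem_filter.1 hx₀).2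
  have hfib : Y.filter (fun x' => Subgroup.zpowers x' = Subgroup.zpowers x₀) =
      (Finset.range n).image (fun t => x₀ ^ (1 + t * r)) := by
    ext x'
    simp only [Finset.mem_filter, Finset.mem_image, Finset.mem_range, hY, Finset.mem_univ, true_and]
    constructor
    · rintro ⟨hx'n, hz⟩
      have hmem : x' ∈ Subgroup.zpowers x₀ := hz ▸ Subgroup.mem_zpowers x'
      obtain ⟨k, hk, rfl⟩ : ∃ k, k < orderOf x₀ ∧ x₀ ^ k = x' := by
        have := (mem_zpowers_iff_mem_range_orderOf).1 hmem
        obtain ⟨k, hk, hk'⟩ := Finset.mem_image.1 this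
        exact ⟨k, Finset.mem_range.1 hk, hk'⟩
      rw [hord x₀ hx₀n] at hk
      have hck : c ^ k = c ^ 1 := by
        calc c ^ k = (x₀ ^ n) ^ k := by rw [hx₀n]
          _ = (x₀ ^ k) ^ n := by rw [← pow_mul, mul_comm, pow_mul]
          _ = c := hx'n
          _ = c ^ 1 := (pow_one c).symm
      have hmod : k ≡ 1 [MOD r] := pow_eq_pow_iff_modEq.1 hck
      have hkr : k % r = 1 := by
        have := hmod
        unfold Nat.ModEq at this
        rw [this, Nat.mod_eq_of_lt hr1]
      refine ⟨k / r, ?_, ?_⟩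
      · apply Nat.div_lt_of_lt_mul
        rw [mul_comm]; exact hk
      · congr 1
        have := Nat.div_add_mod k r
        rw [hkr] at this
        rw [mul_comm] at this
        omega
    · rintro ⟨t, ht, rfl⟩
      have h1 : (x₀ ^ (1 + t * r)) ^ n = c := by
        rw [← pow_mul, mul_comm, pow_mul, hx₀n, pow_add, pow_one, mul_comm t r, pow_mul,
          hr, pow_orderOf_eq_one, one_pow, mul_one]
      refine ⟨h1, ?_⟩
      rw [Cfsg.Agent.Lib.Helper2.zpowers_eq_iff']
      refine ⟨Subgroup.pow_mem _ (Subgroup.mem_zpowers x₀) _, ?_⟩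
      rw [hord _ h1, hord _ hx₀n]
  rw [hfib, Finset.card_image_of_injOn, Finset.card_range]
  intro t ht s hs hts
  simp only [Finset.coe_range, Set.mem_Iio] at ht hs
  have hb : ∀ t, t < n → 1 + t * r < orderOf x₀ := by
    intro t ht
    rw [hord x₀ hx₀n]
    have : (t + 1) * r ≤ n * r := Nat.mul_le_mul_right r ht
    have h2 : (t + 1) * r = t * r + r := by ring
    omega
  have := pow_injOn_Iio_orderOf (x := x₀) (Set.mem_Iio.2 (hb t ht)) (Set.mem_Iio.2 (hb s hs)) hts
  have h3 : t * r = s * r := by omega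
  exact Nat.eq_of_mul_eq_mul_right hr0 h3

/-- Shifting by a central `n`-th root of `c`. -/
theorem central_shift {H : Type*} [Group H] [Finite H] (c : H) (hc : c ∈ Subgroup.center H)
    (n : ℕ) (hcop : (orderOf c).Coprime n) :
    Nat.card {x : H // x ^ n = c} = Nat.card {x : H // x ^ n = 1} := by
  have hcop' : (Nat.card (Subgroup.zpowers c)).Coprime n := by rwa [Nat.card_zpowers]
  obtain ⟨c'', hc''⟩ := (powCoprime hcop').surjective ⟨c, Subgroup.mem_zpowers c⟩
  have hc'n : (c'' : H) ^ n = c := by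
    have := congrArg Subtype.val hc''
    simpa [powCoprime] using this
  have hc'cen : (c'' : H) ∈ Subgroup.center H :=
    (Subgroup.zpowers_le.2 hc) c''.2
  have hcomm : ∀ x : H, Commute x (c'' : H) := fun x => (Subgroup.mem_center_iff.1 hc'cen x)
  apply Nat.card_congr
  refine ⟨fun x => ⟨x.1 * (c'' : H)⁻¹, ?_⟩, fun x => ⟨x.1 * (c'' : H), ?_⟩, ?_, ?_⟩
  · rw [((hcomm x.1).inv_right).mul_pow, x.2, inv_pow, hc'n, mul_inv_cancel]
  · rw [(hcomm x.1).mul_pow, x.2, hc'n, one_mul]
  · intro x; apply Subtype.ext; simp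
  · intro x; apply Subtype.ext; simp

/-- The coprime splitting step. -/
theorem split_dvd {H : Type u} [Group H] [Finite H] (n1 n2 : ℕ)
    (IH : ∀ c : H, Nat.gcd (Nat.card {y : H // IsConj c y} * n1) (Nat.card H) ∣
      Nat.card {x : H // IsConj c (x ^ n1)})
    (c : H) (hc : c ∈ Subgroup.center H) :
    Nat.gcd n1 (Nat.card H) ∣ Nat.card {x : H // x ^ (n1 * n2) = c} := by
  classical
  haveI : Fintype H := Fintype.ofFinite H
  rw [Nat.card_eq_fintype_card (α := {x : H // x ^ (n1 * n2) = c}), Fintype.card_subtype]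
  set Y := Finset.univ.filter (fun u : H => u ^ n2 = c) with hY
  have hmaps : Set.MapsTo (fun x : H => x ^ n1)
      (Finset.univ.filter (fun x : H => x ^ (n1 * n2) = c) : Finset H) (Y : Finset H) := by
    intro x hx
    simp only [Finset.coe_filter, Finset.mem_univ, true_and, Set.mem_ofPred_eq, hY] at hx ⊢
    rw [← pow_mul]; exact hx
  rw [Finset.card_eq_sum_card_fiberwise hmaps]
  have hsum : ∑ b ∈ Y, ((Finset.univ.filter (fun x : H => x ^ (n1 * n2) = c)).filter
      (fun a => a ^ n1 = b)).card = ∑ b ∈ Y, Nat.card {x : H // x ^ n1 = b} := by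
    apply Finset.sum_congr rfl
    intro b hb
    have hb' : b ^ n2 = c := (Finset.mem_filter.1 hb).2
    rw [Nat.card_eq_fintype_card, Fintype.card_subtype]
    congr 1
    ext x
    simp only [Finset.mem_filter, Finset.mem_univ, true_and, and_iff_right_iff_imp]
    intro hx
    rw [pow_mul, hx, hb']
  rw [hsum]
  apply Cfsg.Agent.Lib.Helper2.dvd_sum_of_invariant (G := ConjAct H) Y
  · intro g y hy
    have hy' : y ^ n2 = c := (Finset.mem_filter.1 hy).2
    simp only [hY, Finset.mem_filter, Finset.mem_univ, true_and]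
    rw [ConjAct.smul_def, conj_pow, hy']
    have := Subgroup.mem_center_iff.1 hc (ConjAct.ofConjAct g)
    rw [this]; group
  · intro g y
    apply Nat.card_congr
    refine ⟨fun x => ⟨g⁻¹ • x.1, ?_⟩, fun x => ⟨g • x.1, ?_⟩, ?_, ?_⟩
    · have hx := x.2
      rw [ConjAct.smul_def, conj_pow, hx, ← ConjAct.smul_def, inv_smul_smul]
    · have hx := x.2
      rw [ConjAct.smul_def, conj_pow, hx, ← ConjAct.smul_def]
    · intro x; apply Subtype.ext; simp
    · intro x; apply Subtype.ext; simp
  · intro y _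
    have horb : Nat.card (MulAction.orbit (ConjAct H) y) = Nat.card {z : H // IsConj y z} := by
      apply Nat.card_congr
      exact Equiv.subtypeEquivRight (fun z => by
        rw [ConjAct.mem_orbit_conjAct]; exact isConj_comm)
    rw [horb, ← card_conj_pow]
    refine dvd_trans ?_ (IH y)
    apply Nat.dvd_gcd
    · exact (Nat.gcd_dvd_left _ _).trans (Dvd.intro_left _ rfl)
    · exact Nat.gcd_dvd_right _ _

theorem main : ∀ n : ℕ, ∀ (H : Type u) [Group H] [Finite H] (c : H),
    Nat.gcd (Nat.card {y : H // IsConj c y} * n) (Nat.card H) ∣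
      Nat.card {x : H // IsConj c (x ^ n)} := by
  intro n
  induction n using Nat.strong_induction_on with
  | _ n IH =>
  have central : ∀ (H : Type u) [Group H] [Finite H] (c : H), c ∈ Subgroup.center H →
      Nat.gcd n (Nat.card H) ∣ Nat.card {x : H // x ^ n = c} := by
    intro H _ _ c hc
    rcases Nat.eq_zero_or_pos n with hn0 | hnpos
    · subst hn0
      rw [Nat.gcd_zero_left]
      by_cases hc1 : c = 1
      · subst hc1
        have : Nat.card {x : H // x ^ 0 = 1} = Nat.card H := by
          apply Nat.card_congr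
          exact Equiv.subtypeUnivEquiv (fun x => pow_zero x)
        rw [this]
      · haveI : IsEmpty {x : H // x ^ 0 = c} := ⟨fun x => hc1 (by rw [← x.2, pow_zero])⟩
        rw [Nat.card_of_isEmpty (α := {x : H // x ^ 0 = c})]; exact dvd_zero _
    by_cases hn1 : n = 1
    · subst hn1; rw [Nat.gcd_one_left]; exact one_dvd _
    obtain ⟨p, hp, hpn⟩ := Nat.exists_prime_and_dvd hn1
    obtain ⟨a, m, hpm, hnm⟩ := Nat.exists_eq_pow_mul_and_not_dvd hnpos.ne' p hp.ne_one
    have ha : 0 < a := by
      rcases Nat.eq_zero_or_pos a with ha0 | ha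
      · exfalso; rw [ha0, pow_zero, one_mul] at hnm; exact hpm (hnm ▸ hpn)
      · exact ha
    have hmpos : 0 < m := by
      rcases Nat.eq_zero_or_pos m with hm0 | hm
      · exfalso; rw [hm0, mul_zero] at hnm; omega
      · exact hm
    by_cases hm1 : m = 1
    · rw [hm1, mul_one] at hnm
      subst hnm
      by_cases hpc : p ∣ orderOf c
      · exact (Nat.gcd_dvd_left _ _).trans (dvd_card_of_prime_dvd_order c p a hp ha hpc)
      · have hcop : (orderOf c).Coprime (p ^ a) :=
          ((Nat.Prime.coprime_iff_not_dvd hp).2 hpc).symm.pow_right a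
        rw [central_shift c hc _ hcop]
        exact Cfsg.Agent.Lib.Helper2.frobenius_gcd H _
    · have hcop : Nat.Coprime (p ^ a) m := ((Nat.Prime.coprime_iff_not_dvd hp).2 hpm).pow_left a
      have hlt1 : p ^ a < n := by
        rw [hnm]
        have : 1 < m := by omega
        have hpa : 0 < p ^ a := pow_pos hp.pos a
        nlinarith
      have hlt2 : m < n := by
        rw [hnm]
        have : 1 < p ^ a := Nat.one_lt_pow ha.ne' hp.one_lt
        nlinarith
      have hg : Nat.gcd n (Nat.card H) = Nat.gcd (p ^ a) (Nat.card H) * Nat.gcd m (Nat.card H) := by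
        rw [hnm, Nat.gcd_comm, Nat.Coprime.gcd_mul _ hcop, Nat.gcd_comm, Nat.gcd_comm (Nat.card H) m]
      rw [hg]
      have hcopg : Nat.Coprime (Nat.gcd (p ^ a) (Nat.card H)) (Nat.gcd m (Nat.card H)) :=
        Nat.Coprime.coprime_dvd_left (Nat.gcd_dvd_left _ _)
          (Nat.Coprime.coprime_dvd_right (Nat.gcd_dvd_left _ _) hcop)
      apply Nat.Coprime.mul_dvd_of_dvd_of_dvd hcopg
      · have := split_dvd (p ^ a) m (fun c => IH (p ^ a) hlt1 H c) c hc
        rwa [← hnm] at this
      · have := split_dvd m (p ^ a) (fun c => IH m hlt2 H c) c hc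
        rwa [mul_comm, ← hnm] at this
  intro H _ _ c
  rw [card_conj_pow]
  have h1 := Cfsg.Agent.Lib.Lead.card_conj_mul_card_centralizer c
  have hcC : c ∈ Subgroup.centralizer ({c} : Set H) :=
    Subgroup.mem_centralizer_singleton_iff.2 rfl
  rw [← h1, Nat.gcd_mul_left]
  apply Nat.mul_dvd_mul_left
  have e : Nat.card {x : H // x ^ n = c} =
      Nat.card {x : Subgroup.centralizer ({c} : Set H) // x ^ n = ⟨c, hcC⟩} := by
    apply Nat.card_congr
    have hmemC : ∀ x : H, x ^ n = c → x ∈ Subgroup.centralizer ({c} : Set H) := by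
      intro x hx
      rw [Subgroup.mem_centralizer_singleton_iff, ← hx, ← pow_succ, ← pow_succ']
    refine ⟨fun x => ⟨⟨x.1, hmemC x.1 x.2⟩, ?_⟩, fun x => ⟨x.1.1, ?_⟩, ?_, ?_⟩
    · apply Subtype.ext; exact x.2
    · exact congrArg Subtype.val x.2
    · intro x; rfl
    · intro x; rfl
  rw [e]
  apply central
  rw [Subgroup.mem_center_iff]
  intro g
  apply Subtype.ext
  have := Subgroup.mem_centralizer_singleton_iff.1 g.2
  simpa using this

theorem result {G : Type*} [Group G] [Finite G] (c : G) (n : ℕ) : Nat.gcd (Nat.card {y : G // IsConj c y} * n) (Nat.card G) ∣ Nat.card {x : G // IsConj c (x ^ n)} := by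
  exact main n G c

end Cfsg.Agent.S4212
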