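-- Statement S4213: Frobenius' conjecture for solvable groups.
import Cfsg.Statements.S4213
import Mathlib
import Cfsg.Agent.Lib.Helper2.FrobeniusDiv
import Cfsg.Agent.Lib.Helper2.MinNormal
import Cfsg.Agent.Lib.Helper1.MinimalNormal

set_option autoImplicit false
open Cfsg

namespace Cfsg.Agent.S4213

universe u

open Cfsg.Agent.Lib.Helper1 Cfsg.Agent.Lib.Helper2

theorem set_eq_of_subset_card {α : Type*} [Finite α] (s t : Set α) (h : s ⊆ t)
    (hc : Nat.card t ≤ Nat.card s) : s = t :=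
  Set.eq_of_subset_of_ncard_le h
    (by rwa [← Nat.card_coe_set_eq, ← Nat.card_coe_set_eq]) (Set.toFinite t)

theorem card_preimage_pow {G : Type*} [Group G] [Finite G] (M : Subgroup G) [M.Normal] (k : ℕ) :
    Nat.card {x : G | ((x : G) : G ⧸ M) ^ k = 1} =
      Nat.card M * Nat.card {y : G ⧸ M // y ^ k = 1} := by
  rw [← Nat.card_prod]
  exact Nat.card_congr
    (QuotientGroup.preimageMkEquivSubgroupProdSet M {y : G ⧸ M | y ^ k = 1})

theorem main : ∀ N : ℕ, ∀ (G : Type u) [Group G] [Finite G] [Group.IsSolvable G],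
    Nat.card G = N → ∀ n : ℕ, n ∣ Nat.card G → Nat.card {x : G // x ^ n = 1} = n →
    ∃ H : Subgroup G, (H : Set G) = {x : G | x ^ n = 1} := by
  intro N
  induction N using Nat.strong_induction_on with
  | _ N IH =>
  intro G _ _ _ hN n hn hcount
  by_cases htriv : Subsingleton G
  · refine ⟨⊤, ?_⟩
    ext x
    simp [Subsingleton.elim x 1]
  rw [not_subsingleton_iff_nontrivial] at htriv
  have hnpos : 0 < n := Nat.pos_of_dvd_of_pos hn Nat.card_pos
  have hcount' : Nat.card {x : G | x ^ n = 1} = n := hcount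
  obtain ⟨M, -, hMne, hMn, hMmin⟩ := exists_isMinNormal_le (⊤ : Subgroup G) top_ne_bot
  haveI := hMn
  obtain ⟨hMcomm, p, hp, hMp⟩ := minimal_normal_of_solvable M hMne hMmin
  haveI : Fact p.Prime := ⟨hp⟩
  set q := Nat.card M with hq
  have hMpg : IsPGroup p M := fun g => ⟨1, by
    rw [pow_one]; exact Subtype.ext (by simpa using hMp g.1 g.2)⟩
  obtain ⟨i, hi⟩ := hMpg.exists_card_eq
  rw [← hq] at hi
  have hq1 : 1 < q := by
    rw [hq]
    exact (Subgroup.one_lt_card_iff_ne_bot M).2 hMne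
  have hi1 : 0 < i := by
    rcases Nat.eq_zero_or_pos i with h0 | h
    · rw [h0, pow_zero] at hi; omega
    · exact h
  have hqpos : 0 < q := by omega
  have hGq : Nat.card G = Nat.card (G ⧸ M) * q :=
    Subgroup.card_eq_card_quotient_mul_card_subgroup M
  have hQpos : 0 < Nat.card (G ⧸ M) := Nat.card_pos
  have hlt : Nat.card (G ⧸ M) < N := by
    rw [← hN, hGq]; nlinarith
  have IHq := IH _ hlt (G ⧸ M) rfl
  have hlift : ∀ (k : ℕ) (x : G), ((x : G ⧸ M)) ^ k = 1 → x ^ (k * p) = 1 := by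
    intro k x hx
    have : x ^ k ∈ M := by rwa [← QuotientGroup.eq_one_iff, QuotientGroup.mk_pow]
    rw [pow_mul]; exact hMp _ this
  by_cases hpn : p ∣ n
  · -- case p ∣ n
    set d := Nat.gcd n q with hd
    have hdpos : 0 < d := Nat.gcd_pos_of_pos_left _ hnpos
    have hpd : p ∣ d := Nat.dvd_gcd hpn (hi ▸ dvd_pow_self p hi1.ne')
    set k := n / d with hk
    have hkd : k * d = n := Nat.div_mul_cancel (Nat.gcd_dvd_left n q)
    have hkpos : 0 < k := by
      rcases Nat.eq_zero_or_pos k with h0 | h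
      · rw [h0, zero_mul] at hkd; omega
      · exact h
    have hkp : k * p ∣ n := by rw [← hkd]; exact Nat.mul_dvd_mul_left k hpd
    have hkG : k ∣ Nat.card (G ⧸ M) := by
      have h1 : k * d ∣ Nat.card (G ⧸ M) * (q / d) * d := by
        rw [hkd, mul_assoc, Nat.div_mul_cancel (Nat.gcd_dvd_right n q), ← hGq]; exact hn
      have h2 : k ∣ Nat.card (G ⧸ M) * (q / d) := Nat.dvd_of_mul_dvd_mul_right hdpos h1
      have hcop : Nat.Coprime k (q / d) := Nat.coprime_div_gcd_div_gcd hdpos
      exact hcop.dvd_of_dvd_mul_right h2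
    have hsub : {x : G | ((x : G ⧸ M)) ^ k = 1} ⊆ {x : G | x ^ n = 1} := by
      intro x hx
      obtain ⟨t, ht⟩ := hkp
      show x ^ n = 1
      rw [ht, pow_mul, hlift k x hx, one_pow]
    have hle : q * Nat.card {y : G ⧸ M // y ^ k = 1} ≤ n := by
      rw [← card_preimage_pow, ← hcount']
      exact Nat.card_mono (Set.toFinite _) hsub
    have hfrob : k ∣ Nat.card {y : G ⧸ M // y ^ k = 1} := frobenius_dvd (G ⧸ M) k hkG
    have hpos : 0 < Nat.card {y : G ⧸ M // y ^ k = 1} := by
      haveI : Nonempty {y : G ⧸ M // y ^ k = 1} := ⟨⟨1, one_pow k⟩⟩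
      exact Nat.card_pos
    have hge : k ≤ Nat.card {y : G ⧸ M // y ^ k = 1} := Nat.le_of_dvd hpos hfrob
    have hqd : q ≤ d := by
      have h1 : q * k ≤ k * d := by
        rw [hkd]; exact le_trans (Nat.mul_le_mul_left q hge) hle
      rw [mul_comm q k] at h1
      exact Nat.le_of_mul_le_mul_left h1 hkpos
    have hdq : d = q := le_antisymm (Nat.le_of_dvd hqpos (Nat.gcd_dvd_right n q)) hqd
    have hcardk : Nat.card {y : G ⧸ M // y ^ k = 1} = k := by
      apply le_antisymm _ hge
      have h1 : q * Nat.card {y : G ⧸ M // y ^ k = 1} ≤ q * k := by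
        calc q * Nat.card {y : G ⧸ M // y ^ k = 1} ≤ n := hle
          _ = q * k := by rw [← hkd, hdq, mul_comm]
      exact Nat.le_of_mul_le_mul_left h1 hqpos
    obtain ⟨Kbar, hKbar⟩ := IHq k hkG hcardk
    have hKset : ((Kbar.comap (QuotientGroup.mk' M) : Subgroup G) : Set G) =
        {x : G | ((x : G ⧸ M)) ^ k = 1} := by
      ext x
      have : ((x : G ⧸ M)) ∈ (Kbar : Set (G ⧸ M)) ↔ ((x : G ⧸ M)) ^ k = 1 := by
        rw [hKbar]; rfl
      exact this
    refine ⟨Kbar.comap (QuotientGroup.mk' M), ?_⟩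
    apply set_eq_of_subset_card
    · rw [hKset]; exact hsub
    · rw [hKset, card_preimage_pow, hcardk, hcount', ← hkd, hdq, mul_comm]
  · -- case p ∤ n
    have hcop : Nat.Coprime q n := by
      rw [hi]; exact ((Nat.Prime.coprime_iff_not_dvd hp).2 hpn).pow_left i
    have hnG : n ∣ Nat.card (G ⧸ M) := by
      rw [hGq] at hn
      exact hcop.symm.dvd_of_dvd_mul_right hn
    have hsurj : ∀ y : G ⧸ M, y ^ n = 1 → ∃ x : G, x ^ n = 1 ∧ (x : G ⧸ M) = y := by
      intro y hy
      obtain ⟨u, -, hu⟩ := Nat.exists_mul_mod_eq_of_coprime 1 hcop hnpos.ne'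
      obtain ⟨x, rfl⟩ := QuotientGroup.mk_surjective y
      refine ⟨x ^ (q * u), ?_, ?_⟩
      · have h1 : x ^ n ∈ M := by rwa [← QuotientGroup.eq_one_iff, QuotientGroup.mk_pow]
        have h2 : (x ^ n) ^ q = 1 := by
          have h3 := pow_card_eq_one' (G := M) (x := ⟨x ^ n, h1⟩)
          have h4 := congrArg Subtype.val h3
          rw [Subgroup.coe_pow, Subgroup.coe_one] at h4
          exact h4
        rw [← pow_mul, mul_comm (q * u) n, ← mul_assoc, pow_mul, pow_mul, h2, one_pow]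
      · rw [QuotientGroup.mk_pow, pow_eq_pow_mod _ hy, hu, ← pow_eq_pow_mod _ hy, pow_one]
    have hle : Nat.card {y : G ⧸ M // y ^ n = 1} ≤ n := by
      have h1 := Nat.card_le_card_of_surjective
        (fun x : {x : G // x ^ n = 1} =>
          (⟨(x.1 : G ⧸ M), by rw [← QuotientGroup.mk_pow, x.2]; rfl⟩ : {y : G ⧸ M // y ^ n = 1}))
        (by
          rintro ⟨y, hy⟩
          obtain ⟨x, hx, hxy⟩ := hsurj y hy
          exact ⟨⟨x, hx⟩, Subtype.ext hxy⟩)
      rwa [hcount] at h1
    have hfrob := frobenius_dvd (G ⧸ M) n hnG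
    have hpos : 0 < Nat.card {y : G ⧸ M // y ^ n = 1} := by
      haveI : Nonempty {y : G ⧸ M // y ^ n = 1} := ⟨⟨1, one_pow n⟩⟩
      exact Nat.card_pos
    have hcardn : Nat.card {y : G ⧸ M // y ^ n = 1} = n :=
      le_antisymm hle (Nat.le_of_dvd hpos hfrob)
    obtain ⟨Kbar, hKbar⟩ := IHq n hnG hcardn
    set K := Kbar.comap (QuotientGroup.mk' M) with hK
    have hKset : (K : Set G) = {x : G | ((x : G ⧸ M)) ^ n = 1} := by
      ext x
      have : ((x : G ⧸ M)) ∈ (Kbar : Set (G ⧸ M)) ↔ ((x : G ⧸ M)) ^ n = 1 := by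
        rw [hKbar]; rfl
      exact this
    have hMK : M ≤ K := by
      intro x hx
      show ((x : G ⧸ M)) ∈ Kbar
      rw [(QuotientGroup.eq_one_iff x).2 hx]; exact Kbar.one_mem
    have hKcard : Nat.card K = q * n := by
      have : Nat.card K = Nat.card {x : G | ((x : G ⧸ M)) ^ n = 1} := by
        rw [← hKset]; rfl
      rw [this, card_preimage_pow, hcardn]
    have hcardMK : Nat.card (M.subgroupOf K) = q :=
      Nat.card_congr (Subgroup.subgroupOfEquivOfLe hMK).toEquiv
    have hidx : (M.subgroupOf K).index = n := by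
      have h1 := Subgroup.card_mul_index (M.subgroupOf K)
      rw [hcardMK, hKcard] at h1
      exact Nat.eq_of_mul_eq_mul_left hqpos h1
    obtain ⟨H', hH'⟩ := Subgroup.exists_right_complement'_of_coprime (N := M.subgroupOf K)
      (by rw [hcardMK, hidx]; exact hcop)
    have hH'card : Nat.card H' = n := by
      have h1 := hH'.card_mul_card
      rw [hcardMK, hKcard] at h1
      exact Nat.eq_of_mul_eq_mul_left hqpos h1
    refine ⟨H'.map K.subtype, ?_⟩
    apply set_eq_of_subset_card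
    · rintro _ ⟨h, hh, rfl⟩
      show (K.subtype h) ^ n = 1
      have h1 : (⟨h, hh⟩ : H') ^ Nat.card H' = 1 := pow_card_eq_one'
      rw [hH'card] at h1
      have h2 := congrArg Subtype.val h1
      have h3 : h ^ n = 1 := by simpa using h2
      rw [← map_pow, h3, map_one]
    · rw [hcount']
      have : Nat.card ((H'.map K.subtype : Subgroup G) : Set G) = n := by
        rw [← hH'card]
        exact Subgroup.card_map_of_injective K.subtype_injective
      rw [this]

theorem result {G : Type*} [Group G] [Finite G] [Group.IsSolvable G] (n : ℕ) (hn : n ∣ Nat.card G) (hcount : Nat.card {x : G // x ^ n = 1} = n) : ∃ H : Subgroup G, H.Normal ∧ (H : Set G) = {x : G | x ^ n = 1} := by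
  obtain ⟨H, hH⟩ := main _ G rfl n hn hcount
  refine ⟨H, ⟨?_⟩, hH⟩
  intro x hx g
  have h1 : x ∈ (H : Set G) := hx
  rw [hH] at h1
  have h2 : g * x * g⁻¹ ∈ (H : Set G) := by
    rw [hH]
    show (g * x * g⁻¹) ^ n = 1
    rw [conj_pow, show x ^ n = 1 from h1]; group
  exact h2

end Cfsg.Agent.S4213
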