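import Cfsg.Statements.S4214
import Mathlib
import Cfsg.Agent.Lib.Helper1.Hall
import Cfsg.Agent.Lib.Helper1.PLengthOne
import Cfsg.Agent.Lib.Helper1.MinimalNormal
import Cfsg.Agent.Lib.Helper2.MinNormal
import Cfsg.Agent.Lib.Helper3.PGroupFix

set_option autoImplicit false
open Cfsg

namespace Cfsg.Agent.S4214


open Cfsg.Agent.Lib.Helper1 Cfsg.Agent.Lib.Helper2 Cfsg.Agent.Lib.Helper3
open scoped Pointwise

universe u

/-- The number of subgroups of order `m`. -/
noncomputable def cnt (G : Type*) [Group G] (m : ℕ) : ℕ := Nat.card {H : Subgroup G // Nat.card H = m}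

/-- The property required of each factor. -/
def IsFactor (G : Type*) [Group G] (m x : ℕ) : Prop :=
  (∃ q e : ℕ, q.Prime ∧ x = q ^ e) ∧
  (∃ K L : Subgroup G, K.Normal ∧ L.Normal ∧ K < L ∧
    (∀ M : Subgroup G, M.Normal → K ≤ M → M ≤ L → M = K ∨ M = L) ∧ x ∣ K.relIndex L) ∧
  (∃ q : ℕ, q.Prime ∧ q ∣ m ∧ x ≡ 1 [MOD q])

theorem card_sup_of_coprime {G : Type*} [Group G] [Finite G] (A B : Subgroup G) [B.Normal]
    (h : (Nat.card A).Coprime (Nat.card B)) : Nat.card (A ⊔ B : Subgroup G) = Nat.card A * Nat.card B := by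
  apply Nat.dvd_antisymm (card_sup_dvd_of_normal A B)
  exact Nat.Coprime.mul_dvd_of_dvd_of_dvd h (Subgroup.card_dvd_of_le le_sup_left)
    (Subgroup.card_dvd_of_le le_sup_right)

theorem card_sup_eq_mul_card_map {G : Type*} [Group G] (M : Subgroup G) [M.Normal]
    (H : Subgroup G) :
    Nat.card (H ⊔ M : Subgroup G) = Nat.card M * Nat.card (H.map (QuotientGroup.mk' M)) := by
  rw [← card_comap_mk', Subgroup.comap_map_eq, QuotientGroup.ker_mk']

/-- A normal subgroup of order dividing `m` lies in every subgroup of order `m`. -/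
theorem le_of_card_dvd {G : Type*} [Group G] [Finite G] (m n : ℕ) (hG : Nat.card G = m * n)
    (hmn : m.Coprime n) (M : Subgroup G) [M.Normal] (hM : Nat.card M ∣ m) (H : Subgroup G)
    (hH : Nat.card H = m) : M ≤ H := by
  have h1 : Nat.card (H ⊔ M : Subgroup G) ∣ m * Nat.card M := by
    have := card_sup_dvd_of_normal H M
    rwa [hH] at this
  have h2 : Nat.card (H ⊔ M : Subgroup G) ∣ m * n := hG ▸ Subgroup.card_subgroup_dvd_card _
  have h3 : m ∣ Nat.card (H ⊔ M : Subgroup G) := hH ▸ Subgroup.card_dvd_of_le le_sup_left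
  obtain ⟨r, hr⟩ := h3
  have hm0 : 0 < m := by
    rcases Nat.eq_zero_or_pos m with h | h
    · rw [h, zero_mul] at hG
      exact absurd hG Nat.card_pos.ne'
    · exact h
  rw [hr] at h1 h2
  have h4 : r ∣ Nat.card M := Nat.dvd_of_mul_dvd_mul_left hm0 h1
  have h5 : r ∣ n := Nat.dvd_of_mul_dvd_mul_left hm0 h2
  have h6 : r = 1 := Nat.eq_one_of_dvd_coprimes hmn (h4.trans hM) h5
  rw [h6, mul_one] at hr
  have h7 : H = H ⊔ M := Subgroup.eq_of_le_of_card_ge le_sup_left (by rw [hr, hH])
  rw [h7]; exact le_sup_right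

/-- Case A: passing to the quotient by a normal subgroup of order dividing `m`. -/
theorem cnt_quotient {G : Type*} [Group G] [Finite G] (m n : ℕ) (hG : Nat.card G = m * n)
    (hmn : m.Coprime n) (M : Subgroup G) [M.Normal] (hM : Nat.card M ∣ m) :
    cnt G m = cnt (G ⧸ M) (m / Nat.card M) := by
  unfold cnt
  apply Nat.card_congr
  refine ⟨fun H => ⟨H.1.map (QuotientGroup.mk' M), ?_⟩,
    fun K => ⟨K.1.comap (QuotientGroup.mk' M), ?_⟩, ?_, ?_⟩
  · have hle := le_of_card_dvd m n hG hmn M hM H.1 H.2
    have h1 := card_sup_eq_mul_card_map M H.1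
    rw [sup_eq_left.2 hle, H.2] at h1
    exact (Nat.div_eq_of_eq_mul_right Nat.card_pos h1).symm
  · rw [card_comap_mk', K.2, Nat.mul_div_cancel' hM]
  · intro H
    apply Subtype.ext
    have hle := le_of_card_dvd m n hG hmn M hM H.1 H.2
    simp only
    rw [Subgroup.comap_map_eq, QuotientGroup.ker_mk', sup_eq_left.2 hle]
  · intro K
    apply Subtype.ext
    simp only
    exact Subgroup.map_comap_eq_self_of_surjective (QuotientGroup.mk'_surjective M) K.1

/-- Factors of a quotient are factors of the group. -/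
theorem isFactor_of_quotient {G : Type*} [Group G] (M : Subgroup G) [M.Normal] (m m' x : ℕ)
    (hm : m' ∣ m) (h : IsFactor (G ⧸ M) m' x) : IsFactor G m x := by
  obtain ⟨h1, ⟨K, L, hKn, hLn, hKL, hmin, hx⟩, ⟨q, hq, hqm, hxq⟩⟩ := h
  have hsurj := QuotientGroup.mk'_surjective M
  refine ⟨h1, ⟨K.comap (QuotientGroup.mk' M), L.comap (QuotientGroup.mk' M), hKn.comap _,
    hLn.comap _, (Subgroup.comap_lt_comap_of_surjective hsurj).2 hKL, ?_, ?_⟩,
    ⟨q, hq, hqm.trans hm, hxq⟩⟩
  · intro N hNn hKN hNL
    have hMN : (QuotientGroup.mk' M).ker ≤ N := by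
      refine le_trans ?_ hKN
      intro z hz
      rw [Subgroup.mem_comap, (MonoidHom.mem_ker).1 hz]
      exact K.one_mem
    have hN : N = (N.map (QuotientGroup.mk' M)).comap (QuotientGroup.mk' M) :=
      (Subgroup.comap_map_eq_self hMN).symm
    have h2 : K ≤ N.map (QuotientGroup.mk' M) := by
      rw [← Subgroup.comap_le_comap_of_surjective hsurj, ← hN]; exact hKN
    have h3 : N.map (QuotientGroup.mk' M) ≤ L := by
      rw [← Subgroup.comap_le_comap_of_surjective hsurj, ← hN]; exact hNL
    rcases hmin _ (hNn.map _ hsurj) h2 h3 with h4 | h4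
    · left; rw [hN, h4]
    · right; rw [hN, h4]
  · rw [Subgroup.relIndex_comap, Subgroup.map_comap_eq_self_of_surjective hsurj]
    exact hx

/-- Factors of a subgroup dividing the order of a minimal normal subgroup are factors. -/
theorem isFactor_of_dvd_minimal {G : Type*} [Group G] (X : Subgroup G) (M : Subgroup G)
    [M.Normal] (hM : M ≠ ⊥)
    (hmin : ∀ N : Subgroup G, N.Normal → N ≤ M → N = ⊥ ∨ N = M) (m x : ℕ)
    (h : IsFactor X m x) (hx : x ∣ Nat.card M) : IsFactor G m x := by
  obtain ⟨h1, -, h3⟩ := h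
  refine ⟨h1, ⟨⊥, M, Subgroup.normal_bot, inferInstance, bot_lt_iff_ne_bot.2 hM, ?_, ?_⟩, h3⟩
  · intro N hN _ hNM
    exact hmin N hN hNM
  · rw [Subgroup.relIndex_bot_left]; exact hx

/-- Image of a subgroup of order coprime to `|M|` in the quotient has the same order. -/
theorem card_map_mk_of_coprime {G : Type*} [Group G] [Finite G] (M : Subgroup G) [M.Normal]
    (H : Subgroup G) (h : (Nat.card H).Coprime (Nat.card M)) :
    Nat.card (H.map (QuotientGroup.mk' M)) = Nat.card H := by
  have h1 := card_sup_eq_mul_card_map M H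
  rw [card_sup_of_coprime H M h, mul_comm] at h1
  exact (Nat.eq_of_mul_eq_mul_left Nat.card_pos h1).symm

theorem cnt_congr {A B : Type*} [Group A] [Group B] (e : A ≃* B) (m : ℕ) : cnt A m = cnt B m := by
  unfold cnt
  apply Nat.card_congr
  refine Equiv.subtypeEquiv e.mapSubgroup.toEquiv ?_
  intro K
  show Nat.card K = m ↔ Nat.card (K.map e.toMonoidHom) = m
  rw [Subgroup.card_map_of_injective e.injective]

theorem comap_conj_smul {G : Type*} [Group G] (M : Subgroup G) [M.Normal] (g : G)
    (K : Subgroup (G ⧸ M)) :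
    (MulAut.conj (QuotientGroup.mk' M g) • K).comap (QuotientGroup.mk' M) =
      MulAut.conj g • K.comap (QuotientGroup.mk' M) := by
  ext z
  rw [Subgroup.mem_comap, Subgroup.mem_pointwise_smul_iff_inv_smul_mem,
    Subgroup.mem_pointwise_smul_iff_inv_smul_mem, Subgroup.mem_comap]
  simp [MulAut.smul_def]

/-- the fibre of the map to the quotient -/
theorem card_fibre {G : Type*} [Group G] [Finite G] (M : Subgroup G) [M.Normal] (m : ℕ)
    (hcop : m.Coprime (Nat.card M)) (y : Subgroup (G ⧸ M)) (hy : Nat.card y = m) :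
    Nat.card {x : {H : Subgroup G // Nat.card H = m} // x.1.map (QuotientGroup.mk' M) = y} =
      cnt (y.comap (QuotientGroup.mk' M) : Subgroup G) m := by
  unfold cnt
  apply Nat.card_congr
  have hle : ∀ x : {H : Subgroup G // Nat.card H = m}, x.1.map (QuotientGroup.mk' M) = y →
      x.1 ≤ y.comap (QuotientGroup.mk' M) := by
    intro x hx
    rw [← hx]; exact Subgroup.le_comap_map _ _
  refine ⟨fun x => ⟨x.1.1.subgroupOf (y.comap (QuotientGroup.mk' M)), ?_⟩,
    fun K => ⟨⟨K.1.map (y.comap (QuotientGroup.mk' M)).subtype, ?_⟩, ?_⟩, ?_, ?_⟩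
  · rw [Nat.card_congr (Subgroup.subgroupOfEquivOfLe (hle x.1 x.2)).toEquiv]
    exact x.1.2
  · rw [Subgroup.card_map_of_injective (Subgroup.subtype_injective _)]
    exact K.2
  · simp only
    have hc : Nat.card (K.1.map (y.comap (QuotientGroup.mk' M)).subtype) = m := by
      rw [Subgroup.card_map_of_injective (Subgroup.subtype_injective _)]
      exact K.2
    apply Subgroup.eq_of_le_of_card_ge
    · rintro _ ⟨_, ⟨k, _, rfl⟩, rfl⟩
      exact k.2
    · rw [card_map_mk_of_coprime M _ (by rw [hc]; exact hcop), hc, hy]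
  · intro x
    apply Subtype.ext
    apply Subtype.ext
    simp only
    exact Subgroup.map_subgroupOf_eq_of_le (hle x.1 x.2)
  · intro K
    apply Subtype.ext
    simp only
    ext z
    rw [Subgroup.mem_subgroupOf]
    constructor
    · rintro ⟨w, hw, hwz⟩
      have : w = z := Subtype.ext hwz
      rwa [← this]
    · intro hz
      exact ⟨z, hz, rfl⟩

/-- The product formula. -/
theorem cnt_mul {G : Type*} [Group G] [Finite G] [Group.IsSolvable G] (m n : ℕ)
    (hG : Nat.card G = m * n) (hmn : m.Coprime n) (M : Subgroup G) [M.Normal]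
    (hM : Nat.card M ∣ n) (H : Subgroup G) (hH : Nat.card H = m) :
    cnt G m = cnt (G ⧸ M) m * cnt (H ⊔ M : Subgroup G) m := by
  classical
  have hcop : m.Coprime (Nat.card M) := Nat.Coprime.coprime_dvd_right hM hmn
  -- the map to the quotient
  let Φ : {H : Subgroup G // Nat.card H = m} → {K : Subgroup (G ⧸ M) // Nat.card K = m} :=
    fun x => ⟨x.1.map (QuotientGroup.mk' M), by
      rw [card_map_mk_of_coprime M x.1 (by rw [x.2]; exact hcop), x.2]⟩
  -- all fibres have the same size
  have hfib : ∀ y : {K : Subgroup (G ⧸ M) // Nat.card K = m},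
      Nat.card {x // Φ x = y} = cnt (H ⊔ M : Subgroup G) m := by
    intro y
    have e1 : {x // Φ x = y} ≃
        {x : {H : Subgroup G // Nat.card H = m} // x.1.map (QuotientGroup.mk' M) = y.1} :=
      Equiv.subtypeEquivRight (fun x => by
        constructor
        · intro h; exact congrArg Subtype.val h
        · intro h; exact Subtype.ext h)
    rw [Nat.card_congr e1, card_fibre M m hcop y.1 y.2]
    -- the Hall subgroup `H M / M`
    have hXcard : Nat.card (H.map (QuotientGroup.mk' M)) = m := by
      rw [card_map_mk_of_coprime M H (by rw [hH]; exact hcop), hH]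
    have hXidx : (Nat.card (H.map (QuotientGroup.mk' M))).Coprime
        (H.map (QuotientGroup.mk' M)).index := by
      rw [hXcard]
      have h1 := (H.map (QuotientGroup.mk' M)).card_mul_index
      rw [hXcard] at h1
      have h2 : Nat.card M * Nat.card (G ⧸ M) = m * n := by
        rw [← hG, mul_comm]
        exact (Subgroup.card_eq_card_quotient_mul_card_subgroup M).symm
      rw [← h1] at h2
      have h3 : (H.map (QuotientGroup.mk' M)).index ∣ n := by
        have hm0 : 0 < m := by
          rcases Nat.eq_zero_or_pos m with h | h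
          · rw [h, zero_mul] at hG
            exact absurd hG Nat.card_pos.ne'
          · exact h
        apply Dvd.intro_left (Nat.card M)
        apply Nat.eq_of_mul_eq_mul_left hm0
        rw [← h2]; ring
      exact Nat.Coprime.coprime_dvd_right h3 hmn
    obtain ⟨gbar, hg⟩ := hall_conj (H.map (QuotientGroup.mk' M)) y.1 hXidx (by rw [hXcard, y.2])
    obtain ⟨g, rfl⟩ := QuotientGroup.mk'_surjective M gbar
    have h4 : y.1.comap (QuotientGroup.mk' M) = MulAut.conj g • (H ⊔ M) := by
      rw [← hg, comap_conj_smul, Subgroup.comap_map_eq, QuotientGroup.ker_mk']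
    rw [h4]
    exact (cnt_congr (Subgroup.equivSMul (MulAut.conj g) (H ⊔ M)) m).symm
  unfold cnt at hfib ⊢
  haveI : Fintype {K : Subgroup (G ⧸ M) // Nat.card K = m} := Fintype.ofFinite _
  rw [← Nat.card_congr (Equiv.sigmaFiberEquiv Φ), Nat.card_sigma]
  simp only [hfib, Finset.sum_const, smul_eq_mul, Finset.card_univ]
  rw [Nat.card_eq_fintype_card (α := {K : Subgroup (G ⧸ M) // Nat.card K = m})]

theorem mem_normalizer_iff_conj_smul {G : Type*} [Group G] (H : Subgroup G) (g : G) :
    g ∈ Subgroup.normalizer (H : Set G) ↔ MulAut.conj g • H = H := by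
  rw [Subgroup.mem_normalizer_iff'', SetLike.ext_iff]
  constructor
  · intro h x
    rw [Subgroup.mem_pointwise_smul_iff_inv_smul_mem, h x]
    simp [MulAut.smul_def]
  · intro h x
    rw [← h x, Subgroup.mem_pointwise_smul_iff_inv_smul_mem]
    simp [MulAut.smul_def]

/-- If `G = H M` with `M` normal, the Hall subgroups are permuted transitively by `M`. -/
theorem cnt_mul_card_inf {G : Type*} [Group G] [Finite G] [Group.IsSolvable G] (m n : ℕ)
    (hG : Nat.card G = m * n) (hmn : m.Coprime n) (M : Subgroup G) [M.Normal]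
    (H : Subgroup G) (hH : Nat.card H = m) (hHM : H ⊔ M = ⊤) :
    cnt G m * Nat.card (M ⊓ Subgroup.normalizer (H : Set G) : Subgroup G) = Nat.card M := by
  classical
  have hm0 : 0 < m := by
    rcases Nat.eq_zero_or_pos m with h | h
    · rw [h, zero_mul] at hG
      exact absurd hG Nat.card_pos.ne'
    · exact h
  have hidx : H.index = n := by
    have := H.card_mul_index
    rw [hH, hG] at this
    exact Nat.eq_of_mul_eq_mul_left hm0 this
  have hHall : (Nat.card H).Coprime H.index := by rw [hH, hidx]; exact hmn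
  let ψ : M → {K : Subgroup G // Nat.card K = m} := fun a =>
    ⟨MulAut.conj (a : G) • H, by rw [card_conj_smul, hH]⟩
  have hψ : ∀ a : M, (ψ a).1 = MulAut.conj (a : G) • H := fun _ => rfl
  have hsurj : Function.Surjective ψ := by
    intro K
    obtain ⟨g, hg⟩ := hall_conj H K.1 hHall (by rw [hH, K.2])
    have hgmem : g ∈ M ⊔ H := by rw [sup_comm, hHM]; exact Subgroup.mem_top g
    rw [← SetLike.mem_coe, Subgroup.normal_mul] at hgmem
    obtain ⟨a, ha, h, hh, rfl⟩ := hgmem
    refine ⟨⟨a, ha⟩, Subtype.ext ?_⟩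
    rw [hψ, ← hg, map_mul, mul_smul, Subgroup.conj_smul_eq_self_of_mem hh]
  have hfib : ∀ s : {K : Subgroup G // Nat.card K = m},
      Nat.card {a // ψ a = s} =
        Nat.card (M ⊓ Subgroup.normalizer (H : Set G) : Subgroup G) := by
    intro s
    obtain ⟨a₀, ha₀⟩ := hsurj s
    apply Nat.card_congr
    have key : ∀ a : G, MulAut.conj a • H = MulAut.conj (a₀ : G) • H ↔
        (a₀ : G)⁻¹ * a ∈ Subgroup.normalizer (H : Set G) := by
      intro a
      rw [mem_normalizer_iff_conj_smul, map_mul, mul_smul, map_inv, inv_smul_eq_iff]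
    refine ⟨fun a => ⟨(a₀ : G)⁻¹ * (a.1 : G), ?_⟩, fun b => ⟨⟨(a₀ : G) * (b : G), ?_⟩, ?_⟩, ?_, ?_⟩
    · refine Subgroup.mem_inf.2 ⟨M.mul_mem (M.inv_mem a₀.2) a.1.2, ?_⟩
      rw [← key, ← hψ, a.2, ← ha₀, hψ]
    · exact M.mul_mem a₀.2 (Subgroup.mem_inf.1 b.2).1
    · apply Subtype.ext
      rw [hψ, ← ha₀, hψ]
      simp only
      rw [key, inv_mul_cancel_left]
      exact (Subgroup.mem_inf.1 b.2).2
    · intro a
      apply Subtype.ext
      apply Subtype.ext
      simp
    · intro b
      apply Subtype.ext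
      simp
  unfold cnt
  haveI : Fintype {K : Subgroup G // Nat.card K = m} := Fintype.ofFinite _
  rw [← Nat.card_congr (Equiv.sigmaFiberEquiv ψ), Nat.card_sigma]
  simp only [hfib, Finset.sum_const, smul_eq_mul, Finset.card_univ]
  rw [Nat.card_eq_fintype_card (α := {K : Subgroup G // Nat.card K = m})]

/-- A `p`-group normalizing `M` with no non-trivial fixed point: `|M| ≡ 1 mod p`. -/
theorem card_modEq_one {G : Type*} [Group G] [Finite G] (p : ℕ)
    [Fact p.Prime] {M S : Subgroup G} (hS : IsPGroup p S)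
    (hSM : S ≤ Subgroup.normalizer ((M : Subgroup G) : Set G))
    (hfix : M ⊓ Subgroup.centralizer ((S : Subgroup G) : Set G) = ⊥) :
    Nat.card M ≡ 1 [MOD p] := by
  classical
  letI : MulAction ↥S ↥M :=
    { smul := fun s x => ⟨(s : G) * x * (s : G)⁻¹,
        (Subgroup.mem_normalizer_iff.1 (hSM s.2) x).1 x.2⟩
      one_smul := fun x => Subtype.ext (by
        change ((1 : S) : G) * x * ((1 : S) : G)⁻¹ = x
        simp)
      mul_smul := fun s t x => Subtype.ext (by
        change ((s * t : S) : G) * x * ((s * t : S) : G)⁻¹ =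
          (s : G) * ((t : G) * x * (t : G)⁻¹) * (s : G)⁻¹
        simp [mul_assoc]) }
  have hsmul : ∀ (s : S) (x : M), ((s • x : M) : G) = (s : G) * x * (s : G)⁻¹ := fun _ _ => rfl
  have h1 := hS.card_modEq_card_fixedPoints ↥M
  have h2 : Nat.card (MulAction.fixedPoints ↥S ↥M) = 1 := by
    rw [Nat.card_eq_one_iff_unique]
    refine ⟨⟨?_⟩, ⟨⟨1, ?_⟩⟩⟩
    · rintro ⟨b, hb⟩ ⟨b', hb'⟩
      have hone : ∀ c : ↥M, c ∈ MulAction.fixedPoints ↥S ↥M → c = 1 := by
        intro c hc
        have hcmem : (c : G) ∈ M ⊓ Subgroup.centralizer ((S : Subgroup G) : Set G) := by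
          refine Subgroup.mem_inf.2 ⟨c.2, ?_⟩
          rw [Subgroup.mem_centralizer_iff]
          intro s hs
          have h1 := hc ⟨s, hs⟩
          have h2 : s * (c : G) * s⁻¹ = c := by
            have := congrArg Subtype.val h1
            rwa [hsmul] at this
          calc s * (c : G) = (s * (c : G) * s⁻¹) * s := by group
            _ = (c : G) * s := by rw [h2]
        rw [hfix, Subgroup.mem_bot] at hcmem
        exact Subtype.ext hcmem
      apply Subtype.ext
      show b = b'
      rw [hone b hb, hone b' hb']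
    · intro s
      apply Subtype.ext
      rw [hsmul]
      simp
  rw [h2] at h1
  exact h1

/-- If the Hall subgroup is normal it is the only one. -/
theorem cnt_eq_one_of_normal {G : Type*} [Group G] [Finite G] [Group.IsSolvable G] (m n : ℕ)
    (hG : Nat.card G = m * n) (hmn : m.Coprime n) (H : Subgroup G) (hH : Nat.card H = m)
    (hHn : H.Normal) : cnt G m = 1 := by
  have hm0 : 0 < m := by
    rcases Nat.eq_zero_or_pos m with h | h
    · rw [h, zero_mul] at hG
      exact absurd hG Nat.card_pos.ne'
    · exact h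
  have hidx : H.index = n := by
    have := H.card_mul_index
    rw [hH, hG] at this
    exact Nat.eq_of_mul_eq_mul_left hm0 this
  have hHall : (Nat.card H).Coprime H.index := by rw [hH, hidx]; exact hmn
  unfold cnt
  rw [Nat.card_eq_one_iff_unique]
  refine ⟨⟨?_⟩, ⟨⟨H, hH⟩⟩⟩
  have key : ∀ K : {K : Subgroup G // Nat.card K = m}, K.1 = H := by
    intro K
    obtain ⟨g, hg⟩ := hall_conj H K.1 hHall (by rw [hH, K.2])
    rw [← hg, Subgroup.Normal.conj_smul_eq_self]
  intro K K'
  apply Subtype.ext
  rw [key K, key K']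

/-- The subgroup `M ⊓ D` is normal when `G = H M`, `M` is abelian normal and `H` normalises `D`. -/
theorem inf_normal_of_sup_eq_top {G : Type*} [Group G] [Finite G] (M H D : Subgroup G) [M.Normal]
    (hMc : IsMulCommutative M) (hHM : H ⊔ M = ⊤)
    (hMD : ∀ a ∈ M, ∀ c ∈ M ⊓ D, a * c * a⁻¹ ∈ D)
    (hHD : ∀ h ∈ H, ∀ c ∈ D, h * c * h⁻¹ ∈ D) : (M ⊓ D).Normal := by
  rw [← Subgroup.normalizer_eq_top_iff, eq_top_iff, ← hHM]
  apply sup_le
  · intro h hh
    apply mem_normalizer_of_forall_conj_mem
    intro c hc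
    exact Subgroup.mem_inf.2 ⟨‹M.Normal›.conj_mem c hc.1 h, hHD h hh c hc.2⟩
  · intro a ha
    apply mem_normalizer_of_forall_conj_mem
    intro c hc
    exact Subgroup.mem_inf.2 ⟨‹M.Normal›.conj_mem c hc.1 a, hMD a ha c hc⟩

theorem main_aux (n₀ : ℕ) : ∀ (G : Type u) [Group G] [Finite G] [Group.IsSolvable G],
    Nat.card G = n₀ → ∀ m n : ℕ, Nat.card G = m * n → m.Coprime n →
    ∃ l : List ℕ, cnt G m = l.prod ∧ ∀ x ∈ l, IsFactor G m x := by
  induction n₀ using Nat.strong_induction_on with
  | _ n₀ ih =>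
  intro G _ _ _ hcard m n hG hmn
  obtain ⟨H, hH⟩ := hall_exists m n hG hmn
  have hm0 : 0 < m := by
    rcases Nat.eq_zero_or_pos m with h | h
    · rw [h, zero_mul] at hG
      exact absurd hG Nat.card_pos.ne'
    · exact h
  have hn0 : 0 < n := by
    rcases Nat.eq_zero_or_pos n with h | h
    · rw [h, mul_zero] at hG
      exact absurd hG Nat.card_pos.ne'
    · exact h
  by_cases hA : ∃ M : Subgroup G, M.Normal ∧ M ≠ ⊥ ∧ Nat.card M ∣ m
  · -- Case A
    obtain ⟨M, hMn, hMne, hMm⟩ := hA
    have hMcard : 1 < Nat.card M := by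
      rcases Nat.lt_or_ge 1 (Nat.card M) with h | h
      · exact h
      · exfalso
        have : Nat.card M = 1 := le_antisymm h Nat.card_pos
        exact hMne (Subgroup.eq_bot_of_card_eq M this)
    have hq : Nat.card (G ⧸ M) * Nat.card M = Nat.card G :=
      (Subgroup.card_eq_card_quotient_mul_card_subgroup M).symm
    have hq2 : Nat.card (G ⧸ M) = (m / Nat.card M) * n := by
      apply Nat.eq_of_mul_eq_mul_right (Nat.card_pos (α := M))
      rw [hq, hG, mul_assoc, mul_comm n, ← mul_assoc, Nat.div_mul_cancel hMm]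
    have hlt : Nat.card (G ⧸ M) < n₀ := by
      rw [← hcard, ← hq]
      have hpos : 0 < Nat.card (G ⧸ M) := Nat.card_pos
      nlinarith
    have hcop : (m / Nat.card M).Coprime n :=
      Nat.Coprime.coprime_dvd_left (Nat.div_dvd_of_dvd hMm) hmn
    obtain ⟨l, hl1, hl2⟩ := ih _ hlt (G ⧸ M) rfl (m / Nat.card M) n hq2 hcop
    refine ⟨l, ?_, ?_⟩
    · rw [cnt_quotient m n hG hmn M hMm, hl1]
    · intro x hx
      exact isFactor_of_quotient M m (m / Nat.card M) x (Nat.div_dvd_of_dvd hMm) (hl2 x hx)
  · -- Case B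
    push Not at hA
    by_cases hHn : H.Normal
    · exact ⟨[], by rw [cnt_eq_one_of_normal m n hG hmn H hH hHn]; rfl, by simp⟩
    have htop : (⊤ : Subgroup G) ≠ ⊥ := by
      intro h
      apply hHn
      have : H = ⊥ := by
        rw [eq_bot_iff, ← h]; exact le_top
      rw [this]; exact Subgroup.normal_bot
    obtain ⟨M, -, hMne, hMn, hMmin⟩ := exists_isMinNormal_le (⊤ : Subgroup G) htop
    obtain ⟨hMc, q, hq, hMq⟩ := minimal_normal_of_solvable M hMne hMmin
    haveI : Fact q.Prime := ⟨hq⟩
    have hMp : IsPGroup q M := by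
      intro g
      refine ⟨1, ?_⟩
      apply Subtype.ext
      rw [pow_one, Subgroup.coe_pow]
      exact hMq g g.2
    obtain ⟨k, hk⟩ := IsPGroup.iff_card.1 hMp
    have hMn' : Nat.card M ∣ n := by
      have h1 : q ^ k ∣ m * n := by
        rw [← hk, ← hG]; exact Subgroup.card_subgroup_dvd_card M
      rcases prime_pow_dvd_of_coprime_mul hq hmn h1 with h2 | h2
      · exact absurd (hk ▸ h2) (hA M hMn hMne)
      · rw [hk]; exact h2
    have hcopM : (Nat.card H).Coprime (Nat.card M) := by
      rw [hH]; exact Nat.Coprime.coprime_dvd_right hMn' hmn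
    by_cases hX : H ⊔ M = ⊤
    · -- Case B2
      have h1 := cnt_mul_card_inf m n hG hmn M H hH hX
      have hCn : (M ⊓ Subgroup.normalizer (H : Set G)).Normal := by
        apply inf_normal_of_sup_eq_top M H _ hMc hX
        · intro a ha c hc
          have : a * c * a⁻¹ = c := by
            have := hMc.is_comm.comm ⟨a, ha⟩ ⟨c, hc.1⟩
            have h' : a * c = c * a := congrArg Subtype.val this
            rw [h', mul_inv_cancel_right]
          rw [this]; exact hc.2
        · intro h hh c hc
          exact (Subgroup.normalizer (H : Set G)).mul_mem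
            ((Subgroup.normalizer (H : Set G)).mul_mem (Subgroup.le_normalizer hh) hc)
            ((Subgroup.normalizer (H : Set G)).inv_mem (Subgroup.le_normalizer hh))
      rcases hMmin _ hCn inf_le_left with hC | hC
      · -- trivial fixed points
        rw [hC, Subgroup.card_bot, mul_one] at h1
        -- a minimal normal subgroup of H
        have hHtop : (⊤ : Subgroup H) ≠ ⊥ := by
          intro h
          apply hHn
          have : H = ⊥ := by
            rw [eq_bot_iff]
            intro x hx
            have : (⟨x, hx⟩ : H) ∈ (⊥ : Subgroup H) := h ▸ Subgroup.mem_top _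
            rw [Subgroup.mem_bot] at this
            exact Subgroup.mem_bot.2 (congrArg Subtype.val this)
          rw [this]; exact Subgroup.normal_bot
        obtain ⟨P₀, -, hP₀ne, hP₀n, hP₀min⟩ := exists_isMinNormal_le (⊤ : Subgroup H) hHtop
        obtain ⟨-, p, hp, hP₀p⟩ := minimal_normal_of_solvable P₀ hP₀ne hP₀min
        haveI : Fact p.Prime := ⟨hp⟩
        have hPp : IsPGroup p (P₀.map H.subtype) := by
          apply IsPGroup.map
          intro g
          refine ⟨1, ?_⟩
          apply Subtype.ext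
          rw [pow_one, Subgroup.coe_pow]
          exact hP₀p g g.2
        have hPne : P₀.map H.subtype ≠ ⊥ := by
          intro h
          apply hP₀ne
          rw [eq_bot_iff]
          intro x hx
          have : (x : G) ∈ P₀.map H.subtype := ⟨x, hx, rfl⟩
          rw [h, Subgroup.mem_bot] at this
          exact Subgroup.mem_bot.2 (Subtype.ext this)
        have hPH : P₀.map H.subtype ≤ H := by
          rintro _ ⟨x, -, rfl⟩; exact x.2
        have hHP : ∀ h ∈ H, ∀ z ∈ P₀.map H.subtype, h * z * h⁻¹ ∈ P₀.map H.subtype := by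
          rintro h hh _ ⟨z, hz, rfl⟩
          exact ⟨⟨h, hh⟩ * z * ⟨h, hh⟩⁻¹, hP₀n.conj_mem z hz ⟨h, hh⟩, rfl⟩
        have hpm : p ∣ m := by
          obtain ⟨j, hj⟩ := IsPGroup.iff_card.1 hPp
          have hj0 : j ≠ 0 := by
            intro h0
            rw [h0, pow_zero] at hj
            exact hPne (Subgroup.eq_bot_of_card_eq _ hj)
          have h2 : p ∣ Nat.card (P₀.map H.subtype) := by
            rw [hj]; exact dvd_pow_self p hj0
          exact h2.trans (hH ▸ Subgroup.card_dvd_of_le hPH)
        have hC'n : (M ⊓ Subgroup.centralizer ((P₀.map H.subtype : Subgroup G) : Set G)).Normal := by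
          apply inf_normal_of_sup_eq_top M H _ hMc hX
          · intro a ha c hc
            have : a * c * a⁻¹ = c := by
              have := hMc.is_comm.comm ⟨a, ha⟩ ⟨c, hc.1⟩
              have h' : a * c = c * a := congrArg Subtype.val this
              rw [h', mul_inv_cancel_right]
            rw [this]; exact hc.2
          · intro h hh c hc
            rw [Subgroup.mem_centralizer_iff] at hc ⊢
            intro z hz
            have h3 := hc (h⁻¹ * z * h) (by
              have := hHP h⁻¹ (H.inv_mem hh) z hz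
              simpa using this)
            calc z * (h * c * h⁻¹) = h * ((h⁻¹ * z * h) * c) * h⁻¹ := by group
              _ = h * (c * (h⁻¹ * z * h)) * h⁻¹ := by rw [h3]
              _ = h * c * h⁻¹ * z := by group
        rcases hMmin _ hC'n inf_le_left with hC' | hC'
        · have hmod := card_modEq_one p hPp
            (show P₀.map H.subtype ≤ Subgroup.normalizer ((M : Subgroup G) : Set G) by
              rw [Subgroup.normalizer_eq_top_iff.2 hMn]; exact le_top) hC'
          refine ⟨[Nat.card M], by simp [h1], ?_⟩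
          intro x hx
          rw [List.mem_singleton] at hx
          subst hx
          refine ⟨⟨q, k, hq, hk⟩, ⟨⊥, M, Subgroup.normal_bot, hMn, bot_lt_iff_ne_bot.2 hMne, ?_, ?_⟩,
            ⟨p, hp, hpm, hmod⟩⟩
          · intro N hN _ hNM
            exact hMmin N hN hNM
          · rw [Subgroup.relIndex_bot_left]
        · -- P₀ would be normal in G
          exfalso
          have hMcent : M ≤ Subgroup.centralizer ((P₀.map H.subtype : Subgroup G) : Set G) := by
            rw [← hC']; exact inf_le_right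
          have hPn : (P₀.map H.subtype).Normal := by
            rw [← Subgroup.normalizer_eq_top_iff, eq_top_iff, ← hX]
            apply sup_le
            · intro h hh
              exact mem_normalizer_of_forall_conj_mem _ h (hHP h hh)
            · intro a ha
              apply mem_normalizer_of_forall_conj_mem
              intro z hz
              have := (Subgroup.mem_centralizer_iff.1 (hMcent ha)) z hz
              have h' : a * z * a⁻¹ = z := by rw [← this, mul_inv_cancel_right]
              rw [h']; exact hz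
          exact hA _ hPn hPne (hH ▸ Subgroup.card_dvd_of_le hPH)
      · -- M normalises H: H is normal
        exfalso
        apply hHn
        rw [← Subgroup.normalizer_eq_top_iff, eq_top_iff, ← hX]
        apply sup_le Subgroup.le_normalizer
        rw [← hC]; exact inf_le_right
    · -- Case B1
      have h1 := cnt_mul m n hG hmn M hMn' H hH
      have hq1 : Nat.card (G ⧸ M) * Nat.card M = Nat.card G :=
        (Subgroup.card_eq_card_quotient_mul_card_subgroup M).symm
      have hMcard : 1 < Nat.card M := by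
        rcases Nat.lt_or_ge 1 (Nat.card M) with h | h
        · exact h
        · exfalso
          have : Nat.card M = 1 := le_antisymm h Nat.card_pos
          exact hMne (Subgroup.eq_bot_of_card_eq M this)
      have hq2 : Nat.card (G ⧸ M) = m * (n / Nat.card M) := by
        apply Nat.eq_of_mul_eq_mul_right (Nat.card_pos (α := M))
        rw [hq1, hG, mul_assoc, Nat.div_mul_cancel hMn']
      have hlt : Nat.card (G ⧸ M) < n₀ := by
        rw [← hcard, ← hq1]
        have hpos : 0 < Nat.card (G ⧸ M) := Nat.card_pos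
        nlinarith
      have hcop : m.Coprime (n / Nat.card M) :=
        Nat.Coprime.coprime_dvd_right (Nat.div_dvd_of_dvd hMn') hmn
      obtain ⟨l₁, hl1, hl1'⟩ := ih _ hlt (G ⧸ M) rfl m (n / Nat.card M) hq2 hcop
      -- the subgroup X
      have hXcard : Nat.card (H ⊔ M : Subgroup G) = m * Nat.card M := by
        rw [card_sup_of_coprime H M hcopM, hH]
      have hXlt : Nat.card (H ⊔ M : Subgroup G) < n₀ := by
        rw [← hcard]
        rcases lt_or_eq_of_le (Subgroup.card_le_card_group (H ⊔ M)) with h | h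
        · exact h
        · exact absurd (Subgroup.eq_top_of_card_eq _ h) hX
      have hcopX : m.Coprime (Nat.card M) := by rw [← hH]; exact hcopM
      obtain ⟨l₂, hl2, hl2'⟩ := ih _ hXlt (H ⊔ M : Subgroup G) rfl m (Nat.card M) hXcard hcopX
      -- cnt X divides |M|
      have hdvd : cnt (H ⊔ M : Subgroup G) m ∣ Nat.card M := by
        haveI : (M.subgroupOf (H ⊔ M)).Normal := Subgroup.Normal.subgroupOf hMn _
        have h2 := cnt_mul_card_inf (G := (H ⊔ M : Subgroup G)) m (Nat.card M) hXcard hcopX
          (M.subgroupOf (H ⊔ M)) (H.subgroupOf (H ⊔ M))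
          (by rw [Nat.card_congr (Subgroup.subgroupOfEquivOfLe le_sup_left).toEquiv, hH])
          (by rw [← Subgroup.subgroupOf_sup le_sup_left le_sup_right]; exact Subgroup.subgroupOf_self _)
        rw [Nat.card_congr (Subgroup.subgroupOfEquivOfLe (le_sup_right : M ≤ H ⊔ M)).toEquiv] at h2
        exact Dvd.intro _ h2
      refine ⟨l₁ ++ l₂, ?_, ?_⟩
      · rw [List.prod_append, h1, hl1, hl2]
      · intro x hx
        rcases List.mem_append.1 hx with hx | hx
        · exact isFactor_of_quotient M m m x dvd_rfl (hl1' x hx)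
        · apply isFactor_of_dvd_minimal (H ⊔ M) M hMne hMmin m x (hl2' x hx)
          exact (List.dvd_prod hx).trans (hl2 ▸ hdvd)

theorem main {G : Type u} [Group G] [Finite G] [Group.IsSolvable G] (m n : ℕ)
    (hG : Nat.card G = m * n) (hmn : Nat.Coprime m n) :
    ∃ (k : ℕ) (f : Fin k → ℕ), Nat.card {H : Subgroup G // Nat.card H = m} = ∏ i, f i ∧
      ∀ i, (∃ q e : ℕ, q.Prime ∧ f i = q ^ e) ∧
        (∃ K L : Subgroup G, K.Normal ∧ L.Normal ∧ K < L ∧
          (∀ M : Subgroup G, M.Normal → K ≤ M → M ≤ L → M = K ∨ M = L) ∧ f i ∣ K.relIndex L) ∧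
        (∃ q : ℕ, q.Prime ∧ q ∣ m ∧ f i ≡ 1 [MOD q]) := by
  obtain ⟨l, hl1, hl2⟩ := main_aux (Nat.card G) G rfl m n hG hmn
  refine ⟨l.length, l.get, ?_, ?_⟩
  · rw [← List.prod_ofFn, List.ofFn_get]
    exact hl1
  · intro i
    exact hl2 _ (List.get_mem l i)

/-- Let `G` be a finite solvable group of order `mn` with `gcd(m, n) = 1`. Then the number of subgroups of order `m` is a product of natural numbers each of which is a power of a prime, divides the order of some chief factor of `G` (a quotient `L/K` of normal subgroups `K < L` of `G` with no normal subgroup of `G` strictly between them), and is congruent to `1` modulo some prime divisor of `m`. -/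
theorem result {G : Type*} [Group G] [Finite G] [Group.IsSolvable G] (m n : ℕ) (hG : Nat.card G = m * n) (hmn : Nat.Coprime m n) : ∃ (k : ℕ) (f : Fin k → ℕ), Nat.card {H : Subgroup G // Nat.card H = m} = ∏ i, f i ∧ ∀ i, (∃ q e : ℕ, q.Prime ∧ f i = q ^ e) ∧ (∃ K L : Subgroup G, K.Normal ∧ L.Normal ∧ K < L ∧ (∀ M : Subgroup G, M.Normal → K ≤ M → M ≤ L → M = K ∨ M = L) ∧ f i ∣ K.relIndex L) ∧ (∃ q : ℕ, q.Prime ∧ q ∣ m ∧ f i ≡ 1 [MOD q]) :=
  main m n hG hmn

end Cfsg.Agent.S4214
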