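import Cfsg.Statements.S4219

set_option autoImplicit false
open Cfsg

namespace Cfsg.Agent.S4219

open scoped Pointwise

variable {G : Type*} [Group G]

theorem mem_smul_sylow {p : ℕ} (g x : G) (P : Sylow p G) :
    x ∈ (g • P : Sylow p G) ↔ g⁻¹ * x * g ∈ P := by
  have h1 : x ∈ (g • P : Sylow p G) ↔ x ∈ ((g • P : Sylow p G) : Subgroup G) := Iff.rfl
  rw [h1, Sylow.coe_subgroup_smul, Subgroup.mem_pointwise_smul_iff_inv_smul_mem]
  simp [MulAut.smul_def]
  rfl

theorem mem_conj_smul (g y : G) (M : Subgroup G) :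
    y ∈ MulAut.conj g • M ↔ g⁻¹ * y * g ∈ M := by
  rw [Subgroup.mem_pointwise_smul_iff_inv_smul_mem]
  simp [MulAut.smul_def]

/-- Two `p`-subgroups of `K` of the full `p`-power order are conjugate under `K`. -/
theorem conj_of_card_eq [Finite G] {p : ℕ} [Fact p.Prime] (K Q1 Q2 : Subgroup G)
    (h1 : Q1 ≤ K) (h2 : Q2 ≤ K) (c1 : Nat.card Q1 = p ^ (Nat.card K).factorization p)
    (c2 : Nat.card Q2 = p ^ (Nat.card K).factorization p) :
    ∃ h ∈ K, MulAut.conj h • Q2 = Q1 := by
  have e1 : Nat.card (Q1.subgroupOf K) = p ^ (Nat.card K).factorization p := by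
    rw [Nat.card_congr (Subgroup.subgroupOfEquivOfLe h1).toEquiv, c1]
  have e2 : Nat.card (Q2.subgroupOf K) = p ^ (Nat.card K).factorization p := by
    rw [Nat.card_congr (Subgroup.subgroupOfEquivOfLe h2).toEquiv, c2]
  let S1 : Sylow p K := Sylow.ofCard (Q1.subgroupOf K) e1
  let S2 : Sylow p K := Sylow.ofCard (Q2.subgroupOf K) e2
  obtain ⟨h, hh⟩ := MulAction.exists_smul_eq K S2 S1
  refine ⟨h.1, h.2, ?_⟩
  ext y
  rw [mem_conj_smul]
  constructor
  · intro hy
    have hyK : y ∈ K := by
      have := K.mul_mem (K.mul_mem h.2 (h2 hy)) (K.inv_mem h.2)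
      simpa [mul_assoc] using this
    have : (⟨y, hyK⟩ : K) ∈ (h • S2 : Sylow p K) := by
      rw [mem_smul_sylow]
      exact hy
    rw [hh] at this
    exact this
  · intro hy
    have hyK : y ∈ K := h1 hy
    have : (⟨y, hyK⟩ : K) ∈ S1 := hy
    rw [← hh, mem_smul_sylow] at this
    exact this

theorem result {G : Type*} [Group G] [Finite G] {α : Type*} [Fintype α] [MulAction G α] {t : ℕ} (hG : MulAction.IsMultiplyPretransitive G α t) (x : Fin t ↪ α) {p : ℕ} [Fact p.Prime] (P : Sylow p (MulAction.stabilizer G x)) (a b : Fin t ↪ α) (ha : ∀ i, a i ∈ MulAction.fixedPoints ((P : Subgroup (MulAction.stabilizer G x)).map (MulAction.stabilizer G x).subtype) α) (hb : ∀ i, b i ∈ MulAction.fixedPoints ((P : Subgroup (MulAction.stabilizer G x)).map (MulAction.stabilizer G x).subtype) α) : ∃ g ∈ Subgroup.normalizer ((((P : Subgroup (MulAction.stabilizer G x)).map (MulAction.stabilizer G x).subtype) : Subgroup G) : Set G), g • a = b := by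
  set P' : Subgroup G := (P : Subgroup (MulAction.stabilizer G x)).map (MulAction.stabilizer G x).subtype with hP'
  haveI : MulAction.IsPretransitive G (Fin t ↪ α) := hG
  obtain ⟨g₀, hg₀⟩ := MulAction.exists_smul_eq G a b
  obtain ⟨k, hk⟩ := MulAction.exists_smul_eq G x b
  -- P' fixes a and b as embeddings
  have hPa : P' ≤ MulAction.stabilizer G a := by
    intro h hh
    rw [MulAction.mem_stabilizer_iff]
    ext i
    rw [Function.Embedding.smul_apply]
    exact ha i ⟨h, hh⟩
  have hPb : P' ≤ MulAction.stabilizer G b := by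
    intro h hh
    rw [MulAction.mem_stabilizer_iff]
    ext i
    rw [Function.Embedding.smul_apply]
    exact hb i ⟨h, hh⟩
  have hQ2 : MulAut.conj g₀ • P' ≤ MulAction.stabilizer G b := by
    intro y hy
    rw [mem_conj_smul] at hy
    have := hPa hy
    rw [MulAction.mem_stabilizer_iff] at this ⊢
    rw [mul_smul, mul_smul, hg₀, inv_smul_eq_iff, hg₀] at this
    exact this
  have hcardK : Nat.card (MulAction.stabilizer G b) = Nat.card (MulAction.stabilizer G x) := by
    rw [← hk, MulAction.stabilizer_smul_eq_stabilizer_map_conj]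
    exact Nat.card_congr
      ((MulAction.stabilizer G x).equivMapOfInjective _ (MulAut.conj k).injective).toEquiv.symm
  have c1 : Nat.card P' = p ^ (Nat.card (MulAction.stabilizer G b)).factorization p := by
    rw [hcardK, ← P.card_eq_multiplicity]
    exact Nat.card_congr
      ((P : Subgroup (MulAction.stabilizer G x)).equivMapOfInjective _
        (MulAction.stabilizer G x).subtype_injective).toEquiv.symm
  have c2 : Nat.card (MulAut.conj g₀ • P' : Subgroup G) =
      p ^ (Nat.card (MulAction.stabilizer G b)).factorization p := by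
    rw [← c1]
    exact Nat.card_congr (Subgroup.equivSMul (MulAut.conj g₀) P').toEquiv.symm
  obtain ⟨h, hhK, hh⟩ := conj_of_card_eq (MulAction.stabilizer G b) P' (MulAut.conj g₀ • P') hPb hQ2 c1 c2
  refine ⟨h * g₀, ?_, ?_⟩
  · have e : MulAut.conj (h * g₀) • P' = P' := by rw [map_mul, mul_smul]; exact hh
    rw [Subgroup.mem_set_normalizer_iff]
    intro n
    have h1 : MulAut.conj (h * g₀) • n ∈ MulAut.conj (h * g₀) • P' ↔ n ∈ P' :=
      Subgroup.smul_mem_pointwise_smul_iff
    rw [e] at h1
    have h2 : MulAut.conj (h * g₀) • n = h * g₀ * n * (h * g₀)⁻¹ := by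
      rw [MulAut.smul_def, MulAut.conj_apply]
    rw [h2] at h1
    exact h1.symm
  · rw [mul_smul, hg₀]
    exact MulAction.mem_stabilizer_iff.1 hhK

end Cfsg.Agent.S4219
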