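import Cfsg.Statements.S4222

set_option autoImplicit false
open Cfsg

namespace Cfsg.Agent.S4222

theorem result {T : Type*} [Group T] [Finite T] (N : Subgroup T) [N.Normal] (hz : Subgroup.center ↥N = ⊥) (ha : Function.Surjective (MulAut.conj : ↥N →* MulAut ↥N)) : (Subgroup.centralizer (N : Set T)).IsComplement' N := by
  apply Subgroup.isComplement'_of_disjoint_and_mul_eq_univ
  · rw [Subgroup.disjoint_def]
    intro x hxC hxN
    have hc : (⟨x, hxN⟩ : N) ∈ Subgroup.center N := by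
      rw [Subgroup.mem_center_iff]
      rintro ⟨y, hy⟩
      apply Subtype.ext
      exact hxC y hy
    rw [hz, Subgroup.mem_bot] at hc
    exact congrArg Subtype.val hc
  · rw [Set.eq_univ_iff_forall]
    intro t
    obtain ⟨n, hn⟩ := ha (MulAut.conjNormal t)
    refine ⟨t * (n : T)⁻¹, ?_, (n : T), n.2, by group⟩
    change t * (n : T)⁻¹ ∈ Subgroup.centralizer (N : Set T)
    rw [Subgroup.mem_centralizer_iff]
    intro y hy
    have hy' : (n : T)⁻¹ * y * n ∈ N := N.mul_mem (N.mul_mem (N.inv_mem n.2) hy) n.2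
    have h1 := congrArg (fun φ : MulAut N => ((φ ⟨(n : T)⁻¹ * y * n, hy'⟩ : N) : T)) hn
    simp only [MulAut.conj_apply, MulAut.conjNormal_apply, Subgroup.coe_mul,
      Subgroup.coe_inv] at h1
    -- h1 : n * (n⁻¹ y n) * n⁻¹ = t * (n⁻¹ y n) * t⁻¹
    have h2 : y = t * ((n : T)⁻¹ * y * n) * t⁻¹ := by rw [← h1]; group
    calc y * (t * (n : T)⁻¹) = (t * ((n : T)⁻¹ * y * n) * t⁻¹) * (t * (n : T)⁻¹) := by rw [← h2]
      _ = t * (n : T)⁻¹ * y := by group

end Cfsg.Agent.S4222
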