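import Cfsg.Statements.S4226
import Cfsg.Agent.Lib.Helper1.Yo6

set_option autoImplicit false
open Cfsg

namespace Cfsg.Agent.S4226

/-- Let `P` be a Sylow `p`-subgroup of the finite group `G` with nilpotency class less than `p` (the term of index `p - 1` of the lower central series of `P`, indexed from `0`, is trivial), and let `N` be its normalizer. Then `O^p(N) = O^p(G) ∩ N`, where `O^p` denotes the subgroup generated by the elements of order prime to `p`; so the largest `p`-factor groups of `G` and of `N` are isomorphic. -/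
theorem result {G : Type*} [Group G] [Finite G] {p : ℕ} [Fact p.Prime] (P : Sylow p G) (hcl : (P : Subgroup G).lowerCentralSeries (p - 1) = ⊥) : Cfsg.pResidualOf p (Subgroup.normalizer ((P : Subgroup G) : Set G)) = Cfsg.pResidual p G ⊓ Subgroup.normalizer ((P : Subgroup G) : Set G) := by
  apply Cfsg.Agent.Lib.Helper1.Yo.yoshida_pResidual P (P : Subgroup G)
    (Cfsg.Agent.Lib.Helper1.Yo.sylow_weaklyClosed_self P)
  intro A _ hA M z hcfg ν e he
  have h1 : Cfsg.Agent.Lib.Helper1.Yo.iterComm z (p - 1) e = 1 := by
    apply Subtype.ext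
    rw [Cfsg.Agent.Lib.Helper1.Yo.coe_iterComm]
    have h2 := Cfsg.Agent.Lib.Helper1.Yo.iterComm_mem_lowerCentralSeries (P : Subgroup G)
      z.2 e.2 (p - 1)
    rw [hcl, Subgroup.mem_bot] at h2
    exact h2
  rw [h1]
  exact Cfsg.Agent.Lib.Helper1.Yo.extOne_one M ν

end Cfsg.Agent.S4226
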