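import Cfsg.Statements.S4227
-- import your own Cfsg.Agent.* helpers here
import Mathlib
import Cfsg.Agent.Lib.Helper1.FrattiniP
import Cfsg.Agent.Lib.Helper1.PCore
import Cfsg.Agent.Lib.Helper1.PLengthOne
import Cfsg.Agent.Lib.Helper1.FittingCentralizer
import Cfsg.Agent.Lib.Helper3.PSolvable
import Cfsg.Agent.Lib.Helper3.UpperPSeries
import Cfsg.Agent.S4218
import Cfsg.Agent.S0144

set_option autoImplicit false
open Cfsg

namespace Cfsg.Agent.S4227

open Cfsg.Agent.Lib.Helper1
open scoped commutatorElement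


/-- The `A₄` lemma: a four-group `{1,S,S',S''}` permuted by `X`, acting on an abelian group of exponent
`3` such that all elements `Y` in the coset `W X` satisfy `1 + Y + Y² = 0`, acts trivially. -/
theorem a4_lemma {V : Type*} [CommGroup V] (hV : ∀ v : V, v ^ 3 = 1)
    (X S S' S'' : MulAut V)
    (r1 : X * S = S' * X) (r2 : X * S' = S'' * X) (r3 : X * S'' = S * X)
    (q : S * S = 1)
    (pr : S * S' = S'') (pr2 : S * S'' = S') (pr3 : S' * S'' = S) (pr4 : S'' * S = S')
    (ha : ∀ v, v * X v * X (X v) = 1)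
    (hb : ∀ v, v * (S * X) v * (S * X) ((S * X) v) = 1)
    (hc : ∀ v, v * (S' * X) v * (S' * X) ((S' * X) v) = 1)
    (hd : ∀ v, v * (S'' * X) v * (S'' * X) ((S'' * X) v) = 1) :
    S = 1 := by
  have R1 : ∀ u, X (S u) = S' (X u) := fun u => DFunLike.congr_fun r1 u
  have R2 : ∀ u, X (S' u) = S'' (X u) := fun u => DFunLike.congr_fun r2 u
  have R3 : ∀ u, X (S'' u) = S (X u) := fun u => DFunLike.congr_fun r3 u
  have Q : ∀ u, S (S u) = u := fun u => DFunLike.congr_fun q u
  have PR : ∀ u, S (S' u) = S'' u := fun u => DFunLike.congr_fun pr u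
  have PR2 : ∀ u, S (S'' u) = S' u := fun u => DFunLike.congr_fun pr2 u
  have PR3 : ∀ u, S' (S'' u) = S u := fun u => DFunLike.congr_fun pr3 u
  have PR4 : ∀ u, S'' (S u) = S' u := fun u => DFunLike.congr_fun pr4 u
  set σ : V → V := fun u => u * S u * S' u * S'' u with hσ
  have σmul : ∀ a b, σ (a * b) = σ a * σ b := by
    intro a b
    simp only [hσ, map_mul]
    simp only [mul_assoc, mul_left_comm, mul_comm]
  have σinv : ∀ a, σ a⁻¹ = (σ a)⁻¹ := by
    intro a
    have h1 : σ (a⁻¹ * a) = σ a⁻¹ * σ a := σmul _ _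
    have h2 : σ (1 : V) = 1 := by simp [hσ]
    rw [inv_mul_cancel, h2] at h1
    exact eq_inv_of_mul_eq_one_left h1.symm
  have hσfix : ∀ v, σ v = v := by
    intro v
    have hb' : v * S (X v) * S'' (X (X v)) = 1 := by
      have := hb v
      simp only [MulAut.mul_apply] at this
      rwa [R1, PR] at this
    have hc' : v * S' (X v) * S (X (X v)) = 1 := by
      have := hc v
      simp only [MulAut.mul_apply] at this
      rwa [R2, PR3] at this
    have hd' : v * S'' (X v) * S' (X (X v)) = 1 := by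
      have := hd v
      simp only [MulAut.mul_apply] at this
      rwa [R3, PR4] at this
    have hprod : v ^ 4 * (σ (X v) * σ (X (X v))) = 1 := by
      calc v ^ 4 * (σ (X v) * σ (X (X v)))
          = (v * X v * X (X v)) * (v * S (X v) * S'' (X (X v))) * (v * S' (X v) * S (X (X v)))
              * (v * S'' (X v) * S' (X (X v))) := by
            simp only [hσ, pow_succ, pow_zero, one_mul]
            simp only [mul_assoc, mul_left_comm, mul_comm]
        _ = 1 := by rw [ha, hb', hc', hd']; simp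
    have h2 : σ (X v) * σ (X (X v)) = (σ v)⁻¹ := by
      rw [← σmul, ← σinv]
      congr 1
      have := ha v
      rw [mul_assoc] at this
      exact (eq_inv_of_mul_eq_one_right this)
    rw [h2] at hprod
    have h4 : v ^ 4 = v := by rw [pow_succ, hV, one_mul]
    rw [h4] at hprod
    exact (mul_inv_eq_one.1 hprod).symm
  have hSσ : ∀ u, S (σ u) = σ u := by
    intro u
    simp only [hσ, map_mul, Q, PR, PR2]
    simp only [mul_assoc, mul_left_comm, mul_comm]
  ext v
  rw [MulAut.one_apply]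
  calc S v = S (σ v) := by rw [hσfix]
    _ = σ v := hSσ v
    _ = v := hσfix v




/-- Version with a bare commutativity hypothesis. -/
theorem a4_lemma' {V : Type*} [Group V] (hcomm : ∀ a b : V, a * b = b * a) (hV : ∀ v : V, v ^ 3 = 1)
    (X S S' S'' : MulAut V)
    (r1 : X * S = S' * X) (r2 : X * S' = S'' * X) (r3 : X * S'' = S * X)
    (q : S * S = 1)
    (pr : S * S' = S'') (pr2 : S * S'' = S') (pr3 : S' * S'' = S) (pr4 : S'' * S = S')
    (ha : ∀ v, v * X v * X (X v) = 1)
    (hb : ∀ v, v * (S * X) v * (S * X) ((S * X) v) = 1)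
    (hc : ∀ v, v * (S' * X) v * (S' * X) ((S' * X) v) = 1)
    (hd : ∀ v, v * (S'' * X) v * (S'' * X) ((S'' * X) v) = 1) :
    S = 1 := by
  letI : CommGroup V := { ‹Group V› with mul_comm := hcomm }
  exact a4_lemma hV X S S' S'' r1 r2 r3 q pr pr2 pr3 pr4 ha hb hc hd




theorem map_frattini_aut {A : Type*} [Group A] (e : A ≃* A) :
    (frattini A).map (e : A →* A) = frattini A := by
  have := OrderIso.map_radical e.mapSubgroup
  exact this


/-- Conjugation action of `X` on the Frattini quotient of a normal subgroup `P`. -/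
noncomputable def frattiniAct {X : Type*} [Group X] (P : Subgroup X) [P.Normal] :
    X →* MulAut (↥P ⧸ frattini ↥P) where
  toFun g := QuotientGroup.congr (frattini ↥P) (frattini ↥P) (MulAut.conjNormal g)
    (map_frattini_aut _)
  map_one' := by
    ext v
    induction v using QuotientGroup.induction_on with
    | H u => simp
  map_mul' := by
    intro g h
    ext v
    induction v using QuotientGroup.induction_on with
    | H u => simp


theorem frattiniAct_mk {X : Type*} [Group X] (P : Subgroup X) [P.Normal] (g : X) (u : P) :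
    frattiniAct P g (QuotientGroup.mk u) = QuotientGroup.mk (MulAut.conjNormal g u) := by
  rfl


/-- A `p`-group acts trivially on its own Frattini quotient. -/
theorem frattiniAct_of_mem {X : Type*} [Group X] [Finite X] (p : ℕ) [Fact p.Prime] (P : Subgroup X)
    [P.Normal] (hP : IsPGroup p P) (g : X) (hg : g ∈ P) : frattiniAct P g = 1 := by
  ext v
  induction v using QuotientGroup.induction_on with
  | H u =>
    rw [frattiniAct_mk, MulAut.one_apply]
    rw [QuotientGroup.eq]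
    have h1 : ⁅(⟨g, hg⟩ : P), u⁻¹⁆ ∈ commutator ↥P :=
      (Subgroup.commutator_mem_commutator (Subgroup.mem_top _) (Subgroup.mem_top _))
    have h2 := commutator_le_frattini_of_isPGroup p hP h1
    convert h2 using 1
    apply Subtype.ext
    simp [commutatorElement_def, MulAut.conjNormal_apply, mul_assoc]


/-- Kernel criterion. -/
theorem frattiniAct_eq_one_iff {X : Type*} [Group X] (P : Subgroup X) [P.Normal] (g : X) :
    frattiniAct P g = 1 ↔ ∀ y ∈ P, g * y * g⁻¹ * y⁻¹ ∈ (frattini ↥P).map P.subtype := by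
  constructor
  · intro h y hy
    have h1 := DFunLike.congr_fun h (QuotientGroup.mk ⟨y, hy⟩)
    rw [frattiniAct_mk, MulAut.one_apply] at h1
    have h2 := QuotientGroup.eq.1 h1.symm
    -- h2 : ⟨y,hy⟩⁻¹ * conj ∈ frattini
    have h3 : (⟨y, hy⟩ : P) * ((⟨y, hy⟩ : P)⁻¹ * MulAut.conjNormal g ⟨y, hy⟩) * (⟨y, hy⟩ : P)⁻¹
        ∈ frattini ↥P := by
      exact (inferInstance : (frattini ↥P).Normal).conj_mem _ h2 _
    refine ⟨_, h3, ?_⟩
    simp [MulAut.conjNormal_apply]
  · intro h
    ext v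
    induction v using QuotientGroup.induction_on with
    | H u =>
      rw [frattiniAct_mk, MulAut.one_apply, QuotientGroup.eq]
      obtain ⟨w, hw, hwe⟩ := h u u.2
      have h3 : u⁻¹ * w * u ∈ frattini ↥P := by
        have := (inferInstance : (frattini ↥P).Normal).conj_mem _ hw u⁻¹
        simpa using this
      have h4 : (u⁻¹ * w * u)⁻¹ ∈ frattini ↥P := inv_mem h3
      convert h4 using 1
      apply Subtype.ext
      simp only [Subgroup.subtype_apply] at hwe
      simp [MulAut.conjNormal_apply, hwe, mul_assoc]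




/-- Word computations in the group generated by three commuting involutions `t, t', t''`
cyclically permuted by an element `x` of order `3`. -/
theorem klein_relations {H : Type*} [Group H] (x t t' t'' : H)
    (hx3 : x * (x * x) = 1)
    (c1 : x * t = t' * x) (c2 : x * t' = t'' * x) (c3 : x * t'' = t * x)
    (sq1 : t * t = 1) (sq2 : t' * t' = 1) (sq3 : t'' * t'' = 1)
    (k1 : t' * t = t * t') (k2 : t'' * t = t * t'') (k3 : t'' * t' = t' * t'') :
    (x * (t * t') = (t' * t'') * x ∧ x * (t' * t'') = (t'' * t) * x ∧ x * (t'' * t) = (t * t') * x) ∧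
    ((t * t') * (t * t') = 1) ∧
    ((t * t') * (t' * t'') = t'' * t ∧ (t * t') * (t'' * t) = t' * t'' ∧
      (t' * t'') * (t'' * t) = t * t' ∧ (t'' * t) * (t * t') = t' * t'') ∧
    (((t * t') * x) ^ 3 = 1 ∧ ((t' * t'') * x) ^ 3 = 1 ∧ ((t'' * t) * x) ^ 3 = 1) := by
  have hx3' : ∀ r, x * (x * (x * r)) = r := fun r => by
    rw [← mul_assoc, ← mul_assoc, mul_assoc x x x, hx3, one_mul]
  have c1' : ∀ r, x * (t * r) = t' * (x * r) := fun r => by rw [← mul_assoc, c1, mul_assoc]
  have c2' : ∀ r, x * (t' * r) = t'' * (x * r) := fun r => by rw [← mul_assoc, c2, mul_assoc]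
  have c3' : ∀ r, x * (t'' * r) = t * (x * r) := fun r => by rw [← mul_assoc, c3, mul_assoc]
  have sq1' : ∀ r, t * (t * r) = r := fun r => by rw [← mul_assoc, sq1, one_mul]
  have sq2' : ∀ r, t' * (t' * r) = r := fun r => by rw [← mul_assoc, sq2, one_mul]
  have sq3' : ∀ r, t'' * (t'' * r) = r := fun r => by rw [← mul_assoc, sq3, one_mul]
  have k1' : ∀ r, t' * (t * r) = t * (t' * r) := fun r => by rw [← mul_assoc, k1, mul_assoc]
  have k2' : ∀ r, t'' * (t * r) = t * (t'' * r) := fun r => by rw [← mul_assoc, k2, mul_assoc]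
  have k3' : ∀ r, t'' * (t' * r) = t' * (t'' * r) := fun r => by rw [← mul_assoc, k3, mul_assoc]
  refine ⟨⟨?_, ?_, ?_⟩, ?_, ⟨?_, ?_, ?_, ?_⟩, ⟨?_, ?_, ?_⟩⟩ <;>
  simp only [pow_succ, pow_zero, one_mul, mul_assoc, c1, c2, c3, c1', c2', c3', sq1, sq2, sq3, sq1', sq2', sq3',
    k1, k2, k3, k1', k2', k3', hx3, hx3', mul_one]




/-- In a group of exponent dividing `6`, a `p`-element (`p ∈ {2, 3}`) has order dividing `p`. -/
theorem pow_prime_eq_one {X : Type*} [Group X] (p : ℕ) (hp : p.Prime) (hpp : ¬ p ^ 2 ∣ 6)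
    (x : X) (hx6 : x ^ 6 = 1) (hxp : ∃ k : ℕ, x ^ p ^ k = 1) : x ^ p = 1 := by
  obtain ⟨k, hk⟩ := hxp
  have h1 : orderOf x ∣ p ^ k := orderOf_dvd_of_pow_eq_one hk
  obtain ⟨j, -, hj⟩ := (Nat.dvd_prime_pow hp).1 h1
  have h2 : orderOf x ∣ 6 := orderOf_dvd_of_pow_eq_one hx6
  have hj1 : j ≤ 1 := by
    by_contra hcon
    push Not at hcon
    apply hpp
    rw [hj] at h2
    exact dvd_trans (pow_dvd_pow p hcon) h2
  apply orderOf_dvd_iff_pow_eq_one.1
  rw [hj]
  calc p ^ j ∣ p ^ 1 := pow_dvd_pow p hj1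
    _ = p := pow_one p


/-- `O_p(G / O_p(G)) = 1`. -/
theorem pCore_quotient_pCore {X : Type*} [Group X] [Finite X] (p : ℕ) [Fact p.Prime]
    (P : Subgroup X) [P.Normal] (hP : P = Cfsg.pCore p X) : Cfsg.pCore p (X ⧸ P) = ⊥ := by
  have hsurj := QuotientGroup.mk'_surjective P
  have hM : IsPGroup p (Cfsg.pCore p (X ⧸ P)) := pCore_isPGroup p
  have hK : IsPGroup p ((Cfsg.pCore p (X ⧸ P)).comap (QuotientGroup.mk' P)) := by
    apply IsPGroup.comap_of_ker_isPGroup hM
    rw [QuotientGroup.ker_mk', hP]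
    exact pCore_isPGroup p
  have hKn : ((Cfsg.pCore p (X ⧸ P)).comap (QuotientGroup.mk' P)).Normal :=
    (inferInstance : (Cfsg.pCore p (X ⧸ P)).Normal).comap _
  have hle : (Cfsg.pCore p (X ⧸ P)).comap (QuotientGroup.mk' P) ≤ P := by
    exact le_trans (le_pCore hKn hK) hP.ge
  rw [eq_bot_iff, ← Subgroup.map_comap_eq_self_of_surjective hsurj (Cfsg.pCore p (X ⧸ P))]
  calc ((Cfsg.pCore p (X ⧸ P)).comap (QuotientGroup.mk' P)).map (QuotientGroup.mk' P)
      ≤ P.map (QuotientGroup.mk' P) := Subgroup.map_mono hle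
    _ = ⊥ := by simp




/-- In a finite group of exponent dividing `6`, `O_{2'} ≤ O_3`. -/
theorem pPrimeCore_two_le {H : Type*} [Group H] [Finite H] (h6 : ∀ x : H, x ^ 6 = 1) :
    Cfsg.pPrimeCore 2 H ≤ Cfsg.pCore 3 H := by
  apply le_pCore (inferInstance : (Cfsg.pPrimeCore 2 H).Normal)
  intro y
  refine ⟨1, ?_⟩
  rw [pow_one]
  have hodd : (Nat.card (Cfsg.pPrimeCore 2 H)).Coprime 2 := pPrimeCore_card_coprime 2
  have h1 : orderOf y ∣ Nat.card (Cfsg.pPrimeCore 2 H) := orderOf_dvd_natCard y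
  have h2 : orderOf y ∣ 6 := by
    apply orderOf_dvd_of_pow_eq_one
    apply Subtype.ext
    rw [Subgroup.coe_pow]
    exact h6 _
  have h3 : (orderOf y).Coprime 2 := Nat.Coprime.coprime_dvd_left h1 hodd
  have h4 : orderOf y ∣ 3 := by
    have : orderOf y ∣ 2 * 3 := h2
    exact (Nat.Coprime.dvd_mul_left h3).1 this
  exact orderOf_dvd_iff_pow_eq_one.1 h4


/-- The structure found in `H = X / O_3(X)` when `3` divides its order. -/
theorem exists_config {H : Type*} [Group H] [Finite H] (h6 : ∀ x : H, x ^ 6 = 1)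
    (hsol : Group.IsSolvable H) (hcore : Cfsg.pCore 3 H = ⊥) (h3 : 3 ∣ Nat.card H) :
    ∃ x t t' t'' : H, x * (x * x) = 1 ∧ x * t = t' * x ∧ x * t' = t'' * x ∧ x * t'' = t * x ∧
      t * t = 1 ∧ t' * t' = 1 ∧ t'' * t'' = 1 ∧ t' * t = t * t' ∧ t'' * t = t * t'' ∧
      t'' * t' = t' * t'' ∧ t * t' ≠ 1 := by
  haveI : Fact (Nat.Prime 2) := ⟨Nat.prime_two⟩
  haveI : Fact (Nat.Prime 3) := ⟨Nat.prime_three⟩
  obtain ⟨x, hx⟩ := exists_prime_orderOf_dvd_card' 3 h3
  have hx3 : x ^ 3 = 1 := by rw [← hx]; exact pow_orderOf_eq_one x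
  have hcore2 : Cfsg.pPrimeCore 2 H = ⊥ := by
    rw [eq_bot_iff, ← hcore]
    exact pPrimeCore_two_le h6
  have hcent := centralizer_pCore_le (G := H) 2 hcore2
  have hT2 : IsPGroup 2 (Cfsg.pCore 2 H) := pCore_isPGroup 2
  have hTn : (Cfsg.pCore 2 H).Normal := inferInstance
  have hTsq : ∀ a ∈ Cfsg.pCore 2 H, a * a = 1 := by
    intro a ha
    have := pow_prime_eq_one 2 Nat.prime_two (by decide) a (h6 a) (by
      obtain ⟨k, hk⟩ := hT2 ⟨a, ha⟩
      exact ⟨k, by simpa using congrArg Subtype.val hk⟩)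
    rwa [pow_two] at this
  have hTcomm : ∀ a ∈ Cfsg.pCore 2 H, ∀ b ∈ Cfsg.pCore 2 H, a * b = b * a := by
    intro a ha b hb
    have h1 := hTsq (a * b) (mul_mem ha hb)
    have h2 := hTsq a ha
    have h3 := hTsq b hb
    calc a * b = a * b * (b * a * (b * a)) := by rw [hTsq (b * a) (mul_mem hb ha), mul_one]
      _ = (a * (b * b) * a) * (b * a) := by group
      _ = b * a := by rw [h3, mul_one, h2, one_mul]
  have hxT : x ∉ Cfsg.pCore 2 H := by
    intro hxT
    have h2 := hTsq x hxT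
    have : x = 1 := by
      calc x = x ^ 3 * (x * x)⁻¹ := by simp [pow_succ, mul_assoc]
        _ = 1 := by rw [hx3, h2]; simp
    rw [this, orderOf_one] at hx
    omega
  have hxC : x ∉ Subgroup.centralizer (Cfsg.pCore 2 H : Set H) := fun h => hxT (hcent h)
  rw [Subgroup.mem_centralizer_iff] at hxC
  push Not at hxC
  obtain ⟨t, ht, htx⟩ := hxC
  have ht' : x * t * x⁻¹ ∈ Cfsg.pCore 2 H := hTn.conj_mem t ht x
  have ht'' : x * (x * t * x⁻¹) * x⁻¹ ∈ Cfsg.pCore 2 H := hTn.conj_mem _ ht' x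
  have hxinv : x⁻¹ = x * x := by
    calc x⁻¹ = x⁻¹ * x ^ 3 := by rw [hx3, mul_one]
      _ = x * x := by simp [pow_succ, mul_assoc]
  refine ⟨x, t, x * t * x⁻¹, x * (x * t * x⁻¹) * x⁻¹, ?_, ?_, ?_, ?_, hTsq t ht, hTsq _ ht', hTsq _ ht'',
    hTcomm _ ht' _ ht, hTcomm _ ht'' _ ht, hTcomm _ ht'' _ ht', ?_⟩
  · rw [← hx3]; simp [pow_succ, mul_assoc]
  · group
  · group
  · calc x * (x * (x * t * x⁻¹) * x⁻¹) = x ^ 3 * t * (x ^ 3)⁻¹ * x := by simp [pow_succ, mul_assoc]
      _ = t * x := by rw [hx3]; group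
  · intro h
    apply htx
    have h1 : x * t * x⁻¹ = t := by
      calc x * t * x⁻¹ = (t * t) * (x * t * x⁻¹) := by rw [hTsq t ht, one_mul]
        _ = t * (t * (x * t * x⁻¹)) := by group
        _ = t := by rw [h, mul_one]
    calc t * x = (x * t * x⁻¹) * x := by rw [h1]
      _ = x * t := by group




theorem three_core_aux {X : Type*} [Group X] [Finite X] (h6 : ∀ x : X, x ^ 6 = 1)
    (hsol : Group.IsSolvable X) (hcore : Cfsg.pPrimeCore 3 X = ⊥)
    (P : Subgroup X) [P.Normal] (hP : P = Cfsg.pCore 3 X) :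
    (Nat.card (X ⧸ P)).Coprime 3 := by
  haveI : Fact (Nat.Prime 3) := ⟨Nat.prime_three⟩
  by_contra hnc
  have h3 : 3 ∣ Nat.card (X ⧸ P) := by
    rw [Nat.coprime_comm, Nat.Prime.coprime_iff_not_dvd Nat.prime_three] at hnc
    exact not_not.1 hnc
  have hPp : IsPGroup 3 P := hP ▸ pCore_isPGroup 3
  have hP3 : ∀ u ∈ P, u ^ 3 = 1 := by
    intro u hu
    apply pow_prime_eq_one 3 Nat.prime_three (by decide) u (h6 u)
    obtain ⟨k, hk⟩ := hPp ⟨u, hu⟩
    exact ⟨k, by simpa using congrArg Subtype.val hk⟩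
  have h6H : ∀ y : X ⧸ P, y ^ 6 = 1 := by
    intro y
    obtain ⟨z, rfl⟩ := QuotientGroup.mk'_surjective P y
    rw [← map_pow, h6, map_one]
  have hsolH : Group.IsSolvable (X ⧸ P) := inferInstance
  obtain ⟨x, t, t', t'', hx3, c1, c2, c3, sq1, sq2, sq3, k1, k2, k3, hs⟩ :=
    exists_config h6H hsolH (pCore_quotient_pCore 3 P hP) h3
  obtain ⟨⟨r1, r2, r3⟩, q, ⟨pr, pr2, pr3, pr4⟩, ⟨cb1, cb2, cb3⟩⟩ :=
    klein_relations x t t' t'' hx3 c1 c2 c3 sq1 sq2 sq3 k1 k2 k3
  -- the action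
  let φ : X ⧸ P →* MulAut (↥P ⧸ frattini ↥P) :=
    QuotientGroup.lift P (frattiniAct P) (fun g hg => frattiniAct_of_mem 3 P hPp g hg)
  have hφ : ∀ g : X, φ (QuotientGroup.mk g) = frattiniAct P g := fun g => rfl
  -- cubes
  have hcube : ∀ z : X, ((QuotientGroup.mk z : X ⧸ P)) ^ 3 = 1 → z ^ 3 = 1 := by
    intro z hz
    have h1 : z ^ 3 ∈ P := by
      rw [← QuotientGroup.eq_one_iff, QuotientGroup.mk_pow]
      exact hz
    have h2 : (z ^ 3) ^ 3 = 1 := hP3 _ h1
    have h4 : (z ^ 3) ^ 2 = 1 := by rw [← pow_mul]; exact h6 z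
    calc z ^ 3 = (z ^ 3) ^ 3 * ((z ^ 3) ^ 2)⁻¹ := by
          rw [pow_succ' (z ^ 3) 2, mul_inv_cancel_right]
      _ = 1 := by rw [h2, h4]; simp
  have H1 : ∀ y : X ⧸ P, y ^ 3 = 1 → ∀ v, v * φ y v * φ y (φ y v) = 1 := by
    intro y hy v
    obtain ⟨z, rfl⟩ := QuotientGroup.mk'_surjective P y
    induction v using QuotientGroup.induction_on with
    | H u =>
      change (QuotientGroup.mk u : ↥P ⧸ frattini ↥P) * φ (QuotientGroup.mk z) (QuotientGroup.mk u) *
        φ (QuotientGroup.mk z) (φ (QuotientGroup.mk z) (QuotientGroup.mk u)) = 1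
      rw [hφ, frattiniAct_mk, frattiniAct_mk, ← QuotientGroup.mk_mul, ← QuotientGroup.mk_mul]
      have hz3 : z ^ 3 = 1 := hcube z hy
      have huz3 : ((u : X) * z) ^ 3 = 1 := by
        apply hcube
        rw [QuotientGroup.mk_mul, (QuotientGroup.eq_one_iff (u : X)).2 u.2, one_mul]
        exact hy
      have : u * MulAut.conjNormal z u * MulAut.conjNormal z (MulAut.conjNormal z u) = 1 := by
        apply Subtype.ext
        simp only [Subgroup.coe_mul, MulAut.conjNormal_apply, Subgroup.coe_one]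
        calc (u : X) * (z * u * z⁻¹) * (z * (z * u * z⁻¹) * z⁻¹)
            = ((u : X) * z) ^ 3 * (z ^ 3)⁻¹ := by simp [pow_succ, mul_assoc]
          _ = 1 := by rw [hz3, huz3]; simp
      rw [this]
      rfl
  have hVcomm : ∀ a b : ↥P ⧸ frattini ↥P, a * b = b * a := by
    intro a b
    induction a using QuotientGroup.induction_on with
    | H a =>
      induction b using QuotientGroup.induction_on with
      | H b =>
        rw [← QuotientGroup.mk_mul, ← QuotientGroup.mk_mul, QuotientGroup.eq]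
        have h1 : ⁅b⁻¹, a⁻¹⁆ ∈ commutator ↥P :=
          Subgroup.commutator_mem_commutator (Subgroup.mem_top _) (Subgroup.mem_top _)
        have h2 := commutator_le_frattini_of_isPGroup 3 hPp h1
        convert h2 using 1
        simp [commutatorElement_def, mul_assoc]
  have hV3 : ∀ v : ↥P ⧸ frattini ↥P, v ^ 3 = 1 := by
    intro v
    induction v using QuotientGroup.induction_on with
    | H u =>
      rw [← QuotientGroup.mk_pow]
      have : u ^ 3 = 1 := by
        apply Subtype.ext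
        rw [Subgroup.coe_pow]
        exact hP3 u u.2
      rw [this]
      rfl
  have hxcube : x ^ 3 = 1 := by
    rw [pow_succ, pow_succ, pow_one, mul_assoc]; exact hx3
  have hS : φ (t * t') = 1 := by
    apply a4_lemma' hVcomm hV3 (φ x) (φ (t * t')) (φ (t' * t'')) (φ (t'' * t))
    · rw [← map_mul, r1, map_mul]
    · rw [← map_mul, r2, map_mul]
    · rw [← map_mul, r3, map_mul]
    · rw [← map_mul, q, map_one]
    · rw [← map_mul, pr]
    · rw [← map_mul, pr2]
    · rw [← map_mul, pr3]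
    · rw [← map_mul, pr4]
    · exact H1 x hxcube
    · rw [← map_mul]; exact H1 _ cb1
    · rw [← map_mul]; exact H1 _ cb2
    · rw [← map_mul]; exact H1 _ cb3
  obtain ⟨γ, hγ⟩ := QuotientGroup.mk'_surjective P (t * t')
  have hγ1 : frattiniAct P γ = 1 := by
    rw [← hφ]
    have : (QuotientGroup.mk γ : X ⧸ P) = t * t' := hγ
    rw [this]
    exact hS
  rw [frattiniAct_eq_one_iff] at hγ1
  have hγP : γ ∈ P := by
    subst hP
    exact Cfsg.Agent.S4218.HH 3 (Cfsg.Agent.Lib.Helper3.isPSolvable_of_isSolvable 3 hsol) hcore γ hγ1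
  apply hs
  rw [← hγ]
  exact (QuotientGroup.eq_one_iff γ).2 hγP




/-- A finite group of exponent dividing `6` has order `2 ^ a * 3 ^ b`. -/
theorem card_eq_of_exp_six {G : Type*} [Group G] [Finite G] (h6 : ∀ x : G, x ^ 6 = 1) :
    ∃ a b : ℕ, Nat.card G = 2 ^ a * 3 ^ b := by
  refine ⟨(Nat.card G).factorization 2, (Nat.card G).factorization 3, ?_⟩
  have hpos : Nat.card G ≠ 0 := Nat.card_pos.ne'
  apply Nat.eq_of_factorization_eq hpos (by positivity)
  intro q
  rw [Nat.factorization_mul (by positivity) (by positivity), Nat.factorization_pow,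
    Nat.factorization_pow, Nat.Prime.factorization Nat.prime_two, Nat.Prime.factorization Nat.prime_three]
  simp only [Finsupp.coe_add, Finsupp.coe_smul, Pi.add_apply, Pi.smul_apply, smul_eq_mul]
  by_cases hq2 : q = 2
  · subst hq2; simp
  by_cases hq3 : q = 3
  · subst hq3; simp
  rw [Finsupp.single_apply, Finsupp.single_apply, if_neg (Ne.symm hq2), if_neg (Ne.symm hq3)]
  simp only [mul_zero, add_zero]
  by_contra hne
  have hqmem : q ∈ (Nat.card G).factorization.support := Finsupp.mem_support_iff.2 hne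
  have hqp : q.Prime := Nat.prime_of_mem_primeFactors (by simpa using hqmem)
  have hqd : q ∣ Nat.card G := Nat.dvd_of_mem_primeFactors (by simpa using hqmem)
  haveI : Fact q.Prime := ⟨hqp⟩
  obtain ⟨x, hx⟩ := exists_prime_orderOf_dvd_card' q hqd
  have h1 : q ∣ 6 := by rw [← hx]; exact orderOf_dvd_of_pow_eq_one (h6 x)
  have h2 : q ∣ 2 * 3 := h1
  rcases (Nat.Prime.dvd_mul hqp).1 h2 with h | h
  · exact hq2 ((Nat.prime_dvd_prime_iff_eq hqp Nat.prime_two).1 h)
  · exact hq3 ((Nat.prime_dvd_prime_iff_eq hqp Nat.prime_three).1 h)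


theorem solvable_of_exp_six {G : Type*} [Group G] [Finite G] (h6 : ∀ x : G, x ^ 6 = 1) :
    Group.IsSolvable G := by
  obtain ⟨a, b, hab⟩ := card_eq_of_exp_six h6
  exact Cfsg.Agent.S0144.result 2 3 a b Nat.prime_two Nat.prime_three hab


theorem three_part {G : Type*} [Group G] [Finite G] (h6 : ∀ x : G, x ^ 6 = 1) :
    (Cfsg.pPrimePCore 3 G).index.Coprime 3 := by
  haveI : Fact (Nat.Prime 3) := ⟨Nat.prime_three⟩
  have h6X : ∀ y : G ⧸ Cfsg.pPrimeCore 3 G, y ^ 6 = 1 := by
    intro y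
    obtain ⟨z, rfl⟩ := QuotientGroup.mk'_surjective _ y
    rw [← map_pow, h6, map_one]
  have hsolX := solvable_of_exp_six h6X
  have hcore : Cfsg.pPrimeCore 3 (G ⧸ Cfsg.pPrimeCore 3 G) = ⊥ := pPrimeCore_quotient_eq_bot 3
  have := three_core_aux h6X hsolX hcore (Cfsg.pCore 3 (G ⧸ Cfsg.pPrimeCore 3 G)) rfl
  rw [← Subgroup.index_eq_card] at this
  change ((Cfsg.pCore 3 (G ⧸ Cfsg.pPrimeCore 3 G)).comap (QuotientGroup.mk' (Cfsg.pPrimeCore 3 G))).index.Coprime 3
  rw [Subgroup.index_comap_of_surjective _ (QuotientGroup.mk'_surjective _)]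
  exact this


theorem two_part {G : Type*} [Group G] [Finite G] (h6 : ∀ x : G, x ^ 6 = 1) :
    (Cfsg.pPrimePCore 2 G).index.Coprime 2 := by
  haveI : Fact (Nat.Prime 2) := ⟨Nat.prime_two⟩
  haveI hsol := solvable_of_exp_six h6
  obtain ⟨P⟩ : Nonempty (Sylow 2 G) := inferInstance
  have hPsq : ∀ a ∈ (P : Subgroup G), a * a = 1 := by
    intro a ha
    have := pow_prime_eq_one 2 Nat.prime_two (by decide) a (h6 a) (by
      obtain ⟨k, hk⟩ := P.isPGroup' ⟨a, ha⟩
      exact ⟨k, by simpa using congrArg Subtype.val hk⟩)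
    rwa [pow_two] at this
  have hPcomm : IsMulCommutative (P : Subgroup G) := by
    refine ⟨⟨fun a b => ?_⟩⟩
    apply Subtype.ext
    have h2 := hPsq a a.2
    have h3 := hPsq b b.2
    have h4 := hPsq (b * a) (mul_mem b.2 a.2)
    simp only [Subgroup.coe_mul]
    calc (a : G) * b = a * b * (b * a * (b * a)) := by rw [h4, mul_one]
      _ = ((a : G) * (b * b) * a) * (b * a) := by group
      _ = b * a := by rw [h3, mul_one, h2, one_mul]
  have hn := sylow_sup_pPrimeCore_normal 2 P hPcomm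
  have hsurj := QuotientGroup.mk'_surjective (Cfsg.pPrimeCore 2 G)
  have hle : (P : Subgroup G) ≤ Cfsg.pPrimePCore 2 G := by
    change (P : Subgroup G) ≤ (Cfsg.pCore 2 (G ⧸ Cfsg.pPrimeCore 2 G)).comap (QuotientGroup.mk' _)
    rw [← Subgroup.map_le_iff_le_comap]
    have e : ((P : Subgroup G) ⊔ Cfsg.pPrimeCore 2 G).map (QuotientGroup.mk' (Cfsg.pPrimeCore 2 G))
        = (P : Subgroup G).map (QuotientGroup.mk' (Cfsg.pPrimeCore 2 G)) := by
      rw [Subgroup.map_sup]
      have : (Cfsg.pPrimeCore 2 G).map (QuotientGroup.mk' (Cfsg.pPrimeCore 2 G)) = ⊥ := by simp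
      rw [this, sup_bot_eq]
    apply le_pCore
    · rw [← e]
      exact hn.map _ hsurj
    · exact P.isPGroup'.map _
  have h1 := Subgroup.index_dvd_of_le hle
  have h2 : ¬ 2 ∣ (P : Subgroup G).index := P.not_dvd_index
  rw [Nat.coprime_comm, Nat.Prime.coprime_iff_not_dvd Nat.prime_two]
  exact fun h => h2 (dvd_trans h h1)


theorem main {G : Type*} [Group G] [Finite G] (h : ∀ x : G, x ^ 6 = 1) :
    Cfsg.PLengthLE 2 1 G ∧ Cfsg.PLengthLE 3 1 G :=
  ⟨Cfsg.Agent.Lib.Helper3.pLengthLE_one_of_index_coprime 2 G (two_part h),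
   Cfsg.Agent.Lib.Helper3.pLengthLE_one_of_index_coprime 3 G (three_part h)⟩




/-- A finite group in which every element has order dividing `6` has `2`-length at most `1` and `3`-length at most `1`. -/
theorem result {G : Type*} [Group G] [Finite G] (h : ∀ x : G, x ^ 6 = 1) : Cfsg.PLengthLE 2 1 G ∧ Cfsg.PLengthLE 3 1 G := by
  exact main h

end Cfsg.Agent.S4227
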