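import Cfsg.Statements.S4230

set_option autoImplicit false
open Cfsg

namespace Cfsg.Agent.S4230

open Polynomial

theorem dvd_iff_isRoot (p q f : ℕ) [Fact p.Prime] :
    ((p : ℤ) ∣ (Polynomial.cyclotomic f ℤ).eval (q : ℤ)) ↔
      (Polynomial.cyclotomic f (ZMod p)).IsRoot (q : ZMod p) := by
  rw [← ZMod.intCast_zmod_eq_zero_iff_dvd, Polynomial.IsRoot.def,
    ← Polynomial.map_cyclotomic_int f (ZMod p)]
  have h := Polynomial.eval_intCast_map (Int.castRingHom (ZMod p)) (cyclotomic f ℤ) (q : ℤ)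
  simp only [Int.cast_natCast, eq_intCast] at h
  rw [h]

theorem result (p q f : ℕ) (hp : p.Prime) (hp2 : p ≠ 2) (hpq : ¬ p ∣ q) :
    ((p : ℤ) ∣ (Polynomial.cyclotomic f ℤ).eval (q : ℤ)) ↔ ∃ j : ℕ, f = orderOf (q : ZMod p) * p ^ j := by
  haveI : Fact p.Prime := ⟨hp⟩
  have hq0 : (q : ZMod p) ≠ 0 := by
    rw [Ne, ZMod.natCast_eq_zero_iff]; exact hpq
  have hfermat : (q : ZMod p) ^ (p - 1) = 1 := ZMod.pow_card_sub_one_eq_one hq0
  have hedvd : orderOf (q : ZMod p) ∣ p - 1 := orderOf_dvd_of_pow_eq_one hfermat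
  have hepos : 0 < orderOf (q : ZMod p) := by
    apply orderOf_pos_iff.2
    exact isOfFinOrder_iff_pow_eq_one.2 ⟨p - 1, by have := hp.two_le; omega, hfermat⟩
  have hpe : ¬ p ∣ orderOf (q : ZMod p) := by
    intro h
    have h1 := Nat.le_of_dvd hepos h
    have h2 := Nat.le_of_dvd (by have := hp.two_le; omega) hedvd
    have := hp.two_le
    omega
  rw [dvd_iff_isRoot]
  constructor
  · intro hroot
    have hf0 : f ≠ 0 := by
      rintro rfl
      rw [Polynomial.cyclotomic_zero, Polynomial.IsRoot.def, Polynomial.eval_one] at hroot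
      exact one_ne_zero hroot
    obtain ⟨k, m, hm, rfl⟩ := Nat.exists_eq_pow_mul_and_not_dvd hf0 p hp.ne_one
    haveI : NeZero (m : ZMod p) := ⟨by rw [Ne, ZMod.natCast_eq_zero_iff]; exact hm⟩
    rw [Polynomial.isRoot_cyclotomic_prime_pow_mul_iff_of_charP] at hroot
    exact ⟨k, by rw [← hroot.eq_orderOf, mul_comm]⟩
  · rintro ⟨j, rfl⟩
    haveI : NeZero ((orderOf (q : ZMod p) : ℕ) : ZMod p) :=
      ⟨by rw [Ne, ZMod.natCast_eq_zero_iff]; exact hpe⟩
    rw [mul_comm, Polynomial.isRoot_cyclotomic_prime_pow_mul_iff_of_charP]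
    exact IsPrimitiveRoot.orderOf _

end Cfsg.Agent.S4230
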