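import Cfsg.Statements.S4234
import Cfsg.Agent.Lib.Helper5.NMX1
import Cfsg.Agent.Lib.Helper5.NMXD
import Cfsg.Agent.Lib.Helper5.NMXMain
import Cfsg.Agent.Lib.Helper2.NMXPB
import Cfsg.Agent.Lib.Helper8.NMXPC
import Cfsg.Agent.Lib.Helper7.NMXP13a
import Cfsg.Agent.Lib.Helper7.NMXP13c
import Cfsg.Agent.Lib.Helper9.NMXP7
import Cfsg.Agent.Lib.Helper9.NMXP3
import Cfsg.Agent.Lib.Helper9.NMXP4
import Cfsg.Agent.Lib.Helper8.NMXP2a
import Cfsg.Agent.Lib.Helper4.NMXP2b
import Cfsg.Agent.Lib.Helper4.NMXP6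
import Cfsg.Agent.Lib.Helper4.NMXPE

set_option autoImplicit false
set_option linter.style.haveILetI false
open Cfsg

namespace Cfsg.Agent.S4234

open Cfsg.Agent.Lib

/-- every nontrivial proper subgroup of `PSL(2,13)` has a maximal normalizer -/
theorem psl_main (H1 : Subgroup (Matrix.ProjectiveSpecialLinearGroup (Fin 2) (ZMod 13)))
    (hbot : H1 ≠ ⊥) (htop : H1 ≠ ⊤) :
    IsCoatom (Subgroup.normalizer
      (H1 : Set (Matrix.ProjectiveSpecialLinearGroup (Fin 2) (ZMod 13)))) := by
  haveI : Fact (Nat.Prime 13) := ⟨by norm_num⟩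
  haveI : IsSimpleGroup (Matrix.ProjectiveSpecialLinearGroup (Fin 2) (ZMod 13)) :=
    Matrix.ProjectiveSpecialLinearGroup.rank_two_simple (by
      rw [Nat.card_eq_fintype_card, ZMod.card]; norm_num)
  have hcard := Helper2.NMXPB.psl_card
  have hmax := Helper2.NMXPB.psl_max
  have hord := Helper2.NMXPB.psl_ord
  have h6 := Helper2.NMXPB.psl_six
  have hdvd := fun H hH => Helper5.NMX1.card_dvd_of_ne_top hmax H hH
  have h13 := fun P hP => Helper7.NMXP13a.sylow13 hcard hdvd hord P hP
  have k13 := fun H htop h => Helper7.NMXP13c.card_normalizer_of_13_dvd hdvd h13 H htop h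
  have k7 := fun H hH => Helper9.NMXP7.card_normalizer_of_card_7 hcard hdvd H hH
  have k3 := fun H hH => Helper9.NMXP3.card_normalizer_of_card_3 hcard hdvd hord H hH
  have k4 := fun H hH => Helper9.NMXP4.card_normalizer_of_card_4 hcard hdvd H hH
  have hconj := fun s t hs ht => Helper8.NMXP2a.involutions_conj hcard hord k4 s t hs ht
  have k2 := fun H hH => Helper4.NMXP2b.card_normalizer_of_card_2 hcard hdvd h6 hconj H hH
  have k6 := fun H hH => Helper4.NMXP6.card_normalizer_of_card_6 k3 H hH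
  exact Helper5.NMXMain.main_abstract hmax k13 k7 k3 k4 k2 k6 H1 hbot htop

/-- Let K be isomorphic to PSL(2, 13) or to SL(2, 13) and let S be a finite abelian group of order coprime to the order of K. Then in the direct product K × S every subgroup that is not normal has a normalizer that is a maximal subgroup. -/
theorem result {K S : Type*} [Group K] [CommGroup S] [Finite K] [Finite S]
    (hK : Nonempty (K ≃* Matrix.ProjectiveSpecialLinearGroup (Fin 2) (ZMod 13)) ∨
      Nonempty (K ≃* Matrix.SpecialLinearGroup (Fin 2) (ZMod 13)))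
    (hKS : (Nat.card K).Coprime (Nat.card S)) (H : Subgroup (K × S)) (hH : ¬ H.Normal) :
    IsCoatom (Subgroup.normalizer (H : Set (K × S))) := by
  rcases hK with ⟨⟨e⟩⟩ | ⟨⟨e⟩⟩
  · refine Helper8.NMXPC.prod_coatom_normalizer hKS ?_ H hH
    intro H1 hn
    refine Helper5.NMXD.transfer_iso e ?_ H1 hn
    intro H1' hn'
    apply psl_main H1'
    · rintro rfl; exact hn' inferInstance
    · rintro rfl; exact hn' inferInstance
  · refine Helper8.NMXPC.prod_coatom_normalizer hKS ?_ H hH
    intro H1 hn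
    refine Helper5.NMXD.transfer_iso e ?_ H1 hn
    intro H1' hn'
    exact Helper4.NMXPE.sl_of_psl psl_main H1' hn'

end Cfsg.Agent.S4234
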