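import Mathlib
import Cfsg.Statements.S4237
import Cfsg.Agent.Lib.Lead.Kul5

set_option autoImplicit false

open Cfsg

namespace Cfsg.Agent.S4237

theorem result {G : Type*} [Group G] [Finite G] (p a : ℕ) (hp : p.Prime) (hdvd : p ^ (a + 1) ∣ Nat.card G) :
    Nat.card {H : Subgroup G // Nat.card H = p ^ a} ≡ 1 [MOD p ^ 2] ∨
      Nat.card {H : Subgroup G // Nat.card H = p ^ a} ≡ 1 + p [MOD p ^ 2] := by
  exact Cfsg.Agent.Lib.Lead.Kul.hall_count p a hp hdvd

end Cfsg.Agent.S4237
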