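import Cfsg.Statements.S4238
import Mathlib
import Cfsg.Agent.Lib.Helper1.PNilpotentLocal

set_option autoImplicit false
open Cfsg

namespace Cfsg.Agent.S4238


open scoped commutatorElement
open Cfsg.Agent.Lib.Helper1

/-- The abstract Frobenius-like section. -/
theorem lemmaX {L : Type*} [Group L] [Finite L] (p q : ℕ) [Fact p.Prime] (hq : q.Prime)
    (hpq : q ≠ p)
    (V : Subgroup L) (hVp : IsPGroup p V) (hVab : ∀ a ∈ V, ∀ b ∈ V, a * b = b * a) (hV1 : V ≠ ⊥)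
    (t : L) (htq : t ^ q = 1) (htV : ∀ a ∈ V, t * a * t⁻¹ ∈ V)
    (hgen : ∀ l : L, ∃ a ∈ V, ∃ i : ℕ, l = a * t ^ i)
    (hfix : ∀ a ∈ V, t * a * t⁻¹ = a → a = 1) :
    Cfsg.pPrimeCore p L = ⊥ ∧ ¬ ∃ k : L, orderOf k = Monoid.exponent L := by
  have hp : p.Prime := Fact.out
  haveI : Fact q.Prime := ⟨hq⟩
  -- a nontrivial element of V
  obtain ⟨a₀, ha₀V, ha₀1⟩ : ∃ a ∈ V, a ≠ 1 := by
    by_contra h
    push Not at h
    apply hV1
    rw [eq_bot_iff]
    intro x hx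
    exact Subgroup.mem_bot.2 (h x hx)
  -- powers of t normalize V
  have htVpow : ∀ (i : ℕ), ∀ a ∈ V, t ^ i * a * (t ^ i)⁻¹ ∈ V := by
    intro i
    induction i with
    | zero => intro a ha; simpa using ha
    | succ i ih =>
      intro a ha
      have := htV _ (ih a ha)
      have e : t ^ (i + 1) * a * (t ^ (i + 1))⁻¹ = t * (t ^ i * a * (t ^ i)⁻¹) * t⁻¹ := by
        rw [pow_succ']; group
      rw [e]; exact this
  -- if t^i does not act trivially... : t is a power of t^i when q ∤ i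
  have hpow_back : ∀ i : ℕ, ¬ q ∣ i → ∃ j : ℕ, (t ^ i) ^ j = t := by
    intro i hi
    have hcop : Nat.Coprime i q := (Nat.Coprime.symm ((Nat.Prime.coprime_iff_not_dvd hq).2 hi))
    obtain ⟨j, -, hj⟩ := Nat.exists_mul_mod_eq_of_coprime 1 hcop hq.pos.ne'
    refine ⟨j, ?_⟩
    rw [← pow_mul, pow_eq_pow_mod _ htq, hj, ← pow_eq_pow_mod _ htq, pow_one]
  have hpow_zero : ∀ i : ℕ, q ∣ i → t ^ i = 1 := by
    rintro i ⟨k, rfl⟩
    rw [pow_mul, htq, one_pow]
  -- fixed points of a generator power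
  have hfix' : ∀ i : ℕ, ¬ q ∣ i → ∀ a ∈ V, t ^ i * a * (t ^ i)⁻¹ = a → a = 1 := by
    intro i hi a ha hfa
    obtain ⟨j, hj⟩ := hpow_back i hi
    apply hfix a ha
    have h1 : ∀ n : ℕ, (t ^ i) ^ n * a * ((t ^ i) ^ n)⁻¹ = a := by
      intro n
      induction n with
      | zero => simp
      | succ n ih =>
        have e : (t ^ i) ^ (n + 1) * a * ((t ^ i) ^ (n + 1))⁻¹ =
            t ^ i * ((t ^ i) ^ n * a * ((t ^ i) ^ n)⁻¹) * (t ^ i)⁻¹ := by
          rw [pow_succ']; group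
        rw [e, ih, hfa]
    have := h1 j
    rwa [hj] at this
  -- t ≠ 1
  have ht1 : t ≠ 1 := by
    intro h
    apply ha₀1
    apply hfix a₀ ha₀V
    rw [h]; group
  have hto : orderOf t = q := orderOf_eq_prime htq ht1
  -- the key dichotomy
  have hdich : ∀ l : L, l ∈ V ∨ l ^ q = 1 := by
    intro l
    obtain ⟨a, ha, i, rfl⟩ := hgen l
    by_cases hi : q ∣ i
    · left
      rw [hpow_zero i hi, mul_one]; exact ha
    · right
      set s := t ^ i with hs
      have hsq : s ^ q = 1 := by rw [hs, ← pow_mul, mul_comm, pow_mul, htq, one_pow]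
      have hsV : ∀ b ∈ V, s * b * s⁻¹ ∈ V := htVpow i
      have hsVpow : ∀ (n : ℕ), ∀ b ∈ V, s ^ n * b * (s ^ n)⁻¹ ∈ V := by
        intro n
        induction n with
        | zero => intro b hb; simpa using hb
        | succ n ih =>
          intro b hb
          have := hsV _ (ih b hb)
          have e : s ^ (n + 1) * b * (s ^ (n + 1))⁻¹ = s * (s ^ n * b * (s ^ n)⁻¹) * s⁻¹ := by
            rw [pow_succ']; group
          rw [e]; exact this
      have hu : ∀ n : ℕ, (a * s) ^ n * (s ^ n)⁻¹ ∈ V := by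
        intro n
        induction n with
        | zero => simp
        | succ n ih =>
          have e : (a * s) ^ (n + 1) * (s ^ (n + 1))⁻¹ =
              ((a * s) ^ n * (s ^ n)⁻¹) * (s ^ n * a * (s ^ n)⁻¹) := by
            rw [pow_succ, pow_succ]; group
          rw [e]; exact V.mul_mem ih (hsVpow n a ha)
      have hwV : (a * s) ^ q ∈ V := by
        have := hu q
        rwa [hsq, inv_one, mul_one] at this
      have hwfix : s * (a * s) ^ q * s⁻¹ = (a * s) ^ q := by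
        have e1 : s * (a * s) ^ q * s⁻¹ = (s * (a * s) * s⁻¹) ^ q := (conj_pow).symm
        have e2 : s * (a * s) * s⁻¹ = a⁻¹ * (a * s) * a⁻¹⁻¹ := by group
        rw [e1, e2, conj_pow, inv_inv]
        have := hVab _ (V.inv_mem ha) _ hwV
        rw [this]; group
      exact hfix' i hi _ hwV hwfix
  refine ⟨?_, ?_⟩
  · -- the p'-core is trivial
    unfold Cfsg.pPrimeCore
    rw [sSup_eq_bot]
    rintro M ⟨hMn, hMcop⟩
    -- V is normal
    have hVn : ∀ l : L, ∀ a ∈ V, l * a * l⁻¹ ∈ V := by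
      intro l a ha
      obtain ⟨b, hb, i, rfl⟩ := hgen l
      have e : b * t ^ i * a * (b * t ^ i)⁻¹ = b * (t ^ i * a * (t ^ i)⁻¹) * b⁻¹ := by group
      rw [e]
      exact V.mul_mem (V.mul_mem hb (htVpow i a ha)) (V.inv_mem hb)
    have hMV : ∀ x : L, x ∈ M → x ∈ V → x = 1 := by
      intro x hxM hxV
      obtain ⟨j, hj⟩ := (IsPGroup.iff_orderOf.1 hVp) ⟨x, hxV⟩
      rw [Subgroup.orderOf_mk] at hj
      have h1 : orderOf x ∣ Nat.card M := M.orderOf_dvd_natCard hxM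
      have h2 : Nat.Coprime (orderOf x) (Nat.card M) := by
        rw [hj]; exact (Nat.Coprime.pow_left j hMcop.symm)
      rw [← orderOf_eq_one_iff]
      exact Nat.Coprime.eq_one_of_dvd h2 h1
    rw [eq_bot_iff]
    intro m hm
    rw [Subgroup.mem_bot]
    -- m centralizes V
    have hcent : ∀ a ∈ V, m * a * m⁻¹ = a := by
      intro a ha
      have h1 : m * a * m⁻¹ * a⁻¹ ∈ M := by
        have := hMn.conj_mem m⁻¹ (M.inv_mem hm) a
        have e : m * a * m⁻¹ * a⁻¹ = m * (a * m⁻¹ * a⁻¹) := by group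
        rw [e]; exact M.mul_mem hm this
      have h2 : m * a * m⁻¹ * a⁻¹ ∈ V := V.mul_mem (hVn m a ha) (V.inv_mem ha)
      have := hMV _ h1 h2
      rw [mul_inv_eq_one] at this
      exact this
    obtain ⟨b, hb, i, rfl⟩ := hgen m
    by_cases hi : q ∣ i
    · rw [hpow_zero i hi, mul_one] at hm ⊢
      exact hMV b hm hb
    · exfalso
      apply ha₀1
      apply hfix' i hi a₀ ha₀V
      have h1 := hcent a₀ ha₀V
      have e : b * t ^ i * a₀ * (b * t ^ i)⁻¹ = b * (t ^ i * a₀ * (t ^ i)⁻¹) * b⁻¹ := by group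
      rw [e] at h1
      have h2 := hVab b hb _ (htVpow i a₀ ha₀V)
      rw [h2, mul_assoc, mul_inv_cancel, mul_one] at h1
      exact h1
  · rintro ⟨k, hk⟩
    have hpe : p ∣ Monoid.exponent L := by
      obtain ⟨j, hj⟩ := (IsPGroup.iff_orderOf.1 hVp) ⟨a₀, ha₀V⟩
      rw [Subgroup.orderOf_mk] at hj
      have hj0 : j ≠ 0 := by
        rintro rfl
        rw [pow_zero, orderOf_eq_one_iff] at hj
        exact ha₀1 hj
      have : p ∣ orderOf a₀ := by rw [hj]; exact dvd_pow_self p hj0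
      exact this.trans (Monoid.order_dvd_exponent a₀)
    have hqe : q ∣ Monoid.exponent L := by
      rw [← hto]; exact Monoid.order_dvd_exponent t
    rw [← hk] at hpe hqe
    rcases hdich k with hkV | hkq
    · obtain ⟨j, hj⟩ := (IsPGroup.iff_orderOf.1 hVp) ⟨k, hkV⟩
      rw [Subgroup.orderOf_mk] at hj
      rw [hj] at hqe
      exact hpq ((Nat.prime_dvd_prime_iff_eq hq hp).1 (hq.dvd_of_dvd_pow hqe))
    · have h1 : orderOf k ∣ q := orderOf_dvd_of_pow_eq_one hkq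
      exact hpq ((Nat.prime_dvd_prime_iff_eq hp hq).1 (hpe.trans h1)).symm

/-- Transfer of ambient data to the section `H / N`. -/
theorem lemmaX2 {G : Type*} [Group G] [Finite G] (p q : ℕ) [Fact p.Prime] (hq : q.Prime)
    (hpq : q ≠ p) (H N₀ Q : Subgroup G) (hN₀H : N₀ ≤ H)
    (hN₀n : ∀ h ∈ H, ∀ n ∈ N₀, h * n * h⁻¹ ∈ N₀) (hQH : Q ≤ H) (hQp : IsPGroup p Q)
    (g : G) (hgH : g ∈ H)
    (ha : ∀ h ∈ H, ∃ x ∈ Q, ∃ i : ℕ, h = x * g ^ i)
    (hb : g ^ q ∈ N₀)
    (hc : ∀ x ∈ Q, ∀ y ∈ Q, x * y * x⁻¹ * y⁻¹ ∈ N₀)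
    (hc' : ∀ x ∈ Q, g * x * g⁻¹ ∈ Q)
    (hd : ∃ x ∈ Q, x ∉ N₀)
    (he : ∀ x ∈ Q, g * x * g⁻¹ * x⁻¹ ∈ N₀ → x ∈ N₀) :
    ∃ (N : Subgroup H) (_ : N.Normal), Cfsg.pPrimeCore p (H ⧸ N) = ⊥ ∧
      ¬ ∃ k : H ⧸ N, orderOf k = Monoid.exponent (H ⧸ N) := by
  let N : Subgroup H := N₀.subgroupOf H
  have hNmem : ∀ h : H, h ∈ N ↔ (h : G) ∈ N₀ := fun h => Subgroup.mem_subgroupOf
  have hNn : N.Normal := by
    constructor
    intro n hn h
    rw [hNmem] at hn ⊢
    simpa using hN₀n h h.2 n hn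
  refine ⟨N, hNn, ?_⟩
  have hπ1 : ∀ h : H, (QuotientGroup.mk' N h = 1) ↔ (h : G) ∈ N₀ := by
    intro h
    rw [QuotientGroup.mk'_apply, QuotientGroup.eq_one_iff, hNmem]
  have hπeq : ∀ h₁ h₂ : H, (QuotientGroup.mk' N h₁ = QuotientGroup.mk' N h₂) ↔
      (h₁ : G)⁻¹ * (h₂ : G) ∈ N₀ := by
    intro h₁ h₂
    rw [QuotientGroup.mk'_apply, QuotientGroup.mk'_apply, QuotientGroup.eq, hNmem]
    simp
  set V : Subgroup (H ⧸ N) := (Q.subgroupOf H).map (QuotientGroup.mk' N) with hV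
  have hVmem : ∀ l : H ⧸ N, l ∈ V ↔ ∃ x : G, ∃ hx : x ∈ Q, l = QuotientGroup.mk' N ⟨x, hQH hx⟩ := by
    intro l
    constructor
    · rintro ⟨h, hh, rfl⟩
      exact ⟨h, Subgroup.mem_subgroupOf.1 hh, rfl⟩
    · rintro ⟨x, hx, rfl⟩
      exact ⟨⟨x, hQH hx⟩, Subgroup.mem_subgroupOf.2 hx, rfl⟩
  apply lemmaX p q hq hpq V ((hQp.comap_subtype).map _)
  · -- abelian
    intro a haV b hbV
    obtain ⟨x, hx, rfl⟩ := (hVmem a).1 haV
    obtain ⟨y, hy, rfl⟩ := (hVmem b).1 hbV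
    rw [← map_mul, ← map_mul, hπeq]
    have := hc _ (Q.inv_mem hy) _ (Q.inv_mem hx)
    simpa [mul_assoc] using this
  · -- nontrivial
    obtain ⟨x, hx, hxN⟩ := hd
    intro hbot
    have h1 : QuotientGroup.mk' N ⟨x, hQH hx⟩ ∈ V := (hVmem _).2 ⟨x, hx, rfl⟩
    rw [hbot, Subgroup.mem_bot, hπ1] at h1
    exact hxN h1
  · -- t^q = 1
    show (QuotientGroup.mk' N ⟨g, hgH⟩) ^ q = 1
    rw [← map_pow, hπ1]
    simpa using hb
  · -- t normalizes V
    intro a haV
    obtain ⟨x, hx, rfl⟩ := (hVmem a).1 haV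
    rw [hVmem]
    refine ⟨g * x * g⁻¹, hc' x hx, ?_⟩
    rw [← map_inv, ← map_mul, ← map_mul]
    rfl
  · -- generation
    intro l
    obtain ⟨h, rfl⟩ := QuotientGroup.mk'_surjective N l
    obtain ⟨x, hx, i, hxi⟩ := ha h h.2
    refine ⟨QuotientGroup.mk' N ⟨x, hQH hx⟩, (hVmem _).2 ⟨x, hx, rfl⟩, i, ?_⟩
    rw [← map_pow, ← map_mul]
    congr 1
    apply Subtype.ext
    simpa using hxi
  · -- fixed points
    intro a haV hfa
    obtain ⟨x, hx, rfl⟩ := (hVmem a).1 haV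
    rw [← map_inv, ← map_mul, ← map_mul, hπeq] at hfa
    rw [hπ1]
    have h1 : g * x⁻¹ * g⁻¹ * x⁻¹⁻¹ ∈ N₀ := by
      have e : g * x⁻¹ * g⁻¹ * x⁻¹⁻¹ =
          ((⟨g, hgH⟩ * ⟨x, hQH hx⟩ * ⟨g, hgH⟩⁻¹ : H) : G)⁻¹ * ((⟨x, hQH hx⟩ : H) : G) := by
        simp only [Subgroup.coe_mul, Subgroup.coe_inv]; group
      rw [e]; exact hfa
    have := he _ (Q.inv_mem hx) h1
    exact (N₀.inv_mem_iff).1 this

/-- A failure of the Frobenius condition produces a bad section. -/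
theorem exists_section {G : Type*} [Group G] [Finite G] (p : ℕ) [Fact p.Prime]
    (h : ¬ FrobeniusCondition p G) :
    ∃ (H : Subgroup G) (N : Subgroup H) (_ : N.Normal), Cfsg.pPrimeCore p (H ⧸ N) = ⊥ ∧
      ¬ ∃ k : H ⧸ N, orderOf k = Monoid.exponent (H ⧸ N) := by
  classical
  have hp : p.Prime := Fact.out
  unfold FrobeniusCondition at h
  push Not at h
  obtain ⟨Q₀, hQ₀p, g₀, hg₀N, hg₀cop, hg₀C⟩ := h
  -- minimal Q
  have hex : ∃ n : ℕ, ∃ (Q : Subgroup G) (g : G), IsPGroup p Q ∧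
      g ∈ Subgroup.normalizer (Q : Set G) ∧ Nat.Coprime (orderOf g) p ∧
      g ∉ Subgroup.centralizer (Q : Set G) ∧ Nat.card Q = n :=
    ⟨_, Q₀, g₀, hQ₀p, hg₀N, hg₀cop, hg₀C, rfl⟩
  obtain ⟨Q, g₁, hQp, hg₁N, hg₁cop, hg₁C, hQcard⟩ := Nat.find_spec hex
  have hminQ : ∀ (Q' : Subgroup G) (g' : G), IsPGroup p Q' →
      g' ∈ Subgroup.normalizer (Q' : Set G) → Nat.Coprime (orderOf g') p →
      g' ∉ Subgroup.centralizer (Q' : Set G) → Nat.card Q ≤ Nat.card Q' := by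
    intro Q' g' h1 h2 h3 h4
    rw [hQcard]
    exact Nat.find_min' hex ⟨Q', g', h1, h2, h3, h4, rfl⟩
  -- minimal g for this Q
  have hex2 : ∃ k : ℕ, ∃ g : G, g ∈ Subgroup.normalizer (Q : Set G) ∧
      Nat.Coprime (orderOf g) p ∧ g ∉ Subgroup.centralizer (Q : Set G) ∧ orderOf g = k :=
    ⟨_, g₁, hg₁N, hg₁cop, hg₁C, rfl⟩
  obtain ⟨g, hgN, hgcop, hgC, hgo⟩ := Nat.find_spec hex2
  have hming : ∀ g' : G, g' ∈ Subgroup.normalizer (Q : Set G) → Nat.Coprime (orderOf g') p →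
      g' ∉ Subgroup.centralizer (Q : Set G) → orderOf g ≤ orderOf g' := by
    intro g' h2 h3 h4
    rw [hgo]
    exact Nat.find_min' hex2 ⟨g', h2, h3, h4, rfl⟩
  -- basic facts
  have hgQ : ∀ x ∈ Q, g * x * g⁻¹ ∈ Q := fun x hx => (Subgroup.mem_normalizer_iff.1 hgN x).1 hx
  have hcent_iff : ∀ (S : Subgroup G) (y : G), y ∈ Subgroup.centralizer (S : Set G) ↔
      ∀ x ∈ S, y * x * y⁻¹ = x := by
    intro S y
    rw [Subgroup.mem_centralizer_iff]
    constructor
    · intro h x hx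
      rw [← h x hx]; group
    · intro h x hx
      have := h x hx
      calc x * y = (y * x * y⁻¹) * y := by rw [this]
        _ = y * x := by group
  -- (M1)
  have hM1 : ∀ Q₁ : Subgroup G, Q₁ ≤ Q → (∀ x ∈ Q₁, g * x * g⁻¹ ∈ Q₁) → Q₁ ≠ Q →
      ∀ x ∈ Q₁, g * x * g⁻¹ = x := by
    intro Q₁ hle hinv hne
    by_contra hcon
    have hgC₁ : g ∉ Subgroup.centralizer (Q₁ : Set G) := by
      intro h
      exact hcon ((hcent_iff Q₁ g).1 h)
    have hgN₁ : g ∈ Subgroup.normalizer (Q₁ : Set G) :=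
      Subgroup.mem_normalizer_fintype (fun n hn => hinv n hn)
    have h1 := hminQ Q₁ g (hQp.to_le hle) hgN₁ hgcop hgC₁
    have h2 : Nat.card Q₁ ≤ Nat.card Q := Subgroup.card_le_of_le hle
    exact hne (Subgroup.eq_of_le_of_card_ge hle h1)
  -- g ≠ 1 and a prime divisor of its order
  have hg1 : orderOf g ≠ 1 := by
    rw [Ne, orderOf_eq_one_iff]
    rintro rfl
    exact hgC (Subgroup.one_mem _)
  obtain ⟨q, hq, hqg⟩ := Nat.exists_prime_and_dvd hg1
  have hqp : q ≠ p := by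
    rintro rfl
    have := Nat.dvd_gcd hqg dvd_rfl
    rw [hgcop] at this
    exact hq.one_lt.ne' (Nat.dvd_one.1 this)
  -- (M2)
  have hM2 : g ^ q ∈ Subgroup.centralizer (Q : Set G) := by
    by_contra hcon
    have h1 : g ^ q ∈ Subgroup.normalizer (Q : Set G) := Subgroup.pow_mem _ hgN q
    have h2 : Nat.Coprime (orderOf (g ^ q)) p :=
      Nat.Coprime.coprime_dvd_left (orderOf_pow_dvd q) hgcop
    have h3 := hming (g ^ q) h1 h2 hcon
    rw [orderOf_pow_of_dvd hq.ne_zero hqg] at h3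
    have h4 : orderOf g / q < orderOf g := Nat.div_lt_self (orderOf_pos g) hq.one_lt
    omega
  -- C = C_Q(g)
  set C : Subgroup G := Q ⊓ Subgroup.centralizer ({g} : Set G) with hC
  have hCmem : ∀ x : G, x ∈ C ↔ x ∈ Q ∧ g * x * g⁻¹ = x := by
    intro x
    rw [hC, Subgroup.mem_inf, Subgroup.mem_centralizer_singleton_iff]
    constructor
    · rintro ⟨h1, h2⟩
      refine ⟨h1, ?_⟩
      rw [← h2]; group
    · rintro ⟨h1, h2⟩
      refine ⟨h1, ?_⟩
      calc x * g = (g * x * g⁻¹) * g := by rw [h2]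
        _ = g * x := by group
  have hCQ : C ≤ Q := inf_le_left
  have hCneQ : C ≠ Q := by
    intro h
    apply hgC
    rw [hcent_iff]
    intro x hx
    rw [← h] at hx
    exact ((hCmem x).1 hx).2
  have hF1 : ∀ Q₁ : Subgroup G, Q₁ ≤ Q → (∀ x ∈ Q₁, g * x * g⁻¹ ∈ Q₁) → Q₁ ≠ Q → Q₁ ≤ C := by
    intro Q₁ hle hinv hne x hx
    exact (hCmem x).2 ⟨hle hx, hM1 Q₁ hle hinv hne x hx⟩
  -- Q ≠ ⊥
  have hQbot : Q ≠ ⊥ := by
    rintro rfl
    apply hgC
    rw [hcent_iff]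
    intro x hx
    rw [Subgroup.mem_bot] at hx
    rw [hx]; group
  -- derived subgroup
  have hQQ_le : ⁅Q, Q⁆ ≤ Q := Subgroup.commutator_le.2 (fun a ha b hb =>
      Q.mul_mem (Q.mul_mem (Q.mul_mem ha hb) (Q.inv_mem ha)) (Q.inv_mem hb))
  have hQQ_ne : ⁅Q, Q⁆ ≠ Q := by
    haveI : Nontrivial Q := (Subgroup.nontrivial_iff_ne_bot Q).2 hQbot
    haveI : Group.IsNilpotent Q := hQp.isNilpotent
    haveI : Group.IsSolvable Q := IsNilpotent.to_isSolvable
    have hlt := Group.IsSolvable.commutator_lt_top_of_nontrivial Q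
    intro h
    rw [← Subgroup.map_subtype_commutator] at h
    have h2 : Subgroup.map Q.subtype (commutator Q) = Subgroup.map Q.subtype ⊤ := by
      rw [h, ← MonoidHom.range_eq_map, Subgroup.range_subtype]
    exact hlt.ne (Subgroup.map_injective Q.subtype_injective h2)
  have hQQ_inv : ∀ x ∈ ⁅Q, Q⁆, g * x * g⁻¹ ∈ ⁅Q, Q⁆ := by
    intro x hx
    have h1 : Subgroup.map (MulAut.conj g : G →* G) ⁅Q, Q⁆ = ⁅Q, Q⁆ := by
      rw [Subgroup.map_commutator, Subgroup.mem_normalizer_iff_map_conj_eq.1 hgN]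
    have h2 : (MulAut.conj g : G →* G) x ∈ Subgroup.map (MulAut.conj g : G →* G) ⁅Q, Q⁆ :=
      Subgroup.mem_map_of_mem _ hx
    rw [h1] at h2
    simpa [MulAut.conj_apply] using h2
  have hF3 : ⁅Q, Q⁆ ≤ C := hF1 _ hQQ_le hQQ_inv hQQ_ne
  -- C normal in Q
  have hF4 : ∀ x ∈ Q, ∀ c ∈ C, x * c * x⁻¹ ∈ C := by
    intro x hx c hc
    have h1 : ⁅x, c⁆ ∈ C := hF3 (Subgroup.commutator_mem_commutator hx (hCQ hc))
    have e : x * c * x⁻¹ = ⁅x, c⁆ * c := by simp only [commutatorElement_def]; group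
    rw [e]; exact C.mul_mem h1 hc
  -- coprime argument
  have hF6 : (∀ x ∈ Q, g * x * g⁻¹ * x⁻¹ ∈ C) → False := by
    intro hall
    apply hgC
    rw [hcent_iff]
    intro x hx
    set c := g * x * g⁻¹ * x⁻¹ with hc
    have hcC := hall x hx
    have hcg : g * c * g⁻¹ = c := ((hCmem c).1 hcC).2
    have hpow : ∀ k : ℕ, g ^ k * x * (g ^ k)⁻¹ = c ^ k * x := by
      intro k
      induction k with
      | zero => simp
      | succ k ih =>
        have e : g ^ (k + 1) * x * (g ^ (k + 1))⁻¹ = g * (g ^ k * x * (g ^ k)⁻¹) * g⁻¹ := by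
          rw [pow_succ']; group
        rw [e, ih]
        have e2 : g * (c ^ k * x) * g⁻¹ = (g * c * g⁻¹) ^ k * (g * x * g⁻¹) := by
          rw [conj_pow]; group
        rw [e2, hcg, pow_succ]
        have : g * x * g⁻¹ = c * x := by rw [hc]; group
        rw [this]; group
    have h1 := hpow (orderOf g)
    rw [pow_orderOf_eq_one] at h1
    have h2 : c ^ orderOf g = 1 := by
      have : c ^ orderOf g * x = x := by rw [← h1]; group
      exact mul_eq_right.1 this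
    obtain ⟨j, hj⟩ := (IsPGroup.iff_orderOf.1 hQp) ⟨c, hCQ hcC⟩
    rw [Subgroup.orderOf_mk] at hj
    have h3 : orderOf c ∣ orderOf g := orderOf_dvd_of_pow_eq_one h2
    have h4 : Nat.Coprime (orderOf c) (orderOf g) := by
      rw [hj]; exact (Nat.Coprime.pow_left j hgcop.symm)
    have h5 : orderOf c = 1 := Nat.Coprime.eq_one_of_dvd h4 h3
    rw [orderOf_eq_one_iff] at h5
    have : g * x * g⁻¹ = c * x := by rw [hc]; group
    rw [this, h5, one_mul]
  -- (F7)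
  have hF7 : ∀ x ∈ Q, g * x * g⁻¹ * x⁻¹ ∈ C → x ∈ C := by
    let Y : Subgroup G :=
      { carrier := {x | x ∈ Q ∧ g * x * g⁻¹ * x⁻¹ ∈ C}
        one_mem' := ⟨Q.one_mem, by simp⟩
        mul_mem' := by
          rintro x y ⟨hx, hxc⟩ ⟨hy, hyc⟩
          refine ⟨Q.mul_mem hx hy, ?_⟩
          have e : g * (x * y) * g⁻¹ * (x * y)⁻¹ =
              (g * x * g⁻¹ * x⁻¹) * (x * (g * y * g⁻¹ * y⁻¹) * x⁻¹) := by group
          rw [e]; exact C.mul_mem hxc (hF4 x hx _ hyc)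
        inv_mem' := by
          rintro x ⟨hx, hxc⟩
          refine ⟨Q.inv_mem hx, ?_⟩
          have e : g * x⁻¹ * g⁻¹ * x⁻¹⁻¹ = x⁻¹ * (g * x * g⁻¹ * x⁻¹)⁻¹ * x⁻¹⁻¹ := by group
          rw [e]; exact hF4 _ (Q.inv_mem hx) _ (C.inv_mem hxc) }
    have hYmem : ∀ x, x ∈ Y ↔ x ∈ Q ∧ g * x * g⁻¹ * x⁻¹ ∈ C := fun x => Iff.rfl
    have hYQ : Y ≤ Q := fun x hx => hx.1
    have hYinv : ∀ x ∈ Y, g * x * g⁻¹ ∈ Y := by
      rintro x ⟨hx, hxc⟩
      refine ⟨hgQ x hx, ?_⟩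
      have e : g * (g * x * g⁻¹) * g⁻¹ * (g * x * g⁻¹)⁻¹ = g * (g * x * g⁻¹ * x⁻¹) * g⁻¹ := by group
      rw [e, ((hCmem _).1 hxc).2]; exact hxc
    intro x hx hxc
    by_cases hYQeq : Y = Q
    · exfalso
      apply hF6
      intro y hy
      rw [← hYQeq] at hy
      exact hy.2
    · exact hF1 Y hYQ hYinv hYQeq ⟨hx, hxc⟩
  -- the subgroups H and N₀
  set Z := Subgroup.zpowers g with hZ
  set Zq := Subgroup.zpowers (g ^ q) with hZq
  have hZN : Z ≤ Subgroup.normalizer (Q : Set G) := Subgroup.zpowers_le.2 hgN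
  have hZqC : Zq ≤ Subgroup.centralizer (Q : Set G) := Subgroup.zpowers_le.2 hM2
  have hZqZ : Zq ≤ Z := Subgroup.zpowers_le.2 (Subgroup.pow_mem _ (Subgroup.mem_zpowers g) q)
  -- elements of Z commute with g
  have hZg : ∀ z ∈ Z, z * g = g * z := by
    intro z hz
    obtain ⟨k, rfl⟩ := Subgroup.mem_zpowers_iff.1 hz
    exact ((Commute.refl g).zpow_left k).eq
  have hZC : ∀ z ∈ Z, ∀ c ∈ C, z * c * z⁻¹ = c := by
    intro z hz c hc
    obtain ⟨k, rfl⟩ := Subgroup.mem_zpowers_iff.1 hz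
    have h1 : Commute g c := by
      have := ((hCmem c).1 hc).2
      show g * c = c * g
      calc g * c = (g * c * g⁻¹) * g := by group
        _ = c * g := by rw [this]
    have h2 : Commute (g ^ k) c := h1.zpow_left k
    rw [h2.eq]; group
  have hZqN : Zq ≤ Subgroup.normalizer (C : Set G) := by
    intro z hz
    apply Subgroup.mem_normalizer_fintype
    intro c hc
    rw [hZC z (hZqZ hz) c hc]; exact hc
  have hHset := Subgroup.coe_mul_of_right_le_normalizer_left Q Z hZN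
  have hNset := Subgroup.coe_mul_of_right_le_normalizer_left C Zq hZqN
  have hHmem : ∀ h : G, h ∈ Q ⊔ Z ↔ ∃ x ∈ Q, ∃ z ∈ Z, x * z = h := by
    intro h
    rw [← SetLike.mem_coe, hHset, Set.mem_mul]; rfl
  have hNmem : ∀ n : G, n ∈ C ⊔ Zq ↔ ∃ c ∈ C, ∃ z ∈ Zq, c * z = n := by
    intro n
    rw [← SetLike.mem_coe, hNset, Set.mem_mul]; rfl
  -- Q ⊓ N₀ ≤ C
  have hQN : ∀ x ∈ Q, x ∈ C ⊔ Zq → x ∈ C := by
    intro x hx hxN
    obtain ⟨c, hc, z, hz, rfl⟩ := (hNmem x).1 hxN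
    have hzQ : z ∈ Q := by
      have := Q.mul_mem (Q.inv_mem (hCQ hc)) hx
      rwa [inv_mul_cancel_left] at this
    have hz1 : z = 1 := by
      obtain ⟨j, hj⟩ := (IsPGroup.iff_orderOf.1 hQp) ⟨z, hzQ⟩
      rw [Subgroup.orderOf_mk] at hj
      have h3 : orderOf z ∣ orderOf g := by
        have hzZ : z ∈ Subgroup.zpowers g := hZqZ hz
        have h5 := Subgroup.orderOf_dvd_natCard (Subgroup.zpowers g) hzZ
        rwa [Nat.card_zpowers] at h5
      have h4 : Nat.Coprime (orderOf z) (orderOf g) := by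
        rw [hj]; exact (Nat.Coprime.pow_left j hgcop.symm)
      exact orderOf_eq_one_iff.1 (Nat.Coprime.eq_one_of_dvd h4 h3)
    rw [hz1, mul_one]; exact hc
  apply Exists.intro (Q ⊔ Z)
  apply lemmaX2 p q hq hqp (Q ⊔ Z) (C ⊔ Zq) Q
    (sup_le (hCQ.trans le_sup_left) (hZqZ.trans le_sup_right)) ?_ le_sup_left hQp g
    (le_sup_right (a := Q) (Subgroup.mem_zpowers g)) ?_ ?_ ?_ hgQ ?_ ?_
  · -- N₀ is normalized by H
    intro h hh n hn
    obtain ⟨x, hx, z, hz, rfl⟩ := (hHmem h).1 hh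
    obtain ⟨c, hc, w, hw, rfl⟩ := (hNmem n).1 hn
    rw [hNmem]
    refine ⟨x * c * x⁻¹, hF4 x hx c hc, w, hw, ?_⟩
    have h1 : z * c * z⁻¹ = c := hZC z hz c hc
    have h2 : z * w = w * z := by
      obtain ⟨k, rfl⟩ := Subgroup.mem_zpowers_iff.1 hz
      obtain ⟨l, rfl⟩ := Subgroup.mem_zpowers_iff.1 (hZqZ hw)
      exact ((Commute.refl g).zpow_zpow k l).eq
    have h3 : x * w * x⁻¹ = w := by
      have := (hcent_iff Q w).1 (hZqC hw) x hx
      calc x * w * x⁻¹ = x * (w * x * w⁻¹)⁻¹ * w := by group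
        _ = w := by rw [this]; group
    calc x * c * x⁻¹ * w = (x * c * x⁻¹) * (x * w * x⁻¹) := by rw [h3]
      _ = x * (z * c * z⁻¹) * (w * z) * z⁻¹ * x⁻¹ := by rw [h1]; group
      _ = x * z * (c * w) * (x * z)⁻¹ := by rw [← h2]; group
  · -- generation
    intro h hh
    obtain ⟨x, hx, z, hz, rfl⟩ := (hHmem h).1 hh
    obtain ⟨n, hn⟩ := (Submonoid.mem_powers_iff _ _).1 (mem_powers_iff_mem_zpowers.2 hz)
    exact ⟨x, hx, n, by rw [hn]⟩
  · exact le_sup_right (a := C) (Subgroup.mem_zpowers (g ^ q))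
  · intro x hx y hy
    apply le_sup_left (a := C)
    apply hF3
    have : x * y * x⁻¹ * y⁻¹ = ⁅x, y⁆ := by simp only [commutatorElement_def]
    rw [this]
    exact Subgroup.commutator_mem_commutator hx hy
  · -- some element of Q outside N₀
    by_contra hcon
    push Not at hcon
    apply hCneQ
    apply le_antisymm hCQ
    intro x hx
    exact hQN x hx (hcon x hx)
  · intro x hx hxN
    apply le_sup_left (a := C)
    apply hF7 x hx
    exact hQN _ (Q.mul_mem (hgQ x hx) (Q.inv_mem hx)) hxN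

/-- A finite `p`-group has an element whose order is the exponent. -/
theorem exists_orderOf_eq_exponent_of_pgroup {K : Type*} [Group K] [Finite K] (p : ℕ)
    [Fact p.Prime] (hK : IsPGroup p K) : ∃ k : K, orderOf k = Monoid.exponent K := by
  have hp : p.Prime := Fact.out
  obtain ⟨g₀, hg₀⟩ := Finite.exists_max (fun k : K => orderOf k)
  refine ⟨g₀, ?_⟩
  apply Nat.dvd_antisymm (Monoid.order_dvd_exponent g₀)
  apply Monoid.exponent_dvd_of_forall_pow_eq_one
  intro x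
  obtain ⟨a, ha⟩ := (IsPGroup.iff_orderOf.1 hK) x
  obtain ⟨b, hb⟩ := (IsPGroup.iff_orderOf.1 hK) g₀
  have hle := hg₀ x
  rw [ha, hb] at hle
  have hab : a ≤ b := (Nat.pow_le_pow_iff_right hp.one_lt).1 hle
  apply orderOf_dvd_iff_pow_eq_one.1
  rw [ha, hb]
  exact pow_dvd_pow p hab

/-- Forward direction. -/
theorem forward {G : Type*} [Group G] [Finite G] (p : ℕ) [Fact p.Prime]
    (h : Cfsg.HasNormalPComplement p G) (H : Subgroup G) (N : Subgroup H) [N.Normal]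
    (hcore : Cfsg.pPrimeCore p (H ⧸ N) = ⊥) :
    ∃ k : H ⧸ N, orderOf k = Monoid.exponent (H ⧸ N) := by
  have hp : p.Prime := Fact.out
  obtain ⟨P, K, hKn, hKP⟩ := hasNormalPComplement_subgroup h H
  -- |K| coprime to p
  have hKcop : (Nat.card K).Coprime p := by
    have h1 : Nat.card K * Nat.card (P : Subgroup H) = Nat.card H := hKP.card_mul
    have h2 : Nat.card K = (P : Subgroup H).index := by
      have h3 := (P : Subgroup H).card_mul_index
      have hpos : 0 < Nat.card (P : Subgroup H) := Nat.card_pos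
      apply Nat.eq_of_mul_eq_mul_right hpos
      rw [h1, ← h3, mul_comm]
    rw [h2]
    exact (Nat.Prime.coprime_iff_not_dvd hp).2 P.not_dvd_index |>.symm
  -- the image of K in H/N is trivial
  have hKN : K ≤ N := by
    have hmapn : (K.map (QuotientGroup.mk' N)).Normal :=
      hKn.map _ (QuotientGroup.mk'_surjective N)
    have hmapc : (Nat.card (K.map (QuotientGroup.mk' N))).Coprime p :=
      Nat.Coprime.coprime_dvd_left (Subgroup.card_map_dvd _ _) hKcop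
    have hle : K.map (QuotientGroup.mk' N) ≤ Cfsg.pPrimeCore p (H ⧸ N) :=
      le_sSup ⟨hmapn, hmapc⟩
    rw [hcore] at hle
    intro k hk
    have : QuotientGroup.mk' N k ∈ K.map (QuotientGroup.mk' N) := Subgroup.mem_map_of_mem _ hk
    have := hle this
    rw [Subgroup.mem_bot] at this
    exact (QuotientGroup.eq_one_iff k).1 this
  -- H/N is a p-group
  have hpg : IsPGroup p (H ⧸ N) := by
    intro x
    obtain ⟨h, rfl⟩ := QuotientGroup.mk_surjective x
    obtain ⟨⟨⟨k, hk⟩, ⟨y, hy⟩⟩, hky⟩ := hKP.existsUnique h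
    simp only at hky
    obtain ⟨n, hn⟩ := P.2 ⟨y, hy⟩
    refine ⟨n, ?_⟩
    have hy1 : y ^ p ^ n = 1 := by
      have := congrArg Subtype.val hn
      simpa using this
    have hh : (h : H ⧸ N) = (y : H ⧸ N) := by
      rw [← hky.1]
      rw [QuotientGroup.mk_mul, (QuotientGroup.eq_one_iff k).2 (hKN hk), one_mul]
    rw [hh, ← QuotientGroup.mk_pow, hy1]
    rfl
  exact exists_orderOf_eq_exponent_of_pgroup p hpg

/-- Let G be a finite group and p a prime. Then G has a normal p-complement if and only if every section K = H/N of G (N a normal subgroup of a subgroup H) whose largest normal subgroup of order prime to p is trivial contains an element whose order equals the exponent of K. -/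
theorem result {G : Type*} [Group G] [Finite G] (p : ℕ) [Fact p.Prime] :
    Cfsg.HasNormalPComplement p G ↔
      ∀ (H : Subgroup G) (N : Subgroup H) [N.Normal], Cfsg.pPrimeCore p (H ⧸ N) = ⊥ →
        ∃ k : H ⧸ N, orderOf k = Monoid.exponent (H ⧸ N) := by
  constructor
  · intro h H N _ hcore
    exact forward p h H N hcore
  · intro h
    by_contra hcon
    rw [hasNormalPComplement_iff_frobeniusCondition] at hcon
    obtain ⟨H, N, hN, hcore, hno⟩ := exists_section p hcon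
    haveI := hN
    exact hno (h H N hcore)

end Cfsg.Agent.S4238
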