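import Cfsg.Statements.S4242
import Mathlib
import Cfsg.Agent.Lib.Helper1.ItoPNilpotent
import Cfsg.Agent.Lib.Helper1.PNilpotentLocal
import Cfsg.Agent.Lib.Helper1.CoprimeSylow
import Cfsg.Agent.Lib.Helper1.SchmidtStructure
import Cfsg.Agent.Lib.Helper2.Hypercenter
-- import your own Cfsg.Agent.* helpers here

set_option autoImplicit false
open Cfsg

namespace Cfsg.Agent.S4242

open Cfsg.Agent.Lib.Helper1 Cfsg.Agent.Lib.Helper2
open Pointwise
universe u


theorem exists_coatom_ge {G : Type*} [Group G] [Finite G] (H : Subgroup G) (hH : H ≠ ⊤) :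
    ∃ M : Subgroup G, IsCoatom M ∧ H ≤ M :=
  (eq_top_or_exists_le_coatom H).resolve_left hH


/-- Having a normal `p`-complement is invariant under isomorphism. -/
theorem hasNormalPComplement_of_mulEquiv {A B : Type*} [Group A] [Group B] [Finite A] (p : ℕ)
    [Fact p.Prime] (e : A ≃* B) (h : Cfsg.HasNormalPComplement p A) :
    Cfsg.HasNormalPComplement p B := by
  haveI : Finite B := Finite.of_equiv A e.toEquiv
  obtain ⟨P, N, hN, hc⟩ := h
  have hsurj : Function.Surjective e.toMonoidHom := e.surjective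
  refine ⟨P.mapSurjective hsurj, N.map e.toMonoidHom, hN.map _ hsurj, ?_⟩
  have hcoe : ((P.mapSurjective hsurj : Sylow p B) : Subgroup B) = (P : Subgroup A).map e.toMonoidHom := rfl
  rw [Subgroup.isComplement'_iff_card_mul_and_disjoint] at hc ⊢
  refine ⟨?_, ?_⟩
  · rw [hcoe, Subgroup.card_map_of_injective e.injective]
    have : Nat.card ((P : Subgroup A).map e.toMonoidHom) = Nat.card (P : Subgroup A) :=
      Subgroup.card_map_of_injective e.injective
    rw [this, hc.1]
    exact Nat.card_congr e.toEquiv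
  · rw [hcoe, disjoint_iff]
    have h1 : N.map e.toMonoidHom ⊓ (P : Subgroup A).map e.toMonoidHom =
        (N ⊓ (P : Subgroup A)).map e.toMonoidHom :=
      (Subgroup.map_inf _ _ e.toMonoidHom e.injective).symm
    rw [h1, disjoint_iff.1 hc.2, Subgroup.map_bot]


/-- A group without normal `p`-complement contains a minimal such subgroup. -/
theorem exists_minimal_non_pnilpotent {G : Type*} [Group G] [Finite G] (p : ℕ) [Fact p.Prime]
    (h : ¬ Cfsg.HasNormalPComplement p G) :
    ∃ H : Subgroup G, ¬ Cfsg.HasNormalPComplement p ↥H ∧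
      ∀ K : Subgroup ↥H, K ≠ ⊤ → Cfsg.HasNormalPComplement p ↥K := by
  have hne : ∃ n : ℕ, ∃ H : Subgroup G, Nat.card H = n ∧ ¬ Cfsg.HasNormalPComplement p ↥H := by
    refine ⟨_, ⊤, rfl, ?_⟩
    intro h'
    exact h (hasNormalPComplement_of_mulEquiv p Subgroup.topEquiv h')
  classical
  obtain ⟨H, hHn, hH⟩ := Nat.find_spec hne
  refine ⟨H, hH, ?_⟩
  intro K hK
  by_contra hcon
  have hlt : Nat.card (K.map H.subtype) < Nat.find hne := by
    rw [← hHn, Subgroup.card_map_of_injective H.subtype_injective]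
    have hle : Nat.card K ≤ Nat.card H := Subgroup.card_le_card_group K
    refine lt_of_le_of_ne hle ?_
    intro heq
    exact hK (Subgroup.eq_top_of_card_eq K heq)
  apply Nat.find_min hne hlt
  refine ⟨K.map H.subtype, rfl, ?_⟩
  intro h'
  apply hcon
  exact hasNormalPComplement_of_mulEquiv p (Subgroup.equivMapOfInjective K H.subtype H.subtype_injective).symm h'




/-- A `p'`-group has a normal `p`-complement. -/
theorem hasNormalPComplement_of_not_dvd {A : Type*} [Group A] [Finite A] (p : ℕ) [Fact p.Prime]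
    (h : ¬ p ∣ Nat.card A) : Cfsg.HasNormalPComplement p A := by
  obtain ⟨P⟩ : Nonempty (Sylow p A) := inferInstance
  have hP : (P : Subgroup A) = ⊥ := by
    obtain ⟨k, hk⟩ := IsPGroup.iff_card.1 P.isPGroup'
    have hdvd : Nat.card (P : Subgroup A) ∣ Nat.card A := Subgroup.card_subgroup_dvd_card _
    rw [hk] at hdvd
    have hk0 : k = 0 := by
      by_contra hk0
      apply h
      exact dvd_trans (dvd_pow_self p hk0) hdvd
    rw [hk0, pow_zero] at hk
    exact Subgroup.card_eq_one.1 hk
  refine ⟨P, ⊤, inferInstance, ?_⟩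
  rw [hP]
  exact Subgroup.isComplement'_top_bot


/-- Step A: under the hypothesis, a group that is not minimal non-nilpotent is `p`-nilpotent. -/
theorem stepA {G : Type u} [Group G] [Finite G] (p : ℕ) [Fact p.Prime]
    (hyp : ∀ M : Subgroup G, IsCoatom M → p ∣ Nat.card M → Group.IsNilpotent M)
    (hmn : ¬ Cfsg.IsMinimalNonNilpotent G) : Cfsg.HasNormalPComplement p G := by
  by_contra h
  obtain ⟨H, hH1, hH2⟩ := exists_minimal_non_pnilpotent p h
  obtain ⟨hprop, hnn, -⟩ := ito_minimal_non_p_nilpotent hH1 hH2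
  have hpH : p ∣ Nat.card H := by
    by_contra hnd
    exact hH1 (hasNormalPComplement_of_not_dvd p hnd)
  by_cases hHt : H = ⊤
  · subst hHt
    apply hmn
    refine ⟨?_, ?_⟩
    · intro hG
      apply hnn
      exact (Group.isNilpotent_congr Subgroup.topEquiv).2 hG
    · intro L hL
      have hK : L.subgroupOf ⊤ ≠ ⊤ := by
        intro h'
        rw [Subgroup.subgroupOf_eq_top] at h'
        exact hL (top_le_iff.1 h')
      have := hprop (L.subgroupOf ⊤) hK
      exact (Group.isNilpotent_congr (Subgroup.subgroupOfEquivOfLe (le_top : L ≤ ⊤))).1 this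
  · obtain ⟨M, hM, hHM⟩ := exists_coatom_ge H hHt
    have hpM : p ∣ Nat.card M := dvd_trans hpH (Subgroup.card_dvd_of_le hHM)
    exact hnn (isNilpotent_of_le (hyp M hM hpM) hHM)




/-- A subgroup of order `p` normalizing... centralizes the Hall `p'`-subgroup `N`. -/
theorem centralizes {G : Type u} [Group G] [Finite G] (p : ℕ) [Fact p.Prime]
    (hyp : ∀ M : Subgroup G, IsCoatom M → p ∣ Nat.card M → Group.IsNilpotent M)
    (N : Subgroup G) [N.Normal] (hNnil : ¬ Group.IsNilpotent N) (x : G) (hx : orderOf x = p)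
    (hpN : ¬ p ∣ Nat.card N) (hZN : Subgroup.zpowers x ⊓ N = ⊥) :
    N ≤ Subgroup.centralizer ({x} : Set G) := by
  have hp : p.Prime := Fact.out
  set Z := Subgroup.zpowers x with hZ
  have hZcard : Nat.card Z = p := by rw [hZ, Nat.card_zpowers, hx]
  have hZN' : Z ≤ Subgroup.normalizer (N : Set G) := by
    rw [Subgroup.normalizer_eq_top_iff.2 inferInstance]; exact le_top
  have hcop : (Nat.card Z).Coprime (Nat.card N) := by
    rw [hZcard]; exact (Nat.Prime.coprime_iff_not_dvd hp).2 hpN
  have hZsolv : Group.IsSolvable Z := by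
    haveI : IsMulCommutative Z := inferInstance
    infer_instance
  -- the centralizer contains a Sylow `q`-subgroup of `N` for every prime `q`
  have hsyl : ∀ (q : ℕ) [Fact q.Prime], ∃ Q : Sylow q N,
      (Q : Subgroup N).map N.subtype ≤ Subgroup.centralizer ({x} : Set G) := by
    intro q _
    obtain ⟨Q, hQ⟩ := coprime_exists_invariant_sylow Z N hZN' hcop (Or.inl hZsolv) q
    refine ⟨Q, ?_⟩
    set Q' := (Q : Subgroup N).map N.subtype with hQ'
    have hQ'N : Q' ≤ N := by
      rintro _ ⟨y, -, rfl⟩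
      exact y.2
    -- `Z ⊔ Q'` is proper
    have hT : Z ⊔ Q' ≠ ⊤ := by
      intro hT
      apply hNnil
      have hQ'n : Q'.Normal := by
        rw [← Subgroup.normalizer_eq_top_iff, eq_top_iff, ← hT]
        exact sup_le hQ Subgroup.le_normalizer
      have hNQ : N ≤ Q' := by
        intro g hg
        have hg' : g ∈ ((Z ⊔ Q' : Subgroup G) : Set G) := by rw [hT]; trivial
        rw [Subgroup.mul_normal] at hg'
        obtain ⟨z, hz, y, hy, hzy⟩ := hg'
        have hzy' : z * y = g := hzy
        subst hzy'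
        have hzN : z ∈ N := by
          have : z = (z * y) * y⁻¹ := by group
          rw [this]
          exact N.mul_mem hg (N.inv_mem (hQ'N hy))
        have hz1 : z ∈ Z ⊓ N := ⟨hz, hzN⟩
        rw [hZN, Subgroup.mem_bot] at hz1
        rw [hz1, one_mul]
        exact hy
      have hQtop : (Q : Subgroup N) = ⊤ := by
        rw [eq_top_iff]
        intro y _
        obtain ⟨y', hy', hyy⟩ := hNQ y.2
        have : y' = y := Subtype.ext hyy
        rwa [← this]
      have hNq : IsPGroup q N := by
        intro y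
        obtain ⟨k, hk⟩ := Q.isPGroup' ⟨y, by rw [hQtop]; trivial⟩
        exact ⟨k, congrArg Subtype.val hk⟩
      exact hNq.isNilpotent
    obtain ⟨M, hM, hTM⟩ := exists_coatom_ge _ hT
    have hZM : Z ≤ M := le_sup_left.trans hTM
    have hpM : p ∣ Nat.card M := by
      rw [← hZcard]; exact Subgroup.card_dvd_of_le hZM
    haveI hMnil : Group.IsNilpotent M := hyp M hM hpM
    intro y hy
    rw [Subgroup.mem_centralizer_singleton_iff]
    have hyM : y ∈ M := hTM (le_sup_right (a := Z) hy)
    have hxM : x ∈ M := hZM (Subgroup.mem_zpowers x)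
    -- orders
    obtain ⟨y0, hy0, rfl⟩ := hy
    have hyo : (orderOf (N.subtype y0)).Coprime p := by
      rw [orderOf_injective N.subtype N.subtype_injective]
      exact Nat.Coprime.coprime_dvd_left (orderOf_dvd_natCard y0)
        ((Nat.coprime_comm).1 ((Nat.Prime.coprime_iff_not_dvd hp).2 hpN))
    have hcomm := commute_of_isNilpotent_of_coprime (H := M) (a := ⟨N.subtype y0, hyM⟩) (b := ⟨x, hxM⟩) (by
      rw [← orderOf_injective M.subtype M.subtype_injective, ← orderOf_injective M.subtype M.subtype_injective]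
      show (orderOf (N.subtype y0)).Coprime (orderOf x)
      rw [hx]
      exact hyo)
    exact congrArg Subtype.val hcomm.eq
  -- conclusion
  set C := (Subgroup.centralizer ({x} : Set G)).subgroupOf N with hC
  have hidx : C.index = 1 := by
    rw [Nat.eq_one_iff_not_exists_prime_dvd]
    intro q hq hqd
    haveI : Fact q.Prime := ⟨hq⟩
    obtain ⟨Q, hQ⟩ := hsyl q
    have hQC : (Q : Subgroup N) ≤ C := by
      intro y hy
      rw [hC, Subgroup.mem_subgroupOf]
      exact hQ ⟨y, hy, rfl⟩
    exact Q.not_dvd_index (dvd_trans hqd (Subgroup.index_dvd_of_le hQC))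
  rw [Subgroup.index_eq_one, hC, Subgroup.subgroupOf_eq_top] at hidx
  exact hidx




theorem stepB {G : Type u} [Group G] [Finite G] (p : ℕ) [Fact p.Prime] (hpG : p ∣ Nat.card G)
    (hyp : ∀ M : Subgroup G, IsCoatom M → p ∣ Nat.card M → Group.IsNilpotent M)
    (hnil : ¬ Group.IsNilpotent G) (hmn : ¬ Cfsg.IsMinimalNonNilpotent G)
    (hpc : Cfsg.HasNormalPComplement p G) :
    ∃ Z K : Subgroup G, Z.Normal ∧ K.Normal ∧ Z ⊓ K = ⊥ ∧ Z ⊔ K = ⊤ ∧ Nat.card Z = p ∧
      Cfsg.IsMinimalNonNilpotent K ∧ ¬ p ∣ Nat.card K := by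
  have hp : p.Prime := Fact.out
  obtain ⟨P, N, hNn, hc⟩ := hpc
  haveI := hNn
  have hNidx : N.index = Nat.card (P : Subgroup G) := hc.symm.index_eq_card
  have hNcard : Nat.card N = (P : Subgroup G).index := hc.index_eq_card.symm
  have hpN : ¬ p ∣ Nat.card N := by rw [hNcard]; exact P.not_dvd_index
  -- a non-nilpotent proper subgroup
  have hex : ∃ H : Subgroup G, H ≠ ⊤ ∧ ¬ Group.IsNilpotent H := by
    by_contra hcon
    push Not at hcon
    exact hmn ⟨hnil, hcon⟩
  obtain ⟨H, hHt, hHn⟩ := hex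
  obtain ⟨M₀, hM₀, hHM₀⟩ := exists_coatom_ge H hHt
  have hM₀n : ¬ Group.IsNilpotent M₀ := fun h => hHn (isNilpotent_of_le h hHM₀)
  have hpM₀ : ¬ p ∣ Nat.card M₀ := fun h => hM₀n (hyp M₀ hM₀ h)
  have hM₀N : M₀ ≤ N := by
    rw [← Subgroup.relIndex_eq_one]
    have h1 : N.relIndex M₀ ∣ N.index := Subgroup.relIndex_dvd_index_of_normal N M₀
    have h2 : N.relIndex M₀ ∣ Nat.card M₀ := Subgroup.relIndex_dvd_card N M₀
    obtain ⟨k, hk⟩ := IsPGroup.iff_card.1 P.isPGroup'
    rw [hNidx, hk] at h1
    obtain ⟨j, -, hj⟩ := (Nat.dvd_prime_pow hp).1 h1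
    have hj0 : j = 0 := by
      by_contra hj0
      apply hpM₀
      refine dvd_trans ?_ h2
      rw [hj]
      exact dvd_pow_self p hj0
    rw [hj, hj0, pow_zero]
  have hNtop : N ≠ ⊤ := by
    intro h
    apply hpN
    rw [h, Subgroup.card_top]
    exact hpG
  have hNM₀ : N = M₀ := by
    by_contra hne
    have hlt : M₀ < N := lt_of_le_of_ne hM₀N (Ne.symm hne)
    exact hNtop (hM₀.2 N hlt)
  have hNcoatom : IsCoatom N := hNM₀ ▸ hM₀
  have hNnil : ¬ Group.IsNilpotent N := hNM₀ ▸ hM₀n
  -- the subgroup of order p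
  obtain ⟨x, hx⟩ := exists_prime_orderOf_dvd_card' p hpG
  set Z := Subgroup.zpowers x with hZ
  have hZcard : Nat.card Z = p := by rw [hZ, Nat.card_zpowers, hx]
  have hZN : Z ⊓ N = ⊥ := by
    apply Subgroup.inf_eq_bot_of_coprime
    rw [hZcard]
    exact (Nat.Prime.coprime_iff_not_dvd hp).2 hpN
  have hxN : x ∉ N := by
    intro hxN
    apply hpN
    have := orderOf_dvd_natCard (⟨x, hxN⟩ : N)
    rw [← hx]
    rwa [← orderOf_injective N.subtype N.subtype_injective] at this
  have hZNtop : Z ⊔ N = ⊤ := by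
    apply hNcoatom.2
    refine lt_of_le_of_ne le_sup_right ?_
    intro h
    apply hxN
    rw [h]
    exact le_sup_left (a := Z) (Subgroup.mem_zpowers x)
  have hcent := centralizes p hyp N hNnil x hx hpN hZN
  -- `Z` is normal
  have hZn : Z.Normal := by
    rw [← Subgroup.normalizer_eq_top_iff, eq_top_iff, ← hZNtop]
    apply sup_le Subgroup.le_normalizer
    intro n hn
    rw [Subgroup.mem_normalizer_iff]
    have hnx : n * x = x * n := Subgroup.mem_centralizer_singleton_iff.1 (hcent hn)
    have hconj : ∀ z ∈ Z, n * z * n⁻¹ = z := by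
      intro z hz
      obtain ⟨k, rfl⟩ := hz
      have : Commute n (x ^ k) := (show Commute n x from hnx).zpow_right k
      rw [this.eq]; group
    intro z
    constructor
    · intro hz; rw [hconj z hz]; exact hz
    · intro hz
      have h1 : n⁻¹ * (n * z * n⁻¹) * n⁻¹⁻¹ ∈ Z := by
        have hn' : n⁻¹ * x = x * n⁻¹ := by
          calc n⁻¹ * x = n⁻¹ * (x * n) * n⁻¹ := by group
            _ = n⁻¹ * (n * x) * n⁻¹ := by rw [hnx]
            _ = x * n⁻¹ := by group
        obtain ⟨k, hk⟩ := hz
        have : Commute n⁻¹ (x ^ k) := (show Commute n⁻¹ x from hn').zpow_right k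
        rw [← hk, this.eq]
        have e : x ^ k * n⁻¹ * n⁻¹⁻¹ = x ^ k := by group
        rw [e]; exact ⟨k, rfl⟩
      have e : n⁻¹ * (n * z * n⁻¹) * n⁻¹⁻¹ = z := by group
      rwa [e] at h1
  refine ⟨Z, N, hZn, hNn, hZN, hZNtop, hZcard, ⟨hNnil, ?_⟩, hpN⟩
  -- proper subgroups of `N` are nilpotent
  intro L hL
  set L' := L.map N.subtype with hL'
  have hL'N : L' ≤ N := by
    rintro _ ⟨y, -, rfl⟩; exact y.2
  have hL'lt : Nat.card L' < Nat.card N := by
    rw [hL', Subgroup.card_map_of_injective N.subtype_injective]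
    refine lt_of_le_of_ne (Subgroup.card_le_card_group L) ?_
    intro heq
    exact hL (Subgroup.eq_top_of_card_eq L heq)
  have hT : L' ⊔ Z ≠ ⊤ := by
    intro hT
    have h1 := card_sup_le_of_normal L' Z
    rw [hT, Subgroup.card_top, hZcard] at h1
    have h2 : Nat.card G = Nat.card N * p := by
      have := hc.card_mul_card
      obtain ⟨k, hk⟩ := IsPGroup.iff_card.1 P.isPGroup'
      -- index of N is p
      have h3 : N.relIndex (Z ⊔ N) = N.relIndex Z := Subgroup.relIndex_sup_right Z N
      rw [hZNtop, Subgroup.relIndex_top_right] at h3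
      have h4 := relIndex_mul_card_inf N Z
      rw [inf_comm, hZN, Subgroup.card_bot, mul_one, hZcard] at h4
      rw [← N.card_mul_index, h3, h4]
    rw [h2] at h1
    have := Nat.mul_lt_mul_of_lt_of_le hL'lt (le_refl p) hp.pos
    omega
  obtain ⟨M, hM, hTM⟩ := exists_coatom_ge _ hT
  have hpM : p ∣ Nat.card M := by
    rw [← hZcard]
    exact Subgroup.card_dvd_of_le (le_sup_right.trans hTM)
  have hL'nil : Group.IsNilpotent L' := isNilpotent_of_le (hyp M hM hpM) (le_sup_left.trans hTM)
  exact (Group.isNilpotent_congr (Subgroup.equivMapOfInjective L N.subtype N.subtype_injective)).2 hL'nil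




/-- The backward direction. -/
theorem backward {G : Type u} [Group G] [Finite G] (p : ℕ) [Fact p.Prime]
    (h : Group.IsNilpotent G ∨ Cfsg.IsMinimalNonNilpotent G ∨
        ∃ Z K : Subgroup G, Z.Normal ∧ K.Normal ∧ Z ⊓ K = ⊥ ∧ Z ⊔ K = ⊤ ∧ Nat.card Z = p ∧
          Cfsg.IsMinimalNonNilpotent K ∧ ¬ p ∣ Nat.card K) :
    ∀ M : Subgroup G, IsCoatom M → p ∣ Nat.card M → Group.IsNilpotent M := by
  have hp : p.Prime := Fact.out
  intro M hM hpM
  rcases h with h | h | ⟨Z, K, hZn, hKn, hZK, hZKtop, hZcard, hKmn, hpK⟩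
  · exact Subgroup.isNilpotent M
  · exact h.2 M hM.1
  · haveI := hZn
    haveI := hKn
    -- elements of `Z` and `K` commute
    have hcomm : ∀ z ∈ Z, ∀ k ∈ K, z * k = k * z := by
      intro z hz k hk
      have := Subgroup.commute_of_normal_of_disjoint Z K hZn hKn (disjoint_iff.2 hZK) z k hz hk
      exact this.eq
    -- every element is a product
    have hprod : ∀ g : G, ∃ z ∈ Z, ∃ k ∈ K, g = z * k := by
      intro g
      have hg : g ∈ ((Z ⊔ K : Subgroup G) : Set G) := by rw [hZKtop]; trivial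
      rw [Subgroup.mul_normal] at hg
      obtain ⟨z, hz, k, hk, hzk⟩ := hg
      exact ⟨z, hz, k, hk, hzk.symm⟩
    -- an element of order `p` in `M`
    obtain ⟨x, hx⟩ := exists_prime_orderOf_dvd_card' p hpM
    have hxo : orderOf (x : G) = p := by
      rw [← hx]; exact (orderOf_injective M.subtype M.subtype_injective x)
    obtain ⟨z, hz, k, hk, hxzk⟩ := hprod x
    have hzp : z ^ p = 1 := by
      have := pow_card_eq_one' (G := Z) (x := ⟨z, hz⟩)
      rw [hZcard] at this
      exact congrArg Subtype.val this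
    have hkp : k ^ p = 1 := by
      have h1 : (x : G) ^ p = 1 := by rw [← hxo]; exact pow_orderOf_eq_one _
      rw [hxzk, (show Commute z k from hcomm z hz k hk).mul_pow, hzp, one_mul] at h1
      exact h1
    have hk1 : k = 1 := by
      have h1 : orderOf k ∣ p := orderOf_dvd_of_pow_eq_one hkp
      have h2 : orderOf k ∣ Nat.card K := by
        have := orderOf_dvd_natCard (⟨k, hk⟩ : K)
        rwa [← orderOf_injective K.subtype K.subtype_injective] at this
      rcases (Nat.dvd_prime hp).1 h1 with h3 | h3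
      · exact orderOf_eq_one_iff.1 h3
      · exact absurd (h3 ▸ h2) hpK
    have hxZ : (x : G) ∈ Z := by rw [hxzk, hk1, mul_one]; exact hz
    have hZM : Z ≤ M := by
      have hZeq : Z = Subgroup.zpowers (x : G) := by
        symm
        apply Subgroup.eq_of_le_of_card_ge
        · rw [Subgroup.zpowers_le]; exact hxZ
        · rw [Nat.card_zpowers, hxo, hZcard]
      rw [hZeq, Subgroup.zpowers_le]
      exact x.2
    -- `M = Z ⊔ (M ⊓ K)`
    have hMeq : M = Z ⊔ (M ⊓ K) := by
      apply le_antisymm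
      · intro m hm
        obtain ⟨z', hz', k', hk', hm'⟩ := hprod m
        rw [hm']
        apply Subgroup.mul_mem
        · exact le_sup_left (a := Z) hz'
        · apply le_sup_right (a := Z)
          refine ⟨?_, hk'⟩
          have : k' = z'⁻¹ * m := by rw [hm']; group
          rw [this]
          exact M.mul_mem (M.inv_mem (hZM hz')) hm
      · exact sup_le hZM inf_le_left
    have hMK : M ⊓ K ≠ K := by
      intro hMK
      apply hM.1
      rw [eq_top_iff, ← hZKtop]
      exact sup_le hZM (hMK ▸ inf_le_left)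
    have hMKnil : Group.IsNilpotent (M ⊓ K : Subgroup G) := by
      have h1 : (M ⊓ K).subgroupOf K ≠ ⊤ := by
        intro h'
        rw [Subgroup.subgroupOf_eq_top] at h'
        exact hMK (le_antisymm inf_le_right h')
      have := hKmn.2 _ h1
      exact (Group.isNilpotent_congr (Subgroup.subgroupOfEquivOfLe (inf_le_right : M ⊓ K ≤ K))).1 this
    have hZnil : Group.IsNilpotent Z := by
      have : IsPGroup p Z := IsPGroup.of_card (n := 1) (by rw [hZcard, pow_one])
      exact this.isNilpotent
    have := isNilpotent_sup_of_commute Z (M ⊓ K) hZnil hMKnil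
      (fun a ha b hb => hcomm a ha b hb.2)
    rw [← hMeq] at this
    exact this




theorem main {G : Type u} [Group G] [Finite G] (p : ℕ) (hp : p.Prime) (hpG : p ∣ Nat.card G) :
    (∀ M : Subgroup G, IsCoatom M → p ∣ Nat.card M → Group.IsNilpotent M) ↔
      (Group.IsNilpotent G ∨ Cfsg.IsMinimalNonNilpotent G ∨
        ∃ Z K : Subgroup G, Z.Normal ∧ K.Normal ∧ Z ⊓ K = ⊥ ∧ Z ⊔ K = ⊤ ∧ Nat.card Z = p ∧
          Cfsg.IsMinimalNonNilpotent K ∧ ¬ p ∣ Nat.card K) := by
  haveI : Fact p.Prime := ⟨hp⟩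
  constructor
  · intro hyp
    by_cases hnil : Group.IsNilpotent G
    · exact Or.inl hnil
    by_cases hmn : Cfsg.IsMinimalNonNilpotent G
    · exact Or.inr (Or.inl hmn)
    exact Or.inr (Or.inr (stepB p hpG hyp hnil hmn (stepA p hyp hmn)))
  · exact backward p





/-- Let G be a finite group and p a prime dividing its order. Every maximal subgroup of G of order divisible by p is nilpotent if and only if G is nilpotent, or G is a minimal non-nilpotent group, or G is the internal direct product of a normal subgroup of order p and a normal minimal non-nilpotent subgroup of order prime to p. -/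
theorem result {G : Type*} [Group G] [Finite G] (p : ℕ) (hp : p.Prime) (hpG : p ∣ Nat.card G) :
    (∀ M : Subgroup G, IsCoatom M → p ∣ Nat.card M → Group.IsNilpotent M) ↔
      (Group.IsNilpotent G ∨ Cfsg.IsMinimalNonNilpotent G ∨
        ∃ Z K : Subgroup G, Z.Normal ∧ K.Normal ∧ Z ⊓ K = ⊥ ∧ Z ⊔ K = ⊤ ∧ Nat.card Z = p ∧
          Cfsg.IsMinimalNonNilpotent K ∧ ¬ p ∣ Nat.card K) := by
  exact main p hp hpG

end Cfsg.Agent.S4242
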