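import Cfsg.Statements.S4244
import Cfsg.Agent.Lib.Helper3.NilpotentPow

set_option autoImplicit false
open Cfsg

namespace Cfsg.Agent.S4244

theorem result {G : Type*} [Group G] [Finite G] (H : Subgroup G) (hH : H.IsSubnormal) (K : Subgroup G) :
    (H ⊓ K).relIndex H ∣ K.index := by
  induction hH with
  | top => simp
  | step H L hle hL hN ih =>
    rw [Subgroup.inf_relIndex_left] at ih ⊢
    have h1 : (K.subgroupOf L).relIndex (H.subgroupOf L) ∣ (K.subgroupOf L).index :=
      Cfsg.Agent.Lib.Helper3.relIndex_dvd_index_of_normal_right _ _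
    rw [Subgroup.relIndex_subgroupOf hle] at h1
    exact h1.trans ih

end Cfsg.Agent.S4244
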