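import Cfsg.Statements.S4250
import Cfsg.Agent.Lib.Helper7.Alperin2
import Cfsg.Agent.Lib.Helper7.FamilyTransfer1
import Cfsg.Agent.Lib.Helper7.PairFunctor2

set_option autoImplicit false
open Cfsg

namespace Cfsg.Agent.S4250

open Cfsg.Agent.Lib.Helper7
open scoped commutatorElement

/-- Let P be a Sylow p-subgroup of a finite group G. Call an intersection H = P ∩ Q with a Sylow p-subgroup Q tame when N_P(H) and N_Q(H) are Sylow p-subgroups of N_G(H). Then P ∩ G′ is generated by [P, N_G(P)] together with the commutator subgroups [P ∩ Q, ⟨x⟩] for all tame intersections P ∩ Q and all p-elements x of N_G(P ∩ Q). -/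
theorem result {G : Type*} [Group G] [Finite G] (p : ℕ) [Fact p.Prime] (P : Sylow p G) :
    (P : Subgroup G) ⊓ commutator G =
      ⁅(P : Subgroup G), Subgroup.normalizer ((P : Subgroup G) : Set G)⁆ ⊔
        ⨆ (Q : Sylow p G) (_ : (¬ p ∣ ((P : Subgroup G) ⊓ Subgroup.normalizer (((P : Subgroup G) ⊓ (Q : Subgroup G) : Subgroup G) : Set G)).relIndex (Subgroup.normalizer (((P : Subgroup G) ⊓ (Q : Subgroup G) : Subgroup G) : Set G)) ∧ ¬ p ∣ ((Q : Subgroup G) ⊓ Subgroup.normalizer (((P : Subgroup G) ⊓ (Q : Subgroup G) : Subgroup G) : Set G)).relIndex (Subgroup.normalizer (((P : Subgroup G) ⊓ (Q : Subgroup G) : Subgroup G) : Set G))))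
          (x : G) (_ : x ∈ Subgroup.normalizer (((P : Subgroup G) ⊓ (Q : Subgroup G) : Subgroup G) : Set G) ∧ ∃ k : ℕ, orderOf x = p ^ k),
          ⁅(P : Subgroup G) ⊓ (Q : Subgroup G), Subgroup.zpowers x⁆ := by

  have hPp : IsPGroup p ↥(P : Subgroup G) := P.isPGroup'
  set D : Subgroup G := ⁅(P : Subgroup G), Subgroup.normalizer ((P : Subgroup G) : Set G)⁆ ⊔
        ⨆ (Q : Sylow p G) (_ : (¬ p ∣ ((P : Subgroup G) ⊓ Subgroup.normalizer (((P : Subgroup G) ⊓ (Q : Subgroup G) : Subgroup G) : Set G)).relIndex (Subgroup.normalizer (((P : Subgroup G) ⊓ (Q : Subgroup G) : Subgroup G) : Set G)) ∧ ¬ p ∣ ((Q : Subgroup G) ⊓ Subgroup.normalizer (((P : Subgroup G) ⊓ (Q : Subgroup G) : Subgroup G) : Set G)).relIndex (Subgroup.normalizer (((P : Subgroup G) ⊓ (Q : Subgroup G) : Subgroup G) : Set G))))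
          (x : G) (_ : x ∈ Subgroup.normalizer (((P : Subgroup G) ⊓ (Q : Subgroup G) : Subgroup G) : Set G) ∧ ∃ k : ℕ, orderOf x = p ^ k),
          ⁅(P : Subgroup G) ⊓ (Q : Subgroup G), Subgroup.zpowers x⁆ with hD
  apply le_antisymm
  · -- focal subgroup theorem + Alperin
    have hRel := TRel.fusionRel D
    have hglob : ∀ (A : Set G) (g : G), A ⊆ (P : Subgroup G) → cr g A ⊆ (P : Subgroup G) →
        TRel D A g := by
      intro A g hA hAg
      have hch := alperin_chain P A g hA hAg
      apply hch.fusionRel hRel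
      intro B x hx b hb
      obtain ⟨Q, htame, hxN, hor, hBQ⟩ := hx
      have hbQ : b ∈ (P : Subgroup G) ⊓ (Q : Subgroup G) := hBQ hb
      have e : b⁻¹ * (x⁻¹ * b * x) = ⁅b⁻¹, x⁻¹⁆ := by
        rw [commutatorElement_def]; group
      rw [e]
      rcases hor with hQP | hk
      · apply (le_sup_left : _ ≤ D)
        have hxP : x ∈ Subgroup.normalizer ((P : Subgroup G) : Set G) := by
          rw [hQP, inf_idem] at hxN
          exact hxN
        exact Subgroup.commutator_mem_commutator
          (Subgroup.inv_mem _ (Subgroup.mem_inf.mp hbQ).1) (Subgroup.inv_mem _ hxP)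
      · apply (le_sup_right : _ ≤ D)
        have h1 : ⁅b⁻¹, x⁻¹⁆ ∈ ⁅(P : Subgroup G) ⊓ (Q : Subgroup G), Subgroup.zpowers x⁆ :=
          Subgroup.commutator_mem_commutator (Subgroup.inv_mem _ hbQ)
            (Subgroup.inv_mem _ (Subgroup.mem_zpowers x))
        have h2 : ⁅(P : Subgroup G) ⊓ (Q : Subgroup G), Subgroup.zpowers x⁆ ≤
            ⨆ (Q : Sylow p G) (_ : (¬ p ∣ ((P : Subgroup G) ⊓ Subgroup.normalizer (((P : Subgroup G) ⊓ (Q : Subgroup G) : Subgroup G) : Set G)).relIndex (Subgroup.normalizer (((P : Subgroup G) ⊓ (Q : Subgroup G) : Subgroup G) : Set G)) ∧ ¬ p ∣ ((Q : Subgroup G) ⊓ Subgroup.normalizer (((P : Subgroup G) ⊓ (Q : Subgroup G) : Subgroup G) : Set G)).relIndex (Subgroup.normalizer (((P : Subgroup G) ⊓ (Q : Subgroup G) : Subgroup G) : Set G))))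
              (x : G) (_ : x ∈ Subgroup.normalizer (((P : Subgroup G) ⊓ (Q : Subgroup G) : Subgroup G) : Set G) ∧ ∃ k : ℕ, orderOf x = p ^ k),
              ⁅(P : Subgroup G) ⊓ (Q : Subgroup G), Subgroup.zpowers x⁆ := by
          refine le_iSup_of_le Q (le_iSup_of_le htame (le_iSup_of_le x (le_iSup_of_le ⟨hxN, hk⟩ le_rfl)))
        exact h2 h1
    have hsylG : IsSylowIn p (P : Subgroup G) ⊤ :=
      ⟨le_top, hPp, by rw [Subgroup.relIndex_top_right]; exact P.not_dvd_index⟩
    rw [commutator_def]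
    refine (inf_commutator_le_closure_of_isSylowIn hsylG).trans ?_
    rw [Subgroup.closure_le]
    rintro _ ⟨b, hb, l, _, hbl, rfl⟩
    have := hglob {b} l (by rintro _ rfl; exact hb) (by rintro _ ⟨_, rfl, rfl⟩; exact hbl)
    exact this b rfl
  · apply sup_le
    · apply le_inf
      · exact (Subgroup.le_normalizer_iff_commutator_le_left).mp le_rfl
      · rw [commutator_def]
        exact Subgroup.commutator_mono le_top le_top
    · apply iSup_le; intro Q
      apply iSup_le; intro _
      apply iSup_le; intro x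
      apply iSup_le; intro hx
      apply le_inf
      · have h1 : Subgroup.zpowers x ≤ Subgroup.normalizer
            ((((P : Subgroup G) ⊓ (Q : Subgroup G) : Subgroup G)) : Set G) := by
          rw [Subgroup.zpowers_le]; exact hx.1
        exact ((Subgroup.le_normalizer_iff_commutator_le_left).mp h1).trans inf_le_left
      · rw [commutator_def]
        exact Subgroup.commutator_mono le_top le_top


end Cfsg.Agent.S4250
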