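import Cfsg.Statements.S4251
import Cfsg.Agent.Lib.Helper7.SylowControl
import Cfsg.Agent.Lib.Helper7.CharP
import Cfsg.Agent.Lib.Helper1.FrobeniusPComplement
import Cfsg.Agent.Lib.Helper1.NormalPComplement

set_option autoImplicit false
open Cfsg

namespace Cfsg.Agent.S4251

open Cfsg.Agent.Lib.Helper7
open scoped Pointwise

/-- Let P be a Sylow p-subgroup of a finite group G. Call an intersection H = P ∩ Q with a Sylow p-subgroup Q tame when N_P(H) and N_Q(H) are Sylow p-subgroups of N_G(H). If N_G(H)/C_G(H) is a p-group for every nontrivial tame intersection H = P ∩ Q, then G has a normal p-complement. -/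
theorem result {G : Type*} [Group G] [Finite G] (p : ℕ) [Fact p.Prime] (P : Sylow p G)
    (h : ∀ Q : Sylow p G, (P : Subgroup G) ⊓ (Q : Subgroup G) ≠ ⊥ → (¬ p ∣ ((P : Subgroup G) ⊓ Subgroup.normalizer (((P : Subgroup G) ⊓ (Q : Subgroup G) : Subgroup G) : Set G)).relIndex (Subgroup.normalizer (((P : Subgroup G) ⊓ (Q : Subgroup G) : Subgroup G) : Set G)) ∧ ¬ p ∣ ((Q : Subgroup G) ⊓ Subgroup.normalizer (((P : Subgroup G) ⊓ (Q : Subgroup G) : Subgroup G) : Set G)).relIndex (Subgroup.normalizer (((P : Subgroup G) ⊓ (Q : Subgroup G) : Subgroup G) : Set G))) →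
      IsPGroup p (Subgroup.normalizer (((P : Subgroup G) ⊓ (Q : Subgroup G) : Subgroup G) : Set G) ⧸
        (Subgroup.centralizer (((P : Subgroup G) ⊓ (Q : Subgroup G) : Subgroup G) : Set G)).subgroupOf
          (Subgroup.normalizer (((P : Subgroup G) ⊓ (Q : Subgroup G) : Subgroup G) : Set G)))) :
    Cfsg.HasNormalPComplement p G := by

  have hPp : IsPGroup p ↥(P : Subgroup G) := P.isPGroup'
  rw [Cfsg.Agent.Lib.Helper1.hasNormalPComplement_iff P,
    Cfsg.Agent.Lib.Helper1.frobenius_normal_p_complement P]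
  intro Q₀ hQ₀P g hg hgo
  have hRel := InnRel.fusionRel (P : Subgroup G)
  have hcr : cr g (Q₀ : Set G) = Q₀ := (cr_eq_self_iff_mem_normalizer g Q₀).mpr hg
  have hch := alperin_chain P (Q₀ : Set G) g (SetLike.coe_subset_coe.mpr hQ₀P)
    (by rw [hcr]; exact SetLike.coe_subset_coe.mpr hQ₀P)
  have hInn : InnRel (P : Subgroup G) (Q₀ : Set G) g := by
    apply hch.fusionRel hRel
    intro B x hx
    obtain ⟨Q, htame, hxN, -, hBQ⟩ := hx
    set H : Subgroup G := (P : Subgroup G) ⊓ (Q : Subgroup G) with hH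
    by_cases hHbot : H = ⊥
    · apply hRel.triv
      intro b hb
      have := hBQ hb
      rw [hHbot] at this
      exact Subgroup.mem_bot.mp this
    · have hpg := h Q hHbot htame
      set N : Subgroup G := Subgroup.normalizer ((H : Subgroup G) : Set G) with hN
      set C : Subgroup G := Subgroup.centralizer ((H : Subgroup G) : Set G) with hC
      have hCN : C ≤ N := Subgroup.centralizer_le_normalizer _
      have hNC : N ≤ Subgroup.normalizer (C : Set G) := normalizer_le_normalizer_centralizer H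
      have hT : IsSylowIn p ((P : Subgroup G) ⊓ N) N :=
        ⟨inf_le_right, hPp.to_le inf_le_left, htame.1⟩
      have hpow : ∀ d ∈ N, ∃ k : ℕ, d ^ (p ^ k) ∈ C := by
        intro d hd
        obtain ⟨k, hk⟩ := hpg (QuotientGroup.mk ⟨d, hd⟩)
        refine ⟨k, ?_⟩
        rw [← QuotientGroup.mk_pow, QuotientGroup.eq_one_iff, Subgroup.mem_subgroupOf,
          Subgroup.coe_pow] at hk
        exact hk
      have hle := le_sup_inf_sylowIn hT le_rfl Subgroup.le_normalizer hCN hNC hpow
      have hx' : x ∈ ((C ⊔ (N ⊓ ((P : Subgroup G) ⊓ N)) : Subgroup G) : Set G) := hle hxN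
      rw [Subgroup.coe_mul_of_right_le_normalizer_left C _ (inf_le_left.trans hNC),
        Set.mem_mul] at hx'
      obtain ⟨c, hc, t, ht, rfl⟩ := hx'
      refine ⟨t, (Subgroup.mem_inf.mp (Subgroup.mem_inf.mp ht).2).1, ?_⟩
      intro b hb
      have hbH : b ∈ H := hBQ hb
      have h1 := Subgroup.mem_centralizer_iff.mp hc b hbH
      have h2 : c⁻¹ * b * c = b := by rw [mul_assoc, h1]; group
      calc t⁻¹ * b * t = t⁻¹ * (c⁻¹ * b * c) * t := by rw [h2]
        _ = (c * t)⁻¹ * b * (c * t) := by group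
  obtain ⟨s, hs, hag⟩ := hInn
  have hspow : ∃ k : ℕ, s ^ (p ^ k) = 1 := by
    obtain ⟨k, hk⟩ := hPp ⟨s, hs⟩
    refine ⟨k, ?_⟩
    have := congrArg Subtype.val hk
    simpa using this
  exact mem_centralizer_of_agree_coprime hg hgo hspow hag


end Cfsg.Agent.S4251
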