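import Cfsg.Statements.S4260

set_option autoImplicit false
open Cfsg

namespace Cfsg.Agent.S4260

theorem mem_of_pow_mem_of_coprime {G : Type*} [Group G] (H : Subgroup G) (y : G) (n : ℕ)
    (hcop : n.Coprime (orderOf y)) (h : y ^ n ∈ H) : y ∈ H := by
  obtain ⟨m, hm⟩ := exists_pow_eq_self_of_coprime hcop
  rw [← hm]
  exact H.pow_mem h m

theorem result {G : Type*} [Group G] [Finite G] (H : Subgroup G) (hHall : (Nat.card H).Coprime H.index)
    (hexp : ∀ x : G, x ^ H.index ∈ H) : H.Normal := by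
  constructor
  intro h hh g
  apply mem_of_pow_mem_of_coprime H _ H.index _ (hexp _)
  have h1 : orderOf (g * h * g⁻¹) = orderOf h := (MulAut.conj g).orderOf_eq h
  rw [h1]
  have h2 : orderOf h ∣ Nat.card H := by
    have := orderOf_dvd_natCard (⟨h, hh⟩ : H)
    rwa [Subgroup.orderOf_mk] at this
  exact (Nat.Coprime.coprime_dvd_left h2 hHall).symm

end Cfsg.Agent.S4260
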