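import Cfsg.Statements.S4261
import Cfsg.Agent.Lib.Helper3.SolvableMin

set_option autoImplicit false
open Cfsg

namespace Cfsg.Agent.S4261

open Cfsg.Agent.Lib.Helper3 Pointwise in
theorem aux {G : Type*} [Group G] [Finite G] (hG : Group.IsSolvable G) (M : Subgroup G)
    (hM : IsCoatom M) (N : Subgroup G) [hNn : N.Normal] (hNM : N ≤ M)
    (hcore : ∀ K : Subgroup G, K.Normal → K ≤ M → K ≤ N)
    (hpowN : ∀ x : G, x ^ M.index ∈ N) : M.Normal := by
  classical
  have hMtop : M ≠ ⊤ := hM.1
  let π := QuotientGroup.mk' N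
  have hπs : Function.Surjective π := QuotientGroup.mk'_surjective N
  have hker : π.ker = N := QuotientGroup.ker_mk' N
  obtain ⟨Mb, hMb⟩ : ∃ Mb, Mb = M.map π := ⟨_, rfl⟩
  have hcomapMb : Mb.comap π = M := by
    rw [hMb, Subgroup.comap_map_eq, hker]
    exact sup_eq_left.2 hNM
  -- subgroups above Mb
  have hMb_dich : ∀ K : Subgroup (G ⧸ N), Mb ≤ K → K = Mb ∨ K = ⊤ := by
    intro K hK
    have h1 : M ≤ K.comap π := by
      rw [← hcomapMb]; exact Subgroup.comap_mono hK
    rcases eq_or_lt_of_le h1 with h | h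
    · left
      rw [← Subgroup.map_comap_eq_self_of_surjective hπs K, ← h, hMb]
    · right
      have := hM.2 _ h
      rw [← Subgroup.map_comap_eq_self_of_surjective hπs K, this]
      exact Subgroup.map_top_of_surjective π hπs
  have hMb_top : Mb ≠ ⊤ := by
    intro h
    apply hMtop
    rw [← hcomapMb, h, Subgroup.comap_top]
  have hMb_coatom : IsCoatom Mb := by
    refine ⟨hMb_top, ?_⟩
    intro K hK
    rcases hMb_dich K hK.le with h | h
    · exact absurd h (ne_of_gt hK)
    · exact h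
  -- normal subgroups inside Mb are trivial
  have hMb_core : ∀ K : Subgroup (G ⧸ N), K.Normal → K ≤ Mb → K = ⊥ := by
    intro K hKn hK
    have h1 : K.comap π ≤ M := by
      rw [← hcomapMb]; exact Subgroup.comap_mono hK
    have h2 : K.comap π ≤ N := hcore _ (hKn.comap π) h1
    rw [← Subgroup.map_comap_eq_self_of_surjective hπs K, eq_bot_iff]
    calc (K.comap π).map π ≤ N.map π := Subgroup.map_mono h2
      _ = ⊥ := by
        rw [Subgroup.map_eq_bot_iff, hker]
  have hNtop : N ≠ ⊤ := fun h => hMtop (top_le_iff.1 (h ▸ hNM))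
  haveI : Nontrivial (G ⧸ N) := by
    by_contra h
    rw [not_nontrivial_iff_subsingleton] at h
    apply hMb_top
    ext x
    simp [Subsingleton.elim x 1]
  have hQs : Group.IsSolvable (G ⧸ N) := Group.isSolvable_of_surjective hπs
  obtain ⟨p, A, hp, hAn, hAbot, hAp, hAcomm⟩ := exists_normal_abelian_pgroup (G ⧸ N) hQs
  haveI : Fact p.Prime := ⟨hp⟩
  have hA_not_le : ¬ A ≤ Mb := fun h => hAbot (hMb_core A hAn h)
  have hsup : A ⊔ Mb = ⊤ := by
    rcases hMb_dich (A ⊔ Mb) le_sup_right with h | h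
    · exact absurd (h ▸ le_sup_left) hA_not_le
    · exact h
  have hmul : (A : Set (G ⧸ N)) * (Mb : Set (G ⧸ N)) = Set.univ := by
    rw [← Subgroup.normal_mul, hsup, Subgroup.coe_top]
  have hinf : (A ⊓ Mb).Normal := by
    constructor
    intro x hx g
    have hg : g ∈ (A : Set (G ⧸ N)) * (Mb : Set (G ⧸ N)) := by rw [hmul]; trivial
    obtain ⟨a, ha, m, hm, rfl⟩ := hg
    have hy : m * x * m⁻¹ ∈ A ⊓ Mb :=
      ⟨hAn.conj_mem x hx.1 m, Mb.mul_mem (Mb.mul_mem hm hx.2) (Mb.inv_mem hm)⟩
    have : a * m * x * (a * m)⁻¹ = m * x * m⁻¹ := by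
      have hc := hAcomm a ha (m * x * m⁻¹) hy.1
      calc a * m * x * (a * m)⁻¹ = (a * (m * x * m⁻¹)) * a⁻¹ := by group
        _ = ((m * x * m⁻¹) * a) * a⁻¹ := by rw [hc]
        _ = m * x * m⁻¹ := by group
    rw [this]; exact hy
  have hinfbot : A ⊓ Mb = ⊥ := hMb_core _ hinf inf_le_right
  have hcompl : Subgroup.IsComplement' A Mb :=
    Subgroup.isComplement'_of_disjoint_and_mul_eq_univ (disjoint_iff.2 hinfbot) hmul
  have hidx : M.index = Nat.card A := by
    rw [← hcompl.index_eq_card, hMb, Subgroup.index_map_eq M hπs (hker.symm ▸ hNM)]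
  obtain ⟨k, hk⟩ := hAp.exists_card_eq
  have hQp : IsPGroup p (G ⧸ N) := by
    intro q
    obtain ⟨x, rfl⟩ := hπs q
    refine ⟨k, ?_⟩
    rw [← map_pow, ← hk, ← hidx]
    exact (QuotientGroup.eq_one_iff _).2 (hpowN x)
  haveI : Group.IsNilpotent (G ⧸ N) := hQp.isNilpotent
  have hMbn : Mb.Normal :=
    Subgroup.NormalizerCondition.normal_of_coatom _ Group.normalizerCondition_of_isNilpotent hMb_coatom
  rw [← hcomapMb]
  exact hMbn.comap π

/-- Let M be a maximal subgroup of a finite solvable group G such that x^[G : M] lies in M for every x in G. Then M is normal in G. -/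
theorem result {G : Type*} [Group G] [Finite G] (hG : Group.IsSolvable G) (M : Subgroup G) (hM : IsCoatom M)
    (hexp : ∀ x : G, x ^ M.index ∈ M) : M.Normal := by
  haveI : M.normalCore.Normal := Subgroup.normalCore_normal M
  refine aux hG M hM M.normalCore (Subgroup.normalCore_le M) ?_ ?_
  · intro K hK hKM
    exact Subgroup.normal_le_normalCore.2 hKM
  · intro x g
    have : g * x ^ M.index * g⁻¹ = (g * x * g⁻¹) ^ M.index := by
      rw [conj_pow]
    rw [this]
    exact hexp _

end Cfsg.Agent.S4261
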