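import Cfsg.Statements.S4263
import Cfsg.Agent.Lib.Helper3.Fitting
import Cfsg.Agent.Lib.Helper3.NilpotentPow

set_option autoImplicit false
open Cfsg

namespace Cfsg.Agent.S4263

open Cfsg.Agent.Lib.Helper3

theorem result {G : Type*} [Group G] [Finite G] (x : G) :
    x ∈ Cfsg.fittingSubgroup G ↔ ∀ H : Subgroup G, x ^ H.index ∈ H := by
  constructor
  · intro hx H
    haveI := fittingSubgroup_normal G
    exact pow_index_mem_of_mem_normal_nilpotent (Cfsg.fittingSubgroup G)
      (fittingSubgroup_isNilpotent G) H x hx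
  · intro h
    apply mem_of_pParts_mem
    intro p hp
    haveI : Fact p.Prime := ⟨hp⟩
    apply pCore_le_fittingSubgroup p
    rw [Cfsg.Agent.Lib.Helper1.pCore_eq_iInf_sylow, Subgroup.mem_iInf]
    intro P
    apply mem_of_pow_mem_of_coprime (P : Subgroup G) _ (P : Subgroup G).index
    · rw [orderOf_pPart]
      apply Nat.Coprime.pow_right
      rw [Nat.coprime_comm, Nat.Prime.coprime_iff_not_dvd hp]
      exact P.not_dvd_index
    · unfold pPart
      rw [← pow_mul, mul_comm, pow_mul]
      exact Subgroup.pow_mem _ (h _) _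

end Cfsg.Agent.S4263
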