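import Cfsg.Statements.S4275

set_option autoImplicit false
open Cfsg

namespace Cfsg.Agent.S4275

theorem result {Ω : Type*} [Fintype Ω] (G : Subgroup (Equiv.Perm Ω)) (htr : MulAction.IsPretransitive G Ω) (o : Ω) (α : G ≃* G) : (∃ σ : Equiv.Perm Ω, σ ∈ Subgroup.normalizer (G : Set (Equiv.Perm Ω)) ∧ ∀ g : G, ((α g : G) : Equiv.Perm Ω) = σ * (g : Equiv.Perm Ω) * σ⁻¹) ↔ ∃ ω : Ω, ∀ g ∈ (MulAction.stabilizer G o).map α.toMonoidHom, g • ω = ω := by
  constructor
  · rintro ⟨σ, -, hσ⟩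
    refine ⟨σ o, ?_⟩
    rintro g ⟨h, hh, rfl⟩
    have hho : (h : Equiv.Perm Ω) o = o := hh
    change ((α h : G) : Equiv.Perm Ω) (σ o) = σ o
    rw [hσ h]
    simp [hho]
  · rintro ⟨ω, hω⟩
    -- key lemma
    have key : ∀ g g' : G, g • o = g' • o → (α g) • ω = (α g') • ω := by
      intro g g' h
      have hmem : g'⁻¹ * g ∈ MulAction.stabilizer G o := by
        rw [MulAction.mem_stabilizer_iff, mul_smul, h, inv_smul_smul]
      have := hω (α (g'⁻¹ * g)) ⟨_, hmem, rfl⟩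
      rw [map_mul, map_inv, mul_smul, inv_smul_eq_iff] at this
      exact this
    choose c hc using fun x : Ω => htr.exists_smul_eq o x
    let σ₀ : Ω → Ω := fun x => (α (c x)) • ω
    have hσ₀ : ∀ g : G, σ₀ (g • o) = (α g) • ω := by
      intro g
      exact key _ _ (hc (g • o))
    have hsurj : Function.Surjective σ₀ := by
      intro y
      obtain ⟨h, hh⟩ := htr.exists_smul_eq ω y
      refine ⟨(α.symm h) • o, ?_⟩
      rw [hσ₀, MulEquiv.apply_symm_apply, hh]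
    have hbij : Function.Bijective σ₀ := ⟨Finite.injective_iff_surjective.2 hsurj, hsurj⟩
    let σ : Equiv.Perm Ω := Equiv.ofBijective σ₀ hbij
    have hσg : ∀ (g : G) (x : Ω), σ (g • x) = (α g) • σ x := by
      intro g x
      obtain ⟨k, rfl⟩ := htr.exists_smul_eq o x
      change σ₀ (g • k • o) = (α g) • σ₀ (k • o)
      rw [← mul_smul, hσ₀, hσ₀, map_mul, mul_smul]
    have hconj : ∀ g : G, ((α g : G) : Equiv.Perm Ω) = σ * (g : Equiv.Perm Ω) * σ⁻¹ := by
      intro g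
      ext y
      have := hσg g (σ⁻¹ y)
      simp only [Equiv.Perm.coe_mul, Function.comp_apply]
      change σ ((g : Equiv.Perm Ω) (σ⁻¹ y)) = ((α g : G) : Equiv.Perm Ω) (σ (σ⁻¹ y)) at this
      rw [this]
      simp
    refine ⟨σ, ?_, hconj⟩
    rw [Subgroup.mem_set_normalizer_iff]
    intro n
    constructor
    · intro hn
      have := hconj ⟨n, hn⟩
      change σ * n * σ⁻¹ ∈ G
      rw [← this]
      exact (α ⟨n, hn⟩).2
    · intro hn
      have hn' : σ * n * σ⁻¹ ∈ G := hn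
      have h1 := hconj (α.symm ⟨σ * n * σ⁻¹, hn'⟩)
      rw [MulEquiv.apply_symm_apply] at h1
      have h2 : n = ((α.symm ⟨σ * n * σ⁻¹, hn'⟩ : G) : Equiv.Perm Ω) := by
        have h3 : σ * n * σ⁻¹ = σ * ((α.symm ⟨σ * n * σ⁻¹, hn'⟩ : G) : Equiv.Perm Ω) * σ⁻¹ := h1
        exact mul_left_cancel (mul_right_cancel h3)
      change n ∈ G
      rw [h2]
      exact (α.symm ⟨σ * n * σ⁻¹, hn'⟩).2

end Cfsg.Agent.S4275
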