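import Cfsg.Statements.S4276
import Cfsg.Agent.Lib.Helper7.DT2

set_option autoImplicit false
open Cfsg

namespace Cfsg.Agent.S4276

/-- Let G be a doubly transitive group of permutations of a finite set Ω of size n, let o ∈ Ω, and let α be an automorphism of G of odd order. Suppose that the image under α of the stabilizer of o has an orbit on Ω whose length k is coprime to n. Then α is induced by conjugation by a permutation of Ω normalizing G, and k = 1 or k = n − 1. -/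
theorem result {Ω : Type*} [Fintype Ω] (G : Subgroup (Equiv.Perm Ω)) (h2 : MulAction.IsMultiplyPretransitive G Ω 2) (o : Ω) (α : MulAut G) (hα : Odd (orderOf α)) (ω : Ω) (hk : (Nat.card (MulAction.orbit ((MulAction.stabilizer G o).map α.toMonoidHom) ω)).Coprime (Fintype.card Ω)) : (∃ σ : Equiv.Perm Ω, σ ∈ Subgroup.normalizer (G : Set (Equiv.Perm Ω)) ∧ ∀ g : G, ((α g : G) : Equiv.Perm Ω) = σ * (g : Equiv.Perm Ω) * σ⁻¹) ∧ (Nat.card (MulAction.orbit ((MulAction.stabilizer G o).map α.toMonoidHom) ω) = 1 ∨ Nat.card (MulAction.orbit ((MulAction.stabilizer G o).map α.toMonoidHom) ω) = Fintype.card Ω - 1) := by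
  classical
  obtain ⟨K, hK⟩ : ∃ K : Subgroup G, K = (MulAction.stabilizer G o).map α.toMonoidHom := ⟨_, rfl⟩
  rw [← hK] at hk ⊢
  obtain ⟨Δ, hΔdef⟩ : ∃ Δ : Finset Ω,
      Δ = Finset.univ.filter (fun x => x ∈ MulAction.orbit K ω) := ⟨_, rfl⟩
  have hmemΔ : ∀ x, x ∈ Δ ↔ x ∈ MulAction.orbit K ω := by
    intro x
    rw [hΔdef]
    simp
  have hcard : Nat.card (MulAction.orbit K ω) = Δ.card := by
    rw [Nat.card_coe_set_eq, ← Set.ncard_coe_finset]
    congr 1
    ext x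
    exact (hmemΔ x).symm
  rw [hcard] at hk ⊢
  have hΔ : ∀ h : G, h • o = o → ∀ δ ∈ Δ, α h • δ ∈ Δ := by
    intro h hh δ hδ
    rw [hmemΔ] at hδ ⊢
    obtain ⟨κ, hκ⟩ := hδ
    have hκ' : κ • ω = δ := hκ
    have hαh : α h ∈ K := by
      rw [hK]
      exact Subgroup.mem_map_of_mem α.toMonoidHom (MulAction.mem_stabilizer_iff.mpr hh)
    refine ⟨⟨α h, hαh⟩ * κ, ?_⟩
    show (⟨α h, hαh⟩ * κ) • ω = α h • δ
    rw [mul_smul, hκ']
    rfl
  have hcore := Cfsg.Agent.Lib.Helper7.DT.core h2 o α hα Δ hΔ hk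
  refine ⟨?_, hcore⟩
  obtain ⟨ω1, hω1⟩ := Cfsg.Agent.Lib.Helper7.DT.fixed_point h2 o α hα Δ hΔ hk
  have : MulAction.IsPretransitive G Ω := MulAction.isPretransitive_of_is_two_pretransitive
  obtain ⟨σ, hσ⟩ := Cfsg.Agent.Lib.Helper7.DT.exists_perm o α ω1 hω1
  have hconj : ∀ g : G, ((α g : G) : Equiv.Perm Ω) = σ * (g : Equiv.Perm Ω) * σ⁻¹ := by
    intro g
    ext x
    have h1 := hσ g (σ⁻¹ x)
    have h4 : σ (σ⁻¹ x) = x := Equiv.apply_symm_apply σ x
    rw [h4] at h1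
    simp only [Equiv.Perm.coe_mul, Function.comp_apply]
    exact h1.symm
  refine ⟨σ, ?_, hconj⟩
  rw [Subgroup.mem_normalizer_iff]
  intro h
  constructor
  · intro hh
    have h1 := hconj ⟨h, hh⟩
    rw [← h1]
    exact (α ⟨h, hh⟩).2
  · intro hh
    have h1 := hconj (α.symm ⟨σ * h * σ⁻¹, hh⟩)
    rw [MulEquiv.apply_symm_apply] at h1
    have h3 : h = ((α.symm ⟨σ * h * σ⁻¹, hh⟩ : G) : Equiv.Perm Ω) :=
      mul_left_cancel (mul_right_cancel h1)
    rw [h3]
    exact (α.symm ⟨σ * h * σ⁻¹, hh⟩).2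

end Cfsg.Agent.S4276
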