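-- Statement S4277: Schreier conjecture for a simple group with a subgroup of prime index.
-- Proof: Burnside's prime-degree theorem (S0675) + S4290 (odd-order automorphisms of a doubly transitive
-- group with Hall point stabilizer are permutational) + Frattini argument in the normalizer in Sym(p).
import Cfsg.Statements.S4277
import Cfsg.Agent.Lib.Helper2.Sch3
import Cfsg.Agent.S4290

set_option autoImplicit false
open Cfsg

namespace Cfsg.Agent.S4277

/-- A case of the Schreier conjecture: if a finite simple group G has a subgroup of prime index, then the outer automorphism group of G is solvable. -/
theorem result {G : Type*} [Group G] [Finite G] [IsSimpleGroup G] (H : Subgroup G) (hH : H.index.Prime) : Group.IsSolvable (Cfsg.Out G) := by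
  exact Cfsg.Agent.Lib.Helper2.Sch.out_solvable
    (fun G h2 o hHall α hα => Cfsg.Agent.S4290.result G h2 o hHall α hα) H hH

end Cfsg.Agent.S4277
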