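import Cfsg.Statements.S4278
import Cfsg.Agent.Lib.Helper5.G2InvZ

set_option autoImplicit false
open Cfsg

namespace Cfsg.Agent.S4278

/-- In the Chevalley group of type G₂ over a finite field of odd order, any two involutions are conjugate. -/
theorem result {F : Type*} [Field F] [Fintype F] (hF : Odd (Fintype.card F)) (s t : ↥(Cfsg.Lie.chevG2.group F)) (hs : orderOf s = 2) (ht : orderOf t = 2) : IsConj s t := by
  have key : ∀ x : ↥(Cfsg.Lie.chevG2.group F), orderOf x = 2 →
      (x : GL Cfsg.Lie.chevG2.Idx F) * x = 1 ∧ (x : GL Cfsg.Lie.chevG2.Idx F) ≠ 1 := by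
    intro x hx
    constructor
    · have h2 : x ^ 2 = 1 := by rw [← hx]; exact pow_orderOf_eq_one x
      have := congrArg Subtype.val h2
      simpa [pow_two] using this
    · intro h1
      have : x = 1 := Subtype.ext h1
      rw [this, orderOf_one] at hx
      norm_num at hx
  obtain ⟨g, hg, e⟩ := Cfsg.Agent.Lib.Helper5.G2InvZ.invol_conj hF s.1 t.1 s.2 t.2
    (key s hs).1 (key s hs).2 (key t ht).1 (key t ht).2
  rw [isConj_iff]
  exact ⟨⟨g, hg⟩, Subtype.ext e⟩

end Cfsg.Agent.S4278
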