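import Cfsg.Statements.S4279
import Cfsg.Agent.S4278
import Cfsg.Agent.Lib.Helper7.G2CentB
import Cfsg.Agent.Lib.Helper7.G2CentU
import Cfsg.Agent.Lib.Helper9.G2LevF
import Cfsg.Agent.Lib.Helper4.SLCard

set_option autoImplicit false
open Cfsg

namespace Cfsg.Agent.S4279

/-- In the Chevalley group G of type G₂ over a finite field F of odd order q, the centralizer of an involution t has order q²(q² − 1)² and contains two elementwise commuting subgroups, each isomorphic to SL(2, F), which meet exactly in the subgroup generated by t and whose join has index 2 in the centralizer. -/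
theorem result {F : Type*} [Field F] [Fintype F] (hF : Odd (Fintype.card F)) (t : ↥(Cfsg.Lie.chevG2.group F)) (ht : orderOf t = 2) : Nat.card (Subgroup.centralizer ({t} : Set ↥(Cfsg.Lie.chevG2.group F))) = Fintype.card F ^ 2 * (Fintype.card F ^ 2 - 1) ^ 2 ∧ ∃ L₁ L₂ : Subgroup ↥(Cfsg.Lie.chevG2.group F), Nonempty (L₁ ≃* Matrix.SpecialLinearGroup (Fin 2) F) ∧ Nonempty (L₂ ≃* Matrix.SpecialLinearGroup (Fin 2) F) ∧ (∀ x ∈ L₁, ∀ y ∈ L₂, x * y = y * x) ∧ L₁ ⊓ L₂ = Subgroup.zpowers t ∧ L₁ ⊔ L₂ ≤ Subgroup.centralizer ({t} : Set ↥(Cfsg.Lie.chevG2.group F)) ∧ (L₁ ⊔ L₂).relIndex (Subgroup.centralizer ({t} : Set ↥(Cfsg.Lie.chevG2.group F))) = 2 := by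
  have ht0 : orderOf (⟨Cfsg.Agent.Lib.Helper7.G2Cent.t0 F, Cfsg.Agent.Lib.Helper7.G2Cent.t0_mem_group⟩ :
      ↥(Cfsg.Lie.chevG2.group F)) = 2 := by
    apply Cfsg.Agent.Lib.Helper7.G2CentT.orderOf_eq_two_of
    · apply Subtype.ext
      exact Cfsg.Agent.Lib.Helper7.G2Cent.t0_sq
    · intro h
      exact Cfsg.Agent.Lib.Helper7.G2Cent.t0_ne_one hF (congrArg Subtype.val h)
  obtain ⟨L₁, L₂, ⟨e₁⟩, ⟨e₂⟩, hcomm, hinf, hle⟩ :=
    Cfsg.Agent.Lib.Helper9.G2Lev.exists_levi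
      (⟨Cfsg.Agent.Lib.Helper7.G2Cent.t0 F, Cfsg.Agent.Lib.Helper7.G2Cent.t0_mem_group⟩ :
        ↥(Cfsg.Lie.chevG2.group F)) Cfsg.Agent.Lib.Helper7.G2Cent.t0_eq_hGL
  have hq : 1 < Fintype.card F := Fintype.one_lt_card
  have hS : Nat.card (Matrix.SpecialLinearGroup (Fin 2) F) * Nat.card (Matrix.SpecialLinearGroup (Fin 2) F)
      = Fintype.card F ^ 2 * (Fintype.card F ^ 2 - 1) ^ 2 := by
    rw [Cfsg.Agent.Lib.Helper4.card_SL2]
    ring
  have hN0 : Fintype.card F ^ 2 * (Fintype.card F ^ 2 - 1) ^ 2 ≠ 0 := by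
    have h1 : 0 < Fintype.card F ^ 2 := by positivity
    have h2 : 1 < Fintype.card F ^ 2 := by nlinarith
    have h3 : 0 < Fintype.card F ^ 2 - 1 := by omega
    positivity
  have h0 := Cfsg.Agent.Lib.Helper7.G2CentT.shape_of_parts _ _ L₁ L₂ e₁ e₂ hcomm hinf ht0 hle
    (Cfsg.Agent.Lib.Helper7.G2Cent.card_centralizer hF) hS hN0
  exact h0.of_isConj (Cfsg.Agent.S4278.result hF _ t ht0 ht)

end Cfsg.Agent.S4279
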