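import Cfsg.Statements.S4282
import Cfsg.Agent.Lib.Helper3.HHB1
import Cfsg.Agent.Lib.Helper3.HHB3
import Cfsg.Agent.Lib.Helper3.HHB4
import Cfsg.Agent.Lib.Helper3.HHB5
import Cfsg.Agent.Lib.Helper3.HHB6
import Cfsg.Agent.Lib.Helper3.HHB7

set_option autoImplicit false
open Cfsg

namespace Cfsg.Agent.S4282

/-- A critical case behind the Hall–Higman theorem. Let p ≠ q be primes and G a finite group generated by a normal q-subgroup Q and a cyclic p-subgroup generated by x, such that the centralizer of every non-identity element of that cyclic subgroup is its product with the centre of G. Let K be an algebraically closed field of characteristic p and ρ a faithful representation of G on a nonzero finite-dimensional K-space whose restriction to Q is irreducible. If s is the least exponent with (ρ(x) − 1)^s = 0, then |⟨x⟩| − 1 ≤ s ≤ |⟨x⟩|; and if s = |⟨x⟩| − 1 then |⟨x⟩| − 1 is a power of q and Q is non-abelian. -/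
theorem result {G : Type*} [Group G] [Finite G] (p q : ℕ) [Fact p.Prime] [Fact q.Prime] (hpq : p ≠ q) (Q : Subgroup G) [Q.Normal] (hQ : IsPGroup q Q) (x : G) (hx : IsPGroup p (Subgroup.zpowers x)) (hgen : Q ⊔ Subgroup.zpowers x = ⊤) (hC : ∀ y ∈ Subgroup.zpowers x, y ≠ 1 → Subgroup.centralizer ({y} : Set G) = Subgroup.zpowers x ⊔ Subgroup.center G) {K : Type*} [Field K] [IsAlgClosed K] [CharP K p] {V : Type*} [AddCommGroup V] [Module K V] [FiniteDimensional K V] [Nontrivial V] (ρ : Representation K G V) (hfaith : Function.Injective ρ) (hirr : ∀ W : Submodule K V, (∀ g ∈ Q, Submodule.map (ρ g) W ≤ W) → W = ⊥ ∨ W = ⊤) (s : ℕ) (hs : (ρ x - 1) ^ s = 0) (hmin : ∀ k < s, (ρ x - 1) ^ k ≠ 0) : Nat.card (Subgroup.zpowers x) - 1 ≤ s ∧ s ≤ Nat.card (Subgroup.zpowers x) ∧ (s = Nat.card (Subgroup.zpowers x) - 1 → (∃ b : ℕ, Nat.card (Subgroup.zpowers x) - 1 = q ^ b) ∧ ¬ IsMulCommutative Q) := by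
  classical
  have hp : p.Prime := Fact.out
  have hq : q.Prime := Fact.out
  rw [Nat.card_zpowers]
  obtain ⟨k, hk⟩ := hx ⟨x, Subgroup.mem_zpowers x⟩
  have hxk : x ^ (p ^ k) = 1 := by
    have := congrArg Subtype.val hk
    simpa using this
  obtain ⟨n, -, hPn⟩ := (Nat.dvd_prime_pow hp).mp (orderOf_dvd_of_pow_eq_one hxk)
  have hP0 : 0 < orderOf x := orderOf_pos x
  have hXX' : ρ x * ρ x⁻¹ = 1 := by rw [← map_mul, mul_inv_cancel, map_one]
  have hX'X : ρ x⁻¹ * ρ x = 1 := by rw [← map_mul, inv_mul_cancel, map_one]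
  have h10 : (1 : Module.End K V) ≠ 0 := by
    intro h
    obtain ⟨w, hw⟩ := exists_ne (0 : V)
    apply hw
    have := congrArg (fun A : Module.End K V => A w) h
    simpa using this
  have hs0 : s ≠ 0 := by
    rintro rfl
    rw [pow_zero] at hs
    exact h10 hs
  have huP : (ρ x - 1) ^ orderOf x = 0 := by
    rw [hPn, Cfsg.Agent.Lib.Helper3.HHB3.alg_sub_one_pow (K := K) p n (ρ x), ← map_pow, ← hPn,
      pow_orderOf_eq_one, map_one, sub_self]
  have hsP : s ≤ orderOf x := by
    by_contra h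
    push Not at h
    exact hmin _ h huP
  have hx1 : ρ x - 1 = 0 → x = 1 := by
    intro h0
    apply hfaith
    rw [map_one]
    exact sub_eq_zero.mp h0
  have hucomm : (ρ x - 1) * ρ x = ρ x * (ρ x - 1) := by
    rw [sub_mul, mul_sub, one_mul, mul_one]
  have hdecomp := Cfsg.Agent.Lib.Helper3.HHB4.key_decomp p q hpq Q hQ x hx hC ρ hirr
  have hN : s < orderOf x → ∀ T' : Module.End K V, ∃ Z' : Module.End K V,
      ∑ i ∈ Finset.range (orderOf x),
        ((LinearMap.mulLeft K (ρ x) * LinearMap.mulRight K (ρ x⁻¹)) ^ i) T'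
        = (ρ x - 1) ^ (orderOf x - s) * Z' := by
    intro hlt T'
    have hlt' : s < p ^ n := by rw [← hPn]; exact hlt
    have := Cfsg.Agent.Lib.Helper3.HHB7.norm_left_div (K := K) p n (ρ x) (ρ x⁻¹) hXX' hX'X s hs
      hlt' T'
    rw [← hPn] at this
    exact this
  have hs1 : 1 ≤ s := Nat.pos_of_ne_zero hs0
  have hPart1 : orderOf x - 1 ≤ s := by
    by_contra hlt
    push Not at hlt
    have hlt' : s < orderOf x := by omega
    obtain ⟨lam, T', hT'⟩ := hdecomp (ρ x - 1) hucomm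
    obtain ⟨Z', hZ'⟩ := hN hlt' T'
    rw [hZ'] at hT'
    have hlam : lam = 0 :=
      Cfsg.Agent.Lib.Helper3.HHB7.no_decomp (ρ x - 1) Z' lam s (orderOf x - s) hs1 hs
        (hmin (s - 1) (by omega)) (by omega) hT'
    rw [hlam, zero_smul, zero_add] at hT'
    rcases Nat.lt_or_ge s 2 with h2 | h2
    · have hs_one : s = 1 := by omega
      have hu0 : ρ x - 1 = 0 := by
        rw [hs_one, pow_one] at hs
        exact hs
      have hx1' := hx1 hu0
      rw [hx1', orderOf_one] at hlt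
      omega
    · exact Cfsg.Agent.Lib.Helper3.HHB7.no_decomp2 (ρ x - 1) Z' s (orderOf x - s) h2 hs
        (hmin (s - 1) (by omega)) (by omega) hT'
  refine ⟨hPart1, hsP, ?_⟩
  intro hsP1
  have hlt' : s < orderOf x := by omega
  have hPs : orderOf x - s = 1 := by omega
  have hcomm : ∀ S : Module.End K V, S * (ρ x - 1) = (ρ x - 1) * S →
      ∃ (lam : K) (Z : Module.End K V), S = lam • (1 : Module.End K V) + (ρ x - 1) * Z := by
    intro S hS
    have hS' : S * ρ x = ρ x * S := by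
      have h1 : S * (ρ x - 1) + S = (ρ x - 1) * S + S := by rw [hS]
      rw [mul_sub, sub_mul, mul_one, one_mul, sub_add_cancel, sub_add_cancel] at h1
      exact h1
    obtain ⟨lam, T', hT'⟩ := hdecomp S hS'
    obtain ⟨Z', hZ'⟩ := hN hlt' T'
    rw [hPs, pow_one] at hZ'
    exact ⟨lam, Z', by rw [← hZ']; exact hT'⟩
  obtain ⟨t, ht⟩ : ∃ t, s = t + 1 := ⟨s - 1, by omega⟩
  have hfin : Module.finrank K V = s := by
    rw [ht]
    exact Cfsg.Agent.Lib.Helper3.HHB5.finrank_eq_of_commutant (ρ x - 1) t (by rw [← ht]; exact hs)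
      (hmin t (by omega)) hcomm
  have hirrσ : ∀ W : Submodule K V,
      (∀ h : Q, Submodule.map ((ρ.comp Q.subtype : Representation K Q V) h) W ≤ W) →
        W = ⊥ ∨ W = ⊤ :=
    fun W hW => hirr W (fun g hg => hW ⟨g, hg⟩)
  obtain ⟨b, hb⟩ := Cfsg.Agent.Lib.Helper3.HHB6.finrank_prime_pow q
    (ρ.comp Q.subtype : Representation K Q V) hQ hirrσ
  refine ⟨⟨b, by rw [← hsP1, ← hfin, hb]⟩, ?_⟩
  intro hcommQ
  have hsc : ∀ h : Q, ∃ μ : K,
      (ρ.comp Q.subtype : Representation K Q V) h = μ • (1 : Module.End K V) := by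
    intro h
    refine Cfsg.Agent.Lib.Helper3.HHB1.schur_scalar (ρ.comp Q.subtype : Representation K Q V)
      hirrσ _ (fun h' => ?_)
    rw [← map_mul, ← map_mul, hcommQ.is_comm.comm h h']
  have h1 := Cfsg.Agent.Lib.Helper3.HHB6.finrank_eq_one_of_scalar
    (ρ.comp Q.subtype : Representation K Q V) hirrσ hsc
  have hs_one : s = 1 := by rw [← hfin, h1]
  have hu0 : ρ x - 1 = 0 := by
    rw [hs_one, pow_one] at hs
    exact hs
  have hx1' := hx1 hu0
  rw [hx1', orderOf_one] at hsP1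
  omega

end Cfsg.Agent.S4282
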