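import Cfsg.Statements.S4283
import Mathlib
import Cfsg.Agent.Lib.Helper1.FrobeniusCount
import Cfsg.Agent.Lib.Helper1.FrobeniusInvol
import Cfsg.Agent.Lib.Lead.ConjCount

set_option autoImplicit false
open Cfsg

namespace Cfsg.Agent.S4283

open scoped Pointwise

theorem index_centralizer_conj {G : Type*} [Group G] [Finite G] (t g : G) :
    (Subgroup.centralizer ({g * t * g⁻¹} : Set G)).index =
      (Subgroup.centralizer ({t} : Set G)).index := by
  have h1 := (Subgroup.centralizer ({g * t * g⁻¹} : Set G)).card_mul_index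
  have h2 := (Subgroup.centralizer ({t} : Set G)).card_mul_index
  rw [Cfsg.Agent.Lib.Lead.card_centralizer_conj] at h1
  have hpos : 0 < Nat.card (Subgroup.centralizer ({t} : Set G)) := Nat.card_pos
  exact Nat.eq_of_mul_eq_mul_left hpos (by rw [h1, h2])

theorem mem_of_mk_mem_map {G : Type*} [Group G] (Z K : Subgroup G) [Z.Normal] (hZK : Z ≤ K) {x : G}
    (hx : (QuotientGroup.mk' Z) x ∈ K.map (QuotientGroup.mk' Z)) : x ∈ K := by
  obtain ⟨k, hk, hkx⟩ := hx
  have h1 : k⁻¹ * x ∈ Z := by
    have := (QuotientGroup.eq (s := Z)).1 hkx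
    exact this
  have : x = k * (k⁻¹ * x) := by group
  rw [this]
  exact K.mul_mem hk (hZK h1)

/-- Let G be a finite group with centre Z and let K, H be abelian subgroups of G containing Z such that G/Z is a Frobenius group with complement H/Z and kernel K/Z. Then the conjugacy class sizes of G are exactly 1, [G : K] and [G : H], and these two indices are coprime. (This is the converse half of the characterization of finite groups whose conjugacy class sizes are exactly 1, m and n with m and n coprime.) -/
theorem result {G : Type*} [Group G] [Finite G] (K H : Subgroup G) (hZK : Subgroup.center G ≤ K) (hZH : Subgroup.center G ≤ H) (hK : IsMulCommutative K) (hH : IsMulCommutative H) (hFrob : Cfsg.IsFrobeniusComplement (H.map (QuotientGroup.mk' (Subgroup.center G)))) (hker : Cfsg.frobeniusKernel (H.map (QuotientGroup.mk' (Subgroup.center G))) = (K.map (QuotientGroup.mk' (Subgroup.center G)) : Set (G ⧸ Subgroup.center G))) : Set.range (fun x : G => (Subgroup.centralizer ({x} : Set G)).index) = ({1, K.index, H.index} : Set ℕ) ∧ K.index.Coprime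 H.index := by
  classical
  set Z := Subgroup.center G with hZ
  set π := QuotientGroup.mk' Z with hπ
  set Hb := H.map π with hHb
  set Kb := K.map π with hKb
  have hπ1 : ∀ x : G, π x = 1 ↔ x ∈ Z := fun x => QuotientGroup.eq_one_iff x
  have hcK : ∀ a ∈ K, ∀ b ∈ K, a * b = b * a := by
    intro a ha b hb
    have := hK.is_comm.comm ⟨a, ha⟩ ⟨b, hb⟩
    exact congrArg Subtype.val this
  have hcH : ∀ a ∈ H, ∀ b ∈ H, a * b = b * a := by
    intro a ha b hb
    have := hH.is_comm.comm ⟨a, ha⟩ ⟨b, hb⟩
    exact congrArg Subtype.val this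
  -- centralizers of noncentral elements of `H`
  have hCH : ∀ y ∈ H, y ∉ Z → Subgroup.centralizer ({y} : Set G) = H := by
    intro y hy hyZ
    apply le_antisymm
    · intro g hg
      rw [Subgroup.mem_centralizer_singleton_iff] at hg
      apply mem_of_mk_mem_map Z H hZH
      have hy1 : π y ≠ 1 := fun h => hyZ ((hπ1 y).1 h)
      have hyH : π y ∈ Hb := ⟨y, hy, rfl⟩
      apply Cfsg.Agent.Lib.Helper1.frobenius_mem_of_conj_mem' hFrob hyH hy1
      have : π g * π y * (π g)⁻¹ = π y := by
        rw [← map_mul, hg, map_mul, mul_inv_cancel_right]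
      rw [this]
      exact hyH
    · intro g hg
      rw [Subgroup.mem_centralizer_singleton_iff]
      exact hcH g hg y hy
  -- centralizers of noncentral elements of `K`
  have hCK : ∀ x ∈ K, x ∉ Z → Subgroup.centralizer ({x} : Set G) = K := by
    intro x hx hxZ
    apply le_antisymm
    · intro g hg
      rw [Subgroup.mem_centralizer_singleton_iff] at hg
      apply mem_of_mk_mem_map Z K hZK
      have hx1 : π x ≠ 1 := fun h => hxZ ((hπ1 x).1 h)
      have hxK : π x ∈ Cfsg.frobeniusKernel Hb := by
        rw [hker]
        exact ⟨x, hx, rfl⟩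
      have hgK : π g ∈ Cfsg.frobeniusKernel Hb := by
        by_contra hcon
        simp only [Cfsg.frobeniusKernel, Set.mem_ofPred_eq, not_or, not_forall, not_not] at hcon
        obtain ⟨hg1, a, hga⟩ := hcon
        rw [Cfsg.Agent.Lib.Helper1.mem_conj_smul_iff'] at hga
        -- `a⁻¹ (π x) a` commutes with `a⁻¹ (π g) a ∈ Hb`
        have hne : a⁻¹ * π g * a ≠ 1 := by
          intro h
          apply hg1
          have : π g = a * (a⁻¹ * π g * a) * a⁻¹ := by group
          rw [this, h]; group
        have hmem : a⁻¹ * π x * a ∈ Hb := by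
          apply Cfsg.Agent.Lib.Helper1.frobenius_mem_of_conj_mem' hFrob hga hne
          have hcomm : π g * π x = π x * π g := by rw [← map_mul, hg, map_mul]
          have : a⁻¹ * π x * a * (a⁻¹ * π g * a) * (a⁻¹ * π x * a)⁻¹
              = a⁻¹ * (π x * π g * (π x)⁻¹) * a := by group
          rw [this, ← hcomm, mul_inv_cancel_right]
          exact hga
        rcases hxK with h | h
        · exact hx1 h
        · apply h a
          rw [Cfsg.Agent.Lib.Helper1.mem_conj_smul_iff']
          exact hmem
      rw [hker] at hgK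
      exact hgK
    · intro g hg
      rw [Subgroup.mem_centralizer_singleton_iff]
      exact hcK g hg x hx
  have hCZ : ∀ x ∈ Z, (Subgroup.centralizer ({x} : Set G)).index = 1 := by
    intro x hx
    rw [Subgroup.index_eq_one, eq_top_iff]
    intro g _
    rw [Subgroup.mem_centralizer_singleton_iff]
    exact (Subgroup.mem_center_iff.1 hx g)
  -- existence of noncentral elements
  have hexH : ∃ y ∈ H, y ∉ Z := by
    by_contra hcon
    push Not at hcon
    apply hFrob.1
    rw [Subgroup.eq_bot_iff_forall]
    rintro _ ⟨y, hy, rfl⟩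
    exact (hπ1 y).2 (hcon y hy)
  have hexK : ∃ x ∈ K, x ∉ Z := by
    by_contra hcon
    push Not at hcon
    have h1 : Nat.card (Cfsg.frobeniusKernel Hb) = Hb.index :=
      Cfsg.Agent.Lib.Helper1.card_frobeniusKernel hFrob
    have h2 : Cfsg.frobeniusKernel Hb = {1} := by
      rw [hker]
      ext z
      constructor
      · rintro ⟨x, hx, rfl⟩
        exact (hπ1 x).2 (hcon x hx)
      · intro hz
        rw [Set.mem_singleton_iff] at hz
        rw [hz]
        exact Kb.one_mem
    rw [h2] at h1
    have h3 : Hb.index = 1 := by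
      rw [← h1]
      simp
    exact hFrob.2.1 (Subgroup.index_eq_one.1 h3)
  refine ⟨?_, ?_⟩
  · ext m
    simp only [Set.mem_range, Set.mem_insert_iff, Set.mem_singleton_iff]
    constructor
    · rintro ⟨x, rfl⟩
      by_cases hxZ : x ∈ Z
      · left; exact hCZ x hxZ
      by_cases hxK : x ∈ K
      · right; left
        rw [hCK x hxK hxZ]
      · right; right
        have hxk : π x ∉ Cfsg.frobeniusKernel Hb := by
          rw [hker]
          intro h
          exact hxK (mem_of_mk_mem_map Z K hZK h)
        simp only [Cfsg.frobeniusKernel, Set.mem_ofPred_eq, not_or, not_forall, not_not] at hxk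
        obtain ⟨hx1, a, hxa⟩ := hxk
        obtain ⟨a0, rfl⟩ := QuotientGroup.mk'_surjective Z a
        rw [Cfsg.Agent.Lib.Helper1.mem_conj_smul_iff'] at hxa
        have hy : a0⁻¹ * x * a0 ∈ H := by
          apply mem_of_mk_mem_map Z H hZH
          have : π (a0⁻¹ * x * a0) = (π a0)⁻¹ * π x * π a0 := by
            rw [map_mul, map_mul, map_inv]
          rw [this]
          exact hxa
        have hyZ : a0⁻¹ * x * a0 ∉ Z := by
          intro h
          apply hxZ
          have h2 := Subgroup.Normal.conj_mem (inferInstance : Z.Normal) _ h a0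
          have : a0 * (a0⁻¹ * x * a0) * a0⁻¹ = x := by group
          rwa [this] at h2
        have h3 := index_centralizer_conj (a0⁻¹ * x * a0) a0
        have : a0 * (a0⁻¹ * x * a0) * a0⁻¹ = x := by group
        rw [this, hCH _ hy hyZ] at h3
        exact h3
    · rintro (rfl | rfl | rfl)
      · exact ⟨1, hCZ 1 Z.one_mem⟩
      · obtain ⟨x, hx, hxZ⟩ := hexK
        exact ⟨x, by rw [hCK x hx hxZ]⟩
      · obtain ⟨y, hy, hyZ⟩ := hexH
        exact ⟨y, by rw [hCH y hy hyZ]⟩
  · -- coprimality
    have hKi : Kb.index = K.index := by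
      rw [hKb]
      exact Subgroup.index_map_eq K (QuotientGroup.mk'_surjective Z) (by
        rw [QuotientGroup.ker_mk']; exact hZK)
    have hHi : Hb.index = H.index := by
      rw [hHb]
      exact Subgroup.index_map_eq H (QuotientGroup.mk'_surjective Z) (by
        rw [QuotientGroup.ker_mk']; exact hZH)
    have h1 : Nat.card (Cfsg.frobeniusKernel Hb) = Hb.index :=
      Cfsg.Agent.Lib.Helper1.card_frobeniusKernel hFrob
    have h2 : Nat.card Kb = Hb.index := by
      rw [← h1, hker]
      rfl
    have h3 := Kb.card_mul_index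
    have h4 := Hb.card_mul_index
    have h5 : Kb.index = Nat.card Hb := by
      rw [h2] at h3
      have hpos : 0 < Hb.index := Nat.pos_of_ne_zero Subgroup.index_ne_zero_of_finite
      apply Nat.eq_of_mul_eq_mul_left hpos
      rw [h3, ← h4, mul_comm]
    rw [← hKi, ← hHi, h5]
    have h6 := Cfsg.Agent.Lib.Helper1.index_mod_card_of_frobenius hFrob
    -- `Hb.index ≡ 1 mod |Hb|`
    rw [Nat.Coprime, Nat.gcd_rec, h6, ← Nat.gcd_rec, Nat.gcd_one_right]

end Cfsg.Agent.S4283
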