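import Cfsg.Statements.S4284
import Cfsg.Agent.Lib.Helper1.TCSMain

set_option autoImplicit false
open Cfsg

namespace Cfsg.Agent.S4284

/-- Let G be a finite group with no nontrivial abelian direct factor whose conjugacy class sizes are exactly 1, m and m·n with m, n > 1 coprime. Then m is a prime p dividing n − 1; the elements whose class has size 1 or p form an abelian normal subgroup of index p; G has a normal p-complement; and the commutator subgroup of a Sylow p-subgroup of G has order p. -/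
theorem result {G : Type*} [Group G] [Finite G] (hnodf : ∀ A B : Subgroup G, A.Normal → B.Normal → A ⊓ B = ⊥ → A ⊔ B = ⊤ → IsMulCommutative A → A = ⊥) (m n : ℕ) (hm : 1 < m) (hn : 1 < n) (hcop : m.Coprime n) (h : Set.range (fun x : G => (Subgroup.centralizer ({x} : Set G)).index) = ({1, m, m * n} : Set ℕ)) : m.Prime ∧ m ∣ n - 1 ∧ (∃ M : Subgroup G, M.Normal ∧ (M : Set G) = {x : G | (Subgroup.centralizer ({x} : Set G)).index = 1 ∨ (Subgroup.centralizer ({x} : Set G)).index = m} ∧ M.index = m ∧ IsMulCommutative M) ∧ (∃ N : Subgroup G, N.Normal ∧ (Nat.card N).Coprime m ∧ ∃ a : ℕ, N.index = m ^ a) ∧ ∀ P : Sylow m G, Nat.card (commutator (P : Subgroup G)) = m := by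
  classical
  have hmem : ∀ g : G, Cfsg.Agent.Lib.Helper8.CSG.idx g = 1 ∨ Cfsg.Agent.Lib.Helper8.CSG.idx g = m ∨
      Cfsg.Agent.Lib.Helper8.CSG.idx g = m * n := by
    intro g
    have hg : Cfsg.Agent.Lib.Helper8.CSG.idx g ∈
        Set.range (fun x : G => (Subgroup.centralizer ({x} : Set G)).index) := ⟨g, rfl⟩
    rw [h] at hg
    simpa using hg
  have hex : ∀ k ∈ ({1, m, m * n} : Set ℕ), ∃ g : G, Cfsg.Agent.Lib.Helper8.CSG.idx g = k := by
    intro k hk
    rw [← h] at hk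
    obtain ⟨g, hg⟩ := hk
    exact ⟨g, hg⟩
  have H : Cfsg.Agent.Lib.Helper1.TCS.H3 G m n :=
    ⟨hm, hn, hcop, hmem, hex m (by simp), hex (m * n) (by simp)⟩
  obtain ⟨h1, h2, ⟨M, hMn, hMmem, hMi, hMc⟩, hN, hP⟩ := Cfsg.Agent.Lib.Helper1.TCS.main hnodf H
  refine ⟨h1, h2, ⟨M, hMn, ?_, hMi, ?_⟩, hN, hP⟩
  · ext g
    exact hMmem g
  · exact ⟨⟨fun a b => Subtype.ext (hMc a a.2 b b.2)⟩⟩

end Cfsg.Agent.S4284
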