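import Cfsg.Statements.S4293
import Mathlib
import Cfsg.Agent.Lib.Helper3.FrobConstr

set_option autoImplicit false
open Cfsg

namespace Cfsg.Agent.S4293

/-- If `∑_{k<n} u^k = 0`, `q • v = 0` and `(n, q) = 1` then `u` has no nonzero fixed vector. -/
theorem eq_zero_of_geom {S : Type*} [Ring S] {V : Type*} [AddCommGroup V] [Module S V] (u : Sˣ)
    (n q : ℕ) (hn : ∑ k ∈ Finset.range n, (u : S) ^ k = 0) (hq : ∀ v : V, q • v = 0)
    (hcop : n.Coprime q) (v : V) (hv : u • v = v) : v = 0 := by
  have hv' : (u : S) • v = v := hv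
  have hk : ∀ k : ℕ, (u : S) ^ k • v = v := by
    intro k
    induction k with
    | zero => simp
    | succ k ih => rw [pow_succ, mul_smul, hv', ih]
  have h1 : (∑ k ∈ Finset.range n, (u : S) ^ k) • v = n • v := by
    rw [Finset.sum_smul]
    simp [hk]
  rw [hn, zero_smul] at h1
  have h2 : addOrderOf v ∣ n := addOrderOf_dvd_of_nsmul_eq_zero h1.symm
  have h3 : addOrderOf v ∣ q := addOrderOf_dvd_of_nsmul_eq_zero (hq v)
  have h4 : addOrderOf v ∣ 1 := by
    have := Nat.dvd_gcd h2 h3
    rwa [hcop] at this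
  exact AddMonoid.addOrderOf_eq_one_iff.1 (Nat.dvd_one.1 h4)

section main
variable {D : Type*} [DivisionRing D] (H : Subgroup Dˣ)

/-- The `ℤ`-subalgebra generated by `H`. -/
def intSpan : Subalgebra ℤ D := Algebra.adjoin ℤ (Set.range fun h : H => ((h : Dˣ) : D))

theorem coe_mem_intSpan (h : H) : ((h : Dˣ) : D) ∈ intSpan H :=
  Algebra.subset_adjoin ⟨h, rfl⟩

theorem intSpan_fg [Finite H] : (intSpan H).toSubmodule.FG := by
  have h1 : (Submonoid.closure (Set.range fun h : H => ((h : Dˣ) : D)) : Set D) =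
      Set.range fun h : H => ((h : Dˣ) : D) := by
    have h2 : (Set.range fun h : H => ((h : Dˣ) : D)) =
        ((H.toSubmonoid.map (Units.coeHom D) : Submonoid D) : Set D) := by
      ext x
      constructor
      · rintro ⟨h, rfl⟩
        exact ⟨(h : Dˣ), h.2, rfl⟩
      · rintro ⟨u, hu, rfl⟩
        exact ⟨⟨u, hu⟩, rfl⟩
    rw [h2, Submonoid.closure_eq]
  unfold intSpan
  rw [Algebra.adjoin_eq_span, h1]
  exact Submodule.fg_span (Set.finite_range _)

/-- `H` maps into the units of `intSpan H`. -/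
def toIntSpan : H →* (intSpan H) where
  toFun h := ⟨((h : Dˣ) : D), coe_mem_intSpan H h⟩
  map_one' := by
    apply Subtype.ext
    simp
  map_mul' a b := by
    apply Subtype.ext
    simp

theorem geom_sum_eq_zero (h : H) (hh : h ≠ 1) [Finite H] :
    ∑ k ∈ Finset.range (orderOf h), (((toIntSpan H).toHomUnits h : (intSpan H)ˣ) : intSpan H) ^ k = 0 := by
  apply Subtype.ext
  have h1 : (((toIntSpan H).toHomUnits h : (intSpan H)ˣ) : intSpan H) = toIntSpan H h := rfl
  rw [h1]
  have h2 : ((∑ k ∈ Finset.range (orderOf h), (toIntSpan H h) ^ k : intSpan H) : D) =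
      ∑ k ∈ Finset.range (orderOf h), (((h : Dˣ) : D)) ^ k := by
    rw [AddSubmonoidClass.coe_finset_sum]
    rfl
  rw [h2]
  have h3 := geom_sum_mul (((h : Dˣ) : D)) (orderOf h)
  have h4 : (((h : Dˣ) : D)) ^ orderOf h = 1 := by
    have := pow_orderOf_eq_one h
    calc (((h : Dˣ) : D)) ^ orderOf h = (((h ^ orderOf h : H) : Dˣ) : D) := by
          rw [Subgroup.coe_pow, Units.val_pow_eq_pow_val]
      _ = 1 := by rw [this]; simp
  rw [h4, sub_self] at h3
  have h6 : (((h : Dˣ) : D)) - 1 ≠ 0 := by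
    intro h0
    apply hh
    apply Subtype.ext
    apply Units.ext
    rw [sub_eq_zero] at h0
    simpa using h0
  rcases mul_eq_zero.1 h3 with h7 | h7
  · simpa using h7
  · exact absurd h7 h6

theorem exists_prime_good [Finite H] : ∃ q : ℕ, q.Prime ∧ (∀ h : H, (orderOf h).Coprime q) ∧
    (1 : intSpan H) ∉ Ideal.span {((q : ℕ) : intSpan H)} := by
  obtain ⟨p, hp⟩ := CharP.exists D
  rcases CharP.char_is_prime_or_zero D p with hpp | hp0
  · -- positive characteristic
    haveI : Fact p.Prime := ⟨hpp⟩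
    refine ⟨p, hpp, ?_, ?_⟩
    · intro h
      apply Nat.Coprime.symm
      rw [Nat.Prime.coprime_iff_not_dvd hpp]
      intro hdvd
      have hcard : p ∣ Nat.card H := dvd_trans hdvd (orderOf_dvd_natCard h)
      obtain ⟨y, hy⟩ := exists_prime_orderOf_dvd_card' p hcard
      have hy1 : (((y : Dˣ) : D)) ^ p = 1 := by
        have := pow_orderOf_eq_one y
        rw [hy] at this
        calc (((y : Dˣ) : D)) ^ p = (((y ^ p : H) : Dˣ) : D) := by
              rw [Subgroup.coe_pow, Units.val_pow_eq_pow_val]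
          _ = 1 := by rw [this]; simp
      have h2 : ((((y : Dˣ) : D)) - 1) ^ p = 0 := by
        rw [sub_pow_char_of_commute p (Commute.one_right _), hy1, one_pow, sub_self]
      have h3 : (((y : Dˣ) : D)) - 1 = 0 := pow_eq_zero_iff (hpp.ne_zero) |>.1 h2
      have h4 : y = 1 := by
        apply Subtype.ext
        apply Units.ext
        rw [sub_eq_zero] at h3
        simpa using h3
      rw [h4, orderOf_one] at hy
      exact hpp.one_lt.ne hy
    · intro h1
      obtain ⟨a, ha⟩ := Ideal.mem_span_singleton'.1 h1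
      have h2 := congrArg (fun x : intSpan H => (x : D)) ha
      simp only [MulMemClass.coe_mul, OneMemClass.coe_one] at h2
      have h3 : (((p : ℕ) : intSpan H) : D) = 0 := by
        rw [show (((p : ℕ) : intSpan H) : D) = ((p : ℕ) : D) by simp]
        exact CharP.cast_eq_zero D p
      rw [h3, mul_zero] at h2
      exact zero_ne_one h2
  · -- characteristic zero
    subst hp0
    haveI : CharZero D := CharP.charP_to_charZero D
    obtain ⟨q, hq1, hq⟩ := Nat.exists_infinite_primes (Nat.card H + 1)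
    refine ⟨q, hq, ?_, ?_⟩
    · intro h
      apply Nat.Coprime.symm
      rw [Nat.Prime.coprime_iff_not_dvd hq]
      have hle : orderOf h ≤ Nat.card H := orderOf_le_card
      exact Nat.not_dvd_of_pos_of_lt (orderOf_pos h) (by omega)
    · intro h1
      obtain ⟨a, ha⟩ := Ideal.mem_span_singleton'.1 h1
      have h2 := congrArg (fun x : intSpan H => (x : D)) ha
      simp only [MulMemClass.coe_mul, OneMemClass.coe_one] at h2
      have h3 : (((q : ℕ) : intSpan H) : D) = ((q : ℕ) : D) := by simp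
      rw [h3] at h2
      have hq0 : ((q : ℕ) : D) ≠ 0 := Nat.cast_ne_zero.2 hq.ne_zero
      have h4 : (a : D) = ((q : ℕ) : D)⁻¹ := eq_inv_of_mul_eq_one_left h2
      have h5 : IsIntegral ℤ (a : D) := IsIntegral.of_mem_of_fg (intSpan H) (intSpan_fg H) a a.2
      have h6 : (a : D) = algebraMap ℚ D ((q : ℚ)⁻¹) := by
        rw [h4, map_inv₀, map_natCast]
      rw [h6, isIntegral_algebraMap_iff (algebraMap ℚ D).injective] at h5
      obtain ⟨z, hz⟩ := IsIntegrallyClosed.isIntegral_iff.1 h5
      have hq0' : (q : ℚ) ≠ 0 := Nat.cast_ne_zero.2 hq.ne_zero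
      have h7 : (z : ℚ) * (q : ℚ) = 1 := by
        have : (algebraMap ℤ ℚ) z = (z : ℚ) := rfl
        rw [this] at hz
        rw [hz, inv_mul_cancel₀ hq0']
      have h8 : z * (q : ℤ) = 1 := by exact_mod_cast h7
      have h9 : (q : ℤ) ∣ 1 := Dvd.intro_left z h8
      have h10 : (q : ℤ) = 1 ∨ (q : ℤ) = -1 := Int.isUnit_iff.1 (isUnit_of_dvd_one h9)
      have := hq.one_lt
      omega

end main

/-- A nontrivial finite subgroup of the multiplicative group of a division ring occurs as a Frobenius complement of some finite Frobenius group. -/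
theorem result {D : Type*} [DivisionRing D] (H : Subgroup Dˣ) [Finite H] (hH : H ≠ ⊥) :
    ∃ (L : Type) (_ : Group L) (_ : Finite L) (C : Subgroup L), Cfsg.IsFrobeniusComplement C ∧ Nonempty (H ≃* C) := by
  classical
  obtain ⟨q, hq, hcop, hone⟩ := exists_prime_good H
  set S := intSpan H with hS
  set I : Ideal S := Ideal.span {((q : ℕ) : S)} with hI
  -- the module
  let V := S ⧸ I
  letI : DistribMulAction H V := DistribMulAction.compHom V (toIntSpan H).toHomUnits
  have hsmul : ∀ (h : H) (v : V), h • v = ((toIntSpan H).toHomUnits h : Sˣ) • v := fun _ _ => rfl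
  -- `q` kills `V`
  have hqV : ∀ v : V, q • v = 0 := by
    intro v
    obtain ⟨s, rfl⟩ := Submodule.Quotient.mk_surjective I v
    rw [← Submodule.Quotient.mk_smul, Submodule.Quotient.mk_eq_zero]
    rw [hI, Ideal.mem_span_singleton']
    refine ⟨s, ?_⟩
    rw [nsmul_eq_mul]
    exact (Nat.cast_commute q s).symm.eq
  haveI : Module.Finite ℤ S := Module.Finite.of_fg (intSpan_fg H)
  haveI : Module.Finite ℤ V :=
    Module.Finite.of_surjective (I.mkQ.restrictScalars ℤ) (Submodule.Quotient.mk_surjective I)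
  haveI : Finite V := by
    apply Module.finite_of_fg_torsion
    intro v
    refine ⟨⟨(q : ℤ), ?_⟩, ?_⟩
    · rw [mem_nonZeroDivisors_iff_ne_zero]
      exact_mod_cast hq.ne_zero
    · show ((q : ℤ)) • v = 0
      rw [natCast_zsmul]
      exact hqV v
  haveI : Nontrivial V := by
    refine ⟨⟨Submodule.Quotient.mk 1, 0, ?_⟩⟩
    intro h1
    rw [Submodule.Quotient.mk_eq_zero] at h1
    exact hone h1
  haveI : Nontrivial H := (Subgroup.nontrivial_iff_ne_bot H).2 hH
  have hfree : ∀ h : H, h ≠ 1 → ∀ x : V, h • x = x → x = 0 := by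
    intro h hh x hx
    rw [hsmul] at hx
    exact eq_zero_of_geom _ (orderOf h) q (geom_sum_eq_zero H h hh) hqV (hcop h) x hx
  obtain ⟨L, hG, hF, C, h1, h2, -⟩ := Cfsg.Agent.Lib.Helper3.exists_frobenius_of_distribMulAction hfree
  exact ⟨L, hG, hF, C, h1, h2⟩

end Cfsg.Agent.S4293
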