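import Cfsg.Statements.S4295
import Mathlib
import Cfsg.Agent.Lib.Helper1.FrobeniusCount
import Cfsg.Agent.Lib.Helper1.FrobeniusInvol
import Cfsg.Agent.Lib.Helper3.FrobConstr
import Cfsg.Agent.Lib.Helper3.QuatLift
import Cfsg.Agent.Lib.Helper3.QuatSquare

set_option autoImplicit false
open Cfsg

namespace Cfsg.Agent.S4295

open Cfsg.Agent.Lib.Helper1 Cfsg.Agent.Lib.Helper3

/-! ### From a Frobenius group to an odd square -/

section forward
variable {L : Type*} [Group L] [Finite L] (H : Subgroup L)

theorem q8_facts :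
    (QuaternionGroup.a 1 : QuaternionGroup 2) * QuaternionGroup.a 1 = QuaternionGroup.a 2 ∧
    (QuaternionGroup.xa 0 : QuaternionGroup 2) * QuaternionGroup.xa 0 = QuaternionGroup.a 2 ∧
    (QuaternionGroup.a 2 : QuaternionGroup 2) * QuaternionGroup.a 2 = 1 ∧
    (QuaternionGroup.a 2 : QuaternionGroup 2) ≠ 1 ∧
    (QuaternionGroup.a 1 : QuaternionGroup 2) * QuaternionGroup.xa 0 =
      QuaternionGroup.xa 0 * QuaternionGroup.a 1 * QuaternionGroup.a 2 := by
  decide

theorem forward (hF : Cfsg.IsFrobeniusComplement H) (e : H ≃* QuaternionGroup 2) :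
    Odd (Nat.card (Cfsg.frobeniusKernel H)) ∧ IsSquare (Nat.card (Cfsg.frobeniusKernel H)) ∧
      1 < Nat.card (Cfsg.frobeniusKernel H) := by
  classical
  obtain ⟨q1, q2, q3, q4, q5⟩ := q8_facts
  have hcardH : Nat.card H = 8 := by
    rw [Nat.card_congr e.toEquiv, Nat.card_eq_fintype_card, QuaternionGroup.card]
  have hker : Nat.card (Cfsg.frobeniusKernel H) = H.index := card_frobeniusKernel hF
  have hmod := index_mod_card_of_frobenius hF
  rw [hcardH] at hmod
  have hidx1 : H.index ≠ 1 := fun h => hF.2.1 (Subgroup.index_eq_one.1 h)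
  have hodd : Odd (Nat.card (Cfsg.frobeniusKernel H)) := by
    rw [hker, Nat.odd_iff]
    omega
  refine ⟨hodd, ?_, ?_⟩
  swap
  · rw [hker]
    have : H.index ≠ 0 := Subgroup.index_ne_zero_of_finite
    omega
  -- the elements
  set t : L := ((e.symm (QuaternionGroup.a 2) : H) : L) with ht_def
  set xi : L := ((e.symm (QuaternionGroup.a 1) : H) : L) with hxi_def
  set xj : L := ((e.symm (QuaternionGroup.xa 0) : H) : L) with hxj_def
  have ht : t ∈ H := (e.symm (QuaternionGroup.a 2)).2
  have ht1 : t ≠ 1 := by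
    intro h
    have h1 : e.symm (QuaternionGroup.a 2) = 1 := Subtype.ext h
    have h2 : (QuaternionGroup.a 2 : QuaternionGroup 2) = 1 := by
      have := congrArg e h1
      simpa using this
    exact q4 h2
  have ht2 : t * t = 1 := by
    have : e.symm (QuaternionGroup.a 2) * e.symm (QuaternionGroup.a 2) = 1 := by
      rw [← map_mul, q3, map_one]
    exact congrArg Subtype.val this
  have hxi2 : xi * xi = t := by
    have : e.symm (QuaternionGroup.a 1) * e.symm (QuaternionGroup.a 1)
        = e.symm (QuaternionGroup.a 2) := by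
      rw [← map_mul, q1]
    exact congrArg Subtype.val this
  have hxj2 : xj * xj = t := by
    have : e.symm (QuaternionGroup.xa 0) * e.symm (QuaternionGroup.xa 0)
        = e.symm (QuaternionGroup.a 2) := by
      rw [← map_mul, q2]
    exact congrArg Subtype.val this
  have hxij : xi * xj = xj * xi * t := by
    have : e.symm (QuaternionGroup.a 1) * e.symm (QuaternionGroup.xa 0)
        = e.symm (QuaternionGroup.xa 0) * e.symm (QuaternionGroup.a 1)
          * e.symm (QuaternionGroup.a 2) := by
      rw [← map_mul, ← map_mul, ← map_mul, q5]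
    exact congrArg Subtype.val this
  -- the kernel as a subgroup
  let N : Subgroup L :=
    { carrier := Cfsg.frobeniusKernel H
      mul_mem' := fun hk hk' => frobeniusKernel_mul_mem hF ht ht1 ht2 hk hk'
      one_mem' := Or.inl rfl
      inv_mem' := fun hk => frobeniusKernel_inv_mem hk }
  haveI hNn : N.Normal := ⟨fun n hn g => frobeniusKernel_conj_mem hn g⟩
  have hNcard : Nat.card N = Nat.card (Cfsg.frobeniusKernel H) := rfl
  letI : CommGroup N :=
    { (inferInstance : Group N) with
      mul_comm := fun x y => Subtype.ext (frobeniusKernel_commute hF ht ht1 ht2 x.2 y.2) }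
  have hinv : ∀ x : N, t * (x : L) * t⁻¹ = (x : L)⁻¹ := fun x =>
    frobeniusKernel_invol_inverts hF ht ht1 ht2 x.2
  let i : N →* N := (MulAut.conjNormal xi : N ≃* N).toMonoidHom
  let j : N →* N := (MulAut.conjNormal xj : N ≃* N).toMonoidHom
  have hi_apply : ∀ x : N, ((i x : N) : L) = xi * x * xi⁻¹ := fun x => rfl
  have hj_apply : ∀ x : N, ((j x : N) : L) = xj * x * xj⁻¹ := fun x => rfl
  have hq : QuatStr i j := by
    refine ⟨?_, ?_, ?_⟩
    · intro x
      apply Subtype.ext
      rw [hi_apply, hi_apply]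
      have : xi * (xi * (x : L) * xi⁻¹) * xi⁻¹ = (xi * xi) * x * (xi * xi)⁻¹ := by group
      rw [this, hxi2, hinv]
      rfl
    · intro x
      apply Subtype.ext
      rw [hj_apply, hj_apply]
      have : xj * (xj * (x : L) * xj⁻¹) * xj⁻¹ = (xj * xj) * x * (xj * xj)⁻¹ := by group
      rw [this, hxj2, hinv]
      rfl
    · intro x
      apply Subtype.ext
      rw [hi_apply, hj_apply]
      have h1 : (((j (i x))⁻¹ : N) : L) = (xj * (xi * (x : L) * xi⁻¹) * xj⁻¹)⁻¹ := rfl
      rw [h1]
      have : xi * (xj * (x : L) * xj⁻¹) * xi⁻¹ = (xi * xj) * x * (xi * xj)⁻¹ := by group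
      rw [this, hxij]
      have : xj * xi * t * (x : L) * (xj * xi * t)⁻¹ = (xj * xi) * (t * x * t⁻¹) * (xj * xi)⁻¹ := by
        group
      rw [this, hinv]
      group
  have := isSquare_card_of_quatStr hq (by rw [hNcard]; exact hodd)
  rwa [hNcard] at this

end forward

/-! ### From an odd square to a Frobenius group -/

section backward

/-- There is a finite `Q₈`-module of order `k²` on which the central involution acts as `-1`. -/
def HasQ8Module (k : ℕ) : Prop :=
  ∃ (V : Type) (_ : AddCommGroup V) (_ : DistribMulAction (QuaternionGroup 2) V),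
    Finite V ∧ Nat.card V = k ^ 2 ∧ ∀ v : V, (QuaternionGroup.a 2 : QuaternionGroup 2) • v = -v

theorem hasQ8Module_one : HasQ8Module 1 := by
  refine ⟨PUnit, inferInstance,
    { smul := fun _ v => v
      one_smul := fun _ => rfl
      mul_smul := fun _ _ _ => rfl
      smul_zero := fun _ => rfl
      smul_add := fun _ _ _ => rfl }, inferInstance, ?_, ?_⟩
  · simp
  · intro v
    rfl

theorem hasQ8Module_mul {a b : ℕ} (ha : HasQ8Module a) (hb : HasQ8Module b) :
    HasQ8Module (a * b) := by
  obtain ⟨V, iV, aV, fV, cV, hV⟩ := ha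
  obtain ⟨W, iW, aW, fW, cW, hW⟩ := hb
  refine ⟨V × W, inferInstance, inferInstance, inferInstance, ?_, ?_⟩
  · rw [Nat.card_prod, cV, cW, mul_pow]
  · rintro ⟨v, w⟩
    show ((QuaternionGroup.a 2 : QuaternionGroup 2) • v, (QuaternionGroup.a 2 : QuaternionGroup 2) • w)
      = -(v, w)
    rw [hV, hW]
    rfl

section prime
variable (p : ℕ) [Fact p.Prime]

/-- the matrix of `i` -/
def matA (a b : ZMod p) : Matrix (Fin 2) (Fin 2) (ZMod p) := !![a, b; b, -a]

/-- the matrix of `j` -/
def matX : Matrix (Fin 2) (Fin 2) (ZMod p) := !![0, -1; 1, 0]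

theorem matA_sq {a b : ZMod p} (hab : a ^ 2 + b ^ 2 = -1) : matA p a b * matA p a b = -1 := by
  ext i j
  fin_cases i <;> fin_cases j <;>
    simp [matA, Matrix.mul_apply, Fin.sum_univ_two] <;>
    first | linear_combination hab | ring

theorem matX_sq : matX p * matX p = -1 := by
  ext i j
  fin_cases i <;> fin_cases j <;> simp [matX, Matrix.mul_apply, Fin.sum_univ_two]

theorem matX_matA (a b : ZMod p) : matX p * matA p a b = -(matA p a b * matX p) := by
  ext i j
  fin_cases i <;> fin_cases j <;> simp [matX, matA, Matrix.mul_apply, Fin.sum_univ_two]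

/-- `A` as a unit -/
def unitA {a b : ZMod p} (hab : a ^ 2 + b ^ 2 = -1) : (Matrix (Fin 2) (Fin 2) (ZMod p))ˣ where
  val := matA p a b
  inv := -matA p a b
  val_inv := by rw [mul_neg, matA_sq p hab, neg_neg]
  inv_val := by rw [neg_mul, matA_sq p hab, neg_neg]

/-- `X` as a unit -/
def unitX : (Matrix (Fin 2) (Fin 2) (ZMod p))ˣ where
  val := matX p
  inv := -matX p
  val_inv := by rw [mul_neg, matX_sq p, neg_neg]
  inv_val := by rw [neg_mul, matX_sq p, neg_neg]

theorem unitA_sq {a b : ZMod p} (hab : a ^ 2 + b ^ 2 = -1) : unitA p hab * unitA p hab = -1 := by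
  apply Units.ext
  exact matA_sq p hab

theorem unitX_sq : unitX p * unitX p = -1 := by
  apply Units.ext
  exact matX_sq p

theorem hasQ8Module_prime (hp2 : p ≠ 2) : HasQ8Module p := by
  obtain ⟨a, b, hab⟩ := ZMod.sq_add_sq p (-1)
  have hA4 : unitA p hab ^ (2 * 2) = 1 := by
    have : unitA p hab ^ (2 * 2) = (unitA p hab * unitA p hab) * (unitA p hab * unitA p hab) := by
      rw [show (2 * 2 : ℕ) = 2 + 2 from rfl, pow_add, pow_two]
    rw [this, unitA_sq, neg_mul_neg, one_mul]
  have hX2 : unitX p * unitX p = unitA p hab ^ 2 := by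
    rw [unitX_sq, pow_two, unitA_sq]
  have hXA : unitX p * unitA p hab * (unitX p)⁻¹ = (unitA p hab)⁻¹ := by
    rw [mul_inv_eq_iff_eq_mul]
    apply Units.ext
    show matX p * matA p a b = (-matA p a b) * matX p
    rw [matX_matA, neg_mul]
  let ρ := quatLift 2 (unitA p hab) (unitX p) hA4 hX2 hXA
  refine ⟨Fin 2 → ZMod p, inferInstance,
    { smul := fun g v => ((ρ g : (Matrix (Fin 2) (Fin 2) (ZMod p))ˣ) :
        Matrix (Fin 2) (Fin 2) (ZMod p)).mulVec v
      one_smul := fun v => by
        show ((ρ 1 : (Matrix (Fin 2) (Fin 2) (ZMod p))ˣ) :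
          Matrix (Fin 2) (Fin 2) (ZMod p)).mulVec v = v
        rw [map_one, Units.val_one, Matrix.one_mulVec]
      mul_smul := fun g h v => by
        show ((ρ (g * h) : (Matrix (Fin 2) (Fin 2) (ZMod p))ˣ) :
          Matrix (Fin 2) (Fin 2) (ZMod p)).mulVec v = _
        rw [map_mul, Units.val_mul, ← Matrix.mulVec_mulVec]
        rfl
      smul_zero := fun g => Matrix.mulVec_zero _
      smul_add := fun g v w => Matrix.mulVec_add _ v w }, inferInstance, ?_, ?_⟩
  · rw [Nat.card_fun, Nat.card_fin, Nat.card_zmod]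
  · intro v
    show ((ρ (QuaternionGroup.a 2) : (Matrix (Fin 2) (Fin 2) (ZMod p))ˣ) :
          Matrix (Fin 2) (Fin 2) (ZMod p)).mulVec v = -v
    have h2 : ρ (QuaternionGroup.a 2) = -1 := by
      have := quatLift_a_natCast 2 (unitA p hab) (unitX p) hA4 hX2 hXA 2
      have h3 : ((2 : ℕ) : ZMod (2 * 2)) = 2 := rfl
      rw [h3] at this
      rw [show ρ (QuaternionGroup.a 2) = unitA p hab ^ 2 from this, pow_two, unitA_sq]
    rw [h2, Units.val_neg, Units.val_one, Matrix.neg_mulVec, Matrix.one_mulVec]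

end prime

theorem hasQ8Module_of_odd : ∀ k : ℕ, Odd k → HasQ8Module k := by
  intro k
  induction k using Nat.recOnMul with
  | zero => intro h; exact absurd h (by decide)
  | one => intro _; exact hasQ8Module_one
  | prime p hp =>
    intro hodd
    haveI : Fact p.Prime := ⟨hp⟩
    apply hasQ8Module_prime p
    rintro rfl
    exact absurd hodd (by decide)
  | mul a b iha ihb =>
    intro hodd
    rw [Nat.odd_mul] at hodd
    exact hasQ8Module_mul (iha hodd.1) (ihb hodd.2)

theorem q8_pow : ∀ g : QuaternionGroup 2, g ≠ 1 →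
    g = QuaternionGroup.a 2 ∨ g * g = QuaternionGroup.a 2 := by
  decide

theorem backward (m : ℕ) (hodd : Odd m) (hsq : IsSquare m) (hm : 1 < m) :
    ∃ (L : Type) (_ : Group L) (_ : Finite L) (H : Subgroup L), Cfsg.IsFrobeniusComplement H ∧
        Nonempty (H ≃* QuaternionGroup 2) ∧ Nat.card (Cfsg.frobeniusKernel H) = m := by
  obtain ⟨k, rfl⟩ := hsq
  have hk : Odd k := (Nat.odd_mul.1 hodd).1
  obtain ⟨V, iV, aV, fV, cV, hV⟩ := hasQ8Module_of_odd k hk
  have hcard : Nat.card V = k * k := by rw [cV, pow_two]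
  haveI : Nontrivial V := by
    rw [← Finite.one_lt_card_iff_nontrivial, hcard]
    exact hm
  haveI : Nontrivial (QuaternionGroup 2) := ⟨⟨QuaternionGroup.a 2, 1, by decide⟩⟩
  have hfree : ∀ g : QuaternionGroup 2, g ≠ 1 → ∀ x : V, g • x = x → x = 0 := by
    intro g hg x hx
    have h2 : (QuaternionGroup.a 2 : QuaternionGroup 2) • x = x := by
      rcases q8_pow g hg with h | h
      · rw [← h]; exact hx
      · rw [← h, mul_smul, hx, hx]
    rw [hV] at h2
    have h3 : 2 • x = 0 := by
      rw [two_smul]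
      nth_rewrite 1 [← h2]
      exact neg_add_cancel x
    have h4 : addOrderOf x ∣ 2 := addOrderOf_dvd_of_nsmul_eq_zero h3
    have h5 : addOrderOf x ∣ k * k := by
      rw [← hcard]
      exact addOrderOf_dvd_natCard x
    have h6 : addOrderOf x ∣ Nat.gcd 2 (k * k) := Nat.dvd_gcd h4 h5
    have h7 : Nat.gcd 2 (k * k) = 1 := by
      rw [← Nat.coprime_iff_gcd_eq_one]
      exact (Nat.coprime_two_left.2 hodd)
    rw [h7] at h6
    exact AddMonoid.addOrderOf_eq_one_iff.1 (Nat.dvd_one.1 h6)
  obtain ⟨L, hG, hF, C, h1, ⟨e⟩, h3⟩ := exists_frobenius_of_distribMulAction hfree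
  exact ⟨L, hG, hF, C, h1, ⟨e.symm⟩, by rw [h3, hcard]⟩

end backward

/-- For a natural number m the following are equivalent: (a) some finite group has a Frobenius complement isomorphic to the quaternion group of order 8 whose Frobenius kernel (the identity together with the elements lying in no conjugate of the complement) has exactly m elements; (b) m is an odd perfect square greater than 1. -/
theorem result (m : ℕ) :
    (∃ (L : Type) (_ : Group L) (_ : Finite L) (H : Subgroup L), Cfsg.IsFrobeniusComplement H ∧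
        Nonempty (H ≃* QuaternionGroup 2) ∧ Nat.card (Cfsg.frobeniusKernel H) = m) ↔
    (Odd m ∧ IsSquare m ∧ 1 < m) := by
  constructor
  · rintro ⟨L, hG, hF, H, h1, ⟨e⟩, rfl⟩
    exact forward H h1 e
  · rintro ⟨h1, h2, h3⟩
    exact backward m h1 h2 h3

end Cfsg.Agent.S4295
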