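import Cfsg.Statements.S4296
import Mathlib
import Mathlib
import Cfsg.Agent.S0040
import Cfsg.Agent.Lib.Helper1.FrobeniusTheorem
import Cfsg.Agent.Lib.Helper1.FrobeniusBasic
import Cfsg.Agent.Lib.Helper1.FrobeniusCount
import Cfsg.Agent.Lib.Helper1.FrobeniusInvol
import Cfsg.Agent.Lib.Helper3.QuatSquare
-- import your own Cfsg.Agent.* helpers here

set_option autoImplicit false
open Cfsg

namespace Cfsg.Agent.S4296

open Cfsg.Agent.Lib.Helper1 Cfsg.Agent.Lib.Helper3


/-- Quaternion-type elements in a generalized quaternion group of order at least 8. -/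
theorem quat_elements (n : ℕ) : ∃ t xi xj : QuaternionGroup (2 ^ (n + 1)),
    t ≠ 1 ∧ t * t = 1 ∧ xi * xi = t ∧ xj * xj = t ∧ xi * xj = xj * xi * t := by
  set m := 2 ^ (n + 1) with hm
  have hmpos : 0 < m := by rw [hm]; positivity
  have hmm : ((m : ℕ) : ZMod (2 * m)) + (m : ZMod (2 * m)) = 0 := by
    rw [← Nat.cast_add, ← two_mul, ZMod.natCast_self]
  have hii : (((2 ^ n : ℕ) : ℕ) : ZMod (2 * m)) + ((2 ^ n : ℕ) : ZMod (2 * m)) = (m : ZMod (2 * m)) := by
    rw [← Nat.cast_add, hm]
    congr 1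
    ring
  refine ⟨QuaternionGroup.a (m : ZMod (2 * m)), QuaternionGroup.a ((2 ^ n : ℕ) : ZMod (2 * m)),
    QuaternionGroup.xa 0, ?_, ?_, ?_, ?_, ?_⟩
  · rw [QuaternionGroup.one_def]
    intro h
    have h1 : ((m : ℕ) : ZMod (2 * m)) = 0 := QuaternionGroup.a.inj h
    rw [ZMod.natCast_eq_zero_iff] at h1
    have := Nat.le_of_dvd hmpos h1
    omega
  · rw [QuaternionGroup.a_mul_a, hmm, QuaternionGroup.one_def]
  · rw [QuaternionGroup.a_mul_a, hii]
  · rw [QuaternionGroup.xa_mul_xa, add_zero, sub_zero]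
  · rw [QuaternionGroup.a_mul_xa, QuaternionGroup.xa_mul_a, QuaternionGroup.xa_mul_a]
    congr 1
    have : (0 : ZMod (2 * m)) + ((2 ^ n : ℕ) : ZMod (2 * m)) + (m : ZMod (2 * m))
        - (0 - ((2 ^ n : ℕ) : ZMod (2 * m))) = 0 := by
      rw [zero_add, zero_sub, sub_neg_eq_add, add_assoc, add_comm (m : ZMod (2 * m)), ← add_assoc,
        hii, hmm]
    exact (sub_eq_zero.1 this).symm




/-- A Frobenius complement containing quaternion-type elements has a kernel of odd square
order. -/
theorem kernel_square {L : Type*} [Group L] [Finite L] (H : Subgroup L)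
    (hF : Cfsg.IsFrobeniusComplement H) (t xi xj : L) (ht : t ∈ H) (hxi : xi ∈ H) (hxj : xj ∈ H)
    (ht1 : t ≠ 1) (ht2 : t * t = 1) (hxi2 : xi * xi = t) (hxj2 : xj * xj = t)
    (hxij : xi * xj = xj * xi * t) :
    Odd (Nat.card (Cfsg.frobeniusKernel H)) ∧ IsSquare (Nat.card (Cfsg.frobeniusKernel H)) := by
  classical
  have hker : Nat.card (Cfsg.frobeniusKernel H) = H.index := card_frobeniusKernel hF
  have hmod := index_mod_card_of_frobenius hF
  have h2H : 2 ∣ Nat.card H := by
    have h1 : orderOf (⟨t, ht⟩ : H) = 2 := by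
      apply orderOf_eq_prime
      · apply Subtype.ext
        rw [Subgroup.coe_pow, pow_two]; exact ht2
      · intro h
        exact ht1 (congrArg Subtype.val h)
    rw [← h1]
    exact orderOf_dvd_natCard _
  have hodd : Odd (Nat.card (Cfsg.frobeniusKernel H)) := by
    rw [hker, Nat.odd_iff]
    obtain ⟨c, hc⟩ := h2H
    rw [hc] at hmod
    have hcpos : 0 < c := by
      rcases Nat.eq_zero_or_pos c with h | h
      · rw [h, mul_zero] at hc
        exact absurd hc Nat.card_pos.ne'
      · exact h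
    have h1 : 1 % (2 * c) = 1 := Nat.mod_eq_of_lt (by omega)
    rw [h1] at hmod
    have h3 := Nat.mod_mod_of_dvd H.index (Dvd.intro c rfl : 2 ∣ 2 * c)
    rw [hmod] at h3
    omega
  refine ⟨hodd, ?_⟩
  let N : Subgroup L :=
    { carrier := Cfsg.frobeniusKernel H
      mul_mem' := fun hk hk' => frobeniusKernel_mul_mem hF ht ht1 ht2 hk hk'
      one_mem' := Or.inl rfl
      inv_mem' := fun hk => frobeniusKernel_inv_mem hk }
  haveI hNn : N.Normal := ⟨fun n hn g => frobeniusKernel_conj_mem hn g⟩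
  have hNcard : Nat.card N = Nat.card (Cfsg.frobeniusKernel H) := rfl
  letI : CommGroup N :=
    { (inferInstance : Group N) with
      mul_comm := fun x y => Subtype.ext (frobeniusKernel_commute hF ht ht1 ht2 x.2 y.2) }
  have hinv : ∀ x : N, t * (x : L) * t⁻¹ = (x : L)⁻¹ := fun x =>
    frobeniusKernel_invol_inverts hF ht ht1 ht2 x.2
  let i : N →* N := (MulAut.conjNormal xi : N ≃* N).toMonoidHom
  let j : N →* N := (MulAut.conjNormal xj : N ≃* N).toMonoidHom
  have hi_apply : ∀ x : N, ((i x : N) : L) = xi * x * xi⁻¹ := fun x => rfl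
  have hj_apply : ∀ x : N, ((j x : N) : L) = xj * x * xj⁻¹ := fun x => rfl
  have hq : QuatStr i j := by
    refine ⟨?_, ?_, ?_⟩
    · intro x
      apply Subtype.ext
      rw [hi_apply, hi_apply]
      have : xi * (xi * (x : L) * xi⁻¹) * xi⁻¹ = (xi * xi) * x * (xi * xi)⁻¹ := by group
      rw [this, hxi2, hinv]
      rfl
    · intro x
      apply Subtype.ext
      rw [hj_apply, hj_apply]
      have : xj * (xj * (x : L) * xj⁻¹) * xj⁻¹ = (xj * xj) * x * (xj * xj)⁻¹ := by group
      rw [this, hxj2, hinv]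
      rfl
    · intro x
      apply Subtype.ext
      rw [hi_apply, hj_apply]
      have h1 : (((j (i x))⁻¹ : N) : L) = (xj * (xi * (x : L) * xi⁻¹) * xj⁻¹)⁻¹ := rfl
      rw [h1]
      have : xi * (xj * (x : L) * xj⁻¹) * xi⁻¹ = (xi * xj) * x * (xi * xj)⁻¹ := by group
      rw [this, hxij]
      have : xj * xi * t * (x : L) * (xj * xi * t)⁻¹ = (xj * xi) * (t * x * t⁻¹) * (xj * xi)⁻¹ := by
        group
      rw [this, hinv]
      group
  have := isSquare_card_of_quatStr hq (by rw [hNcard]; exact hodd)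
  rwa [hNcard] at this


theorem result' {L : Type*} [Group L] [Finite L] (H : Subgroup L) (hF : Cfsg.IsFrobeniusComplement H)
    (hZ : ∃ (p : ℕ) (_ : Fact p.Prime) (P : Sylow p H), ¬ IsCyclic P) :
    Odd (Nat.card (Cfsg.frobeniusKernel H)) ∧ IsSquare (Nat.card (Cfsg.frobeniusKernel H)) := by
  obtain ⟨N, hNset, hNn, hNc⟩ := frobenius_theorem H hF
  haveI := hNn
  have hN : N ≠ ⊥ := by
    intro h
    apply hF.2.1
    have h1 := hNc.card_mul
    rw [h, Subgroup.card_bot, one_mul] at h1
    exact Subgroup.eq_top_of_card_eq H h1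
  have hfpf := (frobenius_iff_fpf N H hNc hN hF.1).1 hF
  obtain ⟨p, hp, P, hP⟩ := hZ
  rcases Cfsg.Agent.S0040.result N H hNc hN hfpf p P with hcyc | ⟨n, ⟨e⟩⟩
  · exact absurd hcyc hP
  · rcases n with _ | n
    · exfalso
      apply hP
      haveI : IsCyclic (QuaternionGroup (2 ^ 0)) := by
        rw [pow_zero]; exact QuaternionGroup.quaternionGroup_one_isCyclic
      exact isCyclic_of_surjective e.symm e.symm.surjective
    · obtain ⟨t, xi, xj, ht1, ht2, hxi2, hxj2, hxij⟩ := quat_elements n
      have key : ∀ q : QuaternionGroup (2 ^ (n + 1)), (((e.symm q : P) : H) : L) ∈ H :=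
        fun q => ((e.symm q : P) : H).2
      have hmul : ∀ q r : QuaternionGroup (2 ^ (n + 1)),
          (((e.symm (q * r) : P) : H) : L) = (((e.symm q : P) : H) : L) * (((e.symm r : P) : H) : L) := by
        intro q r
        rw [map_mul]; rfl
      refine kernel_square H hF (((e.symm t : P) : H) : L) (((e.symm xi : P) : H) : L)
        (((e.symm xj : P) : H) : L) (key t) (key xi) (key xj) ?_ ?_ ?_ ?_ ?_
      · intro h
        apply ht1
        have h1 : ((e.symm t : P) : H) = 1 := Subtype.ext h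
        have h2 : (e.symm t : P) = 1 := Subtype.ext h1
        have := congrArg e h2
        simpa using this
      · rw [← hmul, ht2, map_one]; rfl
      · rw [← hmul, hxi2]
      · rw [← hmul, hxj2]
      · rw [← hmul, ← hmul, ← hmul, hxij]





/-- Let H be a Frobenius complement in a finite group, and suppose some Sylow subgroup of H is not cyclic. Then the number of elements of the Frobenius kernel (the identity together with the elements lying in no conjugate of H) is an odd perfect square. -/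
theorem result {L : Type*} [Group L] [Finite L] (H : Subgroup L) (hF : Cfsg.IsFrobeniusComplement H)
    (hZ : ∃ (p : ℕ) (_ : Fact p.Prime) (P : Sylow p H), ¬ IsCyclic P) :
    Odd (Nat.card (Cfsg.frobeniusKernel H)) ∧ IsSquare (Nat.card (Cfsg.frobeniusKernel H)) := by
  exact result' H hF hZ

end Cfsg.Agent.S4296
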