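import Cfsg.Statements.S4297
import Mathlib
import Cfsg.Agent.S4293

set_option autoImplicit false
open Cfsg

namespace Cfsg.Agent.S4297

open Quaternion

section emb
variable (n : ℕ) [NeZero n]

/-- The `2n`-th roots of unity inside the real quaternions. -/
noncomputable def qa (k : ZMod (2 * n)) : ℍ[ℝ] := (((ZMod.toCircle k : Circle) : ℂ) : ℍ[ℝ])

/-- The quaternion unit `j`. -/
def jj : ℍ[ℝ] := ⟨0, 0, 1, 0⟩

theorem qa_add (k l : ZMod (2 * n)) : qa n (k + l) = qa n k * qa n l := by
  unfold qa
  rw [AddChar.map_add_eq_mul, Circle.coe_mul, coeComplex_mul]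

theorem qa_zero : qa n 0 = 1 := by
  unfold qa
  rw [AddChar.map_zero_eq_one, Circle.coe_one, coeComplex_one]

theorem jj_re : jj.re = 0 := rfl
theorem jj_imI : jj.imI = 0 := rfl
theorem jj_imJ : jj.imJ = 1 := rfl
theorem jj_imK : jj.imK = 0 := rfl

theorem jj_mul_coe (z : ℂ) : jj * (z : ℍ[ℝ]) = ((starRingEnd ℂ z : ℂ) : ℍ[ℝ]) * jj := by
  ext <;> simp [Quaternion.re_mul, Quaternion.imI_mul, Quaternion.imJ_mul, Quaternion.imK_mul,
    jj_re, jj_imI, jj_imJ, jj_imK]

theorem jj_mul_qa (k : ZMod (2 * n)) : jj * qa n k = qa n (-k) * jj := by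
  unfold qa
  rw [jj_mul_coe, AddChar.map_neg_eq_inv, Circle.coe_inv_eq_conj]

theorem qa_mul_jj (k : ZMod (2 * n)) : qa n k * jj = jj * qa n (-k) := by
  rw [jj_mul_qa, neg_neg]

theorem jj_mul_jj : jj * jj = -1 := by
  ext <;> simp [Quaternion.re_mul, Quaternion.imI_mul, Quaternion.imJ_mul, Quaternion.imK_mul,
    jj_re, jj_imI, jj_imJ, jj_imK]

theorem qa_injective : Function.Injective (qa n) := by
  intro k l h
  unfold qa at h
  have h1 : ((ZMod.toCircle k : Circle) : ℂ) = ((ZMod.toCircle l : Circle) : ℂ) := by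
    have hre := congrArg QuaternionAlgebra.re h
    have him := congrArg QuaternionAlgebra.imI h
    simp only [re_coeComplex, imI_coeComplex] at hre him
    exact Complex.ext hre him
  exact ZMod.injective_toCircle (Subtype.ext h1)

theorem qa_n : qa n (n : ZMod (2 * n)) = -1 := by
  have h1 : qa n (n : ZMod (2 * n)) * qa n (n : ZMod (2 * n)) = 1 := by
    rw [← qa_add, ← qa_zero n]
    congr 1
    have : ((n : ZMod (2 * n)) + (n : ZMod (2 * n))) = ((2 * n : ℕ) : ZMod (2 * n)) := by
      push_cast; ring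
    rw [this, ZMod.natCast_self]
  have h2 : qa n (n : ZMod (2 * n)) ≠ 1 := by
    intro h
    rw [← qa_zero n] at h
    have h3 := qa_injective n h
    have h4 : (2 * n) ∣ n := (ZMod.natCast_eq_zero_iff n (2 * n)).1 h3
    have hn : 0 < n := Nat.pos_of_ne_zero (NeZero.ne n)
    have := Nat.le_of_dvd hn h4
    omega
  have h3 : (qa n (n : ZMod (2 * n)) - 1) * (qa n (n : ZMod (2 * n)) + 1) = 0 := by
    have : (qa n (n : ZMod (2 * n)) - 1) * (qa n (n : ZMod (2 * n)) + 1)
        = qa n (n : ZMod (2 * n)) * qa n (n : ZMod (2 * n)) - 1 := by noncomm_ring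
    rw [this, h1, sub_self]
  rcases mul_eq_zero.1 h3 with h | h
  · exact absurd (sub_eq_zero.1 h) h2
  · exact eq_neg_of_add_eq_zero_left h

/-- The embedding of the quaternion group into the real quaternions, as a function. -/
noncomputable def embFun : QuaternionGroup n → ℍ[ℝ]
  | QuaternionGroup.a k => qa n k
  | QuaternionGroup.xa k => jj * qa n k

/-- The embedding as a monoid homomorphism. -/
noncomputable def emb : QuaternionGroup n →* ℍ[ℝ] where
  toFun := embFun n
  map_one' := by
    show embFun n (QuaternionGroup.a 0) = 1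
    exact qa_zero n
  map_mul' := by
    rintro (i | i) (j | j)
    · show qa n (i + j) = qa n i * qa n j
      exact qa_add n i j
    · show jj * qa n (j - i) = qa n i * (jj * qa n j)
      rw [← mul_assoc, qa_mul_jj, mul_assoc, ← qa_add, neg_add_eq_sub]
    · show jj * qa n (i + j) = jj * qa n i * qa n j
      rw [qa_add, mul_assoc]
    · show qa n ((n : ZMod (2 * n)) + j - i) = jj * qa n i * (jj * qa n j)
      rw [mul_assoc, ← mul_assoc (qa n i), qa_mul_jj, mul_assoc, ← mul_assoc jj jj, jj_mul_jj,
        ← qa_add, neg_add_eq_sub, add_sub_assoc, qa_add, qa_n]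

theorem jj_ne_qa (k : ZMod (2 * n)) : jj ≠ qa n k := by
  intro h
  have := congrArg QuaternionAlgebra.imJ h
  unfold qa at this
  rw [show QuaternionAlgebra.imJ jj = 1 from rfl] at this
  have h2 : QuaternionAlgebra.imJ (((ZMod.toCircle k : Circle) : ℂ) : ℍ[ℝ]) = 0 := rfl
  rw [h2] at this
  exact one_ne_zero this

theorem emb_injective : Function.Injective (emb n) := by
  have hjj : jj ≠ 0 := by
    intro h
    have := congrArg QuaternionAlgebra.imJ h
    rw [show QuaternionAlgebra.imJ jj = 1 from rfl] at this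
    exact one_ne_zero this
  rintro (i | i) (j | j) h
  · exact congrArg _ (qa_injective n h)
  · exfalso
    have h1 : qa n i = jj * qa n j := h
    apply jj_ne_qa n (i - j)
    have h2 : qa n i * qa n (-j) = jj * (qa n j * qa n (-j)) := by rw [h1, mul_assoc]
    rw [← qa_add, ← qa_add, add_neg_cancel, qa_zero, mul_one, ← sub_eq_add_neg] at h2
    exact h2.symm
  · exfalso
    have h1 : jj * qa n i = qa n j := h
    apply jj_ne_qa n (j - i)
    have h2 : jj * (qa n i * qa n (-i)) = qa n j * qa n (-i) := by rw [← h1, mul_assoc]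
    rw [← qa_add, ← qa_add, add_neg_cancel, qa_zero, mul_one, ← sub_eq_add_neg] at h2
    exact h2
  · have h1 : jj * qa n i = jj * qa n j := h
    exact congrArg _ (qa_injective n (mul_left_cancel₀ hjj h1))

end emb

/-- For every n ≥ 2 the dicyclic group of order 4n (generated by an element a of order 2n and an element x with x² = aⁿ and x a x⁻¹ = a⁻¹) occurs as a Frobenius complement of some finite Frobenius group. -/
theorem result (n : ℕ) (hn : 2 ≤ n) :
    ∃ (L : Type) (_ : Group L) (_ : Finite L) (H : Subgroup L), Cfsg.IsFrobeniusComplement H ∧ Nonempty (H ≃* QuaternionGroup n) := by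
  haveI : NeZero n := ⟨by omega⟩
  let f : QuaternionGroup n →* (ℍ[ℝ])ˣ := (emb n).toHomUnits
  have hf : Function.Injective f := by
    intro x y hxy
    apply emb_injective n
    have := congrArg Units.val hxy
    exact this
  haveI : Finite f.range := Finite.of_equiv _ (MonoidHom.ofInjective hf).toEquiv
  have hne : f.range ≠ ⊥ := by
    intro h
    have h1 : f (QuaternionGroup.a 1) ∈ f.range := ⟨_, rfl⟩
    rw [h, Subgroup.mem_bot] at h1
    have h2 : QuaternionGroup.a (1 : ZMod (2 * n)) = 1 := hf (by rw [h1, map_one])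
    have h3 : (1 : ZMod (2 * n)) = 0 := by
      have : (1 : QuaternionGroup n) = QuaternionGroup.a 0 := rfl
      rw [this] at h2
      exact QuaternionGroup.a.inj h2
    haveI : Fact (1 < 2 * n) := ⟨by omega⟩
    exact one_ne_zero h3
  obtain ⟨L, hG, hF, K, h1, ⟨e⟩⟩ := Cfsg.Agent.S4293.result f.range hne
  exact ⟨L, hG, hF, K, h1, ⟨e.symm.trans (MonoidHom.ofInjective hf).symm⟩⟩

end Cfsg.Agent.S4297
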