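import Cfsg.Statements.S4298
import Mathlib
import Cfsg.Agent.Lib.Helper3.FrobConstr
-- import your own Cfsg.Agent.* helpers here

set_option autoImplicit false
open Cfsg

namespace Cfsg.Agent.S4298
open Cfsg.Agent.Lib.Helper3

/-- A table embedding `SL(2,3)` into `SL(2,5)`. -/
def tbl : Fin 3 → Fin 3 → Fin 3 → Fin 3 → Matrix (Fin 2) (Fin 2) (ZMod 5)
  | 0, 1, 2, 0 => !![0, 4; 1, 0]
  | 0, 1, 2, 1 => !![2, 4; 3, 4]
  | 0, 1, 2, 2 => !![3, 2; 1, 1]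
  | 0, 2, 1, 0 => !![0, 1; 4, 0]
  | 0, 2, 1, 1 => !![2, 3; 4, 4]
  | 0, 2, 1, 2 => !![3, 1; 2, 1]
  | 1, 0, 0, 1 => !![1, 0; 0, 1]
  | 1, 0, 1, 1 => !![1, 2; 1, 3]
  | 1, 0, 2, 1 => !![3, 3; 4, 1]
  | 1, 1, 0, 1 => !![1, 1; 2, 3]
  | 1, 1, 1, 2 => !![0, 2; 2, 0]
  | 1, 1, 2, 0 => !![4, 2; 1, 2]
  | 1, 2, 0, 1 => !![3, 4; 3, 1]
  | 1, 2, 1, 0 => !![4, 1; 2, 2]
  | 1, 2, 2, 2 => !![3, 0; 0, 2]
  | 2, 0, 0, 2 => !![4, 0; 0, 4]
  | 2, 0, 1, 2 => !![2, 2; 1, 4]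
  | 2, 0, 2, 2 => !![4, 3; 4, 2]
  | 2, 1, 0, 2 => !![2, 1; 2, 4]
  | 2, 1, 1, 1 => !![2, 0; 0, 3]
  | 2, 1, 2, 0 => !![1, 4; 3, 3]
  | 2, 2, 0, 2 => !![4, 4; 3, 2]
  | 2, 2, 1, 0 => !![1, 3; 4, 3]
  | 2, 2, 2, 1 => !![0, 3; 3, 0]
  | _, _, _, _ => 1

abbrev G3 := Matrix.SpecialLinearGroup (Fin 2) (ZMod 3)

def rho (g : G3) : Matrix (Fin 2) (Fin 2) (ZMod 5) :=
  tbl (g.1 0 0) (g.1 0 1) (g.1 1 0) (g.1 1 1)

set_option maxRecDepth 100000 in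
theorem rho_one : rho 1 = 1 := by decide

set_option maxRecDepth 100000 in
theorem rho_mul : ∀ g h : G3, rho (g * h) = rho g * rho h := by decide


set_option maxRecDepth 100000 in
theorem rho_free : ∀ g : G3, g ≠ 1 → ∀ v : Fin 2 → ZMod 5, (rho g).mulVec v = v → v = 0 := by decide

instance : DistribMulAction G3 (Fin 2 → ZMod 5) where
  smul g v := (rho g).mulVec v
  one_smul v := by
    show (rho 1).mulVec v = v
    rw [rho_one, Matrix.one_mulVec]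
  mul_smul g h v := by
    show (rho (g * h)).mulVec v = (rho g).mulVec ((rho h).mulVec v)
    rw [rho_mul, Matrix.mulVec_mulVec]
  smul_zero g := by
    show (rho g).mulVec 0 = 0
    exact Matrix.mulVec_zero _
  smul_add g v w := by
    show (rho g).mulVec (v + w) = (rho g).mulVec v + (rho g).mulVec w
    exact Matrix.mulVec_add _ _ _

theorem main : ∃ (L : Type) (_ : Group L) (_ : Finite L) (H : Subgroup L), Cfsg.IsFrobeniusComplement H ∧ Nonempty (H ≃* Matrix.SpecialLinearGroup (Fin 2) (ZMod 3)) := by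
  haveI : Nontrivial G3 := by
    refine ⟨⟨1, -1, ?_⟩⟩
    decide
  haveI : Nontrivial (Fin 2 → ZMod 5) := by
    refine ⟨⟨0, fun _ => 1, ?_⟩⟩
    decide
  obtain ⟨L, hG, hF, C, hC, ⟨e⟩, -⟩ := exists_frobenius_of_distribMulAction (H := G3) (V := Fin 2 → ZMod 5)
    (fun g hg v hv => rho_free g hg v hv)
  exact ⟨L, hG, hF, C, hC, ⟨e.symm⟩⟩



/-- The group SL(2,3) of order 24 (the binary tetrahedral group) occurs as a Frobenius complement of some finite Frobenius group. -/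
theorem result :
    ∃ (L : Type) (_ : Group L) (_ : Finite L) (H : Subgroup L), Cfsg.IsFrobeniusComplement H ∧ Nonempty (H ≃* Matrix.SpecialLinearGroup (Fin 2) (ZMod 3)) := by
  exact main

end Cfsg.Agent.S4298
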