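import Cfsg.Statements.S4299
import Mathlib
import Cfsg.Agent.S4293

set_option autoImplicit false
open Cfsg

namespace Cfsg.Agent.S4299

/-- Every nontrivial finite cyclic group occurs as a Frobenius complement of some finite Frobenius group. -/
theorem result {C : Type*} [Group C] [Finite C] [IsCyclic C] [Nontrivial C] :
    ∃ (L : Type) (_ : Group L) (_ : Finite L) (H : Subgroup L), Cfsg.IsFrobeniusComplement H ∧ Nonempty (C ≃* H) := by
  classical
  have hn : 1 < Nat.card C := Finite.one_lt_card
  haveI : NeZero (Nat.card C) := ⟨by omega⟩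
  let R : Subgroup ℂˣ := rootsOfUnity (Nat.card C) ℂ
  haveI : Finite R := inferInstanceAs (Finite (rootsOfUnity (Nat.card C) ℂ))
  have hcard : Nat.card R = Nat.card C := Complex.card_rootsOfUnity (Nat.card C)
  haveI : IsCyclic R := inferInstanceAs (IsCyclic (rootsOfUnity (Nat.card C) ℂ))
  have hR : R ≠ ⊥ := by
    intro h
    have : Nat.card R = 1 := by rw [h]; exact Subgroup.card_bot
    omega
  obtain ⟨L, hG, hF, K, h1, ⟨e⟩⟩ := Cfsg.Agent.S4293.result R hR
  exact ⟨L, hG, hF, K, h1, ⟨(mulEquivOfCyclicCardEq hcard.symm).trans e⟩⟩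

end Cfsg.Agent.S4299
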