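import Cfsg.Statements.S4300

set_option autoImplicit false
open Cfsg

namespace Cfsg.Agent.S4300

theorem result {G : Type*} [Group G] {X : Type*} [MulAction G X] [FaithfulSMul G X]
    (hprim : MulAction.IsPreprimitive G X) (x : X) (hsimple : IsSimpleGroup (MulAction.stabilizer G x)) :
    IsSimpleGroup G ∨ ∃ N : Subgroup G, N.Normal ∧ N ≠ ⊥ ∧ N ≠ ⊤ ∧
      MulAction.IsPretransitive N X ∧ ∀ y : X, MulAction.stabilizer N y = ⊥ := by
  by_cases hG : IsSimpleGroup G
  · exact Or.inl hG
  right
  have hnt : Nontrivial G := by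
    obtain ⟨a, b, hab⟩ := hsimple.toNontrivial
    exact ⟨⟨a.1, b.1, fun h => hab (Subtype.ext h)⟩⟩
  obtain ⟨N, hNn, hNbot, hNtop⟩ : ∃ N : Subgroup G, N.Normal ∧ N ≠ ⊥ ∧ N ≠ ⊤ := by
    by_contra hcon
    apply hG
    refine { exists_pair_ne := hnt.exists_pair_ne, eq_bot_or_eq_top_of_normal := ?_ }
    intro N hN
    by_contra h
    push Not at h
    exact hcon ⟨N, hN, h.1, h.2⟩
  have htrans : MulAction.IsPretransitive N X := by
    apply MulAction.IsQuasiPreprimitive.isPretransitive_of_normal (G := G)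
    intro huniv
    apply hNbot
    rw [Subgroup.eq_bot_iff_forall]
    intro n hn
    apply FaithfulSMul.eq_of_smul_eq_smul (α := X)
    intro y
    rw [one_smul]
    have : y ∈ MulAction.fixedPoints N X := by rw [huniv]; trivial
    exact this ⟨n, hn⟩
  have hK : (N.subgroupOf (MulAction.stabilizer G x)).Normal := inferInstance
  have hN' : ∀ g : G, ∃ n ∈ N, n • x = g • x := by
    intro g
    obtain ⟨n, hn⟩ := htrans.exists_smul_eq x (g • x)
    exact ⟨n.1, n.2, hn⟩
  have hstab : ∀ n ∈ N, n • x = x → n = 1 := by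
    rcases hK.eq_bot_or_eq_top with hbot | htop
    · intro n hn hnx
      have : (⟨n, hnx⟩ : MulAction.stabilizer G x) ∈ N.subgroupOf (MulAction.stabilizer G x) := hn
      rw [hbot, Subgroup.mem_bot] at this
      exact congrArg Subtype.val this
    · exfalso
      apply hNtop
      rw [Subgroup.eq_top_iff']
      intro g
      obtain ⟨n, hn, hng⟩ := hN' g
      have hs : n⁻¹ * g ∈ MulAction.stabilizer G x := by
        rw [MulAction.mem_stabilizer_iff, mul_smul, ← hng, inv_smul_smul]
      have : (⟨n⁻¹ * g, hs⟩ : MulAction.stabilizer G x) ∈ N.subgroupOf (MulAction.stabilizer G x) := by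
        rw [htop]; trivial
      have h2 : n⁻¹ * g ∈ N := this
      have := N.mul_mem hn h2
      simpa using this
  refine ⟨N, hNn, hNbot, hNtop, htrans, ?_⟩
  intro y
  rw [Subgroup.eq_bot_iff_forall]
  rintro ⟨n, hn⟩ hny
  rw [MulAction.mem_stabilizer_iff] at hny
  have hny' : n • y = y := hny
  obtain ⟨m, hm⟩ := htrans.exists_smul_eq x y
  have hm' : (m : G) • x = y := hm
  have h1 : (m.1⁻¹ * n * m.1) • x = x := by
    rw [mul_smul, mul_smul, hm', hny', ← hm', inv_smul_smul]
  have h2 : m.1⁻¹ * n * m.1 ∈ N := by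
    have := hNn.conj_mem n hn m.1⁻¹
    simpa using this
  have h3 := hstab _ h2 h1
  apply Subtype.ext
  change n = 1
  have : n = m.1 * (m.1⁻¹ * n * m.1) * m.1⁻¹ := by group
  rw [this, h3]; group

end Cfsg.Agent.S4300
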