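import Cfsg.Statements.S4305
import Cfsg.Agent.Lib.Helper3.ShQ

set_option autoImplicit false
open Cfsg

namespace Cfsg.Agent.S4305

/-- Let the symmetric group of degree 3 act by automorphisms on a finite solvable group `G` of order prime to 6, so that only the identity of `G` is fixed by all of it. Then the derived subgroup of `G` is nilpotent. -/
theorem result {G : Type*} [Group G] [Finite G] [Group.IsSolvable G]
    [MulDistribMulAction (Equiv.Perm (Fin 3)) G] (hcop : (Nat.card G).Coprime 6)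
    (hfpf : ∀ g : G, (∀ a : Equiv.Perm (Fin 3), a • g = g) → g = 1) :
    Group.IsNilpotent ↥(commutator G) := by
  classical
  obtain ⟨φ, hφ⟩ : ∃ φ : Equiv.Perm (Fin 3) →* MulAut G, ∀ a g, φ a g = a • g :=
    ⟨MulDistribMulAction.toMulAut (Equiv.Perm (Fin 3)) G, fun a g => rfl⟩
  obtain ⟨σ, τ, h3, h2, hrs, hall⟩ : ∃ σ τ : Equiv.Perm (Fin 3), σ ^ 3 = 1 ∧ τ ^ 2 = 1 ∧
      τ * σ = σ ^ 2 * τ ∧ ∀ a : Equiv.Perm (Fin 3), ∃ i ∈ Finset.range 3,
        ∃ j ∈ Finset.range 2, a = σ ^ i * τ ^ j :=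
    ⟨Equiv.swap 0 1 * Equiv.swap 1 2, Equiv.swap 0 1, by decide, by decide, by decide,
      by decide⟩
  have haut : Cfsg.Agent.Lib.Helper3.Sh.Aut3 (φ σ) (φ τ) :=
    ⟨by rw [← map_pow, h3, map_one], by rw [← map_pow, h2, map_one],
      by rw [← map_mul, hrs, map_mul, map_pow]⟩
  refine Cfsg.Agent.Lib.Helper3.Sh.shult_main _ G (φ σ) (φ τ) rfl hcop haut ?_
  intro g hs hr
  apply hfpf g
  intro a
  rw [hφ] at hs hr
  have hσm : σ ∈ MulAction.stabilizer (Equiv.Perm (Fin 3)) g := hs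
  have hτm : τ ∈ MulAction.stabilizer (Equiv.Perm (Fin 3)) g := hr
  obtain ⟨i, -, j, -, rfl⟩ := hall a
  exact Subgroup.mul_mem _ (Subgroup.pow_mem _ hσm i) (Subgroup.pow_mem _ hτm j)

end Cfsg.Agent.S4305
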