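import Cfsg.Statements.S4314
import Mathlib

set_option autoImplicit false
open Cfsg

namespace Cfsg.Agent.S4314

open scoped commutatorElement

/-- An element acting nontrivially on a set of prime size `p`, with `s^p` acting trivially:
it moves every point and everything commuting with `s` acts as a power of `s`. -/
theorem lemma_cyc {G Ω : Type*} [Group G] [MulAction G Ω] [Finite Ω] (p : ℕ) (hp : p.Prime)
    (hΩ : Nat.card Ω = p) (s : G) (hs : ∃ ω : Ω, s • ω ≠ ω) (hsp : ∀ ω : Ω, s ^ p • ω = ω) :
    (∀ ω : Ω, s • ω ≠ ω) ∧ ∀ τ : G, τ * s = s * τ → ∃ i : ℕ, ∀ ω : Ω, τ • ω = s ^ i • ω := by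
  have hspt : ∀ (t : ℕ) (ω : Ω), (s ^ p) ^ t • ω = ω := by
    intro t
    induction t with
    | zero => intro ω; simp
    | succ t ih => intro ω; rw [pow_succ, mul_smul, hsp, ih]
  have key : ∀ ω₀ : Ω, s • ω₀ ≠ ω₀ → ∀ ω : Ω, ∃ i : ℕ, ω = s ^ i • ω₀ := by
    intro ω₀ h0
    have hfix : ∀ d : ℕ, 0 < d → d < p → s ^ d • ω₀ ≠ ω₀ := by
      intro d hd0 hdp hfix
      have hcop : Nat.Coprime d p := (Nat.coprime_of_lt_prime (Nat.pos_iff_ne_zero.1 hd0) hdp hp).symm
      obtain ⟨m, -, hm⟩ := Nat.exists_mul_mod_eq_one_of_coprime hcop hp.one_lt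
      have h1 : (s ^ d) ^ m • ω₀ = ω₀ := by
        clear hm
        induction m with
        | zero => simp
        | succ m ih => rw [pow_succ, mul_smul, hfix, ih]
      have h2 : d * m = p * (d * m / p) + 1 := by
        have := Nat.div_add_mod (d * m) p
        rw [hm] at this
        exact this.symm
      rw [← pow_mul, h2, pow_succ', mul_smul, pow_mul, hspt] at h1
      exact h0 h1
    have hinj : Function.Injective (fun i : Fin p => s ^ (i : ℕ) • ω₀) := by
      have aux : ∀ i j : ℕ, i < j → j < p → s ^ i • ω₀ ≠ s ^ j • ω₀ := by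
        intro i j hij hjp heq
        have h3 : s ^ j = s ^ i * s ^ (j - i) := by
          rw [← pow_add]; congr 1; omega
        rw [h3, mul_smul] at heq
        have h4 := (MulAction.injective (s ^ i)) heq
        exact hfix (j - i) (by omega) (by omega) h4.symm
      intro i j hij
      simp only at hij
      rcases lt_trichotomy (i : ℕ) (j : ℕ) with h | h | h
      · exact absurd hij (aux _ _ h j.2)
      · exact Fin.ext h
      · exact absurd hij.symm (aux _ _ h i.2)
    have hbij := Function.Injective.bijective_of_nat_card_le hinj (by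
      rw [hΩ, Nat.card_eq_fintype_card, Fintype.card_fin])
    intro ω
    obtain ⟨i, hi⟩ := hbij.2 ω
    exact ⟨i, hi.symm⟩
  obtain ⟨ω₀, h0⟩ := hs
  constructor
  · intro ω hω
    obtain ⟨i, rfl⟩ := key ω₀ h0 ω
    rw [← mul_smul, ← pow_succ', pow_succ, mul_smul] at hω
    exact h0 ((MulAction.injective (s ^ i)) hω)
  · intro τ hτ
    obtain ⟨i, hi⟩ := key ω₀ h0 (τ • ω₀)
    refine ⟨i, ?_⟩
    intro ω
    obtain ⟨j, rfl⟩ := key ω₀ h0 ω
    have hc : Commute τ (s ^ j) := Commute.pow_right hτ j
    rw [← mul_smul, hc.eq, mul_smul, hi, ← mul_smul, ← mul_smul, ← pow_add, ← pow_add, add_comm]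

/-- A subgroup of prime index is maximal. -/
theorem max_of_prime_index {G : Type*} [Group G] [Finite G] (C : Subgroup G)
    (hp : C.index.Prime) (H : Subgroup G) (hCH : C ≤ H) : H = C ∨ H = ⊤ := by
  have h1 := Subgroup.relIndex_mul_index hCH
  have h2 : H.index ∣ C.index := Dvd.intro_left _ h1
  rcases (Nat.dvd_prime hp).1 h2 with h3 | h3
  · right; exact Subgroup.index_eq_one.1 h3
  · left
    rw [h3] at h1
    have h4 : C.relIndex H = 1 := by
      have hpos : 0 < C.index := hp.pos
      exact Nat.eq_of_mul_eq_mul_right hpos (by rw [h1, one_mul])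
    exact le_antisymm (Subgroup.relIndex_eq_one.1 h4) hCH

/-- If `A ≤ B` have the same (nonzero) index they are equal. -/
theorem eq_of_le_of_index_eq' {G : Type*} [Group G] [Finite G] (A B : Subgroup G)
    (hAB : A ≤ B) (h : A.index = B.index) : A = B := by
  have h1 := Subgroup.relIndex_mul_index hAB
  rw [h] at h1
  have hpos : 0 < B.index := Nat.pos_of_ne_zero (Subgroup.index_ne_zero_of_finite)
  have h4 : A.relIndex B = 1 := Nat.eq_of_mul_eq_mul_right hpos (by rw [h1, one_mul])
  exact le_antisymm hAB (Subgroup.relIndex_eq_one.1 h4)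

/-- Claim A. -/
theorem claimA {G : Type*} [Group G] [Finite G] (C : Subgroup G) (hp : C.index.Prime)
    (s : G) (hsK : s ∉ C.normalCore) (hsp : s ^ C.index ∈ C.normalCore) :
    s ∉ C ∧ ∀ τ : G, τ * s = s * τ → ∃ i : ℕ, (s ^ i)⁻¹ * τ ∈ C.normalCore := by
  have hK : ∀ g : G, g ∈ C.normalCore ↔ ∀ ω : G ⧸ C, g • ω = ω := by
    intro g
    rw [Subgroup.normalCore_eq_ker, MonoidHom.mem_ker, Equiv.Perm.ext_iff]
    rfl
  have hΩ : Nat.card (G ⧸ C) = C.index := (Subgroup.index_eq_card C).symm
  have hs : ∃ ω : G ⧸ C, s • ω ≠ ω := by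
    by_contra hcon
    push Not at hcon
    exact hsK ((hK s).2 hcon)
  obtain ⟨h1, h2⟩ := lemma_cyc C.index hp hΩ s hs ((hK _).1 hsp)
  constructor
  · intro hsC
    apply h1 ((1 : G) : G ⧸ C)
    rw [MulAction.Quotient.smul_mk, QuotientGroup.eq]
    simpa using C.inv_mem hsC
  · intro τ hτ
    obtain ⟨i, hi⟩ := h2 τ hτ
    refine ⟨i, (hK _).2 ?_⟩
    intro ω
    rw [mul_smul, hi ω, ← mul_smul, inv_mul_cancel, one_smul]

theorem main_case {G : Type*} [Group G] [Finite G]
    (h : ∀ x : G, (Subgroup.centralizer ({x} : Set G)).index = 1 ∨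
      ((Subgroup.centralizer ({x} : Set G)).index).Prime)
    (x : G) (hxn : ¬ (Subgroup.centralizer ({x} : Set G)).Normal) :
    ∃ p q : ℕ, p.Prime ∧ q.Prime ∧ p ≠ q ∧ Nat.card (G ⧸ Subgroup.center G) = p * q ∧
      ¬ IsMulCommutative (G ⧸ Subgroup.center G) := by
  classical
  have hcent : ∀ a b : G, a ∈ Subgroup.centralizer ({b} : Set G) ↔ a * b = b * a := fun a b =>
    Subgroup.mem_centralizer_singleton_iff
  obtain ⟨C, hCdef⟩ : ∃ C : Subgroup G, C = Subgroup.centralizer ({x} : Set G) := ⟨_, rfl⟩
  rw [← hCdef] at hxn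
  have hCtop : C ≠ ⊤ := by
    intro h1; apply hxn; rw [h1]; infer_instance
  have hp : C.index.Prime := by
    rcases h x with h1 | h1
    · rw [← hCdef] at h1; exact absurd (Subgroup.index_eq_one.1 h1) hCtop
    · rw [← hCdef] at h1; exact h1
  obtain ⟨p, hpdef⟩ : ∃ p : ℕ, p = C.index := ⟨_, rfl⟩
  obtain ⟨K, hKdef⟩ : ∃ K : Subgroup G, K = C.normalCore := ⟨_, rfl⟩
  have hKn : K.Normal := by rw [hKdef]; infer_instance
  have hKC : K ≤ C := by rw [hKdef]; exact C.normalCore_le
  have hKneC : K ≠ C := by
    intro h1; apply hxn; rw [← h1]; exact hKn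
  -- normalizer of C
  have hNC : ∀ τ : G, (∀ d ∈ C, τ * d * τ⁻¹ ∈ C) → τ ∈ C := by
    intro τ hτ
    have h1 : τ ∈ Subgroup.normalizer (C : Set G) := by
      exact Subgroup.mem_normalizer_fintype hτ
    rcases max_of_prime_index C hp (Subgroup.normalizer (C : Set G)) Subgroup.le_normalizer
      with h2 | h2
    · rw [h2] at h1; exact h1
    · exact absurd (Subgroup.normalizer_eq_top_iff.1 h2) hxn
  -- index bookkeeping
  have hidx1 : K.relIndex C * C.index = K.index := Subgroup.relIndex_mul_index hKC
  have hq1 : K.relIndex C ≠ 1 := by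
    intro h1
    exact hKneC (le_antisymm hKC (Subgroup.relIndex_eq_one.1 h1))
  -- Cauchy in G ⧸ K
  have hpK : C.index ∣ Nat.card (G ⧸ K) := by
    rw [← Subgroup.index_eq_card, ← hidx1]
    exact dvd_mul_left _ _
  haveI : Fact C.index.Prime := ⟨hp⟩
  obtain ⟨y, hy⟩ := exists_prime_orderOf_dvd_card' C.index hpK
  obtain ⟨s, rfl⟩ := QuotientGroup.mk_surjective y
  have hsK : s ∉ K := by
    intro h1
    have : ((s : G) : G ⧸ K) = 1 := (QuotientGroup.eq_one_iff s).2 h1
    rw [this, orderOf_one] at hy
    exact hp.one_lt.ne hy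
  have hspK : s ^ C.index ∈ K := by
    have := pow_orderOf_eq_one ((s : G) : G ⧸ K)
    rw [hy, ← QuotientGroup.mk_pow] at this
    exact (QuotientGroup.eq_one_iff _).1 this
  -- R
  obtain ⟨R, hRdef⟩ : ∃ R : Subgroup G, R = (Subgroup.zpowers ((s : G) : G ⧸ K)).comap
    (QuotientGroup.mk' K) := ⟨_, rfl⟩
  have hRidx : R.index * C.index = K.index := by
    rw [hRdef, Subgroup.index_comap_of_surjective _ (QuotientGroup.mk'_surjective K)]
    have h1 := Subgroup.index_mul_card (Subgroup.zpowers ((s : G) : G ⧸ K))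
    rw [Nat.card_zpowers, hy, ← Subgroup.index_eq_card] at h1
    exact h1
  have hRq : R.index = K.relIndex C := by
    have hpos : 0 < C.index := hp.pos
    exact Nat.eq_of_mul_eq_mul_right hpos (by rw [hRidx, hidx1])
  -- centralizers of s * k
  have hCs : ∀ k ∈ K, Subgroup.centralizer ({s * k} : Set G) = R ∧ R.index.Prime := by
    intro k hk
    have hmk : ((s * k : G) : G ⧸ K) = ((s : G) : G ⧸ K) := by
      rw [QuotientGroup.mk_mul, (QuotientGroup.eq_one_iff k).2 hk, mul_one]
    have h1 : s * k ∉ K := by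
      intro h2
      apply hsK
      have := K.mul_mem h2 (K.inv_mem hk)
      rwa [mul_inv_cancel_right] at this
    have h2 : (s * k) ^ C.index ∈ K := by
      apply (QuotientGroup.eq_one_iff _).1
      rw [QuotientGroup.mk_pow, hmk, ← hy, pow_orderOf_eq_one]
    rw [hKdef] at h1 h2
    obtain ⟨-, h3⟩ := claimA C hp (s * k) h1 h2
    have hle : Subgroup.centralizer ({s * k} : Set G) ≤ R := by
      intro τ hτ
      rw [hcent] at hτ
      obtain ⟨i, hi⟩ := h3 τ hτ
      rw [← hKdef] at hi
      rw [hRdef, Subgroup.mem_comap, QuotientGroup.mk'_apply]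
      have h4 : ((τ : G) : G ⧸ K) = ((s * k : G) : G ⧸ K) ^ i := by
        have := (QuotientGroup.eq_one_iff _).2 hi
        rw [QuotientGroup.mk_mul, QuotientGroup.mk_inv, QuotientGroup.mk_pow] at this
        rw [inv_mul_eq_one] at this
        exact this.symm
      rw [h4, hmk]
      exact Subgroup.pow_mem _ (Subgroup.mem_zpowers _) i
    have hdvd := Subgroup.index_dvd_of_le hle
    have hR1 : R.index ≠ 1 := by rw [hRq]; exact hq1
    rcases h (s * k) with h5 | h5
    · rw [h5] at hdvd
      exact absurd (Nat.dvd_one.1 hdvd) hR1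
    · have h6 : R.index = (Subgroup.centralizer ({s * k} : Set G)).index :=
        ((Nat.dvd_prime h5).1 hdvd).resolve_left hR1
      exact ⟨eq_of_le_of_index_eq' _ _ hle h6.symm, h6 ▸ h5⟩
  have hqprime : (K.relIndex C).Prime := by
    rw [← hRq]; exact (hCs 1 K.one_mem).2
  -- K commutes with s
  have hKs : ∀ k ∈ K, k * s = s * k := by
    intro k hk
    have h1 : s * k ∈ R := by
      rw [hRdef, Subgroup.mem_comap, QuotientGroup.mk'_apply, QuotientGroup.mk_mul,
        (QuotientGroup.eq_one_iff k).2 hk, mul_one]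
      exact Subgroup.mem_zpowers _
    rw [← (hCs 1 K.one_mem).1, mul_one, hcent] at h1
    have : s * (k * s) = s * (s * k) := by rw [← mul_assoc, h1]
    exact mul_left_cancel this
  -- s ∉ C
  have hsC : s ∉ C := by
    have h1 := hsK
    have h2 := hspK
    rw [hKdef] at h1 h2
    exact (claimA C hp s h1 h2).1
  -- elements of C \ K are central in C
  have hCc : ∀ c ∈ C, c ∉ K → ∀ c' ∈ C, c' * c = c * c' := by
    intro c hcC hcK
    -- K ⊔ zpowers c = C
    have hD : K ⊔ Subgroup.zpowers c = C := by
      have hDC : K ⊔ Subgroup.zpowers c ≤ C := sup_le hKC (Subgroup.zpowers_le.2 hcC)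
      have h1 := Subgroup.relIndex_mul_relIndex K (K ⊔ Subgroup.zpowers c) C le_sup_left hDC
      have h2 : K.relIndex (K ⊔ Subgroup.zpowers c) ≠ 1 := by
        intro h3
        have := Subgroup.relIndex_eq_one.1 h3
        exact hcK (this (le_sup_right (a := K) (Subgroup.mem_zpowers c)))
      have h3 : K.relIndex (K ⊔ Subgroup.zpowers c) ∣ K.relIndex C := Dvd.intro _ h1
      have h4 := ((Nat.dvd_prime hqprime).1 h3).resolve_left h2
      rw [h4] at h1
      have h5 : (K ⊔ Subgroup.zpowers c).relIndex C = 1 := by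
        have hpos : 0 < K.relIndex C := hqprime.pos
        exact Nat.eq_of_mul_eq_mul_left hpos (by rw [h1, mul_one])
      exact le_antisymm hDC (Subgroup.relIndex_eq_one.1 h5)
    have hle : Subgroup.centralizer ({c} : Set G) ≤ C := by
      intro τ hτ
      rw [hcent] at hτ
      apply hNC
      have h1 : C ≤ C.comap (MulAut.conj τ).toMonoidHom := by
        conv_lhs => rw [← hD]
        apply sup_le
        · intro k hk
          rw [Subgroup.mem_comap]
          simp only [MulEquiv.coe_toMonoidHom, MulAut.conj_apply]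
          exact hKC (hKn.conj_mem k hk τ)
        · rw [Subgroup.zpowers_le, Subgroup.mem_comap]
          simp only [MulEquiv.coe_toMonoidHom, MulAut.conj_apply]
          rw [hτ, mul_inv_cancel_right]
          exact hcC
      intro d hd
      have := h1 hd
      rw [Subgroup.mem_comap] at this
      simpa only [MulEquiv.coe_toMonoidHom, MulAut.conj_apply] using this
    have hdvd := Subgroup.index_dvd_of_le hle
    have heq : Subgroup.centralizer ({c} : Set G) = C := by
      rcases h c with h5 | h5
      · rw [h5] at hdvd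
        exact absurd (Nat.dvd_one.1 hdvd) hp.one_lt.ne'
      · have h6 := ((Nat.dvd_prime h5).1 hdvd).resolve_left hp.one_lt.ne'
        exact eq_of_le_of_index_eq' _ _ hle h6.symm
    intro c' hc'
    rw [← heq, hcent] at hc'
    exact hc'
  -- K is central
  obtain ⟨c₀, hc₀C, hc₀K⟩ : ∃ c₀ ∈ C, c₀ ∉ K := by
    by_contra hcon
    push Not at hcon
    exact hKneC (le_antisymm hKC hcon)
  have hKcen : K ≤ Subgroup.center G := by
    intro k hk
    have hkC : ∀ c ∈ C, c * k = k * c := by
      intro c hc
      by_cases hcK : c ∈ K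
      · have h1 : c₀ * c ∉ K := by
          intro h2
          apply hc₀K
          have := K.mul_mem h2 (K.inv_mem hcK)
          rwa [mul_inv_cancel_right] at this
        have h2 := hCc (c₀ * c) (C.mul_mem hc₀C hc) h1 k (hKC hk)
        have h3 := hCc c₀ hc₀C hc₀K k (hKC hk)
        have : c₀ * (c * k) = c₀ * (k * c) := by
          rw [← mul_assoc, ← h2, ← mul_assoc, h3, mul_assoc]
        exact mul_left_cancel this
      · exact (hCc c hc hcK k (hKC hk)).symm
    have hle : C ≤ Subgroup.centralizer ({k} : Set G) := by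
      intro c hc
      rw [hcent]; exact hkC c hc
    rcases max_of_prime_index C hp _ hle with h1 | h1
    · exfalso
      apply hsC
      rw [← h1, hcent]
      exact (hKs k hk).symm
    · rw [Subgroup.mem_center_iff]
      intro g
      have : g ∈ Subgroup.centralizer ({k} : Set G) := by rw [h1]; trivial
      rw [hcent] at this
      exact this
  have hcenK : Subgroup.center G ≤ K := by
    rw [hKdef, Subgroup.normal_le_normalCore]
    rw [hCdef]
    exact Subgroup.center_le_centralizer _
  have hKeq : Subgroup.center G = K := le_antisymm hcenK hKcen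
  -- non commutative
  have hnc : ¬ IsMulCommutative (G ⧸ Subgroup.center G) := by
    intro hcomm
    apply hxn
    constructor
    intro c hc g
    have h1 : ((g * c * g⁻¹ * c⁻¹ : G) : G ⧸ Subgroup.center G) = 1 := by
      simp only [QuotientGroup.mk_mul, QuotientGroup.mk_inv]
      have := hcomm.is_comm.comm ((g : G) : G ⧸ Subgroup.center G) (c : G ⧸ Subgroup.center G)
      rw [this]
      group
    have h2 := (QuotientGroup.eq_one_iff _).1 h1
    rw [hKeq] at h2
    have h3 := C.mul_mem (hKC h2) hc
    rwa [inv_mul_cancel_right] at h3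
  refine ⟨C.index, K.relIndex C, hp, hqprime, ?_, ?_, hnc⟩
  · intro heq
    apply hnc
    have hcard : Nat.card (G ⧸ Subgroup.center G) = C.index ^ 2 := by
      rw [← Subgroup.index_eq_card, hKeq, ← hidx1, ← heq, sq]
    exact IsPGroup.isMulCommutative_of_card_eq_prime_sq hcard
  · rw [← Subgroup.index_eq_card, hKeq, ← hidx1, mul_comm]

/-- If all centralizers are normal, the class is at most 2. -/
theorem class_two {G : Type*} [Group G] [Finite G]
    (h : ∀ x : G, (Subgroup.centralizer ({x} : Set G)).index = 1 ∨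
      ((Subgroup.centralizer ({x} : Set G)).index).Prime)
    (hn : ∀ x : G, (Subgroup.centralizer ({x} : Set G)).Normal) :
    Subgroup.upperCentralSeries G 2 = ⊤ := by
  rw [eq_top_iff]
  intro a _
  rw [Subgroup.mem_upperCentralSeries_succ_iff]
  intro b
  rw [Subgroup.upperCentralSeries_one, Subgroup.mem_center_iff]
  intro z
  have hmem : ⁅a, b⁆ ∈ Subgroup.centralizer ({z} : Set G) := by
    haveI := hn z
    rcases h z with h1 | h1
    · rw [Subgroup.index_eq_one.1 h1]; trivial
    · haveI : Fact ((Subgroup.centralizer ({z} : Set G)).index).Prime := ⟨h1⟩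
      have hcyc : IsCyclic (G ⧸ Subgroup.centralizer ({z} : Set G)) :=
        isCyclic_of_prime_card (p := (Subgroup.centralizer ({z} : Set G)).index)
          (Subgroup.index_eq_card _).symm
      have hcomm := (IsCyclic.isMulCommutative (α := G ⧸ Subgroup.centralizer ({z} : Set G)))
      apply (QuotientGroup.eq_one_iff _).1
      rw [commutatorElement_def]
      simp only [QuotientGroup.mk_mul, QuotientGroup.mk_inv]
      have := hcomm.is_comm.comm ((a : G) : G ⧸ Subgroup.centralizer ({z} : Set G)) b
      rw [this]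
      group
  rw [Subgroup.mem_centralizer_singleton_iff] at hmem
  exact hmem.symm

/-- Let `G` be a finite group every conjugacy class of which has size 1 or a prime. Then either `G` is nilpotent of class at most 2, or `G/Z(G)` is a non-abelian group of order `pq` for distinct primes `p, q` (a Frobenius group of order `pq`). -/
theorem result {G : Type*} [Group G] [Finite G]
    (h : ∀ x : G, (Subgroup.centralizer ({x} : Set G)).index = 1 ∨ ((Subgroup.centralizer ({x} : Set G)).index).Prime) :
    Subgroup.upperCentralSeries G 2 = ⊤ ∨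
      ∃ p q : ℕ, p.Prime ∧ q.Prime ∧ p ≠ q ∧ Nat.card (G ⧸ Subgroup.center G) = p * q ∧ ¬ IsMulCommutative (G ⧸ Subgroup.center G) := by
  by_cases hn : ∀ x : G, (Subgroup.centralizer ({x} : Set G)).Normal
  · left; exact class_two h hn
  · right
    push Not at hn
    obtain ⟨x, hx⟩ := hn
    exact main_case h x hx

end Cfsg.Agent.S4314
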