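import Cfsg.Statements.S4325
import Mathlib
-- import your own Cfsg.Agent.* helpers here

set_option autoImplicit false
open Cfsg

namespace Cfsg.Agent.S4325

open Module


/-- A nonconstant function which takes equal values at the endpoints of `m < r - 1` given pairs. -/
theorem exists_invariant_nonconstant (r m : ℕ) (hm : m + 1 < r) (a b : Fin m → Fin r) :
    ∃ f : Fin r → ℚ, (∀ i, f (a i) = f (b i)) ∧ ¬ ∃ c : ℚ, ∀ x, f x = c := by
  let Φ : (Fin r → ℚ) →ₗ[ℚ] (Fin m → ℚ) :=
    LinearMap.pi (fun i => (LinearMap.proj (a i) : (Fin r → ℚ) →ₗ[ℚ] ℚ) -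
      (LinearMap.proj (b i) : (Fin r → ℚ) →ₗ[ℚ] ℚ))
  have h1 := LinearMap.finrank_range_add_finrank_ker Φ
  have h2 : finrank ℚ (LinearMap.range Φ) ≤ m := by
    have := Submodule.finrank_le (LinearMap.range Φ)
    rwa [Module.finrank_fin_fun] at this
  rw [Module.finrank_fin_fun] at h1
  have h3 : 2 ≤ finrank ℚ (LinearMap.ker Φ) := by omega
  by_contra hcon
  push Not at hcon
  have h4 : LinearMap.ker Φ ≤ Submodule.span ℚ {(fun _ => 1 : Fin r → ℚ)} := by
    intro f hf
    have hf' : ∀ i, f (a i) = f (b i) := by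
      intro i
      have := congrFun (LinearMap.mem_ker.1 hf) i
      simp only [Φ, LinearMap.pi_apply, LinearMap.sub_apply, LinearMap.proj_apply,
        Pi.zero_apply] at this
      linarith
    obtain ⟨c, hc⟩ := hcon f hf'
    rw [Submodule.mem_span_singleton]
    refine ⟨c, ?_⟩
    ext x
    simp [hc x]
  have h5 := Submodule.finrank_mono h4
  have h6 : finrank ℚ (Submodule.span ℚ {(fun _ => 1 : Fin r → ℚ)}) ≤ 1 := by
    have := finrank_span_le_card (R := ℚ) ({(fun _ => 1 : Fin r → ℚ)} : Set (Fin r → ℚ))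
    simpa using this
  omega




/-- `r` does not divide the order of a subgroup generated by few transpositions. -/
theorem not_dvd_card (r m : ℕ) (hr : r.Prime) (hm : m + 1 < r) (t : Fin m → Equiv.Perm (Fin r))
    (ht : ∀ i, (t i).IsSwap) : ¬ r ∣ Nat.card (Subgroup.closure (Set.range t)) := by
  intro hdvd
  haveI : Fact r.Prime := ⟨hr⟩
  obtain ⟨σ, hσ⟩ := exists_prime_orderOf_dvd_card' r hdvd
  have hσ' : orderOf (σ : Equiv.Perm (Fin r)) = r := by
    have := orderOf_injective (Subgroup.subtype _) (Subgroup.subtype_injective _) σ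
    exact this.trans hσ
  have hcyc : (σ : Equiv.Perm (Fin r)).IsCycle :=
    Equiv.Perm.isCycle_of_prime_order'' (by simpa using hr) (by simpa using hσ')
  have hsupp : (σ : Equiv.Perm (Fin r)).support = Finset.univ := by
    apply Finset.eq_univ_of_card
    rw [← hcyc.orderOf, hσ', Fintype.card_fin]
  choose a b hab using ht
  obtain ⟨f, hf, hnc⟩ := exists_invariant_nonconstant r m hm a b
  have hinv : ∀ g ∈ Subgroup.closure (Set.range t), ∀ x, f (g x) = f x := by
    intro g hg
    induction hg using Subgroup.closure_induction with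
    | mem g hg =>
      obtain ⟨i, rfl⟩ := hg
      intro x
      rw [(hab i).2]
      by_cases hxa : x = a i
      · rw [hxa, Equiv.swap_apply_left]; exact (hf i).symm
      by_cases hxb : x = b i
      · rw [hxb, Equiv.swap_apply_right]; exact hf i
      rw [Equiv.swap_apply_of_ne_of_ne hxa hxb]
    | one => intro x; rfl
    | mul g h _ _ ihg ihh => intro x; rw [Equiv.Perm.mul_apply, ihg, ihh]
    | inv g _ ih =>
      intro x
      have := ih (g⁻¹ x)
      have e : g (g⁻¹ x) = x := by rw [← Equiv.Perm.mul_apply, mul_inv_cancel, Equiv.Perm.one_apply]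
      rw [e] at this
      exact this.symm
  apply hnc
  have h0 : 0 < r := hr.pos
  refine ⟨f ⟨0, h0⟩, fun x => ?_⟩
  have hx : x ∈ (σ : Equiv.Perm (Fin r)).support := by rw [hsupp]; exact Finset.mem_univ _
  have h0' : (⟨0, h0⟩ : Fin r) ∈ (σ : Equiv.Perm (Fin r)).support := by
    rw [hsupp]; exact Finset.mem_univ _
  obtain ⟨i, hi⟩ := hcyc.sameCycle (Equiv.Perm.mem_support.1 h0') (Equiv.Perm.mem_support.1 hx)
  rw [← hi]
  exact hinv _ (Subgroup.zpow_mem _ σ.2 i) _




/-- A normal subgroup of `S_r` of order prime to `r` is trivial. -/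
theorem normal_eq_bot (r : ℕ) (N : Subgroup (Equiv.Perm (Fin r))) [N.Normal]
    (hrN : ¬ r ∣ Nat.card N) : N = ⊥ := by
  by_contra hN
  apply hrN
  obtain ⟨⟨σ, hσN⟩, hσ1⟩ := (Subgroup.ne_bot_iff_exists_ne_one).1 hN
  have hσ1' : (σ : Equiv.Perm (Fin r)) ≠ 1 := fun h => hσ1 (Subtype.ext h)
  obtain ⟨x, hx⟩ : ∃ x, (σ : Equiv.Perm (Fin r)) x ≠ x := by
    by_contra h
    push Not at h
    exact hσ1' (Equiv.ext h)
  have horb : MulAction.orbit N x = Set.univ := by
    ext z
    simp only [Set.mem_univ, iff_true]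
    by_cases hzx : z = x
    · rw [hzx]; exact MulAction.mem_orbit_self x
    · let τ : Equiv.Perm (Fin r) := Equiv.swap ((σ : Equiv.Perm (Fin r)) x) z
      have hτN : τ * σ * τ⁻¹ ∈ N := Subgroup.Normal.conj_mem inferInstance _ hσN τ
      refine ⟨⟨τ * σ * τ⁻¹, hτN⟩, ?_⟩
      show (τ * σ * τ⁻¹) x = z
      have h1 : τ⁻¹ x = x := by
        rw [Equiv.swap_inv]
        exact Equiv.swap_apply_of_ne_of_ne (Ne.symm hx) (Ne.symm hzx)
      rw [Equiv.Perm.mul_apply, h1, Equiv.Perm.mul_apply]
      exact Equiv.swap_apply_left _ _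
  have h1 : Nat.card (MulAction.orbit N x) = r := by
    rw [horb, Nat.card_congr (Equiv.Set.univ _), Nat.card_eq_fintype_card, Fintype.card_fin]
  have h2 := Nat.card_congr (MulAction.orbitProdStabilizerEquivGroup N x)
  rw [Nat.card_prod, h1] at h2
  exact ⟨_, h2.symm⟩


theorem main (r m : ℕ) (hr : r.Prime)
    (hm : m + 1 < r) (π : Set ℕ) (hπ : ∀ q : ℕ, q.Prime → q < r → q ∈ π) (hrπ : r ∉ π)
    (t : Fin m → Equiv.Perm (Fin r)) (ht : ∀ i, (t i).IsSwap) :
    Cfsg.IsPiSubgroup π (Subgroup.closure (Set.range t)) ∧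
      Cfsg.piCore π (Equiv.Perm (Fin r)) = ⊥ := by
  constructor
  · intro q hq hqd
    have h1 : q ∣ Nat.card (Equiv.Perm (Fin r)) :=
      dvd_trans hqd (Subgroup.card_subgroup_dvd_card _)
    rw [Nat.card_eq_fintype_card, Fintype.card_perm, Fintype.card_fin] at h1
    have h2 : q ≤ r := (hq.dvd_factorial).1 h1
    rcases lt_or_eq_of_le h2 with h3 | h3
    · exact hπ q hq h3
    · exfalso
      rw [h3] at hqd
      exact not_dvd_card r m hr hm t ht hqd
  · unfold Cfsg.piCore
    rw [sSup_eq_bot]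
    rintro N ⟨hNn, hN⟩
    haveI := hNn
    apply normal_eq_bot r N
    intro hd
    exact hrπ (hN r hr hd)





/-- Let r be a prime and m a natural number with m + 1 < r, and let π be a set of primes containing every prime below r but not r itself. Then in the symmetric group of degree r any m transpositions generate a π-subgroup, while O_π of the symmetric group is trivial. (So no bound on the number of conjugates that works for all π exists in the π-radical analogue of the Baer–Suzuki Theorem.) -/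
theorem result (r m : ℕ) (hr : r.Prime)
    (hm : m + 1 < r) (π : Set ℕ) (hπ : ∀ q : ℕ, q.Prime → q < r → q ∈ π) (hrπ : r ∉ π)
    (t : Fin m → Equiv.Perm (Fin r)) (ht : ∀ i, (t i).IsSwap) :
    Cfsg.IsPiSubgroup π (Subgroup.closure (Set.range t)) ∧ Cfsg.piCore π (Equiv.Perm (Fin r)) = ⊥ := by
  exact main r m hr hm π hπ hrπ t ht

end Cfsg.Agent.S4325
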