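import Cfsg.Statements.S4326

set_option autoImplicit false
open Cfsg

namespace Cfsg.Agent.S4326

open scoped Pointwise

variable {G : Type*} [Group G]

/-- the action of the cyclic group generated by `x` on the cosets of an invariant subgroup -/
@[reducible] def cosetAct (x : MulAut G) (M : Subgroup G)
    (hM : ∀ k ∈ Subgroup.zpowers x, ∀ m ∈ M, k m ∈ M) :
    MulAction (Subgroup.zpowers x) (G ⧸ M) where
  smul k := Quotient.map' (fun g => (k : MulAut G) g) (by
    intro a b hab
    rw [QuotientGroup.leftRel_apply] at hab ⊢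
    have := hM k.1 k.2 _ hab
    simpa using this)
  one_smul := by rintro ⟨g⟩; rfl
  mul_smul := by rintro k k' ⟨g⟩; rfl

theorem mem_conj_smul (g y : G) (M : Subgroup G) :
    y ∈ MulAut.conj g • M ↔ g⁻¹ * y * g ∈ M := by
  rw [Subgroup.mem_pointwise_smul_iff_inv_smul_mem]
  simp [MulAut.smul_def]

theorem result {G : Type*} [Group G] [Finite G]
    (p : ℕ) [Fact p.Prime] (x : MulAut G) (hx : ∃ k : ℕ, orderOf x = p ^ k) (M : Subgroup G)
    (hM : ∀ g : G, g ∈ M ↔ x g = g) (hp : p ∣ M.index)
    (hself : Subgroup.normalizer (M : Set G) = M ∨ Subgroup.center M = ⊥) :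
    ∃ g : G, (∀ y ∈ MulAut.conj g • M, x y ∈ MulAut.conj g • M) ∧ ∃ y ∈ MulAut.conj g • M, x y ≠ y := by
  have hpow : ∀ k ∈ Subgroup.zpowers x, ∀ m ∈ M, k m = m := by
    intro k hk m hm
    obtain ⟨n, rfl⟩ := Subgroup.mem_zpowers_iff.1 hk
    have hfix : x m = m := (hM m).1 hm
    have : ∀ j : ℕ, (x ^ j) m = m := by
      intro j
      induction j with
      | zero => simp
      | succ j ih => rw [pow_succ, MulAut.mul_apply, hfix, ih]
    have hinv : ∀ j : ℕ, (x ^ j)⁻¹ m = m := by
      intro j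
      rw [MulAut.inv_apply, MulEquiv.symm_apply_eq, this j]
    rcases Int.eq_nat_or_neg n with ⟨j, rfl | rfl⟩
    · rw [zpow_natCast]; exact this j
    · rw [zpow_neg, zpow_natCast]; exact hinv j
  have hinv' : ∀ k ∈ Subgroup.zpowers x, ∀ m ∈ M, k m ∈ M := by
    intro k hk m hm
    rw [hpow k hk m hm]; exact hm
  letI := cosetAct x M hinv'
  have hK : IsPGroup p (Subgroup.zpowers x) := by
    obtain ⟨k, hk⟩ := hx
    rw [IsPGroup.iff_card]
    exact ⟨k, by rw [Nat.card_zpowers, hk]⟩
  have hfix1 : ((1 : G) : G ⧸ M) ∈ MulAction.fixedPoints (Subgroup.zpowers x) (G ⧸ M) := by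
    intro k
    change ((((k : MulAut G) (1 : G)) : G) : G ⧸ M) = _
    rw [map_one]
  have hcard : p ∣ Nat.card (G ⧸ M) := hp
  obtain ⟨q, hq, hne⟩ := hK.exists_fixed_point_of_prime_dvd_card_of_fixed_point (G ⧸ M) hcard hfix1
  obtain ⟨g, rfl⟩ := QuotientGroup.mk_surjective q
  have hgM : g ∉ M := by
    intro hg
    apply hne
    rw [QuotientGroup.eq]
    simpa using hg
  have hm : g⁻¹ * x g ∈ M := by
    have := hq ⟨x, Subgroup.mem_zpowers x⟩
    change ((x g : G) : G ⧸ M) = (g : G ⧸ M) at this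
    have h2 := QuotientGroup.eq.1 this.symm
    exact h2
  set m := g⁻¹ * x g with hmdef
  have hxg : x g = g * m := by rw [hmdef]; group
  have hxconj : ∀ y' ∈ M, x (g * y' * g⁻¹) = g * (m * y' * m⁻¹) * g⁻¹ := by
    intro y' hy'
    rw [map_mul, map_mul, map_inv, hxg, (hM y').1 hy']
    group
  refine ⟨g, ?_, ?_⟩
  · intro y hy
    rw [mem_conj_smul] at hy ⊢
    have h1 : y = g * (g⁻¹ * y * g) * g⁻¹ := by group
    rw [h1, hxconj _ hy]
    have : g⁻¹ * (g * (m * (g⁻¹ * y * g) * m⁻¹) * g⁻¹) * g = m * (g⁻¹ * y * g) * m⁻¹ := by group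
    rw [this]
    exact M.mul_mem (M.mul_mem hm hy) (M.inv_mem hm)
  · by_contra hcon
    push Not at hcon
    rcases hself with hN | hZ
    · -- conj g • M ≤ M
      have hle : MulAut.conj g • M ≤ M := fun y hy => (hM y).2 (hcon y hy)
      have hcardeq : Nat.card (MulAut.conj g • M : Subgroup G) = Nat.card M :=
        Nat.card_congr (Subgroup.equivSMul (MulAut.conj g) M).toEquiv.symm
      have heq : MulAut.conj g • M = M :=
        Subgroup.eq_of_le_of_card_ge hle (by rw [hcardeq])
      apply hgM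
      rw [← hN]
      rw [Subgroup.mem_normalizer_iff_map_conj_eq]
      exact heq
    · have hmc : (⟨m, hm⟩ : M) ∈ Subgroup.center M := by
        rw [Subgroup.mem_center_iff]
        rintro ⟨y', hy'⟩
        have h0 : g⁻¹ * (g * y' * g⁻¹) * g = y' := by group
        have h1 := hcon (g * y' * g⁻¹) (by rw [mem_conj_smul, h0]; exact hy')
        rw [hxconj y' hy'] at h1
        have h2 : m * y' * m⁻¹ = y' := by
          have := mul_left_cancel (mul_right_cancel h1)
          exact this
        apply Subtype.ext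
        change y' * m = m * y'
        calc y' * m = (m * y' * m⁻¹) * m := by rw [h2]
          _ = m * y' := by group
      rw [hZ, Subgroup.mem_bot] at hmc
      have hm1 : m = 1 := congrArg Subtype.val hmc
      apply hgM
      rw [hM g, hxg, hm1, mul_one]

end Cfsg.Agent.S4326
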