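import Cfsg.Statements.S4331
import Mathlib
import Cfsg.Agent.Lib.Helper1.Subnormal
import Cfsg.Agent.Lib.Helper1.PCore

set_option autoImplicit false
open Cfsg

namespace Cfsg.Agent.S4331


open Cfsg.Agent.Lib.Helper1
open SemidirectProduct Multiplicative

abbrev F9 := GaloisField 3 2

/-- Fitting-type decomposition for a coprime automorphism of a finite abelian group. -/
theorem fit {V : Type*} [CommGroup V] [Finite V] (α : MulAut V) (k : ℕ) (hk : α ^ k = 1)
    (hcop : Nat.Coprime k (Nat.card V)) (n : V) :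
    ∃ n₀ w : V, α n₀ = n₀ ∧ n = n₀ * (w * (α w)⁻¹) := by
  classical
  let δ : V →* V := MonoidHom.id V / α.toMonoidHom
  have hδ : ∀ w : V, δ w = w * (α w)⁻¹ := by
    intro w
    simp [δ, div_eq_mul_inv]
  -- kernel and range are disjoint
  have hdisj : ∀ z : V, z ∈ δ.ker → z ∈ δ.range → z = 1 := by
    intro z hzk hzr
    rw [MonoidHom.mem_ker, hδ, mul_inv_eq_one] at hzk
    obtain ⟨w, hw⟩ := hzr
    rw [hδ] at hw
    have hαw : α w = w * z⁻¹ := by
      rw [← hw]; simp
    have hpow : ∀ i : ℕ, (α ^ i) w = w * (z ^ i)⁻¹ := by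
      intro i
      induction i with
      | zero => simp
      | succ i ih =>
        rw [pow_succ', MulAut.mul_apply, ih, map_mul, map_inv, map_pow, ← hzk, hαw, pow_succ',
          mul_inv, mul_assoc]
    have h1 := hpow k
    rw [hk, MulAut.one_apply] at h1
    have hzk1 : z ^ k = 1 := by
      have : (z ^ k)⁻¹ = 1 := by
        have := h1.symm
        rwa [mul_eq_left] at this
      rwa [inv_eq_one] at this
    have h2 : orderOf z ∣ k := orderOf_dvd_of_pow_eq_one hzk1
    have h3 : orderOf z ∣ Nat.card V := orderOf_dvd_natCard z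
    exact orderOf_eq_one_iff.1 (Nat.eq_one_of_dvd_coprimes hcop h2 h3)
  -- the multiplication map ker × range → V is injective, hence surjective
  let m : δ.ker × δ.range → V := fun ab => (ab.1 : V) * (ab.2 : V)
  have hminj : Function.Injective m := by
    rintro ⟨a, b⟩ ⟨a', b'⟩ hab
    simp only [m] at hab
    have h1 : (a' : V)⁻¹ * a = b' * (b : V)⁻¹ := by
      have : (a : V) = a' * b' * (b : V)⁻¹ := by rw [← hab]; simp
      rw [this]; simp [mul_assoc]
    have h2 : (a' : V)⁻¹ * a = 1 := by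
      apply hdisj
      · exact δ.ker.mul_mem (δ.ker.inv_mem a'.2) a.2
      · rw [h1]; exact δ.range.mul_mem b'.2 (δ.range.inv_mem b.2)
    have h3 : (a : V) = a' := by
      have := h2
      rw [inv_mul_eq_one] at this
      exact this.symm
    have h4 : (b : V) = b' := by
      rw [h3] at hab
      exact mul_left_cancel hab
    exact Prod.ext (Subtype.ext h3) (Subtype.ext h4)
  have hcard : Nat.card V ≤ Nat.card (δ.ker × δ.range) := by
    rw [Nat.card_prod]
    have h1 := Subgroup.card_eq_card_quotient_mul_card_subgroup δ.ker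
    have h2 : Nat.card (V ⧸ δ.ker) = Nat.card δ.range :=
      Nat.card_congr (QuotientGroup.quotientKerEquivRange δ).toEquiv
    rw [h1, h2, mul_comm]
  have hbij := Function.Injective.bijective_of_nat_card_le hminj hcard
  obtain ⟨⟨a, b⟩, hab⟩ := hbij.2 n
  obtain ⟨w, hw⟩ := b.2
  refine ⟨a, w, ?_, ?_⟩
  · have := a.2
    rw [MonoidHom.mem_ker, hδ, mul_inv_eq_one] at this
    exact this.symm
  · rw [← hab, ← hδ, hw]

/-- Restriction of subnormality to an intermediate subgroup. -/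
theorem subnormal_restrict {G : Type*} [Group G] (A L M : Subgroup G) (hLM : L ≤ M)
    (h : (A.subgroupOf M).IsSubnormal) : (A.subgroupOf L).IsSubnormal := by
  have h1 := h.comap (Subgroup.inclusion hLM)
  have h2 : (A.subgroupOf M).comap (Subgroup.inclusion hLM) = A.subgroupOf L := by
    ext x
    simp [Subgroup.mem_subgroupOf]
  rwa [h2] at h1

/-- The abstract example. -/
theorem abstract_example {V H : Type} [CommGroup V] [Finite V] [Group H] [Finite H]
    (φ : H →* MulAut V) (hV : (Nat.card V).Coprime 2) (hH : IsPGroup 2 H) (t : H)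
    (ht : orderOf t = 2) (htφ : φ t ≠ 1)
    (horb : ∀ v : V, ∃ x : H, φ t (φ x v) = φ x v) :
    ∃ (G : Type) (_ : Group G) (_ : Finite G) (A : Subgroup G), Group.IsSolvable G ∧
      Nat.card A = 2 ∧
      (∀ c : G, ∃ g : G, IsConj c g ∧ (A.subgroupOf (A ⊔ Subgroup.zpowers g)).IsSubnormal) ∧
      ¬ A ≤ Cfsg.pCore 2 G := by
  haveI : Fact (Nat.Prime 2) := ⟨Nat.prime_two⟩
  haveI : Finite (V ⋊[φ] H) := Finite.of_equiv _ (equivProd (φ := φ)).symm
  refine ⟨V ⋊[φ] H, inferInstance, inferInstance, Subgroup.zpowers (inr t), ?_, ?_, ?_, ?_⟩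
  · -- solvable
    haveI : Group.IsNilpotent H := hH.isNilpotent
    haveI : Group.IsSolvable H := IsNilpotent.to_isSolvable
    exact solvable_of_ker_le_range (inl : V →* V ⋊[φ] H) rightHom
      (range_inl_eq_ker_rightHom (φ := φ)).ge
  · rw [Nat.card_zpowers, orderOf_injective (inr : H →* V ⋊[φ] H) inr_injective t, ht]
  · intro c
    -- decomposition
    have hk2 : ∃ j : ℕ, orderOf c.right = 2 ^ j := (IsPGroup.iff_orderOf.1 hH) c.right
    obtain ⟨j, hj⟩ := hk2
    have hαk : (φ c.right) ^ (orderOf c.right) = 1 := by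
      rw [← map_pow, pow_orderOf_eq_one, map_one]
    have hcop : Nat.Coprime (orderOf c.right) (Nat.card V) := by
      rw [hj]; exact (Nat.Coprime.pow_right j hV).symm
    obtain ⟨n₀, w, hn₀, hn⟩ := fit (φ c.right) (orderOf c.right) hαk hcop c.left
    obtain ⟨x, hx⟩ := horb n₀
    set n₁ : V := φ x n₀ with hn₁
    set h₁ : H := x * c.right * x⁻¹ with hh₁
    have hh₁n₁ : φ h₁ n₁ = n₁ := by
      rw [hh₁, hn₁, map_mul, map_mul, MulAut.mul_apply, MulAut.mul_apply, map_inv,
        MulAut.inv_apply_self, hn₀]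
    refine ⟨inl n₁ * inr h₁, ?_, ?_⟩
    · rw [isConj_iff]
      refine ⟨inr x * inl w⁻¹, ?_⟩
      ext
      · simp only [mul_left, mul_right, inv_left, inv_right, left_inl, right_inl, left_inr,
          right_inr, map_one, map_inv, mul_one, one_mul, MulAut.one_apply, inv_one, map_mul,
          MulAut.mul_apply, inv_inv, mul_inv_rev]
        rw [← map_inv, ← map_mul, ← map_mul, hn₁]
        congr 1
        rw [hn]
        have : ∀ a b d : V, a⁻¹ * (b * (a * d⁻¹)) * d = b := by
          intro a b d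
          rw [mul_comm a d⁻¹, ← mul_assoc b, mul_comm (b * d⁻¹) a, ← mul_assoc, inv_mul_cancel,
            one_mul, inv_mul_cancel_right]
        exact this _ _ _
      · simp [hh₁]
    · -- subnormality
      obtain ⟨S, hSdef⟩ : ∃ S : Subgroup H, S = (MulAction.stabilizer (MulAut V) n₁).comap φ :=
        ⟨_, rfl⟩
      have hSmem : ∀ y : H, y ∈ S ↔ φ y n₁ = n₁ := by
        intro y
        rw [hSdef, Subgroup.mem_comap, MulAction.mem_stabilizer_iff, MulAut.smul_def]
      have htS : t ∈ S := (hSmem t).2 hx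
      have hh₁S : h₁ ∈ S := (hSmem h₁).2 hh₁n₁
      obtain ⟨Z, hZdef⟩ : ∃ Z : Subgroup V, Z = Subgroup.zpowers n₁ := ⟨_, rfl⟩
      have hZfix : ∀ z ∈ Z, ∀ y ∈ S, φ y z = z := by
        intro z hz y hy
        rw [hZdef] at hz
        obtain ⟨i, rfl⟩ := Subgroup.mem_zpowers_iff.1 hz
        rw [map_zpow, (hSmem y).1 hy]
      let f₁ : Z →* V ⋊[φ] H := (inl : V →* V ⋊[φ] H).comp Z.subtype
      let f₂ : S →* V ⋊[φ] H := (inr : H →* V ⋊[φ] H).comp S.subtype
      have hcomm : ∀ (z : Z) (y : S), Commute (f₁ z) (f₂ y) := by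
        intro z y
        show inl (z : V) * inr (y : H) = inr (y : H) * inl (z : V)
        have h1 := inl_aut (φ := φ) (y : H) (z : V)
        rw [hZfix z z.2 y y.2] at h1
        conv_lhs => rw [h1]
        rw [map_inv, inv_mul_cancel_right]
      let ψ : Z × S →* V ⋊[φ] H := MonoidHom.noncommCoprod f₁ f₂ hcomm
      have hψ : ∀ (z : Z) (y : S), ψ (z, y) = inl (z : V) * inr (y : H) := by
        intro z y
        rfl
      haveI : Group.IsNilpotent S := (hH.to_subgroup S).isNilpotent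
      have hnilM : Group.IsNilpotent ψ.range :=
        nilpotent_of_surjective ψ.rangeRestrict ψ.rangeRestrict_surjective
      have hsub := (isNilpotent_iff_forall_isSubnormal.1 hnilM)
        ((Subgroup.zpowers (inr t : V ⋊[φ] H)).subgroupOf ψ.range)
      have hLM : Subgroup.zpowers (inr t : V ⋊[φ] H) ⊔ Subgroup.zpowers (inl n₁ * inr h₁) ≤
          ψ.range := by
        apply sup_le
        · rw [Subgroup.zpowers_le]
          refine ⟨(1, ⟨t, htS⟩), ?_⟩
          rw [hψ]; simp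
        · rw [Subgroup.zpowers_le]
          refine ⟨(⟨n₁, hZdef ▸ Subgroup.mem_zpowers n₁⟩, ⟨h₁, hh₁S⟩), ?_⟩
          rw [hψ]
      exact subnormal_restrict _ _ _ hLM hsub
  · -- not in the 2-core
    intro hle
    have haO : (inr t : V ⋊[φ] H) ∈ Cfsg.pCore 2 (V ⋊[φ] H) := hle (Subgroup.mem_zpowers _)
    have hOn : (Cfsg.pCore 2 (V ⋊[φ] H)).Normal := pCore_normal 2
    have hOp : IsPGroup 2 (Cfsg.pCore 2 (V ⋊[φ] H)) := pCore_isPGroup 2
    apply htφ
    ext v
    rw [MulAut.one_apply]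
    have he : (inl (φ t v * v⁻¹) : V ⋊[φ] H) ∈ Cfsg.pCore 2 (V ⋊[φ] H) := by
      have h1 : (inl (φ t v * v⁻¹) : V ⋊[φ] H) =
          inr t * (inl v * (inr t)⁻¹ * (inl v)⁻¹) := by
        rw [map_mul, inl_aut, map_inv, map_inv]
        group
      rw [h1]
      exact (Cfsg.pCore 2 (V ⋊[φ] H)).mul_mem haO
        (hOn.conj_mem _ ((Cfsg.pCore 2 (V ⋊[φ] H)).inv_mem haO) _)
    obtain ⟨k, hk⟩ := (IsPGroup.iff_orderOf.1 hOp) ⟨_, he⟩
    rw [Subgroup.orderOf_mk, orderOf_injective (inl : V →* V ⋊[φ] H) inl_injective] at hk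
    have h2 : orderOf (φ t v * v⁻¹) ∣ Nat.card V := orderOf_dvd_natCard _
    have h3 : orderOf (φ t v * v⁻¹) = 1 := by
      have hc : Nat.Coprime (orderOf (φ t v * v⁻¹)) (Nat.card V) := by
        rw [hk]; exact (Nat.Coprime.pow_right k hV).symm
      exact Nat.Coprime.eq_one_of_dvd hc h2
    rw [orderOf_eq_one_iff, mul_inv_eq_one] at h3
    exact h3

theorem card_F9 : Nat.card F9 = 9 := by
  rw [GaloisField.card 3 2 (by norm_num)]; norm_num

theorem pow_nine (x : F9) : x ^ 9 = x := by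
  haveI : Fintype F9 := Fintype.ofFinite F9
  have h := FiniteField.pow_card x
  rwa [← Nat.card_eq_fintype_card, card_F9] at h

theorem pow_nine_pow (j : ℕ) (x : F9) : x ^ (9 ^ j) = x := by
  haveI : Fintype F9 := Fintype.ofFinite F9
  have h := FiniteField.pow_card_pow j x
  rwa [← Nat.card_eq_fintype_card, card_F9] at h

theorem units_pow_eight (u : F9ˣ) : u ^ 8 = 1 := by
  have h := pow_card_eq_one' (G := F9ˣ) (x := u)
  rwa [Nat.card_units, card_F9] at h

theorem exists_frob_ne : ∃ x : F9, x ^ 3 ≠ x := by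
  obtain ⟨g, hg⟩ := IsCyclic.exists_ofOrder_eq_natCard (α := F9ˣ)
  rw [Nat.card_units, card_F9] at hg
  refine ⟨(g : F9), ?_⟩
  intro h
  have h1 : g ^ 3 = g := by
    apply Units.ext
    rw [Units.val_pow_eq_pow_val]; exact h
  have h2 : g ^ 2 = 1 := by
    have : g ^ 2 * g = 1 * g := by rw [one_mul, ← pow_succ]; exact h1
    exact mul_right_cancel this
  have h3 := orderOf_dvd_of_pow_eq_one h2
  rw [hg] at h3
  omega

/-- The submonoid of semilinear maps `x ↦ u * x ^ (3 ^ j)`. -/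
def M₀ : Submonoid (MulAut (Multiplicative F9)) where
  carrier := {f | ∃ (u : F9ˣ) (j : ℕ), ∀ x : F9, f (ofAdd x) = ofAdd ((u : F9) * x ^ (3 ^ j))}
  one_mem' := ⟨1, 0, fun x => by simp⟩
  mul_mem' := by
    rintro f g ⟨u, j, hf⟩ ⟨u', j', hg⟩
    refine ⟨u * u' ^ (3 ^ j), j' + j, fun x => ?_⟩
    rw [MulAut.mul_apply, hg, hf, mul_pow, ← pow_mul, ← pow_add, Units.val_mul,
      Units.val_pow_eq_pow_val, mul_assoc]

instance finiteMulAutF9 : Finite (MulAut (Multiplicative F9)) :=
  Finite.of_injective (fun f => (f : Multiplicative F9 → Multiplicative F9))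
    DFunLike.coe_injective

/-- The group `ΓL(1, 9)`. -/
def H₀ : Subgroup (MulAut (Multiplicative F9)) :=
  { M₀ with
    inv_mem' := by
      intro f hf
      have h1 : f⁻¹ = f ^ (orderOf f - 1) := by
        apply inv_eq_of_mul_eq_one_right
        rw [← pow_succ', Nat.sub_add_cancel (orderOf_pos f), pow_orderOf_eq_one]
      rw [h1]
      exact M₀.pow_mem hf _ }

theorem mem_H₀ (f : MulAut (Multiplicative F9)) : f ∈ H₀ ↔
    ∃ (u : F9ˣ) (j : ℕ), ∀ x : F9, f (ofAdd x) = ofAdd ((u : F9) * x ^ (3 ^ j)) := Iff.rfl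

theorem H₀_pow (f : MulAut (Multiplicative F9)) (hf : f ∈ H₀) : f ^ 16 = 1 := by
  obtain ⟨u, j, hf⟩ := hf
  have h2 : ∀ x : F9, (f ^ 2) (ofAdd x) = ofAdd (((u ^ (1 + 3 ^ j) : F9ˣ) : F9) * x) := by
    intro x
    rw [pow_two, MulAut.mul_apply, hf, hf, mul_pow, ← pow_mul, ← mul_assoc, ← pow_succ',
      Units.val_pow_eq_pow_val, add_comm 1]
    congr 2
    rw [← pow_add, ← two_mul, pow_mul]
    norm_num
    exact pow_nine_pow j x
  have h3 : ∀ (i : ℕ) (x : F9), ((f ^ 2) ^ i) (ofAdd x) =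
      ofAdd ((((u ^ (1 + 3 ^ j)) ^ i : F9ˣ) : F9) * x) := by
    intro i
    induction i with
    | zero => intro x; simp
    | succ i ih =>
      intro x
      rw [pow_succ, MulAut.mul_apply, h2, ih, ← mul_assoc, ← Units.val_mul, ← pow_succ]
  ext v
  obtain ⟨x, rfl⟩ : ∃ x : F9, ofAdd x = v := ⟨toAdd v, rfl⟩
  have : f ^ 16 = (f ^ 2) ^ 8 := by rw [← pow_mul]
  rw [this, h3, units_pow_eight]
  simp

/-- The Frobenius automorphism. -/
noncomputable def σ₀ : MulAut (Multiplicative F9) :=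
  AddEquiv.toMultiplicative (frobeniusEquiv F9 3).toAddEquiv

theorem σ₀_apply (x : F9) : σ₀ (ofAdd x) = ofAdd (x ^ 3) := by
  show ofAdd (frobeniusEquiv F9 3 x) = ofAdd (x ^ 3)
  simp [frobeniusEquiv_apply, frobenius_def]

/-- Multiplication by a unit. -/
noncomputable def μ₀ (u : F9ˣ) : MulAut (Multiplicative F9) :=
  AddEquiv.toMultiplicative (DistribMulAction.toAddEquiv F9 u)

theorem μ₀_apply (u : F9ˣ) (x : F9) : μ₀ u (ofAdd x) = ofAdd ((u : F9) * x) := by
  show ofAdd (DistribMulAction.toAddEquiv F9 u x) = ofAdd ((u : F9) * x)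
  simp [Units.smul_def]

theorem σ₀_mem : σ₀ ∈ H₀ := ⟨1, 1, fun x => by rw [σ₀_apply]; simp⟩

theorem μ₀_mem (u : F9ˣ) : μ₀ u ∈ H₀ := ⟨u, 0, fun x => by rw [μ₀_apply]; simp⟩

theorem σ₀_ne_one : σ₀ ≠ 1 := by
  obtain ⟨x, hx⟩ := exists_frob_ne
  intro h
  apply hx
  have := σ₀_apply x
  rw [h, MulAut.one_apply] at this
  exact (ofAdd.injective this).symm

theorem σ₀_sq : σ₀ ^ 2 = 1 := by
  ext v
  obtain ⟨x, rfl⟩ : ∃ x : F9, ofAdd x = v := ⟨toAdd v, rfl⟩
  rw [pow_two, MulAut.mul_apply, σ₀_apply, σ₀_apply, MulAut.one_apply, ← pow_mul]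
  have := pow_nine_pow 1 x
  rw [pow_one] at this
  norm_num
  exact this

theorem final : ∃ (G : Type) (_ : Group G) (_ : Finite G) (A : Subgroup G), Group.IsSolvable G ∧
      Nat.card A = 2 ∧
      (∀ c : G, ∃ g : G, IsConj c g ∧ (A.subgroupOf (A ⊔ Subgroup.zpowers g)).IsSubnormal) ∧
      ¬ A ≤ Cfsg.pCore 2 G := by
  apply abstract_example (V := Multiplicative F9) (H := H₀) H₀.subtype ?_ ?_ ⟨σ₀, σ₀_mem⟩ ?_ ?_ ?_
  · rw [Nat.card_congr Multiplicative.toAdd, card_F9]; norm_num
  · intro f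
    refine ⟨4, ?_⟩
    apply Subtype.ext
    rw [Subgroup.coe_pow]
    have := H₀_pow f f.2
    norm_num
    exact this
  · apply orderOf_eq_prime
    · apply Subtype.ext
      rw [Subgroup.coe_pow]
      exact σ₀_sq
    · intro h
      exact σ₀_ne_one (congrArg Subtype.val h)
  · exact σ₀_ne_one
  · intro v
    obtain ⟨a, rfl⟩ : ∃ a : F9, ofAdd a = v := ⟨toAdd v, rfl⟩
    by_cases ha : a = 0
    · refine ⟨1, ?_⟩
      simp only [map_one, MulAut.one_apply, Subgroup.coe_subtype]
      rw [ha, σ₀_apply]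
      simp
    · refine ⟨⟨μ₀ (Units.mk0 a ha)⁻¹, μ₀_mem _⟩, ?_⟩
      simp only [Subgroup.coe_subtype]
      rw [μ₀_apply, σ₀_apply]
      simp [ha]

/-- There is a finite solvable group G with a subgroup A of order 2 such that every conjugacy class of G contains an element g for which A is subnormal in the subgroup generated by A and g, and yet A is not contained in O_2(G). (So the corresponding criteria for odd primes fail at the prime 2, even for solvable groups.) -/
theorem result :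
    ∃ (G : Type) (_ : Group G) (_ : Finite G) (A : Subgroup G), Group.IsSolvable G ∧ Nat.card A = 2 ∧
      (∀ c : G, ∃ g : G, IsConj c g ∧ (A.subgroupOf (A ⊔ Subgroup.zpowers g)).IsSubnormal) ∧
      ¬ A ≤ Cfsg.pCore 2 G :=
  final

end Cfsg.Agent.S4331
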