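import Cfsg.Statements.S4333
import Mathlib
import Cfsg.Agent.Lib.Helper1.WielandtCriterion
-- import your own Cfsg.Agent.* helpers here

set_option autoImplicit false
open Pointwise
open Cfsg

namespace Cfsg.Agent.S4333

open Cfsg.Agent.Lib.Helper1

universe u

/-- the sharpened hypothesis is inherited by conjugates -/
theorem hyp_conj {G : Type u} [Group G] {A : Subgroup G}
    (h : ∀ a ∈ A, ∀ g : G, (A.subgroupOf (A ⊔ MulAut.conj (g⁻¹ * a * g) • A)).IsSubnormal) (g : G) :
    ∀ b ∈ MulAut.conj g • A, ∀ x : G, ((MulAut.conj g • A).subgroupOf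
      (MulAut.conj g • A ⊔ MulAut.conj (x⁻¹ * b * x) • MulAut.conj g • A)).IsSubnormal := by
  intro b hb x
  rw [mem_conj_smul_iff] at hb
  have e : MulAut.conj g • A ⊔ MulAut.conj (x⁻¹ * b * x) • MulAut.conj g • A =
      MulAut.conj g • (A ⊔ MulAut.conj ((g⁻¹ * x * g)⁻¹ * (g⁻¹ * b * g) * (g⁻¹ * x * g)) • A) := by
    rw [Subgroup.smul_sup, ← mul_smul, ← mul_smul, ← map_mul, ← map_mul]
    congr 3
    group
  rw [e, isSubnormal_subgroupOf_conj_smul_iff]
  exact h _ hb _

theorem main_aux : ∀ (n : ℕ) (G : Type u) [Group G] [Finite G], Nat.card G = n →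
    ∀ A : Subgroup G,
      (∀ a ∈ A, ∀ g : G, (A.subgroupOf (A ⊔ MulAut.conj (g⁻¹ * a * g) • A)).IsSubnormal) →
    A.IsSubnormal := by
  intro n
  induction n using Nat.strong_induction_on with
  | _ n ih =>
    intro G _ _ hn A h
    by_contra hAsn
    -- relative induction hypothesis
    have ihrel : ∀ V : Subgroup G, V ≠ ⊤ → ∀ B : Subgroup G, B ≤ V →
        (∀ b ∈ B, ∀ v ∈ V, (B.subgroupOf (B ⊔ MulAut.conj (v⁻¹ * b * v) • B)).IsSubnormal) →
        (B.subgroupOf V).IsSubnormal := by
      intro V hV B hBV hB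
      have hlt : Nat.card V < n := hn ▸ card_lt_of_ne_top V hV
      apply ih _ hlt V rfl
      intro b hb v
      have hbB : (b : G) ∈ B := hb
      have hw : (v : G)⁻¹ * (b : G) * (v : G) ∈ V := V.mul_mem (V.mul_mem (V.inv_mem v.2) b.2) v.2
      have hvB : MulAut.conj ((v : G)⁻¹ * (b : G) * (v : G)) • B ≤ V := by
        calc MulAut.conj ((v : G)⁻¹ * (b : G) * (v : G)) • B
            ≤ MulAut.conj ((v : G)⁻¹ * (b : G) * (v : G)) • V :=
              Subgroup.pointwise_smul_le_pointwise_smul_iff.mpr hBV
          _ = V := Subgroup.conj_smul_eq_self_of_mem hw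
      have := subgroupOf_conj_smul V (v⁻¹ * b * v) B
      rw [this]
      have e : ((v⁻¹ * b * v : V) : G) = (v : G)⁻¹ * (b : G) * (v : G) := by simp
      rw [e, ← Subgroup.subgroupOf_sup hBV hvB,
        isSubnormal_subgroupOf_subgroupOf_iff V _ _ hBV (sup_le hBV hvB)]
      exact hB b hbB v v.2
    set U : Set (Subgroup G) := {V | A ≤ V ∧ V ≠ ⊤} with hU
    set S : Subgroup G → Set (Subgroup G) := fun V =>
      {B | (∃ g : G, B = MulAut.conj g • A) ∧ B ≤ V ∧ (B.subgroupOf V).IsSubnormal} with hS
    have hAtop : A ≠ ⊤ := by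
      intro h'
      apply hAsn
      rw [h']; exact Subgroup.IsSubnormal.top
    have hUne : U.Nonempty := ⟨A, le_rfl, hAtop⟩
    have hmemS : ∀ V ∈ U, ∀ B : Subgroup G, (∃ g : G, B = MulAut.conj g • A) → B ≤ V → B ∈ S V := by
      rintro V ⟨-, hVtop⟩ _ ⟨g, rfl⟩ hBV
      refine ⟨⟨g, rfl⟩, hBV, ?_⟩
      apply ihrel V hVtop _ hBV
      intro b hb v _
      exact hyp_conj h g b hb v
    have hAS : ∀ V ∈ U, A ∈ S V := by
      intro V hV
      apply hmemS V hV A ⟨1, by simp⟩ hV.1
    have h2 : ∀ V ∈ U, ∀ W ∈ U, ∀ B ∈ S W, B ≤ V → B ∈ S V := by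
      intro V hV W _ B hB hBV
      exact hmemS V hV B hB.1 hBV
    have h3 : ∀ V ∈ U, ∀ W ∈ U, ∃ X ∈ U,
        Subgroup.normalizer ((sSup (S V ∩ S W) : Subgroup G) : Set G) ≤ X := by
      intro V hV W hW
      set D : Subgroup G := sSup (S V ∩ S W) with hD
      have hAD : A ≤ D := le_sSup ⟨hAS V hV, hAS W hW⟩
      have hDV : D ≤ V := sSup_le (fun B hB => hB.1.2.1)
      refine ⟨Subgroup.normalizer (D : Set G), ⟨hAD.trans Subgroup.le_normalizer, ?_⟩, le_rfl⟩
      intro htop
      have hDn : D.Normal := Subgroup.normalizer_eq_top_iff.mp htop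
      apply hAsn
      exact Subgroup.IsSubnormal.trans hAD
        (isSubnormal_subgroupOf_of_le hDV (hAS V hV).2.2) hDn.isSubnormal
    obtain ⟨M, hMU, hMmax⟩ := zipper_unique_maximal A U hUne S (fun V B => Iff.rfl) h2 h3
    -- conjugates of `A` by conjugates of elements of `A` lie in `M`
    have hconjM : ∀ a ∈ A, ∀ x : G, MulAut.conj (x⁻¹ * a * x) • A ≤ M := by
      intro a ha x
      have hT : A ⊔ MulAut.conj (x⁻¹ * a * x) • A ∈ U := by
        refine ⟨le_sup_left, ?_⟩
        intro htop
        apply hAsn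
        have := h a ha x
        rw [htop] at this
        exact isSubnormal_of_subgroupOf_top this
      exact le_sup_right.trans (hMmax _ hT)
    -- these elements normalize `M`
    have hnorm : ∀ a ∈ A, ∀ x : G, x⁻¹ * a * x ∈ Subgroup.normalizer (M : Set G) := by
      intro a ha x
      set g := x⁻¹ * a * x with hg
      have hV : MulAut.conj g⁻¹ • M ∈ U := by
        refine ⟨?_, ?_⟩
        · intro y hy
          rw [mem_conj_smul_iff, inv_inv]
          apply hconjM a ha x
          rw [mem_conj_smul_iff]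
          have e : g⁻¹ * (g * y * g⁻¹) * g = y := by group
          rw [e]; exact hy
        · intro htop
          apply hMU.2
          rw [eq_top_iff]
          intro y _
          have h1 : g⁻¹ * y * g ∈ MulAut.conj g⁻¹ • M := by rw [htop]; exact Subgroup.mem_top _
          rw [mem_conj_smul_iff, inv_inv] at h1
          have e : g * (g⁻¹ * y * g) * g⁻¹ = y := by group
          rwa [e] at h1
      have hle : MulAut.conj g⁻¹ • M ≤ M := hMmax _ hV
      have hginv : g⁻¹ ∈ Subgroup.normalizer (M : Set G) := by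
        apply Subgroup.mem_normalizer_fintype
        intro y hy
        apply hle
        rw [mem_conj_smul_iff, inv_inv]
        have e : g * (g⁻¹ * y * g) * g⁻¹ = y := by group
        rw [e]; exact hy
      have := inv_mem hginv
      rwa [inv_inv] at this
    set N : Subgroup G := ⨆ g : G, MulAut.conj g • A with hN
    have hNnorm : N ≤ Subgroup.normalizer (M : Set G) := by
      apply iSup_le
      intro g y hy
      rw [mem_conj_smul_iff] at hy
      have := hnorm _ hy g⁻¹
      rw [inv_inv] at this
      have e : g * (g⁻¹ * y * g) * g⁻¹ = y := by group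
      rwa [e] at this
    have hAN : A ≤ N := by
      have := le_iSup (fun g : G => MulAut.conj g • A) 1
      simpa using this
    have hNn : N.Normal := by
      constructor
      intro x hx g
      have h1 : MulAut.conj g • N ≤ N := by
        rw [hN, conj_smul_iSup]
        apply iSup_le
        intro g'
        rw [← mul_smul, ← map_mul]
        exact le_iSup (fun g : G => MulAut.conj g • A) (g * g')
      apply h1
      rw [mem_conj_smul_iff]
      have e : g⁻¹ * (g * x * g⁻¹) * g = x := by group
      rw [e]; exact hx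
    by_cases hMn : Subgroup.normalizer (M : Set G) = ⊤
    · have hMnormal : M.Normal := Subgroup.normalizer_eq_top_iff.mp hMn
      apply hAsn
      exact Subgroup.IsSubnormal.trans hMU.1 (hAS M hMU).2.2 hMnormal.isSubnormal
    · have hNM : N ≤ M := by
        refine hNnorm.trans (hMmax _ ⟨hMU.1.trans Subgroup.le_normalizer, hMn⟩)
      have hNU : N ∈ U := ⟨hAN, fun htop => hMU.2 (top_le_iff.mp (htop ▸ hNM))⟩
      apply hAsn
      exact Subgroup.IsSubnormal.trans hAN (hAS N hNU).2.2 hNn.isSubnormal




/-- Let A be a subgroup of a finite group G. If A is subnormal in the subgroup generated by A and its conjugate by g⁻¹ a g, for every a ∈ A and every g ∈ G, then A is subnormal in G. (A sharpening of Wielandt's subnormality criterion: only conjugates of A by conjugates of elements of A are needed.) -/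
theorem result {G : Type*} [Group G] [Finite G]
    (A : Subgroup G)
    (h : ∀ a ∈ A, ∀ g : G, (A.subgroupOf (A ⊔ MulAut.conj (g⁻¹ * a * g) • A)).IsSubnormal) :
    A.IsSubnormal := by
  exact main_aux _ G rfl A h

end Cfsg.Agent.S4333
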