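import Cfsg.Statements.S4341
import Mathlib
import Cfsg.Agent.Lib.Helper3.SZRel

set_option autoImplicit false
open Cfsg

namespace Cfsg.Agent.S4341

open MulAction
open scoped Pointwise
open Cfsg.Agent.Lib.Helper3

section general
variable {G : Type*} [Group G]

theorem relIndex_eq_card_orbit {X : Type*} [MulAction G X] (H : Subgroup G) (x : X) :
    (stabilizer G x).relIndex H = Nat.card (orbit H x) := by
  have h1 : stabilizer H x = (stabilizer G x).subgroupOf H := by
    ext h
    simp [mem_stabilizer_iff, Subgroup.mem_subgroupOf]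
    rfl
  rw [Nat.card_congr (orbitEquivQuotientStabilizer H x), h1]
  rfl

/-- The number of Sylow subgroups of a quotient. -/
theorem card_sylow_quotient [Finite G] {p : ℕ} [Fact p.Prime] (K : Subgroup G) [K.Normal]
    (P : Sylow p G) :
    Nat.card (Sylow p (G ⧸ K)) =
      (Subgroup.normalizer (((P : Subgroup G) ⊔ K : Subgroup G) : Set G)).index := by
  have hs := QuotientGroup.mk'_surjective K
  have e : Nat.card (Sylow p (G ⧸ K)) =
      (Subgroup.normalizer (((P.mapSurjective hs : Sylow p (G ⧸ K)) : Subgroup (G ⧸ K)) : Set (G ⧸ K))).index :=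
    Sylow.card_eq_index_normalizer (P.mapSurjective hs)
  rw [e, ← Subgroup.index_comap_of_surjective _ hs, Subgroup.comap_normalizer_eq_of_surjective _ hs,
    Sylow.coe_mapSurjective, Subgroup.comap_map_eq, QuotientGroup.ker_mk']

/-- A normal `p`-subgroup lies in every Sylow `p`-subgroup. -/
theorem normal_le_sylow [Finite G] {p : ℕ} [Fact p.Prime] (D : Subgroup G) [D.Normal]
    (hD : IsPGroup p D) (Q : Sylow p G) : D ≤ (Q : Subgroup G) := by
  obtain ⟨R, hR⟩ := hD.exists_le_sylow
  obtain ⟨g, rfl⟩ := MulAction.exists_smul_eq G R Q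
  intro x hx
  show x ∈ ((g • R : Sylow p G) : Subgroup G)
  rw [Sylow.coe_subgroup_smul, Subgroup.mem_pointwise_smul_iff_inv_smul_mem]
  apply hR
  have := Subgroup.Normal.conj_mem (inferInstance : D.Normal) x hx g⁻¹
  simpa [MulAut.smul_def] using this

/-- Factoring out a normal `p`-subgroup does not change the number of Sylow `p`-subgroups. -/
theorem card_sylow_quotient_pgroup [Finite G] {p : ℕ} [Fact p.Prime] (D : Subgroup G) [D.Normal]
    (hD : IsPGroup p D) : Nat.card (Sylow p (G ⧸ D)) = Nat.card (Sylow p G) := by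
  let Q : Sylow p G := default
  rw [card_sylow_quotient D Q, sup_of_le_left (normal_le_sylow D hD Q)]
  have e : Nat.card (Sylow p G) =
      (Subgroup.normalizer (((Q : Subgroup G)) : Set G)).index := Sylow.card_eq_index_normalizer Q
  rw [e]

/-- Sylow subgroups of `G` contained in a subgroup `M` are conjugate under `M`. -/
theorem exists_smul_eq_of_le [Finite G] {p : ℕ} [Fact p.Prime] (M : Subgroup G) (P Q : Sylow p G)
    (hP : (P : Subgroup G) ≤ M) (hQ : (Q : Subgroup G) ≤ M) : ∃ m : M, (m : G) • P = Q := by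
  obtain ⟨m, hm⟩ := MulAction.exists_smul_eq M (P.subtype hP) (Q.subtype hQ)
  refine ⟨m, ?_⟩
  have hm' : MulAut.conj m • ((P : Subgroup G).subgroupOf M) = (Q : Subgroup G).subgroupOf M := by
    have := congrArg (fun S : Sylow p M => (S : Subgroup M)) hm
    simpa [Sylow.coe_subgroup_smul, Sylow.coe_subtype] using this
  apply Sylow.ext
  ext x
  rw [Sylow.coe_subgroup_smul, Subgroup.mem_pointwise_smul_iff_inv_smul_mem, MulAut.smul_def]
  simp only [map_inv, MulAut.conj_inv_apply]
  constructor
  · intro hx
    have hxM : x ∈ M := by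
      have h1 := hP hx
      have : x = (m : G) * ((m : G)⁻¹ * x * (m : G)) * (m : G)⁻¹ := by group
      rw [this]
      exact M.mul_mem (M.mul_mem m.2 h1) (M.inv_mem m.2)
    have h2 : (⟨x, hxM⟩ : M) ∈ MulAut.conj m • ((P : Subgroup G).subgroupOf M) := by
      rw [Subgroup.mem_pointwise_smul_iff_inv_smul_mem, MulAut.smul_def]
      simp only [map_inv, MulAut.conj_inv_apply, Subgroup.mem_subgroupOf]
      exact hx
    rw [hm'] at h2
    exact h2
  · intro hx
    have hxM : x ∈ M := hQ hx
    have h2 : (⟨x, hxM⟩ : M) ∈ (Q : Subgroup G).subgroupOf M := hx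
    rw [← hm', Subgroup.mem_pointwise_smul_iff_inv_smul_mem, MulAut.smul_def] at h2
    simp only [map_inv, MulAut.conj_inv_apply, Subgroup.mem_subgroupOf] at h2
    exact h2

/-- `|K| = |K : H| * |H|` for `H ≤ K`. -/
theorem relIndex_mul_card' {H K : Subgroup G} (h : H ≤ K) :
    H.relIndex K * Nat.card H = Nat.card K := by
  have := Subgroup.relIndex_mul_relIndex ⊥ H K bot_le h
  rw [Subgroup.relIndex_bot_left, Subgroup.relIndex_bot_left] at this
  rw [mul_comm]; exact this

end general

/-- Let K be a normal subgroup of a finite group G, p a prime and P a Sylow p-subgroup of G; let N be the normalizer of P ∩ K inside the subgroup PK. Then the number of Sylow p-subgroups of G equals the product of the numbers of Sylow p-subgroups of G/K, of K, and of N/(P ∩ K). (The normality of P ∩ K in N, which always holds, is assumed as a hypothesis so that the quotient can be formed.) -/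
theorem result {G : Type*} [Group G] [Finite G]
    (p : ℕ) [Fact p.Prime] (K : Subgroup G) [K.Normal] (P : Sylow p G) (N : Subgroup G)
    (hN : N = ((P : Subgroup G) ⊔ K) ⊓ Subgroup.normalizer (((P : Subgroup G) ⊓ K : Subgroup G) : Set G))
    [hn : (((P : Subgroup G) ⊓ K).subgroupOf N).Normal] :
    Nat.card (Sylow p G) =
      Nat.card (Sylow p (G ⧸ K)) * Nat.card (Sylow p K) * Nat.card (Sylow p (N ⧸ ((P : Subgroup G) ⊓ K).subgroupOf N)) := by
  classical
  set D : Subgroup G := (P : Subgroup G) ⊓ K with hD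
  set M : Subgroup G := (P : Subgroup G) ⊔ K with hM
  set B : Subgroup G := Subgroup.normalizer ((P : Subgroup G) : Set G) with hB
  set A : Subgroup G := Subgroup.normalizer (M : Set G) with hA
  set E : Subgroup G := Subgroup.normalizer (D : Set G) with hE
  have hPM : (P : Subgroup G) ≤ M := le_sup_left
  have hKM : K ≤ M := le_sup_right
  have hDK : D ≤ K := inf_le_right
  have hDP : D ≤ (P : Subgroup G) := inf_le_left
  have hNM : N ≤ M := by rw [hN]; exact inf_le_left
  have hNE : N ≤ E := by rw [hN]; exact inf_le_right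
  -- `B ≤ A`
  have hBA : B ≤ A := by
    intro g hg
    rw [hA, Subgroup.mem_normalizer_iff]
    intro x
    have hgP : ∀ y, y ∈ (P : Subgroup G) ↔ g * y * g⁻¹ ∈ (P : Subgroup G) :=
      Subgroup.mem_normalizer_iff.1 hg
    constructor
    · intro hx
      obtain ⟨y, hy, z, hz, rfl⟩ := Subgroup.mem_sup_of_normal_right.1 hx
      have : g * (y * z) * g⁻¹ = (g * y * g⁻¹) * (g * z * g⁻¹) := by group
      rw [this]
      exact M.mul_mem (hPM ((hgP y).1 hy))
        (hKM (Subgroup.Normal.conj_mem (inferInstance : K.Normal) z hz g))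
    · intro hx
      obtain ⟨y, hy, z, hz, hyz⟩ := Subgroup.mem_sup_of_normal_right.1 hx
      have : x = (g⁻¹ * y * g) * (g⁻¹ * z * g) := by
        rw [show (g⁻¹ * y * g) * (g⁻¹ * z * g) = g⁻¹ * (y * z) * g by group, hyz]; group
      rw [this]
      refine M.mul_mem (hPM ?_) (hKM ?_)
      · rw [hgP]
        have : g * (g⁻¹ * y * g) * g⁻¹ = y := by group
        rwa [this]
      · have := Subgroup.Normal.conj_mem (inferInstance : K.Normal) z hz g⁻¹
        simpa using this
  -- `P ≤ E`
  have hPE : (P : Subgroup G) ≤ E := by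
    intro g hg
    rw [hE, Subgroup.mem_normalizer_iff]
    intro x
    constructor
    · intro hx
      obtain ⟨h1, h2⟩ := Subgroup.mem_inf.1 hx
      exact Subgroup.mem_inf.2 ⟨(P : Subgroup G).mul_mem ((P : Subgroup G).mul_mem hg h1)
        ((P : Subgroup G).inv_mem hg), Subgroup.Normal.conj_mem (inferInstance : K.Normal) x h2 g⟩
    · intro hx
      obtain ⟨h1, h2⟩ := Subgroup.mem_inf.1 hx
      refine Subgroup.mem_inf.2 ⟨?_, ?_⟩
      · have := (P : Subgroup G).mul_mem ((P : Subgroup G).mul_mem ((P : Subgroup G).inv_mem hg) h1) hg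
        have e : g⁻¹ * (g * x * g⁻¹) * g = x := by group
        rwa [e] at this
      · have := Subgroup.Normal.conj_mem (inferInstance : K.Normal) _ h2 g⁻¹
        have e : g⁻¹ * (g * x * g⁻¹) * g⁻¹⁻¹ = x := by group
        rwa [e] at this
  have hPN : (P : Subgroup G) ≤ N := by rw [hN]; exact le_inf hPM hPE
  -- (S1), (S2)
  have s1 : Nat.card (Sylow p G) = B.index := Sylow.card_eq_index_normalizer P
  have s2 : Nat.card (Sylow p (G ⧸ K)) = A.index := card_sylow_quotient K P
  -- (S3) `D` is a Sylow subgroup of `K`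
  have hDp : IsPGroup p D := P.2.to_le hDP
  have hDKp : IsPGroup p (D.subgroupOf K) := hDp.of_equiv (Subgroup.subgroupOfEquivOfLe hDK).symm
  have hrel : D.relIndex K = (P : Subgroup G).relIndex M := by
    have h1 := card_sup_mul_card_inf_of_normal (P : Subgroup G) K
    have h2 := relIndex_mul_card' hDK
    have h3 := relIndex_mul_card' hPM
    have hDpos : 0 < Nat.card D := Nat.card_pos
    have hPpos : 0 < Nat.card (P : Subgroup G) := Nat.card_pos
    have h4 : D.relIndex K * (Nat.card D * Nat.card (P : Subgroup G))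
        = (P : Subgroup G).relIndex M * (Nat.card D * Nat.card (P : Subgroup G)) := by
      calc D.relIndex K * (Nat.card D * Nat.card (P : Subgroup G))
          = (D.relIndex K * Nat.card D) * Nat.card (P : Subgroup G) := by ring
        _ = Nat.card (P : Subgroup G) * Nat.card K := by rw [h2]; ring
        _ = Nat.card M * Nat.card D := h1.symm
        _ = ((P : Subgroup G).relIndex M * Nat.card (P : Subgroup G)) * Nat.card D := by rw [h3]
        _ = (P : Subgroup G).relIndex M * (Nat.card D * Nat.card (P : Subgroup G)) := by ring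
    exact Nat.eq_of_mul_eq_mul_right (Nat.mul_pos hDpos hPpos) h4
  have hDidx : ¬ p ∣ (D.subgroupOf K).index := by
    intro hdvd
    have h1 : (D.subgroupOf K).index = D.relIndex K := rfl
    rw [h1, hrel] at hdvd
    have h2 := Subgroup.relIndex_mul_index hPM
    exact P.not_dvd_index (h2 ▸ Dvd.dvd.mul_right hdvd _)
  let DK : Sylow p K := hDKp.toSylow hDidx
  have hDKcoe : (DK : Subgroup K) = D.subgroupOf K := rfl
  -- (S4)
  have s4 : Nat.card (Sylow p K) = E.relIndex K := by
    have e : Nat.card (Sylow p K) = (Subgroup.normalizer ((DK : Subgroup K) : Set K)).index :=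
      Sylow.card_eq_index_normalizer DK
    rw [e, hDKcoe, ← Subgroup.subgroupOf_normalizer_eq hDK]
    rfl
  -- (S5) Frattini
  have s5 : E ⊔ K = ⊤ := by
    have := Sylow.normalizer_sup_eq_top DK
    rwa [hDKcoe, Subgroup.map_subgroupOf_eq_of_le hDK] at this
  -- (S6)
  have s6 : N ⊔ K = M := by
    apply le_antisymm (sup_le hNM hKM)
    intro m hm
    have hm' : m ∈ E ⊔ K := by rw [s5]; trivial
    obtain ⟨e, he, k, hk, rfl⟩ := Subgroup.mem_sup_of_normal_right.1 hm'
    have heM : e ∈ M := by
      have : e = (e * k) * k⁻¹ := by group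
      rw [this]
      exact M.mul_mem hm (M.inv_mem (hKM hk))
    have heN : e ∈ N := by rw [hN]; exact Subgroup.mem_inf.2 ⟨heM, he⟩
    exact Subgroup.mul_mem_sup heN hk
  -- (S7)
  have hNK : N ⊓ K = E ⊓ K := by
    rw [hN]
    apply le_antisymm
    · exact le_inf (inf_le_left.trans inf_le_right) inf_le_right
    · exact le_inf (le_inf (inf_le_right.trans hKM) inf_le_left) inf_le_right
  have s7 : N.relIndex M = E.relIndex K := by
    have h1 := card_sup_mul_card_inf_of_normal N K
    rw [s6, hNK] at h1
    have h2 : E.relIndex K * Nat.card (E ⊓ K : Subgroup G) = Nat.card K := by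
      rw [← Subgroup.inf_relIndex_right]
      exact relIndex_mul_card' inf_le_right
    have h3 := relIndex_mul_card' hNM
    have hNpos : 0 < Nat.card N := Nat.card_pos
    have hEKpos : 0 < Nat.card (E ⊓ K : Subgroup G) := Nat.card_pos
    have h4 : N.relIndex M * (Nat.card N * Nat.card (E ⊓ K : Subgroup G))
        = E.relIndex K * (Nat.card N * Nat.card (E ⊓ K : Subgroup G)) := by
      calc N.relIndex M * (Nat.card N * Nat.card (E ⊓ K : Subgroup G))
          = (N.relIndex M * Nat.card N) * Nat.card (E ⊓ K : Subgroup G) := by ring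
        _ = Nat.card M * Nat.card (E ⊓ K : Subgroup G) := by rw [h3]
        _ = Nat.card N * Nat.card K := h1
        _ = Nat.card N * (E.relIndex K * Nat.card (E ⊓ K : Subgroup G)) := by rw [h2]
        _ = E.relIndex K * (Nat.card N * Nat.card (E ⊓ K : Subgroup G)) := by ring
    exact Nat.eq_of_mul_eq_mul_right (Nat.mul_pos hNpos hEKpos) h4
  -- (S8)
  have s8 : Nat.card (Sylow p (N ⧸ ((P : Subgroup G) ⊓ K).subgroupOf N)) = B.relIndex N := by
    have hDN : D ≤ N := hDP.trans hPN
    have hDNp : IsPGroup p (D.subgroupOf N) := hDp.of_equiv (Subgroup.subgroupOfEquivOfLe hDN).symm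
    have h1 : Nat.card (Sylow p (N ⧸ D.subgroupOf N)) = Nat.card (Sylow p N) :=
      card_sylow_quotient_pgroup (D.subgroupOf N) hDNp
    have e : Nat.card (Sylow p N) =
        (Subgroup.normalizer (((P.subtype hPN : Sylow p N) : Subgroup N) : Set N)).index :=
      Sylow.card_eq_index_normalizer (P.subtype hPN)
    rw [h1, e, Sylow.coe_subtype, ← Subgroup.subgroupOf_normalizer_eq hPN]
    rfl
  -- (S9)
  have s9 : B.relIndex A = B.relIndex M := by
    have hstab : stabilizer G P = B := Sylow.stabilizer_eq_normalizer P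
    rw [← hstab, relIndex_eq_card_orbit A P, relIndex_eq_card_orbit M P]
    have hMA : M ≤ A := Subgroup.le_normalizer
    have horb : orbit A P = orbit M P := by
      ext Q
      constructor
      · rintro ⟨a, rfl⟩
        have haP : ((a : G) • P : Sylow p G) = a • P := rfl
        have hle : (((a : G) • P : Sylow p G) : Subgroup G) ≤ M := by
          intro x hx
          rw [Sylow.coe_subgroup_smul, Subgroup.mem_pointwise_smul_iff_inv_smul_mem,
            MulAut.smul_def] at hx
          simp only [map_inv, MulAut.conj_inv_apply] at hx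
          have h1 := hPM hx
          have h2 := (Subgroup.mem_normalizer_iff.1 a.2 ((a : G)⁻¹ * x * (a : G))).1 h1
          have e : (a : G) * ((a : G)⁻¹ * x * (a : G)) * (a : G)⁻¹ = x := by group
          rwa [e] at h2
        obtain ⟨m, hm⟩ := exists_smul_eq_of_le M P ((a : G) • P) hPM hle
        exact ⟨m, hm⟩
      · rintro ⟨m, rfl⟩
        exact ⟨⟨m, hMA m.2⟩, rfl⟩
    rw [horb]
  -- (S10)
  have hBE : B ⊓ M ≤ N := by
    rw [hN]
    refine le_inf inf_le_right ?_
    intro g hg
    have hgB := (Subgroup.mem_inf.1 hg).1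
    have hgP : ∀ y, y ∈ (P : Subgroup G) ↔ g * y * g⁻¹ ∈ (P : Subgroup G) :=
      Subgroup.mem_normalizer_iff.1 hgB
    rw [hE, Subgroup.mem_normalizer_iff]
    intro x
    constructor
    · intro hx
      obtain ⟨h1, h2⟩ := Subgroup.mem_inf.1 hx
      exact Subgroup.mem_inf.2 ⟨(hgP x).1 h1,
        Subgroup.Normal.conj_mem (inferInstance : K.Normal) x h2 g⟩
    · intro hx
      obtain ⟨h1, h2⟩ := Subgroup.mem_inf.1 hx
      refine Subgroup.mem_inf.2 ⟨(hgP x).2 h1, ?_⟩
      have := Subgroup.Normal.conj_mem (inferInstance : K.Normal) _ h2 g⁻¹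
      have e : g⁻¹ * (g * x * g⁻¹) * g⁻¹⁻¹ = x := by group
      rwa [e] at this
  have s10 : B.relIndex M = B.relIndex N * N.relIndex M := by
    have h1 := Subgroup.relIndex_mul_relIndex (B ⊓ M) N M hBE hNM
    rw [Subgroup.inf_relIndex_right] at h1
    rw [← h1]
    congr 1
    rw [← Subgroup.inf_relIndex_right (B ⊓ M) N, ← Subgroup.inf_relIndex_right B N, inf_assoc,
      inf_eq_right.2 hNM]
  have s11 := Subgroup.relIndex_mul_index hBA
  rw [s1, s2, s4, s8, ← s11, s9, s10, s7]
  ring

end Cfsg.Agent.S4341
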