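import Cfsg.Statements.S4343
import Mathlib
import Cfsg.Agent.Lib.Helper1.Brodkey
import Cfsg.Agent.Lib.Helper1.PCore

set_option autoImplicit false
open Cfsg

namespace Cfsg.Agent.S4343


open Cfsg.Agent.Lib.Helper1
open scoped commutatorElement Pointwise

/-- Elements of `P` stabilizing the Sylow `P'` lie in `P'`. -/
theorem stab_mem {S : Type*} [Group S] [Finite S] (p : ℕ) [Fact p.Prime] (P P' : Sylow p S)
    (x : (P : Subgroup S)) (hx : x ∈ MulAction.stabilizer (P : Subgroup S) P') :
    (x : S) ∈ (P' : Subgroup S) := by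
  rw [MulAction.mem_stabilizer_iff, Subgroup.smul_def, Sylow.smul_eq_iff_mem_normalizer] at hx
  have h1 : (x : S) ∈ (P : Subgroup S) ⊓ Subgroup.normalizer (P' : Set S) := ⟨x.2, hx⟩
  rw [P.2.inf_normalizer_sylow P'] at h1
  exact h1.2

/-- If there are fewer than `p²` Sylow subgroups, each `P' ≠ P` has stabilizer of index `p`
in `P`. -/
theorem orb {S : Type*} [Group S] [Finite S] (p : ℕ) [Fact p.Prime] (P P' : Sylow p S)
    (hne : P' ≠ P) (hn : Nat.card (Sylow p S) < p ^ 2) :
    (MulAction.stabilizer (P : Subgroup S) P').index = p := by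
  classical
  have hp : p.Prime := Fact.out
  obtain ⟨k, hk⟩ := IsPGroup.card_orbit P.2 P'
  rw [MulAction.index_stabilizer, ← Nat.card_coe_set_eq, hk]
  have hk2 : k < 2 := by
    have h1 : Nat.card (MulAction.orbit (P : Subgroup S) P') ≤ Nat.card (Sylow p S) :=
      Finite.card_subtype_le _
    rw [hk] at h1
    exact (Nat.pow_lt_pow_iff_right hp.one_lt).1 (lt_of_le_of_lt h1 hn)
  have hk0 : k ≠ 0 := by
    intro h0
    rw [h0, pow_zero] at hk
    apply hne
    have hfix : P' ∈ MulAction.fixedPoints (P : Subgroup S) (Sylow p S) := by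
      rw [← MulAction.subsingleton_orbit_iff_mem_fixedPoints]
      have := (Nat.card_eq_one_iff_unique.1 hk).1
      exact Set.subsingleton_coe _ |>.1 this
    rw [P.2.sylow_mem_fixedPoints_iff] at hfix
    exact Sylow.ext (P.3 P'.2 hfix)
  have : k = 1 := by omega
  rw [this, pow_one]

theorem main {S : Type*} [Group S] [Finite S]
    [IsSimpleGroup S] (hS : ¬ IsMulCommutative S) (p : ℕ) [Fact p.Prime] (hp : p ∣ Nat.card S)
    (hn : Nat.card (Sylow p S) < p ^ 2) (P : Sylow p S) : Nat.card P = p := by
  have hpp : p.Prime := Fact.out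
  -- pCore trivial
  have hcore : Cfsg.pCore p S = ⊥ := by
    rcases (pCore_normal (G := S) p).eq_bot_or_eq_top with h | h
    · exact h
    · exfalso
      have hpg : IsPGroup p S := by
        have := pCore_isPGroup (G := S) p
        rw [h] at this
        exact this.of_equiv Subgroup.topEquiv
      have hnt : Nontrivial (Subgroup.center S) := hpg.center_nontrivial
      rcases (inferInstance : (Subgroup.center S).Normal).eq_bot_or_eq_top with h1 | h1
      · rw [Subgroup.nontrivial_iff_ne_bot] at hnt
        exact hnt h1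
      · apply hS
        constructor; constructor
        intro a b
        have : a ∈ Subgroup.center S := h1 ▸ Subgroup.mem_top a
        exact (Subgroup.mem_center_iff.1 this b).symm
  have hpP : p ∣ Nat.card (P : Subgroup S) := P.dvd_card_of_dvd_card hp
  obtain ⟨k, hk⟩ := P.2.exists_card_eq
  have hk0 : k ≠ 0 := by
    intro h0
    rw [h0, pow_zero] at hk
    rw [hk] at hpP
    exact hpp.one_lt.ne' (Nat.dvd_one.1 hpP)
  -- commutators lie in every Sylow
  have hcomm : ∀ x ∈ (P : Subgroup S), ∀ y ∈ (P : Subgroup S), ∀ P' : Sylow p S,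
      ⁅x, y⁆ ∈ (P' : Subgroup S) := by
    intro x hx y hy P'
    by_cases hne : P' = P
    · rw [hne]
      exact (P : Subgroup S).commutator_mem_commutator hx hy |> fun h =>
        (Subgroup.commutator_le_self (P : Subgroup S)) h |> fun h' => h'
    · have hidx := orb p P P' hne hn
      have hnorm : (MulAction.stabilizer (P : Subgroup S) P').Normal := by
        apply Subgroup.normal_of_index_eq_minFac_card
        rw [hidx, hk, Nat.Prime.pow_minFac hpp hk0]
      haveI : Fact ((MulAction.stabilizer (P : Subgroup S) P').index).Prime := ⟨hidx.symm ▸ hpp⟩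
      have hcyc : IsCyclic ((P : Subgroup S) ⧸ MulAction.stabilizer (P : Subgroup S) P') :=
        isCyclic_of_prime_card (p := (MulAction.stabilizer (P : Subgroup S) P').index)
          (Subgroup.index_eq_card _).symm
      have hcm := (IsCyclic.isMulCommutative
        (α := (P : Subgroup S) ⧸ MulAction.stabilizer (P : Subgroup S) P'))
      have hmem : ⁅(⟨x, hx⟩ : (P : Subgroup S)), ⟨y, hy⟩⁆ ∈
          MulAction.stabilizer (P : Subgroup S) P' := by
        apply (QuotientGroup.eq_one_iff _).1
        rw [commutatorElement_def]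
        simp only [QuotientGroup.mk_mul, QuotientGroup.mk_inv]
        have := hcm.is_comm.comm
          (((⟨x, hx⟩ : (P : Subgroup S)) : (P : Subgroup S) ⧸ MulAction.stabilizer (P : Subgroup S) P'))
          ((⟨y, hy⟩ : (P : Subgroup S)) : (P : Subgroup S) ⧸ MulAction.stabilizer (P : Subgroup S) P')
        rw [this]
        group
      have := stab_mem p P P' _ hmem
      simpa [commutatorElement_def] using this
  have hab : ∀ x ∈ (P : Subgroup S), ∀ y ∈ (P : Subgroup S), x * y = y * x := by
    intro x hx y hy
    have h1 : ⁅x, y⁆ ∈ Cfsg.pCore p S := by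
      rw [pCore_eq_iInf_sylow, Subgroup.mem_iInf]
      exact hcomm x hx y hy
    rw [hcore, Subgroup.mem_bot, commutatorElement_def] at h1
    have : x * y = (x * y * x⁻¹ * y⁻¹) * (y * x) := by group
    rw [this, h1, one_mul]
  obtain ⟨g, hg⟩ := brodkey p P hab hcore
  have hgP : ((g • P : Sylow p S) : Subgroup S) = MulAut.conj g • (P : Subgroup S) := rfl
  have hne : (g • P : Sylow p S) ≠ P := by
    intro heq
    rw [← hgP, heq, inf_idem] at hg
    rw [hg, Subgroup.card_bot] at hpP
    exact hpp.one_lt.ne' (Nat.dvd_one.1 hpP)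
  have hidx := orb p P (g • P) hne hn
  have hstab : MulAction.stabilizer (P : Subgroup S) (g • P : Sylow p S) = ⊥ := by
    rw [eq_bot_iff]
    intro x hx
    have h1 := stab_mem p P (g • P) x hx
    have h2 : (x : S) ∈ (P : Subgroup S) ⊓ MulAut.conj g • (P : Subgroup S) := ⟨x.2, hgP ▸ h1⟩
    rw [hg, Subgroup.mem_bot] at h2
    rw [Subgroup.mem_bot]
    exact Subtype.ext h2
  rw [hstab, Subgroup.index_bot] at hidx
  exact hidx

/-- Let S be a finite non-abelian simple group and p a prime dividing its order. If S has fewer than p² Sylow p-subgroups, then its Sylow p-subgroups have order p. -/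
theorem result {S : Type*} [Group S] [Finite S]
    [IsSimpleGroup S] (hS : ¬ IsMulCommutative S) (p : ℕ) [Fact p.Prime] (hp : p ∣ Nat.card S)
    (hn : Nat.card (Sylow p S) < p ^ 2) (P : Sylow p S) : Nat.card P = p :=
  main hS p hp hn P

end Cfsg.Agent.S4343
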