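import Cfsg.Statements.S4344
import Cfsg.Agent.Lib.Helper3.CyclicSub

set_option autoImplicit false
open Cfsg

namespace Cfsg.Agent.S4344

open scoped Pointwise

theorem result {S : Type*} [Group S] [Finite S]
    [IsSimpleGroup S] (hS : ¬ IsMulCommutative S) (p : ℕ) [Fact p.Prime] (hp : p ∣ Nat.card S)
    (M : Subgroup S) (hM : IsCoatom M) (C : Subgroup S) (hCM : C ≤ M) (hCn : (C.subgroupOf M).Normal)
    (hC : IsCyclic C) (P : Sylow p S) (hP : (P : Subgroup S) ≤ C) :
    Nat.card (Sylow p S) = M.index := by
  rw [Sylow.card_eq_index_normalizer P]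
  congr 1
  -- M ≤ N(P)
  have hMN : M ≤ Subgroup.normalizer ((P : Subgroup S) : Set S) := by
    intro m hm
    rw [Subgroup.mem_normalizer_iff_map_conj_eq]
    have hmC : m ∈ Subgroup.normalizer (C : Set S) :=
      (Subgroup.normal_subgroupOf_iff_le_normalizer hCM).1 hCn hm
    have hCC : C.map (MulAut.conj m).toMonoidHom = C :=
      Subgroup.mem_normalizer_iff_map_conj_eq.1 hmC
    have hle : (P : Subgroup S).map (MulAut.conj m).toMonoidHom ≤ C := by
      calc (P : Subgroup S).map (MulAut.conj m).toMonoidHom
          ≤ C.map (MulAut.conj m).toMonoidHom := Subgroup.map_mono hP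
        _ = C := hCC
    apply Cfsg.Agent.Lib.Helper3.subgroup_eq_of_card_eq_of_le_isCyclic C _ _ hle hP
    exact Nat.card_congr
      ((P : Subgroup S).equivMapOfInjective _ (MulAut.conj m).injective).toEquiv.symm
  -- N(P) ≠ ⊤
  have hne : Subgroup.normalizer ((P : Subgroup S) : Set S) ≠ ⊤ := by
    intro htop
    have hPn : (P : Subgroup S).Normal := Subgroup.normalizer_eq_top_iff.1 htop
    rcases hPn.eq_bot_or_eq_top with h | h
    · exact P.ne_bot_of_dvd_card hp h
    · -- S is a p-group, simple, hence commutative
      have hpg : IsPGroup p S := by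
        have := P.isPGroup'
        rw [h] at this
        exact IsPGroup.of_equiv this Subgroup.topEquiv
      haveI : Nontrivial S := IsSimpleGroup.toNontrivial
      have hcen : Subgroup.center S ≠ ⊥ := by
        haveI := hpg.center_nontrivial
        exact (Subgroup.nontrivial_iff_ne_bot _).1 this
      have hcen' : Subgroup.center S = ⊤ :=
        ((Subgroup.center S).normal_of_characteristic.eq_bot_or_eq_top).resolve_left hcen
      apply hS
      exact ⟨⟨fun a b => by
        have : a ∈ Subgroup.center S := by rw [hcen']; trivial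
        exact ((Subgroup.mem_center_iff.1 this) b).symm⟩⟩
  exact ((hM.le_iff.1 hMN).resolve_left hne)

end Cfsg.Agent.S4344
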