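import Cfsg.Statements.S4345
import Mathlib
import Cfsg.Agent.S4341
import Cfsg.Agent.Lib.Helper1.MinimalNormal
import Cfsg.Agent.Lib.Helper2.MinNormal
-- import your own Cfsg.Agent.* helpers here

set_option autoImplicit false
open Cfsg

namespace Cfsg.Agent.S4345

open MulAction
open scoped Pointwise
universe u


theorem map_conj_normal {G : Type*} [Group G] (N : Subgroup G) [hN : N.Normal] (g : G) :
    N.map (MulAut.conj g : G ≃* G).toMonoidHom = N := by
  have : g ∈ Subgroup.normalizer (N : Set G) := by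
    rw [Subgroup.normalizer_eq_top_iff.2 hN]; trivial
  exact Subgroup.mem_normalizer_iff_map_conj_eq.1 this


/-- `n_p(G) = r * n_p(G/N)` with `r ∣ |N|`. -/
theorem step {G : Type*} [Group G] [Finite G] (p : ℕ) [Fact p.Prime] (N : Subgroup G) [N.Normal] :
    ∃ r : ℕ, Nat.card (Sylow p G) = r * Nat.card (Sylow p (G ⧸ N)) ∧ r ∣ Nat.card N := by
  let P : Sylow p G := default
  set M := Subgroup.normalizer (((P : Subgroup G) ⊔ N : Subgroup G) : Set G) with hM
  have h1 : Nat.card (Sylow p G) = (Subgroup.normalizer ((P : Subgroup G) : Set G)).index :=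
    Sylow.card_eq_index_normalizer P
  have h2 : Nat.card (Sylow p (G ⧸ N)) = M.index := Cfsg.Agent.S4341.card_sylow_quotient N P
  have h3 : Subgroup.normalizer ((P : Subgroup G) : Set G) ≤ M := by
    intro g hg
    rw [hM, Subgroup.mem_normalizer_iff_map_conj_eq]
    rw [Subgroup.mem_normalizer_iff_map_conj_eq] at hg
    rw [Subgroup.map_sup, hg]
    congr 1
    exact map_conj_normal N g
  have hNM : N ≤ M := le_sup_right.trans Subgroup.le_normalizer
  refine ⟨(Subgroup.normalizer ((P : Subgroup G) : Set G)).relIndex M, ?_, ?_⟩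
  · rw [h1, h2, Subgroup.relIndex_mul_index h3]
  · have hst : stabilizer G P = Subgroup.normalizer ((P : Subgroup G) : Set G) :=
      Sylow.stabilizer_eq_normalizer P
    rw [← hst, Cfsg.Agent.S4341.relIndex_eq_card_orbit M P]
    have horb : (orbit M P : Set (Sylow p G)) = orbit N P := by
      apply Set.Subset.antisymm
      · rintro _ ⟨m, rfl⟩
        have hmP : ((m • P : Sylow p G) : Subgroup G) ≤ (P : Subgroup G) ⊔ N := by
          have hm : (m : G) ∈ Subgroup.normalizer (((P : Subgroup G) ⊔ N : Subgroup G) : Set G) := m.2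
          rw [Subgroup.mem_normalizer_iff_map_conj_eq] at hm
          have : ((m • P : Sylow p G) : Subgroup G) = (P : Subgroup G).map (MulAut.conj (m : G) : G ≃* G).toMonoidHom := by
            show (((m : G) • P : Sylow p G) : Subgroup G) = _
            rw [Sylow.coe_subgroup_smul]
            rfl
          rw [this]
          calc (P : Subgroup G).map (MulAut.conj (m : G) : G ≃* G).toMonoidHom
              ≤ ((P : Subgroup G) ⊔ N).map (MulAut.conj (m : G) : G ≃* G).toMonoidHom :=
                Subgroup.map_mono le_sup_left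
            _ = (P : Subgroup G) ⊔ N := hm
        obtain ⟨g, hg⟩ := Cfsg.Agent.S4341.exists_smul_eq_of_le ((P : Subgroup G) ⊔ N) P (m • P)
          le_sup_left hmP
        have hg' : (g : G) ∈ (((N ⊔ (P : Subgroup G) : Subgroup G)) : Set G) := by
          rw [sup_comm]; exact g.2
        rw [Subgroup.normal_mul] at hg'
        obtain ⟨n, hn, x, hx, hnx⟩ := hg'
        refine ⟨⟨n, hn⟩, ?_⟩
        show n • P = m • P
        rw [← hg]
        have hnx' : n * x = (g : G) := hnx
        rw [← hnx', mul_smul]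
        congr 1
        symm
        rw [Sylow.smul_eq_iff_mem_normalizer]
        exact Subgroup.le_normalizer hx
      · rintro _ ⟨n, rfl⟩
        exact ⟨⟨n, hNM n.2⟩, rfl⟩
    rw [horb, ← Cfsg.Agent.S4341.relIndex_eq_card_orbit N P]
    exact Subgroup.relIndex_dvd_card _ _




theorem pow_factorization_modEq (p ℓ q b : ℕ) (hℓ : ℓ.Prime) (hq : q.Prime)
    (h : q ^ b ≡ 1 [MOD p]) : ℓ ^ (q ^ b).factorization ℓ ≡ 1 [MOD p] := by
  by_cases hlq : ℓ = q
  · subst hlq
    rw [Nat.factorization_pow, Finsupp.smul_apply, hℓ.factorization_self, smul_eq_mul, mul_one]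
    exact h
  · have : (q ^ b).factorization ℓ = 0 := by
      apply Nat.factorization_eq_zero_of_not_dvd
      intro hd
      exact hlq ((Nat.prime_dvd_prime_iff_eq hℓ hq).1 (hℓ.dvd_of_dvd_pow hd))
    rw [this, pow_zero]


theorem main : ∀ (n : ℕ) (G : Type u) [Group G] [Finite G], Nat.card G = n → Group.IsSolvable G →
    ∀ (p ℓ : ℕ) [Fact p.Prime], ℓ.Prime →
      ℓ ^ (Nat.card (Sylow p G)).factorization ℓ ≡ 1 [MOD p] := by
  intro n
  induction n using Nat.strong_induction_on with
  | _ n ih =>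
  intro G _ _ hn hsol p ℓ _ hℓ
  by_cases htriv : (⊤ : Subgroup G) = ⊥
  · have hss : Subsingleton (Sylow p G) := by
      constructor
      intro P Q
      apply Sylow.ext
      have hP : (P : Subgroup G) = ⊥ := eq_bot_iff.2 (htriv ▸ le_top)
      have hQ : (Q : Subgroup G) = ⊥ := eq_bot_iff.2 (htriv ▸ le_top)
      rw [hP, hQ]
    have : Nat.card (Sylow p G) = 1 := by
      haveI : Unique (Sylow p G) := ⟨⟨default⟩, fun a => Subsingleton.elim _ _⟩
      exact Nat.card_unique
    rw [this, Nat.factorization_one, Finsupp.zero_apply, pow_zero]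
  · obtain ⟨B, -, hB, hBmin⟩ := Cfsg.Agent.Lib.Helper2.exists_isMinNormal_le (⊤ : Subgroup G) htriv
    haveI := hBmin.1
    obtain ⟨-, q, hq, hBq⟩ := Cfsg.Agent.Lib.Helper1.minimal_normal_of_solvable B hB hBmin.2
    have hBp : IsPGroup q B := by
      intro x
      refine ⟨1, ?_⟩
      rw [pow_one]
      exact Subtype.ext (hBq x x.2)
    haveI : Fact q.Prime := ⟨hq⟩
    obtain ⟨c, hc⟩ := IsPGroup.iff_card.1 hBp
    obtain ⟨r, hr, hrB⟩ := step p B
    rw [hc] at hrB
    obtain ⟨b, -, hb⟩ := (Nat.dvd_prime_pow hq).1 hrB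
    -- the quotient
    have hcard : Nat.card (G ⧸ B) < n := by
      have h1 := Subgroup.card_eq_card_quotient_mul_card_subgroup B
      have h2 : 1 < Nat.card B := by
        rw [Subgroup.one_lt_card_iff_ne_bot]; exact hB
      have h3 : 0 < Nat.card (G ⧸ B) := Nat.card_pos
      rw [← hn, h1]
      nlinarith
    have hsolq : Group.IsSolvable (G ⧸ B) := inferInstance
    have IH := ih _ hcard (G ⧸ B) rfl hsolq p ℓ hℓ
    have hm1 : Nat.card (Sylow p (G ⧸ B)) ≡ 1 [MOD p] := card_sylow_modEq_one p (G ⧸ B)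
    have hG1 : Nat.card (Sylow p G) ≡ 1 [MOD p] := card_sylow_modEq_one p G
    have hr1 : r ≡ 1 [MOD p] := by
      have e1 : r * Nat.card (Sylow p (G ⧸ B)) ≡ r * 1 [MOD p] := Nat.ModEq.mul_left r hm1
      rw [mul_one, ← hr] at e1
      exact e1.symm.trans hG1
    have hm0 : Nat.card (Sylow p (G ⧸ B)) ≠ 0 := Nat.card_pos.ne'
    have hr0 : r ≠ 0 := by
      rw [hb]; exact pow_ne_zero _ hq.ne_zero
    rw [hr, Nat.factorization_mul hr0 hm0, Finsupp.add_apply, pow_add]
    have e2 : ℓ ^ r.factorization ℓ ≡ 1 [MOD p] := by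
      rw [hb]
      apply pow_factorization_modEq p ℓ q b hℓ hq
      rw [← hb]; exact hr1
    have := Nat.ModEq.mul e2 IH
    rwa [mul_one] at this





/-- Let G be a finite solvable group and p, ℓ primes. Then the largest power of ℓ dividing the number of Sylow p-subgroups of G is congruent to 1 modulo p. -/
theorem result {G : Type*} [Group G] [Finite G]
    (hG : Group.IsSolvable G) (p ℓ : ℕ) [Fact p.Prime] (hℓ : ℓ.Prime) :
    ℓ ^ (Nat.card (Sylow p G)).factorization ℓ ≡ 1 [MOD p] := by
  exact main _ G rfl hG p ℓ hℓ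

end Cfsg.Agent.S4345
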