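import Cfsg.Statements.S4347

set_option autoImplicit false
open Cfsg

namespace Cfsg.Agent.S4347

variable {G : Type*} [Group G]

theorem mem_smul_sylow {p : ℕ} (g x : G) (P : Sylow p G) :
    x ∈ (g • P : Sylow p G) ↔ g⁻¹ * x * g ∈ P := by
  have h1 : x ∈ (g • P : Sylow p G) ↔ x ∈ ((g • P : Sylow p G) : Subgroup G) := Iff.rfl
  rw [h1, Sylow.coe_subgroup_smul, Subgroup.mem_pointwise_smul_iff_inv_smul_mem]
  simp [MulAut.smul_def]
  rfl

theorem result {G : Type*} [Group G] [Finite G]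
    (p : ℕ) [Fact p.Prime] :
    (¬ ∃ Q : Sylow p G, ∀ x : G, (∃ k : ℕ, orderOf x = p ^ k) → ∃ P : Sylow p G, P ≠ Q ∧ x ∈ P) ↔
      ∃ x : G, (∃ k : ℕ, orderOf x = p ^ k) ∧ ∃! P : Sylow p G, x ∈ P := by
  constructor
  · intro h
    push Not at h
    obtain ⟨x, hx, hxQ⟩ := h default
    refine ⟨x, hx, ?_⟩
    have hpg : IsPGroup p (Subgroup.zpowers x) := by
      obtain ⟨k, hk⟩ := hx
      rw [IsPGroup.iff_card]
      exact ⟨k, by rw [Nat.card_zpowers, hk]⟩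
    obtain ⟨P, hP⟩ := hpg.exists_le_sylow
    have hxP : x ∈ P := hP (Subgroup.mem_zpowers x)
    have hPQ : P = default := by
      by_contra hne
      exact hxQ P hne hxP
    refine ⟨P, hxP, fun P' hP' => ?_⟩
    by_contra hne
    rw [hPQ] at hne
    exact hxQ P' hne hP'
  · rintro ⟨x, ⟨k, hk⟩, P₀, hxP₀, huniq⟩ ⟨Q, hQ⟩
    obtain ⟨g, hg⟩ := MulAction.exists_smul_eq G P₀ Q
    have hy : ∃ k : ℕ, orderOf (g * x * g⁻¹) = p ^ k := ⟨k, by
      rw [← hk]
      exact (MulAut.conj g).orderOf_eq x⟩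
    obtain ⟨P, hPQ, hyP⟩ := hQ _ hy
    apply hPQ
    have hx' : x ∈ (g⁻¹ • P : Sylow p G) := by
      rw [mem_smul_sylow]
      simpa using hyP
    have := huniq _ hx'
    rw [← hg, ← this, smul_inv_smul]

end Cfsg.Agent.S4347
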