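import Cfsg.Statements.S4348
import Cfsg.Agent.Lib.Helper1.PCore

set_option autoImplicit false
open Cfsg

namespace Cfsg.Agent.S4348

theorem result {G : Type*} [Group G] [Finite G]
    (p : ℕ) [Fact p.Prime] (P : Sylow p G)
    [hn : ((Cfsg.pCore p G).subgroupOf (P : Subgroup G)).Normal]
    (hc : IsCyclic ((P : Subgroup G) ⧸ (Cfsg.pCore p G).subgroupOf (P : Subgroup G))) :
    ∃ x : G, (∃ k : ℕ, orderOf x = p ^ k) ∧ ∃! Q : Sylow p G, x ∈ Q := by
  obtain ⟨ybar, hy⟩ := hc.exists_generator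
  obtain ⟨y, rfl⟩ := QuotientGroup.mk_surjective ybar
  refine ⟨(y : G), ?_, P, y.2, ?_⟩
  · obtain ⟨k, hk⟩ := (IsPGroup.iff_orderOf.1 P.isPGroup') y
    exact ⟨k, by rw [Subgroup.orderOf_coe, hk]⟩
  · intro Q hQ
    have hle : (P : Subgroup G) ≤ Q := by
      intro z hz
      obtain ⟨n, hn'⟩ := Subgroup.mem_zpowers_iff.1 (hy (QuotientGroup.mk ⟨z, hz⟩))
      have h1 : ((y ^ n : (P : Subgroup G)) : (P : Subgroup G) ⧸ (Cfsg.pCore p G).subgroupOf (P : Subgroup G))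
          = QuotientGroup.mk ⟨z, hz⟩ := by
        rw [← hn']; rfl
      rw [QuotientGroup.eq, Subgroup.mem_subgroupOf] at h1
      have h2 : ((y ^ n)⁻¹ * ⟨z, hz⟩ : (P : Subgroup G)).1 ∈ (Q : Subgroup G) :=
        Cfsg.Agent.Lib.Helper1.pCore_le_sylow p Q h1
      have h3 : ((y : G) ^ n) ∈ (Q : Subgroup G) := Subgroup.zpow_mem _ hQ n
      have h4 := Subgroup.mul_mem _ h3 h2
      simpa using h4
    have := P.is_maximal' Q.isPGroup' hle
    exact Sylow.ext this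

end Cfsg.Agent.S4348
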