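import Cfsg.Statements.S4377

set_option autoImplicit false
open Cfsg

namespace Cfsg.Agent.S4377

open Classical in
/-- number of elements of order `n` -/
noncomputable def f (G : Type*) [Group G] [Fintype G] (n : ℕ) : ℕ :=
  (Finset.univ.filter (fun g : G => orderOf g = n)).card

open Classical in
/-- number of solutions of `g^n = 1` -/
noncomputable def F (G : Type*) [Group G] [Fintype G] (n : ℕ) : ℕ :=
  (Finset.univ.filter (fun g : G => g ^ n = 1)).card

theorem card_f (G : Type*) [Group G] [Fintype G] (n : ℕ) :
    Nat.card {g : G // orderOf g = n} = f G n := by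
  classical
  rw [Nat.card_eq_fintype_card, Fintype.card_subtype]
  rfl

theorem card_F (G : Type*) [Group G] [Fintype G] (n : ℕ) :
    Nat.card {g : G // g ^ n = 1} = F G n := by
  classical
  rw [Nat.card_eq_fintype_card, Fintype.card_subtype]
  rfl

theorem F_eq_sum (G : Type*) [Group G] [Fintype G] (n : ℕ) (hn : 0 < n) :
    F G n = ∑ d ∈ n.divisors, f G d := by
  classical
  unfold F f
  rw [Finset.card_eq_sum_card_fiberwise (f := fun g : G => orderOf g) (t := n.divisors)]
  · apply Finset.sum_congr rfl
    intro d hd
    congr 1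
    ext g
    simp only [Finset.mem_filter, Finset.mem_univ, true_and]
    constructor
    · exact fun h => h.2
    · intro h
      refine ⟨?_, h⟩
      rw [← orderOf_dvd_iff_pow_eq_one, h]
      exact Nat.dvd_of_mem_divisors hd
  · intro g hg
    simp only [Finset.coe_filter, Finset.mem_univ, true_and, Set.mem_setOf_eq] at hg
    simp only [Finset.mem_coe, Nat.mem_divisors]
    exact ⟨orderOf_dvd_of_pow_eq_one hg, hn.ne'⟩

theorem F_gcd (G : Type*) [Group G] [Fintype G] (n N : ℕ) (hN : Fintype.card G ∣ N) :
    F G n = F G (Nat.gcd n N) := by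
  classical
  unfold F
  congr 1
  ext g
  simp only [Finset.mem_filter, Finset.mem_univ, true_and]
  rw [← orderOf_dvd_iff_pow_eq_one, ← orderOf_dvd_iff_pow_eq_one, Nat.dvd_gcd_iff]
  constructor
  · intro h
    exact ⟨h, (orderOf_dvd_card).trans hN⟩
  · exact fun h => h.1

theorem f_zero (G : Type*) [Group G] [Fintype G] : f G 0 = 0 := by
  classical
  unfold f
  rw [Finset.card_eq_zero, Finset.filter_eq_empty_iff]
  intro g _
  exact (orderOf_pos g).ne'

theorem result {G H : Type*} [Group G] [Finite G] [Group H] [Finite H] :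
    (∀ n : ℕ, Nat.card {g : G // orderOf g = n} = Nat.card {h : H // orderOf h = n}) ↔
      ∀ n : ℕ, Nat.card {g : G // g ^ n = 1} = Nat.card {h : H // h ^ n = 1} := by
  classical
  haveI := Fintype.ofFinite G
  haveI := Fintype.ofFinite H
  simp only [card_f, card_F]
  constructor
  · intro h n
    have hN : 0 < Fintype.card G * Fintype.card H :=
      Nat.mul_pos Fintype.card_pos Fintype.card_pos
    rw [F_gcd G n _ (Dvd.intro _ rfl), F_gcd H n _ (Dvd.intro_left _ rfl)]
    have hpos : 0 < Nat.gcd n (Fintype.card G * Fintype.card H) := Nat.gcd_pos_of_pos_right _ hN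
    rw [F_eq_sum G _ hpos, F_eq_sum H _ hpos]
    exact Finset.sum_congr rfl (fun d _ => h d)
  · intro h n
    induction n using Nat.strong_induction_on with
    | _ n ih =>
      rcases Nat.eq_zero_or_pos n with rfl | hn
      · rw [f_zero, f_zero]
      · have hG := F_eq_sum G n hn
        have hH := F_eq_sum H n hn
        rw [← Nat.cons_self_properDivisors hn.ne', Finset.sum_cons] at hG hH
        have hsum : ∑ d ∈ n.properDivisors, f G d = ∑ d ∈ n.properDivisors, f H d :=
          Finset.sum_congr rfl (fun d hd => ih d (Nat.mem_properDivisors.1 hd).2)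
        have := h n
        omega

end Cfsg.Agent.S4377
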