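import Mathlib
import Cfsg.Statements.S4378
import Cfsg.Agent.Lib.Lead.MaxPNil
import Cfsg.Agent.Lib.Helper3.PSolvable

set_option autoImplicit false

open Cfsg

namespace Cfsg.Agent.S4378

theorem result {G : Type*} [Group G] [Finite G]
    (hG : Group.IsSolvable G)
    (hmax : ∀ M : Subgroup G, IsCoatom M → (∃ K : Subgroup ↥M, K.Normal ∧ ¬ 2 ∣ Nat.card K ∧ ∃ k : ℕ, K.index = 2 ^ k) ∨ (M.index).Prime) :
    ∃ A B C : Subgroup G, A.Normal ∧ B.Normal ∧ C.Normal ∧ A ≤ B ∧ B ≤ C ∧ Odd (Nat.card A) ∧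
      (∃ k : ℕ, A.relIndex B = 2 ^ k) ∧ Odd (B.relIndex C) ∧ ∃ k : ℕ, C.index = 2 ^ k := by
  haveI : Fact (Nat.Prime 2) := ⟨Nat.prime_two⟩
  have hps := Cfsg.Agent.Lib.Helper3.isPSolvable_of_isSolvable 2 hG
  obtain ⟨A, B, C, D, hA, hB, hC, hD, h1, h2, h3, h4, h5, h6, h7, h8, h9⟩ :=
    Cfsg.Agent.Lib.Lead.MaxPNil.main Nat.prime_two hps hmax
  have hDtop := h9 rfl
  refine ⟨A, B, C, hA, hB, hC, h1, h2, ?_, h5, ?_, ?_⟩
  · exact Nat.not_even_iff_odd.1 (fun h => h4 (even_iff_two_dvd.1 h))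
  · exact Nat.not_even_iff_odd.1 (fun h => h6 (even_iff_two_dvd.1 h))
  · obtain ⟨k, hk⟩ := h7
    rw [hDtop, Subgroup.relIndex_top_right] at hk
    exact ⟨k, hk⟩

end Cfsg.Agent.S4378
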