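import Mathlib
import Cfsg.Statements.S4379
import Cfsg.Agent.Lib.Lead.MaxPNil

set_option autoImplicit false

open Cfsg

namespace Cfsg.Agent.S4379

theorem result {G : Type*} [Group G] [Finite G]
    (p : ℕ) [Fact p.Prime] (hp : p ≠ 2) (hG : Cfsg.IsPSolvable p G)
    (hmax : ∀ M : Subgroup G, IsCoatom M → (∃ K : Subgroup ↥M, K.Normal ∧ ¬ p ∣ Nat.card K ∧ ∃ k : ℕ, K.index = p ^ k) ∨ (M.index).Prime) :
    ∃ A B C D : Subgroup G, A.Normal ∧ B.Normal ∧ C.Normal ∧ D.Normal ∧ A ≤ B ∧ B ≤ C ∧ C ≤ D ∧ ¬ p ∣ Nat.card A ∧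
      (∃ k : ℕ, A.relIndex B = p ^ k) ∧ ¬ p ∣ B.relIndex C ∧ (∃ k : ℕ, C.relIndex D = p ^ k) ∧ ¬ p ∣ D.index := by
  obtain ⟨A, B, C, D, hA, hB, hC, hD, h1, h2, h3, h4, h5, h6, h7, h8, -⟩ :=
    Cfsg.Agent.Lib.Lead.MaxPNil.main (Fact.out : p.Prime) hG hmax
  exact ⟨A, B, C, D, hA, hB, hC, hD, h1, h2, h3, h4, h5, h6, h7, h8⟩

end Cfsg.Agent.S4379
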