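import Cfsg.Statements.S4387

set_option autoImplicit false
open Cfsg

namespace Cfsg.Agent.S4387

open scoped Pointwise

theorem result {G : Type*} [Group G] [Finite G] [Nontrivial G]
    (h : ∀ M N : Subgroup G, IsCoatom M → IsCoatom N → ∃ g : G, N = MulAut.conj g • M) :
    IsCyclic G ∧ IsPrimePow (Nat.card G) := by
  have hbt : (⊥ : Subgroup G) ≠ ⊤ := bot_ne_top
  obtain ⟨M, hM, -⟩ := (eq_top_or_exists_le_coatom (⊥ : Subgroup G)).resolve_left hbt
  have hidx : M.index ≠ 1 := fun h1 => hM.1 (Subgroup.index_eq_one.1 h1)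
  obtain ⟨p, hp, hpM⟩ := Nat.exists_prime_and_dvd hidx
  haveI : Fact p.Prime := ⟨hp⟩
  -- G is a p-group
  have hpG : IsPGroup p G := by
    obtain P : Sylow p G := default
    by_cases hP : (P : Subgroup G) = ⊤
    · have := P.isPGroup'
      rw [hP] at this
      exact IsPGroup.of_equiv this Subgroup.topEquiv
    · exfalso
      obtain ⟨N, hN, hPN⟩ := (eq_top_or_exists_le_coatom (P : Subgroup G)).resolve_left hP
      obtain ⟨g, hg⟩ := h M N hM hN
      have hPM : ((g⁻¹ • P : Sylow p G) : Subgroup G) ≤ M := by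
        rw [Sylow.coe_subgroup_smul]
        have : MulAut.conj g⁻¹ • N = M := by
          rw [hg, map_inv, inv_smul_smul]
        rw [← this]
        exact Subgroup.pointwise_smul_le_pointwise_smul_iff.2 hPN
      have h1 : M.index ∣ ((g⁻¹ • P : Sylow p G) : Subgroup G).index :=
        Subgroup.index_dvd_of_le hPM
      exact (g⁻¹ • P : Sylow p G).not_dvd_index (hpM.trans h1)
  haveI : Group.IsNilpotent G := hpG.isNilpotent
  have hMn : M.Normal :=
    Subgroup.NormalizerCondition.normal_of_coatom M Group.normalizerCondition_of_isNilpotent hM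
  have huniq : ∀ N : Subgroup G, IsCoatom N → N = M := by
    intro N hN
    obtain ⟨g, hg⟩ := h M N hM hN
    rw [hg, Subgroup.Normal.conj_smul_eq_self]
  obtain ⟨g, hg⟩ : ∃ g : G, g ∉ M := by
    by_contra hcon
    push Not at hcon
    exact hM.1 ((Subgroup.eq_top_iff' M).2 hcon)
  have hgen : Subgroup.zpowers g = ⊤ := by
    by_contra hne
    obtain ⟨N, hN, hgN⟩ := (eq_top_or_exists_le_coatom (Subgroup.zpowers g)).resolve_left hne
    rw [huniq N hN] at hgN
    exact hg (hgN (Subgroup.mem_zpowers g))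
  refine ⟨isCyclic_iff_exists_zpowers_eq_top.2 ⟨g, hgen⟩, ?_⟩
  obtain ⟨n, hn⟩ := IsPGroup.iff_card.1 hpG
  rw [hn]
  refine ⟨p, n, hp.prime, ?_, rfl⟩
  rcases Nat.eq_zero_or_pos n with h0 | h0
  · exfalso
    rw [h0, pow_zero] at hn
    have : Subsingleton G := (Nat.card_eq_one_iff_unique.1 hn).1
    exact not_subsingleton G this
  · exact h0

end Cfsg.Agent.S4387
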