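import Cfsg.Statements.S4394
import Mathlib
import Cfsg.Agent.Lib.Lead.SchSyl
import Cfsg.Agent.Lib.Helper1.PConstrainedOfPSolvable
import Cfsg.Agent.Lib.Helper1.PLengthOne
import Cfsg.Agent.Lib.Helper2.SchSylM
import Cfsg.Agent.Lib.Helper3.UpperPSeries
import Cfsg.Agent.Lib.Helper7.PCore
import Cfsg.Agent.Lib.Helper7.SchSylMc
import Cfsg.Agent.Lib.Helper7.SchSylC

set_option autoImplicit false
open Cfsg

namespace Cfsg.Agent.S4394

open Cfsg.Agent.Lib.Lead.SchSyl

universe u v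

theorem hypMc {p : ℕ} [hp : Fact p.Prime] {R : Type v} [Group R] (hR : SSP p R) :
    Cfsg.Agent.Lib.Helper2.SchSylM.HypMc.{u, v} p R := by
  intro G _ _ hG hcore S hS w hw hSeq hwQ
  obtain ⟨e⟩ := hS
  exact Cfsg.Agent.Lib.Helper7.SchSylMc.mc p hR hG hcore S e w hw hSeq hwQ

/-- Let X be a finite minimal non-nilpotent group (not nilpotent, every proper subgroup nilpotent) with a nontrivial normal Sylow p-subgroup P. If G is a finite p-solvable group whose Sylow p-subgroups are isomorphic to P, then G has p-length at most 1. -/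
theorem result {G X : Type*} [Group G] [Finite G] [Group X] [Finite X] (p : ℕ) [Fact p.Prime]
    (hX : Cfsg.IsMinimalNonNilpotent X) (P : Sylow p X) (hPn : (P : Subgroup X).Normal) (hP1 : (P : Subgroup X) ≠ ⊥)
    (hG : Cfsg.IsPSolvable p G) (Q : Sylow p G) (hQ : Nonempty (↥(Q : Subgroup G) ≃* ↥(P : Subgroup X))) : Cfsg.PLengthLE p 1 G := by
  have hSSP : SSP p ↥(P : Subgroup X) :=
    Cfsg.Agent.Lib.Helper7.SchSylC.ssp_of_minimal p hX P hPn hP1
  have hsurj : Function.Surjective (QuotientGroup.mk' (pPrimeCore p G)) :=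
    QuotientGroup.mk'_surjective _
  have hsolq : IsPSolvable p (G ⧸ pPrimeCore p G) :=
    Cfsg.Agent.Lib.Helper1.isPSolvable_of_surjective p _ hsurj hG
  have hcoreq : pPrimeCore p (G ⧸ pPrimeCore p G) = ⊥ :=
    Cfsg.Agent.Lib.Helper1.pPrimeCore_quotient_eq_bot p
  -- the image Sylow subgroup
  obtain ⟨Qq, hQq⟩ : ∃ Qq : Sylow p (G ⧸ pPrimeCore p G),
      (Qq : Subgroup (G ⧸ pPrimeCore p G)) =
        (Q : Subgroup G).map (QuotientGroup.mk' (pPrimeCore p G)) :=
    ⟨Q.mapSurjective hsurj, Sylow.coe_mapSurjective hsurj Q⟩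
  -- the restriction of the quotient map to `Q` is injective
  have hdis : (Q : Subgroup G) ⊓ pPrimeCore p G = ⊥ := by
    apply disjoint_iff.mp
    apply Subgroup.disjoint_of_coprime_natCard
    obtain ⟨n, hn⟩ := IsPGroup.iff_card.mp Q.isPGroup'
    rw [hn]
    exact Nat.Coprime.pow_left n (Cfsg.Agent.Lib.Helper1.pPrimeCore_card_coprime p).symm
  have hinj : Function.Injective
      ((QuotientGroup.mk' (pPrimeCore p G)).comp (Q : Subgroup G).subtype) := by
    rw [← MonoidHom.ker_eq_bot_iff, eq_bot_iff]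
    intro x hx
    rw [MonoidHom.mem_ker, MonoidHom.comp_apply, ← MonoidHom.mem_ker, QuotientGroup.ker_mk'] at hx
    have h1 : (x : G) ∈ (Q : Subgroup G) ⊓ pPrimeCore p G := ⟨x.2, hx⟩
    rw [hdis, Subgroup.mem_bot] at h1
    rw [Subgroup.mem_bot]
    exact Subtype.ext h1
  have hrange : ((QuotientGroup.mk' (pPrimeCore p G)).comp (Q : Subgroup G).subtype).range
      = (Qq : Subgroup (G ⧸ pPrimeCore p G)) := by
    rw [hQq, ← MonoidHom.map_range, Subgroup.range_subtype]
  have hiso : Nonempty (↥(Qq : Subgroup (G ⧸ pPrimeCore p G)) ≃* ↥(P : Subgroup X)) := by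
    obtain ⟨e⟩ := hQ
    exact ⟨((MulEquiv.subgroupCongr hrange).symm.trans (MonoidHom.ofInjective hinj).symm).trans e⟩
  have hQqn : (Qq : Subgroup (G ⧸ pPrimeCore p G)).Normal :=
    Cfsg.Agent.Lib.Helper2.SchSylM.sylow_normal_of_SSP hSSP (hypMc hSSP) (G ⧸ pPrimeCore p G)
      hsolq hcoreq Qq hiso
  have hQle : (Q : Subgroup G) ≤ pPrimePCore p G := by
    intro x hx
    unfold pPrimePCore
    rw [Subgroup.mem_comap]
    apply Cfsg.Agent.Lib.Helper7.le_pCore hQqn Qq.isPGroup'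
    rw [hQq]
    exact Subgroup.mem_map_of_mem _ hx
  apply Cfsg.Agent.Lib.Helper3.pLengthLE_one_of_index_coprime
  have hp : p.Prime := Fact.out
  have h1 : ¬ p ∣ (Q : Subgroup G).index := Q.not_dvd_index
  have h2 : ((Q : Subgroup G).index).Coprime p :=
    ((Nat.Prime.coprime_iff_not_dvd hp).mpr h1).symm
  exact Nat.Coprime.coprime_dvd_left (Subgroup.index_dvd_of_le hQle) h2

end Cfsg.Agent.S4394
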