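import Cfsg.Statements.S4396
import Cfsg.Agent.Lib.Helper7.FrobFreeF
import Cfsg.Agent.Lib.Helper1.FrobeniusConj2

set_option autoImplicit false
open Cfsg

namespace Cfsg.Agent.S4396

open Cfsg.Agent.Lib.Helper7

/-- Let the finite group A act faithfully and linearly on a finite-dimensional vector space V over a field k, and suppose A is a Frobenius group with nilpotent kernel F (every Frobenius kernel is nilpotent) and complement H such that F fixes no nonzero vector. Then V is free as a module for H: there is a subspace W with V the direct sum of the translates hW, h ∈ H. (No assumption on the characteristic of k.) -/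
theorem result {k V A : Type*} [Field k] [AddCommGroup V] [Module k V] [FiniteDimensional k V] [Group A] [Finite A] [DecidableEq A]
    (ρ : Representation k A V) (hρ : Function.Injective ρ)
    (Fk Hc : Subgroup A) [Fk.Normal] (hHc : Cfsg.IsFrobeniusComplement Hc) (hker : Cfsg.frobeniusKernel Hc = (Fk : Set A)) (hnil : Group.IsNilpotent ↥Fk)
    (hCF : ∀ v : V, (∀ f ∈ Fk, ρ f v = v) → v = 0) :
    ∃ W : Submodule k V, DirectSum.IsInternal (fun h : ↥Hc => W.map (ρ (h : A))) := by
  classical
  have hN : (Fk : Set A) = Cfsg.frobeniusKernel Hc := hker.symm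
  have hdisj := Cfsg.Agent.Lib.Helper1.frobenius_kernel_inf_eq_bot hN
  have hfpf : ∀ h ∈ Hc, h ≠ 1 → ∀ f ∈ Fk, h * f = f * h → f = 1 := by
    intro h hh h1 f hf hcomm
    have hhF : h ∉ Fk := by
      intro hF
      have h2 : h ∈ Fk ⊓ Hc := ⟨hF, hh⟩
      rw [hdisj, Subgroup.mem_bot] at h2
      exact h1 h2
    have h3 := Cfsg.Agent.Lib.Helper1.frobenius_centralizer_inf_kernel hHc hN inferInstance hhF
    have h4 : f ∈ Fk ⊓ Subgroup.centralizer {h} :=
      ⟨hf, Subgroup.mem_centralizer_singleton_iff.mpr hcomm.symm⟩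
    rw [h3, Subgroup.mem_bot] at h4
    exact h4
  obtain ⟨W, hW⟩ := Cfsg.Agent.Lib.Helper7.FrobFree.thmB Fk Hc hnil hfpf _ V ρ rfl hCF
  exact ⟨W, (DirectSum.isInternal_submodule_iff_iSupIndep_and_iSup_eq_top _).mpr hW⟩

end Cfsg.Agent.S4396
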