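import Cfsg.Statements.S4398
import Mathlib
import Cfsg.Agent.S4143
import Cfsg.Agent.S4399
import Cfsg.Agent.Lib.Helper2.SectRank
import Cfsg.Agent.Lib.Helper1.MaxClassTwoE

set_option autoImplicit false
open Cfsg

namespace Cfsg.Agent.S4398

/-- Let S be a finite 2-group of sectional 2-rank at most 2 that contains a subgroup isomorphic to the dihedral group of order 8 or to the quaternion group of order 8. Then S is dihedral of order at least 8, semidihedral of order at least 16 (order 2^(k+4) with an element a of order 2^(k+3) and an involution b with b a b⁻¹ = a^(2^(k+2)−1)), or generalized quaternion of order at least 8. -/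
theorem result {S : Type*} [Group S] [Finite S] (h2 : IsPGroup 2 S) (hr : Cfsg.SectionalPRankLE 2 2 S)
    (hsub : ∃ H : Subgroup S, Nonempty (↥H ≃* DihedralGroup 4) ∨ Nonempty (↥H ≃* QuaternionGroup 2)) :
    ((∃ k : ℕ, Nonempty (S ≃* DihedralGroup (2 ^ (k + 2)))) ∨
      (∃ k : ℕ, Nat.card S = 2 ^ (k + 4) ∧ ∃ a b : S, orderOf a = 2 ^ (k + 3) ∧ orderOf b = 2 ∧ b * a * b⁻¹ = a ^ (2 ^ (k + 2) - 1)) ∨
      (∃ k : ℕ, Nonempty (S ≃* QuaternionGroup (2 ^ (k + 1))))) := by
    classical
    haveI : Fact (Nat.Prime 2) := ⟨Nat.prime_two⟩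
    obtain ⟨H, hH⟩ := hsub
    have hpack : Nat.card H = 2 ^ 3 ∧ ¬ IsMulCommutative H ∧
        Subgroup.centralizer (H : Set S) ≤ H := by
      rcases hH with ⟨⟨e⟩⟩ | ⟨⟨e⟩⟩
      · obtain ⟨f1, f2, f3, f4, f5, d, d', hdd⟩ := Cfsg.Agent.Lib.Helper2.SectRank.dihedral_facts
        have h7 : Nat.card (DihedralGroup 4) = 8 := by rw [DihedralGroup.nat_card]
        refine ⟨by rw [Nat.card_congr e.toEquiv, h7]; norm_num, ?_,
          Cfsg.Agent.Lib.Helper2.SectRank.centralizer_le_of_equiv _ f1 f2 f3 f4 f5 h7 h2 hr H e⟩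
        intro hcomm
        apply hdd
        have := hcomm.is_comm.comm (e.symm d) (e.symm d')
        rw [← map_mul, ← map_mul] at this
        exact e.symm.injective this
      · obtain ⟨f1, f2, f3, f4, f5, d, d', hdd⟩ := Cfsg.Agent.Lib.Helper2.SectRank.quaternion_facts
        have h7 : Nat.card (QuaternionGroup 2) = 8 := by
          rw [Nat.card_eq_fintype_card, QuaternionGroup.card]
        refine ⟨by rw [Nat.card_congr e.toEquiv, h7]; norm_num, ?_,
          Cfsg.Agent.Lib.Helper2.SectRank.centralizer_le_of_equiv _ f1 f2 f3 f4 f5 h7 h2 hr H e⟩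
        intro hcomm
        apply hdd
        have := hcomm.is_comm.comm (e.symm d) (e.symm d')
        rw [← map_mul, ← map_mul] at this
        exact e.symm.injective this
    obtain ⟨hB, hBna, hC⟩ := hpack
    obtain ⟨n, hn⟩ := h2.exists_card_eq
    have hclass := Cfsg.Agent.S4143.result n hn H hB hBna hC
    have hn3 : 3 ≤ n := by
      have := Subgroup.card_le_card_group H
      rw [hB, hn] at this
      exact (Nat.pow_le_pow_iff_right (by norm_num)).mp this
    have h4 := Cfsg.Agent.Lib.Helper1.index_commutator_of_max_class_aux n (by omega) S hn hclass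
    have hexp := Cfsg.Agent.Lib.Helper1.exponent_abelianization_of_max_class n hn3 hn hclass h4
    have hab : Nat.card (Abelianization S) = 4 := by
      rw [← h4]; exact (Subgroup.index_eq_card _).symm
    have hexp' : ∀ x : Abelianization S, x ^ 2 = 1 := by
      intro x
      have := Monoid.pow_exponent_eq_one x
      rwa [show Monoid.exponent (Abelianization S) = 2 from hexp] at this
    rcases Cfsg.Agent.S4399.result h2 hab hexp' with h | h
    · exfalso
      rw [hn] at h
      have : 2 ^ 3 ≤ 2 ^ n := Nat.pow_le_pow_right (by norm_num) hn3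
      omega
    · exact h

end Cfsg.Agent.S4398
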