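import Cfsg.Statements.S4403
import Cfsg.Agent.Lib.Helper7.CycSyl4

set_option autoImplicit false
open Cfsg

namespace Cfsg.Agent.S4403

open Cfsg.Agent.Lib.Helper7

/-- Let K be a finite group, p a prime dividing its order with O_{p'}(K) = 1 (no nontrivial normal subgroup of order prime to p), and P a cyclic Sylow p-subgroup of K. Then either P is normal and self-centralizing in K with K/P cyclic of order dividing p − 1 (so K is the semidirect product of P by a group of automorphisms of P of order dividing p − 1), or the generalized Fitting subgroup F*(K) is a non-abelian simple group and p does not divide the index of F*(K) in K. -/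
theorem result {K : Type*} [Group K] [Finite K] (p : ℕ) [Fact p.Prime] (hp : p ∣ Nat.card K) (hO : Cfsg.pPrimeCore p K = ⊥)
    (P : Sylow p K) (hP : IsCyclic ↥(P : Subgroup K)) :
    ((P : Subgroup K).Normal ∧ Subgroup.centralizer ((P : Subgroup K) : Set K) = (P : Subgroup K) ∧
      (∀ (_ : (P : Subgroup K).Normal), IsCyclic (K ⧸ (P : Subgroup K))) ∧ (P : Subgroup K).index ∣ p - 1) ∨
    (IsSimpleGroup ↥(Cfsg.generalizedFittingSubgroup K) ∧ ¬ IsMulCommutative ↥(Cfsg.generalizedFittingSubgroup K) ∧
      ¬ p ∣ (Cfsg.generalizedFittingSubgroup K).index) := by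
  have hpp : p.Prime := Fact.out
  have hpP : p ∣ Nat.card ↥(P : Subgroup K) := by
    have h1 := Subgroup.card_mul_index (P : Subgroup K)
    rw [← h1] at hp
    exact (hpp.dvd_mul.mp hp).resolve_right P.not_dvd_index
  obtain ⟨⟨z, hzP⟩, hz⟩ := exists_prime_orderOf_dvd_card' p hpP
  rw [Subgroup.orderOf_mk] at hz
  by_cases hOp : Cfsg.pCore p K = ⊥
  · exact Or.inr (CycSyl.caseC (by rw [← Subgroup.card_mul_index (P : Subgroup K)]; exact Dvd.dvd.mul_right hpP _) hO hOp P hP)
  · left
    have hOP : Cfsg.pCore p K ≤ (P : Subgroup K) := Cfsg.Agent.Lib.Helper1.pCore_le_sylow p P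
    haveI hOn : (Cfsg.pCore p K).Normal := Cfsg.Agent.Lib.Helper1.pCore_normal p
    have hzO : z ∈ Cfsg.pCore p K := CycSyl.mem_of_ne_bot P hP hzP hz _ hOP hOp
    have hzp : z ^ p = 1 := by rw [← hz]; exact pow_orderOf_eq_one z
    have hconj : ∀ g : K, g * z * g⁻¹ ∈ Subgroup.zpowers z := by
      intro g
      have h1 : g * z * g⁻¹ ∈ (P : Subgroup K) := hOP (hOn.conj_mem z hzO g)
      have h2 : (g * z * g⁻¹) ^ p = 1 := by rw [conj_pow, hzp]; group
      exact CycSyl.mem_zpowers_of_mem_cyclic hpp (P : Subgroup K) hP hzP h1 hz h2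
    have hZn : (Subgroup.zpowers z).Normal := by
      constructor
      intro w hw g
      obtain ⟨i, rfl⟩ := Subgroup.mem_zpowers_iff.mp hw
      rw [← conj_zpow]
      exact Subgroup.zpow_mem _ (hconj g) i
    exact CycSyl.caseB hO P hP hzP hz hZn

end Cfsg.Agent.S4403
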