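import Cfsg.Statements.S4405
import Cfsg.Agent.Lib.Helper7.Ord320d
import Cfsg.Agent.Lib.Helper7.PCore
import Cfsg.Agent.Lib.Helper1.FittingCentralizer
import Cfsg.Agent.S0144

set_option autoImplicit false
open Cfsg

namespace Cfsg.Agent.S4405

open Cfsg.Agent.Lib.Helper7

/-- Let G be a finite group of order 320 = 64·5 whose largest normal 2-subgroup H = O₂(G) equals the Fitting subgroup F(G) and is extraspecial of order 32 containing no elementary abelian subgroup of order 8 (so H is the central product of a quaternion group and a dihedral group of order 8). If T is an involution of G outside H whose centralizer in H contains an elementary abelian subgroup of order 4, then C_H(T) itself is elementary abelian of order 4. -/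
theorem result {G : Type*} [Group G] [Finite G]
    (hG : Nat.card G = 320) (hHF : Cfsg.pCore 2 G = Cfsg.fittingSubgroup G)
    (hex : Cfsg.IsExtraspecial 2 ↥(Cfsg.pCore 2 G)) (h32 : Nat.card ↥(Cfsg.pCore 2 G) = 32)
    (hminus : ∀ A : Subgroup G, A ≤ Cfsg.pCore 2 G → Cfsg.IsElementaryAbelian 2 A → Nat.card ↥A ≤ 4)
    (T : G) (hT : orderOf T = 2) (hTH : T ∉ Cfsg.pCore 2 G)
    (V : Subgroup G) (hV : V ≤ Cfsg.pCore 2 G ⊓ Subgroup.centralizer ({T} : Set G)) (hV4 : Nat.card ↥V = 4) (hVe : Cfsg.IsElementaryAbelian 2 V) :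
    Nat.card ↥(Cfsg.pCore 2 G ⊓ Subgroup.centralizer ({T} : Set G)) = 4 ∧
      Cfsg.IsElementaryAbelian 2 (Cfsg.pCore 2 G ⊓ Subgroup.centralizer ({T} : Set G)) := by
  classical
  set H := Cfsg.pCore 2 G with hHdef
  have hHn : H.Normal := pCore_normal 2 G
  haveI := hHn
  -- the centre of `H`, inside `G`
  set Z : Subgroup G := (Subgroup.center ↥H).map H.subtype with hZdef
  have hZn : Z.Normal := ConjAct.normal_of_characteristic_of_normal
  haveI := hZn
  have hZ2 : Nat.card ↥Z = 2 := by
    rw [hZdef, Subgroup.card_map_of_injective H.subtype_injective]; exact hex.2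
  have hZH : Z ≤ H := Subgroup.map_subtype_le _
  have hZc : Z ≤ Subgroup.center G := Ord320.le_center_of_normal_of_card_two hZn hZ2
  obtain ⟨hcomm, hsq⟩ := Ord320.extraspecial_data H hex
  have hsolv : Group.IsSolvable G :=
    Cfsg.Agent.S0144.result 2 5 6 1 Nat.prime_two (by norm_num) (by rw [hG]; norm_num)
  haveI := hsolv
  have hCH : Subgroup.centralizer (H : Set G) ≤ H := by
    have := Cfsg.Agent.Lib.Helper1.centralizer_fittingSubgroup_le (G := G)
    rw [← hHF] at this
    exact this
  have hmax : ∀ N : Subgroup G, N.Normal → IsPGroup 2 ↥N → N ≤ H :=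
    fun N hN hp => le_pCore hN hp
  have hK8 := Ord320.card_Kb_le (Z := Z) hHn hG h32 hZc hZH hZ2 hCH hmax T hT hTH
  set C := H ⊓ Subgroup.centralizer ({T} : Set G) with hCdef
  have hCK : C ≤ Ord320.Kb H Z T := Ord320.cent_le_Kb T
  have hVC : V ≤ C := hV
  have hC4 : 4 ≤ Nat.card ↥C := by rw [← hV4]; exact Subgroup.card_le_of_le hVC
  have hCdvd : Nat.card ↥C ∣ 32 := by rw [← h32]; exact Subgroup.card_dvd_of_le inf_le_left
  have hCle8 : Nat.card ↥C ≤ 8 := (Subgroup.card_le_of_le hCK).trans hK8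
  have hC_ne8 : Nat.card ↥C ≠ 8 := by
    intro h8
    have hKeq : C = Ord320.Kb H Z T :=
      Subgroup.eq_of_le_of_card_ge hCK (by rw [h8]; exact hK8)
    have hK8' : Nat.card ↥(Ord320.Kb H Z T) = 8 := by rw [← hKeq]; exact h8
    have hKcent : Ord320.Kb H Z T ≤ Subgroup.centralizer ({T} : Set G) := by
      rw [← hKeq]; exact inf_le_right
    have hexp := Ord320.sq_eq_one_of_Kb_le_centralizer hHn h32 hZc hZH hZ2 hcomm hsq T hT
      hK8' hKcent
    have hel : Cfsg.IsElementaryAbelian 2 (Ord320.Kb H Z T) :=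
      Ord320.isElementaryAbelian_of_sq _ hexp
    have := hminus _ (Ord320.Kb_le T) hel
    omega
  have hC4' : Nat.card ↥C = 4 := by
    generalize Nat.card ↥C = c at hC4 hCdvd hCle8 hC_ne8
    interval_cases c <;> omega
  refine ⟨hC4', ?_⟩
  have hVeq : V = C := Subgroup.eq_of_le_of_card_ge hVC (by rw [hC4', hV4])
  rw [← hVeq]
  exact hVe

end Cfsg.Agent.S4405
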