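import Cfsg.Statements.S4407
import Cfsg.Agent.Lib.Helper7.TD3
import Cfsg.Agent.Lib.Helper7.TD4
import Cfsg.Agent.Lib.Helper7.TD5

set_option autoImplicit false
open Cfsg

namespace Cfsg.Agent.S4407

/-- Let S be a finite group with a normal elementary abelian subgroup A of order 9 that is self-centralizing (C_S(A) = A), and a dihedral subgroup X of order 8 with S = AX. Let M be a finite-dimensional module for S over the field with two elements that is faithful and irreducible. Then M has 16 elements, and X contains exactly one subgroup B of order 4 and exponent 2 whose fixed points on M form a subspace with exactly 2 elements (equivalently, M is free of rank one over the group algebra of B). -/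
theorem result {S : Type*} [Group S] [Finite S]
    (A : Subgroup S) [A.Normal] (hA : Cfsg.IsElementaryAbelian 3 A) (hA9 : Nat.card ↥A = 9)
    (hAC : Subgroup.centralizer (A : Set S) = A) (X : Subgroup S) (hX : Nonempty (↥X ≃* DihedralGroup 4)) (hAX : A ⊔ X = ⊤)
    {M : Type*} [AddCommGroup M] [Module (ZMod 2) M] [Finite M] (ρ : Representation (ZMod 2) S M)
    (hfaith : Function.Injective ρ)
    (hirr : ∀ N : Submodule (ZMod 2) M, (∀ s : S, ∀ m ∈ N, ρ s m ∈ N) → N = ⊥ ∨ N = ⊤) (hM : Nontrivial M) :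
    Nat.card M = 16 ∧
      ∃! B : Subgroup S, B ≤ X ∧ Nat.card ↥B = 4 ∧ (∀ b ∈ B, b ^ 2 = 1) ∧
        Nat.card {m : M // ∀ b ∈ B, ρ b m = m} = 2 := by
  classical
  obtain ⟨e⟩ := hX
  obtain ⟨θ, hθdef⟩ : ∃ θ : DihedralGroup 4 →* S, θ = X.subtype.comp e.symm.toMonoidHom :=
    ⟨_, rfl⟩
  have hθv : ∀ d, θ d = ((e.symm d : X) : S) := by
    intro d; rw [hθdef]; rfl
  have hθ : Function.Injective θ := by
    intro d d' h
    rw [hθv, hθv] at h
    exact e.symm.injective (Subtype.ext h)
  have hθX : θ.range = X := by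
    ext x
    rw [MonoidHom.mem_range]
    constructor
    · rintro ⟨d, rfl⟩
      rw [hθv]; exact (e.symm d).2
    · intro hx
      refine ⟨e ⟨x, hx⟩, ?_⟩
      rw [hθv, e.symm_apply_apply]
  haveI := hA.1
  have hc : ∀ a ∈ A, ∀ a' ∈ A, a * a' = a' * a := by
    intro a ha a' ha'
    have := mul_comm' (⟨a, ha⟩ : A) ⟨a', ha'⟩
    exact congrArg Subtype.val this
  have h3 : ∀ a ∈ A, a ^ 3 = 1 := hA.2
  obtain ⟨r, t, b, B₁, B₂, hS⟩ :=
    Cfsg.Agent.Lib.Helper7.TD.exists_setup A hc h3 hA9 hAC X θ hθ hθX hAX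
  have hP : Cfsg.Agent.Lib.Helper7.TD.PreCore A ρ r t b :=
    { rr := hS.rr, t2 := hS.t2, tr := hS.tr, zinv := hS.zinv, gen := hS.gen, comm := hc,
      normal := inferInstance, exp3 := h3, card9 := hA9, bA := hS.bA, b1 := hS.b1, tb := hS.tb,
      faith := hfaith, irr := hirr, nontriv := hM }
  rcases hP.dichotomy with hC | hC
  · obtain ⟨h16, hne, heq⟩ := Cfsg.Agent.Lib.Helper7.TD.core_main ρ hC
    refine ⟨h16, B₂, ⟨hS.B2X, hS.B2card, hS.B2exp, heq B₂ hS.z2 hS.tr2 hS.m2⟩, ?_⟩
    rintro B ⟨hBX, hB4, hB2, hBfix⟩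
    rcases hS.cls B hBX hB4 hB2 with h | h
    · exfalso
      rw [h] at hBfix
      exact hne B₁ hS.m1 hBfix
    · exact h
  · obtain ⟨h16, hne, heq⟩ := Cfsg.Agent.Lib.Helper7.TD.core_main ρ hC
    have hB1 : Nat.card {m : M // ∀ g ∈ B₁, ρ g m = m} = 2 := by
      apply heq B₁ hS.z1
      · rw [mul_assoc]; exact B₁.mul_mem hS.t1 hS.z1
      · intro x hx
        rcases hS.m1 x hx with h | h | h | h
        · left; exact h
        · right; left; exact h
        · right; right; right
          rw [h, mul_assoc t r r, mul_assoc t (r * r), hS.rr, mul_one]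
        · right; right; left
          rw [h, mul_assoc]
    refine ⟨h16, B₁, ⟨hS.B1X, hS.B1card, hS.B1exp, hB1⟩, ?_⟩
    rintro B ⟨hBX, hB4, hB2, hBfix⟩
    rcases hS.cls B hBX hB4 hB2 with h | h
    · exact h
    · exfalso
      rw [h] at hBfix
      exact hne B₂ hS.m2 hBfix

end Cfsg.Agent.S4407
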