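import Cfsg.Statements.S4408
import Cfsg.Agent.Lib.Helper7.InvFam
import Cfsg.Agent.Lib.Helper8.ThompsonDihedral3
import Cfsg.Agent.Lib.Helper1.FittingCentralizer

set_option autoImplicit false
open Cfsg

namespace Cfsg.Agent.S4408

open Cfsg.Agent.Lib.Helper7

/-- Let S be a finite solvable group whose Fitting subgroup F(S) has odd order, and let I be an elementary abelian 2-subgroup of S of order 2ⁿ with n ≥ 1. Then F(S) contains subgroups A₁, …, Aₙ of prime order, each normalized by I, pairwise commuting and generating a subgroup A of order |A₁|⋯|Aₙ| (their internal direct product), such that no non-identity element of I centralizes A. -/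
theorem result {S : Type*} [Group S] [Finite S]
    [Group.IsSolvable S] (hF : Odd (Nat.card ↥(Cfsg.fittingSubgroup S)))
    (I : Subgroup S) (hI : Cfsg.IsElementaryAbelian 2 I) (n : ℕ) (hn : 1 ≤ n) (hIn : Nat.card ↥I = 2 ^ n) :
    ∃ f : Fin n → Subgroup S, (∀ i, (Nat.card ↥(f i)).Prime) ∧ (∀ i, f i ≤ Cfsg.fittingSubgroup S) ∧
      (∀ i, I ≤ Subgroup.normalizer ((f i) : Set S)) ∧ (∀ i j, i ≠ j → ∀ a ∈ f i, ∀ b ∈ f j, a * b = b * a) ∧
      Nat.card ↥(⨆ i, f i) = ∏ i, Nat.card ↥(f i) ∧ I ⊓ Subgroup.centralizer ((⨆ i, f i : Subgroup S) : Set S) = ⊥ := by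
  classical
  obtain ⟨hIcomm, hI2'⟩ := hI
  have hAc : ∀ a ∈ I, ∀ b ∈ I, a * b = b * a := by
    intro a ha b hb
    have := mul_comm' (⟨a, ha⟩ : ↥I) ⟨b, hb⟩
    exact congrArg Subtype.val this
  have hA2 : ∀ a ∈ I, a * a = 1 := fun a ha => by rw [← pow_two]; exact hI2' a ha
  set L := Cfsg.fittingSubgroup S with hL
  have hLn : L.Normal := Cfsg.Agent.Lib.Helper1.fittingSubgroup_normal
  have hLs : Group.IsSolvable ↥L :=
    Group.isSolvable_of_isSolvable_injective L.subtype_injective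
  have hAL : I ≤ Subgroup.normalizer (L : Set S) := by
    rw [Subgroup.normalizer_eq_top]; exact le_top
  have hCL : Subgroup.centralizer (L : Set S) ≤ L :=
    Cfsg.Agent.Lib.Helper1.centralizer_fittingSubgroup_le
  have hfaith : I ⊓ Subgroup.centralizer (L : Set S) = ⊥ := by
    rw [eq_bot_iff]
    intro t ht
    rw [Subgroup.mem_bot]
    exact Cfsg.Agent.Lib.Helper8.ThompsonDihedral.eq_one_of_mul_self_of_odd L hF (hCL ht.2)
      (hA2 t ht.1)
  obtain ⟨M, hML, hMc, hAM, hMf⟩ :=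
    Cfsg.Agent.Lib.Helper8.ThompsonDihedral.exists_abelian_faithful I hAc hA2 (Nat.card L) L
      le_rfl hLs hF hAL hfaith
  have hModd : Odd (Nat.card M) := hF.of_dvd_nat (Subgroup.card_dvd_of_le hML)
  obtain ⟨a, x, hax, haxj, hcl⟩ :=
    Cfsg.Agent.Lib.Helper8.ThompsonDihedral.abelian_case M hMc hModd n I hAc hA2 hIn hAM hMf
  obtain ⟨f, h1, h2, h3, h4, h5, h6⟩ := InvFam.assemble I M n hIn hMc hModd a x hax haxj hcl
  exact ⟨f, h1, fun i => (h2 i).trans hML, h3, h4, h5, h6⟩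

end Cfsg.Agent.S4408
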