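import Cfsg.Statements.S4410
import Cfsg.Agent.Lib.Helper7.TV1
import Cfsg.Agent.Lib.Helper7.TV2

set_option autoImplicit false
open Cfsg

namespace Cfsg.Agent.S4410

/-- Let V be a finite-dimensional vector space over the field with two elements and S a solvable group of linear automorphisms of V with O₂(S) = 1. If P ∈ S has order 4 and (P − 1)³ = 0 on V, then the image of (P − 1)² has at least 4 elements; equivalently, in the decomposition of V into indecomposable modules for the cyclic group generated by P, at least two summands have dimension 3. -/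
theorem result
    {V : Type*} [AddCommGroup V] [Module (ZMod 2) V] [Finite V]
    (S : Subgroup (V ≃ₗ[ZMod 2] V)) (hS : Group.IsSolvable ↥S) (hO2 : Cfsg.pCore 2 ↥S = ⊥)
    (P : V ≃ₗ[ZMod 2] V) (hPS : P ∈ S) (hP4 : orderOf P = 4)
    (hcub : ((P : V →ₗ[ZMod 2] V) - LinearMap.id) ^ 3 = 0) :
    4 ≤ Nat.card ↥(LinearMap.range (((P : V →ₗ[ZMod 2] V) - LinearMap.id) ^ 2)) := by
  obtain ⟨N, hN⟩ : ∃ N : V →ₗ[ZMod 2] V, N = (P : V →ₗ[ZMod 2] V) - LinearMap.id := ⟨_, rfl⟩
  rw [← hN]
  by_contra h
  have hfr : Module.finrank (ZMod 2) ↥(LinearMap.range (N ^ 2)) ≤ 1 := by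
    by_contra h2
    apply h
    have h3 : 2 ≤ Module.finrank (ZMod 2) ↥(LinearMap.range (N ^ 2)) := by omega
    have h4 : Nat.card ↥(LinearMap.range (N ^ 2)) =
        Nat.card (ZMod 2) ^ Module.finrank (ZMod 2) ↥(LinearMap.range (N ^ 2)) :=
      Module.natCard_eq_pow_finrank
    rw [h4, Nat.card_zmod]
    calc 4 = 2 ^ 2 := by norm_num
      _ ≤ _ := Nat.pow_le_pow_right (by norm_num) h3
  obtain ⟨a0, ha0⟩ := finrank_le_one_iff.1 hfr
  apply Cfsg.Agent.Lib.Helper7.TV.no_transvection_square S hS hO2 P hPS hP4 (a0 : V)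
  intro v
  have e : P (P v) - P v - (P v - v) = P (P v) - v := by
    have h2 : P v + P v = 0 := ZModModule.add_self _
    have h3 : v + v = 0 := ZModModule.add_self _
    calc P (P v) - P v - (P v - v) = P (P v) - (P v + P v) + (v + v) - v := by abel
      _ = P (P v) - v := by rw [h2, h3, sub_zero, add_zero]
  have hNv : ∀ w : V, N w = P w - w := by
    intro w
    rw [hN, LinearMap.sub_apply, LinearMap.id_apply, LinearEquiv.coe_coe]
  have h1 : (P * P) v - v = (N ^ 2) v := by
    rw [pow_two, Module.End.mul_apply, hNv, hNv, map_sub, LinearEquiv.mul_apply, e]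
  rw [h1]
  obtain ⟨c, hc⟩ := ha0 ⟨(N ^ 2) v, LinearMap.mem_range_self _ v⟩
  have hc' : c • (a0 : V) = (N ^ 2) v := congrArg Subtype.val hc
  rw [← hc']
  exact Submodule.smul_mem _ _ (Submodule.subset_span rfl)

end Cfsg.Agent.S4410
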