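import Cfsg.Statements.S4412
import Cfsg.Agent.Lib.Helper2.E8Aut3

set_option autoImplicit false
open Cfsg

namespace Cfsg.Agent.S4412

/-- Let p be an odd prime, P a finite p-group and I an elementary abelian subgroup of order 8 of Aut(P). Call T ∈ I, T ≠ 1, broad when its fixed-point subgroup C_P(T) is not cyclic. Suppose I has a proper subgroup I₀ containing no broad element such that the product of any two broad elements lies in I₀. Then P is abelian of rank exactly 3 (generated by three elements but not by two), there are exactly three broad elements and they generate I, and I₀ is exactly the set of products of two broad elements. -/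
theorem result
    {P : Type*} [Group P] [Finite P] (p : ℕ) (hp : p.Prime) (hp2 : p ≠ 2) (hP : IsPGroup p P)
    (I : Subgroup (MulAut P)) (hI : Cfsg.IsElementaryAbelian 2 I) (hI8 : Nat.card ↥I = 8)
    (I₀ : Subgroup (MulAut P)) (hI₀ : I₀ < I)
    (hdisj : ∀ T ∈ I₀, T ≠ 1 → ∃ g : P, ∀ x : P, (T x = x ↔ x ∈ Subgroup.zpowers g))
    (hprod : ∀ T ∈ I, ∀ T' ∈ I, T ≠ 1 → T' ≠ 1 → (¬ ∃ g : P, ∀ x : P, (T x = x ↔ x ∈ Subgroup.zpowers g)) →
      (¬ ∃ g : P, ∀ x : P, (T' x = x ↔ x ∈ Subgroup.zpowers g)) → T * T' ∈ I₀) :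
    IsMulCommutative P ∧ (∃ a b c : P, Subgroup.closure {a, b, c} = ⊤) ∧ (¬ ∃ a b : P, Subgroup.closure {a, b} = ⊤) ∧
      Nat.card {T : MulAut P // T ∈ I ∧ T ≠ 1 ∧ ¬ ∃ g : P, ∀ x : P, (T x = x ↔ x ∈ Subgroup.zpowers g)} = 3 ∧
      Subgroup.closure {T : MulAut P | T ∈ I ∧ T ≠ 1 ∧ ¬ ∃ g : P, ∀ x : P, (T x = x ↔ x ∈ Subgroup.zpowers g)} = I ∧
      (I₀ : Set (MulAut P)) = {S : MulAut P | ∃ T T' : MulAut P, T ∈ I ∧ T' ∈ I ∧ T ≠ 1 ∧ T' ≠ 1 ∧
        (¬ ∃ g : P, ∀ x : P, (T x = x ↔ x ∈ Subgroup.zpowers g)) ∧ (¬ ∃ g : P, ∀ x : P, (T' x = x ↔ x ∈ Subgroup.zpowers g)) ∧ S = T * T'} := by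
  have hIcomm : IsMulCommutative ↥I := hI.1
  have hIc : ∀ a ∈ I, ∀ b ∈ I, a * b = b * a := fun a ha b hb => setLike_mul_comm ha hb
  have hIe : ∀ a ∈ I, a * a = 1 := fun a ha => by rw [← pow_two]; exact hI.2 a ha
  obtain ⟨S₁, hS₁, S₂, hS₂, ⟨g₁, hg₁⟩, ⟨g₂, hg₂⟩, ⟨g₃, hg₃⟩⟩ :=
    Cfsg.Agent.Lib.Helper2.E8Aut.claimZ I hIe hI8 I₀ hdisj hprod
  have c : Cfsg.Agent.Lib.Helper2.E8Aut.Cfg p I ![S₁, S₂, S₁ * S₂] ![g₁, g₂, g₃] :=
    { hp := hp, hp2 := hp2, hP := hP, hIc := hIc, hIe := hIe, hI8 := hI8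
      hS := by
        intro k
        fin_cases k
        · exact hS₁
        · exact hS₂
        · exact mul_mem hS₁ hS₂
      hS2 := rfl
      hg := by
        intro k
        fin_cases k
        · exact hg₁
        · exact hg₂
        · exact hg₃ }
  exact Cfsg.Agent.Lib.Helper2.E8Aut.main_of_cfg c I₀ hI₀.le hdisj hprod

end Cfsg.Agent.S4412
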