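import Cfsg.Statements.S4420

set_option autoImplicit false
open Cfsg

namespace Cfsg.Agent.S4420

variable {H : Type*} [Group H]

/-- an element outside `A` inverts `A` -/
theorem inverts (A : Subgroup H) (hD : ∀ x : H, x ∉ A → x ^ 2 = 1) (x : H) (hx : x ∉ A)
    (a : H) (ha : a ∈ A) : x * a * x⁻¹ = a⁻¹ := by
  have hxa : x * a ∉ A := fun h => hx (by simpa using A.mul_mem h (A.inv_mem ha))
  have h1 := hD (x * a) hxa
  have h2 := hD x hx
  have hxinv : x⁻¹ = x := by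
    rw [inv_eq_iff_mul_eq_one, ← pow_two]; exact h2
  rw [hxinv]
  rw [pow_two] at h1
  -- x a x a = 1
  have : x * a * x = a⁻¹ := by
    rw [eq_inv_iff_mul_eq_one]
    simpa [mul_assoc] using h1
  exact this

theorem elemAb_case [Finite H] (A : Subgroup H) (hA : A ≠ ⊤) (hsq : ∀ x : H, x ^ 2 = 1) :
    ∃ B : Subgroup H, B.Normal ∧ IsMulCommutative ↥B ∧ B.index = 2 ∧
      (∀ x : H, x ∉ B → x ^ 2 = 1 ∧ ∀ b ∈ B, x * b * x⁻¹ = b⁻¹) := by
  have hcomm : ∀ a b : H, a * b = b * a := by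
    intro a b
    have h1 := hsq (a * b)
    have ha := hsq a
    have hb := hsq b
    have hainv : a⁻¹ = a := by rw [inv_eq_iff_mul_eq_one, ← pow_two]; exact ha
    have hbinv : b⁻¹ = b := by rw [inv_eq_iff_mul_eq_one, ← pow_two]; exact hb
    have : (a * b)⁻¹ = a * b := by rw [inv_eq_iff_mul_eq_one, ← pow_two]; exact h1
    rw [mul_inv_rev, hainv, hbinv] at this
    exact this.symm
  have hp : IsPGroup 2 H := fun g => ⟨1, by simpa using hsq g⟩
  obtain ⟨n, hn⟩ := IsPGroup.iff_card.1 hp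
  have hn0 : n ≠ 0 := by
    rintro rfl
    rw [pow_zero] at hn
    apply hA
    have : Subsingleton H := (Nat.card_eq_one_iff_unique.1 hn).1
    exact Subsingleton.elim _ _
  obtain ⟨m, rfl⟩ := Nat.exists_eq_succ_of_ne_zero hn0
  haveI : Fact (Nat.Prime 2) := ⟨Nat.prime_two⟩
  obtain ⟨B, hB⟩ := Sylow.exists_subgroup_card_pow_prime 2 (n := m)
    (G := H) (by rw [hn]; exact pow_dvd_pow 2 (Nat.le_succ m))
  refine ⟨B, ⟨fun b hb g => ?_⟩, ?_, ?_, ?_⟩
  · rw [hcomm g b, mul_inv_cancel_right]; exact hb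
  · exact ⟨⟨fun a b => Subtype.ext (hcomm a b)⟩⟩
  · have := B.card_mul_index
    rw [hB, hn, pow_succ] at this
    exact Nat.eq_of_mul_eq_mul_left (pow_pos (by norm_num) m) this
  · intro x _
    refine ⟨hsq x, fun b _ => ?_⟩
    rw [hcomm x b, mul_inv_cancel_right, eq_comm, inv_eq_iff_mul_eq_one, ← pow_two]
    exact hsq b

theorem result {H : Type*} [Group H] [Finite H] (A : Subgroup H) (hA : A ≠ ⊤) (hD : ∀ x : H, x ∉ A → x ^ 2 = 1) :
    ∃ B : Subgroup H, B.Normal ∧ IsMulCommutative ↥B ∧ B.index = 2 ∧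
      (∀ x : H, x ∉ B → x ^ 2 = 1 ∧ ∀ b ∈ B, x * b * x⁻¹ = b⁻¹) ∧
      (¬ (IsMulCommutative H ∧ ∀ x : H, x ^ 2 = 1) →
        ∀ B' : Subgroup H, B'.Normal → IsMulCommutative ↥B' → B'.index = 2 →
          (∀ x : H, x ∉ B' → x ^ 2 = 1 ∧ ∀ b ∈ B', x * b * x⁻¹ = b⁻¹) → B' = B) := by
  by_cases hsq : ∀ x : H, x ^ 2 = 1
  · obtain ⟨B, h1, h2, h3, h4⟩ := elemAb_case A hA hsq
    refine ⟨B, h1, h2, h3, h4, fun hne => absurd ⟨?_, hsq⟩ hne⟩
    refine ⟨⟨fun a b => ?_⟩⟩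
    have h1 := hsq (a * b)
    have ha := hsq a
    have hb := hsq b
    have hainv : a⁻¹ = a := by rw [inv_eq_iff_mul_eq_one, ← pow_two]; exact ha
    have hbinv : b⁻¹ = b := by rw [inv_eq_iff_mul_eq_one, ← pow_two]; exact hb
    have : (a * b)⁻¹ = a * b := by rw [inv_eq_iff_mul_eq_one, ← pow_two]; exact h1
    rw [mul_inv_rev, hainv, hbinv] at this
    exact this.symm
  · push Not at hsq
    obtain ⟨a₀, ha₀⟩ := hsq
    have ha₀A : a₀ ∈ A := by
      by_contra h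
      exact ha₀ (hD a₀ h)
    have ha₀inv : a₀⁻¹ ≠ a₀ := by
      intro h
      apply ha₀
      rw [pow_two]
      rwa [inv_eq_iff_mul_eq_one] at h
    obtain ⟨x₀, hx₀⟩ : ∃ x : H, x ∉ A := by
      by_contra h
      push Not at h
      exact hA (Subgroup.eq_top_iff' A |>.2 h)
    have hidx : A.index = 2 := by
      rw [Subgroup.index_eq_two_iff_exists_notMem_and']
      refine ⟨x₀, hx₀, fun b => ?_⟩
      by_contra hcon
      push Not at hcon
      obtain ⟨hb1, hb2⟩ := hcon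
      -- x₀ * b ∉ A and b ∉ A, both invert a₀; so x₀ inverts... x₀ * b inverts a₀, b inverts a₀
      have e1 := inverts A hD (x₀ * b) hb1 a₀ ha₀A
      have e2 := inverts A hD b hb2 a₀ ha₀A
      have e3 := inverts A hD x₀ hx₀ a₀⁻¹ (A.inv_mem ha₀A)
      have : x₀ * b * a₀ * (x₀ * b)⁻¹ = x₀ * (b * a₀ * b⁻¹) * x₀⁻¹ := by group
      rw [this, e2, e3, inv_inv] at e1
      exact ha₀inv e1.symm
    have hAcomm : ∀ a b : H, a ∈ A → b ∈ A → a * b = b * a := by
      intro a b ha hb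
      have e1 := inverts A hD x₀ hx₀ (a * b) (A.mul_mem ha hb)
      have e2 := inverts A hD x₀ hx₀ a ha
      have e3 := inverts A hD x₀ hx₀ b hb
      have : x₀ * (a * b) * x₀⁻¹ = (x₀ * a * x₀⁻¹) * (x₀ * b * x₀⁻¹) := by group
      rw [this, e2, e3, ← mul_inv_rev, inv_inj] at e1
      exact e1.symm
    refine ⟨A, Subgroup.normal_of_index_eq_two hidx, ⟨⟨fun a b => Subtype.ext (hAcomm a b a.2 b.2)⟩⟩,
      hidx, fun x hx => ⟨hD x hx, fun b hb => inverts A hD x hx b hb⟩, ?_⟩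
    intro _ B' _ hB'c hB'i hB'
    have ha₀B' : a₀ ∈ B' := by
      by_contra h
      exact ha₀ (hB' a₀ h).1
    have hle : B' ≤ A := by
      intro x hxB'
      by_contra hxA
      have e1 := inverts A hD x hxA a₀ ha₀A
      have e2 : (⟨x, hxB'⟩ : B') * ⟨a₀, ha₀B'⟩ = ⟨a₀, ha₀B'⟩ * ⟨x, hxB'⟩ :=
        hB'c.is_comm.comm _ _
      have e3 : x * a₀ = a₀ * x := congrArg Subtype.val e2
      rw [e3, mul_inv_cancel_right] at e1
      exact ha₀inv e1.symm
    by_contra hne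
    have hlt : B' < A := lt_of_le_of_ne hle hne
    have hdvd := Subgroup.index_dvd_of_le hle
    -- index A = index B' = 2 and B' ≤ A → equal
    have := Subgroup.relIndex_mul_index hle
    rw [hidx, hB'i] at this
    have hrel : B'.relIndex A = 1 := by omega
    exact hne (le_antisymm hle (Subgroup.relIndex_eq_one.1 hrel))

end Cfsg.Agent.S4420
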