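import Cfsg.Statements.S4421

set_option autoImplicit false
open Cfsg

namespace Cfsg.Agent.S4421

variable {G : Type*} [Group G]

theorem cm_mul (A : Subgroup G) (g h : G) :
    A.map (MulAut.conj (g * h)).toMonoidHom =
      (A.map (MulAut.conj h).toMonoidHom).map (MulAut.conj g).toMonoidHom := by
  rw [Subgroup.map_map]
  congr 1
  ext x
  simp [mul_assoc]

theorem cm_one (A : Subgroup G) : A.map (MulAut.conj (1 : G)).toMonoidHom = A := by
  ext x
  simp

theorem mem_norm_iff (A : Subgroup G) (g : G) :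
    g ∈ Subgroup.normalizer (A : Set G) ↔ A.map (MulAut.conj g).toMonoidHom = A :=
  Subgroup.mem_normalizer_iff_map_conj_eq

theorem cm_of_mem (S : Subgroup G) (s : G) (hs : s ∈ S) :
    S.map (MulAut.conj s).toMonoidHom = S := by
  rw [← mem_norm_iff]
  exact Subgroup.le_normalizer hs

theorem result {G : Type*} [Group G] [Finite G] (A S H : Subgroup G)
    (hAS : A ≤ S) (hSH : S ≤ H)
    (h1 : ∀ g : G, A.map (MulAut.conj g).toMonoidHom ≤ S → ∃ s ∈ S, A.map (MulAut.conj g).toMonoidHom = A.map (MulAut.conj s).toMonoidHom)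
    (h2 : ∀ g : G, S.map (MulAut.conj g).toMonoidHom ≤ H → ∃ y ∈ H, S.map (MulAut.conj g).toMonoidHom = S.map (MulAut.conj y).toMonoidHom)
    (h3 : ∀ x ∈ Subgroup.normalizer (A : Set G), S.map (MulAut.conj x).toMonoidHom ≤ H) :
    ∀ x ∈ Subgroup.normalizer (A : Set G), ∃ y ∈ H ⊓ Subgroup.normalizer (A : Set G),
      ∃ z ∈ Subgroup.normalizer (S : Set G) ⊓ Subgroup.normalizer (A : Set G), x = y * z := by
  intro x hx
  obtain ⟨h, hhH, hh⟩ := h2 x (h3 x hx)
  have hxA : A.map (MulAut.conj x).toMonoidHom = A := (mem_norm_iff A x).1 hx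
  -- n = h⁻¹ x normalizes S
  have hn : S.map (MulAut.conj (h⁻¹ * x)).toMonoidHom = S := by
    rw [cm_mul, hh, ← cm_mul, inv_mul_cancel, cm_one]
  -- A^{h⁻¹} ≤ S
  have hA1 : A.map (MulAut.conj h⁻¹).toMonoidHom ≤ S := by
    have : A.map (MulAut.conj h⁻¹).toMonoidHom = A.map (MulAut.conj (h⁻¹ * x)).toMonoidHom := by
      rw [cm_mul, hxA]
    rw [this]
    calc A.map (MulAut.conj (h⁻¹ * x)).toMonoidHom
        ≤ S.map (MulAut.conj (h⁻¹ * x)).toMonoidHom := Subgroup.map_mono hAS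
      _ = S := hn
  obtain ⟨s, hsS, hs⟩ := h1 h⁻¹ hA1
  have hyA : A.map (MulAut.conj (h * s)).toMonoidHom = A := by
    rw [cm_mul, ← hs, ← cm_mul, mul_inv_cancel, cm_one]
  have hyN : h * s ∈ Subgroup.normalizer (A : Set G) := (mem_norm_iff A _).2 hyA
  refine ⟨h * s, ⟨H.mul_mem hhH (hSH hsS), hyN⟩, (h * s)⁻¹ * x, ⟨?_, ?_⟩, by group⟩
  · have : (h * s)⁻¹ * x = s⁻¹ * (h⁻¹ * x) := by group
    rw [this]
    apply Subgroup.mul_mem
    · exact Subgroup.le_normalizer (S.inv_mem hsS)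
    · exact (mem_norm_iff S _).2 hn
  · exact Subgroup.mul_mem _ (Subgroup.inv_mem _ hyN) hx

end Cfsg.Agent.S4421
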