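import Cfsg.Statements.S4422

set_option autoImplicit false
open Cfsg

namespace Cfsg.Agent.S4422

theorem list_prod_modEq_one (e : ℕ) (l : List ℕ) (h : ∀ p ∈ l, p ≡ 1 [MOD e]) :
    l.prod ≡ 1 [MOD e] := by
  induction l with
  | nil => simp [Nat.ModEq]
  | cons a t ih =>
    rw [List.prod_cons]
    have h1 : a ≡ 1 [MOD e] := h a (by simp)
    have h2 : t.prod ≡ 1 [MOD e] := ih (fun p hp => h p (by simp [hp]))
    simpa using h1.mul h2

theorem prime_case (q e p : ℕ) (hq : 2 ≤ q) (he : 1 ≤ e) (hp : p.Prime)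
    (hm : p ∣ q ^ e - 1) (hcop : ∀ i : ℕ, 1 ≤ i → i < e → ¬ p ∣ (q ^ i - 1)) :
    p ≡ 1 [MOD e] := by
  haveI : Fact p.Prime := ⟨hp⟩
  have hqe : 1 ≤ q ^ e := Nat.one_le_pow _ _ (by omega)
  have h1 : ((q : ZMod p)) ^ e = 1 := by
    have : ((q ^ e - 1 : ℕ) : ZMod p) = 0 := (ZMod.natCast_eq_zero_iff _ _).2 hm
    rw [Nat.cast_sub hqe] at this
    push_cast at this
    exact sub_eq_zero.1 this
  have hq0 : (q : ZMod p) ≠ 0 := by
    intro h0
    rw [h0, zero_pow (by omega)] at h1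
    exact zero_ne_one h1
  have hd : orderOf (q : ZMod p) ∣ e := orderOf_dvd_of_pow_eq_one h1
  have hdpos : 0 < orderOf (q : ZMod p) := by
    apply orderOf_pos_iff.2
    exact isOfFinOrder_iff_pow_eq_one.2 ⟨e, by omega, h1⟩
  have hde : orderOf (q : ZMod p) = e := by
    by_contra hne
    have hlt : orderOf (q : ZMod p) < e :=
      lt_of_le_of_ne (Nat.le_of_dvd (by omega) hd) hne
    apply hcop _ hdpos hlt
    have hqd : 1 ≤ q ^ orderOf (q : ZMod p) := Nat.one_le_pow _ _ (by omega)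
    rw [← ZMod.natCast_eq_zero_iff, Nat.cast_sub hqd]
    push_cast
    rw [pow_orderOf_eq_one, sub_self]
  have hfermat : (q : ZMod p) ^ (p - 1) = 1 := ZMod.pow_card_sub_one_eq_one hq0
  have hdiv : e ∣ p - 1 := by
    rw [← hde]; exact orderOf_dvd_of_pow_eq_one hfermat
  have hp1 : 1 ≤ p := hp.one_lt.le
  exact ((Nat.modEq_iff_dvd' hp1).2 hdiv).symm

theorem result (q e m : ℕ) (hq : 2 ≤ q) (he : 1 ≤ e)
    (hm : m ∣ q ^ e - 1) (hcop : ∀ i : ℕ, 1 ≤ i → i < e → Nat.Coprime m (q ^ i - 1)) :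
    m % e = 1 % e := by
  have hqe : 2 ≤ q ^ e := by
    calc 2 ≤ q := hq
      _ = q ^ 1 := (pow_one q).symm
      _ ≤ q ^ e := Nat.pow_le_pow_right (by omega) he
  have hm0 : m ≠ 0 := by
    rintro rfl
    rw [zero_dvd_iff] at hm
    omega
  have key : m.primeFactorsList.prod ≡ 1 [MOD e] := by
    apply list_prod_modEq_one
    intro p hp
    have hpp : p.Prime := Nat.prime_of_mem_primeFactorsList hp
    have hpm : p ∣ m := Nat.dvd_of_mem_primeFactorsList hp
    apply prime_case q e p hq he hpp (hpm.trans hm)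
    intro i hi1 hie hpi
    have := hcop i hi1 hie
    have h2 : p ∣ Nat.gcd m (q ^ i - 1) := Nat.dvd_gcd hpm hpi
    rw [this] at h2
    exact hpp.one_lt.ne' (Nat.dvd_one.1 h2)
  rw [Nat.prod_primeFactorsList hm0] at key
  exact key

end Cfsg.Agent.S4422
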