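import Cfsg.Statements.S4424
import Mathlib
import Cfsg.Agent.S0961
import Cfsg.Agent.Lib.Helper6.GenChar
import Cfsg.Agent.Lib.Helper6.BlkOrth3

set_option autoImplicit false
open Cfsg

namespace Cfsg.Agent.S4424

open Cfsg.Agent.Lib.Helper6

/-- Let χ be an irreducible character of the finite group G lying in the p-block B (relative to a maximal ideal M of the algebraic integers containing p), and let p^a be the p-part of the order of G. Then the class function that equals p^a · χ on the p-regular elements and vanishes on the p-singular elements is an integer combination of the irreducible characters in B: there are integers a_ψ, zero for ψ outside B, with that function equal to Σ a_ψ ψ. -/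
theorem result {G : Type*} [Group G] [Finite G] (p : ℕ) [Fact p.Prime] (M : Ideal Cfsg.AlgInt) (hM : Cfsg.IsPModular p M) (B : Set (Cfsg.IrrCharacter G)) (hB : Cfsg.IsPBlock M B) (χ : Cfsg.IrrCharacter G) (hχ : χ ∈ B) : ∃ a : Cfsg.IrrCharacter G → ℤ, (∀ ψ, ψ ∉ B → a ψ = 0) ∧ (fun x : G => if p ∣ orderOf x then (0 : ℂ) else ((p ^ (Nat.card G).factorization p : ℕ) : ℂ) * (χ : G → ℂ) x) = fun x => ∑ᶠ ψ : Cfsg.IrrCharacter G, (a ψ : ℂ) * (ψ : G → ℂ) x := by
  classical
  have : Fintype G := Fintype.ofFinite G
  have : Fintype (Cfsg.IrrCharacter G) := Fintype.ofFinite _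
  obtain ⟨χ₀, rfl⟩ := hB
  have hgen := Cfsg.Agent.S0961.result p χ
  obtain ⟨c, hc, hci⟩ := IsGeneralizedCharacter.exists_int_coeff hgen
  refine ⟨c, ?_, ?_⟩
  · intro ψ hψ
    have h1 := hci ψ
    have hns : ¬ Cfsg.SameBlock M (χ : G → ℂ) (ψ : G → ℂ) := by
      intro h
      apply hψ
      exact SameBlock.trans' hM hχ h
    have h2 := sum_pRegular_eq_zero_of_not_sameBlock hM χ ψ hns
    have h3 : Cfsg.classInner (fun x : G => if p ∣ orderOf x then (0 : ℂ) else
        ((p ^ (Nat.card G).factorization p : ℕ) : ℂ) * (χ : G → ℂ) x) (ψ : G → ℂ) = 0 := by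
      unfold Cfsg.classInner
      have h4 : ∑ g : G, (if p ∣ orderOf g then (0 : ℂ) else
          ((p ^ (Nat.card G).factorization p : ℕ) : ℂ) * (χ : G → ℂ) g) *
            (starRingEnd ℂ) ((ψ : G → ℂ) g)
          = ((p ^ (Nat.card G).factorization p : ℕ) : ℂ) *
            ∑ᶠ x ∈ {x : G | ¬ p ∣ orderOf x}, (χ : G → ℂ) x * (starRingEnd ℂ) ((ψ : G → ℂ) x) := by
        rw [finsum_mem_eq_finite_toFinset_sum _ (Set.toFinite _), Finset.mul_sum]
        rw [← Finset.sum_subset (Finset.subset_univ _)]
        · apply Finset.sum_congr rfl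
          intro x hx
          rw [Set.Finite.mem_toFinset, Set.mem_ofPred_eq] at hx
          rw [if_neg hx]
          ring
        · intro x _ hx
          rw [Set.Finite.mem_toFinset, Set.mem_ofPred_eq, not_not] at hx
          rw [if_pos hx, zero_mul]
      rw [h4, h2, mul_zero, mul_zero]
    rw [h3] at h1
    exact_mod_cast h1.symm
  · conv_lhs => rw [hc]
    funext x
    rw [Finset.sum_apply, finsum_eq_sum_of_fintype]
    apply Finset.sum_congr rfl
    intro ψ _
    simp


end Cfsg.Agent.S4424
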