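import Cfsg.Statements.S4429
import Mathlib
import Cfsg.Agent.Lib.Helper4.M11e

set_option autoImplicit false
open Cfsg

namespace Cfsg.Agent.S4429

/-- Let G be a simple group of order 7920. Then G has exactly ten irreducible complex characters, and their degrees, listed with multiplicity, are 1, 10, 10, 10, 11, 16, 16, 44, 45, 55: for every natural number n, the number of irreducible characters of degree n is 1 if n ∈ {1, 11, 44, 45, 55}, 3 if n = 10, 2 if n = 16, and 0 otherwise. -/
theorem result {G : Type*} [Group G] [Finite G] [IsSimpleGroup G] (hG : Nat.card G = 7920) : Nat.card (Cfsg.IrrCharacter G) = 10 ∧ ∀ n : ℕ, Nat.card {χ : Cfsg.IrrCharacter G // Cfsg.charDegree (χ : G → ℂ) = n} = (if n = 1 ∨ n = 11 ∨ n = 44 ∨ n = 45 ∨ n = 55 then 1 else if n = 10 then 3 else if n = 16 then 2 else 0) := by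
  classical
  haveI : Fintype G := Fintype.ofFinite G
  haveI : Fintype (Cfsg.IrrCharacter G) := Fintype.ofFinite _
  obtain ⟨hDB, h1, h10, h16, h45, h11, h44, h55, h22, h33, h66⟩ :=
    Cfsg.Agent.Lib.Helper4.M11.degree_counts hG
      (fun χ : Cfsg.IrrCharacter G => Cfsg.charDegree (χ : G → ℂ)) (fun _ => rfl)
  have hcnt : ∀ n : ℕ, Nat.card {χ : Cfsg.IrrCharacter G // Cfsg.charDegree (χ : G → ℂ) = n} =
      Cfsg.Agent.Lib.Helper4.M11.cnt
        (fun χ : Cfsg.IrrCharacter G => Cfsg.charDegree (χ : G → ℂ)) Finset.univ n := by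
    intro n
    rw [Nat.card_eq_fintype_card, Fintype.card_subtype]
    rfl
  constructor
  · have hc := Cfsg.Agent.Lib.Helper4.M11.card_by_degree
      (fun χ : Cfsg.IrrCharacter G => Cfsg.charDegree (χ : G → ℂ)) Finset.univ
      {1, 10, 16, 45, 11, 22, 33, 44, 55, 66} (fun χ _ => hDB χ)
    rw [Finset.sum_insert (by decide), Finset.sum_insert (by decide),
      Finset.sum_insert (by decide), Finset.sum_insert (by decide), Finset.sum_insert (by decide),
      Finset.sum_insert (by decide), Finset.sum_insert (by decide), Finset.sum_insert (by decide),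
      Finset.sum_insert (by decide), Finset.sum_singleton,
      h1, h10, h16, h45, h11, h22, h33, h44, h55, h66] at hc
    rw [Nat.card_eq_fintype_card, ← Finset.card_univ]
    have : ((Finset.univ : Finset (Cfsg.IrrCharacter G)).card : ℤ) = 10 := by
      rw [hc]; norm_num
    exact_mod_cast this
  · intro n
    rw [hcnt n]
    by_cases hn : n ∈ ({1, 10, 16, 45, 11, 22, 33, 44, 55, 66} : Finset ℕ)
    · simp only [Finset.mem_insert, Finset.mem_singleton] at hn
      rcases hn with rfl | rfl | rfl | rfl | rfl | rfl | rfl | rfl | rfl | rfl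
      · rw [h1]; norm_num
      · rw [h10]; norm_num
      · rw [h16]; norm_num
      · rw [h45]; norm_num
      · rw [h11]; norm_num
      · rw [h22]; norm_num
      · rw [h33]; norm_num
      · rw [h44]; norm_num
      · rw [h55]; norm_num
      · rw [h66]; norm_num
    · have h0 : Cfsg.Agent.Lib.Helper4.M11.cnt
          (fun χ : Cfsg.IrrCharacter G => Cfsg.charDegree (χ : G → ℂ)) Finset.univ n = 0 := by
        apply Cfsg.Agent.Lib.Helper4.M11.cnt_eq_zero
        intro χ _ h
        apply hn
        rw [← h]
        exact hDB χ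
      rw [h0]
      simp only [Finset.mem_insert, Finset.mem_singleton, not_or] at hn
      obtain ⟨n1, n10, n16, n45, n11, n22, n33, n44, n55, n66⟩ := hn
      simp [n1, n10, n16, n45, n11, n44, n55]

end Cfsg.Agent.S4429
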