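import Cfsg.Statements.S4430
import Mathlib
import Cfsg.Agent.Lib.Helper6.BlkIndDegree

set_option autoImplicit false
open Cfsg

namespace Cfsg.Agent.S4430

open Cfsg.Agent.Lib.Helper6

/-- Let H be a subgroup of the finite group G, b a block of H whose induced block B₀ in G is defined (relative to a maximal ideal M of the algebraic integers containing p), and ξ ∈ b. For a block B of G let n_B be the value at 1 of the B-part of the induced character ξ^G (a natural number: the sum over χ ∈ B of the multiplicity of χ in ξ^G times χ(1)). Then for B = B₀ the exact power of p dividing n_B equals the exact power of p dividing ξ^G(1), while for every other block B either n_B = 0 or n_B is divisible by a strictly higher power of p than ξ^G(1). -/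
theorem result {G : Type*} [Group G] [Fintype G] (p : ℕ) [Fact p.Prime] (M : Ideal Cfsg.AlgInt) (hM : Cfsg.IsPModular p M) (H : Subgroup G) [Fintype H] (b : Set (Cfsg.IrrCharacter H)) (B₀ : Set (Cfsg.IrrCharacter G)) (hind : Cfsg.IsInducedBlock M H b B₀) (ξ : Cfsg.IrrCharacter H) (hξ : ξ ∈ b) : (∃ n : ℕ, Cfsg.blockPart B₀ (Cfsg.indFun H (ξ : H → ℂ)) 1 = (n : ℂ) ∧ n ≠ 0 ∧ n.factorization p = (Cfsg.charDegree (Cfsg.indFun H (ξ : H → ℂ))).factorization p) ∧ ∀ B : Set (Cfsg.IrrCharacter G), Cfsg.IsPBlock M B → B ≠ B₀ → ∃ n : ℕ, Cfsg.blockPart B (Cfsg.indFun H (ξ : H → ℂ)) 1 = (n : ℂ) ∧ (n = 0 ∨ (Cfsg.charDegree (Cfsg.indFun H (ξ : H → ℂ))).factorization p < n.factorization p) := by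
  classical
  have hp : p.Prime := hM.1
  have : Fintype (Cfsg.IrrCharacter G) := Fintype.ofFinite _
  have hΦ : Cfsg.IsCharacter G (Cfsg.indFun H (ξ : H → ℂ)) :=
    IsCharacter.indFun H (IsIrrCharacter.isCharacter ξ.2)
  have hΦ1 := IsCharacter.apply_one_eq_charDegree hΦ
  obtain ⟨d, hd⟩ : ∃ d : ℕ, d = Cfsg.charDegree (Cfsg.indFun H (ξ : H → ℂ)) := ⟨_, rfl⟩
  rw [← hd] at hΦ1 ⊢
  have hd0 : d ≠ 0 := by
    intro h0
    have h1 : Cfsg.indFun H (ξ : H → ℂ) 1 = 0 := by rw [hΦ1, h0, Nat.cast_zero]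
    rw [indFun_one] at h1
    rcases mul_eq_zero.mp h1 with h2 | h2
    · have : H.index ≠ 0 := Subgroup.index_ne_zero_of_finite
      exact this (by exact_mod_cast h2)
    · exact IsIrrCharacter.apply_one_ne_zero ξ.2 h2
  obtain ⟨χ₀, hB₀⟩ := hind.2.1
  constructor
  · obtain ⟨n, hn⟩ := blockPart_one_nat B₀ hΦ
    have h1 := induced_blockPart_div H hM hind ξ hξ χ₀
    rw [← hB₀, if_pos rfl, hn, hΦ1] at h1
    have hS : Cfsg.MemLocalRing M ((n : ℂ) / (d : ℂ)) := by
      have := MemLocalRing.add hM (MemLocalIdeal.memLocalRing h1) (memLocalRing_one hM)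
      rwa [sub_add_cancel] at this
    have hJ : ¬ Cfsg.MemLocalIdeal M ((n : ℂ) / (d : ℂ)) := by
      intro hcon
      have := MemLocalIdeal.sub hM hcon h1
      rw [sub_sub_cancel] at this
      exact not_memLocalIdeal_one hM this
    have e1 : ((n : ℤ) : ℂ) = (n : ℂ) := by push_cast; rfl
    rw [← e1] at hS hJ
    have h2 := pow_factorization_dvd_of_memLocalRing_div hM (n : ℤ) d hd0 hS
    have h3 : ¬ (p : ℤ) ^ (d.factorization p + 1) ∣ (n : ℤ) := by
      intro hdvd
      exact hJ (memLocalIdeal_div_of_pow_succ_dvd hM _ _ hd0 hdvd)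
    have h2' : p ^ d.factorization p ∣ n := by exact_mod_cast h2
    have h3' : ¬ p ^ (d.factorization p + 1) ∣ n := by
      intro hdvd
      apply h3
      exact_mod_cast hdvd
    have hn0 : n ≠ 0 := by
      rintro rfl
      exact h3' (dvd_zero _)
    refine ⟨n, hn, hn0, ?_⟩
    rw [hp.pow_dvd_iff_le_factorization hn0] at h2' h3'
    omega
  · intro B hB hne
    obtain ⟨χ₁, rfl⟩ := hB
    obtain ⟨n, hn⟩ := blockPart_one_nat (Cfsg.blockOf M (χ₁ : G → ℂ)) hΦ
    have h1 := induced_blockPart_div H hM hind ξ hξ χ₁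
    rw [if_neg hne, sub_zero, hn, hΦ1] at h1
    have e1 : ((n : ℤ) : ℂ) = (n : ℂ) := by push_cast; rfl
    rw [← e1] at h1
    have h2 := pow_factorization_succ_dvd_of_memLocalIdeal_div hM (n : ℤ) d hd0 h1
    have h2' : p ^ (d.factorization p + 1) ∣ n := by exact_mod_cast h2
    refine ⟨n, hn, ?_⟩
    by_cases hn0 : n = 0
    · left; exact hn0
    · right
      rw [hp.pow_dvd_iff_le_factorization hn0] at h2'
      omega


end Cfsg.Agent.S4430
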