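import Cfsg.Statements.S4433
import Mathlib
import Cfsg.Agent.Lib.Helper6.BlkQuotLift

set_option autoImplicit false
open Cfsg

namespace Cfsg.Agent.S4433

open Cfsg.Agent.Lib.Helper6

/-- Let N be a normal subgroup of the finite group G and write Ḡ = G/N; fix a maximal ideal M of the algebraic integers containing p. Let B̄ be a block of Ḡ contained in the block B of G, in the sense that the inflation of every member of B̄ lies in B, and let D̄ be a defect group of B̄. Then B has a defect group P whose image in Ḡ contains D̄. -/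
theorem result {G : Type*} [Group G] [Finite G] (p : ℕ) [Fact p.Prime] (M : Ideal Cfsg.AlgInt) (hM : Cfsg.IsPModular p M) (N : Subgroup G) [N.Normal] (Bbar : Set (Cfsg.IrrCharacter (G ⧸ N))) (hBbar : Cfsg.IsPBlock M Bbar) (B : Set (Cfsg.IrrCharacter G)) (hB : Cfsg.IsPBlock M B) (hsub : ∀ χ ∈ Bbar, ∀ ψ : Cfsg.IrrCharacter G, (ψ : G → ℂ) = (χ : G ⧸ N → ℂ) ∘ QuotientGroup.mk → ψ ∈ B) (Dbar : Subgroup (G ⧸ N)) (hDbar : Cfsg.IsDefectGroup p M Bbar Dbar) : ∃ P : Subgroup G, Cfsg.IsDefectGroup p M B P ∧ Dbar ≤ P.map (QuotientGroup.mk' N) := by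
  classical
  haveI : Fintype G := Fintype.ofFinite G
  haveI : Fintype (G ⧸ N) := Fintype.ofFinite _
  haveI : Fintype (ConjClasses G) := Fintype.ofFinite _
  obtain ⟨χb, hχb⟩ := hBbar
  obtain ⟨χ₀, hχ₀⟩ := hB
  have hχbmem : χb ∈ Bbar := by rw [hχb]; exact sameBlock_refl hM _
  -- the inflation of `χb`
  obtain ⟨χ, hχdef⟩ : ∃ χ : Cfsg.IrrCharacter G, χ = inflIrr N χb := ⟨_, rfl⟩
  have hχfun : (χ : G → ℂ) = fun g : G => (χb : G ⧸ N → ℂ) (QuotientGroup.mk g) := by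
    rw [hχdef]; rfl
  have hχB : χ ∈ B := hsub χb hχbmem χ (by rw [hχfun]; rfl)
  have hχ₀mem : χ₀ ∈ Cfsg.blockOf M (χ₀ : G → ℂ) := sameBlock_refl hM _
  have hωS : ∀ (x : G), Cfsg.MemLocalRing M (Cfsg.centralChar (χ : G → ℂ) x) :=
    fun x => memLocalRing_of_isIntegral hM (IsIrrCharacter.isIntegral_centralChar' χ.2 x)
  have hωSb : ∀ (q : G ⧸ N), Cfsg.MemLocalRing M (Cfsg.centralChar (χb : G ⧸ N → ℂ) q) :=
    fun q => memLocalRing_of_isIntegral hM (IsIrrCharacter.isIntegral_centralChar' χb.2 q)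
  have haS : ∀ x : G, Cfsg.MemLocalRing M (Cfsg.blockCoeff B x) := by
    intro x; rw [hχ₀]; exact blockCoeff_memLocalRing hM χ₀ x
  -- a class with unit coefficient and unit central character value
  have h1 : cOmega (χ : G → ℂ) (blockMat B) = 1 := by
    rw [cOmega_blockMat, if_pos hχB]
  rw [cOmega_eq_sum_classes (IsIrrCharacter.isClassFunction χ.2) (blockMat_mem_centerAlg B)] at h1
  have hex : ∃ c : ConjClasses G, ¬ Cfsg.MemLocalIdeal M
      (blockMat B (Quotient.out c) 1 * Cfsg.centralChar (χ : G → ℂ) (Quotient.out c)) := by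
    by_contra hcon
    push Not at hcon
    have := MemLocalIdeal.sum hM Finset.univ _ (fun c _ => hcon c)
    rw [h1] at this
    exact not_memLocalIdeal_one hM this
  obtain ⟨c, hc⟩ := hex
  obtain ⟨x, hx⟩ : ∃ x : G, x = Quotient.out c := ⟨_, rfl⟩
  rw [← hx] at hc
  have hcoef : blockMat B x 1 = Cfsg.blockCoeff B x := by
    unfold blockMat
    rw [regMat_apply, inv_one, mul_one]
  rw [hcoef] at hc
  have hax : ¬ Cfsg.MemLocalIdeal M (Cfsg.blockCoeff B x) :=
    fun h => hc (MemLocalIdeal.mul_right hM h (hωS x))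
  have hωx : ¬ Cfsg.MemLocalIdeal M (Cfsg.centralChar (χ : G → ℂ) x) :=
    fun h => hc (MemLocalIdeal.mul_left hM (haS x) h)
  -- descend to the quotient
  have hdesc : ∀ y : G, ¬ Cfsg.MemLocalIdeal M (Cfsg.centralChar (χ : G → ℂ) y) →
      ¬ p ∣ fibreCount N y ∧
        ¬ Cfsg.MemLocalIdeal M (Cfsg.centralChar (χb : G ⧸ N → ℂ) (QuotientGroup.mk y)) := by
    intro y hy
    rw [hχfun, centralChar_comp_mk_eq N (IsIrrCharacter.isClassFunction χb.2)] at hy
    constructor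
    · intro hdvd
      apply hy
      exact MemLocalIdeal.mul_right hM ((memLocalIdeal_natCast_iff hM _).mpr hdvd) (hωSb _)
    · intro h
      exact hy (MemLocalIdeal.mul_left hM (memLocalRing_natCast hM _) h)
  obtain ⟨-, hωxb⟩ := hdesc x hωx
  -- the defect group of `Bbar`
  obtain ⟨q, hq, Pbar, hDbar'⟩ := hDbar
  have hDp : IsPGroup p Dbar := by rw [hDbar']; exact sylow_map_isPGroup Pbar
  have hDq : Dbar ≤ Subgroup.centralizer ({q} : Set (G ⧸ N)) := by
    rw [hDbar']; exact sylow_map_le Pbar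
  have hdl : DefLe p q (QuotientGroup.mk x : G ⧸ N) := by
    apply minmax_core hM χb (QuotientGroup.mk x) ⟨χb, sameBlock_refl hM _, hωxb⟩ q
    rw [← hχb]
    exact hq.2.1
  obtain ⟨xb', hxb', hDxb'⟩ := hdl Dbar hDp hDq
  obtain ⟨r, hr⟩ := isConj_iff.mp hxb'
  obtain ⟨y, rfl⟩ := QuotientGroup.mk_surjective r
  obtain ⟨x', hx'⟩ : ∃ x' : G, x' = y * x * y⁻¹ := ⟨_, rfl⟩
  have hxx' : IsConj x x' := by rw [hx']; exact isConj_iff.mpr ⟨y, rfl⟩
  have hmkx' : (QuotientGroup.mk x' : G ⧸ N) = xb' := by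
    rw [hx', ← hr]; simp
  have hax' : ¬ Cfsg.MemLocalIdeal M (Cfsg.blockCoeff B x') := by
    rw [blockCoeff_eq_of_isConj B hxx']; exact hax
  have hωx' : ¬ Cfsg.MemLocalIdeal M (Cfsg.centralChar (χ : G → ℂ) x') := by
    have : Cfsg.centralChar (χ : G → ℂ) x' = Cfsg.centralChar (χ : G → ℂ) x := by
      exact centralChar_eq_of_isConj (IsIrrCharacter.isClassFunction χ.2) hxx'
    rw [this]; exact hωx
  obtain ⟨hm', -⟩ := hdesc x' hωx'
  -- lift the defect group
  obtain ⟨S, hSp, hSmap⟩ := exists_isPGroup_map_eq N Dbar hDp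
  have hSx' : S.map (QuotientGroup.mk' N)
      ≤ Subgroup.centralizer ({(QuotientGroup.mk x' : G ⧸ N)} : Set (G ⧸ N)) := by
    rw [hSmap, hmkx']; exact hDxb'
  obtain ⟨z, hzx', -, hSz⟩ := exists_conj_centralized N x' hm' S hSp hSx'
  have haz : ¬ Cfsg.MemLocalIdeal M (Cfsg.blockCoeff B z) := by
    rw [blockCoeff_eq_of_isConj B hzx']; exact hax'
  -- the defect class of `B`
  obtain ⟨g, hg⟩ := exists_isDefectClass hM χ₀
  have hdl2 : DefLe p z g := by
    apply minmax_core hM χ₀ g ⟨χ₀, hχ₀mem, hg.2.2 χ₀ hχ₀mem⟩ z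
    rw [← hχ₀]; exact haz
  obtain ⟨g', hgg', hSg'⟩ := hdl2 S hSp hSz
  obtain ⟨R, hR⟩ := exists_sylow_map_ge hSp hSg'
  refine ⟨(R : Subgroup (Subgroup.centralizer ({g'} : Set G))).map
    (Subgroup.centralizer ({g'} : Set G)).subtype, ⟨g', ?_, R, rfl⟩, ?_⟩
  · rw [hχ₀]; exact IsDefectClass.of_isConj hg hgg'
  · rw [← hSmap]
    exact Subgroup.map_mono hR


end Cfsg.Agent.S4433
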