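import Cfsg.Statements.S4434
import Mathlib
import Cfsg.Agent.Lib.Helper6.BlkQuot5
import Cfsg.Agent.Lib.Helper6.BlkDefConj
import Cfsg.Agent.Lib.Helper6.BlkCenter

set_option autoImplicit false
open Cfsg

namespace Cfsg.Agent.S4434

open Cfsg.Agent.Lib.Helper6

theorem map_conj_map_mk {G : Type*} [Group G] (N : Subgroup G) [N.Normal] (P : Subgroup G) (y : G) :
    (P.map (MulAut.conj y).toMonoidHom).map (QuotientGroup.mk' N)
      = (P.map (QuotientGroup.mk' N)).map
          (MulAut.conj (QuotientGroup.mk y : G ⧸ N)).toMonoidHom := by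
  rw [Subgroup.map_map, Subgroup.map_map]
  congr 1


/-- Let N be a normal p-subgroup of the finite group G and write Ḡ = G/N; fix a maximal ideal M of the algebraic integers containing p. Then every block B of G contains a block B̄ of Ḡ (the inflation of every member of B̄ lies in B) whose defect groups are exactly the images in Ḡ of the defect groups of B. -/
theorem result {G : Type*} [Group G] [Finite G] (p : ℕ) [Fact p.Prime] (M : Ideal Cfsg.AlgInt) (hM : Cfsg.IsPModular p M) (N : Subgroup G) [N.Normal] (hN : IsPGroup p N) (B : Set (Cfsg.IrrCharacter G)) (hB : Cfsg.IsPBlock M B) : ∃ Bbar : Set (Cfsg.IrrCharacter (G ⧸ N)), Cfsg.IsPBlock M Bbar ∧ (∀ χ ∈ Bbar, ∀ ψ : Cfsg.IrrCharacter G, (ψ : G → ℂ) = (χ : G ⧸ N → ℂ) ∘ QuotientGroup.mk → ψ ∈ B) ∧ ∀ Dbar : Subgroup (G ⧸ N), Cfsg.IsDefectGroup p M Bbar Dbar ↔ ∃ P : Subgroup G, Cfsg.IsDefectGroup p M B P ∧ Dbar = P.map (QuotientGroup.mk' N) := by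
  classical
  have : Fintype G := Fintype.ofFinite G
  obtain ⟨χ₀, hBχ⟩ := hB
  obtain ⟨x, hx⟩ := exists_isDefectClass hM χ₀
  have Q₀ : Sylow p (Subgroup.centralizer ({x} : Set G)) := default
  have hP₀ : Cfsg.IsDefectGroup p M B ((Q₀ : Subgroup (Subgroup.centralizer ({x} : Set G))).map
      (Subgroup.centralizer ({x} : Set G)).subtype) := by
    rw [hBχ]
    exact ⟨x, hx, Q₀, rfl⟩
  set P₀ := (Q₀ : Subgroup (Subgroup.centralizer ({x} : Set G))).map
      (Subgroup.centralizer ({x} : Set G)).subtype with hP₀def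
  obtain ⟨Bbar, hBbar, hsub, hdef⟩ := exists_quotient_block_defect N hM hN B ⟨χ₀, hBχ⟩ P₀ hP₀
  refine ⟨Bbar, hBbar, ?_, ?_⟩
  · intro χ hχ ψ hψ
    have h1 : inflIrr N χ ∈ B := hsub hχ
    have h2 : ψ = inflIrr N χ := by
      apply Subtype.ext
      rw [hψ]
      rfl
    rw [h2]
    exact h1
  · intro Dbar
    obtain ⟨ψ₀, hψ₀⟩ := hBbar
    constructor
    · intro hD
      rw [hψ₀] at hD hdef
      obtain ⟨q, hq⟩ := isDefectGroup_conj hM ψ₀ _ _ hdef hD
      obtain ⟨y, rfl⟩ := QuotientGroup.mk_surjective q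
      refine ⟨P₀.map (MulAut.conj y).toMonoidHom, ?_, ?_⟩
      · rw [hBχ] at hP₀ ⊢
        exact IsDefectGroup.map_conj hM χ₀ _ hP₀ y
      · rw [hq, map_conj_map_mk]
    · rintro ⟨P, hP, rfl⟩
      rw [hBχ] at hP hP₀
      obtain ⟨y, hy⟩ := isDefectGroup_conj hM χ₀ _ _ hP₀ hP
      rw [hy, map_conj_map_mk]
      rw [hψ₀] at hdef ⊢
      exact IsDefectGroup.map_conj hM ψ₀ _ hdef _

end Cfsg.Agent.S4434
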