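import Cfsg.Statements.S4442
import Mathlib
import Cfsg.Agent.Lib.Helper6.PB13

set_option autoImplicit false
open Cfsg

namespace Cfsg.Agent.S4442

open Cfsg.Agent.Lib.Helper6

/-- Blocks of defect one. Let p be an odd prime and G a finite group whose Sylow p-subgroup P has order p; let C = C_G(P) and N = N_G(P), and fix a maximal ideal M of the algebraic integers containing p. Let B be a block of G with defect group P, b a block of C inducing B, and θ the member of b having P in its kernel (there is exactly one). Let T be the stabilizer of θ in N (the elements g ∈ N with θ(g c g⁻¹) = θ(c) for all c ∈ C) and e the index of C in T. Then e divides p − 1 and B contains exactly e + (p − 1)/e irreducible characters. Moreover B is the disjoint union of a set X of e characters and a set Y of (p − 1)/e characters such that, with f the index of C in N: every χ ∈ X has χ(1) ≡ ±(f/e)·θ(1) (mod p), there is one sign ε with ψ(1) ≡ ε f θ(1) (mod p) for all ψ ∈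 Y, and all members of Y agree on the p-regular elements of G. -/
theorem result {G : Type*} [Group G] [Finite G] (p : ℕ) [Fact p.Prime] (M : Ideal Cfsg.AlgInt) (hM : Cfsg.IsPModular p M) (hodd : p ≠ 2) (P : Sylow p G) (hP : Nat.card P = p) (B : Set (Cfsg.IrrCharacter G)) (hB : Cfsg.IsPBlock M B) (hBP : Cfsg.IsDefectGroup p M B P) (b : Set (Cfsg.IrrCharacter (Subgroup.centralizer ((P : Subgroup G) : Set G)))) (hind : Cfsg.IsInducedBlock M (Subgroup.centralizer ((P : Subgroup G) : Set G)) b B) (θ : Cfsg.IrrCharacter (Subgroup.centralizer ((P : Subgroup G) : Set G))) (hθ : θ ∈ b) (hθP : ∀ x : Subgroup.centralizer ((P : Subgroup G) : Set G), (x : G) ∈ (P : Subgroup G) → (θ : Subgroup.centralizer ((P : Subgroup G) : Set G) → ℂ) x = (θ : Subgroup.centralizer ((P : Subgroup G) : Set G) → ℂ) 1) (T : Subgroup G) (hT : ∀ g : G, g ∈ T ↔ (g ∈ Subgroup.normalizer ((P : Subgroup G) : Set G) ∧ ∀ c c' : Subgroup.centralizer ((P : Subgroup G) : Set G), (c' : G) =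 g * c * g⁻¹ → (θ : Subgroup.centralizer ((P : Subgroup G) : Set G) → ℂ) c' = (θ : Subgroup.centralizer ((P : Subgroup G) : Set G) → ℂ) c)) (e f : ℕ) (he : (Subgroup.centralizer ((P : Subgroup G) : Set G)).relIndex T = e) (hf : (Subgroup.centralizer ((P : Subgroup G) : Set G)).relIndex (Subgroup.normalizer ((P : Subgroup G) : Set G)) = f) : e ∣ p - 1 ∧ Nat.card B = e + (p - 1) / e ∧ ∃ X Y : Set (Cfsg.IrrCharacter G), B = X ∪ Y ∧ Disjoint X Y ∧ Nat.card X = e ∧ Nat.card Y = (p - 1) / e ∧ (∀ χ ∈ X, (Cfsg.charDegree (χ : G → ℂ) : ℤ) ≡ ((f / e * Cfsg.charDegree (θ : Subgroup.centralizer ((P : Subgroup G) : Set G) → ℂ) : ℕ) : ℤ) [ZMOD p] ∨ (Cfsg.charDegree (χ : G → ℂ) : ℤ) ≡ -((f / e * Cfsg.charDegree (θ : Subgroup.centralizer ((P : Subgroup G) : Set G) → ℂ) : ℕ) : ℤ) [ZMOD p]) ∧ (∃ ε : ℤ, (ε = 1 ∨ ε = -1) ∧ ∀ ψ ∈ Y, (Cfsg.charDegree (ψ : G → ℂ) : ℤ) ≡ ε * ((f * Cfsg.charDegree (θ : Subgroup.centralizer ((P : Subgroup G) : Set G) → ℂ) : ℕ) : ℤ) [ZMOD p])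 ∧ ∀ ψ ∈ Y, ∀ ψ' ∈ Y, ∀ g : G, ¬ p ∣ orderOf g → (ψ : G → ℂ) g = (ψ' : G → ℂ) g := by
  classical
  have : Fintype G := Fintype.ofFinite G
  have : Fintype ↥(Subgroup.centralizer ((P : Subgroup G) : Set G)) := Fintype.ofFinite _
  have : Fintype ↥(Subgroup.normalizer ((P : Subgroup G) : Set G)) := Fintype.ofFinite _
  obtain ⟨L, hLb, hLθ⟩ : ∃ L : PB.Loc M P, L.b = b ∧ L.θ = θ := ⟨⟨b, θ, hind.1, hθ, hθP⟩, rfl, rfl⟩
  have hind' : Cfsg.IsInducedBlock M (Subgroup.centralizer ((P : Subgroup G) : Set G)) L.b B := by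
    rw [hLb]; exact hind
  have hLT : L.T = T := by
    ext g
    rw [L.mem_T_iff, hT, hLθ]
    constructor
    · rintro ⟨hg, hact⟩
      refine ⟨hg, ?_⟩
      intro c c' hcc'
      have h1 := congrArg (fun ξ : Cfsg.IrrCharacter
        (Subgroup.centralizer ((P : Subgroup G) : Set G)) =>
        (ξ : Subgroup.centralizer ((P : Subgroup G) : Set G) → ℂ) c') hact
      simp only [PB.act_apply] at h1
      have h2 : (PB.cj P ⟨g, hg⟩).symm c' = c := by
        apply Subtype.ext
        rw [PB.cj_symm_apply_coe, hcc']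
        show g⁻¹ * (g * (c : G) * g⁻¹) * g = c
        group
      rw [h2] at h1
      exact h1.symm
    · rintro ⟨hg, hall⟩
      refine ⟨hg, ?_⟩
      apply Subtype.ext
      funext c'
      rw [PB.act_apply]
      refine (hall ((PB.cj P ⟨g, hg⟩).symm c') c' ?_).symm
      rw [PB.cj_symm_apply_coe]
      show (c' : G) = g * (g⁻¹ * (c' : G) * g) * g⁻¹
      group
  have hLe : L.e = e := by
    unfold PB.Loc.e
    rw [hLT]
    exact he
  obtain ⟨K⟩ := L.exists_str hP hM hB hBP hind'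
  have hJe := L.card_J_mul_e hP hM
  have hepos : 0 < e := hLe ▸ L.e_pos
  rw [hLe] at hJe
  have hJ : Nat.card L.J = (p - 1) / e := by
    rw [← hJe]
    exact (Nat.mul_div_cancel _ hepos).symm
  refine ⟨⟨Nat.card L.J, by rw [← hJe, mul_comm]⟩, ?_, K.S, K.Y, K.union_eq, K.disjoint,
    ?_, ?_, ?_, ?_, ?_⟩
  · rw [PB.card_eq P hP hM L hB hBP hind', hLe, hJ]
  · rw [K.card_S hP hM hind' hB hBP, hLe]
  · rw [K.card_Y, hJ]
  · intro χ hχ
    have h := K.degree_S hP hM hB hBP hind' hχ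
    rw [hf, hLe, hLθ] at h
    rcases K.sgn χ with h1 | h1 <;> rw [h1] at h
    · left
      simpa using h
    · right
      simpa using h
  · obtain ⟨j₀⟩ := L.nonempty_J hP hM
    refine ⟨-(K.δ (K.Λ j₀)), ?_, ?_⟩
    · rcases K.sgn (K.Λ j₀) with h | h <;> rw [h] <;> simp
    · rintro ψ ⟨j, rfl⟩
      have h := K.degree_Y hP hM hB hBP hind' j
      rw [hf, hLθ, K.sign_const hP hM hind' j j₀] at h
      exact h
  · rintro ψ ⟨i, rfl⟩ ψ' ⟨j, rfl⟩ g hg
    exact K.agree hP hM hind' i j g hg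

end Cfsg.Agent.S4442
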