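import Cfsg.Statements.S4447
import Mathlib
import Cfsg.Agent.Lib.Helper8.GlauL3
import Cfsg.Agent.Lib.Helper8.GlauP10

set_option autoImplicit false
open Cfsg

namespace Cfsg.Agent.S4447

/-- Inside a finite group Γ let S normalise G and also normalise a normal subgroup N of G, with the order of S coprime to the index of N in G and S or G/N solvable. Then for every S-invariant irreducible character χ of G, the restriction of χ to N has an S-invariant irreducible constituent. -/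
theorem result {Γ : Type*} [Group Γ] [Fintype Γ] (G S N : Subgroup Γ) [Fintype G] [Fintype N] (hnorm : ∀ s ∈ S, ∀ g ∈ G, s * g * s⁻¹ ∈ G) (hNG : N ≤ G) [hNn : (N.subgroupOf G).Normal] (hNS : ∀ s ∈ S, ∀ n ∈ N, s * n * s⁻¹ ∈ N) (hcop : (N.relIndex G).Coprime (Nat.card S)) (hsolv : Group.IsSolvable S ∨ Group.IsSolvable (G ⧸ N.subgroupOf G)) (χ : Cfsg.IrrCharacter G) (hinv : (∀ s ∈ S, ∀ g g' : G, (g' : Γ) = s * g * s⁻¹ → (χ : G → ℂ) g' = (χ : G → ℂ) g)) : ∃ θ : Cfsg.IrrCharacter N, Cfsg.classInner (fun n : N => (χ : G → ℂ) ⟨n, hNG n.2⟩) (θ : N → ℂ) ≠ 0 ∧ (∀ s ∈ S, ∀ g g' : N, (g' : Γ) = s * g * s⁻¹ → (θ : N → ℂ) g' = (θ : N → ℂ) g) := by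
  classical
  set φ := Cfsg.Agent.Lib.Helper8.GlauP.conjHom G S hnorm with hφ
  have hNs' : ∀ (s : S), ∀ x ∈ N.subgroupOf G, φ s x ∈ N.subgroupOf G := by
    intro s x hx
    rw [Subgroup.mem_subgroupOf] at hx ⊢
    exact hNS s s.2 x hx
  haveI : Fintype (N.subgroupOf G) := Fintype.ofFinite _
  let e : (N.subgroupOf G) ≃* N := Subgroup.subgroupOfEquivOfLe hNG
  have hχinv : Cfsg.Agent.Lib.Helper8.GlauP.InvChar φ (χ : G → ℂ) := by
    intro s g
    exact hinv s s.2 g _ rfl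
  obtain ⟨θ', hover, hθ'inv⟩ := Cfsg.Agent.Lib.Helper8.GlauL.exists_invChar_under φ
    (N.subgroupOf G) hNs' hcop hsolv.symm χ hχinv
  set θ : Cfsg.IrrCharacter ↥N := ⟨fun k => (θ' : ↥(N.subgroupOf G) → ℂ) (e.symm k),
    Cfsg.Agent.Lib.Helper6.IsIrrCharacter.comp_mulEquiv e.symm θ'.2⟩ with hθ
  have hθe : ∀ k : ↥(N.subgroupOf G), (θ : N → ℂ) (e k) = (θ' : ↥(N.subgroupOf G) → ℂ) k := by
    intro k
    show (θ' : ↥(N.subgroupOf G) → ℂ) (e.symm (e k)) = _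
    rw [MulEquiv.symm_apply_apply]
  refine ⟨θ, ?_, ?_⟩
  · have h1 := Cfsg.Agent.Lib.Helper8.GlauP.rmult_spec (N.subgroupOf G).subtype
      (Cfsg.Agent.Lib.Helper6.IsIrrCharacter.isCharacter χ.2) θ'.2
    have h2 := Cfsg.Agent.Lib.Helper6.classInner_comp_mulEquiv e
      (fun n : N => (χ : G → ℂ) ⟨n, hNG n.2⟩) (θ : N → ℂ)
    have h3 : (fun k : ↥(N.subgroupOf G) => (fun n : N => (χ : G → ℂ) ⟨n, hNG n.2⟩) (e k))
        = fun k : ↥(N.subgroupOf G) => (χ : G → ℂ) ((N.subgroupOf G).subtype k) := by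
      funext k
      rfl
    rw [h3] at h2
    rw [← h2]
    have h4 : (fun k : ↥(N.subgroupOf G) => (θ : N → ℂ) (e k)) = (θ' : ↥(N.subgroupOf G) → ℂ) := by
      funext k
      exact hθe k
    rw [h4, h1]
    exact_mod_cast hover
  · intro s hs g g' hg'
    have h1 := hθ'inv ⟨s, hs⟩ (e.symm g)
    have h2 : Cfsg.Agent.Lib.Helper8.GlauP.restrictHom φ (N.subgroupOf G) hNs' ⟨s, hs⟩ (e.symm g)
        = e.symm g' := by
      apply Subtype.ext
      apply Subtype.ext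
      show s * ((e.symm g : ↥(N.subgroupOf G)) : Γ) * s⁻¹ = ((e.symm g' : ↥(N.subgroupOf G)) : Γ)
      have e1 : ∀ n : N, ((e.symm n : ↥(N.subgroupOf G)) : Γ) = n := fun n => rfl
      rw [e1, e1, hg']
    rw [h2] at h1
    exact h1

end Cfsg.Agent.S4447
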