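import Cfsg.Statements.S4452
import Mathlib
import Cfsg.Agent.Lib.Helper8.McK5

set_option autoImplicit false
open Cfsg

namespace Cfsg.Agent.S4452

/-- Let the finite group G be the product of a normal subgroup K and a solvable subgroup H of coprime orders, and let N = N_G(H). Then the number of irreducible characters of G of degree coprime to the order of H equals the number of irreducible characters of N of degree coprime to the order of H. (The two sets are in fact in a canonical bijection; only the equality of their sizes is stated here.) -/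
theorem result {G : Type*} [Group G] [Finite G] (K H : Subgroup G) [K.Normal] (hKH : K ⊔ H = ⊤) (hcop : (Nat.card K).Coprime (Nat.card H)) (hsolv : Group.IsSolvable H) : Nat.card {χ : Cfsg.IrrCharacter G // (Cfsg.charDegree (χ : G → ℂ)).Coprime (Nat.card H)} = Nat.card {η : Cfsg.IrrCharacter (Subgroup.normalizer (H : Set G)) // (Cfsg.charDegree (η : Subgroup.normalizer (H : Set G) → ℂ)).Coprime (Nat.card H)} := by
  classical
  haveI : Fintype G := Fintype.ofFinite G
  haveI : Fintype K := Fintype.ofFinite K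
  have hKn : K.Normal := inferInstance
  have hnorm : ∀ s ∈ H, ∀ g ∈ K, s * g * s⁻¹ ∈ K := fun s _ g hg => hKn.conj_mem g hg s
  rw [Cfsg.Agent.Lib.Helper8.McK.card_coprime_degree_eq K H hKH hcop hsolv hnorm]
  -- the normalizer side
  set N : Subgroup G := Subgroup.normalizer (H : Set G) with hN
  haveI : Fintype N := Fintype.ofFinite N
  have hHN : H ≤ N := Subgroup.le_normalizer
  set C : Subgroup ↥N := K.subgroupOf N with hC
  set HN : Subgroup ↥N := H.subgroupOf N with hHNdef
  haveI : Fintype C := Fintype.ofFinite C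
  haveI hCn : C.Normal := hKn.subgroupOf N
  have hcardHN : Nat.card HN = Nat.card H := Cfsg.Agent.Lib.Helper1.card_subgroupOf_of_le hHN
  have hcardC : Nat.card C ∣ Nat.card K := Cfsg.Agent.Lib.Helper1.card_subgroupOf_dvd K N
  have hcopN : (Nat.card C).Coprime (Nat.card HN) := by
    rw [hcardHN]
    exact Nat.Coprime.coprime_dvd_left hcardC hcop
  have hsupN : C ⊔ HN = ⊤ := by
    rw [eq_top_iff]
    intro n _
    have hg : (n : G) ∈ ((K ⊔ H : Subgroup G) : Set G) := by
      rw [hKH]
      exact Set.mem_univ _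
    rw [Subgroup.normal_mul] at hg
    obtain ⟨k, hk, x, hx, hkx⟩ := hg
    have hxN : x ∈ N := hHN hx
    have hkN : k ∈ N := by
      have : k = (n : G) * x⁻¹ := by rw [← hkx]; group
      rw [this]
      exact N.mul_mem n.2 (N.inv_mem hxN)
    have e1 : n = (⟨k, hkN⟩ : N) * ⟨x, hxN⟩ := Subtype.ext hkx.symm
    rw [e1]
    exact Subgroup.mul_mem_sup (Subgroup.mem_subgroupOf.mpr hk) (Subgroup.mem_subgroupOf.mpr hx)
  have hsolvN : Group.IsSolvable HN := by
    haveI := hsolv
    exact Cfsg.Agent.Lib.Helper1.isSolvable_subgroupOf H N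
  have hnormN : ∀ s ∈ HN, ∀ g ∈ C, s * g * s⁻¹ ∈ C := fun s _ g hg => hCn.conj_mem g hg s
  have h2 := Cfsg.Agent.Lib.Helper8.McK.card_coprime_degree_eq C HN hsupN hcopN hsolvN hnormN
  rw [hcardHN] at h2
  rw [h2]
  congr 1
  · -- the fixed-point subgroups are isomorphic
    apply Cfsg.Agent.Lib.Helper8.GlauP.card_irrCharacter_congr
    have hfix : ∀ x : ↥(Cfsg.Agent.Lib.Helper8.GlauP.fixedSubgroup
        (Cfsg.Agent.Lib.Helper8.GlauP.conjHom K H hnorm) ⊤), ∀ h ∈ H,
        h * ((x : K) : G) * h⁻¹ = ((x : K) : G) := by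
      intro x h hh
      have := x.2 ⟨⟨h, hh⟩, Subgroup.mem_top _⟩
      exact congrArg Subtype.val this
    have hmemN : ∀ x : ↥(Cfsg.Agent.Lib.Helper8.GlauP.fixedSubgroup
        (Cfsg.Agent.Lib.Helper8.GlauP.conjHom K H hnorm) ⊤), ((x : K) : G) ∈ N := by
      intro x
      rw [hN]
      apply Subgroup.centralizer_le_normalizer
      rw [Subgroup.mem_centralizer_iff]
      intro h hh
      have e1 := hfix x h hh
      calc h * ((x : K) : G) = (h * ((x : K) : G) * h⁻¹) * h := by group
        _ = ((x : K) : G) * h := by rw [e1]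
    refine
      { toFun := fun x => ⟨⟨⟨((x : K) : G), hmemN x⟩, Subgroup.mem_subgroupOf.mpr x.1.2⟩, ?_⟩
        invFun := fun y => ⟨⟨((y : C) : N), Subgroup.mem_subgroupOf.mp y.1.2⟩, ?_⟩
        left_inv := fun x => rfl
        right_inv := fun y => rfl
        map_mul' := fun x y => rfl }
    · intro s
      apply Subtype.ext
      apply Subtype.ext
      exact hfix x _ (Subgroup.mem_subgroupOf.mp s.1.2)
    · intro s
      apply Subtype.ext
      have := y.2 ⟨⟨⟨s.1.1, hHN s.1.2⟩, Subgroup.mem_subgroupOf.mpr s.1.2⟩, Subgroup.mem_top _⟩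
      exact congrArg (fun z : C => ((z : N) : G)) this
  · apply Nat.card_congr
    exact (MulEquiv.monoidHomCongrLeft (Subgroup.subgroupOfEquivOfLe hHN).symm).toEquiv

end Cfsg.Agent.S4452
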