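import Cfsg.Statements.S4460
import Mathlib
import Cfsg.Agent.Lib.Helper6.TD5
import Cfsg.Agent.Lib.Helper6.TD6

set_option autoImplicit false
open Cfsg

namespace Cfsg.Agent.S4460

/-- A finite group with exactly three distinct irreducible character degrees is solvable of derived length at most 3: its third derived subgroup is trivial. -/
theorem result {G : Type*} [Group G] [Finite G] (hcd : Nat.card {n : ℕ // ∃ χ : Cfsg.IrrCharacter G, Cfsg.charDegree (χ : G → ℂ) = n} = 3) : derivedSeries G 3 = ⊥ := by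
  classical
  have : Fintype G := Fintype.ofFinite G
  set s : Set ℕ := {n | ∃ χ : Cfsg.IrrCharacter G, Cfsg.charDegree (χ : G → ℂ) = n} with hs
  have h3 : s.ncard = 3 := by
    rw [← Nat.card_coe_set_eq]; exact hcd
  obtain ⟨x, y, z, hxy, hxz, hyz, hsxyz⟩ := Set.ncard_eq_three.mp h3
  have hmem : ∀ χ : Cfsg.IrrCharacter G, Cfsg.charDegree (χ : G → ℂ) = x ∨
      Cfsg.charDegree (χ : G → ℂ) = y ∨ Cfsg.charDegree (χ : G → ℂ) = z := by
    intro χ
    have h : Cfsg.charDegree (χ : G → ℂ) ∈ s := ⟨χ, rfl⟩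
    rw [hsxyz] at h
    simpa using h
  have h1 : (1 : ℕ) ∈ s :=
    ⟨⟨fun _ => 1, Cfsg.Agent.Lib.Helper6.isIrrCharacter_one⟩, by unfold Cfsg.charDegree; simp⟩
  rw [hsxyz] at h1
  have h1' : 1 = x ∨ 1 = y ∨ 1 = z := by simpa using h1
  have hTD : ∃ m n : ℕ, Cfsg.Agent.Lib.Helper6.TD.ThreeDeg G m n := by
    rcases h1' with h | h | h
    · refine ⟨y, z, fun χ => ?_⟩
      rcases hmem χ with h' | h' | h'
      · exact Or.inl (h'.trans h.symm)
      · exact Or.inr (Or.inl h')
      · exact Or.inr (Or.inr h')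
    · refine ⟨x, z, fun χ => ?_⟩
      rcases hmem χ with h' | h' | h'
      · exact Or.inr (Or.inl h')
      · exact Or.inl (h'.trans h.symm)
      · exact Or.inr (Or.inr h')
    · refine ⟨x, y, fun χ => ?_⟩
      rcases hmem χ with h' | h' | h'
      · exact Or.inr (Or.inl h')
      · exact Or.inr (Or.inr h')
      · exact Or.inl (h'.trans h.symm)
  obtain ⟨m, n, hTD⟩ := hTD
  exact Cfsg.Agent.Lib.Helper6.TD.dl_three
    (Cfsg.Agent.Lib.Helper6.TD.solvable_of_three_degrees m n hTD) m n hTD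

end Cfsg.Agent.S4460
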