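import Mathlib
import Cfsg.Statements.S4465
import Cfsg.Agent.Lib.Lead.Bli3

set_option autoImplicit false

open Cfsg

namespace Cfsg.Agent.S4465

theorem result {G : Type*} [Group G] [Finite G] (χ : G → ℂ) (hχ : Cfsg.IsCharacter G χ) (hfaith : ∀ g : G, χ g = χ 1 → g = 1) (n : ℕ) (hn : Cfsg.charDegree χ = n) : ∃ A : Subgroup G, (∀ x ∈ A, ∀ y ∈ A, x * y = y * x) ∧ (∀ q : ℕ, q.Prime → q ∣ Nat.card A → n + 1 < q) ∧ ∀ q : ℕ, q.Prime → q ∣ A.index → q ≤ n + 1 := by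
  exact Cfsg.Agent.Lib.Lead.Bli.blichfeldt χ hχ hfaith n hn

end Cfsg.Agent.S4465
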