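import Cfsg.Statements.S4466
import Mathlib
import Cfsg.Agent.Lib.Helper6.PrD3

set_option autoImplicit false
open Cfsg

namespace Cfsg.Agent.S4466

/-- If every irreducible character of the finite group G of degree greater than one has prime degree, then G is solvable. -/
theorem result {G : Type*} [Group G] [Finite G] (h : ∀ χ : Cfsg.IrrCharacter G, Cfsg.charDegree (χ : G → ℂ) ≠ 1 → (Cfsg.charDegree (χ : G → ℂ)).Prime) : Group.IsSolvable G := by
  have hP : Cfsg.Agent.Lib.Helper6.PrD.PrimeDeg G := by
    intro χ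
    by_cases h1 : Cfsg.charDegree (χ : G → ℂ) = 1
    · exact Or.inl h1
    · exact Or.inr (h χ h1)
  obtain ⟨m, n, h3⟩ := Cfsg.Agent.Lib.Helper6.PrD.exists_threeDeg hP
  exact Cfsg.Agent.Lib.Helper6.TD.solvable_of_three_degrees m n h3

end Cfsg.Agent.S4466
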