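import Mathlib
import Cfsg.Statements.S4469
import Cfsg.Agent.Lib.Lead.Jor5

set_option autoImplicit false

open Cfsg

namespace Cfsg.Agent.S4469

theorem result {G : Type*} [Group G] [Finite G] (χ : G → ℂ) (hχ : Cfsg.IsCharacter G χ) (hfaith : ∀ g : G, χ g = χ 1 → g = 1) (n : ℕ) (hn : Cfsg.charDegree χ = n) : ∃ A : Subgroup G, A.Normal ∧ (∀ x ∈ A, ∀ y ∈ A, x * y = y * x) ∧ A.index ≤ Nat.factorial n * 12 ^ (n * (Nat.primeCounting (n + 1) + 1)) := by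
  exact Cfsg.Agent.Lib.Lead.Jor5.jordan_bound χ hχ hfaith n hn

end Cfsg.Agent.S4469
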