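import Mathlib
import Cfsg.Statements.S4472
import Cfsg.Agent.Lib.Helper2.Cores
import Cfsg.Agent.Lib.Helper1.SZHelpers
import Cfsg.Agent.Lib.Helper6.Mult
import Cfsg.Agent.Lib.Helper5.PSolvLin.GroupStep
import Cfsg.Agent.Lib.Helper5.PSolvLin.SylowStep

set_option autoImplicit false
open Cfsg

namespace Cfsg.Agent.S4472

/-- Let the finite p-solvable group G have a faithful character of degree n, and let p^a be the index of O_p(G) in a Sylow p-subgroup of G (the p-part of [G : O_p(G)]). Then a ≤ Σ_{i ≥ 0} ⌊n / ((p − 1) p^i)⌋ (a finite sum; the terms vanish for p^i > n). -/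
theorem result {G : Type*} [Group G] [Finite G] (χ : G → ℂ) (hχ : Cfsg.IsCharacter G χ) (hfaith : ∀ g : G, χ g = χ 1 → g = 1) (n : ℕ) (hn : Cfsg.charDegree χ = n) (p : ℕ) (hp : p.Prime) (hsolv : Cfsg.IsPSolvable p G) : ((Cfsg.pCore p G).index).factorization p ≤ ∑ i ∈ Finset.range (n + 1), n / ((p - 1) * p ^ i) := by
  classical
  obtain ⟨K₀, hK₀p, hfrat, hctrl⟩ :=
    Cfsg.Agent.Lib.Helper5.PSolvLin.exists_pprime_with_frattini p hp hsolv
  obtain ⟨N, hNdef⟩ : ∃ N : Subgroup G, N = Cfsg.pCore p G := ⟨_, rfl⟩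
  have hNn : N.Normal := by rw [hNdef]; exact (Cfsg.Agent.Lib.Helper2.pCore_mem p).1
  obtain ⟨H, hHdef⟩ : ∃ H : Subgroup G, H = Subgroup.normalizer (K₀ : Set G) := ⟨_, rfl⟩
  have hK₀H : K₀ ≤ H := by rw [hHdef]; exact Subgroup.le_normalizer
  have hA : (K₀.subgroupOf H).Normal := by rw [hHdef]; exact Subgroup.normal_in_normalizer
  have hcA : Nat.card (K₀.subgroupOf H) = Nat.card K₀ :=
    Cfsg.Agent.Lib.Helper1.card_subgroupOf_of_le hK₀H
  have hψ : Cfsg.IsCharacter H (fun x : H => χ x) :=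
    Cfsg.Agent.Lib.Helper6.IsCharacter.restrict H hχ
  have hfaithH : ∀ a ∈ K₀.subgroupOf H,
      (fun x : H => χ x) a = (fun x : H => χ x) 1 → a = 1 :=
    fun a _ h => Subtype.ext (hfaith a h)
  have hdeg : Cfsg.charDegree (fun x : H => χ x) = n := by
    rw [← hn]
    rfl
  obtain ⟨M, hMc, hMp, hMbound⟩ :=
    Cfsg.Agent.Lib.Helper5.PSolvLin.exists_centralizing_pgroup (K₀.subgroupOf H) hA p hp
      (by rw [hcA]; exact hK₀p) _ hψ hfaithH n hdeg
  have hM'p : IsPGroup p (M.map H.subtype) := hMp.map _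
  have hM'c : M.map H.subtype ≤ Subgroup.centralizer (K₀ : Set G) := by
    rintro _ ⟨m, hm, rfl⟩
    rw [Subgroup.mem_centralizer_iff]
    intro k hk
    have := Subgroup.mem_centralizer_iff.mp (hMc hm) ⟨k, hK₀H hk⟩ (Subgroup.mem_subgroupOf.mpr hk)
    exact congrArg Subtype.val this
  have hM'N : M.map H.subtype ≤ N := by rw [hNdef]; exact hctrl _ hM'p hM'c
  have hMle : M ≤ N.subgroupOf H := by
    intro m hm
    rw [Subgroup.mem_subgroupOf]
    exact hM'N (Subgroup.mem_map_of_mem _ hm)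
  have h1 : N.index = (N.subgroupOf H).index := by
    show N.index = N.relIndex H
    rw [← Subgroup.relIndex_top_right, ← hfrat, ← hNdef, ← hHdef, Subgroup.relIndex_sup_left]
  have h2 : (N.subgroupOf H).index * Nat.card (N.subgroupOf H) = Nat.card H :=
    Subgroup.index_mul_card _
  have h3 : Nat.card M ∣ Nat.card (N.subgroupOf H) := Subgroup.card_dvd_of_le hMle
  have hne1 : (N.subgroupOf H).index ≠ 0 := Subgroup.index_ne_zero_of_finite
  have hne2 : Nat.card (N.subgroupOf H) ≠ 0 := Nat.card_pos.ne'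
  have hne3 : Nat.card M ≠ 0 := Nat.card_pos.ne'
  have h4 : (Nat.card M).factorization p ≤ (Nat.card (N.subgroupOf H)).factorization p :=
    (Nat.factorization_le_iff_dvd hne3 hne2).2 h3 p
  have h5 : (Nat.card H).factorization p = ((N.subgroupOf H).index).factorization p +
      (Nat.card (N.subgroupOf H)).factorization p := by
    rw [← h2, Nat.factorization_mul hne1 hne2, Finsupp.add_apply]
  rw [← hNdef, h1]
  omega

end Cfsg.Agent.S4472
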