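import Cfsg.Statements.S4473
import Cfsg.Agent.Lib.Helper3.Prim2B
import Cfsg.Agent.Lib.Helper3.Prim2E

set_option autoImplicit false
open Cfsg

namespace Cfsg.Agent.S4473

/-- Let the finite group G have a faithful irreducible character χ of degree 2 that is primitive: χ is not induced from a character of any proper subgroup. Then the centre of G has index 12, 24 or 60. -/
theorem result {G : Type*} [Group G] [Fintype G] (χ : Cfsg.IrrCharacter G) (hfaith : ∀ g : G, (χ : G → ℂ) g = (χ : G → ℂ) 1 → g = 1) (h2 : Cfsg.charDegree (χ : G → ℂ) = 2) (hprim : ∀ H : Subgroup G, H ≠ ⊤ → ∀ θ : H → ℂ, Cfsg.IsCharacter H θ → (χ : G → ℂ) ≠ Cfsg.indFun H θ) : (Subgroup.center G).index = 12 ∨ (Subgroup.center G).index = 24 ∨ (Subgroup.center G).index = 60 := by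
  classical
  open Cfsg.Agent.Lib.Helper3.Prim2 Cfsg.Agent.Lib.Helper6 in
  have h21 : (χ : G → ℂ) 1 = 2 := by
    rw [IsCharacter.apply_one_eq_charDegree (IsIrrCharacter.isCharacter χ.2), h2]; norm_num
  open Cfsg.Agent.Lib.Helper3.Prim2 in
  have H : Hyp G :=
    { h1 := fun x hx => centralizer_comm χ.2 hfaith h21 hx
      h2 := fun x hx => normalizer_index χ.2 hfaith h21 hx
      h3 := fun A hAn hA => normal_abelian_le_center χ hfaith h21 hprim A hAn hA
      h4 := exists_not_mem_center χ.2 h21 }
  exact H.index_center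

end Cfsg.Agent.S4473
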