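import Cfsg.Statements.S4478
import Mathlib
import Cfsg.Agent.Lib.Helper6.FrobSchur
import Cfsg.Agent.Lib.Helper6.DefectZero
import Cfsg.Agent.Lib.Helper6.ClassSum
import Cfsg.Agent.Lib.Helper6.BlkPrincipal
import Cfsg.Agent.Lib.Helper6.KleinFus

set_option autoImplicit false
open Cfsg

namespace Cfsg.Agent.S4478

open Cfsg.Agent.Lib.Helper6

open scoped ComplexConjugate

/-- a character of `p`-defect zero vanishes on `p`-singular elements -/
theorem vanish_of_full_power {G : Type*} [Group G] [Fintype G] (χ : Cfsg.IrrCharacter G)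
    (p : ℕ) (hp : p.Prime)
    (hdvd : p ^ (Nat.card G).factorization p ∣ Cfsg.charDegree (χ : G → ℂ))
    (g : G) (hg : p ∣ orderOf g) : (χ : G → ℂ) g = 0 := by
  obtain ⟨n, ρ, hρ, hχ⟩ := χ.2
  have hG0 : Nat.card G ≠ 0 := Nat.card_pos.ne'
  rw [← hχ]
  apply defect_zero_vanish ρ p ((Nat.card G).factorization p) hp (Nat.ordProj_dvd _ _)
    (Nat.pow_succ_factorization_not_dvd hG0 hp) _ g hg
  rw [← hχ, charDegree_character] at hdvd
  exact hdvd

/-- squaring permutes the elements of odd order -/
theorem sum_sq_odd {G : Type*} [Group G] [Fintype G] (f : G → ℂ) :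
    ∑ g ∈ Finset.univ.filter (fun g : G => ¬ 2 ∣ orderOf g), f (g * g)
      = ∑ g ∈ Finset.univ.filter (fun g : G => ¬ 2 ∣ orderOf g), f g := by
  classical
  apply Finset.sum_nbij' (fun g => g * g) (fun y => y ^ ((orderOf y + 1) / 2))
  · intro g hg
    simp only [Finset.mem_filter, Finset.mem_univ, true_and] at hg ⊢
    have hcop : (orderOf g).Coprime 2 := (Nat.Prime.coprime_iff_not_dvd Nat.prime_two).mpr hg |>.symm
    rw [← pow_two, (Nat.Coprime.orderOf_pow hcop)]
    exact hg
  · intro y hy
    simp only [Finset.mem_filter, Finset.mem_univ, true_and] at hy ⊢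
    intro h
    exact hy (h.trans (orderOf_pow_dvd _))
  · intro g hg
    simp only [Finset.mem_filter, Finset.mem_univ, true_and] at hg
    have hcop : (orderOf g).Coprime 2 := (Nat.Prime.coprime_iff_not_dvd Nat.prime_two).mpr hg |>.symm
    have ho : orderOf (g * g) = orderOf g := by
      rw [← pow_two, (Nat.Coprime.orderOf_pow hcop)]
    rw [ho, ← pow_two, ← pow_mul]
    have h2 : 2 * ((orderOf g + 1) / 2) = orderOf g + 1 := by omega
    rw [h2, pow_succ, pow_orderOf_eq_one, one_mul]
  · intro y hy
    simp only [Finset.mem_filter, Finset.mem_univ, true_and] at hy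
    rw [← pow_add]
    have h2 : (orderOf y + 1) / 2 + (orderOf y + 1) / 2 = orderOf y + 1 := by omega
    rw [h2, pow_succ, pow_orderOf_eq_one, one_mul]
  · intro g _
    rfl


/-- Let G be a finite group of even order and χ an irreducible character of G whose degree x is divisible by the full power of 2 dividing the order of G and, for every odd prime p such that G has an element of order 2p, by the full power of p dividing the order of G. Then all involutions of G are conjugate, the centralizer of every involution has order exactly x with x coprime to its index, and the Frobenius–Schur indicator of χ equals 1. -/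
theorem result {G : Type*} [Group G] [Fintype G] (heven : Even (Nat.card G)) (χ : Cfsg.IrrCharacter G) (h2 : 2 ^ (Nat.card G).factorization 2 ∣ Cfsg.charDegree (χ : G → ℂ)) (hp : ∀ p : ℕ, p.Prime → p ≠ 2 → (∃ g : G, orderOf g = 2 * p) → p ^ (Nat.card G).factorization p ∣ Cfsg.charDegree (χ : G → ℂ)) : (∀ s t : G, orderOf s = 2 → orderOf t = 2 → IsConj s t) ∧ (∀ s : G, orderOf s = 2 → Nat.card (Subgroup.centralizer ({s} : Set G)) = Cfsg.charDegree (χ : G → ℂ) ∧ (Nat.card (Subgroup.centralizer ({s} : Set G))).Coprime (Subgroup.centralizer ({s} : Set G)).index) ∧ (Nat.card G : ℂ)⁻¹ * ∑ g : G, (χ : G → ℂ) (g * g) = 1 := by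
  classical
  have hG0 : Nat.card G ≠ 0 := Nat.card_pos.ne'
  have hGC : (Nat.card G : ℂ) ≠ 0 := card_ne_zero_complex G
  obtain ⟨x, hxdef⟩ : ∃ x, x = Cfsg.charDegree (χ : G → ℂ) := ⟨_, rfl⟩
  rw [← hxdef] at h2 hp ⊢
  have hx0 : 0 < x := by rw [hxdef]; exact IsIrrCharacter.charDegree_pos χ.2
  have hχ1 : (χ : G → ℂ) 1 = (x : ℂ) := by
    rw [hxdef]; exact IsCharacter.apply_one_eq_charDegree (IsIrrCharacter.isCharacter χ.2)
  have hV2 : ∀ g : G, 2 ∣ orderOf g → (χ : G → ℂ) g = 0 :=
    fun g hg => vanish_of_full_power χ 2 Nat.prime_two (by rw [← hxdef]; exact h2) g hg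
  have hVp : ∀ p : ℕ, p.Prime → p ≠ 2 → (∃ g : G, orderOf g = 2 * p) →
      ∀ g : G, p ∣ orderOf g → (χ : G → ℂ) g = 0 :=
    fun p hpp hp2 hex g hg => vanish_of_full_power χ p hpp (by rw [← hxdef]; exact hp p hpp hp2 hex) g hg
  -- an involution exists
  obtain ⟨s₀, hs₀⟩ : ∃ s : G, orderOf s = 2 := by
    have : Fact (Nat.Prime 2) := ⟨Nat.prime_two⟩
    apply exists_prime_orderOf_dvd_card' 2
    exact even_iff_two_dvd.mp heven
  -- `χ` is not the trivial character
  have hne : χ ≠ oneIrr G := by
    intro h
    have := hV2 s₀ (by rw [hs₀])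
    rw [h] at this
    exact one_ne_zero this
  have hsum0 : ∑ g : G, (χ : G → ℂ) g = 0 := by
    have h1 := classInner_irrCharacter χ (oneIrr G)
    rw [if_neg hne] at h1
    unfold Cfsg.classInner at h1
    rcases mul_eq_zero.mp h1 with h | h
    · exact absurd (inv_eq_zero.mp h) hGC
    · rw [← h]
      apply Finset.sum_congr rfl
      intro g _
      show _ = _ * conj (1 : ℂ)
      rw [map_one, mul_one]
  -- even order elements
  have heven_val : ∀ g : G, 2 ∣ orderOf g → (χ : G → ℂ) (g * g)
      = if orderOf g = 2 then (x : ℂ) else 0 := by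
    intro g hg
    split_ifs with h2o
    · rw [← pow_two, ← h2o, pow_orderOf_eq_one, hχ1]
    · obtain ⟨m, hm⟩ := hg
      have hm0 : m ≠ 0 := by
        rintro rfl
        rw [mul_zero] at hm
        exact (orderOf_pos g).ne' hm
      have hm1 : m ≠ 1 := by
        rintro rfl
        exact h2o (by rw [hm])
      have hord : orderOf (g * g) = m := by
        rw [← pow_two, orderOf_pow_of_dvd two_ne_zero ⟨m, hm⟩, hm]
        exact Nat.mul_div_cancel_left m (by norm_num)
      by_cases hm2 : 2 ∣ m
      · apply hV2
        rw [hord]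
        exact hm2
      · obtain ⟨p, hpp, hpm⟩ := Nat.exists_prime_and_dvd hm1
        have hp2 : p ≠ 2 := by
          rintro rfl
          exact hm2 hpm
        obtain ⟨t, ht⟩ := hpm
        have ht0 : t ≠ 0 := by
          rintro rfl
          rw [mul_zero] at ht
          exact hm0 ht
        apply hVp p hpp hp2
        · refine ⟨g ^ t, ?_⟩
          rw [orderOf_pow_of_dvd ht0 ⟨2 * p, by rw [hm, ht]; ring⟩, hm, ht]
          rw [show 2 * (p * t) = (2 * p) * t by ring]
          exact Nat.mul_div_cancel _ (Nat.pos_of_ne_zero ht0)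
        · rw [hord, ht]
          exact dvd_mul_right _ _
  -- the count
  have hcount : ∑ g : G, (χ : G → ℂ) (g * g)
      = ((Finset.univ.filter (fun g : G => orderOf g = 2)).card : ℂ) * (x : ℂ) := by
    rw [← Finset.sum_filter_add_sum_filter_not Finset.univ (fun g : G => 2 ∣ orderOf g)]
    rw [sum_sq_odd (fun g => (χ : G → ℂ) g)]
    have h1 : ∑ g ∈ Finset.univ.filter (fun g : G => ¬ 2 ∣ orderOf g), (χ : G → ℂ) g = 0 := by
      rw [← hsum0, ← Finset.sum_filter_add_sum_filter_not Finset.univ (fun g : G => 2 ∣ orderOf g)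
        (fun g => (χ : G → ℂ) g)]
      rw [Finset.sum_eq_zero (s := Finset.univ.filter (fun g : G => 2 ∣ orderOf g)), zero_add]
      intro g hg
      exact hV2 g (Finset.mem_filter.mp hg).2
    rw [h1, add_zero]
    rw [Finset.sum_congr rfl (fun g hg => heven_val g (Finset.mem_filter.mp hg).2)]
    rw [← Finset.sum_filter, Finset.filter_filter, Finset.sum_const, nsmul_eq_mul]
    congr 3
    ext g
    simp only [Finset.mem_filter, Finset.mem_univ, true_and]
    constructor
    · exact fun h => h.2
    · intro h
      exact ⟨by rw [h], h⟩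
  obtain ⟨N₂, hN₂⟩ : ∃ N, N = (Finset.univ.filter (fun g : G => orderOf g = 2)).card := ⟨_, rfl⟩
  rw [← hN₂] at hcount
  have hN₂pos : 0 < N₂ := by
    rw [hN₂]
    apply Finset.card_pos.mpr
    exact ⟨s₀, by simp [hs₀]⟩
  -- Frobenius–Schur
  have hNx : N₂ * x = Nat.card G := by
    rcases IsIrrCharacter.sum_sq_cases χ.2 with h | h | h
    · rw [hcount] at h
      exact_mod_cast h
    · exfalso
      rw [hcount] at h
      have h1 : ((N₂ * x + Nat.card G : ℕ) : ℂ) = 0 := by
        push_cast
        rw [h]
        ring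
      have h2 : N₂ * x + Nat.card G = 0 := by exact_mod_cast h1
      omega
    · exfalso
      rw [hcount] at h
      have h2 : N₂ * x = 0 := by exact_mod_cast h
      have := Nat.mul_pos hN₂pos hx0
      omega
  -- the centralizer of an involution has order dividing `x`
  have hfull : ∀ s : G, orderOf s = 2 → ∀ p : ℕ, p.Prime →
      p ∣ Nat.card (Subgroup.centralizer ({s} : Set G)) → p ^ (Nat.card G).factorization p ∣ x := by
    intro s hs p hpp hpc
    by_cases hp2 : p = 2
    · rw [hp2]; exact h2
    · apply hp p hpp hp2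
      have : Fact p.Prime := ⟨hpp⟩
      obtain ⟨u, hu⟩ := exists_prime_orderOf_dvd_card' (G := ↥(Subgroup.centralizer ({s} : Set G))) p hpc
      refine ⟨s * (u : G), ?_⟩
      have hcomm : Commute s (u : G) := by
        have := u.2
        rw [Subgroup.mem_centralizer_singleton_iff] at this
        exact this.symm
      have hu' : orderOf (u : G) = p := by rw [Subgroup.orderOf_coe, hu]
      rw [hcomm.orderOf_mul_eq_mul_orderOf_of_coprime, hs, hu']
      rw [hs, hu']
      exact (Nat.coprime_primes Nat.prime_two hpp).mpr (Ne.symm hp2)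
  have hcdvd : ∀ s : G, orderOf s = 2 → Nat.card (Subgroup.centralizer ({s} : Set G)) ∣ x := by
    intro s hs
    have hc0 : Nat.card (Subgroup.centralizer ({s} : Set G)) ≠ 0 := Nat.card_pos.ne'
    rw [← Nat.factorization_le_iff_dvd hc0 hx0.ne']
    intro p
    by_cases hpp : p.Prime
    · by_cases hpc : p ∣ Nat.card (Subgroup.centralizer ({s} : Set G))
      · have h1 := hfull s hs p hpp hpc
        have h3 : (Nat.card (Subgroup.centralizer ({s} : Set G))).factorization p
            ≤ (Nat.card G).factorization p := by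
          have hd : Nat.card (Subgroup.centralizer ({s} : Set G)) ∣ Nat.card G :=
            Subgroup.card_subgroup_dvd_card _
          exact (Nat.factorization_le_iff_dvd hc0 hG0).mpr hd p
        exact h3.trans ((hpp.pow_dvd_iff_le_factorization hx0.ne').mp h1)
      · rw [Nat.factorization_eq_zero_of_not_dvd hpc]
        exact Nat.zero_le _
    · rw [Nat.factorization_eq_zero_of_not_prime _ hpp]
      exact Nat.zero_le _
  -- the class of an involution exhausts the involutions
  have hclass : ∀ s : G, orderOf s = 2 →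
      Nat.card (Subgroup.centralizer ({s} : Set G)) = x ∧
        Finset.univ.filter (fun y : G => IsConj s y) = Finset.univ.filter (fun g : G => orderOf g = 2) := by
    intro s hs
    have h1 := card_conj_mul_card_centralizer s
    obtain ⟨k, hk⟩ : ∃ k, k = (Finset.univ.filter (fun y : G => IsConj s y)).card := ⟨_, rfl⟩
    obtain ⟨c, hc⟩ : ∃ c, c = Nat.card (Subgroup.centralizer ({s} : Set G)) := ⟨_, rfl⟩
    rw [← hk, ← hc] at h1
    have hsub : Finset.univ.filter (fun y : G => IsConj s y)
        ⊆ Finset.univ.filter (fun g : G => orderOf g = 2) := by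
      intro y hy
      simp only [Finset.mem_filter, Finset.mem_univ, true_and] at hy ⊢
      obtain ⟨c, hc⟩ := isConj_iff.mp hy
      rw [← hc, orderOf_conj_eq, hs]
    have hkN : k ≤ N₂ := by
      rw [hk, hN₂]
      exact Finset.card_le_card hsub
    have hcx : c ≤ x := by
      rw [hc]
      exact Nat.le_of_dvd hx0 (hcdvd s hs)
    have hc0 : 0 < c := by rw [hc]; exact Nat.card_pos
    have hk0 : 0 < k := by
      rw [hk]
      apply Finset.card_pos.mpr
      exact ⟨s, by simp only [Finset.mem_filter, Finset.mem_univ, true_and]; exact IsConj.refl s⟩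
    have hkc : k * c = N₂ * x := by rw [h1, hNx]
    have hkx : k * x ≤ N₂ * x := Nat.mul_le_mul_right x hkN
    have hkcx : k * c ≤ k * x := Nat.mul_le_mul_left k hcx
    have e1 : k * x = k * c := by omega
    have e2 : k * x = N₂ * x := by omega
    have hcx' : c = x := (Nat.eq_of_mul_eq_mul_left hk0 e1).symm
    have hkN' : k = N₂ := Nat.eq_of_mul_eq_mul_right hx0 e2
    refine ⟨by rw [← hc]; exact hcx', ?_⟩
    apply Finset.eq_of_subset_of_card_le hsub
    rw [← hk, ← hN₂, hkN']
  refine ⟨?_, ?_, ?_⟩
  · intro s t hs ht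
    have h1 := (hclass s hs).2
    have h2 : t ∈ Finset.univ.filter (fun g : G => orderOf g = 2) := by simp [ht]
    rw [← h1] at h2
    exact (Finset.mem_filter.mp h2).2
  · intro s hs
    have hcs := (hclass s hs).1
    refine ⟨hcs, ?_⟩
    by_contra hncop
    obtain ⟨p, hpp, hp1, hp2'⟩ := Nat.Prime.not_coprime_iff_dvd.mp hncop
    have h1 := hfull s hs p hpp hp1
    have hmul : Nat.card (Subgroup.centralizer ({s} : Set G)) * (Subgroup.centralizer ({s} : Set G)).index
        = Nat.card G := Subgroup.card_mul_index _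
    have hi0 : (Subgroup.centralizer ({s} : Set G)).index ≠ 0 := by
      intro h0
      rw [h0, mul_zero] at hmul
      exact hG0 hmul.symm
    have hc0 : Nat.card (Subgroup.centralizer ({s} : Set G)) ≠ 0 := Nat.card_pos.ne'
    have hfac : (Nat.card G).factorization p
        = (Nat.card (Subgroup.centralizer ({s} : Set G))).factorization p
          + ((Subgroup.centralizer ({s} : Set G)).index).factorization p := by
      rw [← hmul, Nat.factorization_mul hc0 hi0]
      rfl
    have h3 : 1 ≤ ((Subgroup.centralizer ({s} : Set G)).index).factorization p :=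
      (hpp.dvd_iff_one_le_factorization hi0).mp hp2'
    have h4 : (Nat.card G).factorization p ≤ x.factorization p :=
      (hpp.pow_dvd_iff_le_factorization hx0.ne').mp h1
    rw [← hcs] at h4
    omega
  · rw [hcount, ← Nat.cast_mul, hNx, inv_mul_cancel₀ hGC]


end Cfsg.Agent.S4478
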