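import Cfsg.Statements.S4479
import Mathlib
import Cfsg.Agent.Lib.Helper6.BlkColumn
import Cfsg.Agent.Lib.Helper6.BlkShift
import Cfsg.Agent.Lib.Helper6.KleinOrder2
import Cfsg.Agent.Lib.Helper6.KleinFus

set_option autoImplicit false
open Cfsg

namespace Cfsg.Agent.S4479

open Cfsg.Agent.Lib.Helper6

open scoped ComplexConjugate

/-- the key identity: the local evaluation of `Σ_{χ ∈ B₀} χ(J)³/χ(1)` -/
theorem klein_key {G : Type*} [Group G] [Finite G] (M : Ideal Cfsg.AlgInt)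
    (hM : Cfsg.IsPModular 2 M) (P : Sylow 2 G) (hPK : IsKleinFour (P : Subgroup G))
    (hfus : ∀ x ∈ (P : Subgroup G), ∀ y ∈ (P : Subgroup G), x ≠ 1 → y ≠ 1 → IsConj x y)
    (J : G) (hJ : J ∈ (P : Subgroup G)) (hJ2 : orderOf J = 2) :
    (Nat.card G : ℂ) * (∑ᶠ χ ∈ Cfsg.principalBlock M G,
        (χ : G → ℂ) J * (χ : G → ℂ) J / (χ : G → ℂ) 1 * (χ : G → ℂ) J)
      * (Nat.card (Subgroup.centralizer ((P : Subgroup G) : Set G)) : ℂ) ^ 2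
      = 8 * (Nat.card (Subgroup.centralizer ({J} : Set G)) : ℂ) ^ 3 := by
  classical
  have : Fintype G := Fintype.ofFinite G
  have : Fintype (Cfsg.IrrCharacter G) := Fintype.ofFinite _
  have : Fact (Nat.Prime 2) := ⟨Nat.prime_two⟩
  have : Fintype ↥(Subgroup.centralizer ({J} : Set G)) := Fintype.ofFinite _
  have : Fintype (Cfsg.IrrCharacter ↥(Subgroup.centralizer ({J} : Set G))) := Fintype.ofFinite _
  have hG0 : (Nat.card G : ℂ) ≠ 0 := card_ne_zero_complex G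
  have hJJ : J * J = 1 := by rw [← sq, ← hJ2, pow_orderOf_eq_one]
  have hJinv : J⁻¹ = J := inv_eq_of_mul_eq_one_left hJJ
  have hJel : ∃ k : ℕ, orderOf J = 2 ^ k := ⟨1, by rw [hJ2, pow_one]⟩
  have hreal : ∀ ζ : Cfsg.IrrCharacter G, conj ((ζ : G → ℂ) J) = (ζ : G → ℂ) J := by
    intro ζ
    rw [← IsCharacter.apply_inv (IsIrrCharacter.isCharacter ζ.2), hJinv]
  -- the class function
  obtain ⟨ϑ, hϑdef⟩ : ∃ ϑ : G → ℂ, ϑ = ∑ ζ : Cfsg.IrrCharacter G,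
      ((ζ : G → ℂ) J * (ζ : G → ℂ) J / (ζ : G → ℂ) 1) • (ζ : G → ℂ) := ⟨_, rfl⟩
  have hϑ : Cfsg.IsClassFunction G ϑ := by
    rw [hϑdef]
    apply isClassFunction_sum
    intro χ _
    exact isClassFunction_smul _ (IsIrrCharacter.isClassFunction χ.2)
  have hinner : ∀ χ : Cfsg.IrrCharacter G, Cfsg.classInner ϑ (χ : G → ℂ)
      = (χ : G → ℂ) J * (χ : G → ℂ) J / (χ : G → ℂ) 1 := by
    intro χ
    rw [hϑdef, classInner_sum_left]
    simp_rw [classInner_smul_left, classInner_irrCharacter]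
    rw [Finset.sum_eq_single_of_mem χ (Finset.mem_univ _)]
    · rw [if_pos rfl, mul_one]
    · intro χ' _ hne
      rw [if_neg hne, mul_zero]
  have hval : ∀ c : G, ϑ c = (Nat.card G : ℂ)⁻¹ * ((Finset.univ.filter
      (fun pr : G × G => pr.1 * J * pr.1⁻¹ * (pr.2 * J * pr.2⁻¹) = c)).card : ℂ) := by
    intro c
    have h1 : conj (ϑ c) = (Nat.card G : ℂ)⁻¹ * ((Finset.univ.filter
        (fun pr : G × G => pr.1 * J * pr.1⁻¹ * (pr.2 * J * pr.2⁻¹) = c)).card : ℂ) := by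
      rw [card_conj_mul_conj_eq J J c, ← mul_assoc, inv_mul_cancel₀ hG0, one_mul, hϑdef]
      simp only [Finset.sum_apply, Pi.smul_apply, smul_eq_mul, map_sum, map_mul, map_div₀, hreal]
      apply Finset.sum_congr rfl
      intro χ _
      rw [IsIrrCharacter.conj_apply_one χ.2]
      ring
    have h2 := congrArg conj h1
    rw [Complex.conj_conj] at h2
    rw [h2, map_mul, map_inv₀, Complex.conj_natCast, Complex.conj_natCast]
  -- the global side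
  have hT1 : Cfsg.blockPart (Cfsg.principalBlock M G) ϑ J
      = ∑ᶠ χ ∈ Cfsg.principalBlock M G,
        (χ : G → ℂ) J * (χ : G → ℂ) J / (χ : G → ℂ) 1 * (χ : G → ℂ) J := by
    rw [blockPart_eq_finset_sum, finsum_mem_eq_sum_filter_lib]
    apply Finset.sum_congr rfl
    intro χ _
    rw [hinner]
  -- the local side
  have h1reg : ¬ 2 ∣ orderOf (1 : ↥(Subgroup.centralizer ({J} : Set G))) := by
    rw [orderOf_one]; norm_num
  have hT2 := blockPart_shift_principal 2 M hM J hJel hϑ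
    (1 : ↥(Subgroup.centralizer ({J} : Set G))) h1reg
  rw [Subgroup.coe_one, mul_one] at hT2
  have hcf := shift_isClassFunction J (Subgroup.centralizer ({J} : Set G)) rfl hϑ
  have hT3 := blockPart_eq_sum (Cfsg.principalBlock M ↥(Subgroup.centralizer ({J} : Set G))) hcf 1
  have hnc := centralizer_involution_index_pPrimeCore P hPK J hJ hJ2
  have hcoeff : ∀ k : ↥(Subgroup.centralizer ({J} : Set G)),
      Cfsg.blockCoeff (Cfsg.principalBlock M ↥(Subgroup.centralizer ({J} : Set G))) k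
        = if k ∈ Cfsg.pPrimeCore 2 ↥(Subgroup.centralizer ({J} : Set G)) then
          (Nat.card (Cfsg.pPrimeCore 2 ↥(Subgroup.centralizer ({J} : Set G))) : ℂ)⁻¹ else 0 :=
    fun k => blockCoeff_principal_of_normal_complement 2 M hM hnc k
  simp_rw [hcoeff, mul_one] at hT3
  rw [hT2, hT1] at hT3
  -- rewrite the sum
  have hpairs : ∀ k : ↥(Subgroup.centralizer ({J} : Set G)), ϑ (J * (k : G))
      = (Nat.card G : ℂ)⁻¹ * ((Nat.card (Subgroup.centralizer ({J} : Set G)) : ℂ) ^ 2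
        * (Nat.card {p : G × G // IsConj J p.1 ∧ IsConj J p.2 ∧ p.1 * p.2 = J * (k : G)} : ℂ)) := by
    intro k
    rw [hval, card_conj_pairs J J (J * (k : G))]
    push_cast
    ring
  have hsum : ∑ k : ↥(Subgroup.centralizer ({J} : Set G)),
      (if k ∈ Cfsg.pPrimeCore 2 ↥(Subgroup.centralizer ({J} : Set G)) then
          (Nat.card (Cfsg.pPrimeCore 2 ↥(Subgroup.centralizer ({J} : Set G))) : ℂ)⁻¹ else 0)
        * ϑ (J * (k : G))
      = (Nat.card (Cfsg.pPrimeCore 2 ↥(Subgroup.centralizer ({J} : Set G))) : ℂ)⁻¹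
        * ((Nat.card G : ℂ)⁻¹ * ((Nat.card (Subgroup.centralizer ({J} : Set G)) : ℂ) ^ 2
        * ((∑ᶠ k ∈ ((Cfsg.pPrimeCore 2 ↥(Subgroup.centralizer ({J} : Set G)) :
          Subgroup ↥(Subgroup.centralizer ({J} : Set G))) :
            Set ↥(Subgroup.centralizer ({J} : Set G))),
        Nat.card {p : G × G // IsConj J p.1 ∧ IsConj J p.2 ∧ p.1 * p.2 = J * (k : G)} : ℕ) : ℂ))) := by
    rw [finsum_mem_eq_sum_filter_lib]
    push_cast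
    rw [Finset.sum_filter, Finset.mul_sum, Finset.mul_sum, Finset.mul_sum]
    apply Finset.sum_congr rfl
    intro k _
    have hmem : (k ∈ ((Cfsg.pPrimeCore 2 ↥(Subgroup.centralizer ({J} : Set G)) :
          Subgroup ↥(Subgroup.centralizer ({J} : Set G))) :
            Set ↥(Subgroup.centralizer ({J} : Set G))))
        ↔ k ∈ Cfsg.pPrimeCore 2 ↥(Subgroup.centralizer ({J} : Set G)) := Iff.rfl
    simp only [hmem]
    split_ifs
    · rw [hpairs k]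
    · ring
  rw [hsum] at hT3
  have hcount := kleinFour_pairs_count P hPK J hJ hJ2 hfus
  have hK4 := four_mul_card_pPrimeCore_centralizer P hPK J hJ hJ2
  have hcountC := congrArg (fun n : ℕ => (n : ℂ)) hcount
  have hK4C := congrArg (fun n : ℕ => (n : ℂ)) hK4
  simp only [Nat.cast_mul, Nat.cast_pow, Nat.cast_ofNat] at hcountC hK4C
  have hK0 : (Nat.card (Cfsg.pPrimeCore 2 ↥(Subgroup.centralizer ({J} : Set G))) : ℂ) ≠ 0 :=
    card_ne_zero_complex _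
  rw [hT3]
  have hC0 : (Nat.card (Subgroup.centralizer ({J} : Set G)) : ℂ) ≠ 0 := card_ne_zero_complex _
  obtain ⟨N, hN⟩ : ∃ N : ℂ, N = ((∑ᶠ k ∈ ((Cfsg.pPrimeCore 2 ↥(Subgroup.centralizer ({J} : Set G)) :
          Subgroup ↥(Subgroup.centralizer ({J} : Set G))) :
            Set ↥(Subgroup.centralizer ({J} : Set G))),
        Nat.card {p : G × G // IsConj J p.1 ∧ IsConj J p.2 ∧ p.1 * p.2 = J * (k : G)} : ℕ) : ℂ) :=
    ⟨_, rfl⟩
  rw [← hN] at hcountC ⊢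
  obtain ⟨k, hk⟩ : ∃ k : ℂ, k
      = (Nat.card (Cfsg.pPrimeCore 2 ↥(Subgroup.centralizer ({J} : Set G))) : ℂ) := ⟨_, rfl⟩
  rw [← hk] at hK4C hK0 ⊢
  obtain ⟨c, hc⟩ : ∃ c : ℂ, c = (Nat.card (Subgroup.centralizer ({J} : Set G)) : ℂ) := ⟨_, rfl⟩
  rw [← hc] at hK4C hcountC hC0 ⊢
  obtain ⟨cP, hcP⟩ : ∃ c : ℂ, c = (Nat.card (Subgroup.centralizer ((P : Subgroup G) : Set G)) : ℂ) :=
    ⟨_, rfl⟩
  rw [← hcP] at hcountC ⊢
  obtain ⟨g, hg⟩ : ∃ g : ℂ, g = (Nat.card G : ℂ) := ⟨_, rfl⟩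
  rw [← hg] at hG0 ⊢
  have e1 : g * (k⁻¹ * (g⁻¹ * (c ^ 2 * N))) * cP ^ 2 = k⁻¹ * c ^ 2 * (N * cP ^ 2) := by
    field_simp
  rw [e1, hcountC, ← hK4C]
  field_simp
  ring

/-- An order formula from the principal 2-block. Let G be a finite group of order 4·g₀ with g₀ odd having no normal 2-complement (no normal subgroup of order g₀); let P be a Sylow 2-subgroup, J an involution of P, and fix a maximal ideal M of the algebraic integers containing 2. Suppose the principal 2-block consists of the principal character and three further distinct characters χ₁, χ₂, χ₃ of degrees x₁, x₂, x₃, with χ_i(J) = ε_i = ±1. Then, writing c(J) and c(P) for the orders of the centralizers of J and of P, the order of G equals 8·α·c(J)³/c(P)² with α = x₁x₂x₃ / ((x₁ + ε₁)(x₂ + ε₂)(x₃ + ε₃)). -/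
theorem result {G : Type*} [Group G] [Finite G] (M : Ideal Cfsg.AlgInt) (hM : Cfsg.IsPModular 2 M) (g₀ : ℕ) (hg₀ : Odd g₀) (hG : Nat.card G = 4 * g₀) (hnc : ¬ ∃ N : Subgroup G, N.Normal ∧ Nat.card N = g₀) (P : Sylow 2 G) (J : G) (hJ : J ∈ (P : Subgroup G)) (hJ2 : orderOf J = 2) (χ₁ χ₂ χ₃ : Cfsg.IrrCharacter G) (ε₁ ε₂ ε₃ : ℤ) (hB : Cfsg.principalBlock M G = {χ : Cfsg.IrrCharacter G | (χ : G → ℂ) = (fun _ => 1) ∨ χ = χ₁ ∨ χ = χ₂ ∨ χ = χ₃}) (hdist : (χ₁ : G → ℂ) ≠ (fun _ => 1) ∧ (χ₂ : G → ℂ) ≠ (fun _ => 1) ∧ (χ₃ : G → ℂ) ≠ (fun _ => 1) ∧ χ₁ ≠ χ₂ ∧ χ₁ ≠ χ₃ ∧ χ₂ ≠ χ₃) (hε : (ε₁ = 1 ∨ ε₁ = -1) ∧ (ε₂ = 1 ∨ ε₂ = -1) ∧ (ε₃ = 1 ∨ ε₃ = -1)) (hval : (χ₁ : G → ℂ) J = ε₁ ∧ (χ₂ : G → ℂ) J = ε₂ ∧ (χ₃ : G → ℂ) J = ε₃) : (Nat.card G : ℚ) = 8 * (((Cfsg.charDegree (χ₁ : G → ℂ) : ℚ) * Cfsg.charDegree (χ₂ : G → ℂ) * Cfsg.charDegree (χ₃ : G → ℂ)) / ((Cfsg.charDegree (χ₁ : G → ℂ) + ε₁) * (Cfsg.charDegree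 (χ₂ : G → ℂ) + ε₂) * (Cfsg.charDegree (χ₃ : G → ℂ) + ε₃))) * (Nat.card (Subgroup.centralizer ({J} : Set G)) : ℚ) ^ 3 / (Nat.card (Subgroup.centralizer ((P : Subgroup G) : Set G)) : ℚ) ^ 2 := by
  classical
  have : Fintype G := Fintype.ofFinite G
  have : Fintype (Cfsg.IrrCharacter G) := Fintype.ofFinite _
  have : Fact (Nat.Prime 2) := ⟨Nat.prime_two⟩
  obtain ⟨hPK, hfus⟩ := kleinFour_fusion_of_no_normal_complement g₀ hg₀ hG hnc P
  have hkey := klein_key M hM P hPK hfus J hJ hJ2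
  have hJ1 : J ≠ 1 := by
    intro h
    rw [h, orderOf_one] at hJ2
    norm_num at hJ2
  have hJel : ∃ k : ℕ, orderOf J = 2 ^ k := ⟨1, by rw [hJ2, pow_one]⟩
  have h1el : ∃ k : ℕ, orderOf (1 : G) = 2 ^ k := ⟨0, by rw [orderOf_one, pow_zero]⟩
  have hcol := principal_column_not_conj 2 M hM 1 J h1el hJel (by rw [isConj_one_right]; exact hJ1)
  -- enumerate the principal block
  obtain ⟨hd1, hd2, hd3, h12, h13, h23⟩ := hdist
  have hone1 : oneIrr G ≠ χ₁ := by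
    intro h; apply hd1; rw [← h]; rfl
  have hone2 : oneIrr G ≠ χ₂ := by
    intro h; apply hd2; rw [← h]; rfl
  have hone3 : oneIrr G ≠ χ₃ := by
    intro h; apply hd3; rw [← h]; rfl
  have hS : Finset.univ.filter (· ∈ Cfsg.principalBlock M G)
      = {oneIrr G, χ₁, χ₂, χ₃} := by
    ext χ
    simp only [Finset.mem_filter, Finset.mem_univ, true_and, Finset.mem_insert,
      Finset.mem_singleton]
    rw [hB]
    simp only [Set.mem_ofPred_eq]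
    constructor
    · rintro (h | h | h | h)
      · left; exact Subtype.ext h
      · right; left; exact h
      · right; right; left; exact h
      · right; right; right; exact h
    · rintro (h | h | h | h)
      · left; rw [h]; rfl
      · right; left; exact h
      · right; right; left; exact h
      · right; right; right; exact h
  have hsum4 : ∀ f : Cfsg.IrrCharacter G → ℂ, ∑ᶠ χ ∈ Cfsg.principalBlock M G, f χ
      = f (oneIrr G) + (f χ₁ + (f χ₂ + f χ₃)) := by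
    intro f
    rw [finsum_mem_eq_sum_filter_lib, hS]
    rw [Finset.sum_insert, Finset.sum_insert, Finset.sum_insert, Finset.sum_singleton]
    · simp only [Finset.mem_singleton]; exact h23
    · simp only [Finset.mem_insert, Finset.mem_singleton, not_or]; exact ⟨h12, h13⟩
    · simp only [Finset.mem_insert, Finset.mem_singleton, not_or]; exact ⟨hone1, hone2, hone3⟩
  obtain ⟨hv1, hv2, hv3⟩ := hval
  have hx : ∀ χ : Cfsg.IrrCharacter G, (χ : G → ℂ) 1 = (Cfsg.charDegree (χ : G → ℂ) : ℂ) :=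
    fun χ => IsCharacter.apply_one_eq_charDegree (IsIrrCharacter.isCharacter χ.2)
  have hxpos : ∀ χ : Cfsg.IrrCharacter G, (0 : ℚ) < (Cfsg.charDegree (χ : G → ℂ) : ℚ) := by
    intro χ
    exact_mod_cast IsIrrCharacter.charDegree_pos χ.2
  have hone_val : ∀ g : G, ((oneIrr G : Cfsg.IrrCharacter G) : G → ℂ) g = 1 := fun g => rfl
  rw [hsum4] at hkey hcol
  rw [hone_val, hone_val, hv1, hv2, hv3, hx χ₁, hx χ₂, hx χ₃] at hkey
  rw [hone_val, hone_val, hv1, hv2, hv3, hx χ₁, hx χ₂, hx χ₃] at hcol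
  simp only [map_one, map_intCast, one_mul, mul_one, div_one] at hkey hcol
  -- move to `ℚ`
  have hcolQ : (1 : ℚ) + ((Cfsg.charDegree (χ₁ : G → ℂ) : ℚ) * ε₁
      + ((Cfsg.charDegree (χ₂ : G → ℂ) : ℚ) * ε₂ + (Cfsg.charDegree (χ₃ : G → ℂ) : ℚ) * ε₃)) = 0 := by
    have : (((1 : ℚ) + ((Cfsg.charDegree (χ₁ : G → ℂ) : ℚ) * ε₁
      + ((Cfsg.charDegree (χ₂ : G → ℂ) : ℚ) * ε₂ + (Cfsg.charDegree (χ₃ : G → ℂ) : ℚ) * ε₃)) : ℚ) : ℂ)
        = ((0 : ℚ) : ℂ) := by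
      push_cast
      exact hcol
    exact_mod_cast this
  have hkeyQ : (Nat.card G : ℚ) * (1 + ((ε₁ : ℚ) * ε₁ / (Cfsg.charDegree (χ₁ : G → ℂ) : ℚ) * ε₁
      + ((ε₂ : ℚ) * ε₂ / (Cfsg.charDegree (χ₂ : G → ℂ) : ℚ) * ε₂
        + (ε₃ : ℚ) * ε₃ / (Cfsg.charDegree (χ₃ : G → ℂ) : ℚ) * ε₃)))
      * (Nat.card (Subgroup.centralizer ((P : Subgroup G) : Set G)) : ℚ) ^ 2
      = 8 * (Nat.card (Subgroup.centralizer ({J} : Set G)) : ℚ) ^ 3 := by
    have : (((Nat.card G : ℚ) * (1 + ((ε₁ : ℚ) * ε₁ / (Cfsg.charDegree (χ₁ : G → ℂ) : ℚ) * ε₁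
      + ((ε₂ : ℚ) * ε₂ / (Cfsg.charDegree (χ₂ : G → ℂ) : ℚ) * ε₂
        + (ε₃ : ℚ) * ε₃ / (Cfsg.charDegree (χ₃ : G → ℂ) : ℚ) * ε₃)))
      * (Nat.card (Subgroup.centralizer ((P : Subgroup G) : Set G)) : ℚ) ^ 2 : ℚ) : ℂ)
      = ((8 * (Nat.card (Subgroup.centralizer ({J} : Set G)) : ℚ) ^ 3 : ℚ) : ℂ) := by
      push_cast
      exact hkey
    exact_mod_cast this
  obtain ⟨x₁, hx₁⟩ : ∃ x : ℚ, x = (Cfsg.charDegree (χ₁ : G → ℂ) : ℚ) := ⟨_, rfl⟩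
  obtain ⟨x₂, hx₂⟩ : ∃ x : ℚ, x = (Cfsg.charDegree (χ₂ : G → ℂ) : ℚ) := ⟨_, rfl⟩
  obtain ⟨x₃, hx₃⟩ : ∃ x : ℚ, x = (Cfsg.charDegree (χ₃ : G → ℂ) : ℚ) := ⟨_, rfl⟩
  have hx₁0 : x₁ ≠ 0 := by rw [hx₁]; exact (hxpos χ₁).ne'
  have hx₂0 : x₂ ≠ 0 := by rw [hx₂]; exact (hxpos χ₂).ne'
  have hx₃0 : x₃ ≠ 0 := by rw [hx₃]; exact (hxpos χ₃).ne'
  obtain ⟨cP, hcP⟩ : ∃ c : ℚ, c = (Nat.card (Subgroup.centralizer ((P : Subgroup G) : Set G)) : ℚ) :=
    ⟨_, rfl⟩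
  obtain ⟨cJ, hcJ⟩ : ∃ c : ℚ, c = (Nat.card (Subgroup.centralizer ({J} : Set G)) : ℚ) := ⟨_, rfl⟩
  obtain ⟨g, hg⟩ : ∃ g : ℚ, g = (Nat.card G : ℚ) := ⟨_, rfl⟩
  have hcP0 : cP ≠ 0 := by
    rw [hcP]
    have : 0 < Nat.card (Subgroup.centralizer ((P : Subgroup G) : Set G)) := Nat.card_pos
    exact_mod_cast this.ne'
  have hcJ0 : 0 < cJ := by
    rw [hcJ]
    have : 0 < Nat.card (Subgroup.centralizer ({J} : Set G)) := Nat.card_pos
    exact_mod_cast this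
  rw [← hx₁, ← hx₂, ← hx₃] at hcolQ hkeyQ ⊢
  rw [← hcP, ← hcJ, ← hg] at hkeyQ
  rw [← hcP, ← hcJ, ← hg]
  obtain ⟨e₁, he₁⟩ : ∃ e : ℚ, e = (ε₁ : ℚ) := ⟨_, rfl⟩
  obtain ⟨e₂, he₂⟩ : ∃ e : ℚ, e = (ε₂ : ℚ) := ⟨_, rfl⟩
  obtain ⟨e₃, he₃⟩ : ∃ e : ℚ, e = (ε₃ : ℚ) := ⟨_, rfl⟩
  have hsq : ∀ (ε : ℤ), (ε = 1 ∨ ε = -1) → (ε : ℚ) * ε = 1 := by
    rintro ε (h | h) <;> rw [h] <;> norm_num
  have he₁s : e₁ * e₁ = 1 := by rw [he₁]; exact hsq ε₁ hε.1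
  have he₂s : e₂ * e₂ = 1 := by rw [he₂]; exact hsq ε₂ hε.2.1
  have he₃s : e₃ * e₃ = 1 := by rw [he₃]; exact hsq ε₃ hε.2.2
  rw [← he₁, ← he₂, ← he₃] at hcolQ hkeyQ ⊢
  rw [he₁s, he₂s, he₃s] at hkeyQ
  -- the algebra
  have hD : x₁ * x₂ * x₃ * (1 + (1 / x₁ * e₁ + (1 / x₂ * e₂ + 1 / x₃ * e₃)))
      = (x₁ + e₁) * (x₂ + e₂) * (x₃ + e₃) := by
    field_simp
    linear_combination (-(e₁ * e₂ * e₃)) * hcolQ + (x₁ * e₂ * e₃) * he₁s
      + (x₂ * e₁ * e₃) * he₂s + (x₃ * e₁ * e₂) * he₃s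
  have hDne : (x₁ + e₁) * (x₂ + e₂) * (x₃ + e₃) ≠ 0 := by
    intro h0
    rw [h0] at hD
    have h1 : (1 + (1 / x₁ * e₁ + (1 / x₂ * e₂ + 1 / x₃ * e₃))) = 0 := by
      rcases mul_eq_zero.mp hD with h | h
      · exact absurd h (mul_ne_zero (mul_ne_zero hx₁0 hx₂0) hx₃0)
      · exact h
    rw [h1, mul_zero, zero_mul] at hkeyQ
    have : (0 : ℚ) < 8 * cJ ^ 3 := by positivity
    rw [← hkeyQ] at this
    exact lt_irrefl _ this
  have hT : (1 + (1 / x₁ * e₁ + (1 / x₂ * e₂ + 1 / x₃ * e₃)))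
      = (x₁ + e₁) * (x₂ + e₂) * (x₃ + e₃) / (x₁ * x₂ * x₃) := by
    rw [← hD]
    field_simp
  rw [hT] at hkeyQ
  have hn1 : x₁ + e₁ ≠ 0 := fun h => hDne (by rw [h, zero_mul, zero_mul])
  have hn2 : x₂ + e₂ ≠ 0 := fun h => hDne (by rw [h, mul_zero, zero_mul])
  have hn3 : x₃ + e₃ ≠ 0 := fun h => hDne (by rw [h, mul_zero])
  field_simp at hkeyQ
  field_simp
  linear_combination hkeyQ

end Cfsg.Agent.S4479
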