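import Cfsg.Statements.S4480
import Mathlib
import Cfsg.Agent.S4479
import Cfsg.Agent.Lib.Helper6.FrobSchur
import Cfsg.Agent.Lib.Helper6.KleinFourBlock
import Cfsg.Agent.Lib.Helper6.BlkReal

set_option autoImplicit false
open Cfsg

namespace Cfsg.Agent.S4480

open Cfsg.Agent.Lib.Helper6

open scoped ComplexConjugate Pointwise

/-- no element squares into `J · (odd-order element commuting with J)` -/
theorem no_sqrt {G : Type*} [Group G] [Finite G] (P : Sylow 2 G)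
    (hPK : IsKleinFour (P : Subgroup G)) (J : G) (hJ2 : orderOf J = 2) (k : G)
    (hcomm : Commute J k) (hk : Odd (orderOf k)) (g : G) : g * g ≠ J * k := by
  classical
  have : Fintype G := Fintype.ofFinite G
  have : Fact (Nat.Prime 2) := ⟨Nat.prime_two⟩
  intro hg
  obtain ⟨m, hm⟩ : ∃ m, m = orderOf k := ⟨_, rfl⟩
  have hJJ : J ^ 2 = 1 := by rw [← hJ2, pow_orderOf_eq_one]
  have hJ1 : J ≠ 1 := by
    intro h
    rw [h, orderOf_one] at hJ2
    norm_num at hJ2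
  have hJm : J ^ m = J := by
    rw [hm]
    obtain ⟨t, ht⟩ := hk
    rw [ht, pow_succ, pow_mul, hJJ, one_pow, one_mul]
  have h1 : (J * k) ^ m = J := by
    rw [hcomm.mul_pow, hJm, hm, pow_orderOf_eq_one, mul_one]
  set u := g ^ m with hu
  have huu : u * u = J := by
    rw [hu, ← pow_add, ← two_mul, pow_mul, pow_two, hg, h1]
  have hu4 : u ^ 4 = 1 := by
    have : u ^ 4 = (u * u) ^ 2 := by
      rw [← pow_two u, ← pow_mul u]
    rw [this, huu, hJJ]
  have hP2 : IsPGroup 2 (Subgroup.zpowers u) := by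
    have h2 : orderOf u ∣ 2 ^ 2 := by
      apply orderOf_dvd_of_pow_eq_one
      norm_num
      exact hu4
    obtain ⟨j, _, hj⟩ := (Nat.dvd_prime_pow Nat.prime_two).mp h2
    apply IsPGroup.of_card (n := j)
    rw [Nat.card_zpowers, hj]
  obtain ⟨Q', hQ'⟩ := hP2.exists_le_sylow
  obtain ⟨c, hc⟩ := MulAction.exists_smul_eq G P Q'
  have huQ' : u ∈ (Q' : Subgroup G) := hQ' (Subgroup.mem_zpowers u)
  rw [← hc, Sylow.coe_subgroup_smul, Subgroup.mem_smul_pointwise_iff_exists] at huQ'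
  obtain ⟨q, hq, hqu⟩ := huQ'
  have hqq : q * q = 1 := by
    by_cases hq1 : q = 1
    · rw [hq1, one_mul]
    · have := orderOf_eq_two_of_kleinFour (P : Subgroup G) hPK q hq hq1
      rw [← pow_two, ← this, pow_orderOf_eq_one]
  apply hJ1
  rw [← huu, ← hqu, MulAut.smul_def, MulAut.conj_apply]
  calc c * q * c⁻¹ * (c * q * c⁻¹) = c * (q * q) * c⁻¹ := by group
    _ = 1 := by rw [hqq, mul_one, mul_inv_cancel]

/-- the Frobenius–Schur count: `Σ_{χ ∈ B₀} (Σ_g conj χ(g²)) χ(J) = 0` -/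
theorem fs_sum_zero {G : Type*} [Group G] [Fintype G] (M : Ideal Cfsg.AlgInt)
    (hM : Cfsg.IsPModular 2 M) (P : Sylow 2 G) (hPK : IsKleinFour (P : Subgroup G))
    (J : G) (hJ : J ∈ (P : Subgroup G)) (hJ2 : orderOf J = 2) :
    ∑ᶠ χ ∈ Cfsg.principalBlock M G,
        (∑ g : G, conj ((χ : G → ℂ) (g * g))) * (χ : G → ℂ) J = 0 := by
  classical
  have : Fintype (Cfsg.IrrCharacter G) := Fintype.ofFinite _
  have : Fact (Nat.Prime 2) := ⟨Nat.prime_two⟩
  have : Fintype ↥(Subgroup.centralizer ({J} : Set G)) := Fintype.ofFinite _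
  have : Fintype (Cfsg.IrrCharacter ↥(Subgroup.centralizer ({J} : Set G))) := Fintype.ofFinite _
  have hG0 : (Nat.card G : ℂ) ≠ 0 := card_ne_zero_complex G
  have hJel : ∃ k : ℕ, orderOf J = 2 ^ k := ⟨1, by rw [hJ2, pow_one]⟩
  obtain ⟨ϑ, hϑdef⟩ : ∃ ϑ : G → ℂ, ϑ = fun y => ∑ g : G, if g * g = y then (1 : ℂ) else 0 :=
    ⟨_, rfl⟩
  have hϑ : Cfsg.IsClassFunction G ϑ := by
    intro y h
    rw [hϑdef]
    beta_reduce
    rw [← Equiv.sum_comp (MulAut.conj h).toEquiv]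
    apply Finset.sum_congr rfl
    intro g _
    have : (MulAut.conj h).toEquiv g * (MulAut.conj h).toEquiv g = h * y * h⁻¹ ↔ g * g = y := by
      simp only [MulEquiv.toEquiv_eq_coe, EquivLike.coe_coe, MulAut.conj_apply]
      constructor
      · intro h1
        have h2 : h * (g * g) * h⁻¹ = h * y * h⁻¹ := by rw [← h1]; group
        exact mul_left_cancel (mul_right_cancel h2)
      · intro h1
        rw [← h1]; group
    simp only [this]
  have hinner : ∀ χ : Cfsg.IrrCharacter G, Cfsg.classInner ϑ (χ : G → ℂ)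
      = (Nat.card G : ℂ)⁻¹ * ∑ g : G, conj ((χ : G → ℂ) (g * g)) := by
    intro χ
    unfold Cfsg.classInner
    congr 1
    rw [hϑdef]
    simp only [Finset.sum_mul, ite_mul, one_mul, zero_mul]
    rw [Finset.sum_comm]
    apply Finset.sum_congr rfl
    intro g _
    rw [Finset.sum_ite_eq Finset.univ (g * g)]
    simp
  have hT1 : Cfsg.blockPart (Cfsg.principalBlock M G) ϑ J
      = (Nat.card G : ℂ)⁻¹ * ∑ᶠ χ ∈ Cfsg.principalBlock M G,
        (∑ g : G, conj ((χ : G → ℂ) (g * g))) * (χ : G → ℂ) J := by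
    rw [blockPart_eq_finset_sum, finsum_mem_eq_sum_filter_lib, Finset.mul_sum]
    apply Finset.sum_congr rfl
    intro χ _
    rw [hinner, mul_assoc]
  have h1reg : ¬ 2 ∣ orderOf (1 : ↥(Subgroup.centralizer ({J} : Set G))) := by
    rw [orderOf_one]; norm_num
  have hT2 := blockPart_shift_principal 2 M hM J hJel hϑ
    (1 : ↥(Subgroup.centralizer ({J} : Set G))) h1reg
  rw [Subgroup.coe_one, mul_one] at hT2
  have hcf := shift_isClassFunction J (Subgroup.centralizer ({J} : Set G)) rfl hϑ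
  have hT3 := blockPart_eq_sum (Cfsg.principalBlock M ↥(Subgroup.centralizer ({J} : Set G))) hcf 1
  have hnc := centralizer_involution_index_pPrimeCore P hPK J hJ hJ2
  have hcoeff : ∀ k : ↥(Subgroup.centralizer ({J} : Set G)),
      Cfsg.blockCoeff (Cfsg.principalBlock M ↥(Subgroup.centralizer ({J} : Set G))) k
        = if k ∈ Cfsg.pPrimeCore 2 ↥(Subgroup.centralizer ({J} : Set G)) then
          (Nat.card (Cfsg.pPrimeCore 2 ↥(Subgroup.centralizer ({J} : Set G))) : ℂ)⁻¹ else 0 :=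
    fun k => blockCoeff_principal_of_normal_complement 2 M hM hnc k
  simp_rw [hcoeff, mul_one] at hT3
  rw [hT2, hT1] at hT3
  have hzero : ∀ k : ↥(Subgroup.centralizer ({J} : Set G)),
      k ∈ Cfsg.pPrimeCore 2 ↥(Subgroup.centralizer ({J} : Set G)) → ϑ (J * (k : G)) = 0 := by
    intro k hk
    obtain ⟨_, hcop⟩ := pPrimeCore_normal_and_coprime (G := ↥(Subgroup.centralizer ({J} : Set G))) 2
    have hko : Odd (orderOf (k : G)) := by
      rw [← Nat.not_even_iff_odd, even_iff_two_dvd]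
      intro h2
      have h3 : orderOf (k : G) ∣ Nat.card (Cfsg.pPrimeCore 2 ↥(Subgroup.centralizer ({J} : Set G))) := by
        rw [Subgroup.orderOf_coe]
        have := Subgroup.orderOf_coe (⟨k, hk⟩ : Cfsg.pPrimeCore 2 ↥(Subgroup.centralizer ({J} : Set G)))
        rw [Subgroup.coe_mk] at this
        rw [this]
        exact orderOf_dvd_natCard _
      have h4 : 2 ∣ Nat.gcd (Nat.card (Cfsg.pPrimeCore 2 ↥(Subgroup.centralizer ({J} : Set G)))) 2 :=
        Nat.dvd_gcd (h2.trans h3) dvd_rfl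
      rw [hcop] at h4
      norm_num at h4
    have hcomm : Commute J (k : G) := by
      have := k.2
      rw [mem_centralizer_singleton_iff] at this
      exact this
    rw [hϑdef]
    beta_reduce
    apply Finset.sum_eq_zero
    intro g _
    rw [if_neg (no_sqrt P hPK J hJ2 (k : G) hcomm hko g)]
  have hsum0 : ∑ k : ↥(Subgroup.centralizer ({J} : Set G)),
      (if k ∈ Cfsg.pPrimeCore 2 ↥(Subgroup.centralizer ({J} : Set G)) then
          (Nat.card (Cfsg.pPrimeCore 2 ↥(Subgroup.centralizer ({J} : Set G))) : ℂ)⁻¹ else 0)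
        * ϑ (J * (k : G)) = 0 := by
    apply Finset.sum_eq_zero
    intro k _
    split_ifs with hk
    · rw [hzero k hk, mul_zero]
    · rw [zero_mul]
  rw [hsum0] at hT3
  rcases mul_eq_zero.mp hT3 with h | h
  · exact absurd (inv_eq_zero.mp h) hG0
  · exact h

/-- Same setting as the Klein-four order formula: G of order 4·g₀ (g₀ odd) with no normal 2-complement, P a Sylow 2-subgroup, J an involution of P, M over 2, principal 2-block {1, χ₁, χ₂, χ₃} with χ_i(J) = ε_i = ±1. Suppose ε₁ε₂ε₃ = −1 and ε₃ = −1, and put q = x₃ = χ₃(1). Then there is a natural number m with 4·c(J) = m·c(P)·(q + 1), and the order of G equals (m³·c(P)/4)·(q³ − q)/2, that is 8·#G = m³·c(P)·(q³ − q). -/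
theorem result {G : Type*} [Group G] [Finite G] (M : Ideal Cfsg.AlgInt) (hM : Cfsg.IsPModular 2 M) (g₀ : ℕ) (hg₀ : Odd g₀) (hG : Nat.card G = 4 * g₀) (hnc : ¬ ∃ N : Subgroup G, N.Normal ∧ Nat.card N = g₀) (P : Sylow 2 G) (J : G) (hJ : J ∈ (P : Subgroup G)) (hJ2 : orderOf J = 2) (χ₁ χ₂ χ₃ : Cfsg.IrrCharacter G) (ε₁ ε₂ ε₃ : ℤ) (hB : Cfsg.principalBlock M G = {χ : Cfsg.IrrCharacter G | (χ : G → ℂ) = (fun _ => 1) ∨ χ = χ₁ ∨ χ = χ₂ ∨ χ = χ₃}) (hdist : (χ₁ : G → ℂ) ≠ (fun _ => 1) ∧ (χ₂ : G → ℂ) ≠ (fun _ => 1) ∧ (χ₃ : G → ℂ) ≠ (fun _ => 1) ∧ χ₁ ≠ χ₂ ∧ χ₁ ≠ χ₃ ∧ χ₂ ≠ χ₃) (hε : (ε₁ = 1 ∨ ε₁ = -1) ∧ (ε₂ = 1 ∨ ε₂ = -1) ∧ (ε₃ = 1 ∨ ε₃ = -1)) (hval : (χ₁ : G → ℂ) J = ε₁ ∧ (χ₂ : G → ℂ) J = ε₂ ∧ (χ₃ : G → ℂ) J = ε₃) (hprod : ε₁ * ε₂ * ε₃ = -1) (hε₃ : ε₃ = -1) : ∃ m : ℕ, 4 * Nat.card (Subgroup.centralizer ({J} : Set G)) = m * Nat.card (Subgroup.centralizer ((P : Subgroup G) : Set G)) * (Cfsg.charDegree (χ₃ : G → ℂ) + 1)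 ∧ 8 * Nat.card G = m ^ 3 * Nat.card (Subgroup.centralizer ((P : Subgroup G) : Set G)) * (Cfsg.charDegree (χ₃ : G → ℂ) ^ 3 - Cfsg.charDegree (χ₃ : G → ℂ)) := by
  classical
  have : Fintype G := Fintype.ofFinite G
  have : Fintype (Cfsg.IrrCharacter G) := Fintype.ofFinite _
  have : Fact (Nat.Prime 2) := ⟨Nat.prime_two⟩
  obtain ⟨hPK, hfus⟩ := kleinFour_fusion_of_no_normal_complement g₀ hg₀ hG hnc P
  have hform := Cfsg.Agent.S4479.result M hM g₀ hg₀ hG hnc P J hJ hJ2 χ₁ χ₂ χ₃ ε₁ ε₂ ε₃ hB hdist hε hval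
  have hJ1 : J ≠ 1 := by
    intro h
    rw [h, orderOf_one] at hJ2
    norm_num at hJ2
  have hJel : ∃ k : ℕ, orderOf J = 2 ^ k := ⟨1, by rw [hJ2, pow_one]⟩
  have h1el : ∃ k : ℕ, orderOf (1 : G) = 2 ^ k := ⟨0, by rw [orderOf_one, pow_zero]⟩
  have hcol := principal_column_not_conj 2 M hM 1 J h1el hJel (by rw [isConj_one_right]; exact hJ1)
  have hfs := fs_sum_zero M hM P hPK J hJ hJ2
  -- enumerate the principal block
  obtain ⟨hd1, hd2, hd3, h12, h13, h23⟩ := hdist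
  have hone1 : oneIrr G ≠ χ₁ := by
    intro h; apply hd1; rw [← h]; rfl
  have hone2 : oneIrr G ≠ χ₂ := by
    intro h; apply hd2; rw [← h]; rfl
  have hone3 : oneIrr G ≠ χ₃ := by
    intro h; apply hd3; rw [← h]; rfl
  have hmem : ∀ χ : Cfsg.IrrCharacter G, χ ∈ Cfsg.principalBlock M G ↔
      (χ = oneIrr G ∨ χ = χ₁ ∨ χ = χ₂ ∨ χ = χ₃) := by
    intro χ
    rw [hB]
    simp only [Set.mem_ofPred_eq]
    constructor
    · rintro (h | h | h | h)
      · left; exact Subtype.ext h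
      · right; left; exact h
      · right; right; left; exact h
      · right; right; right; exact h
    · rintro (h | h | h | h)
      · left; rw [h]; rfl
      · right; left; exact h
      · right; right; left; exact h
      · right; right; right; exact h
  have hS : Finset.univ.filter (· ∈ Cfsg.principalBlock M G)
      = {oneIrr G, χ₁, χ₂, χ₃} := by
    ext χ
    simp only [Finset.mem_filter, Finset.mem_univ, true_and, Finset.mem_insert,
      Finset.mem_singleton]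
    exact hmem χ
  have hsum4 : ∀ f : Cfsg.IrrCharacter G → ℂ, ∑ᶠ χ ∈ Cfsg.principalBlock M G, f χ
      = f (oneIrr G) + (f χ₁ + (f χ₂ + f χ₃)) := by
    intro f
    rw [finsum_mem_eq_sum_filter_lib, hS]
    rw [Finset.sum_insert, Finset.sum_insert, Finset.sum_insert, Finset.sum_singleton]
    · simp only [Finset.mem_singleton]; exact h23
    · simp only [Finset.mem_insert, Finset.mem_singleton, not_or]; exact ⟨h12, h13⟩
    · simp only [Finset.mem_insert, Finset.mem_singleton, not_or]; exact ⟨hone1, hone2, hone3⟩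
  obtain ⟨hv1, hv2, hv3⟩ := hval
  have hx : ∀ χ : Cfsg.IrrCharacter G, (χ : G → ℂ) 1 = (Cfsg.charDegree (χ : G → ℂ) : ℂ) :=
    fun χ => IsCharacter.apply_one_eq_charDegree (IsIrrCharacter.isCharacter χ.2)
  have hxpos : ∀ χ : Cfsg.IrrCharacter G, 0 < Cfsg.charDegree (χ : G → ℂ) :=
    fun χ => IsIrrCharacter.charDegree_pos χ.2
  have hone_val : ∀ g : G, ((oneIrr G : Cfsg.IrrCharacter G) : G → ℂ) g = 1 := fun g => rfl
  rw [hsum4] at hcol hfs
  rw [hone_val, hone_val, hv1, hv2, hv3, hx χ₁, hx χ₂, hx χ₃] at hcol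
  simp only [map_one, map_intCast, mul_one] at hcol
  -- the column relation over `ℤ`
  have hcolZ : (1 : ℤ) + ((Cfsg.charDegree (χ₁ : G → ℂ) : ℤ) * ε₁
      + ((Cfsg.charDegree (χ₂ : G → ℂ) : ℤ) * ε₂ + (Cfsg.charDegree (χ₃ : G → ℂ) : ℤ) * ε₃)) = 0 := by
    have : (((1 : ℤ) + ((Cfsg.charDegree (χ₁ : G → ℂ) : ℤ) * ε₁
      + ((Cfsg.charDegree (χ₂ : G → ℂ) : ℤ) * ε₂ + (Cfsg.charDegree (χ₃ : G → ℂ) : ℤ) * ε₃)) : ℤ) : ℂ)
        = ((0 : ℤ) : ℂ) := by
      push_cast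
      exact hcol
    exact_mod_cast this
  -- the signs
  have hε12 : ε₁ = 1 ∧ ε₂ = 1 := by
    have hp1 := hxpos χ₁
    have hp2 := hxpos χ₂
    have hp3 := hxpos χ₃
    rw [hε₃] at hprod hcolZ
    rcases hε.1 with h1 | h1 <;> rcases hε.2.1 with h2 | h2
    · exact ⟨h1, h2⟩
    · rw [h1, h2] at hprod; norm_num at hprod
    · rw [h1, h2] at hprod; norm_num at hprod
    · rw [h1, h2] at hcolZ; omega
  obtain ⟨he1, he2⟩ := hε12
  subst he1 he2 hε₃
  have hx3 : Cfsg.charDegree (χ₃ : G → ℂ)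
      = 1 + Cfsg.charDegree (χ₁ : G → ℂ) + Cfsg.charDegree (χ₂ : G → ℂ) := by
    omega
  -- values on `P`
  have hvalP : ∀ (χ : Cfsg.IrrCharacter G) (n : ℤ), (χ : G → ℂ) J = (n : ℂ) →
      ∀ w ∈ (P : Subgroup G), w ≠ 1 → (χ : G → ℂ) w = (n : ℂ) := by
    intro χ n hn w hw hw1
    have hc := hfus J hJ w hw hJ1 hw1
    obtain ⟨c, hc⟩ := isConj_iff.mp hc
    rw [← hc, IsIrrCharacter.isClassFunction χ.2 J c, hn]
  have hdvd1 := four_dvd_degree_sub_of_kleinFour (P : Subgroup G) hPK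
    (IsIrrCharacter.isCharacter χ₁.2) 1 (hvalP χ₁ 1 hv1)
  have hdvd2 := four_dvd_degree_sub_of_kleinFour (P : Subgroup G) hPK
    (IsIrrCharacter.isCharacter χ₂.2) 1 (hvalP χ₂ 1 hv2)
  have hdvd3 := four_dvd_degree_sub_of_kleinFour (P : Subgroup G) hPK
    (IsIrrCharacter.isCharacter χ₃.2) (-1) (hvalP χ₃ (-1) hv3)
  have hodd1 : Odd (Cfsg.charDegree (χ₁ : G → ℂ)) := by
    rw [← Nat.not_even_iff_odd, even_iff_two_dvd]; omega
  have hodd2 : Odd (Cfsg.charDegree (χ₂ : G → ℂ)) := by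
    rw [← Nat.not_even_iff_odd, even_iff_two_dvd]; omega
  have hodd3 : Odd (Cfsg.charDegree (χ₃ : G → ℂ)) := by
    rw [← Nat.not_even_iff_odd, even_iff_two_dvd]; omega
  -- the two middle degrees agree
  have hdeg : Cfsg.charDegree (χ₁ : G → ℂ) = Cfsg.charDegree (χ₂ : G → ℂ) := by
    have hcj_one : cjIrr (oneIrr G) = oneIrr G := by
      apply Subtype.ext
      funext g
      show conj (1 : ℂ) = 1
      exact map_one _
    have hcj_mem : ∀ χ : Cfsg.IrrCharacter G, χ ∈ Cfsg.principalBlock M G →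
        cjIrr χ ∈ Cfsg.principalBlock M G := fun χ hχ => conj_mem_principalBlock χ hχ
    have hcj_val : ∀ (χ : Cfsg.IrrCharacter G) (g : G),
        ((cjIrr χ : Cfsg.IrrCharacter G) : G → ℂ) g = conj ((χ : G → ℂ) g) := fun χ g => rfl
    have hcj_ne_one : ∀ χ : Cfsg.IrrCharacter G, χ ≠ oneIrr G → cjIrr χ ≠ oneIrr G := by
      intro χ hχ h
      apply hχ
      rw [← cjIrr_cjIrr χ, h, hcj_one]
    have hm1 : χ₁ ∈ Cfsg.principalBlock M G := (hmem χ₁).2 (Or.inr (Or.inl rfl))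
    have hm2 : χ₂ ∈ Cfsg.principalBlock M G := (hmem χ₂).2 (Or.inr (Or.inr (Or.inl rfl)))
    have hm3 : χ₃ ∈ Cfsg.principalBlock M G := (hmem χ₃).2 (Or.inr (Or.inr (Or.inr rfl)))
    have hne13 : cjIrr χ₁ ≠ χ₃ := by
      intro h
      have := hcj_val χ₁ J
      rw [h, hv1, hv3] at this
      norm_num at this
    have hne23 : cjIrr χ₂ ≠ χ₃ := by
      intro h
      have := hcj_val χ₂ J
      rw [h, hv2, hv3] at this
      norm_num at this
    have hswap : cjIrr χ₁ = χ₂ → Cfsg.charDegree (χ₁ : G → ℂ) = Cfsg.charDegree (χ₂ : G → ℂ) := by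
      intro h
      have h1 := hcj_val χ₁ 1
      rw [h, IsIrrCharacter.conj_apply_one χ₁.2, hx χ₁, hx χ₂] at h1
      exact_mod_cast h1.symm
    rcases (hmem _).1 (hcj_mem χ₁ hm1) with h | h | h | h
    · exact absurd h (hcj_ne_one χ₁ hone1.symm)
    swap
    · exact hswap h
    swap
    · exact absurd h hne13
    -- `χ₁` is real
    have hr1 : cjIrr χ₁ = χ₁ := h
    have hr2 : cjIrr χ₂ = χ₂ := by
      rcases (hmem _).1 (hcj_mem χ₂ hm2) with h | h | h | h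
      · exact absurd h (hcj_ne_one χ₂ hone2.symm)
      · exfalso
        apply h12
        rw [← cjIrr_cjIrr χ₂, h, hr1]
      · exact h
      · exact absurd h hne23
    have hr3 : cjIrr χ₃ = χ₃ := by
      rcases (hmem _).1 (hcj_mem χ₃ hm3) with h | h | h | h
      · exact absurd h (hcj_ne_one χ₃ hone3.symm)
      · exfalso
        apply h13
        rw [← hr1, ← h, cjIrr_cjIrr]
      · exfalso
        apply h23
        rw [← hr2, ← h, cjIrr_cjIrr]
      · exact h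
    exfalso
    have hreal : ∀ χ : Cfsg.IrrCharacter G, cjIrr χ = χ →
        ∀ g : G, conj ((χ : G → ℂ) g) = (χ : G → ℂ) g := by
      intro χ hχ g
      rw [← hcj_val χ g, hχ]
    have hF : ∀ χ : Cfsg.IrrCharacter G, cjIrr χ = χ → Odd (Cfsg.charDegree (χ : G → ℂ)) →
        ∑ g : G, conj ((χ : G → ℂ) (g * g)) = (Nat.card G : ℂ) := by
      intro χ hχ hodd
      have h1 := IsIrrCharacter.sum_sq_of_real_of_odd χ.2 (hreal χ hχ) hodd
      simp_rw [hreal χ hχ]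
      exact h1
    rw [hF χ₁ hr1 hodd1, hF χ₂ hr2 hodd2, hF χ₃ hr3 hodd3, hv1, hv2, hv3] at hfs
    simp only [hone_val, map_one, Finset.sum_const, Finset.card_univ, nsmul_eq_mul, mul_one] at hfs
    have hG0 : (Nat.card G : ℂ) ≠ 0 := card_ne_zero_complex G
    rw [← Nat.card_eq_fintype_card] at hfs
    apply hG0
    push_cast at hfs
    linear_combination (1 / 2 : ℂ) * hfs
  -- the arithmetic
  obtain ⟨b, hb⟩ := hodd1
  obtain ⟨x₂, hx₂⟩ : ∃ x, x = Cfsg.charDegree (χ₂ : G → ℂ) := ⟨_, rfl⟩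
  obtain ⟨x₃, hx₃⟩ : ∃ x, x = Cfsg.charDegree (χ₃ : G → ℂ) := ⟨_, rfl⟩
  obtain ⟨x₁, hx₁⟩ : ∃ x, x = Cfsg.charDegree (χ₁ : G → ℂ) := ⟨_, rfl⟩
  rw [← hx₁, ← hx₂, ← hx₃] at hform
  rw [← hx₃]
  rw [← hx₁, ← hx₂] at hdeg
  rw [← hx₁, ← hx₂, ← hx₃] at hx3
  rw [← hx₁] at hb
  have hx₂b : x₂ = 2 * b + 1 := by omega
  have hx₃b : x₃ = 4 * b + 3 := by omega
  obtain ⟨cP, hcP⟩ : ∃ c, c = Nat.card (Subgroup.centralizer ((P : Subgroup G) : Set G)) := ⟨_, rfl⟩
  obtain ⟨cJ, hcJ⟩ : ∃ c, c = Nat.card (Subgroup.centralizer ({J} : Set G)) := ⟨_, rfl⟩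
  obtain ⟨gg, hgg⟩ : ∃ g, g = Nat.card G := ⟨_, rfl⟩
  have hcP0 : 0 < cP := by rw [hcP]; exact Nat.card_pos
  have hcJ0 : 0 < cJ := by rw [hcJ]; exact Nat.card_pos
  have hPJ : cP ∣ cJ := by
    rw [hcP, hcJ]
    apply Subgroup.card_dvd_of_le
    apply Subgroup.centralizer_le
    intro w hw
    rw [Set.mem_singleton_iff] at hw
    rw [hw]
    exact hJ
  have hJG : cJ ∣ gg := by
    rw [hcJ, hgg]
    exact Subgroup.card_subgroup_dvd_card _
  rw [← hcP, ← hcJ, ← hgg] at hform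
  rw [← hcP, ← hcJ, ← hgg]
  obtain ⟨I, hI⟩ := hPJ
  obtain ⟨nJ, hnJ⟩ := hJG
  have hI0 : 0 < I := by
    rcases Nat.eq_zero_or_pos I with h | h
    · rw [h, mul_zero] at hI; omega
    · exact h
  have hN : gg * (b + 1) ^ 2 * cP ^ 2 = (2 * b + 1) * (4 * b + 3) * cJ ^ 3 := by
    have hQ : (gg : ℚ) * ((b : ℚ) + 1) ^ 2 * (cP : ℚ) ^ 2
        = (2 * (b : ℚ) + 1) * (4 * b + 3) * (cJ : ℚ) ^ 3 := by
      have hcPQ : (cP : ℚ) ≠ 0 := by exact_mod_cast hcP0.ne'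
      have hb1 : (b : ℚ) + 1 ≠ 0 := by positivity
      have hb2 : 2 * (b : ℚ) + 1 ≠ 0 := by positivity
      rw [hform, hb, hx₂b, hx₃b]
      push_cast
      have e1 : (4 * (b : ℚ) + 3 + -1) = 2 * (2 * b + 1) := by ring
      have e2 : (2 * (b : ℚ) + 1 + 1) = 2 * (b + 1) := by ring
      rw [e1, e2]
      field_simp
      ring
    exact_mod_cast hQ
  have hkey : nJ * (b + 1) ^ 2 = (2 * b + 1) * (4 * b + 3) * I ^ 2 := by
    have h0 : 0 < I * cP ^ 3 := by positivity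
    apply Nat.eq_of_mul_eq_mul_left h0
    calc I * cP ^ 3 * (nJ * (b + 1) ^ 2) = (cP * I * nJ) * (b + 1) ^ 2 * cP ^ 2 := by ring
      _ = (2 * b + 1) * (4 * b + 3) * (cP * I) ^ 3 := by rw [← hI, ← hnJ, hN, hI]
      _ = I * cP ^ 3 * ((2 * b + 1) * (4 * b + 3) * I ^ 2) := by ring
  have hc1 : Nat.Coprime (b + 1) (2 * b + 1) := by
    apply Nat.isCoprime_iff_coprime.mp
    exact ⟨2, -1, by push_cast; ring⟩
  have hc2 : Nat.Coprime (b + 1) (4 * b + 3) := by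
    apply Nat.isCoprime_iff_coprime.mp
    exact ⟨4, -1, by push_cast; ring⟩
  have hc3 : Nat.Coprime ((b + 1) ^ 2) ((2 * b + 1) * (4 * b + 3)) :=
    Nat.Coprime.pow_left 2 (Nat.Coprime.mul_right hc1 hc2)
  have hd1 : (b + 1) ^ 2 ∣ I ^ 2 := by
    apply hc3.dvd_of_dvd_mul_left
    rw [← hkey]
    exact dvd_mul_left _ _
  have hd2 : b + 1 ∣ I := (Nat.pow_dvd_pow_iff two_ne_zero).mp hd1
  obtain ⟨m, hm⟩ := hd2
  have hnJ' : nJ = (2 * b + 1) * (4 * b + 3) * m ^ 2 := by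
    have h0 : 0 < (b + 1) ^ 2 := by positivity
    apply Nat.eq_of_mul_eq_mul_right h0
    rw [hkey, hm]
    ring
  refine ⟨m, ?_, ?_⟩
  · rw [hI, hm, hx₃b]
    ring
  · have hsub : x₃ ^ 3 - x₃ = 8 * ((4 * b + 3) * (2 * b + 1) * (b + 1)) := by
      apply Nat.sub_eq_of_eq_add
      rw [hx₃b]
      ring
    rw [hsub, hnJ, hnJ', hI, hm]
    ring

end Cfsg.Agent.S4480
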