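import Cfsg.Statements.S4483
import Mathlib
import Cfsg.Agent.Lib.Helper6.Parity
import Cfsg.Agent.S4494

set_option autoImplicit false
open Cfsg

namespace Cfsg.Agent.S4483

open Cfsg.Agent.Lib.Helper6

/-- Let G be a finite group of order 2^n·g₀ with g₀ odd, and M a maximal ideal of the algebraic integers containing 2. Every real-valued irreducible character of G of odd degree lies in the principal 2-block; consequently G has at most 2^(2n) real-valued irreducible characters of odd degree. -/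
theorem result {G : Type*} [Group G] [Finite G] (M : Ideal Cfsg.AlgInt) (hM : Cfsg.IsPModular 2 M) : (∀ χ : Cfsg.IrrCharacter G, (∀ g : G, ((χ : G → ℂ) g).im = 0) → Odd (Cfsg.charDegree (χ : G → ℂ)) → χ ∈ Cfsg.principalBlock M G) ∧ Nat.card {χ : Cfsg.IrrCharacter G // (∀ g : G, ((χ : G → ℂ) g).im = 0) ∧ Odd (Cfsg.charDegree (χ : G → ℂ))} ≤ 2 ^ (2 * (Nat.card G).factorization 2) := by
  classical
  have : Fintype G := Fintype.ofFinite G
  have : Fintype (Cfsg.IrrCharacter G) := Fintype.ofFinite _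
  have : Fact (Nat.Prime 2) := ⟨Nat.prime_two⟩
  have key : ∀ χ : Cfsg.IrrCharacter G, (∀ g : G, ((χ : G → ℂ) g).im = 0) →
      Odd (Cfsg.charDegree (χ : G → ℂ)) → χ ∈ Cfsg.principalBlock M G := by
    intro χ hre hodd
    apply mem_principalBlock_of_odd_of_inv_eq hM χ hodd
    intro x _
    rw [IsCharacter.apply_inv (IsIrrCharacter.isCharacter χ.2)]
    exact Complex.conj_eq_iff_im.mpr (hre x)
  refine ⟨key, ?_⟩
  have h1 := Cfsg.Agent.S4494.result 2 M hM (Cfsg.principalBlock M G) ⟨oneIrr G, rfl⟩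
  rw [blockDefect_principal hM] at h1
  have h2 : Nat.card {χ : Cfsg.IrrCharacter G // (∀ g : G, ((χ : G → ℂ) g).im = 0) ∧
      Odd (Cfsg.charDegree (χ : G → ℂ))} ≤ Nat.card (Cfsg.principalBlock M G) := by
    exact Nat.card_mono (Set.toFinite (Cfsg.principalBlock M G))
      (fun χ (hχ : (∀ g : G, ((χ : G → ℂ) g).im = 0) ∧ Odd (Cfsg.charDegree (χ : G → ℂ))) =>
        key χ hχ.1 hχ.2)
  have h3 : 1 ≤ 2 ^ (2 * (Nat.card G).factorization 2) := Nat.one_le_two_pow
  rcases Nat.eq_zero_or_pos ((Nat.card G).factorization 2) with h0 | h0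
  · rw [h0, mul_zero, pow_zero] at h1 ⊢
    omega
  · have h4 : 4 ≤ 2 ^ (2 * (Nat.card G).factorization 2) := by
      calc 4 = 2 ^ 2 := by norm_num
        _ ≤ 2 ^ (2 * (Nat.card G).factorization 2) := Nat.pow_le_pow_right (by norm_num) (by omega)
    omega

end Cfsg.Agent.S4483
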