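import Cfsg.Statements.S4487
import Mathlib
import Cfsg.Agent.Lib.Helper6.BlkPGroup
import Cfsg.Agent.Lib.Helper6.BlkOrthFull
import Cfsg.Agent.Lib.Helper6.BlkCover
import Cfsg.Agent.S0971

set_option autoImplicit false
open Cfsg

namespace Cfsg.Agent.S4487

open Cfsg.Agent.Lib.Helper6

theorem pCore_normal_and_isPGroup {G : Type*} [Group G] [Finite G] (p : ℕ) [Fact p.Prime] :
    (Cfsg.pCore p G).Normal ∧ IsPGroup p (Cfsg.pCore p G) := by
  have hs : SupClosed {N : Subgroup G | N.Normal ∧ IsPGroup p N} := by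
    rintro A ⟨hA, hA'⟩ B ⟨hB, hB'⟩
    exact ⟨inferInstance, IsPGroup.to_sup_of_normal_right hA' hB'⟩
  exact hs.sSup_mem_of_nonempty (Set.toFinite _) ⟨⊥, inferInstance, IsPGroup.of_bot⟩ le_rfl

/-- Let G be a finite group and p a prime such that G has no non-trivial normal subgroup of order prime to p and C_G(O_p(G)) ≤ O_p(G). Then G has a single p-block: any two irreducible characters lie in the same block relative to every maximal ideal M of the algebraic integers containing p. -/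
theorem result {G : Type*} [Group G] [Finite G] (p : ℕ) [Fact p.Prime] (M : Ideal Cfsg.AlgInt) (hM : Cfsg.IsPModular p M) (hcore : Cfsg.pPrimeCore p G = ⊥) (hconstr : Subgroup.centralizer ((Cfsg.pCore p G) : Set G) ≤ Cfsg.pCore p G) (χ ψ : Cfsg.IrrCharacter G) : Cfsg.SameBlock M (χ : G → ℂ) (ψ : G → ℂ) := by

  classical
  haveI : Fintype G := Fintype.ofFinite G
  obtain ⟨hQn, hQ⟩ := pCore_normal_and_isPGroup (G := G) p
  haveI := hQn
  have hsup : Cfsg.pCore p G ⊔ Subgroup.centralizer ((Cfsg.pCore p G) : Set G) = Cfsg.pCore p G :=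
    sup_eq_left.mpr hconstr
  haveI : Fintype ↥(Cfsg.pCore p G ⊔ Subgroup.centralizer ((Cfsg.pCore p G) : Set G)) :=
    Fintype.ofFinite _
  have hNp : IsPGroup p ↥(Cfsg.pCore p G ⊔ Subgroup.centralizer ((Cfsg.pCore p G) : Set G)) := by
    rw [hsup]; exact hQ
  have h71 := (Cfsg.Agent.S0971.result p M hM (Cfsg.pCore p G) hQ
    (Cfsg.principalBlock M ↥(Cfsg.pCore p G ⊔ Subgroup.centralizer ((Cfsg.pCore p G) : Set G)))
    ⟨oneIrr _, principalBlock_eq⟩).2
  have key : ∀ χ : Cfsg.IrrCharacter G, Cfsg.IsInducedBlock M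
      (Cfsg.pCore p G ⊔ Subgroup.centralizer ((Cfsg.pCore p G) : Set G))
      (Cfsg.principalBlock M ↥(Cfsg.pCore p G ⊔ Subgroup.centralizer ((Cfsg.pCore p G) : Set G)))
      (Cfsg.blockOf M (χ : G → ℂ)) := by
    intro χ
    obtain ⟨θ, hθ⟩ := exists_constituent_restrict
      (Cfsg.pCore p G ⊔ Subgroup.centralizer ((Cfsg.pCore p G) : Set G)) χ.2
    exact h71 _ ⟨χ, rfl⟩ ⟨χ, sameBlock_refl hM _, θ, mem_principalBlock_of_isPGroup hM hNp θ, hθ⟩
  have heq := IsInducedBlock.unique _ hM (key χ) (key ψ)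
  have hψ : ψ ∈ Cfsg.blockOf M (ψ : G → ℂ) := sameBlock_refl hM _
  rw [← heq] at hψ
  exact hψ


end Cfsg.Agent.S4487
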