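import Cfsg.Statements.S4490
import Mathlib
import Cfsg.Agent.Lib.Helper6.BlkReal
import Cfsg.Agent.Lib.Helper6.BlkCover3
import Cfsg.Agent.Lib.Helper6.Multiplicity
import Cfsg.Agent.S0908

set_option autoImplicit false
open Cfsg

namespace Cfsg.Agent.S4490

open Cfsg.Agent.Lib.Helper6

/-- Let G be a finite group and M a maximal ideal of the algebraic integers containing 2. Every 2-block B of G whose defect groups are the Sylow 2-subgroups of G (a block of full defect) and which is not the principal block is different from its complex-conjugate block, the block formed by the complex conjugates of the members of B. -/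
theorem result {G : Type*} [Group G] [Finite G] (M : Ideal Cfsg.AlgInt) (hM : Cfsg.IsPModular 2 M) (B : Set (Cfsg.IrrCharacter G)) (hB : Cfsg.IsPBlock M B) (P : Sylow 2 G) (hfull : Cfsg.IsDefectGroup 2 M B (P : Subgroup G)) (hnp : B ≠ Cfsg.principalBlock M G) : {ψ : Cfsg.IrrCharacter G | ∃ χ ∈ B, (ψ : G → ℂ) = fun g => (starRingEnd ℂ) ((χ : G → ℂ) g)} ≠ B := by
  classical
  have : Fintype G := Fintype.ofFinite G
  haveI : Fact (Nat.Prime 2) := ⟨Nat.prime_two⟩
  intro hconj
  obtain ⟨χ₀, hχ₀⟩ := hB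
  have hcard := Cfsg.Agent.S0908.result 2 M hM B ⟨χ₀, hχ₀⟩ (P : Subgroup G) hfull
  rw [P.card_eq_multiplicity] at hcard
  have hdef : Cfsg.blockDefect 2 B = (Nat.card G).factorization 2 :=
    (Nat.pow_right_injective (le_refl 2) hcard).symm
  -- a member of odd degree
  set T : Set ℕ := (fun χ : Cfsg.IrrCharacter G => (Cfsg.charDegree (χ : G → ℂ)).factorization 2) '' B
    with hT
  have hχ₀B : χ₀ ∈ B := by
    rw [hχ₀]
    exact sameBlock_refl hM _
  have hTne : T.Nonempty := ⟨_, χ₀, hχ₀B, rfl⟩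
  have hmem : sInf T ∈ T := Nat.sInf_mem hTne
  obtain ⟨χ, hχB, hχdeg⟩ := hmem
  have hle : (Cfsg.charDegree (χ : G → ℂ)).factorization 2 ≤ (Nat.card G).factorization 2 := by
    have hdvd := IsIrrCharacter.charDegree_dvd_card χ.2
    exact (Nat.factorization_le_iff_dvd (IsIrrCharacter.charDegree_pos χ.2).ne'
      Nat.card_pos.ne').mpr hdvd 2
  have hzero : (Cfsg.charDegree (χ : G → ℂ)).factorization 2 = 0 := by
    have h1 : Cfsg.blockDefect 2 B = (Nat.card G).factorization 2 - sInf T := rfl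
    rw [hdef] at h1
    beta_reduce at hχdeg
    omega
  have hodd : ¬ 2 ∣ Cfsg.charDegree (χ : G → ℂ) := by
    intro h2
    have := (Nat.Prime.dvd_iff_one_le_factorization Nat.prime_two
      (IsIrrCharacter.charDegree_pos χ.2).ne').mp h2
    omega
  -- the conjugate lies in B
  have hcjB : cjIrr χ ∈ B := by
    rw [← hconj]
    exact ⟨χ, hχB, rfl⟩
  have hsame : Cfsg.SameBlock M (χ : G → ℂ) ((cjIrr χ : Cfsg.IrrCharacter G) : G → ℂ) := by
    rw [hχ₀] at hχB hcjB
    exact SameBlock.trans' hM (SameBlock.symm' hχB) hcjB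
  have h1 := real_block_cong hM χ hodd hsame
  have hχnot : χ ∉ Cfsg.principalBlock M G := by
    intro hmem
    apply hnp
    rw [hχ₀] at hχB
    rw [hχ₀, blockOf_eq_of_mem hM hχB]
    exact (blockOf_eq_of_mem hM hmem).symm
  rw [if_neg hχnot] at h1
  -- the principal character
  have hone_cj : cjIrr (oneIrr G) = oneIrr G := by
    apply Subtype.ext
    funext g
    show (starRingEnd ℂ) (1 : ℂ) = 1
    exact map_one _
  have hodd1 : ¬ 2 ∣ Cfsg.charDegree ((oneIrr G : Cfsg.IrrCharacter G) : G → ℂ) := by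
    have : Cfsg.charDegree ((oneIrr G : Cfsg.IrrCharacter G) : G → ℂ) = 1 := charDegree_one_fun
    rw [this]
    decide
  have hsame1 : Cfsg.SameBlock M ((oneIrr G : Cfsg.IrrCharacter G) : G → ℂ)
      ((cjIrr (oneIrr G) : Cfsg.IrrCharacter G) : G → ℂ) := by
    rw [hone_cj]
    exact sameBlock_refl hM _
  have h2 := real_block_cong hM (oneIrr G) hodd1 hsame1
  have hone_mem : oneIrr G ∈ Cfsg.principalBlock M G := sameBlock_refl hM _
  rw [if_pos hone_mem] at h2
  have h3 := MemLocalIdeal.sub hM h2 h1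
  have e : (1 - Cfsg.blockCoeff (Cfsg.principalBlock M G) 1)
      - (0 - Cfsg.blockCoeff (Cfsg.principalBlock M G) 1) = (1 : ℂ) := by ring
  rw [e] at h3
  exact not_memLocalIdeal_one hM h3

end Cfsg.Agent.S4490
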