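import Cfsg.Statements.S4492
import Mathlib
import Cfsg.Agent.Lib.Helper6.FongThm
import Cfsg.Agent.Lib.Helper7.PConstrained3
import Cfsg.Agent.Lib.Helper1.PConstrainedOfPSolvable
import Cfsg.Agent.Lib.Helper1.PSolvSub

set_option autoImplicit false
open Cfsg

namespace Cfsg.Agent.S4492

open Cfsg.Agent.Lib.Helper6

/-- Let G be a finite p-solvable group, N = O_{p'}(G) its largest normal subgroup of order prime to p, and θ an irreducible character of N invariant under conjugation by G; fix a maximal ideal M of the algebraic integers containing p. Then the irreducible characters of G lying over θ (those whose restriction to N contains θ) form a single p-block of G, and the defect groups of that block are exactly the Sylow p-subgroups of G. -/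
theorem result {G : Type*} [Group G] [Fintype G] (p : ℕ) [Fact p.Prime] (M : Ideal Cfsg.AlgInt) (hM : Cfsg.IsPModular p M) (hsolv : Cfsg.IsPSolvable p G) (N : Subgroup G) [hN : N.Normal] [Fintype N] (hNdef : N = Cfsg.pPrimeCore p G) (θ : Cfsg.IrrCharacter N) (hinv : ∀ (g : G) (n : N), (θ : N → ℂ) ⟨g * n * g⁻¹, hN.conj_mem n n.2 g⟩ = (θ : N → ℂ) n) : ∃ B : Set (Cfsg.IrrCharacter G), Cfsg.IsPBlock M B ∧ (∀ χ : Cfsg.IrrCharacter G, χ ∈ B ↔ Cfsg.classInner (fun n : N => (χ : G → ℂ) n) (θ : N → ℂ) ≠ 0) ∧ (∀ P : Sylow p G, Cfsg.IsDefectGroup p M B (P : Subgroup G)) ∧ ∀ D : Subgroup G, Cfsg.IsDefectGroup p M B D → ∃ P : Sylow p G, D = (P : Subgroup G) := by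
  classical
  have hpp : p.Prime := Fact.out
  have hNp : ¬ p ∣ Nat.card N := by
    rw [hNdef]
    exact (Nat.Prime.coprime_iff_not_dvd hpp).mp (pPrimeCore_normal_and_coprime (G := G) p).2.symm
  haveI : Fintype ↥(Cfsg.pPrimePCore p G) := Fintype.ofFinite _
  have hM₁ : (Cfsg.pPrimePCore p G).Normal := Cfsg.Agent.Lib.Helper7.pPrimePCore_normal_inst p
  have hNM : N ≤ Cfsg.pPrimePCore p G := by
    rw [hNdef]
    exact Cfsg.Agent.Lib.Helper7.pPrimeCore_le_pPrimePCore p
  have hidx : ∃ k : ℕ, (N.subgroupOf (Cfsg.pPrimePCore p G)).index = p ^ k := by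
    rw [hNdef, Subgroup.index_eq_card]
    exact IsPGroup.iff_card.1 (Cfsg.Agent.Lib.Helper7.isPGroup_pPrimePCore_quotient p)
  have hcon : ∀ P₁ : Sylow p ↥(Cfsg.pPrimePCore p G),
      Subgroup.centralizer (((P₁ : Subgroup ↥(Cfsg.pPrimePCore p G)).map
        (Cfsg.pPrimePCore p G).subtype : Subgroup G) : Set G) ≤ Cfsg.pPrimePCore p G := by
    intro P₁
    exact Cfsg.Agent.Lib.Helper1.isPConstrained_of_isPSolvable_centralizer P₁
      (Cfsg.Agent.Lib.Helper1.PSolvSub.isPSolvable_subgroup hsolv _) P₁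
  exact fong_aux hM N hN hNp θ hinv (Cfsg.pPrimePCore p G) hM₁ hNM hidx hcon

end Cfsg.Agent.S4492
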