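import Cfsg.Statements.S4495
import Mathlib
import Cfsg.Agent.Lib.Helper8.SelfCent3

set_option autoImplicit false
open Cfsg

namespace Cfsg.Agent.S4495

/-- Let the finite group G contain an element x of prime order p with C_G(x) = ⟨x⟩, and let t be the number of conjugacy classes of elements of order p. If t ≠ p − 1 then the commutator subgroup has index at most (p − 1)/t; if t = p − 1 it has index exactly p. -/
theorem result {G : Type*} [Group G] [Finite G] (p : ℕ) (hp : p.Prime) (x : G) (hx : orderOf x = p) (hC : Subgroup.centralizer ({x} : Set G) = Subgroup.zpowers x) (t : ℕ) (ht : Nat.card {C : ConjClasses G // ∃ g ∈ C.carrier, orderOf g = p} = t) : (t ≠ p - 1 → (commutator G).index * t ≤ p - 1) ∧ (t = p - 1 → (commutator G).index = p) := by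
  haveI : Fact p.Prime := ⟨hp⟩
  have het := Cfsg.Agent.Lib.Helper8.SelfCent.relIndex_mul_card_classes hx hC
  have hiff := Cfsg.Agent.Lib.Helper8.SelfCent.card_classes_eq_iff hx hC
  rw [ht] at het hiff
  constructor
  · intro hne
    have hNP : Subgroup.normalizer (Subgroup.zpowers x : Set G) ≠ Subgroup.zpowers x :=
      fun h => hne (hiff.2 h)
    have hPG := Cfsg.Agent.Lib.Helper8.SelfCent.zpowers_le_commutator hp hx hC
      (Cfsg.Agent.Lib.Helper8.SelfCent.exists_mem_normalizer_not_mem hNP)
    have hdvd := Cfsg.Agent.Lib.Helper8.SelfCent.index_dvd_relIndex hx hC (commutator G) hPG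
    have hpos : 0 < (Subgroup.zpowers x).relIndex (Subgroup.normalizer (Subgroup.zpowers x : Set G)) := by
      rcases Nat.eq_zero_or_pos ((Subgroup.zpowers x).relIndex
        (Subgroup.normalizer (Subgroup.zpowers x : Set G))) with h | h
      · rw [h, zero_mul] at het
        have := hp.one_lt
        omega
      · exact h
    rw [← het]
    exact Nat.mul_le_mul_right _ (Nat.le_of_dvd hpos hdvd)
  · intro heq
    obtain ⟨K, hKn, hcop, hcard, hK⟩ := Cfsg.Agent.Lib.Helper8.SelfCent.exists_complement hx hC
      (hiff.1 heq)
    rw [hK]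
    have h1 := Subgroup.index_mul_card K
    rw [← hcard, mul_comm] at h1
    exact Nat.eq_of_mul_eq_mul_left Nat.card_pos h1

end Cfsg.Agent.S4495
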