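import Cfsg.Statements.S4496
import Mathlib
import Cfsg.Agent.Lib.Helper8.SelfCent5

set_option autoImplicit false
open Cfsg

namespace Cfsg.Agent.S4496

/-- conjugation action of a subgroup on a normal subgroup -/
@[reducible] def conjActOn {G : Type*} [Group G] (P S : Subgroup G) [hS : S.Normal] :
    MulAction ↥P ↥S where
  smul y s := ⟨(y : G) * s * (y : G)⁻¹, hS.conj_mem s s.2 y⟩
  one_smul s := Subtype.ext (by
    show ((1 : P) : G) * s * ((1 : P) : G)⁻¹ = s
    simp)
  mul_smul a b s := Subtype.ext (by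
    show ((a * b : P) : G) * s * ((a * b : P) : G)⁻¹ = (a : G) * ((b : G) * s * (b : G)⁻¹) * (a : G)⁻¹
    simp [mul_assoc])

theorem card_mod_eq_one {G : Type*} [Group G] [Finite G] {p : ℕ} [Fact p.Prime] {x : G}
    (hx : orderOf x = p) (hC : Subgroup.centralizer ({x} : Set G) = Subgroup.zpowers x)
    (S : Subgroup G) [hSn : S.Normal] (hS : (Nat.card S).Coprime p) : Nat.card S % p = 1 := by
  have hp : p.Prime := Fact.out
  letI := conjActOn (Subgroup.zpowers x) S
  have hP : IsPGroup p (Subgroup.zpowers x) :=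
    IsPGroup.of_card (n := 1) (by rw [Cfsg.Agent.Lib.Helper8.SelfCent.card_zpowers_eq hx, pow_one])
  have h1 := hP.card_modEq_card_fixedPoints ↥S
  have h2 : MulAction.fixedPoints ↥(Subgroup.zpowers x) ↥S = {1} := by
    rw [Set.eq_singleton_iff_unique_mem]
    constructor
    · intro y
      apply Subtype.ext
      show (y : G) * ((1 : S) : G) * (y : G)⁻¹ = ((1 : S) : G)
      simp
    · intro s hs
      have h3 := hs ⟨x, Subgroup.mem_zpowers x⟩
      have h4 : x * (s : G) * x⁻¹ = (s : G) := congrArg Subtype.val h3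
      have h5 : (s : G) ∈ Subgroup.centralizer ({x} : Set G) := by
        rw [Subgroup.mem_centralizer_singleton_iff]
        calc (s : G) * x = (x * (s : G) * x⁻¹) * x := by rw [h4]
          _ = x * (s : G) := by group
      rw [hC] at h5
      have h6 : (s : G) ∈ Subgroup.zpowers x ⊓ S := ⟨h5, s.2⟩
      rw [Cfsg.Agent.Lib.Helper8.SelfCent.inf_eq_bot_of_coprime hx S hS, Subgroup.mem_bot] at h6
      exact Subtype.ext h6
  rw [h2] at h1
  have h3 : Nat.card ({1} : Set ↥S) = 1 := by simp
  rw [h3] at h1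
  have h4 : Nat.card S % p = 1 % p := h1
  rw [h4]
  exact Nat.mod_eq_of_lt hp.one_lt

/-- Let the finite group G contain an element x of prime order p with C_G(x) = ⟨x⟩. Then: (a) every normal subgroup of order divisible by p contains the commutator subgroup; (b) every normal subgroup S of order prime to p has order dividing the number of subgroups of order p of G and congruent to 1 modulo p, and in G/S the image of x again has prime order p and commutes only with its own powers. -/
theorem result {G : Type*} [Group G] [Finite G] (p : ℕ) (hp : p.Prime) (x : G) (hx : orderOf x = p) (hC : Subgroup.centralizer ({x} : Set G) = Subgroup.zpowers x) (S : Subgroup G) [S.Normal] : (p ∣ Nat.card S → commutator G ≤ S) ∧ (¬ p ∣ Nat.card S → Nat.card S ∣ Nat.card {H : Subgroup G // Nat.card H = p} ∧ Nat.card S % p = 1 ∧ orderOf (QuotientGroup.mk x : G ⧸ S) = p ∧ Subgroup.centralizer ({(QuotientGroup.mk x : G ⧸ S)} : Set (G ⧸ S)) = Subgroup.zpowers (QuotientGroup.mk x : G ⧸ S)) := by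
  haveI : Fact p.Prime := ⟨hp⟩
  constructor
  · intro hd
    exact Cfsg.Agent.Lib.Helper8.SelfCent.commutator_le_of_zpowers_le hx hC S
      (Cfsg.Agent.Lib.Helper8.SelfCent.zpowers_le_of_dvd_card hx hC S hd)
  · intro hnd
    have hcop : (Nat.card S).Coprime p := by
      rw [Nat.coprime_comm]
      exact (Nat.Prime.coprime_iff_not_dvd hp).2 hnd
    have hdis := Cfsg.Agent.Lib.Helper8.SelfCent.inf_eq_bot_of_coprime hx S hcop
    have hxS : x ∉ S := by
      intro hxs
      have h1 : x ∈ Subgroup.zpowers x ⊓ S := ⟨Subgroup.mem_zpowers x, hxs⟩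
      rw [hdis, Subgroup.mem_bot] at h1
      exact Cfsg.Agent.Lib.Helper8.SelfCent.x_ne_one hp hx h1
    refine ⟨?_, card_mod_eq_one hx hC S hcop, ?_, ?_⟩
    · rw [Cfsg.Agent.Lib.Helper8.SelfCent.card_subgroups_eq_index hx hC]
      have h1 := Cfsg.Agent.Lib.Helper8.SelfCent.card_sup_of_inf_eq_bot
        (Subgroup.normalizer (Subgroup.zpowers x : Set G)) S
        (Cfsg.Agent.Lib.Helper8.SelfCent.inf_normalizer_eq_bot hx hC S hcop)
      have h2 := Subgroup.card_subgroup_dvd_card
        (Subgroup.normalizer (Subgroup.zpowers x : Set G) ⊔ S)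
      rw [h1, ← Subgroup.card_mul_index (Subgroup.normalizer (Subgroup.zpowers x : Set G))] at h2
      exact Nat.dvd_of_mul_dvd_mul_left Nat.card_pos h2
    · apply orderOf_eq_prime
      · rw [← QuotientGroup.mk_pow, ← hx, pow_orderOf_eq_one]
        rfl
      · intro h1
        rw [QuotientGroup.eq_one_iff] at h1
        exact hxS h1
    · ext q
      obtain ⟨g, rfl⟩ := QuotientGroup.mk_surjective q
      rw [Subgroup.mem_centralizer_singleton_iff]
      constructor
      · intro h1
        have h2 : g * x * g⁻¹ * x⁻¹ ∈ S := by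
          rw [← QuotientGroup.eq_one_iff]
          have h3 : ((g * x * g⁻¹ * x⁻¹ : G) : G ⧸ S)
              = ((g : G ⧸ S) * (x : G ⧸ S)) * (g : G ⧸ S)⁻¹ * (x : G ⧸ S)⁻¹ := by
            simp only [QuotientGroup.mk_mul, QuotientGroup.mk_inv]
          rw [h3, h1]
          group
        obtain ⟨k, hk, hks⟩ := Cfsg.Agent.Lib.Helper8.SelfCent.exists_commutator_eq hx hC S hcop _ h2
        have h4 : k⁻¹ * g ∈ Subgroup.centralizer ({x} : Set G) := by
          rw [Subgroup.mem_centralizer_singleton_iff]
          have h5 : g * x * g⁻¹ = k * x * k⁻¹ := mul_right_cancel hks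
          calc k⁻¹ * g * x = k⁻¹ * (g * x * g⁻¹) * g := by group
            _ = k⁻¹ * (k * x * k⁻¹) * g := by rw [h5]
            _ = x * (k⁻¹ * g) := by group
        rw [hC] at h4
        obtain ⟨i, hi⟩ := h4
        refine ⟨i, ?_⟩
        show (x : G ⧸ S) ^ i = (g : G ⧸ S)
        rw [← QuotientGroup.mk_zpow]
        have hi' : x ^ i = k⁻¹ * g := hi
        rw [hi', QuotientGroup.mk_mul, (QuotientGroup.eq_one_iff k⁻¹).2 (S.inv_mem hk), one_mul]
      · rintro ⟨i, hi⟩
        have hi' : (x : G ⧸ S) ^ i = (g : G ⧸ S) := hi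
        rw [← hi']
        exact ((Commute.refl (x : G ⧸ S)).zpow_left i).eq

end Cfsg.Agent.S4496
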