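import Cfsg.Statements.S4497
import Mathlib
import Cfsg.Agent.Lib.Helper8.SelfCent4

set_option autoImplicit false
open Cfsg

namespace Cfsg.Agent.S4497

/-- Let the finite group G contain an element x of prime order p with C_G(x) = ⟨x⟩, let t be the number of conjugacy classes of elements of order p, and let S* = O_{p′}(G) be the largest normal subgroup of order prime to p. Then S* ≤ G′; if t ≠ p − 1 the quotient G′/S* is simple (in particular non-trivial); if t = p − 1 then G′ = S*. -/
theorem result {G : Type*} [Group G] [Finite G] (p : ℕ) (hp : p.Prime) (x : G) (hx : orderOf x = p) (hC : Subgroup.centralizer ({x} : Set G) = Subgroup.zpowers x) (t : ℕ) (ht : Nat.card {C : ConjClasses G // ∃ g ∈ C.carrier, orderOf g = p} = t) : Cfsg.pPrimeCore p G ≤ commutator G ∧ (t ≠ p - 1 → ∀ h : ((Cfsg.pPrimeCore p G).subgroupOf (commutator G)).Normal, IsSimpleGroup (↥(commutator G) ⧸ (Cfsg.pPrimeCore p G).subgroupOf (commutator G))) ∧ (t = p - 1 → commutator G = Cfsg.pPrimeCore p G) := by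
  haveI : Fact p.Prime := ⟨hp⟩
  have hiff := Cfsg.Agent.Lib.Helper8.SelfCent.card_classes_eq_iff hx hC
  rw [ht] at hiff
  have hcopS := Cfsg.Agent.Lib.Helper1.pPrimeCore_card_coprime (G := G) p
  have hSD : Cfsg.pPrimeCore p G ≤ commutator G :=
    Cfsg.Agent.Lib.Helper8.SelfCent.le_commutator_of_coprime hx hC (Cfsg.pPrimeCore p G) hcopS
  refine ⟨hSD, ?_, ?_⟩
  · intro hne h
    have hNP : Subgroup.normalizer (Subgroup.zpowers x : Set G) ≠ Subgroup.zpowers x :=
      fun h => hne (hiff.2 h)
    have hPD := Cfsg.Agent.Lib.Helper8.SelfCent.zpowers_le_commutator hp hx hC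
      (Cfsg.Agent.Lib.Helper8.SelfCent.exists_mem_normalizer_not_mem hNP)
    have hxS : x ∉ Cfsg.pPrimeCore p G := by
      intro hxs
      have h1 : x ∈ Subgroup.zpowers x ⊓ Cfsg.pPrimeCore p G := ⟨Subgroup.mem_zpowers x, hxs⟩
      rw [Cfsg.Agent.Lib.Helper8.SelfCent.inf_eq_bot_of_coprime hx _ hcopS, Subgroup.mem_bot] at h1
      exact Cfsg.Agent.Lib.Helper8.SelfCent.x_ne_one hp hx h1
    haveI : Nontrivial (↥(commutator G) ⧸ (Cfsg.pPrimeCore p G).subgroupOf (commutator G)) := by
      refine ⟨⟨QuotientGroup.mk ⟨x, hPD (Subgroup.mem_zpowers x)⟩, 1, ?_⟩⟩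
      intro h1
      rw [QuotientGroup.eq_one_iff, Subgroup.mem_subgroupOf] at h1
      exact hxS h1
    refine ⟨fun H hH => ?_⟩
    set A := (Cfsg.pPrimeCore p G).subgroupOf (commutator G) with hA
    set K' := H.comap (QuotientGroup.mk' A) with hK'
    have hK'n : K'.Normal := Subgroup.Normal.comap hH _
    set K := K'.map (commutator G).subtype with hK
    have hKD : K ≤ commutator G := Subgroup.map_subtype_le K'
    have hKsub : K.subgroupOf (commutator G) = K' := by
      rw [← Subgroup.comap_subtype, hK]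
      exact Subgroup.comap_map_eq_self_of_injective (Subgroup.subtype_injective _) K'
    have hKn : (K.subgroupOf (commutator G)).Normal := by rw [hKsub]; exact hK'n
    rcases Cfsg.Agent.Lib.Helper8.SelfCent.le_or_eq_of_normal_in_commutator hx hC hNP K hKD hKn
      with hle | heq
    · left
      rw [Subgroup.eq_bot_iff_forall]
      intro q hq
      obtain ⟨d, rfl⟩ := QuotientGroup.mk'_surjective A q
      have hd : d ∈ K' := hq
      have hdK : (d : G) ∈ K := Subgroup.mem_map_of_mem _ hd
      have hdS := hle hdK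
      rw [QuotientGroup.mk'_apply, QuotientGroup.eq_one_iff, hA, Subgroup.mem_subgroupOf]
      exact hdS
    · right
      rw [Subgroup.eq_top_iff']
      intro q
      obtain ⟨d, rfl⟩ := QuotientGroup.mk'_surjective A q
      have hdK : (d : G) ∈ K := by rw [heq]; exact d.2
      obtain ⟨k, hk, hkd⟩ := Subgroup.mem_map.1 hdK
      have : k = d := Subtype.ext hkd
      rw [this] at hk
      exact hk
  · intro heq
    obtain ⟨K, hKn, hcop, hcard, hK⟩ := Cfsg.Agent.Lib.Helper8.SelfCent.exists_complement hx hC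
      (hiff.1 heq)
    apply le_antisymm _ hSD
    rw [hK]
    exact Cfsg.Agent.Lib.Helper1.le_pPrimeCore hKn hcop

end Cfsg.Agent.S4497
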