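import Cfsg.Statements.S4498
import Mathlib
import Cfsg.Agent.Lib.Helper6.BlkPQ
import Cfsg.Agent.Lib.Helper6.BrPrin

set_option autoImplicit false
open Cfsg

namespace Cfsg.Agent.S4498

open Cfsg.Agent.Lib.Helper6

/-- Let p and q be distinct primes dividing the order of the finite group G, and suppose G has no element of order p·q. Fix maximal ideals M_p over p and M_q over q of the algebraic integers. Then the principal p-block and the principal q-block of G have a non-principal irreducible character in common. -/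
theorem result {G : Type*} [Group G] [Finite G] (p q : ℕ) [Fact p.Prime] [Fact q.Prime] (hpq : p ≠ q) (hp : p ∣ Nat.card G) (hq : q ∣ Nat.card G) (hno : ∀ g : G, orderOf g ≠ p * q) (Mp Mq : Ideal Cfsg.AlgInt) (hMp : Cfsg.IsPModular p Mp) (hMq : Cfsg.IsPModular q Mq) : ∃ χ : Cfsg.IrrCharacter G, (χ : G → ℂ) ≠ (fun _ => 1) ∧ χ ∈ Cfsg.principalBlock Mp G ∧ χ ∈ Cfsg.principalBlock Mq G := by
  classical
  have : Fintype G := Fintype.ofFinite G
  have hpp : p.Prime := hMp.1
  have hqp : q.Prime := hMq.1
  obtain ⟨y, hy⟩ := exists_prime_orderOf_dvd_card' (G := G) p hp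
  obtain ⟨x, hx⟩ := exists_prime_orderOf_dvd_card' (G := G) q hq
  have horth := pq_orthogonality hpq hMp hMq hno (oneIrr G) (oneIrr G) y x
    (by rw [hy]) (by rw [hx])
  by_contra hcon
  push Not at hcon
  have hset : Cfsg.blockOf Mp ((oneIrr G : Cfsg.IrrCharacter G) : G → ℂ)
      ∩ Cfsg.blockOf Mq ((oneIrr G : Cfsg.IrrCharacter G) : G → ℂ) = {oneIrr G} := by
    ext χ
    rw [Set.mem_singleton_iff]
    constructor
    · rintro ⟨h1, h2⟩
      by_contra hne
      have hne' : (χ : G → ℂ) ≠ (fun _ => 1) := by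
        intro h
        apply hne
        apply Subtype.ext
        rw [h]
        rfl
      exact hcon χ hne' h1 h2
    · rintro rfl
      exact ⟨oneIrr_mem_principalBlock hMp, oneIrr_mem_principalBlock hMq⟩
  rw [hset, finsum_mem_singleton] at horth
  have h1 : ((oneIrr G : Cfsg.IrrCharacter G) : G → ℂ) y = 1 := rfl
  have h2 : ((oneIrr G : Cfsg.IrrCharacter G) : G → ℂ) x = 1 := rfl
  rw [h1, h2] at horth
  norm_num at horth

end Cfsg.Agent.S4498
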