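import Cfsg.Statements.S4499
import Mathlib
import Cfsg.Agent.Lib.Helper6.BlkHeightTilde
import Cfsg.Agent.S4733

set_option autoImplicit false
open Cfsg

namespace Cfsg.Agent.S4499

open Cfsg.Agent.Lib.Helper6

/-- Let G be a finite group whose order has p-part p^a (a ≥ 1), and fix a maximal ideal M of the algebraic integers containing p. If the degree of one irreducible character of a p-block B is divisible by p^(a−1), then the degree of every irreducible character in B is divisible by p^(a−1) (so B has defect at most 1). -/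
theorem result {G : Type*} [Group G] [Finite G] (p : ℕ) [Fact p.Prime] (M : Ideal Cfsg.AlgInt) (hM : Cfsg.IsPModular p M) (hpa : p ∣ Nat.card G) (B : Set (Cfsg.IrrCharacter G)) (hB : Cfsg.IsPBlock M B) (χ : Cfsg.IrrCharacter G) (hχ : χ ∈ B) (hdiv : p ^ ((Nat.card G).factorization p - 1) ∣ Cfsg.charDegree (χ : G → ℂ)) (ψ : Cfsg.IrrCharacter G) (hψ : ψ ∈ B) : p ^ ((Nat.card G).factorization p - 1) ∣ Cfsg.charDegree (ψ : G → ℂ) := by
  classical
  have : Fintype G := Fintype.ofFinite G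
  have : Fintype (Cfsg.IrrCharacter G) := Fintype.ofFinite _
  have hp : p.Prime := hM.1
  obtain ⟨χ₀, rfl⟩ := hB
  by_contra hnot
  -- the `p`-parts of the degrees
  obtain ⟨a, ha⟩ : ∃ a, a = (Nat.card G).factorization p := ⟨_, rfl⟩
  rw [← ha] at hdiv hnot
  have ha1 : 1 ≤ a := by
    rw [ha]
    exact (hp.dvd_iff_one_le_factorization Nat.card_pos.ne').mp hpa
  have hνχ : a - 1 ≤ (Cfsg.charDegree (χ : G → ℂ)).factorization p :=
    (hp.pow_dvd_iff_le_factorization (charDegree_ne_zero χ)).mp hdiv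
  have hνψ : (Cfsg.charDegree (ψ : G → ℂ)).factorization p < a - 1 := by
    by_contra h
    push Not at h
    exact hnot ((hp.pow_dvd_iff_le_factorization (charDegree_ne_zero ψ)).mpr h)
  obtain ⟨ξ₀, hξ₀B, hξ₀min⟩ := exists_min_degree (p := p) (Cfsg.blockOf M (χ₀ : G → ℂ)) χ hχ
  have hνξ : (Cfsg.charDegree (ξ₀ : G → ℂ)).factorization p + 1
      ≤ (Cfsg.charDegree (χ : G → ℂ)).factorization p := by
    have := hξ₀min ψ hψ
    omega
  have hBeq : Cfsg.blockOf M (χ₀ : G → ℂ) = Cfsg.blockOf M (χ : G → ℂ) :=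
    blockOf_eq_of_mem hM hχ
  obtain ⟨c, hc, hci, hc0⟩ := tildeFun_int_coeff hM χ
  have hχcf := IsIrrCharacter.isClassFunction χ.2
  have hχS : ∀ g, Cfsg.MemLocalRing M ((χ : G → ℂ) g) := fun g =>
    memLocalRing_of_isIntegral hM (IsCharacter.isIntegral_apply (IsIrrCharacter.isCharacter χ.2) g)
  have hdeg : ∀ ψ : Cfsg.IrrCharacter G, (ψ : G → ℂ) 1 = (Cfsg.charDegree (ψ : G → ℂ) : ℂ) :=
    fun ψ => IsCharacter.apply_one_eq_charDegree (IsIrrCharacter.isCharacter ψ.2)
  -- step 1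
  have hξ₀cf := IsIrrCharacter.isClassFunction ξ₀.2
  have hξ₀S : ∀ g, Cfsg.MemLocalRing M ((ξ₀ : G → ℂ) g) := fun g =>
    memLocalRing_of_isIntegral hM
      (IsCharacter.isIntegral_apply (IsIrrCharacter.isCharacter ξ₀.2) g)
  have h2 := classInner_tildeFun_div_memLocalRing hM hξ₀cf hξ₀S χ
  rw [classInner_tildeFun_symm, hci ξ₀, map_intCast, hdeg χ] at h2
  have h3 := pow_factorization_dvd_of_memLocalRing_div hM (c ξ₀) _ (charDegree_ne_zero χ) h2
  have h4 : Cfsg.MemLocalIdeal M ((c ξ₀ : ℂ) / (Cfsg.charDegree (ξ₀ : G → ℂ) : ℂ)) :=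
    memLocalIdeal_div_of_pow_succ_dvd hM _ _ (charDegree_ne_zero ξ₀)
      ((pow_dvd_pow (p : ℤ) hνξ).trans h3)
  -- step 2
  have hsb : Cfsg.SameBlock M (χ : G → ℂ) (ξ₀ : G → ℂ) := by
    rw [hBeq] at hξ₀B
    exact hξ₀B
  have h5 := classInner_tildeFun_div_sub hM hχcf hχS χ ξ₀ hsb
  rw [hci χ, hci ξ₀, hdeg χ, hdeg ξ₀] at h5
  have h6 := MemLocalIdeal.add hM h5 h4
  rw [sub_add_cancel] at h6
  have h7 := pow_factorization_succ_dvd_of_memLocalIdeal_div hM (c χ) _ (charDegree_ne_zero χ) h6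
  have h8 : (p : ℤ) ^ a ∣ c χ := (pow_dvd_pow (p : ℤ) (by omega)).trans h7
  obtain ⟨k, hk⟩ := h8
  -- step 3
  have hG : (Nat.card G : ℂ) ≠ 0 := card_ne_zero_complex G
  have hGr : (0 : ℝ) < (Nat.card G : ℝ) := by exact_mod_cast Nat.card_pos
  have hcval : (c χ : ℂ) = ((p ^ a : ℕ) : ℂ) * (((∑ x ∈ Finset.univ.filter
      (fun x : G => ¬ p ∣ orderOf x), Complex.normSq ((χ : G → ℂ) x) : ℝ) : ℂ)
      / (Nat.card G : ℂ)) := by
    rw [← hci χ]
    unfold Cfsg.classInner
    rw [tildeFun_eq, ← ha, Finset.sum_filter]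
    have e : ((p ^ a : ℕ) : ℂ) * (((∑ x : G, (if ¬ p ∣ orderOf x then
          Complex.normSq ((χ : G → ℂ) x) else 0) : ℝ) : ℂ) / (Nat.card G : ℂ))
        = (Nat.card G : ℂ)⁻¹ * ∑ x : G, ((p ^ a : ℕ) : ℂ) * (((if ¬ p ∣ orderOf x then
          Complex.normSq ((χ : G → ℂ) x) else 0 : ℝ)) : ℂ) := by
      rw [← Finset.mul_sum]
      push_cast
      field_simp
    rw [e]
    congr 1
    apply Finset.sum_congr rfl
    intro x _
    beta_reduce
    by_cases hx : p ∣ orderOf x
    · rw [if_pos hx, if_neg (not_not.mpr hx)]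
      simp
    · rw [if_neg hx, if_pos hx, mul_assoc, Complex.mul_conj]
  have hsum : ∑ x ∈ Finset.univ.filter (fun x : G => ¬ p ∣ orderOf x),
        Complex.normSq ((χ : G → ℂ) x)
      + ∑ x ∈ Finset.univ.filter (fun x : G => ¬ ¬ p ∣ orderOf x),
        Complex.normSq ((χ : G → ℂ) x) = (Nat.card G : ℝ) := by
    rw [Finset.sum_filter_add_sum_filter_not]
    have h9 := classInner_irrCharacter χ χ
    rw [if_pos rfl] at h9
    unfold Cfsg.classInner at h9
    simp_rw [Complex.mul_conj] at h9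
    have h10 : ((∑ x : G, Complex.normSq ((χ : G → ℂ) x) : ℝ) : ℂ) = (Nat.card G : ℂ) := by
      push_cast
      rw [← mul_one (Nat.card G : ℂ), ← h9, ← mul_assoc, mul_inv_cancel₀ hG, one_mul]
    exact_mod_cast h10
  obtain ⟨R, hR⟩ : ∃ R : ℝ, R = ∑ x ∈ Finset.univ.filter (fun x : G => ¬ p ∣ orderOf x),
        Complex.normSq ((χ : G → ℂ) x) := ⟨_, rfl⟩
  obtain ⟨T, hT⟩ : ∃ T : ℝ, T = ∑ x ∈ Finset.univ.filter (fun x : G => ¬ ¬ p ∣ orderOf x),
        Complex.normSq ((χ : G → ℂ) x) := ⟨_, rfl⟩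
  rw [← hR, ← hT] at hsum
  rw [← hR] at hcval
  have hT0 : 0 ≤ T := by
    rw [hT]; exact Finset.sum_nonneg (fun x _ => Complex.normSq_nonneg _)
  have hRpos : 0 < R := by
    rw [hR]
    apply Finset.sum_pos'
    · intro x _; exact Complex.normSq_nonneg _
    · refine ⟨1, ?_, ?_⟩
      · simp only [Finset.mem_filter, Finset.mem_univ, true_and, orderOf_one]
        exact hp.not_dvd_one
      · rw [Complex.normSq_pos]
        exact IsIrrCharacter.apply_one_ne_zero χ.2
  have hkR : (k : ℝ) = R / (Nat.card G : ℝ) := by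
    have hpa0 : ((p ^ a : ℕ) : ℂ) ≠ 0 := by exact_mod_cast (pow_pos hp.pos a).ne'
    rw [hk] at hcval
    push_cast at hcval
    have h11 : (k : ℂ) = (R : ℂ) / (Nat.card G : ℂ) := by
      have hpa0' : (p : ℂ) ^ a ≠ 0 := by exact_mod_cast (pow_pos hp.pos a).ne'
      exact mul_left_cancel₀ hpa0' hcval
    exact_mod_cast h11
  have hk1 : k = 1 := by
    have hkpos : (0 : ℝ) < k := by rw [hkR]; positivity
    have hkle : (k : ℝ) ≤ 1 := by
      rw [hkR, div_le_one hGr]
      linarith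
    have h12 : 0 < k := by exact_mod_cast hkpos
    have h13 : k ≤ 1 := by exact_mod_cast hkle
    omega
  have hT00 : T = 0 := by
    rw [hk1] at hkR
    have : R = (Nat.card G : ℝ) := by
      have := hkR.symm
      rw [div_eq_iff hGr.ne'] at this
      simpa using this
    linarith
  have hvan : ∀ y : G, p ∣ orderOf y → (χ : G → ℂ) y = 0 := by
    intro y hy
    rw [hT] at hT00
    have h14 := (Finset.sum_eq_zero_iff_of_nonneg (fun x _ => Complex.normSq_nonneg _)).mp hT00 y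
      (by simp only [Finset.mem_filter, Finset.mem_univ, true_and, not_not]; exact hy)
    exact Complex.normSq_eq_zero.mp h14
  have h15 := Cfsg.Agent.S4733.factorization_le_of_vanish hp χ hvan
  -- so `χ` has defect zero and is alone in its block
  have hdvd : Cfsg.charDegree (χ : G → ℂ) ∣ Nat.card G := IsIrrCharacter.charDegree_dvd_card χ.2
  have hG0 : Nat.card G ≠ 0 := Nat.card_pos.ne'
  have hq : ¬ p ∣ Nat.card G / Cfsg.charDegree (χ : G → ℂ) := by
    intro hq
    have hq0 : Nat.card G / Cfsg.charDegree (χ : G → ℂ) ≠ 0 := by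
      intro h0
      have := Nat.mul_div_cancel' hdvd
      rw [h0, mul_zero] at this
      exact hG0 this.symm
    have h16 := hp.factorization_pos_of_dvd hq0 hq
    rw [Nat.factorization_div hdvd] at h16
    simp only [Finsupp.coe_tsub, Pi.sub_apply] at h16
    omega
  have hB1 := (Cfsg.Agent.S0914.result p M hM χ).mp hq
  rw [hBeq, hB1] at hψ
  rw [Set.mem_singleton_iff] at hψ
  rw [hψ] at hνψ
  omega

end Cfsg.Agent.S4499
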