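import Cfsg.Statements.S4501
import Cfsg.Agent.Lib.Helper8.Sc5
import Cfsg.Agent.Lib.Helper8.Sc6
import Cfsg.Agent.Lib.Helper6.ScB
import Cfsg.Agent.Lib.Helper6.ScD
import Cfsg.Agent.Lib.Helper7.BqG
import Cfsg.Agent.Lib.Helper9.LgS

set_option autoImplicit false
open Cfsg

namespace Cfsg.Agent.S4501

open Cfsg.Agent.Lib.Helper8

/-- Let G be a non-abelian finite simple group and p, q distinct primes. If the order of G is 4·p^a·q^b with a ≤ 2, then G is isomorphic to the alternating group of degree 5. If the order of G is 3·p^a·q^b with a ≤ 2, then G is isomorphic to the alternating group of degree 5 or to PSL(2,7). -/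
theorem result {G : Type*} [Group G] [Finite G] [IsSimpleGroup G] (hna : ∃ x y : G, x * y ≠ y * x) (p q a b : ℕ) (hp : p.Prime) (hq : q.Prime) (hpq : p ≠ q) (ha : a ≤ 2) : (Nat.card G = 4 * p ^ a * q ^ b → Nonempty (G ≃* alternatingGroup (Fin 5))) ∧ (Nat.card G = 3 * p ^ a * q ^ b → Nonempty (G ≃* alternatingGroup (Fin 5)) ∨ Nonempty (G ≃* Matrix.ProjectiveSpecialLinearGroup (Fin 2) (ZMod 7))) := by
  have H4B1 : ∀ p b : ℕ, p.Prime → 5 ≤ p → Nat.card G = 4 * p * 3 ^ b → Nat.card G = 60 := by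
    intro p b hp hp5 hG
    by_cases h7 : 7 ≤ p
    · exact (Sc.case_4B1_big hna p b hp h7 hG).elim
    · have hp5' : p = 5 := by
        by_contra h5
        have h6 : p = 6 := by omega
        subst h6
        norm_num at hp
      subst hp5'
      have hb := Cfsg.Agent.Lib.Helper6.ScD.case_4B1_five hna b (hG.trans (by ring))
      subst hb
      rw [hG]; norm_num
  have H4B2 : ∀ p b : ℕ, p.Prime → 5 ≤ p → Nat.card G = 4 * p ^ 2 * 3 ^ b → False := by
    intro p b hp hp5 hG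
    obtain ⟨χ, hχ, h4, hfaith, hvan⟩ := Sc.exists_chi4 hna p 3 2 b hp Nat.prime_three
      (by omega) (by norm_num) (by omega) le_rfl hG
    exact Cfsg.Agent.Lib.Helper9.Lg.case_4B2_of_no_invol hna p b hp hp5 hG hχ h4 hfaith
      (Cfsg.Agent.Lib.Helper7.Bq.no_invol_commute hna p b hp hp5 hG hχ h4 hfaith hvan)
  have H3B2 : ∀ p b : ℕ, p.Prime → 5 ≤ p → Nat.card G = 3 * p ^ 2 * 2 ^ b → False :=
    fun p b hp hp5 hG => Cfsg.Agent.Lib.Helper6.ScB.case_3B2 hna p b hp hp5 hG
  refine ⟨fun hG => ?_, fun hG => ?_⟩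
  · exact Sc.iso_A5 (Sc.part_one hna H4B1 H4B2 p q a b hp hq hpq ha hG)
  · exact Sc.part_two hna H3B2 p q a b hp hq hpq ha hG

end Cfsg.Agent.S4501
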