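import Cfsg.Statements.S4505
import Mathlib
import Cfsg.Agent.Lib.Helper6.BlkDefectClasses
import Cfsg.Agent.Lib.Helper6.BlkRigid
import Cfsg.Agent.Lib.Helper6.BlkCover3

set_option autoImplicit false
open Cfsg

namespace Cfsg.Agent.S4505

open Cfsg.Agent.Lib.Helper6

/-- Let G be a finite group, p a prime and M a maximal ideal of the algebraic integers containing p. For every σ, the number of p-blocks of defect exactly σ is at most the number of conjugacy classes of p-regular elements whose centralizer has order divisible by p^σ but not by p^(σ+1). -/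
theorem result {G : Type*} [Group G] [Finite G] (p : ℕ) [Fact p.Prime] (M : Ideal Cfsg.AlgInt) (hM : Cfsg.IsPModular p M) (σ : ℕ) : Nat.card {B : Set (Cfsg.IrrCharacter G) // Cfsg.IsPBlock M B ∧ Cfsg.blockDefect p B = σ} ≤ Nat.card {C : ConjClasses G // ∃ g : G, ConjClasses.mk g = C ∧ ¬ p ∣ orderOf g ∧ (Nat.card (Subgroup.centralizer ({g} : Set G))).factorization p = σ} := by
  classical
  have : Fintype G := Fintype.ofFinite G
  have : Fintype (ConjClasses G) := Fintype.ofFinite _
  have : Finite (Cfsg.IrrCharacter G) := inferInstance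
  have : Fintype {B : Set (Cfsg.IrrCharacter G) // Cfsg.IsPBlock M B ∧ Cfsg.blockDefect p B = σ} :=
    Fintype.ofFinite _
  have : Fintype {C : ConjClasses G // ∃ g : G, ConjClasses.mk g = C ∧ ¬ p ∣ orderOf g ∧
      (Nat.card (Subgroup.centralizer ({g} : Set G))).factorization p = σ} := Fintype.ofFinite _
  rw [Nat.card_eq_fintype_card, Nat.card_eq_fintype_card]
  -- choose representatives
  have hch : ∀ B : {B : Set (Cfsg.IrrCharacter G) // Cfsg.IsPBlock M B ∧ Cfsg.blockDefect p B = σ},
      ∃ χ : Cfsg.IrrCharacter G, B.1 = Cfsg.blockOf M (χ : G → ℂ) := fun B => B.2.1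
  choose rep hrep using hch
  have hdef : ∀ B : {B : Set (Cfsg.IrrCharacter G) // Cfsg.IsPBlock M B ∧ Cfsg.blockDefect p B = σ},
      Cfsg.blockDefect p (Cfsg.blockOf M (rep B : G → ℂ)) = σ := by
    intro B
    rw [← hrep B]
    exact B.2.2
  have hωS : ∀ (θ : Cfsg.IrrCharacter G) (x : G),
      Cfsg.MemLocalRing M (Cfsg.centralChar (θ : G → ℂ) x) :=
    fun θ x => memLocalRing_of_isIntegral hM (IsIrrCharacter.isIntegral_centralChar' θ.2 x)
  let A : Matrix {B : Set (Cfsg.IrrCharacter G) // Cfsg.IsPBlock M B ∧ Cfsg.blockDefect p B = σ}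
      {C : ConjClasses G // ∃ g : G, ConjClasses.mk g = C ∧ ¬ p ∣ orderOf g ∧
      (Nat.card (Subgroup.centralizer ({g} : Set G))).factorization p = σ} ℂ :=
    fun B K => Cfsg.blockCoeff (Cfsg.blockOf M (rep B : G → ℂ)) (Quotient.out K.1)
  let Ω : Matrix {C : ConjClasses G // ∃ g : G, ConjClasses.mk g = C ∧ ¬ p ∣ orderOf g ∧
      (Nat.card (Subgroup.centralizer ({g} : Set G))).factorization p = σ}
      {B : Set (Cfsg.IrrCharacter G) // Cfsg.IsPBlock M B ∧ Cfsg.blockDefect p B = σ} ℂ :=
    fun K B => Cfsg.centralChar (rep B : G → ℂ) (Quotient.out K.1)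
  -- the key congruence
  have hkey : ∀ B B' : {B : Set (Cfsg.IrrCharacter G) // Cfsg.IsPBlock M B ∧ Cfsg.blockDefect p B = σ},
      Cfsg.MemLocalRing M ((A * Ω) B B') ∧
      Cfsg.MemLocalIdeal M ((A * Ω) B B' - (1 : Matrix _ _ ℂ) B B') := by
    intro B B'
    have hS : Cfsg.MemLocalRing M ((A * Ω) B B') := by
      rw [Matrix.mul_apply]
      apply MemLocalRing.sum hM
      intro K _
      exact MemLocalRing.mul hM (blockCoeff_memLocalRing hM (rep B) _) (hωS _ _)
    refine ⟨hS, ?_⟩
    have h1 : cOmega (rep B' : G → ℂ) (blockMat (Cfsg.blockOf M (rep B : G → ℂ)))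
        = (1 : Matrix _ _ ℂ) B B' := by
      rw [cOmega_blockMat]
      by_cases hBB : B = B'
      · subst hBB
        have hm : rep B ∈ Cfsg.blockOf M (rep B : G → ℂ) := sameBlock_refl hM _
        rw [if_pos hm, Matrix.one_apply_eq]
      · rw [Matrix.one_apply_ne hBB, if_neg]
        intro hmem
        apply hBB
        apply Subtype.ext
        rw [hrep B, hrep B']
        exact blockOf_eq_of_mem hM hmem
    rw [← h1, cOmega_eq_sum_classes (IsIrrCharacter.isClassFunction (rep B').2)
      (blockMat_mem_centerAlg _)]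
    rw [Matrix.mul_apply]
    have hsplit : ∑ c : ConjClasses G, blockMat (Cfsg.blockOf M (rep B : G → ℂ)) (Quotient.out c) 1
          * Cfsg.centralChar (rep B' : G → ℂ) (Quotient.out c)
        = ∑ K : {C : ConjClasses G // ∃ g : G, ConjClasses.mk g = C ∧ ¬ p ∣ orderOf g ∧
            (Nat.card (Subgroup.centralizer ({g} : Set G))).factorization p = σ}, A B K * Ω K B'
          + ∑ c ∈ Finset.univ.filter (fun C : ConjClasses G => ¬ ∃ g : G, ConjClasses.mk g = C ∧
              ¬ p ∣ orderOf g ∧
              (Nat.card (Subgroup.centralizer ({g} : Set G))).factorization p = σ),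
            blockMat (Cfsg.blockOf M (rep B : G → ℂ)) (Quotient.out c) 1
              * Cfsg.centralChar (rep B' : G → ℂ) (Quotient.out c) := by
      rw [← Finset.sum_filter_add_sum_filter_not Finset.univ
        (fun C : ConjClasses G => ∃ g : G, ConjClasses.mk g = C ∧ ¬ p ∣ orderOf g ∧
          (Nat.card (Subgroup.centralizer ({g} : Set G))).factorization p = σ)]
      congr 1
      rw [← Finset.sum_subtype_eq_sum_filter]
      rw [Finset.subtype_univ]
      apply Finset.sum_congr rfl
      intro K _
      simp only [A, Ω]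
      congr 1
      unfold blockMat
      rw [regMat_apply, inv_one, mul_one]
    rw [hsplit, sub_add_cancel_left]
    apply MemLocalIdeal.neg
    apply MemLocalIdeal.sum hM
    intro c hc
    rw [Finset.mem_filter] at hc
    have hE : blockMat (Cfsg.blockOf M (rep B : G → ℂ)) (Quotient.out c) 1
        = Cfsg.blockCoeff (Cfsg.blockOf M (rep B : G → ℂ)) (Quotient.out c) := by
      unfold blockMat
      rw [regMat_apply, inv_one, mul_one]
    rw [hE]
    have hcK := hc.2
    obtain ⟨g, hg⟩ : ∃ g : G, g = Quotient.out c := ⟨_, rfl⟩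
    rw [← hg]
    have hgc : ConjClasses.mk g = c := by
      rw [hg]
      exact Quotient.out_eq c
    by_cases ha : Cfsg.MemLocalIdeal M (Cfsg.blockCoeff (Cfsg.blockOf M (rep B : G → ℂ)) g)
    · exact MemLocalIdeal.mul_right hM ha (hωS _ _)
    · apply MemLocalIdeal.mul_left hM (blockCoeff_memLocalRing hM (rep B) g)
      have hreg := pRegular_of_blockCoeff hM (rep B) g ha
      have hle := le_blockDefect_of_blockCoeff hM (rep B) g ha
      rw [hdef B] at hle
      have hne : (Nat.card (Subgroup.centralizer ({g} : Set G))).factorization p ≠ σ := by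
        intro heq
        exact hcK ⟨g, hgc, hreg, heq⟩
      by_contra hcon
      have := blockDefect_le_of_centralChar hM (rep B') g hcon
      rw [hdef B'] at this
      omega
  have hdet : (A * Ω).det ≠ 0 :=
    det_ne_zero_of_congr_one hM (A * Ω) (fun i j => (hkey i j).1) (fun i j => (hkey i j).2)
  have hunit : IsUnit (A * Ω) := by
    rw [Matrix.isUnit_iff_isUnit_det]
    exact isUnit_iff_ne_zero.mpr hdet
  have hr := Matrix.rank_of_isUnit (A * Ω) hunit
  have h2 := Matrix.rank_mul_le_left A Ω
  have h3 := Matrix.rank_le_card_width A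
  omega


end Cfsg.Agent.S4505
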