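import Cfsg.Statements.S4507
import Mathlib
import Cfsg.Agent.Lib.Helper6.PB15

set_option autoImplicit false
open Cfsg

namespace Cfsg.Agent.S4507

open Cfsg.Agent.Lib.Helper6

/-- Let G be a finite group whose order g is divisible by the prime p exactly once, g′ = g/p, and fix a maximal ideal M of the algebraic integers containing p. Call two irreducible characters p-conjugate when a field automorphism of ℂ fixing the g′-th roots of unity carries one to the other. Let B be a p-block of positive defect (its defect group is a Sylow p-subgroup). Then B contains a subset Y (the exceptional family) such that: Y is a full p-conjugacy class (its members are pairwise p-conjugate and every p-conjugate of a member of Y lies in Y); every member of B outside Y is p-conjugate only to itself; the size t of Y divides p − 1 and B has exactly t + (p − 1)/t members; and there are signs δ_χ = ±1 (χ ∈ B) such that for every p-regular element x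 and every θ ∈ Y, Σ_{χ ∈ B ∖ Y} δ_χ χ(x) + δ_θ θ(x) = 0. -/
theorem result {G : Type*} [Group G] [Finite G] (p : ℕ) [Fact p.Prime] (M : Ideal Cfsg.AlgInt) (hM : Cfsg.IsPModular p M) (hdiv : p ∣ Nat.card G) (hsq : ¬ p ^ 2 ∣ Nat.card G) (B : Set (Cfsg.IrrCharacter G)) (hB : Cfsg.IsPBlock M B) (hd : 0 < Cfsg.blockDefect p B) : ∃ Y : Set (Cfsg.IrrCharacter G), Y ⊆ B ∧ Y.Nonempty ∧ (∀ θ ∈ Y, ∀ ψ : Cfsg.IrrCharacter G, (∃ σ : ℂ ≃+* ℂ, σ (Complex.exp (2 * Real.pi * Complex.I / ((Nat.card G / p ^ (Nat.card G).factorization p) : ℕ))) = Complex.exp (2 * Real.pi * Complex.I / ((Nat.card G / p ^ (Nat.card G).factorization p) : ℕ)) ∧ (ψ : G → ℂ) = fun g => σ ((θ : G → ℂ) g)) ↔ ψ ∈ Y) ∧ (∀ χ ∈ B, χ ∉ Y → ∀ ψ : Cfsg.IrrCharacter G, (∃ σ : ℂ ≃+* ℂ, σ (Complex.exp (2 * Real.pi * Complex.I / ((Nat.card G / p ^ (Nat.card G).factorization p) : ℕ))) = Complex.exp (2 * Real.pi * Complex.I / ((Nat.card G / p ^ (Nat.card G).factorization p) : ℕ)) ∧ (ψ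 : G → ℂ) = fun g => σ ((χ : G → ℂ) g)) → ψ = χ) ∧ Nat.card Y ∣ p - 1 ∧ Nat.card B = Nat.card Y + (p - 1) / Nat.card Y ∧ ∃ δ : Cfsg.IrrCharacter G → ℤ, (∀ χ ∈ B, δ χ = 1 ∨ δ χ = -1) ∧ ∀ x : G, ¬ p ∣ orderOf x → ∀ θ ∈ Y, (∑ᶠ χ ∈ B \ Y, (δ χ : ℂ) * (χ : G → ℂ) x) + (δ θ : ℂ) * (θ : G → ℂ) x = 0 := by
  classical
  have : Fintype G := Fintype.ofFinite G
  have hpp : p.Prime := Fact.out
  have hn0 : Nat.card G ≠ 0 := Nat.card_pos.ne'
  have hfac : (Nat.card G).factorization p = 1 := by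
    have h1 : 1 ≤ (Nat.card G).factorization p :=
      (hpp.dvd_iff_one_le_factorization hn0).mp hdiv
    have h2 : ¬ 2 ≤ (Nat.card G).factorization p := by
      intro h
      exact hsq ((hpp.pow_dvd_iff_le_factorization hn0).mpr h)
    omega
  obtain ⟨P⟩ : Nonempty (Sylow p G) := inferInstance
  have hP : Nat.card P = p := by
    rw [Sylow.card_eq_multiplicity, hfac, pow_one]
  have : Fintype ↥(Subgroup.centralizer ((P : Subgroup G) : Set G)) := Fintype.ofFinite _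
  have : Fintype ↥(Subgroup.normalizer ((P : Subgroup G) : Set G)) := Fintype.ofFinite _
  have : Fintype (Cfsg.IrrCharacter G) := Fintype.ofFinite _
  -- a character of degree prime to `p` in `B`
  obtain ⟨χ₁, hχ₁B, hχ₁⟩ : ∃ χ₁ ∈ B, ¬ p ∣ Cfsg.charDegree (χ₁ : G → ℂ) := by
    obtain ⟨χ₀, rfl⟩ := hB
    have hne : ((fun χ : Cfsg.IrrCharacter G => (Cfsg.charDegree (χ : G → ℂ)).factorization p) ''
        Cfsg.blockOf M (χ₀ : G → ℂ)).Nonempty := ⟨_, χ₀, sameBlock_refl hM _, rfl⟩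
    unfold Cfsg.blockDefect at hd
    rw [hfac] at hd
    have h0 : sInf ((fun χ : Cfsg.IrrCharacter G =>
        (Cfsg.charDegree (χ : G → ℂ)).factorization p) '' Cfsg.blockOf M (χ₀ : G → ℂ)) = 0 := by
      omega
    have hmem := Nat.sInf_mem hne
    rw [h0] at hmem
    obtain ⟨χ₁, hχ₁B, hχ₁⟩ := hmem
    refine ⟨χ₁, hχ₁B, ?_⟩
    intro hdvd
    have := (hpp.dvd_iff_one_le_factorization (PB.charDegree_ne_zero χ₁)).mp hdvd
    simp only at hχ₁
    omega
  have hBP : Cfsg.IsDefectGroup p M B (P : Subgroup G) := by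
    obtain ⟨χ₀, rfl⟩ := hB
    rw [blockOf_eq_of_mem hM hχ₁B]
    exact PB.isDefectGroup_blockOf P hP hM χ₁ hχ₁
  obtain ⟨L, hind⟩ := PB.exists_loc P hP hM hB hBP
  obtain ⟨K⟩ := L.exists_str hP hM hB hBP hind
  have hJe := L.card_J_mul_e hP hM
  have hJpos : 0 < Nat.card L.J := by
    have := L.nonempty_J hP hM
    exact Nat.card_pos
  have hg'dvd : Nat.card G / p ^ (Nat.card G).factorization p ∣ Nat.card G :=
    Nat.ordCompl_dvd (Nat.card G) p
  have hg'0 : Nat.card G / p ^ (Nat.card G).factorization p ≠ 0 :=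
    (Nat.ordCompl_pos p hn0).ne'
  -- from an automorphism to a power map
  have key : ∀ σ : ℂ ≃+* ℂ,
      σ (Complex.exp (2 * Real.pi * Complex.I /
        ((Nat.card G / p ^ (Nat.card G).factorization p) : ℕ)))
        = Complex.exp (2 * Real.pi * Complex.I /
          ((Nat.card G / p ^ (Nat.card G).factorization p) : ℕ)) →
      ∃ (k : ℕ) (hk : k.Coprime (Nat.card G)), (∀ x : G, ¬ p ∣ orderOf x → x ^ k = x) ∧
        ∀ (χ ψ : Cfsg.IrrCharacter G), ((ψ : G → ℂ) = fun g => σ ((χ : G → ℂ) g)) →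
          ψ = powIrr k hk χ := by
    intro σ hfix
    obtain ⟨k, hk, hσk⟩ := PConj2.exists_pow_of_ringEquiv (Nat.card G) hn0 σ
    have hk1 := PConj2.modEq_one_of_fix hg'dvd hg'0 σ hσk hfix
    refine ⟨k, hk, PB.reg_of_modEq hk1, ?_⟩
    intro χ ψ hψ
    apply Subtype.ext
    rw [hψ]
    funext g
    rw [powIrr_apply]
    exact PConj2.ringEquiv_character_pow hn0 σ hσk (IsIrrCharacter.isCharacter χ.2) g
      pow_card_eq_one'
  refine ⟨K.Y, K.Y_subset, ?_, ?_, ?_, ?_, ?_, K.δ, fun χ _ => K.sgn χ, ?_⟩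
  · obtain ⟨j₀⟩ := L.nonempty_J hP hM
    exact ⟨K.Λ j₀, j₀, rfl⟩
  · rintro θ ⟨j, rfl⟩ ψ
    constructor
    · rintro ⟨σ, hfix, hψ⟩
      obtain ⟨k, hk, hreg, hpow⟩ := key σ hfix
      rw [hpow (K.Λ j) ψ hψ]
      exact K.powIrr_mem_Y hP hM hB hBP hind j hk hreg
    · rintro ⟨i, rfl⟩
      obtain ⟨k, hk, hk1, hpow⟩ := K.exists_powIrr_eq hP hM hB hBP hind i j
      have : NeZero (Nat.card G) := ⟨hn0⟩
      obtain ⟨σ, hσ⟩ := CAut.exists_ringEquiv_pow (Nat.card G) k hk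
      refine ⟨σ, PConj2.fix_of_modEq_one hg'dvd hg'0 σ hσ hk1, ?_⟩
      funext g
      rw [PConj2.ringEquiv_character_pow hn0 σ hσ (IsIrrCharacter.isCharacter (K.Λ j).2) g
        pow_card_eq_one', ← powIrr_apply k hk, hpow]
  · intro χ hχB hχY ψ
    rintro ⟨σ, hfix, hψ⟩
    obtain ⟨k, hk, hreg, hpow⟩ := key σ hfix
    rw [hpow χ ψ hψ]
    exact K.powIrr_S hP hM hB hBP hind ⟨hχB, hχY⟩ hk hreg
  · rw [K.card_Y]
    exact Dvd.intro _ hJe
  · rw [K.card_Y, PB.card_eq P hP hM L hB hBP hind, add_comm]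
    congr 1
    rw [← hJe]
    exact (Nat.mul_div_cancel_left _ hJpos).symm
  · intro x hx
    rintro θ ⟨j, rfl⟩
    have hset : B \ K.Y = K.S := by
      ext χ
      exact Iff.rfl
    rw [hset, finsum_mem_eq_sum_filter_lib]
    exact K.relation hP hM hind j x hx

end Cfsg.Agent.S4507
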