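import Cfsg.Statements.S4508
import Mathlib
import Cfsg.Agent.Lib.Helper8.SelfCent10
import Cfsg.Agent.S4495
import Cfsg.Agent.Lib.Helper3.DetChar

set_option autoImplicit false
open Cfsg

namespace Cfsg.Agent.S4508

/-- Let the finite group G contain an element x of prime order p with C_G(x) = ⟨x⟩, and let t be the number of conjugacy classes of elements of order p. If G has an irreducible character of degree p − 1, then t is even or the commutator subgroup has even index. -/
theorem result {G : Type*} [Group G] [Finite G] (p : ℕ) (hp : p.Prime) (x : G) (hx : orderOf x = p) (hC : Subgroup.centralizer ({x} : Set G) = Subgroup.zpowers x) (t : ℕ) (ht : Nat.card {C : ConjClasses G // ∃ g ∈ C.carrier, orderOf g = p} = t) (χ : Cfsg.IrrCharacter G) (hχ : Cfsg.charDegree (χ : G → ℂ) + 1 = p) : Even t ∨ Even (commutator G).index := by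
  classical
  haveI : Fact p.Prime := ⟨hp⟩
  by_cases htev : Even t
  · exact Or.inl htev
  right
  have htodd : Odd t := Nat.not_even_iff_odd.mp htev
  obtain ⟨e, he_def⟩ : ∃ e, e = (Subgroup.zpowers x).relIndex
      (Subgroup.normalizer (Subgroup.zpowers x : Set G)) := ⟨_, rfl⟩
  have het : e * t = p - 1 := by
    rw [he_def, ← ht]
    exact Cfsg.Agent.Lib.Helper8.SelfCent.relIndex_mul_card_classes hx hC
  by_cases hp2 : p = 2
  · have ht1 : t = p - 1 := by
      subst hp2
      have h1 : e * t = 1 := het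
      have := Nat.eq_one_of_mul_eq_one_left h1
      omega
    have h2 := (Cfsg.Agent.S4495.result p hp x hx hC t ht).2 ht1
    rw [h2, hp2]
    exact even_two
  have hpodd : Odd p := hp.odd_of_ne_two hp2
  have heven : Even e := by
    have h1 : Even (e * t) := by
      rw [het]
      exact Nat.Odd.sub_odd hpodd odd_one
    rcases Nat.even_mul.mp h1 with h | h
    · exact h
    · exact absurd h htev
  obtain ⟨d, ρ, hirr, hρ⟩ := χ.2
  have hdeg : Cfsg.charDegree (χ : G → ℂ) = d := by
    rw [← hρ, Cfsg.Agent.Lib.Helper6.charDegree_character]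
    simp
  have hd : d + 1 = p := by rw [← hdeg]; exact hχ
  have hχirr : Cfsg.IsIrrCharacter G ρ.character := by rw [hρ]; exact χ.2
  obtain ⟨a, ha, h1, h2, h3⟩ := Cfsg.Agent.Lib.Helper8.SelfCent.eigen_data hp hx ρ
  have ha0 : a = 0 :=
    Cfsg.Agent.Lib.Helper8.SelfCent.mult_eq_zero hx hC ρ hχirr hd (he_def ▸ heven) ha h1 h2
  have hzero := h3 ha0
  obtain ⟨u, huN, hou, hnot⟩ := Cfsg.Agent.Lib.Helper8.SelfCent.exists_two_element hx hC hp2
  rw [← he_def] at hou
  have he0 : e ≠ 0 := by
    intro h0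
    rw [h0, zero_mul] at het
    have := hp.two_le
    omega
  obtain ⟨q, hq⟩ : ∃ q, q = 2 ^ e.factorization 2 := ⟨_, rfl⟩
  rw [← hq] at hou
  have hqpos : 0 < q := by rw [hq]; positivity
  have hqeven : Even q := by
    rw [hq]
    have h2e : 2 ∣ e := even_iff_two_dvd.mp heven
    have hpos := Nat.Prime.factorization_pos_of_dvd Nat.prime_two he0 h2e
    exact (Nat.even_pow.mpr ⟨even_two, hpos.ne'⟩)
  have hqe : q * (e / q) = e := by
    rw [hq]
    exact Nat.ordProj_mul_ordCompl_eq_self e 2
  have hcompl : Odd (e / q) := by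
    rw [hq, ← Nat.not_even_iff_odd, even_iff_two_dvd]
    exact Nat.not_dvd_ordCompl Nat.prime_two he0
  have htr : ∀ j, 0 < j → j < q → LinearMap.trace ℂ (Fin d → ℂ) ((ρ u) ^ j) = 0 := by
    intro j hj0 hjq
    rw [← map_pow]
    exact Cfsg.Agent.Lib.Helper8.SelfCent.apply_eq_zero_of_mem_normalizer hp hx hC ρ hzero
      (Subgroup.pow_mem _ huN j) (hnot j hj0 (by rw [hou]; exact hjq))
  obtain ⟨ι, hι, b, μ, hb, hμ⟩ := Cfsg.Agent.Lib.Helper6.exists_eigenbasis_rep ρ u
  rw [hou] at hμ
  have hcard : Fintype.card ι = q * ((e / q) * t) := by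
    rw [← Module.finrank_eq_card_basis b, ← mul_assoc, hqe, het]
    simp
    omega
  have hdet := Cfsg.Agent.Lib.Helper8.CycEig.det_eq_neg_one b μ (ρ u) hb hqpos hqeven hμ htr hcard
    (hcompl.mul htodd)
  -- the determinant homomorphism
  set δ : G →* ℂˣ := Cfsg.Agent.Lib.Helper3.DetChar.detHom ρ with hδ
  have hδu : ((δ u : ℂˣ) : ℂ) = -1 := by
    rw [hδ, Cfsg.Agent.Lib.Helper3.DetChar.detHom_apply]
    exact hdet
  have hord : orderOf (δ u) = 2 := by
    apply orderOf_eq_prime
    · apply Units.ext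
      rw [Units.val_pow_eq_pow_val, hδu]
      norm_num
    · intro h
      rw [h] at hδu
      norm_num at hδu
  have hle : commutator G ≤ δ.ker := Abelianization.commutator_subset_ker δ
  have h2dvd : 2 ∣ δ.ker.index := by
    rw [Subgroup.index_ker]
    have h4 : orderOf (⟨δ u, u, rfl⟩ : δ.range) = 2 := by
      rw [← hord]
      exact Subgroup.orderOf_mk _ _
    rw [← h4]
    exact orderOf_dvd_natCard _
  exact even_iff_two_dvd.mpr (h2dvd.trans (Subgroup.index_dvd_of_le hle))

end Cfsg.Agent.S4508
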