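import Cfsg.Statements.S4509
import Mathlib
import Cfsg.Agent.Lib.Helper8.SelfCent5

set_option autoImplicit false
open Cfsg

namespace Cfsg.Agent.S4509

/-- Let the finite group G contain an element x of prime order p with C_G(x) = ⟨x⟩; let t be the number of conjugacy classes of elements of order p and 1 + n·p the number of subgroups of order p. Then G has a normal subgroup of order 1 + n·p if and only if either t = p − 1, or t < p − 1 and G″ ≠ G′. Moreover, if t = p − 1 then G′ has order 1 + n·p and G/G′ is cyclic of order p; and if t < p − 1 and G″ ≠ G′ then G″ has order 1 + n·p and G′ has order p·(1 + n·p). -/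
theorem result {G : Type*} [Group G] [Finite G] (p : ℕ) (hp : p.Prime) (x : G) (hx : orderOf x = p) (hC : Subgroup.centralizer ({x} : Set G) = Subgroup.zpowers x) (t : ℕ) (ht : Nat.card {C : ConjClasses G // ∃ g ∈ C.carrier, orderOf g = p} = t) (n : ℕ) (hn : Nat.card {H : Subgroup G // Nat.card H = p} = 1 + n * p) : ((∃ S : Subgroup G, S.Normal ∧ Nat.card S = 1 + n * p) ↔ (t = p - 1 ∨ (t < p - 1 ∧ derivedSeries G 2 ≠ derivedSeries G 1))) ∧ (t = p - 1 → Nat.card (commutator G) = 1 + n * p ∧ IsCyclic (G ⧸ commutator G) ∧ (commutator G).index = p) ∧ (t < p - 1 → derivedSeries G 2 ≠ derivedSeries G 1 → Nat.card (derivedSeries G 2) = 1 + n * p ∧ Nat.card (commutator G) = p * (1 + n * p)) := by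
  haveI : Fact p.Prime := ⟨hp⟩
  have hiff := Cfsg.Agent.Lib.Helper8.SelfCent.card_classes_eq_iff hx hC
  have hle := Cfsg.Agent.Lib.Helper8.SelfCent.card_classes_le hx hC
  rw [ht] at hiff hle
  have hidx := Cfsg.Agent.Lib.Helper8.SelfCent.card_subgroups_eq_index hx hC
  rw [hn] at hidx
  have hd1 : derivedSeries G 1 = commutator G := derivedSeries_one G
  have hd2 : derivedSeries G 2 = ⁅commutator G, commutator G⁆ := by
    rw [derivedSeries_succ, hd1]
  have hcase1 : t = p - 1 → Nat.card (commutator G) = 1 + n * p ∧ (commutator G).index = p := by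
    intro heq
    obtain ⟨K, hKn, hcop, hcard, hK⟩ := Cfsg.Agent.Lib.Helper8.SelfCent.exists_complement hx hC
      (hiff.1 heq)
    rw [hK]
    have h1 := Subgroup.card_mul_index K
    have hind : K.index = p := by
      rw [← hcard] at h1
      exact Nat.eq_of_mul_eq_mul_left Nat.card_pos h1
    refine ⟨?_, hind⟩
    have h2 := Subgroup.card_mul_index (Subgroup.normalizer (Subgroup.zpowers x : Set G))
    rw [← hidx, hiff.1 heq, Cfsg.Agent.Lib.Helper8.SelfCent.card_zpowers_eq hx, ← hcard,
      mul_comm] at h2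
    exact (Nat.eq_of_mul_eq_mul_right hp.pos h2).symm
  have hNPne : t ≠ p - 1 →
      Subgroup.normalizer (Subgroup.zpowers x : Set G) ≠ Subgroup.zpowers x :=
    fun hne h => hne (hiff.2 h)
  refine ⟨⟨?_, ?_⟩, ?_, ?_⟩
  · rintro ⟨S, hSn, hScard⟩
    by_cases heq : t = p - 1
    · left; exact heq
    · right
      refine ⟨lt_of_le_of_ne hle heq, ?_⟩
      have hcop : (Nat.card S).Coprime p := by
        rw [hScard, Nat.coprime_add_mul_right_left]
        exact Nat.coprime_one_left p
      have htop := Cfsg.Agent.Lib.Helper8.SelfCent.sup_eq_top_of_card_eq_index hx hC S hcop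
        (hScard.trans hidx)
      have hder := Cfsg.Agent.Lib.Helper8.SelfCent.derived_le_of_sup_eq_top hC S htop
      intro h
      rw [hd2, hd1] at h
      have hPD := Cfsg.Agent.Lib.Helper8.SelfCent.zpowers_le_commutator hp hx hC
        (Cfsg.Agent.Lib.Helper8.SelfCent.exists_mem_normalizer_not_mem (hNPne heq))
      rw [h] at hder
      have hxS : x ∈ Subgroup.zpowers x ⊓ S :=
        ⟨Subgroup.mem_zpowers x, hder (hPD (Subgroup.mem_zpowers x))⟩
      rw [Cfsg.Agent.Lib.Helper8.SelfCent.inf_eq_bot_of_coprime hx S hcop, Subgroup.mem_bot] at hxS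
      exact Cfsg.Agent.Lib.Helper8.SelfCent.x_ne_one hp hx hxS
  · rintro (heq | ⟨hlt, hne⟩)
    · exact ⟨commutator G, inferInstance, (hcase1 heq).1⟩
    · rw [hd2, hd1] at hne
      obtain ⟨_, hcardS, _⟩ := Cfsg.Agent.Lib.Helper8.SelfCent.structure_of_derived_ne hx hC
        (hNPne hlt.ne) hne
      exact ⟨Cfsg.pPrimeCore p G, inferInstance, hcardS.trans hidx.symm⟩
  · intro heq
    obtain ⟨h1, h2⟩ := hcase1 heq
    refine ⟨h1, ?_, h2⟩
    apply isCyclic_of_prime_card (p := p)
    rw [← Subgroup.index_eq_card, h2]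
  · intro hlt hne
    rw [hd2, hd1] at hne
    obtain ⟨hD2, hcardS, hcardD⟩ := Cfsg.Agent.Lib.Helper8.SelfCent.structure_of_derived_ne hx hC
      (hNPne hlt.ne) hne
    rw [hd2, hD2, hcardS, hcardD, ← hidx]
    exact ⟨rfl, rfl⟩

end Cfsg.Agent.S4509
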