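import Cfsg.Statements.S4510
import Mathlib
import Cfsg.Agent.Lib.Helper6.BlkDefectClasses

set_option autoImplicit false
open Cfsg

namespace Cfsg.Agent.S4510

open Cfsg.Agent.Lib.Helper6

/-- Let G be a finite group, p a prime, M a maximal ideal of the algebraic integers containing p, and call the defect of a conjugacy class the exponent of p in the order of the centralizer of its elements. Two irreducible characters lying in p-blocks of defect exactly d lie in the same block if and only if their central characters (class size times χ(x)/χ(1)) agree modulo the local ideal at M at every p-regular element x whose class has defect exactly d. -/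
theorem result {G : Type*} [Group G] [Finite G] (p : ℕ) [Fact p.Prime] (M : Ideal Cfsg.AlgInt) (hM : Cfsg.IsPModular p M) (d : ℕ) (χ ψ : Cfsg.IrrCharacter G) (hχ : Cfsg.blockDefect p (Cfsg.blockOf M (χ : G → ℂ)) = d) (hψ : Cfsg.blockDefect p (Cfsg.blockOf M (ψ : G → ℂ)) = d) : Cfsg.SameBlock M (χ : G → ℂ) (ψ : G → ℂ) ↔ ∀ x : G, ¬ p ∣ orderOf x → (Nat.card (Subgroup.centralizer ({x} : Set G))).factorization p = d → Cfsg.MemLocalIdeal M (Cfsg.centralChar (χ : G → ℂ) x - Cfsg.centralChar (ψ : G → ℂ) x) := by
  classical
  have : Fintype G := Fintype.ofFinite G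
  have : Fintype (ConjClasses G) := Fintype.ofFinite _
  constructor
  · intro h x _ _
    exact h x
  · intro h
    by_contra hns
    have hχB : χ ∈ Cfsg.blockOf M (χ : G → ℂ) := sameBlock_refl hM _
    have hωS : ∀ (θ : Cfsg.IrrCharacter G) (x : G),
        Cfsg.MemLocalRing M (Cfsg.centralChar (θ : G → ℂ) x) :=
      fun θ x => memLocalRing_of_isIntegral hM (IsIrrCharacter.isIntegral_centralChar' θ.2 x)
    have h1 : cOmega (χ : G → ℂ) (blockMat (Cfsg.blockOf M (χ : G → ℂ))) = 1 := by
      rw [cOmega_blockMat, if_pos hχB]
    have h2 : cOmega (ψ : G → ℂ) (blockMat (Cfsg.blockOf M (χ : G → ℂ))) = 0 := by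
      have hns' : ψ ∉ Cfsg.blockOf M (χ : G → ℂ) := hns
      rw [cOmega_blockMat, if_neg hns']
    have h3 : Cfsg.MemLocalIdeal M (cOmega (χ : G → ℂ) (blockMat (Cfsg.blockOf M (χ : G → ℂ)))
        - cOmega (ψ : G → ℂ) (blockMat (Cfsg.blockOf M (χ : G → ℂ)))) := by
      rw [cOmega_eq_sum_classes (IsIrrCharacter.isClassFunction χ.2) (blockMat_mem_centerAlg _),
        cOmega_eq_sum_classes (IsIrrCharacter.isClassFunction ψ.2) (blockMat_mem_centerAlg _),
        ← Finset.sum_sub_distrib]
      apply MemLocalIdeal.sum hM
      intro c _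
      rw [← mul_sub]
      have hE : blockMat (Cfsg.blockOf M (χ : G → ℂ)) (Quotient.out c) 1
          = Cfsg.blockCoeff (Cfsg.blockOf M (χ : G → ℂ)) (Quotient.out c) := by
        unfold blockMat
        rw [regMat_apply, inv_one, mul_one]
      rw [hE]
      obtain ⟨g, hg⟩ : ∃ g : G, g = Quotient.out c := ⟨_, rfl⟩
      rw [← hg]
      have hdiffS := MemLocalRing.sub hM (hωS χ g) (hωS ψ g)
      by_cases ha : Cfsg.MemLocalIdeal M (Cfsg.blockCoeff (Cfsg.blockOf M (χ : G → ℂ)) g)
      · exact MemLocalIdeal.mul_right hM ha hdiffS
      · apply MemLocalIdeal.mul_left hM (blockCoeff_memLocalRing hM χ g)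
        have hreg := pRegular_of_blockCoeff hM χ g ha
        have hle := le_blockDefect_of_blockCoeff hM χ g ha
        rw [hχ] at hle
        by_cases heq : (Nat.card (Subgroup.centralizer ({g} : Set G))).factorization p = d
        · exact h g hreg heq
        · have hlt : (Nat.card (Subgroup.centralizer ({g} : Set G))).factorization p < d :=
            lt_of_le_of_ne hle heq
          apply MemLocalIdeal.sub hM
          · by_contra hcon
            have := blockDefect_le_of_centralChar hM χ g hcon
            rw [hχ] at this
            omega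
          · by_contra hcon
            have := blockDefect_le_of_centralChar hM ψ g hcon
            rw [hψ] at this
            omega
    rw [h1, h2, sub_zero] at h3
    exact not_memLocalIdeal_one hM h3


end Cfsg.Agent.S4510
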