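import Cfsg.Statements.S4513
import Mathlib
import Cfsg.Agent.Lib.Helper6.BlkDefectOne

set_option autoImplicit false
open Cfsg

namespace Cfsg.Agent.S4513

open Cfsg.Agent.Lib.Helper6

/-- Blocks of defect one for p = 2. Let M be a maximal ideal of the algebraic integers containing 2, B a 2-block of the finite group G whose defect group is the subgroup generated by an involution x, C = C_G(x), b a block of C inducing B and θ a member of b taking the same value at x as at 1 (there is exactly one). Then B consists of exactly two irreducible characters, which agree on every element of odd order, and they can be labelled χ₁, χ₂ with signs ε₁, ε₂ = ±1, ε₁ε₂ = −1, such that χᵢ(x y) = εᵢ θ(y) for every element y of C of odd order. -/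
theorem result {G : Type*} [Group G] [Finite G] (M : Ideal Cfsg.AlgInt) (hM : Cfsg.IsPModular 2 M) (x : G) (hx : orderOf x = 2)
    (B : Set (Cfsg.IrrCharacter G)) (hB : Cfsg.IsPBlock M B) (hBD : Cfsg.IsDefectGroup 2 M B (Subgroup.zpowers x))
    (b : Set (Cfsg.IrrCharacter ↥(Subgroup.centralizer ({x} : Set G)))) (hb : Cfsg.IsInducedBlock M (Subgroup.centralizer ({x} : Set G)) b B)
    (θ : Cfsg.IrrCharacter ↥(Subgroup.centralizer ({x} : Set G))) (hθ : θ ∈ b)
    (hθx : ∀ z : ↥(Subgroup.centralizer ({x} : Set G)), (z : G) = x → (θ : ↥(Subgroup.centralizer ({x} : Set G)) → ℂ) z = (θ : ↥(Subgroup.centralizer ({x} : Set G)) → ℂ) 1) :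
    Nat.card B = 2 ∧ (∀ χ ∈ B, ∀ ψ ∈ B, ∀ g : G, ¬ 2 ∣ orderOf g → (χ : G → ℂ) g = (ψ : G → ℂ) g) ∧
      ∃ χ₁ ∈ B, ∃ χ₂ ∈ B, χ₁ ≠ χ₂ ∧ ∃ ε₁ ε₂ : ℤ, (ε₁ = 1 ∨ ε₁ = -1) ∧ (ε₂ = 1 ∨ ε₂ = -1) ∧ ε₁ * ε₂ = -1 ∧
        ∀ y : ↥(Subgroup.centralizer ({x} : Set G)), ¬ 2 ∣ orderOf y →
          (χ₁ : G → ℂ) (x * y) = (ε₁ : ℂ) * (θ : ↥(Subgroup.centralizer ({x} : Set G)) → ℂ) y ∧ (χ₂ : G → ℂ) (x * y) = (ε₂ : ℂ) * (θ : ↥(Subgroup.centralizer ({x} : Set G)) → ℂ) y := by
  classical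
  have : Fintype G := Fintype.ofFinite G
  have : Fact (Nat.Prime 2) := ⟨Nat.prime_two⟩
  have hd : Cfsg.blockDefect 2 B ≤ 1 := by
    have h1 := Cfsg.Agent.S0908.result 2 M hM B hB _ hBD
    rw [Nat.card_zpowers, hx] at h1
    have h2 : (2 : ℕ) ^ 1 = 2 ^ Cfsg.blockDefect 2 B := by rw [pow_one]; exact h1
    have h3 := Nat.pow_right_injective (le_refl 2) h2
    omega
  obtain ⟨χ₁, χ₂, h12, hBset, hagree, ε₁, ε₂, he1, he2, hprod, hval⟩ :=
    defect_one_two_block hM x hx B hB hd _ rfl b hb θ hθ hθx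
  refine ⟨?_, ?_, χ₁, ?_, χ₂, ?_, h12, ε₁, ε₂, he1, he2, hprod, hval⟩
  · rw [hBset, Nat.card_coe_set_eq, Set.ncard_pair h12]
  · intro χ hχ ψ hψ g hg
    rw [hBset] at hχ hψ
    simp only [Set.mem_insert_iff, Set.mem_singleton_iff] at hχ hψ
    rcases hχ with rfl | rfl <;> rcases hψ with rfl | rfl
    · rfl
    · exact hagree g hg
    · exact (hagree g hg).symm
    · rfl
  · rw [hBset]; simp
  · rw [hBset]; simp


end Cfsg.Agent.S4513
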