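import Cfsg.Statements.S4517
import Mathlib
import Cfsg.Agent.Lib.Helper6.BlkDim
import Cfsg.Agent.Lib.Helper6.GaloisPerm
import Cfsg.Agent.Lib.Helper6.Parity

set_option autoImplicit false
open Cfsg

namespace Cfsg.Agent.S4517

open Cfsg.Agent.Lib.Helper6

/-- Let G be a finite group, M a maximal ideal of the algebraic integers containing 2, and k a natural number coprime to the order of G with g ^ k = g⁻¹ for every element g of odd order (so that g ↦ g ^ k induces a field automorphism of the character values inverting the roots of unity of odd order). If B is a 2-block of full defect (its defect equals the exponent of 2 in the order of G) that is stable under χ ↦ χ ∘ (· ^ k), then B is the principal 2-block. -/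
theorem result {G : Type*} [Group G] [Finite G] (M : Ideal Cfsg.AlgInt) (hM : Cfsg.IsPModular 2 M) (k : ℕ) (hk : Nat.Coprime k (Nat.card G)) (hk₂ : ∀ g : G, Odd (orderOf g) → g ^ k = g⁻¹) (B : Set (Cfsg.IrrCharacter G)) (hB : Cfsg.IsPBlock M B) (hdef : Cfsg.blockDefect 2 B = (Nat.card G).factorization 2) (hstab : ∀ χ ∈ B, ∃ ψ ∈ B, ∀ g : G, (ψ : G → ℂ) g = (χ : G → ℂ) (g ^ k)) : B = Cfsg.principalBlock M G := by
  classical
  have : Fintype G := Fintype.ofFinite G
  have : Fintype (Cfsg.IrrCharacter G) := Fintype.ofFinite _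
  have : Fact (Nat.Prime 2) := ⟨Nat.prime_two⟩
  obtain ⟨χ₀, rfl⟩ := hB
  obtain ⟨P⟩ : Nonempty (Sylow 2 G) := inferInstance
  have hP : Nat.card (P : Subgroup G) = 2 ^ (Nat.card G).factorization 2 :=
    Sylow.card_eq_multiplicity P
  have hχ₀ : χ₀ ∈ Cfsg.blockOf M (χ₀ : G → ℂ) := sameBlock_refl hM _
  obtain ⟨χ, hχ, hh⟩ := exists_height_zero (p := 2) _ χ₀ hχ₀
  have h1 := not_pow_succ_dvd_sum_degree_mul_trivMult hM χ₀ χ hχ hh (P : Subgroup G) hP
  have hmin := (blockHeight_eq_zero_iff (p := 2) _ χ hχ).mp hh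
  have he : sInf ((fun χ : Cfsg.IrrCharacter G => (Cfsg.charDegree (χ : G → ℂ)).factorization 2) ''
      (Cfsg.blockOf M (χ₀ : G → ℂ))) = (Cfsg.charDegree (χ : G → ℂ)).factorization 2 := by
    apply le_antisymm
    · exact Nat.sInf_le ⟨χ, hχ, rfl⟩
    · apply le_csInf (Set.image_nonempty.mpr ⟨χ, hχ⟩)
      rintro _ ⟨ψ, hψ, rfl⟩
      exact hmin ψ hψ
  have hcard := factorization_card_eq_sInf_add_defect (p := 2) _ χ₀ hχ₀
  rw [he, hdef] at hcard
  have hz : (Cfsg.charDegree (χ : G → ℂ)).factorization 2 = 0 := by omega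
  rw [hz, zero_add, pow_one] at h1
  -- the weight
  obtain ⟨f, hf⟩ : ∃ f : Cfsg.IrrCharacter G → ℕ, f = fun (β : Cfsg.IrrCharacter G) =>
      Cfsg.charDegree ((β : Cfsg.IrrCharacter G) : G → ℂ) * trivMult (P : Subgroup G) ((β : Cfsg.IrrCharacter G) : G → ℂ) := ⟨_, rfl⟩
  have hodd : Odd (∑ β ∈ Finset.univ.filter (· ∈ Cfsg.blockOf M (χ₀ : G → ℂ)), f β) := by
    rw [← Nat.not_even_iff_odd, even_iff_two_dvd]
    intro hd
    apply h1
    have : ((∑ β ∈ Finset.univ.filter (· ∈ Cfsg.blockOf M (χ₀ : G → ℂ)), f β : ℕ) : ℤ)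
        = ∑ β ∈ Finset.univ.filter (· ∈ Cfsg.blockOf M (χ₀ : G → ℂ)),
        (Cfsg.charDegree (β : G → ℂ) : ℤ) * (trivMult (P : Subgroup G) (β : G → ℂ) : ℤ) := by
      rw [hf]
      push_cast
      rfl
    rw [← this]
    exact_mod_cast hd
  have hstab' : ∀ χ ∈ Cfsg.blockOf M (χ₀ : G → ℂ), powIrr k hk χ ∈ Cfsg.blockOf M (χ₀ : G → ℂ) := by
    intro β hβ
    obtain ⟨ψ, hψ, hψe⟩ := hstab β hβ
    have : powIrr k hk β = ψ := by
      apply Subtype.ext
      funext g
      rw [powIrr_apply, hψe]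
    rw [this]
    exact hψ
  have hfinv : ∀ β, f (powIrr k hk β) = f β := by
    intro β
    rw [hf]
    simp only
    rw [charDegree_powIrr]
    congr 1
    exact trivMult_comp_pow (P : Subgroup G) (β : G → ℂ) hk
  obtain ⟨t, ht, β, hβB, hβodd, hβfix⟩ := exists_fixed_of_odd_sum k hk _ hstab' f hfinv hodd
  have hdegodd : Odd (Cfsg.charDegree (β : G → ℂ)) := by
    rw [hf] at hβodd
    exact (Nat.odd_mul.mp hβodd).1
  -- powers of k invert elements of odd order
  have hpow : ∀ (m : ℕ) (x : G), Odd (orderOf x) →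
      x ^ (k ^ m) = if Even m then x else x⁻¹ := by
    intro m
    induction m with
    | zero => intro x _; simp
    | succ m ih =>
      intro x hx
      rw [pow_succ, pow_mul, ih x hx]
      by_cases hm : Even m
      · rw [if_pos hm, if_neg (by rw [Nat.even_add_one]; exact not_not.mpr hm)]
        exact hk₂ x hx
      · rw [if_neg hm, if_pos (by rw [Nat.even_add_one]; exact hm)]
        have hx' : Odd (orderOf x⁻¹) := by rw [orderOf_inv]; exact hx
        rw [hk₂ x⁻¹ hx', inv_inv]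
  have hβprin : β ∈ Cfsg.principalBlock M G := by
    apply mem_principalBlock_of_odd_of_inv_eq hM β hdegodd
    intro x hx
    have hxo : Odd (orderOf x) := by
      rw [← Nat.not_even_iff_odd, even_iff_two_dvd]
      exact hx
    have := hpow t x hxo
    rw [if_neg (Nat.not_even_iff_odd.mpr ht)] at this
    rw [← this]
    exact hβfix x
  rw [blockOf_eq_of_mem hM hβB]
  unfold Cfsg.principalBlock at hβprin ⊢
  rw [blockOf_eq_of_mem hM hβprin]

end Cfsg.Agent.S4517
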