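import Cfsg.Statements.S4518
import Mathlib
import Cfsg.Agent.Lib.Helper3.GaloisFix
import Cfsg.Agent.Lib.Helper3.Gagola
import Cfsg.Agent.Lib.Helper6.BlkCover
-- import your own Cfsg.Agent.* helpers here

set_option autoImplicit false
open Cfsg

namespace Cfsg.Agent.S4518

open Cfsg.Agent.Lib.Helper6 Cfsg.Agent.Lib.Helper3.GaloisFix Cfsg.Agent.Lib.Helper3.Gagola


theorem result' {G : Type*} [Group G] [Fintype G] (p : ℕ) [Fact p.Prime] (N : Subgroup G) [hN : N.Normal] [Fintype N] (hidx : ¬ p ∣ N.index) (k e : ℕ) (hk : Nat.Coprime k (Nat.card G)) (hke : k ^ (p ^ e) ≡ 1 [MOD Nat.card G]) (χ : Cfsg.IrrCharacter G) (hχ : ∀ g : G, (χ : G → ℂ) (g ^ k) = (χ : G → ℂ) g) (θ : Cfsg.IrrCharacter N) (hθ : Cfsg.classInner (fun n : N => (χ : G → ℂ) n) (θ : N → ℂ) ≠ 0) : ∀ n : N, (θ : N → ℂ) (n ^ k) = (θ : N → ℂ) n := by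
  classical
  have hdvd : Nat.card N ∣ Nat.card G := Subgroup.card_subgroup_dvd_card N
  have hkN : Nat.Coprime k (Nat.card N) := Nat.Coprime.coprime_dvd_right hdvd hk
  have hkeN : k ^ (p ^ e) ≡ 1 [MOD Nat.card N] := Nat.ModEq.of_dvd hdvd hke
  let _ : MulAction G (IrrCharacter N) := irrAction N hN
  have hsmul : ∀ (g : G) (μ : IrrCharacter N), ((g • μ : IrrCharacter N) : N → ℂ)
      = conjFun N hN (μ : N → ℂ) g⁻¹ := fun g μ => rfl
  set B : Set (IrrCharacter N) := MulAction.orbit G θ with hB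
  -- the Galois permutation commutes with the action
  have hcomm : ∀ (g : G) (μ : IrrCharacter N), powIrr k hkN (g • μ) = g • powIrr k hkN μ := by
    intro g μ
    apply Subtype.ext
    funext n
    rw [powIrr_apply, hsmul, hsmul, conjFun_apply, conjFun_apply, powIrr_apply]
    apply congrArg
    apply Subtype.ext
    simp only [Subgroup.coe_pow, inv_inv]
    have := conj_pow (a := g⁻¹) (b := (n : G)) (i := k)
    rw [inv_inv] at this
    exact this.symm
  -- σθ is a constituent
  have hσθ : Cfsg.classInner (fun n : N => (χ : G → ℂ) n) (powIrr k hkN θ : N → ℂ) ≠ 0 := by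
    have h1 := classInner_comp_pow k hkN (fun n : N => (χ : G → ℂ) n) (θ : N → ℂ)
    have h2 : (fun x : N => (fun n : N => (χ : G → ℂ) n) (x ^ k)) = fun n : N => (χ : G → ℂ) n := by
      funext x
      simp only [Subgroup.coe_pow]
      exact hχ x
    rw [h2] at h1
    have h3 : (powIrr k hkN θ : N → ℂ) = fun x : N => (θ : N → ℂ) (x ^ k) := rfl
    rw [h3, h1]
    exact hθ
  have hσθB : powIrr k hkN θ ∈ B := by
    obtain ⟨g, hg⟩ := exists_conjFun_eq_of_constituents N hN χ.2 θ.2 (powIrr k hkN θ).2 hθ hσθ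
    refine ⟨g⁻¹, ?_⟩
    apply Subtype.ext
    change ((g⁻¹ • θ : IrrCharacter N) : N → ℂ) = _
    rw [hsmul, inv_inv, hg]
  have hstab : ∀ μ ∈ B, powIrr k hkN μ ∈ B := by
    rintro μ ⟨g, rfl⟩
    change powIrr k hkN (g • θ) ∈ B
    rw [hcomm]
    obtain ⟨x, hx⟩ := hσθB
    refine ⟨g * x, ?_⟩
    change (g * x) • θ = _
    rw [mul_smul]
    congr 1
  -- the orbit has size prime to p
  have hcard : ¬ p ∣ Nat.card B := by
    intro hdiv
    apply hidx
    have h1 : (MulAction.stabilizer G θ).index = Nat.card B := MulAction.index_stabilizer G θ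
    have h2 : N ≤ MulAction.stabilizer G θ := by
      intro n hn
      rw [MulAction.mem_stabilizer_iff]
      apply Subtype.ext
      rw [hsmul]
      exact conjFun_of_mem N hN (IsIrrCharacter.isClassFunction θ.2) (N.inv_mem hn)
    have h3 := Subgroup.index_dvd_of_le h2
    rw [h1] at h3
    exact dvd_trans hdiv h3
  obtain ⟨μ, ⟨g, hg⟩, hμfix⟩ := exists_powIrr_fixed p k e hkN hkeN B hstab hcard
  have hg' : g • θ = μ := hg
  rw [← hg', hcomm] at hμfix
  have hfix : powIrr k hkN θ = θ := by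
    have := congrArg (fun ν => g⁻¹ • ν) hμfix
    simpa only [inv_smul_smul] using this
  intro n
  have := congrArg (fun ν : IrrCharacter N => (ν : N → ℂ) n) hfix
  exact this





/-- Let N be a normal subgroup of the finite group G whose index is not divisible by the prime p, and let k be coprime to the order of G with k ^ (p ^ e) ≡ 1 modulo the order of G for some e (so g ↦ g ^ k induces a field automorphism of p-power order on character values). If an irreducible character χ of G satisfies χ (g ^ k) = χ g for all g, then every irreducible constituent θ of the restriction of χ to N satisfies θ (n ^ k) = θ n for all n. -/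
theorem result {G : Type*} [Group G] [Fintype G] (p : ℕ) [Fact p.Prime] (N : Subgroup G) [N.Normal] [Fintype N] (hidx : ¬ p ∣ N.index) (k e : ℕ) (hk : Nat.Coprime k (Nat.card G)) (hke : k ^ (p ^ e) ≡ 1 [MOD Nat.card G]) (χ : Cfsg.IrrCharacter G) (hχ : ∀ g : G, (χ : G → ℂ) (g ^ k) = (χ : G → ℂ) g) (θ : Cfsg.IrrCharacter N) (hθ : Cfsg.classInner (fun n : N => (χ : G → ℂ) n) (θ : N → ℂ) ≠ 0) : ∀ n : N, (θ : N → ℂ) (n ^ k) = (θ : N → ℂ) n := by
  exact result' p N hidx k e hk hke χ hχ θ hθ

end Cfsg.Agent.S4518
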