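import Cfsg.Statements.S4519
import Mathlib
import Cfsg.Agent.Lib.Helper6.SigFix3
import Cfsg.Agent.Lib.Helper6.CliffordStab
import Cfsg.Agent.Lib.Helper6.BlkFRMult
import Cfsg.Agent.Lib.Helper6.Ito
import Cfsg.Agent.Lib.Helper6.GaloisConj

set_option autoImplicit false
open Cfsg

namespace Cfsg.Agent.S4519

open Cfsg.Agent.Lib.Helper6 Cfsg.Agent.Lib.Helper3

/-- Let N be a normal subgroup of odd index in the finite group G, and let k be coprime to the order of G with k ^ (2 ^ e) ≡ 1 modulo the order of G for some e and g ^ k = g⁻¹ for every element g of odd order (so g ↦ g ^ k induces a field automorphism of 2-power order inverting the roots of unity of odd order). If an irreducible character θ of N satisfies θ (n ^ k) = θ n for all n, then there is exactly one irreducible character χ of G with θ a constituent of its restriction to N and χ (g ^ k) = χ g for all g; moreover, if θ is invariant under conjugation by G, that χ restricts to θ. -/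
theorem result {G : Type*} [Group G] [Fintype G] (N : Subgroup G) [hN : N.Normal] [Fintype N] (hidx : Odd N.index) (k e : ℕ) (hk : Nat.Coprime k (Nat.card G)) (hke : k ^ (2 ^ e) ≡ 1 [MOD Nat.card G]) (hk₂ : ∀ g : G, Odd (orderOf g) → g ^ k = g⁻¹) (θ : Cfsg.IrrCharacter N) (hθ : ∀ n : N, (θ : N → ℂ) (n ^ k) = (θ : N → ℂ) n) : ∃ χ : Cfsg.IrrCharacter G, (Cfsg.classInner (fun n : N => (χ : G → ℂ) n) (θ : N → ℂ) ≠ 0 ∧ (∀ g : G, (χ : G → ℂ) (g ^ k) = (χ : G → ℂ) g) ∧ ((∀ g : G, ∀ n : N, (θ : N → ℂ) ⟨g * n * g⁻¹, hN.conj_mem n n.2 g⟩ = (θ : N → ℂ) n) → ∀ n : N, (χ : G → ℂ) n = (θ : N → ℂ) n)) ∧ ∀ χ' : Cfsg.IrrCharacter G, Cfsg.classInner (fun n : N => (χ' : G → ℂ) n) (θ : N → ℂ) ≠ 0 → (∀ g : G, (χ' : G → ℂ) (g ^ k) = (χ' : G → ℂ) g) → χ' = χ := by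
  classical
  have hs : SigFix.SigData G k e := ⟨hk, hke, hk₂⟩
  have hθθ : Cfsg.classInner (θ : N → ℂ) (θ : N → ℂ) = 1 := by
    rw [classInner_isIrrCharacter θ.2 θ.2, if_pos rfl]
  by_cases hinv : ∀ g : G, ∀ n : N, (θ : N → ℂ) ⟨g * n * g⁻¹, hN.conj_mem n n.2 g⟩ = (θ : N → ℂ) n
  · obtain ⟨χ, hχ, hχN, hχk, hu⟩ := SigFix.sigma_fixed_invariant N hidx hs θ θ.2 hinv hθ
    refine ⟨⟨χ, hχ⟩, ⟨?_, hχk, fun _ => hχN⟩, ?_⟩
    · have : (fun n : N => χ n) = (θ : N → ℂ) := funext hχN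
      change Cfsg.classInner (fun n : N => χ n) (θ : N → ℂ) ≠ 0
      rw [this, hθθ]
      exact one_ne_zero
    · intro χ' hover hk'
      exact Subtype.ext (hu χ' χ'.2 hover hk')
  · -- Clifford correspondence with the inertia group
    let T : Subgroup G := inertia N hN (θ : N → ℂ)
    have hNT : N ≤ T := le_inertia N hN (IsIrrCharacter.isClassFunction θ.2)
    haveI : Fintype T := Fintype.ofFinite _
    haveI hK : (N.subgroupOf T).Normal := hN.subgroupOf T
    haveI : Fintype (N.subgroupOf T) := Fintype.ofFinite _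
    let ee : (N.subgroupOf T) ≃* N := Subgroup.subgroupOfEquivOfLe hNT
    have hθ' : Cfsg.IsIrrCharacter (N.subgroupOf T) (fun x => (θ : N → ℂ) (ee x)) :=
      IsIrrCharacter.comp_mulEquiv ee θ.2
    have hodd' : Odd (N.subgroupOf T).index := by
      apply Odd.of_dvd_nat hidx
      change N.relIndex T ∣ N.index
      exact Dvd.intro _ (Subgroup.relIndex_mul_index hNT)
    have hθk' : ∀ x : N.subgroupOf T, (θ : N → ℂ) (ee (x ^ k)) = (θ : N → ℂ) (ee x) := by
      intro x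
      rw [map_pow, hθ]
    have hinv' : ∀ (t : T) (x : N.subgroupOf T),
        (θ : N → ℂ) (ee ⟨t * x * t⁻¹, hK.conj_mem (x : T) x.2 t⟩) = (θ : N → ℂ) (ee x) := by
      intro t x
      have h1 : conjFun N hN (θ : N → ℂ) (t : G) = (θ : N → ℂ) := t.2
      have h2 := congrFun h1 (ee x)
      rw [conjFun_apply] at h2
      rw [← h2]
      congr 1
    obtain ⟨ψ, hψ, hψN, hψk, hψu⟩ := SigFix.sigma_fixed_invariant (N.subgroupOf T) hodd'
      (hs.subgroup T) (fun x => (θ : N → ℂ) (ee x)) hθ' hinv' hθk'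
    have hψN' : ∀ n : N, ψ ⟨n, hNT n.2⟩ = (θ : N → ℂ) n := by
      intro n
      have h2 := hψN (ee.symm n)
      rw [ee.apply_symm_apply] at h2
      rw [← h2]
      congr 1
    have hstab : ∀ g : G, conjFun N hN (θ : N → ℂ) g = (θ : N → ℂ) → g ∈ T := fun g h => h
    have hcψ : Cfsg.classInner (fun n : N => ((⟨ψ, hψ⟩ : Cfsg.IrrCharacter T) : T → ℂ) ⟨n, hNT n.2⟩)
        (θ : N → ℂ) ≠ 0 := by
      have : (fun n : N => ψ ⟨n, hNT n.2⟩) = (θ : N → ℂ) := funext hψN'
      change Cfsg.classInner (fun n : N => ψ ⟨n, hNT n.2⟩) (θ : N → ℂ) ≠ 0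
      rw [this, hθθ]
      exact one_ne_zero
    have hχirr := indFun_isIrrCharacter_of_stab N hN T hNT θ hstab ⟨ψ, hψ⟩ hcψ
    have hχover := classInner_indFun_restrict_of_stab N hN T hNT θ hstab ⟨ψ, hψ⟩ hcψ
    have hcopT : Nat.Coprime k (Nat.card T) := (hs.subgroup T).cop
    have hcopN : Nat.Coprime k (Nat.card N) := (hs.subgroup N).cop
    refine ⟨⟨Cfsg.indFun T ψ, hχirr⟩, ⟨?_, ?_, fun h => absurd h hinv⟩, ?_⟩
    · change Cfsg.classInner (fun n : N => Cfsg.indFun T ψ n) (θ : N → ℂ) ≠ 0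
      change Cfsg.classInner (fun n : N => Cfsg.indFun T ψ n) (θ : N → ℂ)
        = Cfsg.classInner (fun n : N => ψ ⟨n, hNT n.2⟩) (θ : N → ℂ) at hχover
      rw [hχover]
      exact hcψ
    · intro g
      change Cfsg.indFun T ψ (g ^ k) = Cfsg.indFun T ψ g
      rw [indFun_pow T ψ hk g]
      congr 1
      funext t
      exact hψk t
    · intro χ' hover hk'
      obtain ⟨ψ', hcψ', hind'⟩ := exists_indFun_eq_of_stab N hN T hNT θ hstab χ' hover
      let ψ'' : Cfsg.IrrCharacter T := powIrr k hcopT ψ'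
      have hind'' : Cfsg.indFun T (ψ'' : T → ℂ) = Cfsg.indFun T (ψ' : T → ℂ) := by
        funext g
        change Cfsg.indFun T (fun t : T => (ψ' : T → ℂ) (t ^ k)) g = _
        rw [← indFun_pow T (ψ' : T → ℂ) hk g, hind', hk']
      have hcψ'' : Cfsg.classInner (fun n : N => (ψ'' : T → ℂ) ⟨n, hNT n.2⟩) (θ : N → ℂ) ≠ 0 := by
        have h1 : (fun n : N => (ψ'' : T → ℂ) ⟨n, hNT n.2⟩)
            = fun n : N => (fun m : N => (ψ' : T → ℂ) ⟨m, hNT m.2⟩) (n ^ k) := by
          funext n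
          change (ψ' : T → ℂ) ((⟨n, hNT n.2⟩ : T) ^ k) = (ψ' : T → ℂ) ⟨((n ^ k : N) : G), _⟩
          congr 1
        have h3 := GaloisFix.classInner_comp_pow k hcopN
          (fun m : N => (ψ' : T → ℂ) ⟨m, hNT m.2⟩) (θ : N → ℂ)
        have h2 : (fun n : N => (θ : N → ℂ) (n ^ k)) = (θ : N → ℂ) := funext hθ
        rw [h2] at h3
        have h4 : Cfsg.classInner (fun n : N => (ψ'' : T → ℂ) ⟨n, hNT n.2⟩) (θ : N → ℂ)
            = Cfsg.classInner (fun m : N => (ψ' : T → ℂ) ⟨m, hNT m.2⟩) (θ : N → ℂ) := by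
          rw [h1]
          exact h3
        rw [h4]
        exact hcψ'
      have heq : ψ'' = ψ' := by
        by_contra hne
        have hirr'' := indFun_isIrrCharacter_of_stab N hN T hNT θ hstab ψ'' hcψ''
        have h1 := classInner_restrict_indFun_self T ψ'' hirr''
        rw [hind''] at h1
        have h2 := classInner_eq_zero_of_ne N hN T hNT θ hstab ψ'' ψ' hne hcψ'
          (by rw [h1]; exact one_ne_zero)
        exact hcψ'' h2
      have hψ'k : ∀ t : T, (ψ' : T → ℂ) (t ^ k) = (ψ' : T → ℂ) t := by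
        intro t
        have := congrArg (fun x : Cfsg.IrrCharacter T => (x : T → ℂ) t) heq
        exact this
      have hover' : Cfsg.classInner (fun x : N.subgroupOf T => (ψ' : T → ℂ) x)
          (fun x => (θ : N → ℂ) (ee x)) ≠ 0 := by
        have h1 := classInner_comp_mulEquiv ee (fun n : N => (ψ' : T → ℂ) ⟨n, hNT n.2⟩)
          (θ : N → ℂ)
        have h2 : (fun x : N.subgroupOf T => (fun n : N => (ψ' : T → ℂ) ⟨n, hNT n.2⟩) (ee x))
            = fun x : N.subgroupOf T => (ψ' : T → ℂ) x := by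
          funext x
          change (ψ' : T → ℂ) ⟨((ee x : N) : G), _⟩ = (ψ' : T → ℂ) x
          congr 1
        rw [h2] at h1
        rw [h1]
        exact hcψ'
      have h3 := hψu (ψ' : T → ℂ) ψ'.2 hover' hψ'k
      apply Subtype.ext
      change (χ' : G → ℂ) = Cfsg.indFun T ψ
      rw [← hind', h3]

end Cfsg.Agent.S4519
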