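import Cfsg.Statements.S4521
import Mathlib
import Cfsg.Agent.Lib.Helper6.CentralProd
import Cfsg.Agent.Lib.Helper6.BlkPReg
import Cfsg.Agent.Lib.Helper6.BlkPrincipal
import Cfsg.Agent.Lib.Helper6.BrPrin

set_option autoImplicit false
open Cfsg

namespace Cfsg.Agent.S4521

open Cfsg.Agent.Lib.Helper6

open scoped ComplexConjugate

theorem classInner_one_one {H : Type*} [Group H] [Fintype H] :
    Cfsg.classInner (fun _ : H => (1 : ℂ)) (fun _ : H => (1 : ℂ)) ≠ 0 := by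
  unfold Cfsg.classInner
  have hH0 : (Nat.card H : ℂ) ≠ 0 := by
    have : Nat.card H ≠ 0 := Nat.card_pos.ne'
    exact_mod_cast this
  simp only [map_one, mul_one, Finset.sum_const, Finset.card_univ, nsmul_eq_mul]
  rw [← Nat.card_eq_fintype_card]
  exact mul_ne_zero (inv_ne_zero hH0) hH0

/-- Let the finite group G be generated by subgroups U₁ and U₂ that commute elementwise and whose intersection is a p-group, and let M be a maximal ideal of the algebraic integers containing the prime p. If the irreducible character χ of G has the irreducible constituents ψ₁ on U₁ and ψ₂ on U₂, then χ lies in the principal block of G if and only if ψ₁ and ψ₂ lie in the principal blocks of U₁ and U₂. -/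
theorem result {G : Type*} [Group G] [Fintype G] (p : ℕ) [Fact p.Prime] (M : Ideal Cfsg.AlgInt) (hM : Cfsg.IsPModular p M) (U₁ U₂ : Subgroup G) [Fintype U₁] [Fintype U₂] (hcomm : ∀ u ∈ U₁, ∀ v ∈ U₂, u * v = v * u) (hgen : U₁ ⊔ U₂ = ⊤) (hZ : IsPGroup p ↥(U₁ ⊓ U₂)) (χ : Cfsg.IrrCharacter G) (ψ₁ : Cfsg.IrrCharacter U₁) (ψ₂ : Cfsg.IrrCharacter U₂) (h₁ : Cfsg.classInner (fun u : U₁ => (χ : G → ℂ) u) (ψ₁ : U₁ → ℂ) ≠ 0) (h₂ : Cfsg.classInner (fun u : U₂ => (χ : G → ℂ) u) (ψ₂ : U₂ → ℂ) ≠ 0) : χ ∈ Cfsg.principalBlock M G ↔ (ψ₁ ∈ Cfsg.principalBlock M U₁ ∧ ψ₂ ∈ Cfsg.principalBlock M U₂) := by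
  classical
  haveI : Fact p.Prime := inferInstance
  have hone₁ : Cfsg.classInner (fun u : U₁ => ((oneIrr G : Cfsg.IrrCharacter G) : G → ℂ) u)
      ((oneIrr U₁ : Cfsg.IrrCharacter U₁) : U₁ → ℂ) ≠ 0 := classInner_one_one
  have hone₂ : Cfsg.classInner (fun u : U₂ => ((oneIrr G : Cfsg.IrrCharacter G) : G → ℂ) u)
      ((oneIrr U₂ : Cfsg.IrrCharacter U₂) : U₂ → ℂ) ≠ 0 := classInner_one_one
  have hF := fun (u₁ : U₁) (u₂ : U₂) (hr : ¬ p ∣ orderOf u₁) =>
    centralChar_mul_of_central_prod U₁ U₂ hcomm hgen hZ χ ψ₁ ψ₂ h₁ h₂ u₁ u₂ hr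
  have hF1 := fun (u₁ : U₁) (u₂ : U₂) (hr : ¬ p ∣ orderOf u₁) =>
    centralChar_mul_of_central_prod U₁ U₂ hcomm hgen hZ (oneIrr G) (oneIrr U₁) (oneIrr U₂)
      hone₁ hone₂ u₁ u₂ hr
  have hωS : ∀ {H : Type _} [Group H] [Fintype H] (θ : Cfsg.IrrCharacter H) (x : H),
      Cfsg.MemLocalRing M (Cfsg.centralChar (θ : H → ℂ) x) :=
    fun θ x => memLocalRing_of_isIntegral hM (IsIrrCharacter.isIntegral_centralChar' θ.2 x)
  rw [principalBlock_eq, principalBlock_eq, principalBlock_eq]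
  constructor
  · intro hχ
    have hχ' : ∀ g : G, Cfsg.MemLocalIdeal M
        (Cfsg.centralChar ((oneIrr G : Cfsg.IrrCharacter G) : G → ℂ) g
          - Cfsg.centralChar (χ : G → ℂ) g) := hχ
    constructor
    · apply sameBlock_of_forall_pRegular hM
      intro u₁ hr
      have h := hχ' ((u₁ : G) * ((1 : U₂) : G))
      rw [hF u₁ 1 hr, hF1 u₁ 1 hr, centralChar_one _ (IsIrrCharacter.apply_one_ne_zero ψ₂.2),
        centralChar_one _ (IsIrrCharacter.apply_one_ne_zero (oneIrr U₂).2), mul_one, mul_one] at h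
      exact h
    · apply sameBlock_of_forall_pRegular hM
      intro u₂ _
      have hr1 : ¬ p ∣ orderOf (1 : U₁) := by
        rw [orderOf_one]
        exact (Fact.out : p.Prime).one_lt.ne' ∘ Nat.dvd_one.mp
      have h := hχ' (((1 : U₁) : G) * (u₂ : G))
      rw [hF 1 u₂ hr1, hF1 1 u₂ hr1, centralChar_one _ (IsIrrCharacter.apply_one_ne_zero ψ₁.2),
        centralChar_one _ (IsIrrCharacter.apply_one_ne_zero (oneIrr U₁).2), one_mul, one_mul] at h
      exact h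
  · rintro ⟨hψ₁, hψ₂⟩
    have hψ₁' : ∀ u : U₁, Cfsg.MemLocalIdeal M
        (Cfsg.centralChar ((oneIrr U₁ : Cfsg.IrrCharacter U₁) : U₁ → ℂ) u
          - Cfsg.centralChar (ψ₁ : U₁ → ℂ) u) := hψ₁
    have hψ₂' : ∀ u : U₂, Cfsg.MemLocalIdeal M
        (Cfsg.centralChar ((oneIrr U₂ : Cfsg.IrrCharacter U₂) : U₂ → ℂ) u
          - Cfsg.centralChar (ψ₂ : U₂ → ℂ) u) := hψ₂
    apply sameBlock_of_forall_pRegular hM
    intro g hreg
    obtain ⟨a, ha, b, hb, rfl⟩ := exists_mul_of_commute_sup_eq_top U₁ U₂ hcomm hgen g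
    have hab : Commute a b := hcomm a ha b hb
    rw [mul_eq_prEl_mul_prEl hab hreg]
    have ha' : prEl p a ∈ U₁ :=
      (Subgroup.zpowers_le.mpr ha) (prEl_mem_zpowers (p := p) a)
    have hb' : prEl p b ∈ U₂ :=
      (Subgroup.zpowers_le.mpr hb) (prEl_mem_zpowers (p := p) b)
    have hra : ¬ p ∣ orderOf (⟨prEl p a, ha'⟩ : U₁) := by
      rw [← Subgroup.orderOf_coe]
      exact prEl_pRegular (p := p) a
    have e1 := hF ⟨prEl p a, ha'⟩ ⟨prEl p b, hb'⟩ hra
    have e2 := hF1 ⟨prEl p a, ha'⟩ ⟨prEl p b, hb'⟩ hra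
    simp only at e1 e2
    rw [e1, e2]
    have key : ∀ x y z w : ℂ, x * y - z * w = (x - z) * y + z * (y - w) := by
      intro x y z w; ring
    rw [key]
    exact MemLocalIdeal.add hM
      (MemLocalIdeal.mul_right hM (hψ₁' _) (hωS _ _))
      (MemLocalIdeal.mul_left hM (hωS _ _) (hψ₂' _))


end Cfsg.Agent.S4521
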