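import Cfsg.Statements.S4539
import Mathlib
import Cfsg.Agent.Lib.Helper6.Q2Sub
import Cfsg.Agent.Lib.Helper6.NAb1
import Cfsg.Agent.S0908
import Cfsg.Agent.Lib.Helper6.BlkDefectOne

set_option autoImplicit false
open Cfsg

namespace Cfsg.Agent.S4539

/-- Let B be a p-block of the finite group G (relative to a maximal ideal M of the algebraic integers containing p) of defect d with defect group D. Let z be an element of D commuting with every element of D, and let b be a block of the centralizer C of z with defect group D that induces B (a major subsection (z, b)). If b has p-regular rank at most two, then B contains at most p ^ d irreducible characters. -/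
theorem result {G : Type*} [Group G] [Finite G] (p : ℕ) [Fact p.Prime] (M : Ideal Cfsg.AlgInt) (hM : Cfsg.IsPModular p M) (B : Set (Cfsg.IrrCharacter G)) (hB : Cfsg.IsPBlock M B) (D : Subgroup G) (hD : Cfsg.IsDefectGroup p M B D) (z : G) (hzD : z ∈ D) (hzc : ∀ d ∈ D, d * z = z * d) (b : Set (Cfsg.IrrCharacter ↥(Subgroup.centralizer ({z} : Set G)))) (hb : Cfsg.IsInducedBlock M (Subgroup.centralizer ({z} : Set G)) b B) (hbD : Cfsg.IsDefectGroup p M b (D.subgroupOf (Subgroup.centralizer ({z} : Set G)))) (hl : Cfsg.blockRank p b ≤ 2) : Nat.card B ≤ p ^ Cfsg.blockDefect p B := by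

  classical
  haveI : Fintype G := Fintype.ofFinite G
  have hp : p.Prime := hM.1
  have hDL : D ≤ Subgroup.centralizer ({z} : Set G) := by
    intro x hx
    rw [Subgroup.mem_centralizer_iff]
    intro y hy
    rw [Set.mem_singleton_iff] at hy
    subst hy
    exact (hzc x hx).symm
  have hcD := Cfsg.Agent.S0908.result p M hM B hB D hD
  have hcb := Cfsg.Agent.S0908.result p M hM b hb.1 _ hbD
  have hcard : Nat.card (D.subgroupOf (Subgroup.centralizer ({z} : Set G))) = Nat.card D :=
    Nat.card_congr (Subgroup.subgroupOfEquivOfLe hDL).toEquiv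
  have hdefeq : Cfsg.blockDefect p b = Cfsg.blockDefect p B := by
    rw [hcard, hcD] at hcb
    exact (Nat.pow_right_injective hp.two_le hcb).symm
  have hzpow : z ^ (p ^ Cfsg.blockDefect p B) = 1 := by
    have h1 : (⟨z, hzD⟩ : D) ^ (Nat.card D) = 1 := pow_card_eq_one'
    rw [hcD] at h1
    exact congrArg (fun x : D => (x : G)) h1
  have hpos := Cfsg.Agent.Lib.Helper6.blockRank_pos hM b hb.1
  have hcases : Cfsg.blockRank p b = 1 ∨ Cfsg.blockRank p b = 2 := by omega
  rcases hcases with h1 | h2
  · exact Cfsg.Agent.Lib.Helper6.NAb.card_le_of_major_rank_one hM B _ rfl z hzpow _ rfl b hb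
      hdefeq h1
  · exact Cfsg.Agent.Lib.Helper6.Q2.card_le_of_major_rank_two hM B _ rfl z hzpow _ rfl b hb
      hdefeq h2


end Cfsg.Agent.S4539
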