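import Cfsg.Statements.S4541
import Mathlib
import Cfsg.Agent.Lib.Helper6.RobinsonTwo

set_option autoImplicit false
open Cfsg

namespace Cfsg.Agent.S4541

open Cfsg.Agent.Lib.Helper6


/-- Let B be a 2-block of the finite group G (relative to a maximal ideal M of the algebraic integers containing 2), u a 2-element, and b a block of the centralizer of u inducing B (a subsection (u, b)), of defect q and 2-regular rank l; write s for the integer square root of l and k₀(B) for the number of members of B of height zero. If s is odd then k₀(B) ≤ s·2 ^ q, and otherwise (s + 1)·k₀(B) ≤ l·2 ^ q; in particular k₀(B) ≤ 2 ^ q when l ≤ 3. -/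
theorem result {G : Type*} [Group G] [Finite G] (M : Ideal Cfsg.AlgInt) (hM : Cfsg.IsPModular 2 M) (B : Set (Cfsg.IrrCharacter G)) (hB : Cfsg.IsPBlock M B) (u : G) (hu : ∃ j : ℕ, orderOf u = 2 ^ j) (b : Set (Cfsg.IrrCharacter ↥(Subgroup.centralizer ({u} : Set G)))) (hb : Cfsg.IsInducedBlock M (Subgroup.centralizer ({u} : Set G)) b B) : (Odd (Nat.sqrt (Cfsg.blockRank 2 b)) → Nat.card {χ : Cfsg.IrrCharacter G // χ ∈ B ∧ Cfsg.blockHeight 2 B (χ : G → ℂ) = 0} ≤ Nat.sqrt (Cfsg.blockRank 2 b) * 2 ^ Cfsg.blockDefect 2 b) ∧ (¬ Odd (Nat.sqrt (Cfsg.blockRank 2 b)) → (Nat.sqrt (Cfsg.blockRank 2 b) + 1) * Nat.card {χ : Cfsg.IrrCharacter G // χ ∈ B ∧ Cfsg.blockHeight 2 B (χ : G → ℂ) = 0} ≤ Cfsg.blockRank 2 b * 2 ^ Cfsg.blockDefect 2 b) ∧ (Cfsg.blockRank 2 b ≤ 3 → Nat.card {χ : Cfsg.IrrCharacter G // χ ∈ B ∧ Cfsg.blockHeight 2 B (χ : G → ℂ) = 0} ≤ 2 ^ Cfsg.blockDefect 2 b) := by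

  classical
  haveI : Fintype G := Fintype.ofFinite G
  haveI : Fintype (Cfsg.IrrCharacter G) := Fintype.ofFinite _
  obtain ⟨S, hSdef⟩ : ∃ S : Finset (Cfsg.IrrCharacter G), S = Finset.univ.filter
      (fun χ : Cfsg.IrrCharacter G => χ ∈ B ∧ Cfsg.blockHeight 2 B (χ : G → ℂ) = 0) := ⟨_, rfl⟩
  have hcard : Nat.card {χ : Cfsg.IrrCharacter G // χ ∈ B ∧ Cfsg.blockHeight 2 B (χ : G → ℂ) = 0}
      = S.card := by
    rw [Nat.card_eq_fintype_card, Fintype.card_subtype, hSdef]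
  obtain ⟨X, hX, hsum⟩ := card_height_zero_two_refined hM u hu
    (Subgroup.centralizer ({u} : Set G)) rfl hb S
    (fun χ hχ => by
      rw [hSdef] at hχ
      exact (Finset.mem_filter.mp hχ).2)
  obtain ⟨h1, h2⟩ := robinson_two_arith S X (Cfsg.blockDefect 2 b) (Cfsg.blockRank 2 b) hX hsum
  rw [hcard]
  refine ⟨h1, h2, ?_⟩
  intro hl
  obtain ⟨l, hldef⟩ : ∃ l, l = Cfsg.blockRank 2 b := ⟨_, rfl⟩
  rw [← hldef] at h1 h2 hl
  have hcases : l = 0 ∨ l = 1 ∨ l = 2 ∨ l = 3 := by omega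
  rcases hcases with h | h | h | h
  · have hs : Nat.sqrt l = 0 := by rw [h]; exact (Nat.eq_sqrt'.mpr ⟨by norm_num, by norm_num⟩).symm
    have := h2 (by rw [hs]; decide)
    rw [hs, h] at this
    have h0 : S.card = 0 := by omega
    rw [h0]
    exact Nat.zero_le _
  · have hs : Nat.sqrt l = 1 := by rw [h]; exact (Nat.eq_sqrt'.mpr ⟨by norm_num, by norm_num⟩).symm
    have := h1 (by rw [hs]; decide)
    rw [hs, one_mul] at this
    exact this
  · have hs : Nat.sqrt l = 1 := by rw [h]; exact (Nat.eq_sqrt'.mpr ⟨by norm_num, by norm_num⟩).symm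
    have := h1 (by rw [hs]; decide)
    rw [hs, one_mul] at this
    exact this
  · have hs : Nat.sqrt l = 1 := by rw [h]; exact (Nat.eq_sqrt'.mpr ⟨by norm_num, by norm_num⟩).symm
    have := h1 (by rw [hs]; decide)
    rw [hs, one_mul] at this
    exact this


end Cfsg.Agent.S4541
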