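import Cfsg.Statements.S4550
import Mathlib
import Cfsg.Agent.Lib.Helper6.BlkDim
import Cfsg.Agent.Lib.Helper6.GaloisPerm
import Cfsg.Agent.Lib.Helper6.BlkPrincipal
import Cfsg.Agent.Lib.Helper6.BlkIdem

set_option autoImplicit false
open Cfsg

namespace Cfsg.Agent.S4550

open Cfsg.Agent.Lib.Helper6

section aux

variable {G : Type*} [Group G] [Fintype G] [DecidableEq G]

/-- centralizers of an element and of a generator-preserving power coincide -/
theorem centralizer_pow_eq (g : G) (k : ℕ) (hk : Nat.Coprime k (Nat.card G)) :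
    Subgroup.centralizer ({g ^ k} : Set G) = Subgroup.centralizer ({g} : Set G) := by
  obtain ⟨l, hl⟩ : ∃ l : ℕ, (g ^ k) ^ l = g := by
    have hc : Nat.Coprime k (orderOf g) := Nat.Coprime.coprime_dvd_right (orderOf_dvd_natCard g) hk
    have h1 : g ∈ Subgroup.zpowers (g ^ k) := by
      rw [mem_zpowers_pow_iff]
      exact hc
    obtain ⟨l, hl⟩ := (mem_powers_iff_mem_zpowers.mpr h1)
    exact ⟨l, hl⟩
  ext x
  rw [Subgroup.mem_centralizer_iff, Subgroup.mem_centralizer_iff]
  constructor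
  · intro h y hy
    rw [Set.mem_singleton_iff] at hy
    have h1 : Commute (g ^ k) x := h _ (Set.mem_singleton _)
    have h2 : Commute ((g ^ k) ^ l) x := h1.pow_left l
    rw [hl] at h2
    rw [hy]
    exact h2
  · intro h y hy
    rw [Set.mem_singleton_iff] at hy
    have h1 : Commute g x := h _ (Set.mem_singleton _)
    rw [hy]
    exact h1.pow_left k

theorem centralChar_powIrr (k : ℕ) (hk : Nat.Coprime k (Nat.card G)) (χ : Cfsg.IrrCharacter G)
    (g : G) : Cfsg.centralChar ((powIrr k hk χ : Cfsg.IrrCharacter G) : G → ℂ) g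
      = Cfsg.centralChar (χ : G → ℂ) (g ^ k) := by
  unfold Cfsg.centralChar
  rw [centralizer_pow_eq g k hk, powIrr_apply, powIrr_apply, one_pow]

theorem sameBlock_powIrr {M : Ideal Cfsg.AlgInt} (k : ℕ) (hk : Nat.Coprime k (Nat.card G))
    (χ ψ : Cfsg.IrrCharacter G) (h : Cfsg.SameBlock M (χ : G → ℂ) (ψ : G → ℂ)) :
    Cfsg.SameBlock M ((powIrr k hk χ : Cfsg.IrrCharacter G) : G → ℂ)
      ((powIrr k hk ψ : Cfsg.IrrCharacter G) : G → ℂ) := by
  intro g
  rw [centralChar_powIrr, centralChar_powIrr]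
  exact h (g ^ k)

end aux

theorem three_pow_modEq (a : ℕ) : 3 ^ (2 ^ a) ≡ 1 [MOD 2 ^ (a + 1)] := by
  have h := Nat.ModEq.pow_totient (x := 3) (n := 2 ^ (a + 1))
    (by apply Nat.Coprime.pow_right; decide)
  rw [Nat.totient_prime_pow_succ Nat.prime_two] at h
  simpa using h

/-- Let G be a finite group of even order and M a maximal ideal of the algebraic integers containing 2. Let k be a natural number with g ^ k = g ^ 3 for every 2-element g and g ^ k = g for every element g of odd order (such k exist); an irreducible character χ is unchanged by g ↦ g ^ k exactly when it is fixed by the field automorphism that cubes the 2-power roots of unity and fixes the roots of unity of odd order. Then the number of members χ of the principal 2-block of odd degree with χ (g ^ k) = χ g for all g is even. -/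
theorem result {G : Type*} [Group G] [Finite G] (M : Ideal Cfsg.AlgInt) (hM : Cfsg.IsPModular 2 M) (hev : Even (Nat.card G)) (k : ℕ) (hk₁ : ∀ g : G, (∃ j : ℕ, orderOf g = 2 ^ j) → g ^ k = g ^ 3) (hk₂ : ∀ g : G, Odd (orderOf g) → g ^ k = g) : Even (Nat.card {χ : Cfsg.IrrCharacter G // χ ∈ Cfsg.principalBlock M G ∧ Odd (Cfsg.charDegree (χ : G → ℂ)) ∧ ∀ g : G, (χ : G → ℂ) (g ^ k) = (χ : G → ℂ) g}) := by
  classical
  have : Fintype G := Fintype.ofFinite G
  have : Fintype (Cfsg.IrrCharacter G) := Fintype.ofFinite _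
  haveI : Fact (Nat.Prime 2) := ⟨Nat.prime_two⟩
  -- k is prime to the group order
  have hk : Nat.Coprime k (Nat.card G) := by
    apply Nat.coprime_of_dvd
    intro q hq hqk hqG
    haveI : Fact q.Prime := ⟨hq⟩
    obtain ⟨g, hg⟩ := exists_prime_orderOf_dvd_card' q hqG
    have hgk : g ^ k = 1 := by
      apply orderOf_dvd_iff_pow_eq_one.mp
      rw [hg]
      exact hqk
    have hg1 : g ≠ 1 := by
      intro h1
      rw [h1, orderOf_one] at hg
      exact hq.one_lt.ne hg
    rcases hq.eq_two_or_odd' with h2 | hodd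
    · have h3 := hk₁ g ⟨1, by rw [hg, h2, pow_one]⟩
      rw [hgk] at h3
      have hg2 : g ^ 2 = 1 := by
        rw [← orderOf_dvd_iff_pow_eq_one, hg, h2]
      apply hg1
      calc g = g ^ 2 * g := by rw [hg2, one_mul]
        _ = g ^ 3 := by rw [← pow_succ]
        _ = 1 := h3.symm
    · have h3 := hk₂ g (by rw [hg]; exact hodd)
      rw [hgk] at h3
      exact hg1 h3.symm
  -- the exponent
  set a := (Nat.card G).factorization 2 with ha
  have hA : ∀ (j : ℕ) (x : G), (∃ b : ℕ, orderOf x = 2 ^ b) → x ^ (k ^ j) = x ^ (3 ^ j) := by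
    intro j
    induction j with
    | zero => intro x _; simp
    | succ j ih =>
      intro x hx
      rw [pow_succ, pow_mul, ih x hx, pow_succ 3, pow_mul]
      apply hk₁
      obtain ⟨b, hb⟩ := hx
      have hd : orderOf (x ^ 3 ^ j) ∣ 2 ^ b := by
        rw [← hb]
        exact orderOf_pow_dvd _
      obtain ⟨c, _, hc⟩ := (Nat.dvd_prime_pow Nat.prime_two).mp hd
      exact ⟨c, hc⟩
  have hB : ∀ (j : ℕ) (x : G), Odd (orderOf x) → x ^ (k ^ j) = x := by
    intro j
    induction j with
    | zero => intro x _; simp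
    | succ j ih =>
      intro x hx
      rw [pow_succ, pow_mul, ih x hx]
      exact hk₂ x hx
  have hfix2 : ∀ x : G, (∃ b : ℕ, orderOf x = 2 ^ b) → x ^ (k ^ (2 ^ a)) = x := by
    intro x hx
    rw [hA _ x hx]
    obtain ⟨b, hb⟩ := hx
    have hba : b ≤ a := by
      have h1 : 2 ^ b ∣ Nat.card G := by
        rw [← hb]
        exact orderOf_dvd_natCard x
      exact (Nat.Prime.pow_dvd_iff_le_factorization Nat.prime_two Nat.card_pos.ne').mp h1
    have h2 : 3 ^ (2 ^ a) ≡ 1 [MOD 2 ^ b] :=
      (three_pow_modEq a).of_dvd (pow_dvd_pow 2 (by omega))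
    have h3 : x ^ (3 ^ (2 ^ a)) = x ^ 1 := by
      rw [pow_eq_pow_iff_modEq, hb]
      exact h2
    rw [h3, pow_one]
  have hfix : ∀ g : G, g ^ (k ^ (2 ^ a)) = g := by
    intro g
    obtain ⟨b, n', hn', hbn⟩ := Nat.exists_eq_two_pow_mul_odd (orderOf_pos g).ne'
    have hn'pos : 0 < n' := hn'.pos
    have h1 : k ^ (2 ^ a) ≡ 1 [MOD 2 ^ b] := by
      have ho : orderOf (g ^ n') = 2 ^ b := by
        rw [orderOf_pow_of_dvd hn'pos.ne' ⟨2 ^ b, by rw [hbn, mul_comm]⟩, hbn,
          Nat.mul_div_cancel _ hn'pos]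
      have h2 := hfix2 (g ^ n') ⟨b, ho⟩
      have h3 : (g ^ n') ^ (k ^ (2 ^ a)) = (g ^ n') ^ 1 := by rw [h2, pow_one]
      rw [pow_eq_pow_iff_modEq, ho] at h3
      exact h3
    have h2 : k ^ (2 ^ a) ≡ 1 [MOD n'] := by
      have ho : orderOf (g ^ (2 ^ b)) = n' := by
        rw [orderOf_pow_of_dvd (pow_pos (by norm_num) b).ne' ⟨n', hbn⟩, hbn,
          Nat.mul_div_cancel_left _ (pow_pos (by norm_num) b)]
      have h2 := hB (2 ^ a) (g ^ (2 ^ b)) (by rw [ho]; exact hn')
      have h3 : (g ^ (2 ^ b)) ^ (k ^ (2 ^ a)) = (g ^ (2 ^ b)) ^ 1 := by rw [h2, pow_one]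
      rw [pow_eq_pow_iff_modEq, ho] at h3
      exact h3
    have hcop : Nat.Coprime (2 ^ b) n' := by
      apply Nat.Coprime.pow_left
      exact (Nat.coprime_two_left.mpr hn')
    have h3 := (Nat.modEq_and_modEq_iff_modEq_mul hcop).mp ⟨h1, h2⟩
    rw [← hbn] at h3
    have h4 : g ^ (k ^ (2 ^ a)) = g ^ 1 := by
      rw [pow_eq_pow_iff_modEq]
      exact h3
    rw [h4, pow_one]
  -- the set X and the map
  have hstab : ∀ χ : Cfsg.IrrCharacter G, χ ∈ Cfsg.principalBlock M G →
      powIrr k hk χ ∈ Cfsg.principalBlock M G := by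
    intro χ hχ
    have h1 := sameBlock_powIrr (M := M) k hk (oneIrr G) χ hχ
    have h2 : powIrr k hk (oneIrr G) = oneIrr G := by
      apply Subtype.ext
      funext g
      rfl
    rw [h2] at h1
    exact h1
  let X := {χ : Cfsg.IrrCharacter G // χ ∈ Cfsg.principalBlock M G ∧ Odd (Cfsg.charDegree (χ : G → ℂ))}
  let f : Function.End X := fun x => ⟨powIrr k hk x.1, hstab _ x.2.1, by
    rw [charDegree_powIrr]; exact x.2.2⟩
  have hfpow : ∀ (n : ℕ) (x : X) (g : G), (((f ^ n) x).1 : G → ℂ) g = (x.1 : G → ℂ) (g ^ (k ^ n)) := by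
    intro n
    induction n with
    | zero => intro x g; rw [pow_zero, pow_zero, pow_one]; rfl
    | succ n ih =>
      intro x g
      rw [pow_succ']
      show ((f ((f ^ n) x)).1 : G → ℂ) g = _
      show (powIrr k hk ((f ^ n) x).1 : G → ℂ) g = _
      rw [powIrr_apply, ih, ← pow_mul, pow_succ']
  have hf1 : f ^ 2 ^ a = 1 := by
    funext x
    apply Subtype.ext
    apply Subtype.ext
    funext g
    rw [hfpow, hfix]
    rfl
  have hmod := Equiv.Perm.card_fixedPoints_modEq (p := 2) hf1
  -- the size of X is even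
  have hXeven : Even (Fintype.card X) := by
    obtain ⟨P⟩ : Nonempty (Sylow 2 G) := inferInstance
    have hP : Nat.card (P : Subgroup G) = 2 ^ a := Sylow.card_eq_multiplicity P
    have h1 := sum_sq_degree_eq_card_mul hM (oneIrr G) (P : Subgroup G) hP
    have ha1 : 1 ≤ a := by
      have h2 : 2 ∣ Nat.card G := even_iff_two_dvd.mp hev
      exact (Nat.Prime.dvd_iff_one_le_factorization Nat.prime_two Nat.card_pos.ne').mp h2
    have h2 : Even (∑ β ∈ Finset.univ.filter (· ∈ Cfsg.blockOf M ((oneIrr G : Cfsg.IrrCharacter G) : G → ℂ)),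
        Cfsg.charDegree (β : G → ℂ) ^ 2) := by
      rw [h1, hP]
      apply Even.mul_right
      rw [even_iff_two_dvd]
      exact dvd_pow_self 2 (by omega)
    rw [Finset.even_sum_iff_even_card_odd] at h2
    have h3 : Fintype.card X = (Finset.univ.filter (fun x : Cfsg.IrrCharacter G =>
        x ∈ Cfsg.blockOf M ((oneIrr G : Cfsg.IrrCharacter G) : G → ℂ) ∧
          Odd (Cfsg.charDegree (x : G → ℂ) ^ 2))).card := by
      rw [Fintype.card_subtype]
      apply Finset.card_bij (fun s _ => s)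
      · intro s hs
        rw [Finset.mem_filter] at hs ⊢
        refine ⟨Finset.mem_univ _, hs.2.1, ?_⟩
        exact hs.2.2.pow
      · intro s _ t _ h
        exact h
      · intro s hs
        rw [Finset.mem_filter] at hs
        refine ⟨s, ?_, rfl⟩
        rw [Finset.mem_filter]
        refine ⟨Finset.mem_univ _, hs.2.1, ?_⟩
        exact (Nat.odd_pow_iff (by norm_num)).mp hs.2.2
    rw [h3, ← Finset.filter_filter]
    exact h2
  -- the fixed points
  have hcard : Nat.card {χ : Cfsg.IrrCharacter G // χ ∈ Cfsg.principalBlock M G ∧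
      Odd (Cfsg.charDegree (χ : G → ℂ)) ∧ ∀ g : G, (χ : G → ℂ) (g ^ k) = (χ : G → ℂ) g}
      = Fintype.card (Function.fixedPoints f) := by
    rw [← Nat.card_eq_fintype_card]
    apply Nat.card_congr
    refine ⟨fun χ => ⟨⟨χ.1, χ.2.1, χ.2.2.1⟩, ?_⟩, fun x => ⟨x.1.1, x.1.2.1, x.1.2.2, ?_⟩, ?_, ?_⟩
    · show f _ = _
      apply Subtype.ext
      apply Subtype.ext
      funext g
      exact χ.2.2.2 g
    · intro g
      have h1 : f x.1 = x.1 := x.2
      have h2 := congrArg (fun y : X => (y.1 : G → ℂ) g) h1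
      exact h2
    · intro χ
      rfl
    · intro x
      rfl
  rw [hcard]
  have h5 : Fintype.card (Function.fixedPoints f) % 2 = Fintype.card X % 2 := hmod.symm
  rw [Nat.even_iff] at hXeven ⊢
  omega

end Cfsg.Agent.S4550
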