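import Cfsg.Statements.S4553
import Mathlib
import Cfsg.Agent.Lib.Helper6.GalFix3
import Cfsg.Agent.Lib.Helper1.PResidual
import Cfsg.Agent.Lib.Helper1.SplitPResidual1

set_option autoImplicit false
open Cfsg

namespace Cfsg.Agent.S4553

/-- Let G be a finite group, p a prime, P a Sylow p-subgroup, N the p-residual of G (the subgroup generated by the elements of order prime to p, the smallest normal subgroup with G/N a p-group), and M a maximal ideal of the algebraic integers containing p; suppose G/N is cyclic and nontrivial. Let k be a natural number with g ^ k = g ^ (1 + p) for every p-element g and g ^ k = g for every element g of order prime to p (so that χ (g ^ k) is the image of χ g under the field automorphism that raises p-power roots of unity to the power 1 + p and fixes the roots of unity of order prime to p). Then the number of members χ of the principal block of G of degree prime to p with χ (g ^ k) = χ g for all g equals p times the number of members θ of the principal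 block of N of degree prime to p that are invariant under conjugation by P and satisfy θ (n ^ k) = θ n for all n. -/
theorem result {G : Type*} [Group G] [Finite G] (p : ℕ) [Fact p.Prime] (M : Ideal Cfsg.AlgInt) (hM : Cfsg.IsPModular p M) (P : Sylow p G) (N : Subgroup G) [hN : N.Normal] (hNres : N = Cfsg.pResidual p G) (hcyc : IsCyclic (G ⧸ N)) (hnt : N ≠ ⊤) (k : ℕ) (hk₁ : ∀ g : G, (∃ j : ℕ, orderOf g = p ^ j) → g ^ k = g ^ (1 + p)) (hk₂ : ∀ g : G, Nat.Coprime (orderOf g) p → g ^ k = g) : Nat.card {χ : Cfsg.IrrCharacter G // χ ∈ Cfsg.principalBlock M G ∧ ¬ p ∣ Cfsg.charDegree (χ : G → ℂ) ∧ ∀ g : G, (χ : G → ℂ) (g ^ k) = (χ : G → ℂ) g} = p * Nat.card {θ : Cfsg.IrrCharacter ↥N // θ ∈ Cfsg.principalBlock M ↥N ∧ ¬ p ∣ Cfsg.charDegree (θ : ↥N → ℂ) ∧ (∀ x ∈ (P : Subgroup G), ∀ n : ↥N, (θ : ↥N → ℂ) ⟨x * n * x⁻¹, hN.conj_mem n n.2 x⟩ = (θ : ↥N → ℂ) n) ∧ ∀ n : ↥N, (θ : ↥N → ℂ) (n ^ k) = (θ : ↥N → ℂ) n} := by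
  subst hNres
  have hp : p.Prime := Fact.out
  obtain ⟨a, ha⟩ := IsPGroup.iff_card.mp
    (Cfsg.Agent.Lib.Helper1.isPGroup_quotient_pResidual (G := G) p)
  have hidx : (Cfsg.pResidual p G).index = p ^ a := ha
  have hdvd : p ∣ (Cfsg.pResidual p G).index := by
    rw [hidx]
    have : a ≠ 0 := by
      rintro rfl
      rw [pow_zero] at hidx
      exact hnt (Subgroup.index_eq_one.mp hidx)
    exact dvd_pow_self p this
  have hk : Nat.Coprime k (Nat.card G) := by
    apply Nat.Coprime.symm
    apply Nat.coprime_of_dvd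
    intro q hq hqG hqk
    haveI : Fact q.Prime := ⟨hq⟩
    obtain ⟨g, hg⟩ := exists_prime_orderOf_dvd_card' q hqG
    have hgk : g ^ k = g := by
      by_cases hqp : q = p
      · have h1 := hk₁ g ⟨1, by rw [hg, hqp, pow_one]⟩
        rw [h1, pow_add, pow_one, ← hqp, ← hg, pow_orderOf_eq_one, mul_one]
      · apply hk₂
        rw [hg]
        exact (Nat.coprime_primes hq hp).mpr hqp
    have h2 : g ^ k = 1 := by
      obtain ⟨m, rfl⟩ := hqk
      rw [pow_mul, ← hg, pow_orderOf_eq_one, one_pow]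
    rw [h2] at hgk
    rw [← hgk, orderOf_one] at hg
    exact hq.ne_one hg.symm
  have hPN : (P : Subgroup G) ⊔ Cfsg.pResidual p G = ⊤ :=
    Cfsg.Agent.Lib.Helper1.sylow_sup_pResidual_eq_top P
  have hkQ : ∀ x : G ⧸ Cfsg.pResidual p G, x ^ k = x ^ (1 + p) := by
    intro x
    obtain ⟨g, rfl⟩ := QuotientGroup.mk_surjective x
    have hg : g ∈ (P : Subgroup G) ⊔ Cfsg.pResidual p G := by
      rw [hPN]
      exact Subgroup.mem_top g
    rw [← SetLike.mem_coe, Subgroup.mul_normal] at hg
    obtain ⟨x, hx, n, hn, rfl⟩ := Set.mem_mul.mp hg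
    have hmk : (QuotientGroup.mk (x * n) : G ⧸ Cfsg.pResidual p G) = QuotientGroup.mk x := by
      rw [QuotientGroup.mk_mul, (QuotientGroup.eq_one_iff n).mpr hn, mul_one]
    rw [hmk, ← QuotientGroup.mk_pow, ← QuotientGroup.mk_pow]
    congr 1
    apply hk₁
    obtain ⟨j, hj⟩ := P.isPGroup' ⟨x, hx⟩
    have h1 : x ^ p ^ j = 1 := by
      have := congrArg Subtype.val hj
      simpa using this
    obtain ⟨i, -, hi⟩ := (Nat.dvd_prime_pow hp).mp (orderOf_dvd_of_pow_eq_one h1)
    exact ⟨i, hi⟩
  exact Cfsg.Agent.Lib.Helper6.GalFix.card_galois_fixed p M hM (P : Subgroup G)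
    (Cfsg.pResidual p G) hPN a hidx hdvd hcyc
    (Cfsg.Agent.Lib.Helper1.pResidual_pResidual_eq_top p) k hk hkQ

end Cfsg.Agent.S4553
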