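import Cfsg.Statements.S4558
import Mathlib
import Cfsg.Agent.Lib.Helper6.Constituent
import Cfsg.Agent.Lib.Helper6.CharBasic

set_option autoImplicit false
open Cfsg

namespace Cfsg.Agent.S4558

/-- If a sum of `p`-power roots of unity vanishes, the number of terms is divisible by `p`. -/
theorem dvd_card_of_sum_roots_eq_zero {ι : Type*} [Fintype ι] (p j : ℕ) [Fact p.Prime]
    (μ : ι → ℂ) (hμ : ∀ i, μ i ^ (p ^ (j + 1)) = 1) (hsum : ∑ i, μ i = 0) :
    p ∣ Fintype.card ι := by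
  classical
  have hp : p.Prime := Fact.out
  have hn0 : p ^ (j + 1) ≠ 0 := pow_ne_zero _ hp.ne_zero
  have : NeZero (p ^ (j + 1)) := ⟨hn0⟩
  have hζ : IsPrimitiveRoot (Complex.exp (2 * Real.pi * Complex.I / ((p ^ (j + 1) : ℕ) : ℂ)))
      (p ^ (j + 1)) := Complex.isPrimitiveRoot_exp _ hn0
  set ζ := Complex.exp (2 * Real.pi * Complex.I / ((p ^ (j + 1) : ℕ) : ℂ)) with hζdef
  have hk : ∀ i, ∃ k : ℕ, ζ ^ k = μ i := by
    intro i
    obtain ⟨k, _, hk⟩ := hζ.eq_pow_of_pow_eq_one (hμ i)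
    exact ⟨k, hk⟩
  choose k hk using hk
  let f : Polynomial ℤ := ∑ i, Polynomial.X ^ (k i)
  have hf : Polynomial.aeval ζ f = 0 := by
    simp only [f, map_sum, map_pow, Polynomial.aeval_X]
    rw [← hsum]
    exact Finset.sum_congr rfl (fun i _ => hk i)
  have hint : IsIntegral ℤ ζ := hζ.isIntegral (Nat.pos_of_ne_zero hn0)
  have hdvd : minpoly ℤ ζ ∣ f := minpoly.isIntegrallyClosed_dvd hint hf
  rw [← Polynomial.cyclotomic_eq_minpoly hζ (Nat.pos_of_ne_zero hn0)] at hdvd
  have h1 := Polynomial.eval_dvd (x := (1 : ℤ)) hdvd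
  rw [Polynomial.eval_one_cyclotomic_prime_pow] at h1
  have h2 : Polynomial.eval 1 f = (Fintype.card ι : ℤ) := by
    simp [f, Polynomial.eval_finsetSum]
  rw [h2] at h1
  exact_mod_cast h1


/-- Let χ be a character of the finite group G and g an element of p-power order for the prime p. If χ g = 0, then p divides the degree of χ. -/
theorem result {G : Type*} [Group G] [Finite G] (p : ℕ) [Fact p.Prime] (χ : G → ℂ) (hχ : Cfsg.IsCharacter G χ) (g : G) (hg : ∃ j : ℕ, orderOf g = p ^ j) (h0 : χ g = 0) : p ∣ Cfsg.charDegree χ := by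
  classical
  have : Fintype G := Fintype.ofFinite G
  obtain ⟨j, hj⟩ := hg
  have h1 := Cfsg.Agent.Lib.Helper6.IsCharacter.apply_one_eq_charDegree hχ
  rcases Nat.eq_zero_or_pos j with hj0 | hjpos
  · -- `g = 1`
    rw [hj0, pow_zero, orderOf_eq_one_iff] at hj
    rw [hj, h1] at h0
    have : Cfsg.charDegree χ = 0 := by exact_mod_cast h0
    rw [this]
    exact dvd_zero p
  · obtain ⟨j', rfl⟩ : ∃ j', j = j' + 1 := ⟨j - 1, by omega⟩
    obtain ⟨n, ρ, rfl⟩ := hχ
    obtain ⟨ι, _, b, μ, hb, hμ⟩ := Cfsg.Agent.Lib.Helper6.exists_eigenbasis_rep ρ g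
    rw [hj] at hμ
    have htr : ρ.character g = ∑ i, μ i :=
      Cfsg.Agent.Lib.Helper6.trace_eq_sum_of_eigenbasis b μ (ρ g) hb
    rw [htr] at h0
    have hdvd := dvd_card_of_sum_roots_eq_zero p j' μ hμ h0
    have hcard : Fintype.card ι = Module.finrank ℂ (Fin n → ℂ) :=
      (Module.finrank_eq_card_basis b).symm
    rw [Representation.char_one] at h1
    have h2 : Module.finrank ℂ (Fin n → ℂ) = Cfsg.charDegree ρ.character := by exact_mod_cast h1
    rw [← h2, ← hcard]
    exact hdvd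


end Cfsg.Agent.S4558
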