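import Cfsg.Statements.S4560
import Mathlib
import Cfsg.Agent.Lib.Helper6.AltVan5

set_option autoImplicit false
open Cfsg

namespace Cfsg.Agent.S4560

open Cfsg.Agent.Lib.Helper6 Cfsg.Agent.Lib.Helper6.AltVan

/-- For n ≥ 7 the alternating group on n letters has an irreducible character that vanishes at some 2-element and is the restriction of an irreducible character of the symmetric group, and an irreducible character that vanishes at some element of order 3 and is the restriction of an irreducible character of the symmetric group. -/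
theorem result (n : ℕ) (hn : 7 ≤ n) : (∃ χ : Cfsg.IrrCharacter (alternatingGroup (Fin n)), (∃ x : alternatingGroup (Fin n), (∃ j : ℕ, orderOf x = 2 ^ j) ∧ (χ : alternatingGroup (Fin n) → ℂ) x = 0) ∧ ∃ ψ : Cfsg.IrrCharacter (Equiv.Perm (Fin n)), ∀ x : alternatingGroup (Fin n), (ψ : Equiv.Perm (Fin n) → ℂ) x = (χ : alternatingGroup (Fin n) → ℂ) x) ∧ (∃ χ : Cfsg.IrrCharacter (alternatingGroup (Fin n)), (∃ y : alternatingGroup (Fin n), orderOf y = 3 ∧ (χ : alternatingGroup (Fin n) → ℂ) y = 0) ∧ ∃ ψ : Cfsg.IrrCharacter (Equiv.Perm (Fin n)), ∀ x : alternatingGroup (Fin n), (ψ : Equiv.Perm (Fin n) → ℂ) x = (χ : alternatingGroup (Fin n) → ℂ) x) := by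

  classical
  have hTS := multTrans_perm (X := Fin n) 4
  have hTA := multTrans_alternatingGroup (X := Fin n) 4 (by simp; omega)
  have hX : 4 ≤ Fintype.card (Fin n) := by simp; omega
  obtain ⟨s1, s2, s3⟩ := isIrrCharacter_chi hTS hX
  obtain ⟨a1, a2, a3⟩ := isIrrCharacter_chi hTA hX
  have hord : ∀ (g : Equiv.Perm (Fin n)) (hg : g ∈ alternatingGroup (Fin n)),
      orderOf (⟨g, hg⟩ : alternatingGroup (Fin n)) = orderOf g := by
    intro g hg
    exact Subgroup.orderOf_mk g hg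
  refine ⟨?_, ?_⟩
  · rcases Nat.even_or_odd n with ⟨j, hj⟩ | ⟨k, hk⟩
    · rcases Nat.even_or_odd j with ⟨k, hk⟩ | ⟨k, hk⟩
      · -- n = 4k
        obtain ⟨g, hg, hsum, h3, hdvd⟩ := exists_two_elt_b (X := Fin n) k (by omega)
          (by simp; omega)
        refine ⟨⟨chi2 (alternatingGroup (Fin n)) (Fin n), a2⟩, ⟨⟨g, hg⟩, ?_, ?_⟩,
          ⟨chi2 (Equiv.Perm (Fin n)) (Fin n), s2⟩, fun x => chi2_subgroup _ x⟩
        · rw [hord]
          exact exists_pow_two_of_dvd_eight (orderOf_dvd_of_cycleType g 8 hdvd)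
        · show chi2 (alternatingGroup (Fin n)) (Fin n) ⟨g, hg⟩ = 0
          rw [← chi2_subgroup]
          exact chi2_eq_zero g (by simp; omega) h3
      · -- n = 4k + 2
        obtain ⟨g, hg, hsum, h3, hdvd⟩ := exists_two_elt_b (X := Fin n) k (by omega)
          (by simp; omega)
        refine ⟨⟨chi3 (alternatingGroup (Fin n)) (Fin n), a3⟩, ⟨⟨g, hg⟩, ?_, ?_⟩,
          ⟨chi3 (Equiv.Perm (Fin n)) (Fin n), s3⟩, fun x => chi3_subgroup _ x⟩
        · rw [hord]
          exact exists_pow_two_of_dvd_eight (orderOf_dvd_of_cycleType g 8 hdvd)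
        · show chi3 (alternatingGroup (Fin n)) (Fin n) ⟨g, hg⟩ = 0
          rw [← chi3_subgroup]
          exact chi3_eq_zero g (by simp; omega) h3
    · -- n = 2k + 1
      obtain ⟨g, hg, hsum, hdvd⟩ := exists_two_elt_a (X := Fin n) k (by omega) (by simp; omega)
      refine ⟨⟨chi1 (alternatingGroup (Fin n)) (Fin n), a1⟩, ⟨⟨g, hg⟩, ?_, ?_⟩,
        ⟨chi1 (Equiv.Perm (Fin n)) (Fin n), s1⟩, fun x => chi1_subgroup _ x⟩
      · rw [hord]
        exact exists_pow_two_of_dvd_eight (orderOf_dvd_of_cycleType g 8 hdvd)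
      · show chi1 (alternatingGroup (Fin n)) (Fin n) ⟨g, hg⟩ = 0
        rw [← chi1_subgroup]
        exact chi1_eq_zero g (by simp; omega)
  · have hdm := Nat.div_add_mod n 3
    have hlt := Nat.mod_lt n (by norm_num : 0 < 3)
    obtain ⟨g, hg, hsum, h3, ho⟩ := exists_three_elt (X := Fin n) (n / 3) (by omega)
      (by simp; omega)
    have hcases : n % 3 = 0 ∨ n % 3 = 1 ∨ n % 3 = 2 := by omega
    rcases hcases with h0 | h1 | h2
    · refine ⟨⟨chi2 (alternatingGroup (Fin n)) (Fin n), a2⟩, ⟨⟨g, hg⟩, ?_, ?_⟩,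
        ⟨chi2 (Equiv.Perm (Fin n)) (Fin n), s2⟩, fun x => chi2_subgroup _ x⟩
      · rw [hord]
        exact ho
      · show chi2 (alternatingGroup (Fin n)) (Fin n) ⟨g, hg⟩ = 0
        rw [← chi2_subgroup]
        exact chi2_eq_zero g (by simp; omega) h3
    · refine ⟨⟨chi1 (alternatingGroup (Fin n)) (Fin n), a1⟩, ⟨⟨g, hg⟩, ?_, ?_⟩,
        ⟨chi1 (Equiv.Perm (Fin n)) (Fin n), s1⟩, fun x => chi1_subgroup _ x⟩
      · rw [hord]
        exact ho
      · show chi1 (alternatingGroup (Fin n)) (Fin n) ⟨g, hg⟩ = 0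
        rw [← chi1_subgroup]
        exact chi1_eq_zero g (by simp; omega)
    · refine ⟨⟨chi3 (alternatingGroup (Fin n)) (Fin n), a3⟩, ⟨⟨g, hg⟩, ?_, ?_⟩,
        ⟨chi3 (Equiv.Perm (Fin n)) (Fin n), s3⟩, fun x => chi3_subgroup _ x⟩
      · rw [hord]
        exact ho
      · show chi3 (alternatingGroup (Fin n)) (Fin n) ⟨g, hg⟩ = 0
        rw [← chi3_subgroup]
        exact chi3_eq_zero g (by simp; omega) h3


end Cfsg.Agent.S4560
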