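import Cfsg.Statements.S4565
import Mathlib
import Cfsg.Agent.Lib.Helper3.FullyRam2
-- import your own Cfsg.Agent.* helpers here

set_option autoImplicit false
open Cfsg

namespace Cfsg.Agent.S4565

open Cfsg.Agent.Lib.Helper3.FullyRam


theorem result' {H : Type*} [Group H] [Finite H] (Z : Subgroup H) [Z.Normal] (χ : Cfsg.IrrCharacter H) (hfr : ∃ (θ : Cfsg.IrrCharacter ↥Z) (e : ℕ), e ^ 2 = Z.index ∧ ∀ z : ↥Z, (χ : H → ℂ) z = (e : ℂ) * (θ : ↥Z → ℂ) z) (hZ : Z ≠ ⊤) (C : Subgroup (H ⧸ Z)) (hC : IsCyclic C) : Subgroup.centralizer (C : Set (H ⧸ Z)) ≠ C := by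
  classical
  intro hcent
  have : Fintype H := Fintype.ofFinite H
  have : Fintype Z := Fintype.ofFinite Z
  obtain ⟨θ, e, he, hres⟩ := hfr
  obtain ⟨⟨c, hcC⟩, hgen⟩ := hC.exists_generator
  obtain ⟨g, rfl⟩ := QuotientGroup.mk_surjective c
  -- every element of C is a power of mk g
  have hpow : ∀ y : H ⧸ Z, y ∈ C → ∃ k : ℤ, (QuotientGroup.mk g : H ⧸ Z) ^ k = y := by
    intro y hy
    obtain ⟨k, hk⟩ := Subgroup.mem_zpowers_iff.mp (hgen ⟨y, hy⟩)
    refine ⟨k, ?_⟩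
    have := congrArg Subtype.val hk
    simpa using this
  have hg : g ∉ Z := by
    intro hgZ
    have h1 : (QuotientGroup.mk g : H ⧸ Z) = 1 := (QuotientGroup.eq_one_iff g).mpr hgZ
    have hCbot : C = ⊥ := by
      rw [eq_bot_iff]
      intro y hy
      obtain ⟨k, hk⟩ := hpow y hy
      rw [h1, one_zpow] at hk
      rw [Subgroup.mem_bot]
      exact hk.symm
    rw [hCbot] at hcent
    have h2 : ∀ y : H ⧸ Z, y = 1 := by
      intro y
      have : y ∈ Subgroup.centralizer (((⊥ : Subgroup (H ⧸ Z)) : Subgroup (H ⧸ Z)) : Set (H ⧸ Z)) := by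
        rw [Subgroup.mem_centralizer_iff]
        intro x hx
        have hx1 : x = 1 := by simpa using hx
        rw [hx1]
        simp
      rw [hcent] at this
      simpa using this
    apply hZ
    rw [eq_top_iff]
    intro x _
    exact (QuotientGroup.eq_one_iff x).mp (h2 _)
  apply false_of_coset_conj Z χ.2 θ.2 e he hres g hg
  intro u z hconj
  obtain ⟨x, hx⟩ := isConj_iff.mp hconj
  -- image of g * u is mk g
  have hmk : (QuotientGroup.mk (g * u) : H ⧸ Z) = QuotientGroup.mk g := by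
    rw [QuotientGroup.mk_mul, (QuotientGroup.eq_one_iff (u : H)).mpr u.2, mul_one]
  have hmkz : (QuotientGroup.mk (g * u * z) : H ⧸ Z) = QuotientGroup.mk g := by
    rw [QuotientGroup.mk_mul, (QuotientGroup.eq_one_iff (z : H)).mpr z.2, mul_one, hmk]
  have hcomm : (QuotientGroup.mk x : H ⧸ Z) * QuotientGroup.mk g
      = QuotientGroup.mk g * QuotientGroup.mk x := by
    have h1 := congrArg (QuotientGroup.mk : H → H ⧸ Z) hx
    rw [hmkz, QuotientGroup.mk_mul, QuotientGroup.mk_mul, hmk, QuotientGroup.mk_inv] at h1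
    calc (QuotientGroup.mk x : H ⧸ Z) * QuotientGroup.mk g
        = (QuotientGroup.mk x * QuotientGroup.mk g * (QuotientGroup.mk x)⁻¹) * QuotientGroup.mk x := by
          group
      _ = _ := by rw [h1]
  have hxC : (QuotientGroup.mk x : H ⧸ Z) ∈ C := by
    rw [← hcent, Subgroup.mem_centralizer_iff]
    intro y hy
    obtain ⟨k, hk⟩ := hpow y hy
    rw [← hk]
    exact ((Commute.zpow_left (show Commute (QuotientGroup.mk g : H ⧸ Z) (QuotientGroup.mk x) from hcomm.symm) k)).eq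
  obtain ⟨k, hk⟩ := hpow _ hxC
  have hk' : (QuotientGroup.mk ((g * u) ^ k) : H ⧸ Z) = QuotientGroup.mk x := by
    rw [QuotientGroup.mk_zpow, hmk, hk]
  have hwZ : x * ((g * u) ^ k)⁻¹ ∈ Z := by
    have h1 : ((g * u) ^ k)⁻¹ * x ∈ Z := QuotientGroup.eq.mp hk'
    have h2 := ‹Z.Normal›.conj_mem _ h1 x
    have h3 : x * (((g * u) ^ k)⁻¹ * x) * x⁻¹ = x * ((g * u) ^ k)⁻¹ := by group
    rwa [h3] at h2
  refine ⟨⟨x * ((g * u) ^ k)⁻¹, hwZ⟩, ?_⟩
  rw [← hx]
  change x * ((g * u) ^ k)⁻¹ * (g * u) * (x * ((g * u) ^ k)⁻¹)⁻¹ = _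
  have h4 : ((g * u) ^ k)⁻¹ * (g * u) * (g * u) ^ k = g * u := by
    have : Commute ((g * u) ^ k) (g * u) := (Commute.refl (g * u)).zpow_left k
    rw [mul_assoc, ← this.eq, inv_mul_cancel_left]
  calc x * ((g * u) ^ k)⁻¹ * (g * u) * (x * ((g * u) ^ k)⁻¹)⁻¹
      = x * (((g * u) ^ k)⁻¹ * (g * u) * (g * u) ^ k) * x⁻¹ := by group
    _ = x * (g * u) * x⁻¹ := by rw [h4]





/-- Let χ be an irreducible character of the finite group H that is fully ramified over the normal subgroup Z: the restriction of χ to Z is e times an irreducible character of Z with e ^ 2 equal to the index of Z. If Z ≠ H, then H/Z has no cyclic subgroup that is its own centralizer. -/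
theorem result {H : Type*} [Group H] [Finite H] (Z : Subgroup H) [Z.Normal] (χ : Cfsg.IrrCharacter H) (hfr : ∃ (θ : Cfsg.IrrCharacter ↥Z) (e : ℕ), e ^ 2 = Z.index ∧ ∀ z : ↥Z, (χ : H → ℂ) z = (e : ℂ) * (θ : ↥Z → ℂ) z) (hZ : Z ≠ ⊤) (C : Subgroup (H ⧸ Z)) (hC : IsCyclic C) : Subgroup.centralizer (C : Set (H ⧸ Z)) ≠ C := by
  exact result' Z χ hfr hZ C hC

end Cfsg.Agent.S4565
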