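import Cfsg.Statements.S4566
import Mathlib
import Cfsg.Agent.Lib.Helper6.Ramified
import Cfsg.Agent.Lib.Helper6.CenterIndex

set_option autoImplicit false
open Cfsg

namespace Cfsg.Agent.S4566

/-- Let N be a central subgroup of the finite group G, ψ a faithful irreducible (hence degree-one) character of N, and χ an irreducible character of G whose restriction to N contains ψ. If g ∈ G and some x ∈ G has commutator x⁻¹ g⁻¹ x g in N but different from 1, then χ g = 0. -/
theorem result {G : Type*} [Group G] [Fintype G] (N : Subgroup G) [Fintype N] (hN : N ≤ Subgroup.center G) (ψ : Cfsg.IrrCharacter ↥N) (hfaith : ∀ n : ↥N, (ψ : ↥N → ℂ) n = (ψ : ↥N → ℂ) 1 → n = 1) (χ : Cfsg.IrrCharacter G) (hover : Cfsg.classInner (fun n : ↥N => (χ : G → ℂ) n) (ψ : ↥N → ℂ) ≠ 0) (g x : G) (hcomm : x⁻¹ * g⁻¹ * x * g ∈ N) (hne : x⁻¹ * g⁻¹ * x * g ≠ 1) : (χ : G → ℂ) g = 0 := by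
  classical
  obtain ⟨χf, hχ⟩ := χ
  obtain ⟨ψf, hψ⟩ := ψ
  simp only at hfaith hover ⊢
  have hNn : N.Normal := by
    constructor
    intro n hn y
    have h1 := Subgroup.mem_center_iff.mp (hN hn) y
    have : y * n * y⁻¹ = n := by rw [h1]; group
    rw [this]; exact hn
  -- ψ is invariant
  have hinv : ∀ y : G, Cfsg.Agent.Lib.Helper6.conjFun N hNn ψf y = ψf := by
    intro y
    funext n
    rw [Cfsg.Agent.Lib.Helper6.conjFun_apply]
    congr 1
    apply Subtype.ext
    have h1 := Subgroup.mem_center_iff.mp (hN n.2) y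
    change y * (n : G) * y⁻¹ = (n : G)
    rw [h1]; group
  have hres := Cfsg.Agent.Lib.Helper6.restrict_eq_smul_of_invariant N hNn hχ hψ hinv hover
  set e := Cfsg.classInner (fun n : N => χf n) ψf with he
  obtain ⟨m, ρ, hρirr, hρ⟩ := hχ
  set z : G := x⁻¹ * g⁻¹ * x * g with hz
  obtain ⟨c, hc, _⟩ := Cfsg.Agent.Lib.Helper6.exists_scalar_of_mem_center ρ (hN hcomm)
  have hmulz : ∀ y : G, χf (z * y) = c * χf y := by
    intro y
    rw [← hρ]
    unfold Representation.character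
    rw [map_mul, hc, smul_mul_assoc, map_smul, smul_eq_mul]
    rfl
  -- c ≠ 1
  have hc1 : c ≠ 1 := by
    intro h1
    apply hne
    have hz1 : (⟨z, hcomm⟩ : N) = 1 := by
      apply hfaith
      have h2 := congrFun hres ⟨z, hcomm⟩
      have h3 := congrFun hres 1
      simp only [Pi.smul_apply, smul_eq_mul] at h2 h3
      have h4 : χf z = χf 1 := by
        have := hmulz 1
        rw [mul_one, h1, one_mul] at this
        exact this
      have h5 : e * ψf ⟨z, hcomm⟩ = e * ψf 1 := by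
        rw [← h2, ← h3]
        exact h4
      exact mul_left_cancel₀ hover h5
    exact congrArg Subtype.val hz1
  -- χ(g⁻¹) = c χ(g⁻¹)
  have hcf := Cfsg.Agent.Lib.Helper6.IsCharacter.isClassFunction (⟨m, ρ, hρ⟩ : Cfsg.IsCharacter G χf)
  have h1 : χf (x⁻¹ * g⁻¹ * x) = χf g⁻¹ := by
    have := hcf g⁻¹ x⁻¹
    rw [inv_inv] at this
    exact this
  have h2 : x⁻¹ * g⁻¹ * x = z * g⁻¹ := by
    rw [hz]; group
  rw [h2, hmulz] at h1
  have h3 : (c - 1) * χf g⁻¹ = 0 := by rw [sub_mul, h1, one_mul, sub_self]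
  have h4 : χf g⁻¹ = 0 := by
    rcases mul_eq_zero.mp h3 with h | h
    · exact absurd (sub_eq_zero.mp h) hc1
    · exact h
  have h5 := Cfsg.Agent.Lib.Helper6.IsCharacter.apply_inv (⟨m, ρ, hρ⟩ : Cfsg.IsCharacter G χf) g
  rw [h4] at h5
  have h6 : (starRingEnd ℂ) (χf g) = 0 := h5.symm
  exact (map_eq_zero _).mp h6


end Cfsg.Agent.S4566
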