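import Cfsg.Statements.S4571
import Mathlib
import Cfsg.Agent.Lib.Helper6.BlkCentQuot
import Cfsg.Agent.Lib.Helper6.BlkPrincipal

set_option autoImplicit false
open Cfsg

namespace Cfsg.Agent.S4571

open Cfsg.Agent.Lib.Helper6
open scoped ComplexConjugate

/-- Let Q be a normal p-subgroup of the finite group G with G = Q·C_G(Q), and M a maximal ideal of the algebraic integers containing p. Then the principal p-blocks of G and of G/Q have the same p-regular rank (the same number of irreducible Brauer characters). -/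
theorem result {G : Type*} [Group G] [Finite G] (p : ℕ) [Fact p.Prime] (M : Ideal Cfsg.AlgInt) (hM : Cfsg.IsPModular p M) (Q : Subgroup G) [Q.Normal] (hQ : IsPGroup p Q) (hsup : Q ⊔ Subgroup.centralizer (Q : Set G) = ⊤) : Cfsg.blockRank p (Cfsg.principalBlock M G) = Cfsg.blockRank p (Cfsg.principalBlock M (G ⧸ Q)) := by
  classical
  haveI : Fintype G := Fintype.ofFinite G
  haveI : Fintype (G ⧸ Q) := Fintype.ofFinite _
  haveI : Fintype (Cfsg.IrrCharacter G) := Fintype.ofFinite _
  haveI : Fintype (Cfsg.IrrCharacter (G ⧸ Q)) := Fintype.ofFinite _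
  have hpp : p.Prime := Fact.out
  have hidx := index_centralizer_of_sup_eq_top Q hQ hsup
  have hG0 : (Nat.card G : ℂ) ≠ 0 := card_ne_zero_complex G
  rw [principalBlock_eq, principalBlock_eq]
  have hA := sum_regular_sq_eq_blockRank hM (oneIrr G)
  have hB := sum_regular_sq_eq_blockRank hM (oneIrr (G ⧸ Q))
  -- the characters of the block with `Q` in the kernel
  have hC : ∀ s : G, ¬ p ∣ orderOf s →
      ∑ ζ ∈ Finset.univ.filter (· ∈ Cfsg.blockOf M ((oneIrr G : Cfsg.IrrCharacter G) : G → ℂ)),
        (ζ : G → ℂ) s * conj ((ζ : G → ℂ) s)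
      = (Nat.card Q : ℂ) * ∑ ψ ∈ Finset.univ.filter
          (· ∈ Cfsg.blockOf M ((oneIrr (G ⧸ Q) : Cfsg.IrrCharacter (G ⧸ Q)) : G ⧸ Q → ℂ)),
        (ψ : G ⧸ Q → ℂ) (QuotientGroup.mk s) * conj ((ψ : G ⧸ Q → ℂ) (QuotientGroup.mk s)) := by
    intro s hs
    rw [sum_block_sq_eq_card_mul hM Q hQ hsup (oneIrr G) s hs]
    congr 1
    symm
    apply Finset.sum_bij (fun (ψ : Cfsg.IrrCharacter (G ⧸ Q)) _ => inflIrr Q ψ)
    · intro ψ hψ
      simp only [Finset.mem_filter, Finset.mem_univ, true_and] at hψ ⊢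
      constructor
      · exact sameBlock_inflation Q hM (oneIrr (G ⧸ Q)) ψ hψ
      · intro n hn
        have e : (QuotientGroup.mk n : G ⧸ Q) = QuotientGroup.mk (1:G) := by
          rw [QuotientGroup.mk_one]; exact (QuotientGroup.eq_one_iff n).mpr hn
        rw [inflIrr_apply, inflIrr_apply, e]
    · intro ψ _ ψ' _ h
      apply Subtype.ext
      funext q
      obtain ⟨g, rfl⟩ := QuotientGroup.mk_surjective q
      have := congrArg (fun ζ : Cfsg.IrrCharacter G => (ζ : G → ℂ) g) h
      simpa [inflIrr_apply] using this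
    · intro ζ hζ
      simp only [Finset.mem_filter, Finset.mem_univ, true_and] at hζ
      obtain ⟨β, hβ⟩ := IsIrrCharacter.exists_deflation Q ζ hζ.2
      refine ⟨β, ?_, ?_⟩
      · simp only [Finset.mem_filter, Finset.mem_univ, true_and]
        apply sameBlock_of_sameBlock_inflation Q hM hQ hidx (oneIrr (G ⧸ Q)) β
        have h1 : Cfsg.SameBlock M ((oneIrr G : Cfsg.IrrCharacter G) : G → ℂ) (ζ : G → ℂ) := hζ.1
        rw [hβ] at h1
        exact h1
      · apply Subtype.ext
        rw [hβ]
        rfl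
    · intro ψ _
      rfl
  -- bijection of `p`-regular elements
  have hD : ∀ F : G ⧸ Q → ℂ,
      ∑ s ∈ Finset.univ.filter (fun s : G => ¬ p ∣ orderOf s), F (QuotientGroup.mk s)
        = ∑ q ∈ Finset.univ.filter (fun q : G ⧸ Q => ¬ p ∣ orderOf q), F q := by
    intro F
    apply Finset.sum_bij (fun (s : G) _ => (QuotientGroup.mk s : G ⧸ Q))
    · intro s hs
      simp only [Finset.mem_filter, Finset.mem_univ, true_and] at hs ⊢
      intro hdvd
      exact hs (hdvd.trans (orderOf_map_dvd (QuotientGroup.mk' Q) s))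
    · intro s hs s' hs' h
      simp only [Finset.mem_coe, Finset.mem_filter, Finset.mem_univ, true_and] at hs hs'
      have hu : s⁻¹ * s' ∈ Q := by
        rw [← QuotientGroup.eq_one_iff, QuotientGroup.mk_mul, QuotientGroup.mk_inv, h]
        group
      have hsC := mem_centralizer_of_pRegular Q hpp hidx s hs
      rw [Subgroup.mem_centralizer_iff] at hsC
      have hcomm : Commute s (s⁻¹ * s') := (hsC _ hu).symm
      have hss' : Commute s s' := by
        have : s' = s * (s⁻¹ * s') := by group
        rw [this]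
        exact (Commute.refl s).mul_right hcomm
      obtain ⟨k, hk⟩ := (IsPGroup.iff_orderOf.mp hQ) ⟨s⁻¹ * s', hu⟩
      rw [← Subgroup.orderOf_coe] at hk
      simp only at hk
      have hd := (hss'.inv_left).orderOf_mul_dvd_lcm
      rw [orderOf_inv, hk] at hd
      have hk0 : k = 0 := by
        by_contra h0
        have h1 : p ∣ Nat.lcm (orderOf s) (orderOf s') := (dvd_pow_self p h0).trans hd
        have h2 := h1.trans (Nat.lcm_dvd_mul _ _)
        rcases (Nat.Prime.dvd_mul hpp).mp h2 with h3 | h3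
        · exact hs h3
        · exact hs' h3
      rw [hk0, pow_zero, orderOf_eq_one_iff] at hk
      have := congrArg (fun t => s * t) hk
      simpa using this.symm
    · intro q hq
      simp only [Finset.mem_filter, Finset.mem_univ, true_and] at hq
      obtain ⟨v, hv, hvp⟩ := exists_pRegular_lift Q hpp q hq
      exact ⟨v, by simp only [Finset.mem_filter, Finset.mem_univ, true_and]; exact hvp, hv⟩
    · intro s _
      rfl
  -- combine
  rw [Finset.sum_congr rfl (fun s hs => hC s (Finset.mem_filter.mp hs).2), ← Finset.mul_sum,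
    hD (fun q => ∑ ψ ∈ Finset.univ.filter
          (· ∈ Cfsg.blockOf M ((oneIrr (G ⧸ Q) : Cfsg.IrrCharacter (G ⧸ Q)) : G ⧸ Q → ℂ)),
        (ψ : G ⧸ Q → ℂ) q * conj ((ψ : G ⧸ Q → ℂ) q)), hB] at hA
  have hcard : (Nat.card G : ℂ) = (Nat.card Q : ℂ) * (Nat.card (G ⧸ Q) : ℂ) := by
    rw [Subgroup.card_eq_card_quotient_mul_card_subgroup Q]
    push_cast
    ring
  rw [← mul_assoc, ← hcard] at hA
  have := mul_left_cancel₀ hG0 hA
  exact_mod_cast this.symm


end Cfsg.Agent.S4571
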