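import Cfsg.Statements.S4580
import Mathlib
import Cfsg.Agent.Lib.Helper6.BlkPrincipalCover
import Cfsg.Agent.Lib.Helper6.BlkReal
import Cfsg.Agent.Lib.Helper6.BLLin
import Cfsg.Agent.Lib.Helper6.Linear
import Cfsg.Agent.Lib.Helper3.GallagherFactor
import Cfsg.Agent.Lib.Helper3.GallagherMul

set_option autoImplicit false
open Cfsg

namespace Cfsg.Agent.S4580

open Cfsg.Agent.Lib.Helper6
open scoped ComplexConjugate


/-- Let N be a normal subgroup of the finite group G, M a maximal ideal of the algebraic integers containing 2, and θ a real-valued irreducible character of N of odd degree that extends to G (some irreducible character of G restricts to θ). Then θ has an extension to G lying in the principal 2-block of G. -/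
theorem result {G : Type*} [Group G] [Finite G] (N : Subgroup G) [N.Normal] (M : Ideal Cfsg.AlgInt) (hM : Cfsg.IsPModular 2 M) (θ : Cfsg.IrrCharacter N) (hreal : ∀ n : N, ((θ : N → ℂ) n).im = 0) (hodd : Odd (Cfsg.charDegree (θ : N → ℂ))) (hext : ∃ η : Cfsg.IrrCharacter G, ∀ n : N, (η : G → ℂ) n = (θ : N → ℂ) n) :
    ∃ η : Cfsg.IrrCharacter G, (∀ n : N, (η : G → ℂ) n = (θ : N → ℂ) n) ∧ η ∈ Cfsg.principalBlock M G := by

  classical
  haveI : Fintype G := Fintype.ofFinite G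
  haveI : Fintype N := Fintype.ofFinite N
  haveI : Fact (Nat.Prime 2) := ⟨Nat.prime_two⟩
  obtain ⟨η₀, hη₀⟩ := hext
  have hθeq : (fun n : N => (η₀ : G → ℂ) n) = (θ : N → ℂ) := funext hη₀
  have hη₀N : Cfsg.IsIrrCharacter N (fun n : N => (η₀ : G → ℂ) n) := by
    rw [hθeq]; exact θ.2
  have hψ : Cfsg.IsIrrCharacter G (fun g => conj ((η₀ : G → ℂ) g)) := IsIrrCharacter.conj η₀.2
  have hψN : (fun n : N => (fun g => conj ((η₀ : G → ℂ) g)) (n : G)) = (θ : N → ℂ) := by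
    funext n
    show conj ((η₀ : G → ℂ) n) = _
    rw [hη₀ n]
    exact Complex.conj_eq_iff_im.mpr (hreal n)
  have hc : Cfsg.classInner (fun n : N => (fun g => conj ((η₀ : G → ℂ) g)) (n : G))
      (fun n : N => (η₀ : G → ℂ) n) ≠ 0 := by
    rw [hψN, hθeq, classInner_irrCharacter θ θ, if_pos rfl]
    exact one_ne_zero
  obtain ⟨β, hβ, hβN, hψβ⟩ := Cfsg.Agent.Lib.Helper3.GallagherFactor.exists_factor N
    (η₀ : G → ℂ) η₀.2 hη₀N _ hψ hc
  have hβc := IsIrrCharacter.isCharacter hβ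
  have hη₀1 : (η₀ : G → ℂ) 1 ≠ 0 := IsIrrCharacter.apply_one_ne_zero η₀.2
  have hβ1 : β 1 = 1 := by
    have h1 := congrFun hψβ 1
    simp only [Pi.mul_apply] at h1
    rw [IsIrrCharacter.conj_apply_one η₀.2] at h1
    have : (β 1 - 1) * (η₀ : G → ℂ) 1 = 0 := by linear_combination -h1
    rcases mul_eq_zero.mp this with h | h
    · exact sub_eq_zero.mp h
    · exact absurd h hη₀1
  obtain ⟨φ, hφ⟩ : ∃ φ : G →* ℂˣ, ∀ g, ((φ g : ℂˣ) : ℂ) = β g :=
    ⟨linearCharHom hβc hβ1, fun g => rfl⟩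
  obtain ⟨r, m, hmodd, hGm⟩ := Nat.exists_eq_two_pow_mul_odd (n := Nat.card G) Nat.card_pos.ne'
  obtain ⟨a, ha⟩ : ∃ a, m + 1 = 2 * a := by
    obtain ⟨k, hk⟩ := hmodd
    exact ⟨k + 1, by omega⟩
  obtain ⟨μ, hμdef⟩ : ∃ μ : G →* ℂˣ, μ = φ ^ a := ⟨_, rfl⟩
  have hμirr : Cfsg.IsIrrCharacter G (fun g => ((μ g : ℂˣ) : ℂ)) := isIrrCharacter_of_hom μ
  have hφN : ∀ n : N, φ (n : G) = 1 := by
    intro n
    apply Units.ext
    rw [hφ, hβN n, hβ1]
    rfl
  have hμN1 : ∀ n : N, μ (n : G) = 1 := by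
    intro n
    rw [hμdef, MonoidHom.pow_apply, hφN n, one_pow]
  have hμN : ∀ n : N, (fun g => ((μ g : ℂˣ) : ℂ)) (n : G) = (fun g => ((μ g : ℂˣ) : ℂ)) 1 := by
    intro n
    simp only
    rw [hμN1 n, map_one]
  have hηirr := Cfsg.Agent.Lib.Helper3.GallagherMul.isIrrCharacter_mul N (η₀ : G → ℂ) η₀.2 hη₀N _
    hμirr hμN
  obtain ⟨η, hηdef⟩ : ∃ η : Cfsg.IrrCharacter G,
      (η : G → ℂ) = (fun g => ((μ g : ℂˣ) : ℂ)) * (η₀ : G → ℂ) := ⟨⟨_, hηirr⟩, rfl⟩
  have hηval : ∀ g, (η : G → ℂ) g = ((μ g : ℂˣ) : ℂ) * (η₀ : G → ℂ) g := fun g => by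
    rw [hηdef]; rfl
  have hηN : ∀ n : N, (η : G → ℂ) n = (θ : N → ℂ) n := by
    intro n
    rw [hηval, hη₀ n, hμN1 n]
    simp
  refine ⟨η, hηN, ?_⟩
  -- real on elements of odd order
  have hreal2 : ∀ g : G, ¬ 2 ∣ orderOf g → conj ((η : G → ℂ) g) = (η : G → ℂ) g := by
    intro g hg
    have hgm : g ^ m = 1 := by
      apply orderOf_dvd_iff_pow_eq_one.mp
      have h1 : orderOf g ∣ 2 ^ r * m := by rw [← hGm]; exact orderOf_dvd_natCard g
      have hcop : Nat.Coprime (orderOf g) (2 ^ r) := by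
        apply Nat.Coprime.pow_right
        exact ((Nat.Prime.coprime_iff_not_dvd Nat.prime_two).mpr hg).symm
      exact Nat.Coprime.dvd_of_dvd_mul_left hcop h1
    have hφm : (φ g) ^ m = 1 := by rw [← map_pow, hgm, map_one]
    have hμμ : μ g * μ g = φ g := by
      rw [hμdef, MonoidHom.pow_apply, ← pow_add, ← two_mul, ← ha, pow_succ, hφm, one_mul]
    have hconjμ : conj ((μ g : ℂˣ) : ℂ) = ((μ g⁻¹ : ℂˣ) : ℂ) := hom_conj μ g
    have hconjη₀ : conj ((η₀ : G → ℂ) g) = β g * (η₀ : G → ℂ) g := congrFun hψβ g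
    rw [hηval, map_mul, hconjμ, hconjη₀, ← hφ g, ← hμμ]
    have h2 : ((μ g⁻¹ : ℂˣ) : ℂ) * ((μ g : ℂˣ) : ℂ) = 1 := by
      rw [← Units.val_mul, ← map_mul, inv_mul_cancel, map_one, Units.val_one]
    rw [Units.val_mul]
    linear_combination ((μ g : ℂˣ) : ℂ) * (η₀ : G → ℂ) g * h2
  rw [mem_principalBlock_iff_classInner_tildeFun hM]
  unfold Cfsg.classInner
  have hG0 : (Nat.card G : ℂ)⁻¹ ≠ 0 := inv_ne_zero (by exact_mod_cast Nat.card_pos.ne')
  apply mul_ne_zero hG0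
  have hsum : ∑ g : G, tildeFun 2 (fun _ : G => (1 : ℂ)) g * conj ((η : G → ℂ) g)
      = ((2 ^ (Nat.card G).factorization 2 : ℕ) : ℂ)
        * ∑ g ∈ Finset.univ.filter (fun g : G => ¬ 2 ∣ orderOf g), (η : G → ℂ) g := by
    rw [Finset.mul_sum, Finset.sum_filter]
    apply Finset.sum_congr rfl
    intro g _
    unfold tildeFun
    by_cases hg : 2 ∣ orderOf g
    · rw [if_pos hg, if_neg (not_not.mpr hg), zero_mul]
    · rw [if_neg hg, if_pos hg, hreal2 g hg, mul_one]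
  rw [hsum]
  apply mul_ne_zero (by exact_mod_cast (pow_pos (by norm_num : 0 < 2) _).ne')
  intro hzero
  have h1mem : (1 : G) ∈ Finset.univ.filter (fun g : G => ¬ 2 ∣ orderOf g) := by simp
  rw [← Finset.add_sum_erase _ _ h1mem] at hzero
  have hI : Cfsg.MemLocalIdeal M
      (∑ g ∈ (Finset.univ.filter (fun g : G => ¬ 2 ∣ orderOf g)).erase 1, (η : G → ℂ) g) := by
    apply memLocalIdeal_sum_involution hM _ _ (fun g => g⁻¹)
    · intro g hg
      rw [Finset.mem_erase, Finset.mem_filter] at hg ⊢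
      refine ⟨inv_ne_one.mpr hg.1, Finset.mem_univ _, ?_⟩
      rw [orderOf_inv]
      exact hg.2.2
    · intro g _
      exact inv_inv g
    · intro g hg h
      rw [Finset.mem_erase, Finset.mem_filter] at hg
      have h2 : g ^ 2 = 1 := by
        rw [sq]
        nth_rewrite 1 [← h]
        exact inv_mul_cancel g
      have h3 : orderOf g ∣ 2 := orderOf_dvd_of_pow_eq_one h2
      rcases (Nat.dvd_prime Nat.prime_two).mp h3 with h4 | h4
      · exact hg.1 (orderOf_eq_one_iff.mp h4)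
      · exact hg.2.2 (by rw [h4])
    · intro g hg
      rw [Finset.mem_erase, Finset.mem_filter] at hg
      have : (η : G → ℂ) g + (η : G → ℂ) g⁻¹ = ((2 : ℕ) : ℂ) * (η : G → ℂ) g := by
        rw [IsCharacter.apply_inv (IsIrrCharacter.isCharacter η.2), hreal2 g hg.2.2]
        push_cast
        ring
      rw [this]
      exact MemLocalIdeal.mul_right hM (memLocalIdeal_prime hM) (memLocalRing_of_isIntegral hM
        (IsCharacter.isIntegral_apply (IsIrrCharacter.isCharacter η.2) g))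
  have hη1 : (η : G → ℂ) 1 = (Cfsg.charDegree (θ : N → ℂ) : ℂ) := by
    have h := hηN 1
    rw [Subgroup.coe_one] at h
    rw [h, IsCharacter.apply_one_eq_charDegree (IsIrrCharacter.isCharacter θ.2)]
  have h7 : Cfsg.MemLocalIdeal M ((Cfsg.charDegree (θ : N → ℂ) : ℕ) : ℂ) := by
    have h5 : ((Cfsg.charDegree (θ : N → ℂ) : ℕ) : ℂ)
        = -∑ g ∈ (Finset.univ.filter (fun g : G => ¬ 2 ∣ orderOf g)).erase 1, (η : G → ℂ) g := by
      rw [← hη1]
      linear_combination hzero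
    rw [h5]
    exact MemLocalIdeal.neg hI
  have h6 := (memLocalIdeal_natCast_iff hM _).mp h7
  obtain ⟨k, hk⟩ := hodd
  omega


end Cfsg.Agent.S4580
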