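import Cfsg.Statements.S4583
import Mathlib
import Cfsg.Agent.Lib.Helper6.PrinOverExt

set_option autoImplicit false
open Cfsg

namespace Cfsg.Agent.S4583

open Cfsg.Agent.Lib.Helper6

/-- Let N be a normal subgroup of the finite group G, p a prime, M a maximal ideal of the algebraic integers containing p, and P a Sylow p-subgroup of G. Let θ be an irreducible character of N of degree prime to p lying in the principal p-block of N, and suppose θ extends to the subgroup NP (some irreducible character of NP restricts to θ). Then some irreducible character χ of G of degree prime to p in the principal p-block of G lies over θ (θ is a constituent of the restriction of χ to N). -/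
theorem result {G : Type*} [Group G] [Finite G] (N : Subgroup G) [N.Normal] (p : ℕ) [Fact p.Prime] (M : Ideal Cfsg.AlgInt) (hM : Cfsg.IsPModular p M) (P : Sylow p G)
    (θ : Cfsg.IrrCharacter N) (hθ : θ ∈ Cfsg.principalBlock M N) (hdeg : ¬ p ∣ Cfsg.charDegree (θ : N → ℂ))
    (hext : ∃ η : Cfsg.IrrCharacter ↥(N ⊔ (P : Subgroup G)), ∀ n : N, (η : ↥(N ⊔ (P : Subgroup G)) → ℂ) (Subgroup.inclusion le_sup_left n) = (θ : N → ℂ) n) :
    ∃ χ : Cfsg.IrrCharacter G, χ ∈ Cfsg.principalBlock M G ∧ ¬ p ∣ Cfsg.charDegree (χ : G → ℂ) ∧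
      haveI := Fintype.ofFinite N; Cfsg.classInner (fun n : N => (χ : G → ℂ) n) (θ : N → ℂ) ≠ 0 := by
  classical
  haveI : Fintype G := Fintype.ofFinite G
  letI instN : Fintype N := Fintype.ofFinite N
  haveI : Fintype ↥(N ⊔ (P : Subgroup G)) := Fintype.ofFinite _
  have hp : p.Prime := hM.1
  obtain ⟨η, hη⟩ := hext
  -- `p`-regular elements of `NP` lie in `N`
  have hreg : ∀ h : ↥(N ⊔ (P : Subgroup G)), ¬ p ∣ orderOf h → (h : G) ∈ N := by
    intro h hh
    have h1 : (h : G) ∈ N ⊔ (P : Subgroup G) := h.2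
    rw [← SetLike.mem_coe, Subgroup.normal_mul] at h1
    obtain ⟨n, hn, x, hx, hnx⟩ := h1
    have h2 : (QuotientGroup.mk' N) (h : G) = (QuotientGroup.mk' N) x := by
      have hn1 : (QuotientGroup.mk' N) n = 1 := (QuotientGroup.eq_one_iff n).mpr hn
      rw [← hnx]
      show (QuotientGroup.mk' N) (n * x) = _
      rw [map_mul, hn1, one_mul]
    have h3 : orderOf ((QuotientGroup.mk' N) (h : G)) ∣ orderOf (h : G) := orderOf_map_dvd _ _
    have h4 : orderOf ((QuotientGroup.mk' N) x) ∣ orderOf x := orderOf_map_dvd _ _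
    obtain ⟨k, hk⟩ := (P.2 ⟨x, hx⟩)
    have h5 : orderOf x ∣ p ^ k := by
      apply orderOf_dvd_of_pow_eq_one
      have := congrArg Subtype.val hk
      simpa using this
    rw [h2] at h3
    have h6 : orderOf ((QuotientGroup.mk' N) x) ∣ p ^ k := dvd_trans h4 h5
    have h7 : Nat.Coprime (orderOf (h : G)) (p ^ k) := by
      apply Nat.Coprime.pow_right
      rw [Nat.coprime_comm, Nat.Prime.coprime_iff_not_dvd hp, Subgroup.orderOf_coe]
      exact hh
    have h8 : orderOf ((QuotientGroup.mk' N) x) = 1 :=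
      Nat.eq_one_of_dvd_coprimes h7 h3 h6
    rw [orderOf_eq_one_iff, ← h2] at h8
    exact (QuotientGroup.eq_one_iff _).mp h8
  have hHp : (Nat.card ↥(N ⊔ (P : Subgroup G))).factorization p = (Nat.card G).factorization p := by
    apply le_antisymm
    · exact (Nat.factorization_le_iff_dvd Nat.card_pos.ne' Nat.card_pos.ne').mpr
        (Subgroup.card_subgroup_dvd_card _) p
    · have h1 : Nat.card (P : Subgroup G) ∣ Nat.card ↥(N ⊔ (P : Subgroup G)) :=
        Subgroup.card_dvd_of_le le_sup_right
      rw [Sylow.card_eq_multiplicity P] at h1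
      exact (Nat.Prime.pow_dvd_iff_le_factorization hp Nat.card_pos.ne').mp h1
  obtain ⟨χ, hχB, hχp, hχη⟩ := exists_principal_pPrime_over hM N (N ⊔ (P : Subgroup G)) le_sup_left
    hreg hHp θ hθ hdeg η hη
  refine ⟨χ, hχB, hχp, ?_⟩
  exact constituent_of_restrict_irr N (N ⊔ (P : Subgroup G)) le_sup_left
    (IsIrrCharacter.isCharacter χ.2) η θ hη hχη

end Cfsg.Agent.S4583
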