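import Cfsg.Statements.S4587
import Cfsg.Agent.Lib.Helper6.Pq5

set_option autoImplicit false
open Cfsg

namespace Cfsg.Agent.S4587

/-- Let G be a finite group, p a prime and P a Sylow p-subgroup of order at least p². Assume that G has no nontrivial normal subgroup of order prime to p, that the derived subgroup P' of P contains no nontrivial normal subgroup of G, and that G is not almost simple (there is no non-abelian simple normal subgroup of G with trivial centralizer). Then [P : P'] = p² if and only if some p-element x of G has centralizer whose order has p-part exactly p². -/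
theorem result {G : Type*} [Group G] [Finite G] (p : ℕ) [Fact p.Prime] (P : Sylow p G) (hbig : p ^ 2 ∣ Nat.card G) (hcore : Cfsg.pPrimeCore p G = ⊥)
    (hcore' : (⁅(P : Subgroup G), (P : Subgroup G)⁆).normalCore = ⊥) (hnas : ¬ ∃ S : Subgroup G, S.Normal ∧ IsSimpleGroup S ∧ ¬ IsMulCommutative S ∧ Subgroup.centralizer (S : Set G) = ⊥) :
    (⁅(P : Subgroup G), (P : Subgroup G)⁆).relIndex (P : Subgroup G) = p ^ 2 ↔
      ∃ x : G, (∃ k : ℕ, orderOf x = p ^ k) ∧ (Nat.card (Subgroup.centralizer ({x} : Set G))).factorization p = 2 := by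
  have hpp := (Fact.out : p.Prime)
  constructor
  · intro hD
    have hcardP := P.card_eq_multiplicity
    have hn2 : 2 ≤ (Nat.card G).factorization p :=
      (hpp.pow_dvd_iff_le_factorization Nat.card_pos.ne').1 hbig
    by_cases hn2' : (Nat.card G).factorization p = 2
    · refine ⟨1, ⟨0, by simp⟩, ?_⟩
      have h1 : Subgroup.centralizer ({1} : Set G) = ⊤ := by
        rw [Subgroup.centralizer_eq_top_iff_subset]
        intro y hy
        rw [Set.mem_singleton_iff.1 hy]
        exact Subgroup.one_mem _
      rw [h1, Subgroup.card_top]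
      exact hn2'
    · have h3 : p ^ 3 ∣ Nat.card (P : Subgroup G) := by
        rw [hcardP]
        exact pow_dvd_pow p (by omega)
      have hOp' : ∀ A : Subgroup G, A.Normal → (Nat.card A).Coprime p → A = ⊥ := by
        intro A hA hcop
        have h4 : A ≤ Cfsg.pPrimeCore p G := le_sSup ⟨hA, hcop⟩
        rw [hcore] at h4
        exact le_bot_iff.1 h4
      by_cases hcoreP : (P : Subgroup G).normalCore = ⊥
      · have hOp : ∀ A : Subgroup G, A.Normal → IsPGroup p A → A = ⊥ := by
          intro A hA hAp
          obtain ⟨c, hc⟩ := Cfsg.Agent.Lib.Helper6.Fv.conj_le_sylow P A hAp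
          have hAP : A ≤ (P : Subgroup G) := by
            intro y hy
            have h5 := hc (c⁻¹ * y * c⁻¹⁻¹) (hA.conj_mem y hy c⁻¹)
            have e : c * (c⁻¹ * y * c⁻¹⁻¹) * c⁻¹ = y := by group
            rwa [e] at h5
          haveI := hA
          have h6 := Subgroup.normal_le_normalCore.2 hAP
          rw [hcoreP] at h6
          exact le_bot_iff.1 h6
        exact Cfsg.Agent.Lib.Helper6.Pq.heavy P hD h3 hOp hOp' hnas
      · exact Cfsg.Agent.Lib.Helper6.Pq.opcase P hD h3 hcore' hcoreP
  · rintro ⟨x, hx, hfac⟩
    exact Cfsg.Agent.Lib.Helper6.Pq.backward P hbig x hx hfac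

end Cfsg.Agent.S4587
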