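import Cfsg.Statements.S4602
import Cfsg.Agent.S4218
import Cfsg.Agent.Lib.Helper1.CoprimeSylow

set_option autoImplicit false
open Cfsg

namespace Cfsg.Agent.S4602

open Cfsg.Agent.Lib.Helper1

theorem result {G : Type*} [Group G] [Finite G] (p q : ℕ) [Fact p.Prime] [Fact q.Prime] (hpq : p ≠ q) (hsolv : Cfsg.IsPSolvable p G) :
    (∃ (P : Sylow p G) (Q : Sylow q G), (P : Subgroup G) ≤ Subgroup.normalizer ((Q : Subgroup G) : Set G)) ↔ ¬ q ∣ (Cfsg.pPrimeCore p G).index := by
  classical
  have hpP : p.Prime := Fact.out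
  have hqP : q.Prime := Fact.out
  haveI hKn : (Cfsg.pPrimeCore p G).Normal := pPrimeCore_normal (G := G) p
  set K := Cfsg.pPrimeCore p G with hK
  have hKcop : (Nat.card K).Coprime p := pPrimeCore_card_coprime p
  constructor
  · rintro ⟨P, Q, hPQ⟩ hdvd
    let π := QuotientGroup.mk' K
    have hsurj : Function.Surjective π := QuotientGroup.mk'_surjective K
    have hsolq : Cfsg.IsPSolvable p (G ⧸ K) := Cfsg.Agent.S4218.isPSolvable_quotient p K hsolv
    have hcore : Cfsg.pPrimeCore p (G ⧸ K) = ⊥ := pPrimeCore_quotient_eq_bot p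
    set L := Cfsg.pCore p (G ⧸ K) with hL
    haveI hLn : L.Normal := pCore_normal (G := G ⧸ K) p
    have hLp : IsPGroup p L := pCore_isPGroup p
    set Qb := (Q : Subgroup G).map π with hQb
    have hQbq : IsPGroup q Qb := Q.2.map π
    have hdisj : Disjoint L Qb := IsPGroup.disjoint_of_ne p q hpq _ _ hLp hQbq
    let Pb : Sylow p (G ⧸ K) := P.mapSurjective hsurj
    have hLPb : L ≤ (P : Subgroup G).map π := by
      have := pCore_le_sylow p Pb
      rwa [Sylow.coe_mapSurjective] at this
    -- Qb = ⊥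
    have hQbot : Qb = ⊥ := by
      rw [eq_bot_iff]
      intro u hu
      have hucen : u ∈ L := by
        apply Cfsg.Agent.S4218.HH p hsolq hcore u
        intro y hy
        -- the commutator is trivial
        have h1 : u * y * u⁻¹ * y⁻¹ ∈ L := L.mul_mem (hLn.conj_mem y hy u) (L.inv_mem hy)
        have h2 : u * y * u⁻¹ * y⁻¹ ∈ Qb := by
          obtain ⟨a, ha, rfl⟩ := hLPb hy
          obtain ⟨b, hb, rfl⟩ := hu
          have hab : a * b⁻¹ * a⁻¹ ∈ (Q : Subgroup G) :=
            (Subgroup.mem_normalizer_iff.mp (hPQ ha) b⁻¹).mp (Q.1.inv_mem hb)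
          have : π b * π a * (π b)⁻¹ * (π a)⁻¹ = π (b * (a * b⁻¹ * a⁻¹)) := by
            simp only [map_mul, map_inv]; group
          rw [this]
          exact Subgroup.mem_map_of_mem π (Q.1.mul_mem hb hab)
        have h3 : u * y * u⁻¹ * y⁻¹ ∈ L ⊓ Qb := Subgroup.mem_inf.mpr ⟨h1, h2⟩
        rw [hdisj.eq_bot, Subgroup.mem_bot] at h3
        rw [h3]
        exact Subgroup.one_mem _
      have : u ∈ L ⊓ Qb := Subgroup.mem_inf.mpr ⟨hucen, hu⟩
      rwa [hdisj.eq_bot] at this
    have hQK : (Q : Subgroup G) ≤ K := by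
      intro x hx
      have : π x ∈ Qb := Subgroup.mem_map_of_mem π hx
      rw [hQbot, Subgroup.mem_bot] at this
      exact (QuotientGroup.eq_one_iff x).mp this
    -- order argument
    have h1 : Nat.card (Q : Subgroup G) ∣ Nat.card K := Subgroup.card_dvd_of_le hQK
    rw [Q.card_eq_multiplicity] at h1
    have h2 : q ^ ((Nat.card G).factorization q + 1) ∣ Nat.card G := by
      have h3 := Nat.mul_dvd_mul h1 hdvd
      rw [K.card_mul_index, ← pow_succ] at h3
      exact h3
    exact Nat.pow_succ_factorization_not_dvd Nat.card_pos.ne' hqP h2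
  · intro hndvd
    let P : Sylow p G := default
    have hAK : (P : Subgroup G) ≤ Subgroup.normalizer (K : Set G) := by
      rw [Subgroup.normalizer_eq_top_iff.mpr hKn]; exact le_top
    have hcop : (Nat.card (P : Subgroup G)).Coprime (Nat.card K) := by
      obtain ⟨k, hk⟩ := IsPGroup.iff_card.mp P.2
      rw [hk]
      exact (Nat.Coprime.pow_right k hKcop).symm
    have hPsolv : Group.IsSolvable (P : Subgroup G) := by
      haveI := P.2.isNilpotent
      infer_instance
    obtain ⟨Q₀, hQ₀⟩ := coprime_exists_invariant_sylow (P : Subgroup G) K hAK hcop (Or.inl hPsolv) q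
    have hQ₁q : IsPGroup q ((Q₀ : Subgroup K).map K.subtype) := Q₀.2.map _
    have hidx : ¬ q ∣ ((Q₀ : Subgroup K).map K.subtype).index := by
      rw [Subgroup.index_map_subtype]
      intro h
      rcases (Nat.Prime.dvd_mul hqP).mp h with h | h
      · exact Q₀.not_dvd_index h
      · exact hndvd h
    refine ⟨P, hQ₁q.toSylow hidx, ?_⟩
    rw [IsPGroup.toSylow_coe]
    exact hQ₀

end Cfsg.Agent.S4602
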