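import Cfsg.Statements.S4604
import Mathlib
import Cfsg.Agent.Lib.Helper8.PReg2

set_option autoImplicit false
open Cfsg

namespace Cfsg.Agent.S4604

theorem pow_eq {G : Type*} [Group G] [Finite G] (p : ℕ) [Fact p.Prime] (x x' : G)
    (hx : (∃ k : ℕ, orderOf (x * x'⁻¹) = p ^ k) ∧ Commute (x * x'⁻¹) x') :
    x ^ (p ^ (Nat.card G).factorization p) = x' ^ (p ^ (Nat.card G).factorization p) := by
  obtain ⟨⟨k, hk⟩, hc⟩ := hx
  have h1 : x = (x * x'⁻¹) * x' := by group
  have hdvd : p ^ k ∣ Nat.card G := hk ▸ orderOf_dvd_natCard _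
  have hle : k ≤ (Nat.card G).factorization p :=
    (Nat.Prime.pow_dvd_iff_le_factorization Fact.out Nat.card_pos.ne').mp hdvd
  have h2 : (x * x'⁻¹) ^ (p ^ (Nat.card G).factorization p) = 1 := by
    apply orderOf_dvd_iff_pow_eq_one.mp
    rw [hk]
    exact pow_dvd_pow p hle
  conv_lhs => rw [h1]
  rw [hc.mul_pow, h2, one_mul]

/-- Let G be a finite group, p a prime and p^a the p-part of the order of G. Let x, y ∈ G and let x′, y′ be their p-regular parts: x′ has order prime to p, commutes with x·x′⁻¹, and x·x′⁻¹ has p-power order (likewise for y). Then x′ and y′ are conjugate in G if and only if for every irreducible character χ of G the algebraic integer χ(x)^(p^a) − χ(y)^(p^a) is p times an algebraic integer. -/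
theorem result {G : Type*} [Group G] [Finite G] (p : ℕ) [Fact p.Prime] (x y x' y' : G)
    (hx : (∃ k : ℕ, orderOf (x * x'⁻¹) = p ^ k) ∧ Commute (x * x'⁻¹) x' ∧ ¬ p ∣ orderOf x')
    (hy : (∃ k : ℕ, orderOf (y * y'⁻¹) = p ^ k) ∧ Commute (y * y'⁻¹) y' ∧ ¬ p ∣ orderOf y') :
    IsConj x' y' ↔ ∀ χ : Cfsg.IrrCharacter G, ∃ γ : Cfsg.AlgInt,
      (χ : G → ℂ) x ^ (p ^ (Nat.card G).factorization p) - (χ : G → ℂ) y ^ (p ^ (Nat.card G).factorization p) = (p : ℂ) * (γ : ℂ) := by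
  classical
  have hpp : p.Prime := Fact.out
  have hxN := pow_eq p x x' ⟨hx.1, hx.2.1⟩
  have hyN := pow_eq p y y' ⟨hy.1, hy.2.1⟩
  set N := p ^ (Nat.card G).factorization p with hN
  have hfx : ∀ χ : Cfsg.IrrCharacter G, ∃ γ : Cfsg.AlgInt,
      (χ : G → ℂ) x ^ N - (χ : G → ℂ) (x' ^ N) = (p : ℂ) * (γ : ℂ) := by
    intro χ
    have := Cfsg.Agent.Lib.Helper8.PReg.frob_congr p
      (Cfsg.Agent.Lib.Helper6.IsIrrCharacter.isCharacter χ.2) x ((Nat.card G).factorization p)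
    rwa [hxN] at this
  have hfy : ∀ χ : Cfsg.IrrCharacter G, ∃ γ : Cfsg.AlgInt,
      (χ : G → ℂ) y ^ N - (χ : G → ℂ) (y' ^ N) = (p : ℂ) * (γ : ℂ) := by
    intro χ
    have := Cfsg.Agent.Lib.Helper8.PReg.frob_congr p
      (Cfsg.Agent.Lib.Helper6.IsIrrCharacter.isCharacter χ.2) y ((Nat.card G).factorization p)
    rwa [hyN] at this
  constructor
  · intro hconj χ
    obtain ⟨γ1, h1⟩ := hfx χ
    obtain ⟨γ2, h2⟩ := hfy χ
    have h3 : (χ : G → ℂ) (x' ^ N) = (χ : G → ℂ) (y' ^ N) :=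
      Cfsg.Agent.Lib.Helper6.isClassFunction_iff_isConj.mp
        (Cfsg.Agent.Lib.Helper6.IsIrrCharacter.isClassFunction χ.2) _ _
        (Cfsg.Agent.Lib.Helper8.PReg.isConj_pow hconj N)
    refine ⟨γ1 - γ2, ?_⟩
    push_cast
    linear_combination h1 - h2 + h3
  · intro h
    have huv : IsConj (x' ^ N) (y' ^ N) := by
      apply Cfsg.Agent.Lib.Helper8.PReg.isConj_of_congr p
      · exact fun hd => hx.2.2 (hd.trans (orderOf_pow_dvd N))
      · exact fun hd => hy.2.2 (hd.trans (orderOf_pow_dvd N))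
      · intro χ
        obtain ⟨γ1, h1⟩ := hfx χ
        obtain ⟨γ2, h2⟩ := hfy χ
        obtain ⟨γ3, h3⟩ := h χ
        refine ⟨γ3 - γ1 + γ2, ?_⟩
        push_cast
        linear_combination h3 - h1 + h2
    have hcx : (orderOf x').Coprime N :=
      Nat.Coprime.pow_right _ ((Nat.Prime.coprime_iff_not_dvd hpp).mpr hx.2.2).symm
    have hcy : (orderOf y').Coprime N :=
      Nat.Coprime.pow_right _ ((Nat.Prime.coprime_iff_not_dvd hpp).mpr hy.2.2).symm
    have hox : orderOf (x' ^ N) = orderOf x' := hcx.orderOf_pow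
    have hoy : orderOf (y' ^ N) = orderOf y' := hcy.orderOf_pow
    have hoo : orderOf x' = orderOf y' := by
      rw [← hox, ← hoy]
      exact Cfsg.Agent.Lib.Helper8.PReg.orderOf_eq_of_isConj huv
    by_cases hr1 : orderOf x' = 1
    · have hx1 : x' = 1 := orderOf_eq_one_iff.mp hr1
      have hy1 : y' = 1 := orderOf_eq_one_iff.mp (hoo ▸ hr1)
      rw [hx1, hy1]
    · have hr0 : orderOf x' ≠ 0 := (orderOf_pos x').ne'
      obtain ⟨m, -, hm⟩ := Nat.exists_mul_mod_eq_one_of_coprime hcx.symm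
        (Nat.one_lt_iff_ne_zero_and_ne_one.mpr ⟨hr0, hr1⟩)
      have hxm : (x' ^ N) ^ m = x' := by
        rw [← pow_mul, ← pow_mod_orderOf, hm, pow_one]
      have hym : (y' ^ N) ^ m = y' := by
        rw [← pow_mul, ← pow_mod_orderOf, ← hoo, hm, pow_one]
      have := Cfsg.Agent.Lib.Helper8.PReg.isConj_pow huv m
      rwa [hxm, hym] at this

end Cfsg.Agent.S4604
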