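import Cfsg.Statements.S4607
import Cfsg.Agent.Lib.Helper1.BrandtBridge
import Cfsg.Agent.Lib.Helper2.BrandtRT6b
import Cfsg.Agent.Lib.Helper6.BrandtCT1
import Cfsg.Agent.Lib.Helper6.BrandtCT2

set_option autoImplicit false
open Cfsg

namespace Cfsg.Agent.S4607

/-- Let G be a finite group, p a prime, M a maximal ideal of the algebraic integers containing p, and B a p-block of G with defect group D. Then B contains exactly two irreducible characters if and only if D has order 2. -/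
theorem result {G : Type*} [Group G] [Finite G] (p : ℕ) [Fact p.Prime] (M : Ideal Cfsg.AlgInt) (hM : Cfsg.IsPModular p M) (B : Set (Cfsg.IrrCharacter G)) (hB : Cfsg.IsPBlock M B) (D : Subgroup G) (hD : Cfsg.IsDefectGroup p M B D) : Nat.card B = 2 ↔ Nat.card D = 2 := by
  open Cfsg.Agent.Lib.Helper1.Brandt in
  constructor
  · intro hk
    obtain ⟨χ₁, χ₂, h12, hBeq, ⟨g₁, h1⟩, ⟨g₂, h2⟩, hfin⟩ := brandt_ct1 p M hM B hB D hD hk
    apply hfin
    obtain ⟨K, _, _, R, _, _, _, lam, e, I₁, I₂, hs, hn, he, hc, hZ, hid, hdim, t1, t2, n1, n2,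
      d1, d2⟩ := bridge p M hM B hB χ₁ χ₂ h12 hBeq g₁ g₂ h1 h2
    obtain ⟨n, hn1, hn2⟩ := rt_rel lam hs hn e he hc hZ hid
    have a1 := hn2 I₁ t1 n1
    have a2 := hn2 I₂ t2 n2
    rw [hdim] at hn1
    have b1 : n ^ 2 ≤ Cfsg.charDegree (χ₁ : G → ℂ) ^ 2 := a1.trans d1
    have b2 : n ^ 2 ≤ Cfsg.charDegree (χ₂ : G → ℂ) ^ 2 := a2.trans d2
    have c1 : Cfsg.charDegree (χ₁ : G → ℂ) ^ 2 = n ^ 2 := by omega
    have c2 : Cfsg.charDegree (χ₂ : G → ℂ) ^ 2 = n ^ 2 := by omega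
    exact Nat.pow_left_injective (n := 2) (by norm_num) (c1.trans c2.symm)
  · exact brandt_ct2 p M hM B hB D hD

end Cfsg.Agent.S4607
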