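import Cfsg.Statements.S4611
import Mathlib
import Cfsg.Agent.Lib.Helper6.BlkPSolvPrincipal
import Cfsg.Agent.Lib.Helper6.BlkKer
import Cfsg.Agent.Lib.Helper6.ProdChar
import Cfsg.Agent.Lib.Helper3.PSolvable

set_option autoImplicit false
open Cfsg

namespace Cfsg.Agent.S4611

open Cfsg.Agent.Lib.Helper6

/-- Let G be a finite solvable group and π a nonempty set of primes, each dividing the order of G; fix for each p in π a maximal ideal M p of the algebraic integers containing p. Then the only irreducible character lying in the principal p-block for every p in π is the principal character if and only if G is generated by the subgroups O_{p'}(G), p in π (the largest normal subgroups of order prime to p). -/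
theorem result {G : Type*} [Group G] [Finite G] [Group.IsSolvable G] (π : Set ℕ) (hπ : ∀ p ∈ π, p.Prime ∧ p ∣ Nat.card G) (hne : π.Nonempty) (M : ℕ → Ideal Cfsg.AlgInt) (hM : ∀ p ∈ π, Cfsg.IsPModular p (M p)) :
    (∀ χ : Cfsg.IrrCharacter G, (∀ p ∈ π, χ ∈ Cfsg.principalBlock (M p) G) → (χ : G → ℂ) = fun _ => 1) ↔
      ⨆ p ∈ π, Cfsg.pPrimeCore p G = ⊤ := by

  classical
  have : Fintype G := Fintype.ofFinite G
  obtain ⟨N, hNdef⟩ : ∃ N : Subgroup G, N = ⨆ p ∈ π, Cfsg.pPrimeCore p G := ⟨_, rfl⟩
  have hsolvp : ∀ p ∈ π, ∀ [Fact p.Prime], Cfsg.IsPSolvable p G := by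
    intro p _ _
    exact Cfsg.Agent.Lib.Helper3.isPSolvable_of_isSolvable p inferInstance
  have hkey : ∀ χ : Cfsg.IrrCharacter G, (∀ p ∈ π, χ ∈ Cfsg.principalBlock (M p) G) ↔
      ∀ n ∈ N, (χ : G → ℂ) n = (χ : G → ℂ) 1 := by
    intro χ
    have hχc := IsIrrCharacter.isCharacter χ.2
    constructor
    · intro h
      have hle : N ≤ charKer hχc := by
        rw [hNdef]
        apply iSup₂_le
        intro p hp n hn
        haveI : Fact p.Prime := ⟨(hπ p hp).1⟩
        exact (mem_principalBlock_iff_of_isPSolvable (hM p hp) (hsolvp p hp) χ).mp (h p hp) n hn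
      exact fun n hn => hle hn
    · intro h p hp
      haveI : Fact p.Prime := ⟨(hπ p hp).1⟩
      rw [mem_principalBlock_iff_of_isPSolvable (hM p hp) (hsolvp p hp)]
      intro n hn
      apply h
      rw [hNdef]
      exact (le_iSup₂ (f := fun p _ => Cfsg.pPrimeCore p G) p hp) hn
  rw [← hNdef]
  haveI hNn : N.Normal := by
    rw [hNdef]
    infer_instance
  constructor
  · intro h
    by_contra hN
    have : Fintype (G ⧸ N) := Fintype.ofFinite _
    have : Fintype (Cfsg.IrrCharacter (G ⧸ N)) := Fintype.ofFinite _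
    have hall : ∀ β : Cfsg.IrrCharacter (G ⧸ N), β = oneIrr (G ⧸ N) := by
      intro β
      have hχ : ∀ n ∈ N, (inflIrr N β : G → ℂ) n = (inflIrr N β : G → ℂ) 1 := by
        intro n hn
        rw [inflIrr_apply, inflIrr_apply, (QuotientGroup.eq_one_iff n).mpr hn, QuotientGroup.mk_one]
      have h1 := h (inflIrr N β) ((hkey _).mpr hχ)
      apply Subtype.ext
      funext q
      obtain ⟨g, rfl⟩ := QuotientGroup.mk_surjective q
      have h2 := congrFun h1 g
      rw [inflIrr_apply] at h2
      exact h2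
    have hsum := sum_sq_charDegree (K := G ⧸ N)
    rw [Fintype.sum_eq_single (oneIrr (G ⧸ N)) (fun β hβ => absurd (hall β) hβ)] at hsum
    have h2 : (Cfsg.charDegree ((oneIrr (G ⧸ N) : Cfsg.IrrCharacter (G ⧸ N)) : G ⧸ N → ℂ)) = 1 :=
      charDegree_one_fun
    rw [h2, one_pow] at hsum
    apply hN
    rw [← Subgroup.index_eq_one]
    exact hsum.symm
  · intro hN χ hχ
    rw [hkey, hN] at hχ
    have hconst : ∀ g : G, (χ : G → ℂ) g = (χ : G → ℂ) 1 := fun g => hχ g (Subgroup.mem_top g)
    have h1 := classInner_irrCharacter χ (oneIrr G)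
    have h2 : Cfsg.classInner (χ : G → ℂ) ((oneIrr G : Cfsg.IrrCharacter G) : G → ℂ)
        = (χ : G → ℂ) 1 := by
      unfold Cfsg.classInner
      have hG : (Nat.card G : ℂ) ≠ 0 := by
        have : Nat.card G ≠ 0 := Nat.card_pos.ne'
        exact_mod_cast this
      have h3 : ∀ g : G, (χ : G → ℂ) g * (starRingEnd ℂ) (((oneIrr G : Cfsg.IrrCharacter G) : G → ℂ) g)
          = (χ : G → ℂ) 1 := by
        intro g
        rw [hconst g]
        show (χ : G → ℂ) 1 * (starRingEnd ℂ) (1 : ℂ) = _
        rw [map_one, mul_one]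
      rw [Finset.sum_congr rfl (fun g _ => h3 g), Finset.sum_const,
        Finset.card_univ, ← Nat.card_eq_fintype_card, nsmul_eq_mul]
      field_simp
    rw [h2] at h1
    have hne := IsIrrCharacter.apply_one_ne_zero χ.2
    by_cases hχ1 : χ = oneIrr G
    · rw [hχ1]
      rfl
    · rw [if_neg hχ1] at h1
      exact absurd h1 hne


end Cfsg.Agent.S4611
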