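import Cfsg.Statements.S4619
import Mathlib

set_option autoImplicit false
open scoped Pointwise
open Cfsg

namespace Cfsg.Agent.S4619

/-- Let P be a Sylow p-subgroup of the finite group G that is a trivial-intersection set: P meets each conjugate g P g⁻¹ with g outside N_G(P) trivially. Then for every nontrivial subgroup Q of P the normalizer of Q lies in the normalizer of P, and any g ∈ G conjugating Q into P lies in N_G(P). -/
theorem result {G : Type*} [Group G] [Finite G] (p : ℕ) [Fact p.Prime] (P : Sylow p G) (hTI : (∀ g : G, g ∉ Subgroup.normalizer ((P : Subgroup G) : Set G) → (P : Subgroup G) ⊓ (MulAut.conj g • (P : Subgroup G)) = ⊥)) (Q : Subgroup G) (hQ : Q ≤ (P : Subgroup G)) (hQ1 : Q ≠ ⊥) :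
    Subgroup.normalizer (Q : Set G) ≤ Subgroup.normalizer ((P : Subgroup G) : Set G) ∧
      ∀ g : G, MulAut.conj g • Q ≤ (P : Subgroup G) → g ∈ Subgroup.normalizer ((P : Subgroup G) : Set G) := by
  have key : ∀ g : G, MulAut.conj g • Q ≤ (P : Subgroup G) →
      g ∈ Subgroup.normalizer ((P : Subgroup G) : Set G) := by
    intro g hgQ
    by_contra hg
    have hbot := hTI g hg
    obtain ⟨⟨x, hxQ⟩, hx1'⟩ := (Subgroup.ne_bot_iff_exists_ne_one).mp hQ1
    have hx1 : x ≠ 1 := fun h => hx1' (Subtype.ext h)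
    have h1 : MulAut.conj g • x ∈ MulAut.conj g • Q :=
      Subgroup.smul_mem_pointwise_smul _ _ _ hxQ
    have h2 : MulAut.conj g • x ∈ MulAut.conj g • (P : Subgroup G) :=
      Subgroup.smul_mem_pointwise_smul _ _ _ (hQ hxQ)
    have h3 : MulAut.conj g • x ∈ (P : Subgroup G) ⊓ MulAut.conj g • (P : Subgroup G) :=
      ⟨hgQ h1, h2⟩
    rw [hbot, Subgroup.mem_bot] at h3
    have h4 : x = 1 := by
      have : MulAut.conj g • x = MulAut.conj g • (1 : G) := by rw [h3]; simp
      exact smul_left_cancel _ this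
    exact hx1 h4
  refine ⟨?_, key⟩
  intro g hg
  apply key
  intro y hy
  obtain ⟨x, hx, rfl⟩ := (Subgroup.mem_smul_pointwise_iff_exists _ _ _).mp hy
  apply hQ
  have := (Subgroup.mem_normalizer_iff.mp hg x).mp hx
  simpa [MulAut.smul_def] using this


end Cfsg.Agent.S4619
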