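import Cfsg.Statements.S5914
import Mathlib.Tactic
import Mathlib.Algebra.Group.Shrink
import Mathlib.GroupTheory.NoncommCoprod

set_option autoImplicit false
open Cfsg

namespace Cfsg.Agent.S5914

universe u

section fwd

variable {G : Type u} [Group G]

/-- minimal normal subgroup -/
def MinNormal (N : Subgroup G) : Prop :=
  N.Normal ∧ N ≠ ⊥ ∧ ∀ K : Subgroup G, K.Normal → K ≤ N → K = ⊥ ∨ K = N

lemma MinNormal.map {N : Subgroup G} (hN : MinNormal N) (φ : G ≃* G) :
    MinNormal (N.map φ.toMonoidHom) := by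
  obtain ⟨hn, h0, hmin⟩ := hN
  refine ⟨Subgroup.Normal.map hn φ.toMonoidHom φ.surjective, ?_, ?_⟩
  · intro h
    rw [Subgroup.map_eq_bot_iff_of_injective _ φ.injective] at h
    exact h0 h
  · intro K hK hKN
    have h1 : (K.comap φ.toMonoidHom).Normal := Subgroup.Normal.comap hK _
    have h2 : K.comap φ.toMonoidHom ≤ N := by
      have := Subgroup.comap_mono (f := φ.toMonoidHom) hKN
      rwa [Subgroup.comap_map_eq_self_of_injective φ.injective] at this
    have h3 : K = (K.comap φ.toMonoidHom).map φ.toMonoidHom :=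
      (Subgroup.map_comap_eq_self_of_surjective φ.surjective K).symm
    rcases hmin _ h1 h2 with h | h
    · left; rw [h3, h, Subgroup.map_bot]
    · right; rw [h3, h]

inductive Stage (N : Subgroup G) : Subgroup G → ℕ → Prop
  | zero : Stage N ⊥ 0
  | step (M : Subgroup G) (k : ℕ) (φ : G ≃* G) : Stage N M k →
      Disjoint M (N.map φ.toMonoidHom) → Stage N (M ⊔ N.map φ.toMonoidHom) (k + 1)

lemma prodIso (M L : Subgroup G) (hM : M.Normal) (hL : L.Normal) (h : Disjoint M L) :
    Nonempty (↥(M ⊔ L) ≃* ↥M × ↥L) := by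
  have comm : ∀ (m : M) (l : L), Commute (M.subtype m) (L.subtype l) := fun m l =>
    Subgroup.commute_of_normal_of_disjoint M L hM hL h m l m.2 l.2
  have hinj : Function.Injective (MonoidHom.noncommCoprod M.subtype L.subtype comm) := by
    rw [MonoidHom.noncommCoprod_injective]
    refine ⟨M.subtype_injective, L.subtype_injective, ?_⟩
    rw [Subgroup.range_subtype, Subgroup.range_subtype]; exact h
  have hrange : (MonoidHom.noncommCoprod M.subtype L.subtype comm).range = M ⊔ L := by
    rw [MonoidHom.noncommCoprod_range, Subgroup.range_subtype, Subgroup.range_subtype]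
  exact ⟨((MonoidHom.ofInjective hinj).trans (MulEquiv.subgroupCongr hrange)).symm⟩

/-- `(Fin k → A) × A ≃* (Fin (k+1) → A)` -/
def consIso (A : Type*) [Group A] (k : ℕ) : (Fin k → A) × A ≃* (Fin (k + 1) → A) where
  toFun p := Fin.cons p.2 p.1
  invFun f := (Fin.tail f, f 0)
  left_inv p := by simp
  right_inv f := by simp
  map_mul' a b := by
    funext i
    refine Fin.cases ?_ (fun j => ?_) i
    · simp
    · simp

lemma stage_iso {N : Subgroup G} (hN : N.Normal) {M : Subgroup G} {k : ℕ} (h : Stage N M k) :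
    M.Normal ∧ Nonempty (M ≃* (Fin k → N)) := by
  induction h with
  | zero => exact ⟨inferInstance, ⟨MulEquiv.ofUnique⟩⟩
  | step M k φ _ hdis ih =>
    obtain ⟨hMn, ⟨e⟩⟩ := ih
    have hLn : (N.map φ.toMonoidHom).Normal := Subgroup.Normal.map hN φ.toMonoidHom φ.surjective
    refine ⟨?_, ?_⟩
    · haveI := hMn; haveI := hLn; infer_instance
    · obtain ⟨e1⟩ := prodIso M (N.map φ.toMonoidHom) hMn hLn hdis
      have e2 : ↥N ≃* ↥(N.map φ.toMonoidHom) := φ.subgroupMap N
      exact ⟨(e1.trans (MulEquiv.prodCongr e e2.symm)).trans (consIso N k)⟩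

lemma simple_of_complement {M L : Subgroup G} (hM : M.Normal) (hL : MinNormal L)
    (hdis : Disjoint M L) (htop : M ⊔ L = ⊤) : IsSimpleGroup L := by
  obtain ⟨hLn, hL0, hLmin⟩ := hL
  haveI : Nontrivial L := (Subgroup.nontrivial_iff_ne_bot L).mpr hL0
  refine ⟨fun K hK => ?_⟩
  have hKn : (K.map L.subtype).Normal := by
    refine ⟨fun x hx g => ?_⟩
    obtain ⟨y, hy, rfl⟩ := hx
    have hg : g ∈ M ⊔ L := htop ▸ Subgroup.mem_top g
    haveI := hM
    rw [Subgroup.mem_sup_of_normal_left] at hg
    obtain ⟨m, hm, l, hl, rfl⟩ := hg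
    have hc : Commute m (l * (y : G) * l⁻¹) :=
      Subgroup.commute_of_normal_of_disjoint M L hM hLn hdis m _ hm
        (L.mul_mem (L.mul_mem hl y.2) (L.inv_mem hl))
    refine ⟨⟨l, hl⟩ * y * ⟨l, hl⟩⁻¹, hK.conj_mem y hy _, ?_⟩
    simp only [Subgroup.subtype_apply, Subgroup.coe_mul, Subgroup.coe_inv]
    have : m * l * (y : G) * (m * l)⁻¹ = m * (l * (y : G) * l⁻¹) * m⁻¹ := by group
    rw [this, hc.eq, mul_inv_cancel_right]
  have hKle : K.map L.subtype ≤ L := by
    rintro _ ⟨y, _, rfl⟩; exact y.2
  rcases hLmin _ hKn hKle with h | h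
  · left
    rw [Subgroup.map_eq_bot_iff_of_injective _ L.subtype_injective] at h
    exact h
  · right
    rw [eq_top_iff]
    intro y _
    have : (y : G) ∈ K.map L.subtype := by rw [h]; exact y.2
    obtain ⟨z, hz, hzy⟩ := this
    have : z = y := Subtype.ext hzy
    exact this ▸ hz

lemma exists_minNormal [Finite G] [Nontrivial G] : ∃ N : Subgroup G, MinNormal N := by
  have hne : {K : Subgroup G | K.Normal ∧ K ≠ ⊥}.Nonempty := ⟨⊤, inferInstance, top_ne_bot⟩
  obtain ⟨N, ⟨hNn, hN0⟩, hmin⟩ := (Set.toFinite {K : Subgroup G | K.Normal ∧ K ≠ ⊥}).exists_minimal hne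
  refine ⟨N, hNn, hN0, fun K hK hKN => ?_⟩
  by_cases h0 : K = ⊥
  · left; exact h0
  · right
    exact le_antisymm hKN (hmin ⟨hK, h0⟩ hKN)

theorem forward [Finite G] [Nontrivial G]
    (hcs : ∀ H : Subgroup G, H.Characteristic → H = ⊥ ∨ H = ⊤) :
    ∃ (S : Type) (_ : Group S) (_ : IsSimpleGroup S) (n : ℕ), 1 ≤ n ∧ Nonempty (G ≃* (Fin n → S)) := by
  classical
  obtain ⟨N, hN⟩ := exists_minNormal (G := G)
  have hNn := hN.1
  -- maximal stage
  have hne : {M : Subgroup G | ∃ k, Stage N M k}.Nonempty := ⟨⊥, 0, Stage.zero⟩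
  obtain ⟨M, ⟨k, hMk⟩, hmax⟩ := (Set.toFinite {M : Subgroup G | ∃ k, Stage N M k}).exists_maximal hne
  obtain ⟨hMn, ⟨e⟩⟩ := stage_iso hNn hMk
  -- all images are in M
  have hall : ∀ φ : G ≃* G, N.map φ.toMonoidHom ≤ M := by
    intro φ
    obtain ⟨hLn, hL0, hLmin⟩ := hN.map φ
    have hinf : (M ⊓ N.map φ.toMonoidHom).Normal := by
      haveI := hMn; haveI := hLn; infer_instance
    rcases hLmin _ hinf inf_le_right with h | h
    · exfalso
      have hdis : Disjoint M (N.map φ.toMonoidHom) := disjoint_iff.mpr h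
      have hst : Stage N (M ⊔ N.map φ.toMonoidHom) (k + 1) := Stage.step M k φ hMk hdis
      have hle := hmax ⟨k + 1, hst⟩ le_sup_left
      have : N.map φ.toMonoidHom ≤ M := le_sup_right.trans hle
      have : N.map φ.toMonoidHom ≤ M ⊓ N.map φ.toMonoidHom := le_inf this le_rfl
      rw [h] at this
      exact hL0 (le_bot_iff.mp this)
    · exact h ▸ inf_le_left
  -- the characteristic subgroup generated
  have hchar : (⨆ φ : G ≃* G, N.map φ.toMonoidHom).Characteristic := by
    rw [Subgroup.characteristic_iff_map_le]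
    intro ψ
    rw [Subgroup.map_iSup]
    apply iSup_le
    intro φ
    rw [Subgroup.map_map]
    exact le_iSup (fun φ : G ≃* G => N.map φ.toMonoidHom) (φ.trans ψ)
  have hNle : N ≤ ⨆ φ : G ≃* G, N.map φ.toMonoidHom := by
    have : N = N.map (MulEquiv.refl G).toMonoidHom := by
      ext x; simp
    calc N = N.map (MulEquiv.refl G).toMonoidHom := this
      _ ≤ _ := le_iSup (fun φ : G ≃* G => N.map φ.toMonoidHom) (MulEquiv.refl G)
  have hCtop : (⨆ φ : G ≃* G, N.map φ.toMonoidHom) = ⊤ := by
    rcases hcs _ hchar with h | h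
    · exfalso
      rw [h] at hNle
      exact hN.2.1 (le_bot_iff.mp hNle)
    · exact h
  have hMtop : M = ⊤ := by
    rw [eq_top_iff, ← hCtop]
    exact iSup_le hall
  -- k ≥ 1
  have hk : 1 ≤ k := by
    by_contra hk
    have hk0 : k = 0 := by omega
    subst hk0
    have : Subsingleton M := e.toEquiv.subsingleton
    rw [hMtop] at this
    have : Subsingleton G := by
      refine ⟨fun a b => ?_⟩
      have := Subsingleton.elim (⟨a, Subgroup.mem_top a⟩ : (⊤ : Subgroup G)) ⟨b, Subgroup.mem_top b⟩
      exact Subtype.ext_iff.mp this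
    exact not_subsingleton G this
  -- N simple
  have hsimple : IsSimpleGroup N := by
    have key : ∀ (M : Subgroup G) (k : ℕ), Stage N M k → M = ⊤ → 1 ≤ k → IsSimpleGroup N := by
      intro M k h
      cases h with
      | zero => intro _ h; omega
      | step M' k' φ hst hdis =>
        intro htop _
        have hM'n := (stage_iso hNn hst).1
        have hs := simple_of_complement hM'n (hN.map φ) hdis htop
        have e2 : ↥N ≃* ↥(N.map φ.toMonoidHom) := φ.subgroupMap N
        haveI : Nontrivial N := (Subgroup.nontrivial_iff_ne_bot N).mpr hN.2.1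
        haveI := hs
        exact IsSimpleGroup.isSimpleGroup_of_surjective e2.symm.toMonoidHom e2.symm.surjective
    exact key M k hMk hMtop hk
  -- shrink
  haveI : Finite N := inferInstance
  have eS : Shrink.{0} ↥N ≃* ↥N := Shrink.mulEquiv
  refine ⟨Shrink.{0} N, inferInstance, ?_, k, hk, ?_⟩
  · haveI : Nontrivial N := (Subgroup.nontrivial_iff_ne_bot N).mpr hN.2.1
    haveI : Nontrivial (Shrink.{0} N) := eS.toEquiv.nontrivial
    haveI := hsimple
    exact IsSimpleGroup.isSimpleGroup_of_surjective eS.symm.toMonoidHom eS.symm.surjective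
  · have e0 : G ≃* (⊤ : Subgroup G) := Subgroup.topEquiv.symm
    have e1 : (⊤ : Subgroup G) ≃* M := MulEquiv.subgroupCongr hMtop.symm
    have e3 : (Fin k → N) ≃* (Fin k → Shrink.{0} N) :=
      MulEquiv.piCongrRight (fun _ => eS.symm)
    exact ⟨((e0.trans e1).trans e).trans e3⟩

end fwd

section bwd

variable {S : Type*} [Group S] {n : ℕ}

/-- coordinate permutation automorphism -/
def permAut (σ : Equiv.Perm (Fin n)) : (Fin n → S) ≃* (Fin n → S) where
  toFun y := y ∘ σ
  invFun y := y ∘ σ.symm
  left_inv y := by funext i; simp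
  right_inv y := by funext i; simp
  map_mul' a b := rfl

/-- transvection automorphism for commutative `S` -/
def transAut (hcomm : ∀ a b : S, a * b = b * a) (i j : Fin n) (hij : i ≠ j) :
    (Fin n → S) ≃* (Fin n → S) where
  toFun y := y * Pi.mulSingle j (y i)
  invFun y := y * Pi.mulSingle j (y i)⁻¹
  left_inv y := by
    have h1 : (y * Pi.mulSingle j (y i) : Fin n → S) i = y i := by
      rw [Pi.mul_apply, Pi.mulSingle_eq_of_ne hij, mul_one]
    change (y * Pi.mulSingle j (y i)) * Pi.mulSingle j ((y * Pi.mulSingle j (y i) : Fin n → S) i)⁻¹ = y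
    rw [h1, Pi.mulSingle_inv, mul_inv_cancel_right]
  right_inv y := by
    have h1 : (y * Pi.mulSingle j (y i)⁻¹ : Fin n → S) i = y i := by
      rw [Pi.mul_apply, Pi.mulSingle_eq_of_ne hij, mul_one]
    change (y * Pi.mulSingle j (y i)⁻¹) * Pi.mulSingle j ((y * Pi.mulSingle j (y i)⁻¹ : Fin n → S) i) = y
    rw [h1, Pi.mulSingle_inv, inv_mul_cancel_right]
  map_mul' a b := by
    funext k
    by_cases hk : k = j
    · subst hk
      simp only [Pi.mul_apply, Pi.mulSingle_eq_same]
      rw [mul_assoc, mul_assoc, ← mul_assoc (b k), hcomm (b k) (a i), mul_assoc]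
    · simp only [Pi.mul_apply, Pi.mulSingle_eq_of_ne hk, mul_one]

theorem charSimple_pi [IsSimpleGroup S] (H : Subgroup (Fin n → S)) (hH : H.Characteristic)
    (h0 : H ≠ ⊥) : H = ⊤ := by
  classical
  haveI := hH
  have hHn : H.Normal := inferInstance
  have hperm : ∀ (σ : Equiv.Perm (Fin n)) (y : Fin n → S), y ∈ H → y ∘ σ ∈ H := by
    intro σ y hy
    have := (Subgroup.characteristic_iff_map_le.mp hH) (permAut σ)
    exact this ⟨y, hy, rfl⟩
  have key : ∀ i : Fin n, ∀ s : S, Pi.mulSingle i s ∈ H := by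
    intro i
    have hNi : (H.comap (MonoidHom.mulSingle (fun _ : Fin n => S) i)).Normal :=
      Subgroup.Normal.comap hHn _
    rcases hNi.eq_bot_or_eq_top with hb | ht
    · exfalso
      obtain ⟨x, hx, hx1⟩ : ∃ x ∈ H, x ≠ 1 := by
        by_contra hcon
        push Not at hcon
        exact h0 ((Subgroup.eq_bot_iff_forall H).mpr hcon)
      obtain ⟨j, hj⟩ : ∃ j, x j ≠ 1 := by
        by_contra h; push Not at h; exact hx1 (funext h)
      set x' := x ∘ (Equiv.swap i j) with hx'
      have hx'H : x' ∈ H := hperm _ x hx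
      have hx'i : x' i ≠ 1 := by simp [hx', hj]
      have hmemNi : ∀ s : S, Pi.mulSingle i s ∈ H → s = 1 := by
        intro s hs
        have : s ∈ H.comap (MonoidHom.mulSingle (fun _ : Fin n => S) i) := hs
        rw [hb, Subgroup.mem_bot] at this
        exact this
      have hcen : ∀ s : S, s * x' i = x' i * s := by
        intro s
        have hmem : Pi.mulSingle i s * x' * (Pi.mulSingle i s)⁻¹ * x'⁻¹ ∈ H :=
          H.mul_mem (hHn.conj_mem x' hx'H _) (H.inv_mem hx'H)
        have heq : Pi.mulSingle i s * x' * (Pi.mulSingle i s)⁻¹ * x'⁻¹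
            = Pi.mulSingle i (s * x' i * s⁻¹ * (x' i)⁻¹) := by
          funext k
          by_cases hk : k = i
          · subst hk; simp
          · simp [Pi.mulSingle_eq_of_ne hk]
        rw [heq] at hmem
        have := hmemNi _ hmem
        calc s * x' i = (s * x' i * s⁻¹ * (x' i)⁻¹) * (x' i * s) := by group
          _ = x' i * s := by rw [this, one_mul]
      have hcomm : ∀ a b : S, a * b = b * a := by
        have hz : x' i ∈ Subgroup.center S := Subgroup.mem_center_iff.mpr (fun s => hcen s)
        rcases (inferInstance : (Subgroup.center S).Normal).eq_bot_or_eq_top with h | h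
        · rw [h, Subgroup.mem_bot] at hz; exact absurd hz hx'i
        · intro a b
          have hb' : b ∈ Subgroup.center S := by rw [h]; exact Subgroup.mem_top b
          exact (Subgroup.mem_center_iff.mp hb' a)
      by_cases hex : ∃ j', j' ≠ i
      · obtain ⟨j', hj'⟩ := hex
        have ht := (Subgroup.characteristic_iff_map_le.mp hH) (transAut hcomm i j' (Ne.symm hj'))
        have h1 : x' * Pi.mulSingle j' (x' i) ∈ H := ht ⟨x', hx'H, rfl⟩
        have h2 : Pi.mulSingle j' (x' i) ∈ H := by
          have := H.mul_mem (H.inv_mem hx'H) h1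
          rwa [inv_mul_cancel_left] at this
        have h3 := hperm (Equiv.swap i j') _ h2
        have h4 : (Pi.mulSingle j' (x' i) : Fin n → S) ∘ (Equiv.swap i j') = Pi.mulSingle i (x' i) := by
          funext k
          simp only [Function.comp_apply, Pi.mulSingle_apply]
          by_cases hk : k = i
          · subst hk; simp
          · by_cases hk' : k = j'
            · subst hk'; simp [hk, Ne.symm hk]
            · rw [Equiv.swap_apply_of_ne_of_ne hk hk']; simp [hk, hk']
        rw [h4] at h3
        exact hx'i (hmemNi _ h3)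
      · push Not at hex
        have hx'eq : x' = Pi.mulSingle i (x' i) := by
          funext k; rw [hex k]; simp
        have hmem : Pi.mulSingle i (x' i) ∈ H := by rw [← hx'eq]; exact hx'H
        exact hx'i (hmemNi _ hmem)
    · intro s
      have : s ∈ H.comap (MonoidHom.mulSingle (fun _ : Fin n => S) i) := by
        rw [ht]; exact Subgroup.mem_top s
      exact this
  rw [eq_top_iff]
  intro x _
  exact Subgroup.pi_mem_of_mulSingle_mem x (fun i => key i (x i))

theorem backward {G : Type*} [Group G] (e : G ≃* (Fin n → S)) [IsSimpleGroup S]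
    (H : Subgroup G) (hH : H.Characteristic) : H = ⊥ ∨ H = ⊤ := by
  by_cases h0 : H = ⊥
  · left; exact h0
  · right
    have hH' : (H.map e.toMonoidHom).Characteristic := by
      rw [Subgroup.characteristic_iff_map_le]
      intro ψ
      rintro _ ⟨_, ⟨h, hh, rfl⟩, rfl⟩
      refine ⟨((e.trans ψ).trans e.symm) h, ?_, by simp⟩
      have := (Subgroup.characteristic_iff_map_le.mp hH) ((e.trans ψ).trans e.symm)
      exact this ⟨h, hh, rfl⟩
    have h0' : H.map e.toMonoidHom ≠ ⊥ := by
      intro h
      rw [Subgroup.map_eq_bot_iff_of_injective _ e.injective] at h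
      exact h0 h
    have htop := charSimple_pi _ hH' h0'
    rw [eq_top_iff]
    intro g _
    have : e g ∈ H.map e.toMonoidHom := by rw [htop]; exact Subgroup.mem_top _
    obtain ⟨h, hh, hhe⟩ := this
    have : h = g := e.injective hhe
    exact this ▸ hh

end bwd

/-- A non-trivial finite group G is characteristically simple (its only characteristic subgroups are 1 and G) if and only if G is isomorphic to a direct power S^n (n ≥ 1) of some simple group S (possibly cyclic of prime order). -/
theorem result {G : Type*} [Group G] [Finite G] [Nontrivial G] :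
    (∀ H : Subgroup G, H.Characteristic → H = ⊥ ∨ H = ⊤) ↔
    ∃ (S : Type) (_ : Group S) (_ : IsSimpleGroup S) (n : ℕ), 1 ≤ n ∧ Nonempty (G ≃* (Fin n → S)) := by
  constructor
  · exact forward
  · rintro ⟨S, hS, hSs, n, -, ⟨e⟩⟩ H hH
    exact backward e H hH

end Cfsg.Agent.S5914
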