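import Cfsg.Statements.S4620
import Mathlib.Tactic
import Cfsg.Agent.S5914
import Cfsg.Agent.Lib.Helper2.Cores

set_option autoImplicit false
open Cfsg

namespace Cfsg.Agent.S4620

open scoped Pointwise
open Cfsg.Agent.Lib.Helper2

universe u

section

variable {H : Type u} [Group H]

lemma mem_conj_smul {Q : Subgroup H} {g y : H} : y ∈ MulAut.conj g • Q ↔ g⁻¹ * y * g ∈ Q := by
  rw [Subgroup.mem_pointwise_smul_iff_inv_smul_mem, MulAut.smul_def, MulAut.conj_inv_apply]

/-- element form of the TI property -/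
def TI (Q : Subgroup H) : Prop :=
  ∀ g y : H, y ≠ 1 → y ∈ Q → g⁻¹ * y * g ∈ Q → g ∈ Subgroup.normalizer (Q : Set H)

lemma TI_of_hyp (Q : Subgroup H)
    (h : ∀ g : H, g ∉ Subgroup.normalizer (Q : Set H) → Q ⊓ (MulAut.conj g • Q) = ⊥) : TI Q := by
  intro g y hy hyQ hyg
  by_contra hg
  have hmem : y ∈ Q ⊓ MulAut.conj g • Q := ⟨hyQ, mem_conj_smul.mpr hyg⟩
  rw [h g hg, Subgroup.mem_bot] at hmem
  exact hy hmem

lemma hyp_of_TI (Q : Subgroup H) (h : TI Q) (g : H)
    (hg : g ∉ Subgroup.normalizer (Q : Set H)) : Q ⊓ (MulAut.conj g • Q) = ⊥ := by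
  rw [Subgroup.eq_bot_iff_forall]
  rintro y ⟨hy1, hy2⟩
  by_contra hy
  exact hg (h g y hy hy1 (mem_conj_smul.mp hy2))

lemma TI.conj {Q : Subgroup H} (h : TI Q) (k : H) : TI (MulAut.conj k • Q) := by
  intro g y hy hyQ hyg
  rw [mem_conj_smul] at hyQ hyg
  have hy' : k⁻¹ * y * k ≠ 1 := by
    intro h1
    apply hy
    have : y = k * (k⁻¹ * y * k) * k⁻¹ := by group
    rw [this, h1]; group
  have h2 : (k⁻¹ * g * k)⁻¹ * (k⁻¹ * y * k) * (k⁻¹ * g * k) ∈ Q := by
    have : (k⁻¹ * g * k)⁻¹ * (k⁻¹ * y * k) * (k⁻¹ * g * k) = k⁻¹ * (g⁻¹ * y * g) * k := by group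
    rw [this]; exact hyg
  have h3 := h (k⁻¹ * g * k) (k⁻¹ * y * k) hy' hyQ h2
  rw [Subgroup.mem_set_normalizer_iff] at h3 ⊢
  intro z
  change z ∈ MulAut.conj k • Q ↔ g * z * g⁻¹ ∈ MulAut.conj k • Q
  rw [mem_conj_smul, mem_conj_smul]
  have h4 := h3 (k⁻¹ * z * k)
  have e : k⁻¹ * g * k * (k⁻¹ * z * k) * (k⁻¹ * g * k)⁻¹ = k⁻¹ * (g * z * g⁻¹) * k := by group
  rw [e] at h4
  exact h4

/-- a `p`-element normalizing a Sylow `p`-subgroup lies in it -/
lemma mem_sylow_of_normalizer [Finite H] {p : ℕ} [Fact p.Prime] (Q : Sylow p H) (z : H)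
    (hz : z ∈ Subgroup.normalizer ((Q : Subgroup H) : Set H))
    (hzp : IsPGroup p (Subgroup.zpowers z)) : z ∈ (Q : Subgroup H) := by
  have hle : Subgroup.zpowers z ≤ Subgroup.normalizer ((Q : Subgroup H) : Set H) := by
    rw [Subgroup.zpowers_le]; exact hz
  have hsup : IsPGroup p (Subgroup.zpowers z ⊔ (Q : Subgroup H) : Subgroup H) :=
    hzp.to_sup_of_normal_right' Q.isPGroup' hle
  have := Q.is_maximal' hsup le_sup_right
  rw [← this]
  exact Subgroup.mem_sup_left (Subgroup.mem_zpowers z)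

theorem two_normal [Finite H] (p : ℕ) [Fact p.Prime]
    (hOp : Cfsg.pCore p H = ⊥) (hOp' : Cfsg.pPrimeCore p H = ⊥) (P : Sylow p H)
    (hTI : TI (P : Subgroup H))
    (N1 N2 : Subgroup H) (h1 : N1.Normal) (h2 : N2.Normal)
    (hcomm : ∀ a ∈ N1, ∀ b ∈ N2, a * b = b * a) (h20 : N2 ≠ ⊥) : N1 = ⊥ := by
  have hpp : p.Prime := Fact.out
  -- p ∣ card N2
  have hp2 : p ∣ Nat.card N2 := by
    by_contra h
    have hc : (Nat.card N2).Coprime p := (hpp.coprime_iff_not_dvd.mpr h).symm
    haveI := h2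
    have := le_pPrimeCore (G := H) hc
    rw [hOp'] at this
    exact h20 (le_bot_iff.mp this)
  obtain ⟨y, hy⟩ := exists_prime_orderOf_dvd_card' p hp2
  have hyo : orderOf (y : H) = p := by rw [Subgroup.orderOf_coe]; exact hy
  have hyp : IsPGroup p (Subgroup.zpowers (y : H)) := by
    rw [IsPGroup.iff_card, Nat.card_zpowers, hyo]
    exact ⟨1, (pow_one p).symm⟩
  obtain ⟨Q, hQ⟩ := hyp.exists_le_sylow
  obtain ⟨k, hk⟩ := MulAction.exists_smul_eq H P Q
  have hTIQ : TI (Q : Subgroup H) := by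
    rw [← hk, Sylow.coe_subgroup_smul]; exact hTI.conj k
  have hyQ : (y : H) ∈ (Q : Subgroup H) := hQ (Subgroup.mem_zpowers _)
  have hy1 : (y : H) ≠ 1 := by
    intro h
    rw [h, orderOf_one] at hyo
    exact hpp.one_lt.ne hyo
  -- N1 ≤ N(Q)
  have hN1 : ∀ x ∈ N1, x ∈ Subgroup.normalizer ((Q : Subgroup H) : Set H) := by
    intro x hx
    apply hTIQ x y hy1 hyQ
    have : x⁻¹ * (y : H) * x = y := by
      rw [mul_assoc, ← hcomm x hx y y.2, inv_mul_cancel_left]
    rw [this]; exact hyQ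
  -- p-elements of N1 lie in Q
  have hpel : ∀ z ∈ N1, IsPGroup p (Subgroup.zpowers z) → z ∈ (Q : Subgroup H) :=
    fun z hz hzp => mem_sylow_of_normalizer Q z (hN1 z hz) hzp
  -- R = N1 ⊓ Q normal
  have hRn : (N1 ⊓ (Q : Subgroup H)).Normal := by
    refine ⟨fun r hr h => ⟨h1.conj_mem r hr.1 h, ?_⟩⟩
    apply hpel _ (h1.conj_mem r hr.1 h)
    have hrp : IsPGroup p (Subgroup.zpowers r) :=
      Q.isPGroup'.to_le (by rw [Subgroup.zpowers_le]; exact hr.2)
    rw [IsPGroup.iff_card, Nat.card_zpowers] at hrp ⊢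
    have : orderOf (h * r * h⁻¹) = orderOf r := by
      have := orderOf_injective (MulAut.conj h).toMonoidHom (MulAut.conj h).injective r
      simpa using this
    rw [this]; exact hrp
  have hR : N1 ⊓ (Q : Subgroup H) = ⊥ := by
    haveI := hRn
    have hRp : IsPGroup p (N1 ⊓ (Q : Subgroup H) : Subgroup H) := Q.isPGroup'.to_le inf_le_right
    have := le_pCore (G := H) hRp
    rw [hOp] at this
    exact le_bot_iff.mp this
  -- N1 is a p'-group
  have hc1 : (Nat.card N1).Coprime p := by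
    apply Nat.Coprime.symm
    rw [hpp.coprime_iff_not_dvd]
    intro hdvd
    obtain ⟨z, hz⟩ := exists_prime_orderOf_dvd_card' p hdvd
    have hzo : orderOf (z : H) = p := by rw [Subgroup.orderOf_coe]; exact hz
    have hzp : IsPGroup p (Subgroup.zpowers (z : H)) := by
      rw [IsPGroup.iff_card, Nat.card_zpowers, hzo]
      exact ⟨1, (pow_one p).symm⟩
    have hzQ := hpel z z.2 hzp
    have : (z : H) ∈ N1 ⊓ (Q : Subgroup H) := ⟨z.2, hzQ⟩
    rw [hR, Subgroup.mem_bot] at this
    rw [this, orderOf_one] at hzo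
    exact hpp.one_lt.ne hzo
  haveI := h1
  have := le_pPrimeCore (G := H) hc1
  rw [hOp'] at this
  exact le_bot_iff.mp this

theorem min_normal [Finite H] (p : ℕ) [Fact p.Prime]
    (hOp : Cfsg.pCore p H = ⊥) (hOp' : Cfsg.pPrimeCore p H = ⊥) (P : Sylow p H)
    (hP1 : (P : Subgroup H) ≠ ⊥) (hTI : TI (P : Subgroup H)) :
    ∃ N : Subgroup H, N.Normal ∧ N ≠ ⊥ ∧ (∀ K : Subgroup H, K.Normal → K ≠ ⊥ → N ≤ K) ∧
      Subgroup.centralizer (N : Set H) = ⊥ ∧ ¬ IsMulCommutative N ∧ p ∣ Nat.card N := by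
  have hpp : p.Prime := Fact.out
  haveI : Nontrivial H := by
    obtain ⟨x, hx⟩ := (Subgroup.ne_bot_iff_exists_ne_one).mp hP1
    exact ⟨(x : H), 1, fun h => hx (Subtype.ext h)⟩
  obtain ⟨N, hNn, hN0, hNmin⟩ := Cfsg.Agent.S5914.exists_minNormal (G := H)
  have hcen : Subgroup.centralizer (N : Set H) = ⊥ := by
    haveI := hNn
    apply two_normal p hOp hOp' P hTI _ N inferInstance hNn _ hN0
    intro a ha b hb
    exact (ha b hb).symm
  refine ⟨N, hNn, hN0, ?_, hcen, ?_, ?_⟩
  · intro K hK hK0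
    have hinf : (N ⊓ K).Normal := by haveI := hNn; haveI := hK; infer_instance
    rcases hNmin _ hinf inf_le_left with h | h
    · exfalso
      have hdis : Disjoint N K := disjoint_iff.mpr h
      have := two_normal p hOp hOp' P hTI N K hNn hK
        (fun a ha b hb => Subgroup.commute_of_normal_of_disjoint N K hNn hK hdis a b ha hb) hK0
      exact hN0 this
    · rw [← h]; exact inf_le_right
  · intro hc
    apply hN0
    rw [eq_bot_iff, ← hcen]
    intro x hx
    rw [Subgroup.mem_centralizer_iff]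
    intro y hy
    have := hc.is_comm.comm (⟨y, hy⟩ : N) ⟨x, hx⟩
    exact congrArg Subtype.val this
  · by_contra h
    have hc : (Nat.card N).Coprime p := (hpp.coprime_iff_not_dvd.mpr h).symm
    haveI := hNn
    have := le_pPrimeCore (G := H) hc
    rw [hOp'] at this
    exact hN0 (le_bot_iff.mp this)

lemma TI_sub [Finite H] (p : ℕ) [Fact p.Prime] (P : Sylow p H) (hTI : TI (P : Subgroup H))
    (N : Subgroup H) (Q : Sylow p N) : TI (Q : Subgroup N) := by
  have hQp : IsPGroup p ((Q : Subgroup N).map N.subtype) := Q.isPGroup'.map _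
  obtain ⟨P', hP'⟩ := hQp.exists_le_sylow
  obtain ⟨k, hk⟩ := MulAction.exists_smul_eq H P P'
  have hTI' : TI (P' : Subgroup H) := by
    rw [← hk, Sylow.coe_subgroup_smul]; exact hTI.conj k
  have hmem : ∀ z : N, z ∈ (Q : Subgroup N) ↔ (z : H) ∈ (P' : Subgroup H) := by
    intro z
    constructor
    · intro hz; exact hP' ⟨z, hz, rfl⟩
    · intro hz
      have hcp : IsPGroup p ((P' : Subgroup H).subgroupOf N) :=
        P'.isPGroup'.comap_of_injective N.subtype N.subtype_injective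
      have hle : (Q : Subgroup N) ≤ (P' : Subgroup H).subgroupOf N := by
        intro w hw
        rw [Subgroup.mem_subgroupOf]
        exact hP' ⟨w, hw, rfl⟩
      have := Q.is_maximal' hcp hle
      rw [← this, Subgroup.mem_subgroupOf]
      exact hz
  intro n y hy hyQ hyn
  have h1 : (y : H) ≠ 1 := fun h => hy (Subtype.ext h)
  have h2 := (hmem y).mp hyQ
  have h3 := (hmem _).mp hyn
  have h4 : (n : H) ∈ Subgroup.normalizer ((P' : Subgroup H) : Set H) :=
    hTI' n y h1 h2 (by simpa using h3)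
  rw [Subgroup.mem_set_normalizer_iff] at h4 ⊢
  intro z
  change z ∈ (Q : Subgroup N) ↔ n * z * n⁻¹ ∈ (Q : Subgroup N)
  rw [hmem, hmem]
  simp only [Subgroup.coe_mul, Subgroup.coe_inv]
  exact h4 (z : H)

end

/-- Let H be a finite group with no nontrivial normal p-subgroup and no nontrivial normal subgroup of order prime to p, whose Sylow p-subgroup P is nontrivial and a trivial-intersection set (P meets its conjugates by elements outside N_H(P) trivially). Then H has a unique minimal normal subgroup N; N is non-abelian simple with trivial centralizer in H (so H embeds in Aut(N)), and a Sylow p-subgroup of N is again a nontrivial trivial-intersection set in N. -/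
theorem result {H : Type*} [Group H] [Finite H] (p : ℕ) [Fact p.Prime] (hOp : Cfsg.pCore p H = ⊥) (hOp' : Cfsg.pPrimeCore p H = ⊥) (P : Sylow p H) (hP1 : (P : Subgroup H) ≠ ⊥)
    (hTI : ∀ g : H, g ∉ Subgroup.normalizer ((P : Subgroup H) : Set H) → (P : Subgroup H) ⊓ (MulAut.conj g • (P : Subgroup H)) = ⊥) :
    ∃ N : Subgroup H, N.Normal ∧ N ≠ ⊥ ∧ (∀ K : Subgroup H, K.Normal → K ≠ ⊥ → N ≤ K) ∧
      IsSimpleGroup N ∧ ¬ IsMulCommutative N ∧ Subgroup.centralizer (N : Set H) = ⊥ ∧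
      ∀ Q : Sylow p N, (Q : Subgroup N) ≠ ⊥ ∧
        ∀ n : N, n ∉ Subgroup.normalizer ((Q : Subgroup N) : Set N) → (Q : Subgroup N) ⊓ (MulAut.conj n • (Q : Subgroup N)) = ⊥ := by
  have hTI0 : TI (P : Subgroup H) := TI_of_hyp _ hTI
  obtain ⟨N, hNn, hN0, hNle, hcen, hnc, hpN⟩ := min_normal p hOp hOp' P hP1 hTI0
  haveI := hNn
  have hQ0 : ∀ Q : Sylow p N, (Q : Subgroup N) ≠ ⊥ := fun Q => Q.ne_bot_of_dvd_card hpN
  have hQTI : ∀ Q : Sylow p N, TI (Q : Subgroup N) := fun Q => TI_sub p P hTI0 N Q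
  refine ⟨N, hNn, hN0, hNle, ?_, hnc, hcen, fun Q => ⟨hQ0 Q, fun n hn => hyp_of_TI _ (hQTI Q) n hn⟩⟩
  -- simplicity
  have hOpN : Cfsg.pCore p N = ⊥ := by
    haveI := pCore_characteristic (G := N) p
    have hn : ((Cfsg.pCore p N).map N.subtype).Normal := inferInstance
    have hp : IsPGroup p ((Cfsg.pCore p N).map N.subtype) := (pCore_isPGroup (G := N) p).map _
    have := le_pCore (G := H) hp
    rw [hOp, le_bot_iff, Subgroup.map_eq_bot_iff_of_injective _ N.subtype_injective] at this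
    exact this
  have hOpN' : Cfsg.pPrimeCore p N = ⊥ := by
    haveI := pPrimeCore_characteristic (G := N) p
    have hn : ((Cfsg.pPrimeCore p N).map N.subtype).Normal := inferInstance
    have hc : (Nat.card ((Cfsg.pPrimeCore p N).map N.subtype)).Coprime p := by
      rw [Subgroup.card_map_of_injective N.subtype_injective]
      exact pPrimeCore_card_coprime (G := N) p
    have := le_pPrimeCore (G := H) hc
    rw [hOp', le_bot_iff, Subgroup.map_eq_bot_iff_of_injective _ N.subtype_injective] at this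
    exact this
  obtain ⟨Q⟩ := (inferInstance : Nonempty (Sylow p N))
  obtain ⟨K, hKn, hK0, hKle, -, -, -⟩ := min_normal p hOpN hOpN' Q (hQ0 Q) (hQTI Q)
  have hKchar : K.Characteristic := by
    rw [Subgroup.characteristic_iff_le_map]
    intro φ
    apply hKle
    · exact Subgroup.Normal.map hKn φ.toMonoidHom φ.surjective
    · intro h
      rw [Subgroup.map_eq_bot_iff_of_injective _ φ.injective] at h
      exact hK0 h
  have hKtop : K = ⊤ := by
    haveI := hKchar
    have hn : (K.map N.subtype).Normal := inferInstance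
    have h0 : K.map N.subtype ≠ ⊥ := by
      intro h
      rw [Subgroup.map_eq_bot_iff_of_injective _ N.subtype_injective] at h
      exact hK0 h
    have hle := hNle _ hn h0
    rw [eq_top_iff]
    intro x _
    obtain ⟨y, hy, hyx⟩ := hle x.2
    have : y = x := Subtype.ext hyx
    exact this ▸ hy
  haveI : Nontrivial N := (Subgroup.nontrivial_iff_ne_bot N).mpr hN0
  refine ⟨fun K' hK' => ?_⟩
  by_cases h : K' = ⊥
  · left; exact h
  · right
    rw [eq_top_iff, ← hKtop]
    exact hKle K' hK' h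

end Cfsg.Agent.S4620
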