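import Cfsg.Statements.S4626
import Mathlib
import Cfsg.Agent.Lib.Helper6.BlkNormalP
import Cfsg.Agent.Lib.Helper6.BlkQuot
import Cfsg.Agent.Lib.Helper6.Multiplicity
import Cfsg.Agent.Lib.Helper6.BlkLocal
import Cfsg.Agent.Lib.Helper6.BlkDefect
import Cfsg.Agent.Lib.Helper6.ClassSum

set_option autoImplicit false
open Cfsg

namespace Cfsg.Agent.S4626

open Cfsg.Agent.Lib.Helper6

/-- Let G be a finite group, p a prime, M a maximal ideal of the algebraic integers containing p, P a Sylow p-subgroup of G and N a normal subgroup of index prime to p containing the centralizer C_G(P). Then every irreducible character of G whose kernel contains N lies in the principal p-block of G. -/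
theorem result {G : Type*} [Group G] [Finite G] (p : ℕ) [Fact p.Prime] (M : Ideal Cfsg.AlgInt) (hM : Cfsg.IsPModular p M) (P : Sylow p G) (N : Subgroup G) [N.Normal] (hidx : ¬ p ∣ N.index)
    (hC : Subgroup.centralizer ((P : Subgroup G) : Set G) ≤ N) (χ : Cfsg.IrrCharacter G) (hker : ∀ n ∈ N, (χ : G → ℂ) n = (χ : G → ℂ) 1) :
    χ ∈ Cfsg.principalBlock M G := by
  classical
  have : Fintype G := Fintype.ofFinite G
  have hp : p.Prime := hM.1
  obtain ⟨β, hβ⟩ := IsIrrCharacter.exists_deflation N χ hker
  have hχc := IsIrrCharacter.isCharacter χ.2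
  have hχ1 := IsCharacter.apply_one_eq_charDegree hχc
  have hdeg : ¬ p ∣ Cfsg.charDegree (χ : G → ℂ) := by
    have h1 : Cfsg.charDegree (χ : G → ℂ) = Cfsg.charDegree (β : G ⧸ N → ℂ) := by
      unfold Cfsg.charDegree
      rw [hβ]
      simp
    have h2 := IsIrrCharacter.charDegree_dvd_card β.2
    intro h
    apply hidx
    rw [Subgroup.index_eq_card]
    rw [h1] at h
    exact dvd_trans h h2
  have hdeg0 : (Cfsg.charDegree (χ : G → ℂ) : ℂ) ≠ 0 := by
    intro h
    apply hdeg
    have : Cfsg.charDegree (χ : G → ℂ) = 0 := by exact_mod_cast h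
    rw [this]; exact dvd_zero p
  show Cfsg.SameBlock M (fun _ : G => (1 : ℂ)) (χ : G → ℂ)
  intro g
  unfold Cfsg.centralChar
  rw [hχ1]
  by_cases hg : p ∣ (Subgroup.centralizer ({g} : Set G)).index
  · have h1 : Cfsg.MemLocalIdeal M (((Subgroup.centralizer ({g} : Set G)).index : ℕ) : ℂ) :=
      (memLocalIdeal_natCast_iff hM _).mpr hg
    apply MemLocalIdeal.sub hM
    · simpa using h1
    · have h2 : ((Subgroup.centralizer ({g} : Set G)).index : ℂ) * (χ : G → ℂ) g
          / (Cfsg.charDegree (χ : G → ℂ) : ℂ)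
          = ((Subgroup.centralizer ({g} : Set G)).index : ℂ) * ((χ : G → ℂ) g
          * (Cfsg.charDegree (χ : G → ℂ) : ℂ)⁻¹) := by
        rw [div_eq_mul_inv, mul_assoc]
      rw [h2]
      apply MemLocalIdeal.mul_right hM h1
      apply MemLocalRing.mul hM
      · exact memLocalRing_of_isIntegral hM (IsCharacter.isIntegral_apply hχc g)
      · exact memLocalRing_inv_natCast hM hdeg
  · -- some conjugate of `g` centralizes `P`
    have hT := card_modEq_card_inter_centralizer (p := p) (P : Subgroup G) P.2
      {t : G | IsConj g t} (by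
        intro u _ t ht
        exact ht.trans (isConj_iff.mpr ⟨u, rfl⟩))
    have hcard : Nat.card {t : G | IsConj g t} = (Subgroup.centralizer ({g} : Set G)).index := by
      rw [← card_conj_eq_index g, Nat.card_eq_fintype_card, ← Fintype.card_subtype]
      rfl
    rw [hcard] at hT
    have hne : Nat.card {t : G // t ∈ {t : G | IsConj g t} ∧
        t ∈ Subgroup.centralizer ((P : Subgroup G) : Set G)} ≠ 0 := by
      intro h0
      rw [h0] at hT
      exact hg ((Nat.modEq_zero_iff_dvd).mp hT)
    have hnonempty : Nonempty {t : G // t ∈ {t : G | IsConj g t} ∧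
        t ∈ Subgroup.centralizer ((P : Subgroup G) : Set G)} := by
      by_contra hcon
      rw [not_nonempty_iff] at hcon
      exact hne Nat.card_of_isEmpty
    obtain ⟨t, htg, htC⟩ := hnonempty
    have htN : t ∈ N := hC htC
    obtain ⟨c, hc⟩ := isConj_iff.mp htg
    have hval : (χ : G → ℂ) g = (Cfsg.charDegree (χ : G → ℂ) : ℂ) := by
      rw [← hχ1, ← hker t htN, ← hc]
      exact (IsIrrCharacter.isClassFunction χ.2 g c).symm
    rw [hval]
    have : ((Subgroup.centralizer ({g} : Set G)).index : ℂ) * 1 / 1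
        - ((Subgroup.centralizer ({g} : Set G)).index : ℂ) * (Cfsg.charDegree (χ : G → ℂ) : ℂ)
          / (Cfsg.charDegree (χ : G → ℂ) : ℂ) = 0 := by
      field_simp
      ring
    rw [this]
    exact memLocalIdeal_zero hM

end Cfsg.Agent.S4626
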