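import Cfsg.Statements.S4633
import Mathlib
import Cfsg.Agent.Lib.Helper6.BrCyc

set_option autoImplicit false
open Cfsg

namespace Cfsg.Agent.S4633

open Cfsg.Agent.Lib.Helper6

/-- Let B be a block of the finite group G relative to a maximal ideal M of the algebraic integers containing the prime p, with a nontrivial cyclic defect group P. Let c be a block of C_G(P) inducing B and T the stabilizer of c in N_G(P) (the elements of N_G(P) conjugating c to itself); T contains C_G(P). Then T/C_G(P) is cyclic of order dividing p − 1, and it acts freely on the non-identity elements of P: an element of T fixing some non-identity element of P under conjugation lies in C_G(P). -/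
theorem result {G : Type*} [Group G] [Finite G] (p : ℕ) [Fact p.Prime] (M : Ideal Cfsg.AlgInt) (hM : Cfsg.IsPModular p M) (B : Set (Cfsg.IrrCharacter G)) (hB : Cfsg.IsPBlock M B) (P : Subgroup G) (hPD : Cfsg.IsDefectGroup p M B P) (hP1 : P ≠ ⊥) (hcyc : IsCyclic P) (c : Set (Cfsg.IrrCharacter (Subgroup.centralizer (P : Set G)))) (hc : Cfsg.IsInducedBlock M (Subgroup.centralizer (P : Set G)) c B) (T : Subgroup G) (hT : ∀ g : G, g ∈ T ↔ (g ∈ Subgroup.normalizer (P : Set G) ∧ Cfsg.StabilizesBlock (Subgroup.centralizer (P : Set G)) c g)) [hn : ((Subgroup.centralizer (P : Set G)).subgroupOf T).Normal] : IsCyclic (T ⧸ (Subgroup.centralizer (P : Set G)).subgroupOf T) ∧ (Subgroup.centralizer (P : Set G)).relIndex T ∣ p - 1 ∧ ∀ g ∈ T, ∀ x ∈ P, x ≠ 1 → g * x * g⁻¹ = x → g ∈ Subgroup.centralizer (P : Set G) := by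
  classical
  have : Fintype G := Fintype.ofFinite G
  have : Fintype (Subgroup.centralizer (P : Set G)) := Fintype.ofFinite _
  have hPp : IsPGroup p P := IsDefectGroup.isPGroup' hPD
  have hPc : Cfsg.IsBrauerPairOf p M B P c :=
    (isBrauerPairOf_iff_isInducedBlock hM P hPp c B).mpr hc
  have hmax := isMaximalBrauerPair_of_isDefectGroup hM B P c hPD hPc
  have hTN : T ≤ Subgroup.normalizer (P : Set G) := fun y hy => ((hT y).mp hy).1
  haveI : IsCyclic P := hcyc
  have hcomm : ∀ a b : P, a * b = b * a :=
    fun a b => (IsCyclic.isMulCommutative (α := P)).is_comm.comm a b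
  have hPC : P ≤ Subgroup.centralizer (P : Set G) := by
    intro a ha
    rw [Subgroup.mem_centralizer_iff]
    intro b hb
    have := hcomm ⟨b, hb⟩ ⟨a, ha⟩
    exact congrArg Subtype.val this
  have hidx := not_dvd_relIndex_of_maximal hM B P c hmax T hT
  rw [sup_eq_right.mpr hPC] at hidx
  -- the conjugation action
  have hker := conjActHom_ker P T hTN
  have hidx' : (Subgroup.centralizer (P : Set G)).relIndex T
      = Nat.card (conjActHom P T hTN).range := by
    change ((Subgroup.centralizer (P : Set G)).subgroupOf T).index = _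
    rw [← hker, Subgroup.index_ker]
  have hcopA : Nat.Coprime (Nat.card (conjActHom P T hTN).range) p := by
    rw [← hidx']
    exact ((Nat.Prime.coprime_iff_not_dvd Fact.out).mpr hidx).symm
  -- the order of `P`
  obtain ⟨n, hn⟩ := (IsPGroup.iff_card.mp hPp)
  have hn0 : n ≠ 0 := by
    rintro rfl
    rw [pow_zero, Subgroup.card_eq_one] at hn
    exact hP1 hn
  have hcardAut : Nat.card (MulAut P) = p ^ (n - 1) * (p - 1) := by
    rw [IsCyclic.card_mulAut, hn, Nat.totient_prime_pow Fact.out (Nat.pos_of_ne_zero hn0)]
  have hdvd : Nat.card (conjActHom P T hTN).range ∣ p - 1 := by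
    have h1 : Nat.card (conjActHom P T hTN).range ∣ p ^ (n - 1) * (p - 1) := by
      rw [← hcardAut]
      exact Subgroup.card_subgroup_dvd_card _
    rw [mul_comm] at h1
    exact (Nat.Coprime.pow_right _ hcopA).dvd_of_dvd_mul_right h1
  have hcycA : IsCyclic (conjActHom P T hTN).range := by
    by_cases hp2 : p = 2
    · have h1 : Nat.card (conjActHom P T hTN).range = 1 := by
        rw [hp2] at hdvd
        exact Nat.dvd_one.mp hdvd
      have : Subsingleton (conjActHom P T hTN).range := (Nat.card_eq_one_iff_unique.mp h1).1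
      exact isCyclic_of_subsingleton
    · have h1 : IsCyclic (ZMod (Nat.card P))ˣ := by
        rw [hn]
        exact ZMod.isCyclic_units_of_prime_pow p Fact.out hp2 n
      have h2 : IsCyclic (MulAut P) :=
        isCyclic_of_surjective (IsCyclic.mulAutMulEquiv P).symm (IsCyclic.mulAutMulEquiv P).symm.surjective
      exact Subgroup.isCyclic _
  refine ⟨?_, ?_, ?_⟩
  · have e1 := QuotientGroup.quotientKerEquivRange (conjActHom P T hTN)
    have e2 : T ⧸ (Subgroup.centralizer (P : Set G)).subgroupOf T
        ≃* T ⧸ (conjActHom P T hTN).ker := QuotientGroup.quotientMulEquivOfEq hker.symm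
    exact isCyclic_of_surjective (e2.trans e1).symm (e2.trans e1).symm.surjective
  · rw [hidx']
    exact hdvd
  · intro g hgT x hxP hx1 hgx
    have hα1 : conjActHom P T hTN ⟨g, hgT⟩ = 1 := by
      apply aut_eq_one_of_fix p hPp _ (orderOf (conjActHom P T hTN ⟨g, hgT⟩))
        (pow_orderOf_eq_one _) _ ⟨x, hxP⟩
      · intro h
        apply hx1
        exact congrArg Subtype.val h
      · apply Subtype.ext
        rw [conjActHom_apply_coe]
        exact hgx
      · have h1 : orderOf (conjActHom P T hTN ⟨g, hgT⟩)
            ∣ Nat.card (conjActHom P T hTN).range := by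
          have h2 := orderOf_dvd_natCard (⟨conjActHom P T hTN ⟨g, hgT⟩, ⟨_, rfl⟩⟩ :
            (conjActHom P T hTN).range)
          rwa [← Subgroup.orderOf_coe] at h2
        exact Nat.Coprime.coprime_dvd_left h1 hcopA
    rw [← MonoidHom.mem_ker, hker, Subgroup.mem_subgroupOf] at hα1
    exact hα1

end Cfsg.Agent.S4633
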