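import Cfsg.Statements.S4636
import Mathlib

set_option autoImplicit false
open scoped Pointwise
open Cfsg

namespace Cfsg.Agent.S4636

theorem subgroup_eq_of_card_eq {H : Type*} [Group H] [Finite H] [IsCyclic H] (A B : Subgroup H)
    (h : Nat.card A = Nat.card B) : A = B := by
  classical
  have : Fintype H := Fintype.ofFinite H
  set n := Nat.card A with hn
  have hn0 : 0 < n := Nat.card_pos
  have hS := IsCyclic.card_pow_eq_one_le (α := H) hn0
  have key : ∀ C : Subgroup H, Nat.card C = n →
      (C : Set H).toFinset = Finset.univ.filter (fun a : H => a ^ n = 1) := by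
    intro C hC
    apply Finset.eq_of_subset_of_card_le
    · intro x hx
      simp only [Set.mem_toFinset, SetLike.mem_coe] at hx
      simp only [Finset.mem_filter, Finset.mem_univ, true_and]
      have h1 : (⟨x, hx⟩ : C) ^ Nat.card C = 1 := pow_card_eq_one'
      rw [hC] at h1
      exact congrArg Subtype.val h1
    · rw [Set.toFinset_card]
      have : Fintype.card (C : Set H) = n := by
        rw [← hC, Nat.card_eq_fintype_card]
        rfl
      rw [this]
      exact hS
  have hA := key A rfl
  have hB := key B h.symm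
  ext x
  have : x ∈ (A : Set H).toFinset ↔ x ∈ (B : Set H).toFinset := by rw [hA, hB]
  simpa using this


/-- Let P be a nontrivial cyclic p-subgroup of the finite group G and Z its subgroup of order p. For every x outside N_G(Z), P meets its conjugate xPx⁻¹ trivially; consequently N_G(Q) ≤ N_G(Z) for every nontrivial subgroup Q of P. -/
theorem result {G : Type*} [Group G] [Finite G] (p : ℕ) [Fact p.Prime] (P : Subgroup G) (hP : IsPGroup p P) (hP1 : P ≠ ⊥) (hcyc : IsCyclic P) (Z : Subgroup G) (hZ : Z ≤ P) (hZcard : Nat.card Z = p) : (∀ x : G, x ∉ Subgroup.normalizer (Z : Set G) → P ⊓ MulAut.conj x • P = ⊥) ∧ ∀ Q : Subgroup G, Q ≤ P → Q ≠ ⊥ → Subgroup.normalizer (Q : Set G) ≤ Subgroup.normalizer (Z : Set G) := by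
  classical
  have _ := hP1
  have hp : p.Prime := Fact.out
  -- uniqueness of the subgroup of order `p` in `P`
  have huniq : ∀ A : Subgroup G, A ≤ P → Nat.card A = p → A = Z := by
    intro A hA hAc
    have h1 : Nat.card (A.subgroupOf P) = Nat.card (Z.subgroupOf P) := by
      rw [Nat.card_congr (Subgroup.subgroupOfEquivOfLe hA).toEquiv,
        Nat.card_congr (Subgroup.subgroupOfEquivOfLe hZ).toEquiv, hAc, hZcard]
    have h2 := subgroup_eq_of_card_eq (A.subgroupOf P) (Z.subgroupOf P) h1
    rw [Subgroup.subgroupOf_inj, inf_eq_left.mpr hA, inf_eq_left.mpr hZ] at h2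
    exact h2
  have part1 : ∀ x : G, x ∉ Subgroup.normalizer (Z : Set G) → P ⊓ MulAut.conj x • P = ⊥ := by
    intro x hx
    by_contra hD
    apply hx
    set D := P ⊓ MulAut.conj x • P with hDdef
    have hDP : D ≤ P := inf_le_left
    have hDpg : IsPGroup p D := hP.to_le hDP
    have hDnt : Nontrivial D := (Subgroup.nontrivial_iff_ne_bot D).mpr hD
    have hdvd : p ∣ Nat.card D := by
      rcases hDpg.card_eq_or_dvd with h | h
      · exfalso
        have := (Nat.card_eq_one_iff_unique.mp h).1
        exact not_subsingleton D this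
      · exact h
    have : Fintype D := Fintype.ofFinite D
    rw [Nat.card_eq_fintype_card] at hdvd
    obtain ⟨d, hd⟩ := exists_prime_orderOf_dvd_card p hdvd
    have hdG : orderOf (d : G) = p := by rw [Subgroup.orderOf_coe]; exact hd
    set Z' := Subgroup.zpowers (d : G) with hZ'
    have hZ'c : Nat.card Z' = p := by rw [Nat.card_zpowers, hdG]
    have hZ'D : Z' ≤ D := Subgroup.zpowers_le.mpr d.2
    have h1 : Z' = Z := huniq Z' (hZ'D.trans hDP) hZ'c
    have h2 : (MulAut.conj x)⁻¹ • Z' = Z := by
      apply huniq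
      · intro y hy
        rw [Subgroup.mem_inv_pointwise_smul_iff] at hy
        have h3 : MulAut.conj x • y ∈ MulAut.conj x • P := (hZ'D hy).2
        exact Subgroup.smul_mem_pointwise_smul_iff.mp h3
      · rw [← Nat.card_congr (Subgroup.equivSMul (MulAut.conj x)⁻¹ Z').toEquiv, hZ'c]
    rw [h1] at h2
    rw [Subgroup.mem_normalizer_iff]
    intro z
    have h4 : x * z * x⁻¹ ∈ Z ↔ MulAut.conj x • z ∈ Z := by
      rw [MulAut.smul_def, MulAut.conj_apply]
    rw [h4, ← Subgroup.mem_inv_pointwise_smul_iff, h2]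
  refine ⟨part1, ?_⟩
  intro Q hQ hQ1 x hx
  by_contra hxZ
  have hbot := part1 x hxZ
  apply hQ1
  rw [eq_bot_iff]
  intro q hq
  rw [← hbot]
  refine ⟨hQ hq, ?_⟩
  change q ∈ MulAut.conj x • P
  rw [Subgroup.mem_pointwise_smul_iff_inv_smul_mem]
  apply hQ
  have hx' : x⁻¹ ∈ Subgroup.normalizer (Q : Set G) := Subgroup.inv_mem _ hx
  have := (Subgroup.mem_normalizer_iff.mp hx' q).mp hq
  simpa [MulAut.smul_def] using this


end Cfsg.Agent.S4636
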