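import Cfsg.Statements.S4687
import Mathlib
import Cfsg.Agent.Lib.Helper6.BrInert

set_option autoImplicit false
open Cfsg

namespace Cfsg.Agent.S4687

open Cfsg.Agent.Lib.Helper6

theorem mem_of_pow_mem_of_coprime {G : Type*} [Group G] (C : Subgroup G) (x : G) (a m : ℕ)
    (hcop : Nat.Coprime a m) (ha : x ^ a ∈ C) (hm : x ^ m ∈ C) : x ∈ C := by
  have h1 : (x ^ a) ^ (Nat.gcdA a m) * (x ^ m) ^ (Nat.gcdB a m) ∈ C :=
    C.mul_mem (C.zpow_mem ha _) (C.zpow_mem hm _)
  have h2 : (x ^ a) ^ (Nat.gcdA a m) * (x ^ m) ^ (Nat.gcdB a m) = x := by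
    rw [← zpow_natCast x a, ← zpow_natCast x m, ← zpow_mul, ← zpow_mul, ← zpow_add,
      ← Nat.gcd_eq_gcd_ab, hcop.gcd_eq_one]
    simp
  rwa [h2] at h1


/-- Fix a prime p and a maximal ideal M of the algebraic integers containing p, and a p-block B of the finite group G with maximal Brauer pair (P, e), P abelian. Then B is nilpotent if and only if its inertial quotient is trivial: every element of N_G(P) stabilizing e centralizes P. -/
theorem result {G : Type*} [Group G] [Fintype G] (p : ℕ) [Fact p.Prime] (M : Ideal Cfsg.AlgInt) (hM : Cfsg.IsPModular p M) (B : Set (Cfsg.IrrCharacter G)) (P : Subgroup G) (e : Set (Cfsg.IrrCharacter (Subgroup.centralizer (P : Set G)))) (hmax : Cfsg.IsMaximalBrauerPair p M B P e) (hab : ∀ x ∈ P, ∀ y ∈ P, x * y = y * x) : Cfsg.IsNilpotentBlock p M B ↔ ∀ x : G, x ∈ Subgroup.normalizer (P : Set G) → Cfsg.StabilizesBlock (Subgroup.centralizer (P : Set G)) e x → x ∈ Subgroup.centralizer (P : Set G) := by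
  classical
  have hp : p.Prime := Fact.out
  have hBe := hmax.1
  have hPe := hBe.1
  have hB := hBe.2.1
  have hPC : P ≤ Subgroup.centralizer (P : Set G) := by
    intro u hu
    rw [Subgroup.mem_centralizer_iff]
    intro q hq
    exact hab q hq u hu
  constructor
  · rintro ⟨_, hnil⟩ x hxN hxst
    obtain ⟨T, hTdef⟩ : ∃ T : Subgroup G,
        T = stabSub (Subgroup.centralizer (P : Set G)) e ⊓ Subgroup.normalizer (P : Set G) :=
      ⟨_, rfl⟩
    have hT : ∀ y : G, y ∈ T ↔ y ∈ Subgroup.normalizer (P : Set G) ∧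
        Cfsg.StabilizesBlock (Subgroup.centralizer (P : Set G)) e y := by
      intro y
      rw [hTdef, Subgroup.mem_inf, mem_stabSub_iff]
      exact And.comm
    have hidx := not_dvd_relIndex_of_maximal hM B P e hmax T hT
    rw [sup_of_le_right hPC] at hidx
    have hxT : x ∈ T := (hT x).mpr ⟨hxN, hxst⟩
    have hKT := centralizer_le_of_stab P e T hT
    have hTNP : T ≤ Subgroup.normalizer (P : Set G) := fun y hy => ((hT y).mp hy).1
    have hTN : T ≤ Subgroup.normalizer
        ((Subgroup.centralizer (P : Set G) : Subgroup G) : Set G) :=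
      hTNP.trans (normalizer_le_normalizer_centralizer P)
    haveI hn : ((Subgroup.centralizer (P : Set G)).subgroupOf T).Normal :=
      Subgroup.normal_subgroupOf_of_le_normalizer hTN
    -- `x ^ m ∈ C`
    have hm : x ^ ((Subgroup.centralizer (P : Set G)).relIndex T)
        ∈ Subgroup.centralizer (P : Set G) := by
      have := Subgroup.pow_index_mem ((Subgroup.centralizer (P : Set G)).subgroupOf T)
        (⟨x, hxT⟩ : T)
      rw [Subgroup.mem_subgroupOf] at this
      have h2 : ((Subgroup.centralizer (P : Set G)).subgroupOf T).index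
          = (Subgroup.centralizer (P : Set G)).relIndex T := rfl
      rw [h2] at this
      simpa using this
    -- the `p'`-part
    have hox : orderOf x ≠ 0 := (orderOf_pos x).ne'
    obtain ⟨a, r, hr, hor⟩ := Nat.exists_eq_pow_mul_and_not_dvd hox p hp.ne_one
    have hreg : Cfsg.IsPRegular p (x ^ (p ^ a)) := by
      unfold Cfsg.IsPRegular
      rw [orderOf_pow' x (pow_ne_zero a hp.ne_zero), hor, Nat.gcd_mul_right_left,
        Nat.mul_div_cancel_left r (pow_pos hp.pos a)]
      exact hr
    have ha : x ^ (p ^ a) ∈ Subgroup.centralizer (P : Set G) := by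
      have h1 : x ^ (p ^ a) ∈ T := T.pow_mem hxT _
      exact hnil P e hBe _ ((hT _).mp h1).1 ((hT _).mp h1).2 hreg
    have hcop : Nat.Coprime (p ^ a) ((Subgroup.centralizer (P : Set G)).relIndex T) :=
      Nat.Coprime.pow_left a ((hp.coprime_iff_not_dvd).mpr hidx)
    exact mem_of_pow_mem_of_coprime _ x _ _ hcop ha hm
  · intro hinert
    refine ⟨hB, ?_⟩
    intro Q f hQf x hxN hxst _
    obtain ⟨g, hg⟩ := exists_conj_subpairLE hM B P Q e f hmax hQf
    have hQgP := le_of_chain _ _ hg
    have hfg : Cfsg.IsPBlock M (Cfsg.conjBlock Q g f) := isPBlock_conjBlock Q g hQf.1.2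
    have hx'N := mem_normalizer_map_conj Q g hxN
    have hx'st := stabilizesBlock_conj Q g f hxst
    obtain ⟨y, hyP, hyst, c, hc, hxyc⟩ := exists_mul_of_abelian hM B P e hmax hab _ _ hQgP hfg hg
      (g * x * g⁻¹) hx'N hx'st
    have hyC : y ∈ Subgroup.centralizer (P : Set G) := hinert y hyP hyst
    have hyCQ : y ∈ Subgroup.centralizer
        ((Q.map (MulAut.conj g).toMonoidHom : Subgroup G) : Set G) :=
      Subgroup.centralizer_le hQgP hyC
    have h1 : g * x * g⁻¹ ∈ Subgroup.centralizer
        ((Q.map (MulAut.conj g).toMonoidHom : Subgroup G) : Set G) := by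
      rw [hxyc]
      exact Subgroup.mul_mem _ hyCQ hc
    rw [mem_centralizer_map_conj_iff] at h1
    have e1 : g⁻¹ * (g * x * g⁻¹) * g = x := by group
    rwa [e1] at h1

end Cfsg.Agent.S4687
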