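import Cfsg.Statements.S4650
import Mathlib
import Cfsg.Agent.Lib.Helper6.BrIndIn
import Cfsg.Agent.S4687

set_option autoImplicit false
open Cfsg

namespace Cfsg.Agent.S4650

open Cfsg.Agent.Lib.Helper6

theorem nilpotent_iff_sub {G : Type*} [Group G] [Fintype G] [DecidableEq G] (p : ℕ) [Fact p.Prime]
    (M : Ideal Cfsg.AlgInt) (hM : Cfsg.IsPModular p M) (B : Set (Cfsg.IrrCharacter G))
    (P : Subgroup G) (c : Set (Cfsg.IrrCharacter (Subgroup.centralizer (P : Set G))))
    (hmax : Cfsg.IsMaximalBrauerPair p M B P c)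
    (hab : ∀ x ∈ P, ∀ y ∈ P, x * y = y * x)
    (T : Subgroup G) (hT : ∀ g : G, g ∈ T ↔ (g ∈ Subgroup.normalizer (P : Set G) ∧
      Cfsg.StabilizesBlock (Subgroup.centralizer (P : Set G)) c g))
    (L : Subgroup G) (hPL : P ≤ L) (hCPL : Subgroup.centralizer (P : Set G) ≤ L)
    (f : Set (Cfsg.IrrCharacter L))
    (hf : Cfsg.IsInducedBlockIn M L (Subgroup.centralizer (P : Set G)) c f) :
    Cfsg.IsNilpotentBlock p M f ↔ ∀ x ∈ T, x ∈ L → x ∈ Subgroup.centralizer (P : Set G) := by
  classical
  have : Fintype L := Fintype.ofFinite _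
  have hPc := hmax.1
  have hB := hPc.2.1
  have hPp := hPc.1.1
  have hHR : (P.subgroupOf L).map L.subtype = P := Subgroup.map_subgroupOf_eq_of_le hPL
  have : Fintype (Subgroup.centralizer ((P.subgroupOf L : Subgroup L) : Set L)) :=
    Fintype.ofFinite _
  have hPLp : IsPGroup p (P.subgroupOf L) := (isPGroup_rel2_iff L _ P hHR).mpr hPp
  have hcen : ∀ y : L, y ∈ Subgroup.centralizer ((P.subgroupOf L : Subgroup L) : Set L)
      ↔ (y : G) ∈ Subgroup.centralizer (P : Set G) := by
    intro y
    constructor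
    · intro hy
      exact coe_mem_centralizer_of_rel2 L _ P hHR ⟨y, hy⟩
    · intro hy
      exact mem_centralizer_rel2_of_mem L _ P hHR hCPL (y : G) hy
  have hφ3 : cE3 L (P.subgroupOf L) P hcen hCPL = cE L (P.subgroupOf L) P hHR hCPL := rfl
  have hbridge := (isInducedBlockIn_iff (M := M) L (Subgroup.centralizer (P : Set G)) _
    (cE L (P.subgroupOf L) P hHR hCPL) (fun a => rfl) c f).mp hf
  have hpairL : Cfsg.IsBrauerPairOf p M f (P.subgroupOf L)
      (mapIrr (cE L (P.subgroupOf L) P hHR hCPL).symm '' c) :=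
    (isBrauerPairOf_iff_isInducedBlock hM (P.subgroupOf L) hPLp _ f).mpr hbridge
  have haP := PairRel.mk' L P hPL hCPL c
  have hmaxL : Cfsg.IsMaximalBrauerPair p M f (P.subgroupOf L)
      (mapIrr (cE L (P.subgroupOf L) P hHR hCPL).symm '' c) := by
    refine ⟨hpairL, ?_⟩
    intro R g hRg hle
    obtain ⟨b', hb', hch⟩ := chain_of_rel2 L _ _ hle _ haP
    have hBb' : Cfsg.IsBrauerPairOf p M B b'.1 b'.2 :=
      (isBrauerPairOf_iff_of_chain hM B hB ⟨P, c⟩ b' hch).mpr hPc
    have h1 : b'.1 = P := hmax.2 b'.1 b'.2 hBb' hch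
    obtain ⟨h2, _, _⟩ := hb'
    simp only at h2
    ext x
    rw [Subgroup.mem_subgroupOf, ← h1]
    exact mem_iff_of_map_eq L R _ h2 x
  have habL : ∀ x ∈ P.subgroupOf L, ∀ y ∈ P.subgroupOf L, x * y = y * x := by
    intro x hx y hy
    apply Subtype.ext
    exact hab _ hx _ hy
  rw [Cfsg.Agent.S4687.result p M hM f (P.subgroupOf L) _ hmaxL habL]
  constructor
  · intro h x hxT hxL
    have hxT' := (hT x).mp hxT
    have h1 : (⟨x, hxL⟩ : L) ∈ Subgroup.normalizer ((P.subgroupOf L : Subgroup L) : Set L) := by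
      rw [Subgroup.mem_normalizer_iff]
      intro y
      rw [Subgroup.mem_subgroupOf, Subgroup.mem_subgroupOf]
      have := Subgroup.mem_normalizer_iff.mp hxT'.1 (y : G)
      simpa using this
    have h2 := stabilizesBlock_rel3_symm L (P.subgroupOf L) P hcen hCPL c ⟨x, hxL⟩ hxT'.2
    rw [hφ3] at h2
    exact (hcen _).mp (h ⟨x, hxL⟩ h1 h2)
  · intro h x hxN hxst
    have hxNG := coe_mem_normalizer_of_rel2 L _ P hHR x hxN
    have h2 := stabilizesBlock_rel3 L (P.subgroupOf L) P hcen hCPL _ x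
      (normalizer_le_normalizer_centralizer P hxNG) hxst
    rw [hφ3] at h2
    have h3 := mapIrr_symm_image_image (cE L (P.subgroupOf L) P hHR hCPL).symm c
    rw [MulEquiv.symm_symm] at h3
    rw [h3] at h2
    exact (hcen _).mpr (h (x : G) ((hT _).mpr ⟨hxNG, h2⟩) x.2)


/-- Let B be a block of the finite group G relative to a maximal ideal M of the algebraic integers containing the prime p, with a nontrivial commutative defect group P; let c be a block of C_G(P) inducing B and T the stabilizer of c in N_G(P). Then T/C_G(P) acts freely on the non-identity elements of P (an element of T fixing a non-identity element of P under conjugation lies in C_G(P)) if and only if, for every nontrivial subgroup Q of P, the block of C_G(Q) induced by c inside C_G(Q) is a nilpotent block of C_G(Q). -/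
theorem result {G : Type*} [Group G] [Finite G] (p : ℕ) [Fact p.Prime] (M : Ideal Cfsg.AlgInt) (hM : Cfsg.IsPModular p M) (B : Set (Cfsg.IrrCharacter G)) (hB : Cfsg.IsPBlock M B) (P : Subgroup G) (hPD : Cfsg.IsDefectGroup p M B P) (hPab : ∀ x ∈ P, ∀ y ∈ P, x * y = y * x) (hP1 : P ≠ ⊥) (c : Set (Cfsg.IrrCharacter (Subgroup.centralizer (P : Set G)))) (hc : Cfsg.IsInducedBlock M (Subgroup.centralizer (P : Set G)) c B) (T : Subgroup G) (hT : ∀ g : G, g ∈ T ↔ (g ∈ Subgroup.normalizer (P : Set G) ∧ Cfsg.StabilizesBlock (Subgroup.centralizer (P : Set G)) c g)) : (∀ g ∈ T, ∀ x ∈ P, x ≠ 1 → g * x * g⁻¹ = x → g ∈ Subgroup.centralizer (P : Set G)) ↔ ∀ Q : Subgroup G, Q ≤ P → Q ≠ ⊥ → ∀ f : Set (Cfsg.IrrCharacter (Subgroup.centralizer (Q : Set G))), Cfsg.IsInducedBlockIn M (Subgroup.centralizer (Q : Set G)) (Subgroup.centralizer (P : Set G)) c f → Cfsg.IsNilpotentBlock p M f := by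
  classical
  have : Fintype G := Fintype.ofFinite G
  have : Fintype (Subgroup.centralizer (P : Set G)) := Fintype.ofFinite _
  have hPp : IsPGroup p P := IsDefectGroup.isPGroup' hPD
  have hPc : Cfsg.IsBrauerPairOf p M B P c :=
    (isBrauerPairOf_iff_isInducedBlock hM P hPp c B).mpr hc
  have hmax := isMaximalBrauerPair_of_isDefectGroup hM B P c hPD hPc
  have hPcent : ∀ Q : Subgroup G, Q ≤ P → P ≤ Subgroup.centralizer (Q : Set G) := by
    intro Q hQ a ha
    rw [Subgroup.mem_centralizer_iff]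
    intro b hb
    exact hPab b (hQ hb) a ha
  constructor
  · intro hfree Q hQP hQ1 f hf
    rw [nilpotent_iff_sub p M hM B P c hmax hPab T hT _ (hPcent Q hQP)
      (Subgroup.centralizer_le hQP) f hf]
    intro x hxT hxL
    obtain ⟨q, hq1⟩ := (Subgroup.ne_bot_iff_exists_ne_one).mp hQ1
    have hq1' : (q : G) ≠ 1 := fun h => hq1 (Subtype.ext h)
    apply hfree x hxT (q : G) (hQP q.2) hq1'
    have := Subgroup.mem_centralizer_iff.mp hxL (q : G) q.2
    rw [← this]
    group
  · intro hnil g hgT x hxP hx1 hgx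
    have hQP : Subgroup.zpowers x ≤ P := by
      rw [Subgroup.zpowers_le]
      exact hxP
    have hQ1 : Subgroup.zpowers x ≠ ⊥ := by
      intro h
      apply hx1
      rw [Subgroup.zpowers_eq_bot] at h
      exact h
    have hPL := hPcent _ hQP
    have hCPL : Subgroup.centralizer (P : Set G)
        ≤ Subgroup.centralizer ((Subgroup.zpowers x : Subgroup G) : Set G) :=
      Subgroup.centralizer_le hQP
    -- the induced block exists
    have : Fintype (Subgroup.centralizer ((Subgroup.zpowers x : Subgroup G) : Set G)) :=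
      Fintype.ofFinite _
    have hHR : (P.subgroupOf (Subgroup.centralizer ((Subgroup.zpowers x : Subgroup G) : Set G))).map
        (Subgroup.centralizer ((Subgroup.zpowers x : Subgroup G) : Set G)).subtype = P :=
      Subgroup.map_subgroupOf_eq_of_le hPL
    have hPLp := (isPGroup_rel2_iff (p := p) _ _ P hHR).mpr hPp
    have : Fintype (Subgroup.centralizer
      (P.subgroupOf (Subgroup.centralizer ((Subgroup.zpowers x : Subgroup G) : Set G)) :
        Set (Subgroup.centralizer ((Subgroup.zpowers x : Subgroup G) : Set G)))) :=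
      Fintype.ofFinite _
    have hcL : Cfsg.IsPBlock M (mapIrr (cE _ _ P hHR hCPL).symm '' c) :=
      isPBlock_mapIrr_image _ hPc.1.2
    obtain ⟨ξ₀, hξ₀⟩ := hcL
    obtain ⟨χ, hχ⟩ := inducedBlockDefined_centralizer hM _ hPLp ξ₀
    rw [← hξ₀] at hχ
    have hf := (isInducedBlockIn_iff (M := M) _ (Subgroup.centralizer (P : Set G)) _
      (cE _ _ P hHR hCPL) (fun a => rfl) c _).mpr hχ
    have hn := hnil _ hQP hQ1 _ hf
    rw [nilpotent_iff_sub p M hM B P c hmax hPab T hT _ hPL hCPL _ hf] at hn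
    apply hn g hgT
    rw [Subgroup.mem_centralizer_iff]
    intro y hy
    rw [SetLike.mem_coe, Subgroup.mem_zpowers_iff] at hy
    obtain ⟨k, rfl⟩ := hy
    have hcomm : Commute g x := by
      change g * x = x * g
      calc g * x = (g * x * g⁻¹) * g := by group
        _ = x * g := by rw [hgx]
    exact (hcomm.zpow_right k).symm.eq

end Cfsg.Agent.S4650
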