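import Cfsg.Statements.S4645
import Cfsg.Agent.Lib.Helper6.NAb2
import Cfsg.Agent.Lib.Helper6.BrAbel
import Cfsg.Agent.Lib.Helper6.BrCyc
import Cfsg.Agent.Lib.Helper6.BlkPairs
import Cfsg.Agent.S4650
import Cfsg.Agent.S4682
import Cfsg.Agent.S4633

set_option autoImplicit false
open Cfsg

namespace Cfsg.Agent.S4645

open Cfsg.Agent.Lib.Helper6

theorem mem_normalizer_of_cyclic {G : Type*} [Group G] (P Q : Subgroup G) (hcyc : IsCyclic P)
    (hQP : Q ≤ P) (y : G) (hy : y ∈ Subgroup.normalizer (P : Set G)) :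
    y ∈ Subgroup.normalizer (Q : Set G) := by
  have key : ∀ z : G, z ∈ Subgroup.normalizer (P : Set G) → ∀ x ∈ Q, z * x * z⁻¹ ∈ Q := by
    intro z hz x hx
    obtain ⟨g, hg⟩ := hcyc.exists_generator
    have : IsCyclic Q := Subgroup.isCyclic_of_le hQP
    obtain ⟨q, hq⟩ := (inferInstance : IsCyclic Q).exists_generator
    obtain ⟨k, hk⟩ := Subgroup.mem_zpowers_iff.mp (hg ⟨(q : G), hQP q.2⟩)
    have hk' : (g : G) ^ k = (q : G) := by
      have := congrArg (Subtype.val : P → G) hk
      simpa using this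
    have hzg : z * (g : G) * z⁻¹ ∈ P := (Subgroup.mem_normalizer_iff.mp hz (g : G)).mp g.2
    obtain ⟨m, hm⟩ := Subgroup.mem_zpowers_iff.mp (hg ⟨z * (g : G) * z⁻¹, hzg⟩)
    have hm' : (g : G) ^ m = z * (g : G) * z⁻¹ := by
      have := congrArg (Subtype.val : P → G) hm
      simpa using this
    have hzq : z * (q : G) * z⁻¹ = (q : G) ^ m := by
      rw [← hk', ← zpow_mul, mul_comm, zpow_mul, hm']
      simp [conj_zpow]
    obtain ⟨i, hi⟩ := Subgroup.mem_zpowers_iff.mp (hq ⟨x, hx⟩)
    have hi' : (q : G) ^ i = x := by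
      have := congrArg (Subtype.val : Q → G) hi
      simpa using this
    have : z * x * z⁻¹ = ((q : G) ^ m) ^ i := by
      rw [← hzq, ← hi']
      simp [conj_zpow]
    rw [this]
    exact Subgroup.zpow_mem _ (Subgroup.zpow_mem _ q.2 m) i
  rw [Subgroup.mem_normalizer_iff]
  intro x
  constructor
  · exact key y hy x
  · intro hx
    have := key y⁻¹ (Subgroup.inv_mem _ hy) _ hx
    have e : y⁻¹ * (y * x * y⁻¹) * y⁻¹⁻¹ = x := by group
    rwa [e] at this

/-- Let B be a block of the finite group G relative to a maximal ideal M of the algebraic integers containing the prime p, with a nontrivial cyclic defect group P; let c be a block of C_G(P) inducing B and T the stabilizer of c in N_G(P). Let Q be a nontrivial subgroup of P (so C_G(P) ≤ C_G(Q)), f the block of C_G(Q) induced by c inside C_G(Q), and T' the stabilizer of f in N_G(Q). Then T' = T·C_G(Q), the index of C_G(Q) in T' equals the index of C_G(P) in T, f has p-regular rank 1, and f is a nilpotent block of C_G(Q). -/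
theorem result {G : Type*} [Group G] [Finite G] (p : ℕ) [Fact p.Prime] (M : Ideal Cfsg.AlgInt) (hM : Cfsg.IsPModular p M) (B : Set (Cfsg.IrrCharacter G)) (hB : Cfsg.IsPBlock M B) (P : Subgroup G) (hPD : Cfsg.IsDefectGroup p M B P) (hP1 : P ≠ ⊥) (hcyc : IsCyclic P) (c : Set (Cfsg.IrrCharacter (Subgroup.centralizer (P : Set G)))) (hc : Cfsg.IsInducedBlock M (Subgroup.centralizer (P : Set G)) c B) (T : Subgroup G) (hT : ∀ g : G, g ∈ T ↔ (g ∈ Subgroup.normalizer (P : Set G) ∧ Cfsg.StabilizesBlock (Subgroup.centralizer (P : Set G)) c g)) (Q : Subgroup G) (hQP : Q ≤ P) (hQ1 : Q ≠ ⊥) (f : Set (Cfsg.IrrCharacter (Subgroup.centralizer (Q : Set G)))) (hf : Cfsg.IsInducedBlockIn M (Subgroup.centralizer (Q : Set G)) (Subgroup.centralizer (P : Set G)) c f) (T' : Subgroup G) (hT' : ∀ g : G, g ∈ T' ↔ (g ∈ Subgroup.normalizer (Q : Set G) ∧ Cfsg.StabilizesBlock (Subgroup.centralizer (Q : Set G)) f g)) : T' = T ⊔ Subgroup.centralizer (Q : Set G) ∧ (Subgroup.centralizer (Q : Set G)).relIndex T'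 = (Subgroup.centralizer (P : Set G)).relIndex T ∧ Cfsg.blockRank p f = 1 ∧ Cfsg.IsNilpotentBlock p M f := by
  classical
  have : Fintype G := Fintype.ofFinite G
  have : Fintype (Subgroup.centralizer (P : Set G)) := Fintype.ofFinite _
  have hp : p.Prime := hM.1
  have hPp : IsPGroup p P := IsDefectGroup.isPGroup' hPD
  have hPc : Cfsg.IsBrauerPairOf p M B P c :=
    (isBrauerPairOf_iff_isInducedBlock hM P hPp c B).mpr hc
  have hmax := isMaximalBrauerPair_of_isDefectGroup hM B P c hPD hPc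
  have hTN : T ≤ Subgroup.normalizer (P : Set G) := fun y hy => ((hT y).mp hy).1
  have hcomm : ∀ a b : P, a * b = b * a := by
    have : IsCyclic P := hcyc
    exact fun a b => (IsCyclic.isMulCommutative (α := P)).is_comm.comm a b
  have hPab : ∀ x ∈ P, ∀ y ∈ P, x * y = y * x := by
    intro x hx y hy
    exact congrArg Subtype.val (hcomm ⟨x, hx⟩ ⟨y, hy⟩)
  have hPC : P ≤ Subgroup.centralizer (P : Set G) := by
    intro a ha
    rw [Subgroup.mem_centralizer_iff]
    intro b hb
    exact hPab b hb a ha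
  obtain ⟨L, hL⟩ : ∃ L : Subgroup G, L = Subgroup.centralizer (Q : Set G) := ⟨_, rfl⟩
  have hCPL : Subgroup.centralizer (P : Set G) ≤ Subgroup.centralizer (Q : Set G) :=
    Subgroup.centralizer_le hQP
  have hPL : P ≤ Subgroup.centralizer (Q : Set G) := hPC.trans hCPL
  have hQp : IsPGroup p Q := hPp.to_le hQP
  have : Fintype (Subgroup.centralizer (Q : Set G)) := Fintype.ofFinite _
  -- the free action
  have hnorm : ((Subgroup.centralizer (P : Set G)).subgroupOf T).Normal := by
    apply Subgroup.normal_subgroupOf_of_le_normalizer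
    exact hTN.trans (normalizer_le_normalizer_centralizer P)
  obtain ⟨-, -, hfree⟩ := Cfsg.Agent.S4633.result p M hM B hB P hPD hP1 hcyc c hc T hT
  obtain ⟨q, hq1⟩ := (Subgroup.ne_bot_iff_exists_ne_one).mp hQ1
  have hq1' : (q : G) ≠ 1 := fun h => hq1 (Subtype.ext h)
  have hTL : ∀ x ∈ T, x ∈ Subgroup.centralizer (Q : Set G) →
      x ∈ Subgroup.centralizer (P : Set G) := by
    intro x hxT hxL
    apply hfree x hxT (q : G) (hQP q.2) hq1'
    have := Subgroup.mem_centralizer_iff.mp hxL (q : G) q.2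
    rw [← this]
    group
  -- transport to the group `C_G(Q)`
  have hHR : (P.subgroupOf (Subgroup.centralizer (Q : Set G))).map
      (Subgroup.centralizer (Q : Set G)).subtype = P := Subgroup.map_subgroupOf_eq_of_le hPL
  have : Fintype (Subgroup.centralizer
      ((P.subgroupOf (Subgroup.centralizer (Q : Set G)) :
        Subgroup (Subgroup.centralizer (Q : Set G))) :
          Set (Subgroup.centralizer (Q : Set G)))) := Fintype.ofFinite _
  have hcenL : ∀ y : Subgroup.centralizer (Q : Set G),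
      y ∈ Subgroup.centralizer ((P.subgroupOf (Subgroup.centralizer (Q : Set G)) :
        Subgroup (Subgroup.centralizer (Q : Set G))) : Set (Subgroup.centralizer (Q : Set G)))
      ↔ (y : G) ∈ Subgroup.centralizer (P : Set G) := by
    intro y
    constructor
    · intro hy
      exact coe_mem_centralizer_of_rel2 _ _ P hHR ⟨y, hy⟩
    · intro hy
      exact mem_centralizer_rel2_of_mem _ _ P hHR hCPL (y : G) hy
  have hφ3 : cE3 (Subgroup.centralizer (Q : Set G)) (P.subgroupOf _) P hcenL hCPL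
      = cE (Subgroup.centralizer (Q : Set G)) (P.subgroupOf _) P hHR hCPL := rfl
  have hbridge := (isInducedBlockIn_iff (M := M) (Subgroup.centralizer (Q : Set G))
    (Subgroup.centralizer (P : Set G)) _
    (cE (Subgroup.centralizer (Q : Set G)) (P.subgroupOf _) P hHR hCPL) (fun a => rfl) c f).mp hf
  have hPLp : IsPGroup p (P.subgroupOf (Subgroup.centralizer (Q : Set G))) :=
    (isPGroup_rel2_iff (Subgroup.centralizer (Q : Set G)) _ P hHR).mpr hPp
  have hpairL : Cfsg.IsBrauerPairOf p M f (P.subgroupOf (Subgroup.centralizer (Q : Set G)))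
      (mapIrr (cE (Subgroup.centralizer (Q : Set G)) (P.subgroupOf _) P hHR hCPL).symm '' c) :=
    (isBrauerPairOf_iff_isInducedBlock hM (P.subgroupOf _) hPLp _ f).mpr hbridge
  -- the pair `(Q, f)` lies below `(P, c)`
  have hom : ∀ ξ ∈ c, Cfsg.MemLocalIdeal M
      (Cfsg.brauerOmega P (Cfsg.subgroupBlockCoeff (Subgroup.centralizer (Q : Set G)) f)
        (ξ : Subgroup.centralizer (P : Set G) → ℂ) - 1) := by
    obtain ⟨-, -, -, h4⟩ := (isBrauerPairOf_rel2_iff (Subgroup.centralizer (Q : Set G))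
      (P.subgroupOf _) P hHR hCPL f _).mp hpairL
    intro ξ hξ
    apply h4
    have h3 := mapIrr_symm_image_image
      (cE (Subgroup.centralizer (Q : Set G)) (P.subgroupOf _) P hHR hCPL).symm c
    rw [MulEquiv.symm_symm] at h3
    rw [h3]
    exact hξ
  have hPNQ : P ≤ Subgroup.normalizer (Q : Set G) :=
    hPL.trans (Subgroup.centralizer_le_normalizer _)
  have hnsub : Cfsg.IsNormalSubpair p M Q f P c := by
    refine ⟨⟨hQp, hf.2.1⟩, ⟨hPp, hc.1⟩, hQP, hPNQ, ?_, hom⟩
    intro x hx
    exact (mem_stabSub_iff _ f x).mp (le_stabSub _ f (hPL hx))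
  have hle : Cfsg.SubpairLE p M Q f P c := Relation.ReflTransGen.single hnsub
  obtain ⟨hdecomp, hidx⟩ := Cfsg.Agent.S4682.result p M hM B P c hmax hPab Q f hQP hf.2.1 hle
    T' hT' T hT
  -- `T` normalizes `Q` and stabilizes `f`
  have hTNQ : T ≤ Subgroup.normalizer (Q : Set G) := fun y hy =>
    mem_normalizer_of_cyclic P Q hcyc hQP y (hTN hy)
  have hTT' : T ≤ T' := by
    intro y hy
    rw [hT']
    obtain ⟨hyN, hyst⟩ := (hT y).mp hy
    exact ⟨hTNQ hy, stabilizesBlock_of_stab_top hM P c hPc.1 Q f hf.2.1 hle y hyN hyst (hTNQ hy)⟩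
  have hCT' : Subgroup.centralizer (Q : Set G) ≤ T' := by
    intro y hy
    rw [hT']
    exact ⟨Subgroup.centralizer_le_normalizer _ hy,
      (mem_stabSub_iff _ f y).mp (le_stabSub _ f hy)⟩
  have hCPT : Subgroup.centralizer (P : Set G) ≤ T := by
    intro y hy
    rw [hT]
    exact ⟨Subgroup.centralizer_le_normalizer _ hy,
      (mem_stabSub_iff _ c y).mp (le_stabSub _ c hy)⟩
  refine ⟨?_, ?_, ?_, ?_⟩
  · apply le_antisymm
    · intro x hx
      obtain ⟨y, hy, d, hd, rfl⟩ := hdecomp x hx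
      exact Subgroup.mul_mem _ (Subgroup.mem_sup_left hy) (Subgroup.mem_sup_right hd)
    · exact sup_le hTT' hCT'
  · unfold Subgroup.relIndex
    rw [hidx]
    have e1 : T ⊓ Subgroup.normalizer (Q : Set G) = T := inf_eq_left.mpr hTNQ
    have e2 : T ⊓ Subgroup.centralizer (Q : Set G) = Subgroup.centralizer (P : Set G) := by
      apply le_antisymm
      · rintro x ⟨hxT, hxL⟩
        exact hTL x hxT hxL
      · exact le_inf hCPT hCPL
    rw [e1, e2]
  · -- the rank
    have hKdef : ∀ β : Set (Cfsg.IrrCharacter (Subgroup.centralizer (Q : Set G))),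
        Cfsg.IsPBlock M β → Cfsg.InducedBlockDefined M (Subgroup.centralizer (Q : Set G)) β := by
      intro β hβ
      obtain ⟨ξ₀, rfl⟩ := hβ
      obtain ⟨χ, hχ⟩ := inducedBlockDefined_centralizer hM Q hQp ξ₀
      exact ⟨_, hχ⟩
    have hH : Subgroup.centralizer (P : Set G) = P ⊔ Subgroup.centralizer (P : Set G) :=
      (sup_eq_right.mpr hPC).symm
    obtain ⟨-, hfD⟩ := isDefectGroup_of_inducedIn hM B P hPD _ hH c hc _ hCPL hKdef f hf
    have habL : ∀ x ∈ P.subgroupOf (Subgroup.centralizer (Q : Set G)),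
        ∀ y ∈ P.subgroupOf (Subgroup.centralizer (Q : Set G)), x * y = y * x := by
      intro x hx y hy
      apply Subtype.ext
      exact hPab _ hx _ hy
    apply NAb.blockRank_eq_one_of_abelian p M hM f (P.subgroupOf _) hfD habL _ hbridge
    intro x hxN hxst
    have hxNG := coe_mem_normalizer_of_rel2 _ _ P hHR x hxN
    have h2 := stabilizesBlock_rel3 _ (P.subgroupOf _) P hcenL hCPL _ x
      (normalizer_le_normalizer_centralizer P hxNG) hxst
    rw [hφ3] at h2
    have h3 := mapIrr_symm_image_image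
      (cE (Subgroup.centralizer (Q : Set G)) (P.subgroupOf _) P hHR hCPL).symm c
    rw [MulEquiv.symm_symm] at h3
    rw [h3] at h2
    exact (hcenL _).mpr (hTL (x : G) ((hT _).mpr ⟨hxNG, h2⟩) x.2)
  · rw [Cfsg.Agent.S4650.nilpotent_iff_sub p M hM B P c hmax hPab T hT _ hPL hCPL f hf]
    exact hTL

end Cfsg.Agent.S4645
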