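import Cfsg.Statements.S4646
import Mathlib
import Cfsg.Agent.Lib.Helper6.BrPrin
import Cfsg.Agent.Lib.Helper6.BlkRankLemmas
import Cfsg.Agent.Lib.Helper6.BlkKer
import Cfsg.Agent.Lib.Helper6.BrPair2
import Cfsg.Agent.Lib.Helper1.FrobeniusPComplement

set_option autoImplicit false
open Cfsg

namespace Cfsg.Agent.S4646

open Cfsg.Agent.Lib.Helper6

/-- For a finite group G, a prime p and a maximal ideal M of the algebraic integers containing p: the principal block of G is nilpotent if and only if its p-regular rank is 1 (the trivial Brauer character is its only irreducible Brauer character). -/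
theorem result {G : Type*} [Group G] [Finite G] (p : ℕ) [Fact p.Prime] (M : Ideal Cfsg.AlgInt) (hM : Cfsg.IsPModular p M) : Cfsg.IsNilpotentBlock p M (Cfsg.principalBlock M G) ↔ Cfsg.blockRank p (Cfsg.principalBlock M G) = 1 := by
  classical
  have hp : p.Prime := hM.1
  have : Fintype G := Fintype.ofFinite G
  constructor
  · -- nilpotent ⟹ normal p-complement ⟹ rank one
    rintro ⟨_, hnil⟩
    have P : Sylow p G := default
    have hfrob : ∀ Q : Subgroup G, Q ≤ (P : Subgroup G) → ∀ g ∈ Subgroup.normalizer (Q : Set G),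
        Nat.Coprime (orderOf g) p → g ∈ Subgroup.centralizer (Q : Set G) := by
      intro Q hQP g hg hco
      have hQ : IsPGroup p Q := P.2.to_le hQP
      refine hnil Q _ (isBrauerPairOf_principal hM Q hQ) g hg ?_ ?_
      · rw [stabilizesBlock_iff]
        exact ⟨normalizer_le_normalizer_centralizer Q hg, autIrr_image_principalBlock _⟩
      · intro hdvd
        have := Nat.Coprime.eq_one_of_dvd hco.symm hdvd
        exact hp.one_lt.ne' this
    obtain ⟨N, hNn, hNc⟩ := (Cfsg.Agent.Lib.Helper1.frobenius_normal_p_complement P).mpr hfrob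
    have hcardN : Nat.card N = (P : Subgroup G).index := hNc.index_eq_card.symm
    have hidxN : N.index = Nat.card P := hNc.symm.index_eq_card
    have hNcop : (Nat.card N).Coprime p := by
      rw [hcardN]
      exact (Nat.Prime.coprime_iff_not_dvd hp).mpr P.not_dvd_index |>.symm
    have hle : N ≤ Cfsg.pPrimeCore p G := le_sSup ⟨hNn, hNcop⟩
    obtain ⟨k, hk⟩ := IsPGroup.iff_card.mp P.2
    have hdvd : (Cfsg.pPrimeCore p G).index ∣ p ^ k := by
      rw [← hk, ← hidxN]
      exact Subgroup.index_dvd_of_le hle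
    obtain ⟨j, _, hj⟩ := (Nat.dvd_prime_pow hp).mp hdvd
    exact blockRank_principalBlock_of_normal_pComplement hM ⟨j, hj⟩
  · -- rank one ⟹ p-regular elements lie in the kernel of the block
    intro hrank
    refine ⟨isPBlock_principalBlock, ?_⟩
    intro Q e hQe x hxN _ hxreg
    have hQ : IsPGroup p Q := hQe.1.1
    obtain ⟨v, hv⟩ : ∃ v : G → ℂ, v = Cfsg.pRegularPart p (fun _ : G => (1 : ℂ)) := ⟨_, rfl⟩
    have hreg1 : Cfsg.IsPRegular p (1 : G) := by
      unfold Cfsg.IsPRegular
      rw [orderOf_one]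
      exact hp.not_dvd_one
    have hv1 : v 1 = 1 := by
      rw [hv]
      unfold Cfsg.pRegularPart
      rw [if_pos hreg1]
    have hv0 : v ≠ 0 := by
      intro h
      rw [h] at hv1
      simp at hv1
    have hvmem : v ∈ Submodule.span ℂ ((fun χ : Cfsg.IrrCharacter G =>
        Cfsg.pRegularPart p (χ : G → ℂ)) '' (Cfsg.principalBlock M G)) := by
      apply Submodule.subset_span
      refine ⟨oneIrr G, oneIrr_mem_principalBlock hM, ?_⟩
      rw [hv]; rfl
    -- the span is the line through v
    have hspan : Submodule.span ℂ ((fun χ : Cfsg.IrrCharacter G =>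
        Cfsg.pRegularPart p (χ : G → ℂ)) '' (Cfsg.principalBlock M G)) = Submodule.span ℂ {v} := by
      symm
      apply Submodule.eq_of_le_of_finrank_eq
      · rw [Submodule.span_le, Set.singleton_subset_iff]
        exact hvmem
      · rw [finrank_span_singleton hv0]
        exact hrank.symm
    have hker : ∀ y : G, Cfsg.IsPRegular p y → ∀ χ ∈ Cfsg.principalBlock M G,
        (χ : G → ℂ) y = (χ : G → ℂ) 1 := by
      intro y hy χ hχ
      have hmem : Cfsg.pRegularPart p (χ : G → ℂ) ∈ Submodule.span ℂ {v} := by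
        rw [← hspan]
        exact Submodule.subset_span ⟨χ, hχ, rfl⟩
      obtain ⟨c, hc⟩ := Submodule.mem_span_singleton.mp hmem
      have h1 := congrFun hc 1
      have hy' := congrFun hc y
      rw [hv] at h1 hy'
      unfold Cfsg.pRegularPart at h1 hy'
      simp only [Pi.smul_apply, smul_eq_mul] at h1 hy'
      rw [if_pos hreg1, if_pos hreg1] at h1
      rw [if_pos hy, if_pos hy] at hy'
      rw [← hy', ← h1]
    rw [Subgroup.mem_centralizer_iff]
    intro q hq
    -- the commutator x q x⁻¹ q⁻¹ lies in Q and in the block kernel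
    have hcQ : x * q * x⁻¹ * q⁻¹ ∈ Q :=
      Q.mul_mem ((Subgroup.mem_normalizer_iff.mp hxN q).mp hq) (Q.inv_mem hq)
    have hcK : x * q * x⁻¹ * q⁻¹ ∈ Cfsg.blockKer (Cfsg.principalBlock M G) := by
      intro χ hχ
      have hχc : Cfsg.IsCharacter G (χ : G → ℂ) := IsIrrCharacter.isCharacter χ.2
      have hxk : x ∈ charKer hχc := (mem_charKer hχc x).mpr (hker x hxreg χ hχ)
      have hnorm := charKer_normal hχc
      have h2 : q * x⁻¹ * q⁻¹ ∈ charKer hχc := hnorm.conj_mem _ ((charKer hχc).inv_mem hxk) q
      have h3 := (charKer hχc).mul_mem hxk h2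
      have e : x * (q * x⁻¹ * q⁻¹) = x * q * x⁻¹ * q⁻¹ := by group
      rw [e] at h3
      exact (mem_charKer hχc _).mp h3
    have hnd : ¬ p ∣ orderOf (x * q * x⁻¹ * q⁻¹) := by
      have := not_dvd_orderOf_of_mem_blockKer hM (oneIrr G) (u := x * q * x⁻¹ * q⁻¹)
      apply this
      rw [← principalBlock_eq]
      exact hcK
    obtain ⟨k, hk⟩ := hQ ⟨_, hcQ⟩
    have hord : orderOf (x * q * x⁻¹ * q⁻¹) ∣ p ^ k := by
      apply orderOf_dvd_of_pow_eq_one
      have := congrArg Subtype.val hk
      simpa using this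
    obtain ⟨j, _, hj⟩ := (Nat.dvd_prime_pow hp).mp hord
    have hj0 : j = 0 := by
      by_contra hne
      apply hnd
      rw [hj]
      exact dvd_pow_self p hne
    rw [hj0, pow_zero, orderOf_eq_one_iff] at hj
    have := congrArg (fun t => t * q * x) hj
    simpa [mul_assoc] using this.symm

end Cfsg.Agent.S4646
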