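import Cfsg.Statements.S4658
import Mathlib
import Cfsg.Agent.Lib.Helper6.BrPair3

set_option autoImplicit false
open Cfsg

namespace Cfsg.Agent.S4658

open Cfsg.Agent.Lib.Helper6

theorem chain_iff {G : Type*} [Group G] [Fintype G] (p : ℕ) (M : Ideal Cfsg.AlgInt)
    (hM : Cfsg.IsPModular p M) (B : Set (Cfsg.IrrCharacter G)) (hB : Cfsg.IsPBlock M B)
    (a b : Cfsg.BrauerPairIdx G)
    (h : Relation.ReflTransGen (Cfsg.NormalSubpairRel p M) a b) :
    Cfsg.IsBrauerPairOf p M B b.1 b.2 ↔ Cfsg.IsBrauerPairOf p M B a.1 a.2 := by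
  classical
  induction h with
  | refl => exact Iff.rfl
  | @tail b c _ hbc ih =>
    have : Fintype (Subgroup.centralizer (b.1 : Set G)) := Fintype.ofFinite _
    have : Fintype (Subgroup.centralizer (c.1 : Set G)) := Fintype.ofFinite _
    exact (isBrauerPairOf_iff_of_isNormalSubpair c.1 b.1 hM c.2 b.2 hbc B hB).trans ih


/-- Fix a prime p and a maximal ideal M of the algebraic integers containing p. Let (Q, f) ≤ (P, e) be Brauer pairs of the finite group G and B a p-block of G. Then (P, e) is a Brauer pair of B if and only if (Q, f) is. -/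
theorem result {G : Type*} [Group G] [Fintype G] (p : ℕ) [Fact p.Prime] (M : Ideal Cfsg.AlgInt) (hM : Cfsg.IsPModular p M) (P Q : Subgroup G) (e : Set (Cfsg.IrrCharacter (Subgroup.centralizer (P : Set G)))) (f : Set (Cfsg.IrrCharacter (Subgroup.centralizer (Q : Set G)))) (hPe : Cfsg.IsBrauerPair p M P e) (hQf : Cfsg.IsBrauerPair p M Q f) (hle : Cfsg.SubpairLE p M Q f P e) (B : Set (Cfsg.IrrCharacter G)) (hB : Cfsg.IsPBlock M B) : Cfsg.IsBrauerPairOf p M B P e ↔ Cfsg.IsBrauerPairOf p M B Q f := by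
  classical
  exact chain_iff p M hM B hB _ _ hle

end Cfsg.Agent.S4658
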