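import Cfsg.Statements.S4664
import Mathlib
import Cfsg.Agent.Lib.Helper6.BlkDefect
import Cfsg.Agent.Lib.Helper6.FiniteOrder
import Cfsg.Agent.Lib.Helper6.Auto
import Cfsg.Agent.Lib.Helper6.Constituent

set_option autoImplicit false
open Cfsg

namespace Cfsg.Agent.S4664

open Cfsg.Agent.Lib.Helper6

open scoped ComplexConjugate

/-- character values at elements of order dividing `m` lie in the `m`-th cyclotomic field -/
theorem char_mem_adjoin {G : Type*} [Group G] {χ : G → ℂ} (hχ : Cfsg.IsCharacter G χ) (g : G)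
    (m : ℕ) (hm : 0 < m) (hg : g ^ m = 1) {η : ℂ} (hη : IsPrimitiveRoot η m) :
    χ g ∈ IntermediateField.adjoin ℚ ({η} : Set ℂ) := by
  obtain ⟨n, ρ, rfl⟩ := hχ
  have hf : (ρ g) ^ m = 1 := by rw [← map_pow, hg, map_one]
  obtain ⟨ι, _, b, μ, hb, hμ⟩ := exists_eigenbasis_of_pow_eq_one hm hf
  have htr : ρ.character g = ∑ i, μ i := trace_eq_sum_of_eigenbasis b μ (ρ g) hb
  rw [htr]
  apply sum_mem
  intro i _
  haveI : NeZero m := ⟨hm.ne'⟩
  obtain ⟨k, _, hk⟩ := hη.eq_pow_of_pow_eq_one (hμ i)
  rw [← hk]
  apply pow_mem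
  exact IntermediateField.subset_adjoin ℚ _ (Set.mem_singleton η)

/-- Fix a prime p and a maximal ideal M of the algebraic integers containing p, and let B be a p-block of the finite group G. Let m be the p'-part of the order of G and η = exp(2πi/m). Then every coefficient of the idempotent of B lies in the cyclotomic field ℚ(η). -/
theorem result {G : Type*} [Group G] [Fintype G] (p : ℕ) [Fact p.Prime] (M : Ideal Cfsg.AlgInt) (hM : Cfsg.IsPModular p M) (B : Set (Cfsg.IrrCharacter G)) (hB : Cfsg.IsPBlock M B) (g : G) : Cfsg.blockCoeff B g ∈ IntermediateField.adjoin ℚ ({Complex.exp (2 * Real.pi * Complex.I / ((Nat.card G / p ^ (Nat.card G).factorization p : ℕ) : ℂ))} : Set ℂ) := by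
  classical
  have hp : p.Prime := hM.1
  obtain ⟨χ₀, rfl⟩ := hB
  set m := Nat.card G / p ^ (Nat.card G).factorization p with hm
  have hdvd : p ^ (Nat.card G).factorization p ∣ Nat.card G := Nat.ordProj_dvd _ _
  have hmpos : 0 < m := by
    apply Nat.div_pos
    · exact Nat.le_of_dvd Nat.card_pos hdvd
    · exact pow_pos hp.pos _
  have hη : IsPrimitiveRoot (Complex.exp (2 * Real.pi * Complex.I / ((m : ℕ) : ℂ))) m :=
    Complex.isPrimitiveRoot_exp m hmpos.ne'
  by_cases hsing : p ∣ orderOf g
  · rw [blockCoeff_eq_zero_of_pSingular hM χ₀ g hsing]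
    exact zero_mem _
  · have hgm : g ^ m = 1 := by
      apply orderOf_dvd_iff_pow_eq_one.mp
      have h1 : orderOf g ∣ Nat.card G := orderOf_dvd_natCard g
      have h2 : Nat.card G = p ^ (Nat.card G).factorization p * m := by
        rw [hm, Nat.mul_div_cancel' hdvd]
      rw [h2] at h1
      have hcop : Nat.Coprime (orderOf g) (p ^ (Nat.card G).factorization p) := by
        apply Nat.Coprime.pow_right
        exact ((Nat.Prime.coprime_iff_not_dvd hp).mpr hsing).symm
      exact hcop.dvd_of_dvd_mul_left h1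
    unfold Cfsg.blockCoeff
    apply mul_mem
    · apply inv_mem
      exact natCast_mem _ _
    · apply finsum_mem_induction (p := fun z => z ∈ IntermediateField.adjoin ℚ
        ({Complex.exp (2 * Real.pi * Complex.I / ((m : ℕ) : ℂ))} : Set ℂ))
      · exact zero_mem _
      · intro x y hx hy
        exact add_mem hx hy
      · intro χ _
        apply mul_mem
        · rw [IsCharacter.apply_one_eq_charDegree (IsIrrCharacter.isCharacter χ.2)]
          exact natCast_mem _ _
        · rw [← IsCharacter.apply_inv (IsIrrCharacter.isCharacter χ.2)]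
          apply char_mem_adjoin (IsIrrCharacter.isCharacter χ.2) g⁻¹ m hmpos _ hη
          rw [inv_pow, hgm, inv_one]

end Cfsg.Agent.S4664
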