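import Cfsg.Statements.S4665
import Mathlib
import Cfsg.Agent.Lib.Helper6.BlkSections
import Cfsg.Agent.Lib.Helper6.CharOps

set_option autoImplicit false
open Cfsg

namespace Cfsg.Agent.S4665

open Cfsg.Agent.Lib.Helper6

/-- Fix a prime p, a maximal ideal M of the algebraic integers containing p, and a p-block B of the finite group G, and let p^a be the p-part of the order of G. Let χ be an integer combination of the irreducible characters in B. If the function that agrees with χ on p-regular elements and vanishes on p-singular elements is again an integer combination of the irreducible characters in B, then p^a divides χ(1). -/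
theorem result {G : Type*} [Group G] [Fintype G] (p : ℕ) [Fact p.Prime] (M : Ideal Cfsg.AlgInt) (hM : Cfsg.IsPModular p M) (B : Set (Cfsg.IrrCharacter G)) (hB : Cfsg.IsPBlock M B) (χ : G → ℂ) (hχ : (∃ n : Cfsg.IrrCharacter G → ℤ, ∀ g : G, χ g = ∑ᶠ ψ ∈ B, (n ψ : ℂ) * (ψ : G → ℂ) g)) (h0 : (∃ n : Cfsg.IrrCharacter G → ℤ, ∀ g : G, Cfsg.pRegularPart p χ g = ∑ᶠ ψ ∈ B, (n ψ : ℂ) * (ψ : G → ℂ) g)) : ∃ k : ℤ, χ 1 = (p ^ (Nat.card G).factorization p : ℂ) * k := by
  classical
  haveI : Fintype (Cfsg.IrrCharacter G) := Fintype.ofFinite _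
  have hp : p.Prime := Fact.out
  obtain ⟨n, hn⟩ := h0
  obtain ⟨P₀⟩ := (inferInstance : Nonempty (Sylow p G))
  obtain ⟨P, hPdef⟩ : ∃ P : Subgroup G, P = (P₀ : Subgroup G) := ⟨_, rfl⟩
  have hPp : IsPGroup p P := by rw [hPdef]; exact P₀.2
  have hPcard : Nat.card P = p ^ (Nat.card G).factorization p := by
    rw [hPdef]; exact Sylow.card_eq_multiplicity P₀
  have hP0 : (Nat.card P : ℂ) ≠ 0 := card_ne_zero_complex P
  -- inner products with the trivial character of `P`
  have hk : ∀ ψ : Cfsg.IrrCharacter G, ∃ k : ℕ,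
      Cfsg.classInner (fun x : P => (ψ : G → ℂ) x) (fun _ : P => (1 : ℂ)) = k := by
    intro ψ
    exact IsCharacter.classInner_nat
      (IsCharacter.restrict P (IsIrrCharacter.isCharacter ψ.2)) isCharacter_one
  choose k hk using hk
  -- the sum of the `p`-regular part over `P`
  have hsum1 : ∑ x : P, Cfsg.pRegularPart p χ (x : G) = χ 1 := by
    rw [Finset.sum_eq_single (1 : P)]
    · unfold Cfsg.pRegularPart Cfsg.IsPRegular
      simp only [Subgroup.coe_one, orderOf_one]
      rw [if_pos]
      exact fun h => hp.one_lt.ne' (Nat.dvd_one.mp h)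
    · intro x _ hx
      unfold Cfsg.pRegularPart Cfsg.IsPRegular
      rw [if_neg]
      intro hreg
      apply hx
      obtain ⟨j, hj⟩ := (IsPGroup.iff_orderOf.mp hPp) x
      rw [Subgroup.orderOf_coe] at hreg
      rw [hj] at hreg
      have hj0 : j = 0 := by
        by_contra h0
        exact hreg (dvd_pow_self p h0)
      rw [hj0, pow_zero, orderOf_eq_one_iff] at hj
      exact hj
    · intro h; exact absurd (Finset.mem_univ _) h
  have hsum2 : ∑ x : P, Cfsg.pRegularPart p χ (x : G)
      = (Nat.card P : ℂ) * ∑ ψ ∈ Finset.univ.filter (· ∈ B), (n ψ : ℂ) * (k ψ : ℂ) := by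
    have h1 : ∀ x : P, Cfsg.pRegularPart p χ (x : G)
        = ∑ ψ ∈ Finset.univ.filter (· ∈ B), (n ψ : ℂ) * (ψ : G → ℂ) x := by
      intro x
      rw [hn, finsum_mem_eq_sum_filter_lib]
    rw [Finset.sum_congr rfl (fun x _ => h1 x), Finset.sum_comm, Finset.mul_sum]
    apply Finset.sum_congr rfl
    intro ψ _
    rw [← Finset.mul_sum, ← hk ψ]
    unfold Cfsg.classInner
    simp only [map_one, mul_one]
    field_simp
  refine ⟨∑ ψ ∈ Finset.univ.filter (· ∈ B), n ψ * (k ψ : ℤ), ?_⟩
  rw [← hsum1, hsum2, hPcard]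
  push_cast
  rfl


end Cfsg.Agent.S4665
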