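import Cfsg.Statements.S4666
import Mathlib
import Cfsg.Agent.Lib.Helper6.BlkHeightTilde
import Cfsg.Agent.Lib.Helper6.BlkCover3

set_option autoImplicit false
open Cfsg

namespace Cfsg.Agent.S4666

open Cfsg.Agent.Lib.Helper6

theorem finsum_mem_eq_sum_filter_aux {α N : Type*} [Fintype α] [AddCommMonoid N] (s : Set α)
    [DecidablePred (· ∈ s)] (f : α → N) :
    ∑ᶠ a ∈ s, f a = ∑ a ∈ Finset.univ.filter (· ∈ s), f a := by
  rw [← finsum_mem_coe_finset]
  congr 1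
  ext a
  simp

/-- Fix a prime p and a maximal ideal M of the algebraic integers containing p, and a p-block B of the finite group G of defect d. For every integer combination χ of the irreducible characters in B, p^d times the function that agrees with χ on p-regular elements and vanishes elsewhere is again an integer combination of the irreducible characters in B. -/
theorem result {G : Type*} [Group G] [Fintype G] (p : ℕ) [Fact p.Prime] (M : Ideal Cfsg.AlgInt) (hM : Cfsg.IsPModular p M) (B : Set (Cfsg.IrrCharacter G)) (hB : Cfsg.IsPBlock M B) (χ : G → ℂ) (hχ : (∃ n : Cfsg.IrrCharacter G → ℤ, ∀ g : G, χ g = ∑ᶠ ψ ∈ B, (n ψ : ℂ) * (ψ : G → ℂ) g)) : (∃ n : Cfsg.IrrCharacter G → ℤ, ∀ g : G, (p ^ Cfsg.blockDefect p B : ℂ) * Cfsg.pRegularPart p χ g = ∑ᶠ ψ ∈ B, (n ψ : ℂ) * (ψ : G → ℂ) g) := by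
  classical
  have hp : p.Prime := hM.1
  have : Fintype (Cfsg.IrrCharacter G) := Fintype.ofFinite _
  obtain ⟨n, hn⟩ := hχ
  obtain ⟨χ₀, hBχ⟩ := hB
  obtain ⟨a, ha⟩ : ∃ a : ℕ, a = (Nat.card G).factorization p := ⟨_, rfl⟩
  obtain ⟨d, hd⟩ : ∃ d : ℕ, d = Cfsg.blockDefect p B := ⟨_, rfl⟩
  rw [← hd]
  have hp0 : (p : ℂ) ≠ 0 := by exact_mod_cast hp.ne_zero
  -- integer coefficients of the tilde functions
  have hex : ∀ ψ : Cfsg.IrrCharacter G, ∃ c : Cfsg.IrrCharacter G → ℤ,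
      tildeFun p (ψ : G → ℂ) = ∑ β, (c β : ℂ) • (β : G → ℂ) ∧
      (∀ β : Cfsg.IrrCharacter G, Cfsg.classInner (tildeFun p (ψ : G → ℂ)) (β : G → ℂ) = c β) ∧
      ∀ β : Cfsg.IrrCharacter G, β ∉ Cfsg.blockOf M (ψ : G → ℂ) → c β = 0 :=
    fun ψ => tildeFun_int_coeff hM ψ
  choose c hc1 hc2 hc3 using hex
  -- the degree valuations in the block
  have hdeg : ∀ β ∈ B, a - d ≤ (Cfsg.charDegree (β : G → ℂ)).factorization p := by
    intro β hβ
    have h1 : sInf ((fun ψ : Cfsg.IrrCharacter G => (Cfsg.charDegree (ψ : G → ℂ)).factorization p) '' B)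
        ≤ (Cfsg.charDegree (β : G → ℂ)).factorization p := Nat.sInf_le ⟨β, hβ, rfl⟩
    rw [hd, ha]
    unfold Cfsg.blockDefect
    omega
  have hda : d ≤ a := by
    rw [hd, ha]
    unfold Cfsg.blockDefect
    omega
  -- divisibility
  have hdvd : ∀ ψ : Cfsg.IrrCharacter G, ∀ β ∈ B, (p : ℤ) ^ (a - d) ∣ c ψ β := by
    intro ψ β hβ
    have hψcf := IsIrrCharacter.isClassFunction ψ.2
    have hψS : ∀ g, Cfsg.MemLocalRing M ((ψ : G → ℂ) g) := fun g =>
      memLocalRing_of_isIntegral hM (IsCharacter.isIntegral_apply (IsIrrCharacter.isCharacter ψ.2) g)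
    have h1 := classInner_tildeFun_div_memLocalRing hM hψcf hψS β
    rw [hc2 ψ β, IsCharacter.apply_one_eq_charDegree (IsIrrCharacter.isCharacter β.2)] at h1
    have h2 := pow_factorization_dvd_of_memLocalRing_div hM (c ψ β)
      (Cfsg.charDegree (β : G → ℂ)) (charDegree_ne_zero β) h1
    exact dvd_trans (pow_dvd_pow _ (hdeg β hβ)) h2
  -- tilde function and p-regular part
  have htil : ∀ (ψ : Cfsg.IrrCharacter G) (g : G),
      tildeFun p (ψ : G → ℂ) g = (p : ℂ) ^ a * Cfsg.pRegularPart p (ψ : G → ℂ) g := by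
    intro ψ g
    unfold tildeFun Cfsg.pRegularPart Cfsg.IsPRegular
    by_cases hg : p ∣ orderOf g
    · rw [if_pos hg, if_neg (not_not.mpr hg), mul_zero]
    · rw [if_neg hg, if_pos hg, ← ha]
      push_cast
      rfl
  refine ⟨fun β => ∑ ψ ∈ Finset.univ.filter (· ∈ B), n ψ * (c ψ β / (p : ℤ) ^ (a - d)), ?_⟩
  intro g
  rw [finsum_mem_eq_sum_filter_aux]
  have hχg : Cfsg.pRegularPart p χ g
      = ∑ ψ ∈ Finset.univ.filter (· ∈ B), (n ψ : ℂ) * Cfsg.pRegularPart p (ψ : G → ℂ) g := by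
    unfold Cfsg.pRegularPart
    split_ifs with hg
    · rw [hn g, finsum_mem_eq_sum_filter_aux]
    · simp
  rw [hχg, Finset.mul_sum]
  have hψg : ∀ ψ ∈ Finset.univ.filter (· ∈ B),
      (p : ℂ) ^ d * ((n ψ : ℂ) * Cfsg.pRegularPart p (ψ : G → ℂ) g)
      = ∑ β ∈ Finset.univ.filter (· ∈ B),
          ((n ψ * (c ψ β / (p : ℤ) ^ (a - d)) : ℤ) : ℂ) * (β : G → ℂ) g := by
    intro ψ hψ
    simp only [Finset.mem_filter, Finset.mem_univ, true_and] at hψ
    have hBψ : B = Cfsg.blockOf M (ψ : G → ℂ) := by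
      rw [hBχ] at hψ ⊢
      exact blockOf_eq_of_mem hM hψ
    have h1 := htil ψ g
    rw [hc1 ψ, Finset.sum_apply] at h1
    have h2 : ∑ β : Cfsg.IrrCharacter G, ((c ψ β : ℂ) • (β : G → ℂ)) g
        = ∑ β ∈ Finset.univ.filter (· ∈ B), (c ψ β : ℂ) * (β : G → ℂ) g := by
      rw [Finset.sum_filter]
      apply Finset.sum_congr rfl
      intro β _
      split_ifs with hβ
      · rfl
      · rw [hBψ] at hβ
        rw [hc3 ψ β hβ]
        simp
    rw [h2] at h1
    have h3 : (p : ℂ) ^ d * ((n ψ : ℂ) * Cfsg.pRegularPart p (ψ : G → ℂ) g)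
        = (n ψ : ℂ) * ((p : ℂ) ^ a * Cfsg.pRegularPart p (ψ : G → ℂ) g) / (p : ℂ) ^ (a - d) := by
      have : (p : ℂ) ^ a = (p : ℂ) ^ d * (p : ℂ) ^ (a - d) := by
        rw [← pow_add]; congr 1; omega
      rw [this]
      have hpd : (p : ℂ) ^ (a - d) ≠ 0 := pow_ne_zero _ hp0
      field_simp
    rw [h3, ← h1, Finset.mul_sum, Finset.sum_div]
    apply Finset.sum_congr rfl
    intro β hβ
    simp only [Finset.mem_filter, Finset.mem_univ, true_and] at hβ
    obtain ⟨k, hk⟩ := hdvd ψ β hβ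
    have hpz : (p : ℤ) ^ (a - d) ≠ 0 := pow_ne_zero _ (by exact_mod_cast hp.ne_zero)
    rw [hk, Int.mul_ediv_cancel_left _ hpz]
    push_cast
    have hpd : (p : ℂ) ^ (a - d) ≠ 0 := pow_ne_zero _ hp0
    field_simp
  rw [Finset.sum_congr rfl hψg, Finset.sum_comm]
  apply Finset.sum_congr rfl
  intro β _
  rw [← Finset.sum_mul]
  push_cast
  rfl


end Cfsg.Agent.S4666
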