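import Cfsg.Statements.S4667
import Mathlib
import Cfsg.Agent.Lib.Helper6.BlkRank

set_option autoImplicit false
open Cfsg

namespace Cfsg.Agent.S4667

open Cfsg.Agent.Lib.Helper6

theorem finsum_mem_eq_sum_filter_aux {α N : Type*} [Fintype α] [AddCommMonoid N] (s : Set α)
    [DecidablePred (· ∈ s)] (f : α → N) :
    ∑ᶠ a ∈ s, f a = ∑ a ∈ Finset.univ.filter (· ∈ s), f a := by
  rw [← finsum_mem_coe_finset]
  congr 1
  ext a
  simp

/-- Fix a prime p and a maximal ideal M of the algebraic integers containing p, and a p-block B of the finite group G. The p-regular rank of B (the number of irreducible Brauer characters in B) times the order of G equals the sum over the p-regular elements x of G of Σ_{χ ∈ B} χ(x) χ(x⁻¹) (written with the restriction of χ to p-regular elements, which vanishes at p-singular x). -/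
theorem result {G : Type*} [Group G] [Fintype G] (p : ℕ) [Fact p.Prime] (M : Ideal Cfsg.AlgInt) (hM : Cfsg.IsPModular p M) (B : Set (Cfsg.IrrCharacter G)) (hB : Cfsg.IsPBlock M B) : (Nat.card G : ℂ) * (Cfsg.blockRank p B : ℂ) = ∑ x : G, ∑ᶠ χ ∈ B, Cfsg.pRegularPart p (χ : G → ℂ) x * (χ : G → ℂ) x⁻¹ := by
  classical
  have : Fintype (Cfsg.IrrCharacter G) := Fintype.ofFinite _
  obtain ⟨χ₀, hBχ⟩ := hB
  subst hBχ
  have hproj := pRegProj_isProj (p := p) hM χ₀
  have htr := LinearMap.IsProj.trace hproj
  have h1 := trace_pRegProj (p := p) (Cfsg.blockOf M (χ₀ : G → ℂ))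
  rw [htr] at h1
  unfold Cfsg.blockRank
  rw [h1]
  apply Finset.sum_congr rfl
  intro x _
  rw [finsum_mem_eq_sum_filter_aux]


end Cfsg.Agent.S4667
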