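import Cfsg.Statements.S4668
import Mathlib
import Cfsg.Agent.Lib.Helper6.BlkSupport
import Cfsg.Agent.Lib.Helper6.BlkDefect
import Cfsg.Agent.Lib.Helper1.ThompsonPQ

set_option autoImplicit false
open Cfsg

namespace Cfsg.Agent.S4668

open Cfsg.Agent.Lib.Helper6

/-- Fix a prime p and a maximal ideal M of the algebraic integers containing p. Let Q₀ < Q₁ < ⋯ < Q_m be a strictly increasing chain of p-subgroups of the finite group G and N the intersection of their normalizers. Then every block idempotent of N is supported on C_G(Q_m): for every p-block E of N, the idempotent coefficient of E vanishes at every element of N outside C_G(Q_m). -/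
theorem result {G : Type*} [Group G] [Fintype G] (p : ℕ) [Fact p.Prime] (M : Ideal Cfsg.AlgInt) (hM : Cfsg.IsPModular p M) (m : ℕ) (Q : Fin (m + 1) → Subgroup G) (hQ : StrictMono Q) (hQp : ∀ i, IsPGroup p (Q i)) (N : Subgroup G) (hN : ∀ g : G, g ∈ N ↔ ∀ i, g ∈ Subgroup.normalizer (Q i : Set G)) (E : Set (Cfsg.IrrCharacter N)) (hE : Cfsg.IsPBlock M E) (n : N) (hn : (n : G) ∉ Subgroup.centralizer (Q (Fin.last m) : Set G)) : Cfsg.blockCoeff E n = 0 := by
  classical
  have hp : p.Prime := Fact.out
  have : Fintype N := Fintype.ofFinite _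
  by_contra hne
  apply hn
  obtain ⟨χ₀, rfl⟩ := hE
  -- `n` is `p`-regular
  have hreg : ¬ p ∣ orderOf n := by
    intro hdvd
    exact hne (blockCoeff_eq_zero_of_pSingular hM χ₀ n hdvd)
  have hregG : ¬ p ∣ orderOf (n : G) := by
    rwa [Subgroup.orderOf_coe]
  -- the normal `p`-subgroup `Q_m ∩ N` of `N`
  have hNnorm : ∀ i, N ≤ Subgroup.normalizer (Q i : Set G) := fun i g hg => (hN g).mp hg i
  have hU0n : ((Q (Fin.last m) ⊓ N).subgroupOf N).Normal := by
    apply Subgroup.normal_subgroupOf_of_le_normalizer
    intro g hg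
    have h1 := hNnorm (Fin.last m) hg
    rw [Subgroup.mem_normalizer_iff] at h1 ⊢
    intro x
    rw [Subgroup.mem_inf, Subgroup.mem_inf, h1 x]
    constructor
    · rintro ⟨h2, h3⟩
      exact ⟨h2, N.mul_mem (N.mul_mem hg h3) (N.inv_mem hg)⟩
    · rintro ⟨h2, h3⟩
      refine ⟨h2, ?_⟩
      have : x = g⁻¹ * (g * x * g⁻¹) * g := by group
      rw [this]
      exact N.mul_mem (N.mul_mem (N.inv_mem hg) h3) hg
  have hU0p : IsPGroup p ((Q (Fin.last m) ⊓ N).subgroupOf N) := by
    rw [← Subgroup.comap_subtype]
    exact ((hQp (Fin.last m)).to_le inf_le_left).comap_subtype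
  have hcent : n ∈ Subgroup.centralizer
      (((Q (Fin.last m) ⊓ N).subgroupOf N : Subgroup N) : Set N) := by
    by_contra hcon
    exact hne (blockCoeff_eq_zero_of_not_mem_centralizer hM _ hU0p χ₀ n hcon)
  have hcomm : ∀ x : G, x ∈ Q (Fin.last m) → x ∈ N → x * (n : G) = (n : G) * x := by
    intro x hx hxN
    have h1 := Subgroup.mem_centralizer_iff.mp hcent ⟨x, hxN⟩ (by
      change (⟨x, hxN⟩ : N) ∈ (Q (Fin.last m) ⊓ N).subgroupOf N
      rw [Subgroup.mem_subgroupOf]
      exact ⟨hx, hxN⟩)
    have h2 := congrArg (Subtype.val : N → G) h1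
    simpa using h2
  have hmono : Monotone Q := hQ.monotone
  have hle_last : ∀ i, Q i ≤ Q (Fin.last m) := fun i => hmono (Fin.le_last i)
  -- induction along the chain
  have key : ∀ i : Fin (m + 1), (n : G) ∈ Subgroup.centralizer (Q i : Set G) := by
    intro i
    induction i using Fin.induction with
    | zero =>
      rw [Subgroup.mem_centralizer_iff]
      intro x hx
      apply hcomm x (hle_last 0 hx)
      rw [hN]
      intro j
      exact Subgroup.le_normalizer (hmono (Fin.zero_le j) hx)
    | succ i ih =>
      have hQA : (Nat.card (Subgroup.zpowers (n : G))).Coprime p := by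
        rw [Nat.card_zpowers, Nat.coprime_comm]
        exact (hp.coprime_iff_not_dvd).mpr hregG
      have h1 := Cfsg.Agent.Lib.Helper1.thompson_PxQ p (Q i.castSucc) (Subgroup.zpowers (n : G))
        (Q i.succ) (hQp _) hQA (hQp _) ?_ ?_ ?_ ?_
      · exact h1 (Subgroup.mem_zpowers _)
      · -- `Q i` centralizes `⟨n⟩`
        intro x hx
        rw [Subgroup.mem_centralizer_iff]
        intro y hy
        rw [SetLike.mem_coe, Subgroup.mem_zpowers_iff] at hy
        obtain ⟨k, rfl⟩ := hy
        have h2 : (n : G) * x = x * (n : G) := (Subgroup.mem_centralizer_iff.mp ih x hx).symm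
        exact ((Commute.zpow_left (show Commute (n : G) x from h2) k).eq)
      · -- `Q i` normalizes `Q (i+1)`
        exact (hmono (Fin.castSucc_lt_succ (i := i)).le).trans Subgroup.le_normalizer
      · -- `⟨n⟩` normalizes `Q (i+1)`
        rw [Subgroup.zpowers_le]
        exact hNnorm _ n.2
      · -- `C_{Q (i+1)}(Q i)` is centralized by `n`
        rintro x ⟨hx1, hx2⟩
        have hxN : x ∈ N := by
          rw [hN]
          intro j
          by_cases hj : j ≤ i.castSucc
          · apply Subgroup.centralizer_le_normalizer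
            exact Subgroup.centralizer_le (hmono hj) hx2
          · have hj' : i.succ ≤ j := by
              rw [not_le] at hj
              exact Fin.castSucc_lt_iff_succ_le.mp hj
            exact Subgroup.le_normalizer (hmono hj' hx1)
        have h2 := hcomm x (hle_last _ hx1) hxN
        rw [Subgroup.mem_centralizer_iff]
        intro y hy
        rw [SetLike.mem_coe, Subgroup.mem_zpowers_iff] at hy
        obtain ⟨k, rfl⟩ := hy
        exact ((Commute.zpow_left (show Commute (n : G) x from h2.symm) k).eq)
  exact key (Fin.last m)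

end Cfsg.Agent.S4668
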