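import Cfsg.Statements.S4670
import Mathlib
import Cfsg.Agent.Lib.Helper6.BrFM4

set_option autoImplicit false
open Cfsg

namespace Cfsg.Agent.S4670

open Cfsg.Agent.Lib.Helper6

/-- Fix a prime p and a maximal ideal M of the algebraic integers containing p. Let P be a p-subgroup of the finite group G and H a subgroup containing N_G(P). For every p-block B of G with defect group P there is exactly one p-block c of H with defect group P whose idempotent agrees with that of B, modulo the local ideal at M, at every element of C_G(P) (their Brauer-map images at P coincide); and every p-block c of H with defect group P arises in this way from exactly one such B. This is the Brauer correspondence over H. -/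
theorem result {G : Type*} [Group G] [Fintype G] (p : ℕ) [Fact p.Prime] (M : Ideal Cfsg.AlgInt) (hM : Cfsg.IsPModular p M) (P H : Subgroup G) (hP : IsPGroup p P) (hH : Subgroup.normalizer (P : Set G) ≤ H) : (∀ B : Set (Cfsg.IrrCharacter G), Cfsg.IsPBlock M B → Cfsg.IsDefectGroup p M B P → ∃! c : Set (Cfsg.IrrCharacter H), Cfsg.IsPBlock M c ∧ Cfsg.IsDefectGroup p M c (P.subgroupOf H) ∧ ∀ x : G, x ∈ Subgroup.centralizer (P : Set G) → Cfsg.MemLocalIdeal M (Cfsg.blockCoeff B x - Cfsg.subgroupBlockCoeff H c x)) ∧ (∀ c : Set (Cfsg.IrrCharacter H), Cfsg.IsPBlock M c → Cfsg.IsDefectGroup p M c (P.subgroupOf H) → ∃! B : Set (Cfsg.IrrCharacter G), Cfsg.IsPBlock M B ∧ Cfsg.IsDefectGroup p M B P ∧ ∀ x : G, x ∈ Subgroup.centralizer (P : Set G) → Cfsg.MemLocalIdeal M (Cfsg.blockCoeff B x - Cfsg.subgroupBlockCoeff H c x)) := by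
  classical
  have hFH : Fintype H := Fintype.ofFinite _
  have hFC : Fintype (Subgroup.centralizer (P : Set G)) := Fintype.ofFinite _
  have hFC' : Fintype (Subgroup.centralizer ((P.subgroupOf H : Subgroup H) : Set H)) :=
    Fintype.ofFinite _
  have hPH : P ≤ H := Subgroup.le_normalizer.trans hH
  have hCH : Subgroup.centralizer (P : Set G) ≤ H :=
    (Subgroup.centralizer_le_normalizer _).trans hH
  have hHR : (P.subgroupOf H).map H.subtype = P := Subgroup.map_subgroupOf_eq_of_le hPH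
  have hPHp : IsPGroup p (P.subgroupOf H) := (isPGroup_rel2_iff H (P.subgroupOf H) P hHR).mpr hP
  constructor
  · intro B hB hPD
    obtain ⟨e, hPe⟩ := exists_isBrauerPairOf_of_isDefectGroup P hM hP hB hPD
    have hmaxG := isMaximalBrauerPair_of_isDefectGroup hM B P e hPD hPe
    have hrel := PairRel.mk' H P hPH hCH e
    have he'blk : Cfsg.IsPBlock M (mapIrr (cE H (P.subgroupOf H) P
        (Subgroup.map_subgroupOf_eq_of_le hPH) hCH).symm '' e) :=
      isPBlock_mapIrr_image _ hPe.1.2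
    obtain ⟨c, hPe'⟩ := exists_block_of_pair hM (P.subgroupOf H) hPHp _ he'blk
    have hmaxH := isMaximalBrauerPair_sub_of_ambient P H hM hPH hCH B c e _ hrel hPe' hmaxG
    have hPcD := isDefectGroup_of_isMaximalBrauerPair hM c _ _ hmaxH
    have hcong := congr_of_common_pair P H hM hP hPH hH B c e _ hrel hPD hPcD hPe hPe'
    refine ⟨c, ⟨hPe'.2.1, hPcD, hcong⟩, ?_⟩
    rintro c₂ ⟨hc₂, _, hcong₂⟩
    have h1 := ((brauer_congr_iff P H hM hP hPH hCH hB hc₂).mp hcong₂ e hPe.1.2).mp hPe.2.2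
    have h2 := (isBrauerPairOf_of_pairRel H _ _ hrel c₂).mpr ⟨hP, hPe.1.2, hc₂, h1⟩
    exact block_unique_of_pair hM _ _ h2 hPe'
  · intro c hc hPcD
    obtain ⟨e', hPe'⟩ := exists_isBrauerPairOf_of_isDefectGroup (P.subgroupOf H) hM hPHp hc hPcD
    have hmaxH := isMaximalBrauerPair_of_isDefectGroup hM c _ e' hPcD hPe'
    have hrel : PairRel H ⟨P.subgroupOf H, e'⟩
        ⟨P, mapIrr (cE H (P.subgroupOf H) P hHR hCH) '' e'⟩ := ⟨hHR, hCH, rfl⟩
    have heblk : Cfsg.IsPBlock M (mapIrr (cE H (P.subgroupOf H) P hHR hCH) '' e') :=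
      isPBlock_mapIrr_image _ hPe'.1.2
    obtain ⟨B, hPe⟩ := exists_block_of_pair hM P hP _ heblk
    have hmaxG := isMaximalBrauerPair_ambient_of_sub P H hM hPH hH B c _ e' hrel hPe hmaxH
    have hPD := isDefectGroup_of_isMaximalBrauerPair hM B _ _ hmaxG
    have hcong := congr_of_common_pair P H hM hP hPH hH B c _ e' hrel hPD hPcD hPe hPe'
    refine ⟨B, ⟨hPe.2.1, hPD, hcong⟩, ?_⟩
    rintro B₂ ⟨hB₂, _, hcong₂⟩
    have h0 := ((isBrauerPairOf_of_pairRel H _ _ hrel c).mp hPe').2.2.2
    have h1 := ((brauer_congr_iff P H hM hP hPH hCH hB₂ hc).mp hcong₂ _ heblk).mpr h0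
    have h2 : Cfsg.IsBrauerPairOf p M B₂ P (mapIrr (cE H (P.subgroupOf H) P hHR hCH) '' e') :=
      ⟨⟨hP, heblk⟩, hB₂, h1⟩
    exact block_unique_of_pair hM _ _ h2 hPe

end Cfsg.Agent.S4670
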