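import Cfsg.Statements.S4673
import Mathlib
import Cfsg.Agent.Lib.Helper6.KnStab

set_option autoImplicit false
open Cfsg

namespace Cfsg.Agent.S4673

open Cfsg.Agent.Lib.Helper6

/-- Fix a prime p and a maximal ideal M of the algebraic integers containing p. Let N ≤ L be normal subgroups of the finite group G with L/N a p-group, let B be a p-block of G covering the p-block c of N (some member of B has a constituent in c on restriction to N), and suppose that N contains a defect group of B. Then the stabilizer T of c in G satisfies T ∩ L = N. -/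
theorem result {G : Type*} [Group G] [Fintype G] (p : ℕ) [Fact p.Prime] (M : Ideal Cfsg.AlgInt) (hM : Cfsg.IsPModular p M) (N L : Subgroup G) [N.Normal] [L.Normal] [Fintype N] (hNL : N ≤ L) (hLN : ∃ k : ℕ, (N.subgroupOf L).index = p ^ k) (B : Set (Cfsg.IrrCharacter G)) (hB : Cfsg.IsPBlock M B) (c : Set (Cfsg.IrrCharacter N)) (hc : Cfsg.IsPBlock M c) (hcov : (∃ χ ∈ B, ∃ θ ∈ c, Cfsg.classInner (fun n : N => (χ : G → ℂ) n) (θ : N → ℂ) ≠ 0)) (hD : ∃ D : Subgroup G, Cfsg.IsDefectGroup p M B D ∧ D ≤ N) (T : Subgroup G) (hT : ∀ x : G, x ∈ T ↔ Cfsg.StabilizesBlock N c x) : T ⊓ L = N := by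
  classical
  have hN : N.Normal := inferInstance
  have hLn : L.Normal := inferInstance
  haveI : Fintype L := Fintype.ofFinite _
  apply le_antisymm
  · rintro x ⟨hxT, hxL⟩
    obtain ⟨χ, hχ, θ, hθ, hcθ⟩ := hcov
    obtain ⟨η, hηχ, hηθ⟩ := exists_mid_constituent N L hNL
      (IsIrrCharacter.isClassFunction χ.2) θ hcθ
    have hηb : η ∈ Cfsg.blockOf M (η : L → ℂ) := sameBlock_refl hM _
    have hcovf : ∃ χ' ∈ B, ∃ η' ∈ Cfsg.blockOf M (η : L → ℂ),
        Cfsg.classInner (fun l : L => (χ' : G → ℂ) l) (η' : L → ℂ) ≠ 0 :=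
      ⟨χ, hχ, η, hηb, hηχ⟩
    obtain ⟨P, hP, -, hPL⟩ := knorr_exists hM L hLn (Cfsg.blockOf M (η : L → ℂ)) ⟨η, rfl⟩ B hB
      hcovf
    obtain ⟨D, hDB, hDN⟩ := hD
    have hPN : P ≤ N := by
      obtain ⟨χ₀, rfl⟩ := hB
      obtain ⟨y, hy⟩ := isDefectGroup_conj hM χ₀ D P hDB hP
      rw [hy]
      rintro _ ⟨d, hd, rfl⟩
      exact hN.conj_mem d (hDN hd) y
    haveI : Fintype (N.subgroupOf L) := Fintype.ofFinite _
    have hN' : (N.subgroupOf L).Normal := hN.subgroupOf L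
    have hc' : Cfsg.IsPBlock M (irrSub N L hNL '' c) := by
      obtain ⟨θ₀, rfl⟩ := hc
      exact ⟨irrSub N L hNL θ₀, image_irrSub_blockOf N L hNL θ₀⟩
    have hcov' : ∃ χ' ∈ Cfsg.blockOf M (η : L → ℂ), ∃ θ' ∈ irrSub N L hNL '' c,
        Cfsg.classInner (fun k : N.subgroupOf L => (χ' : L → ℂ) k)
          (θ' : N.subgroupOf L → ℂ) ≠ 0 := by
      refine ⟨η, hηb, irrSub N L hNL θ, ⟨θ, hθ, rfl⟩, ?_⟩
      rw [classInner_restrict_irrSub]
      exact hηθ
    have hDle : (P ⊓ L).subgroupOf L ≤ N.subgroupOf L := by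
      intro y hy
      rw [Subgroup.mem_subgroupOf] at hy ⊢
      exact hPN hy.1
    have key := blockStab_le_of_cover_defect_le hM (N.subgroupOf L) hN' hLN
      (irrSub N L hNL '' c) hc' (Cfsg.blockOf M (η : L → ℂ)) ⟨η, rfl⟩ hcov' _ hPL hDle
    have hxs : x ∈ blockStab N hN c :=
      (stabilizesBlock_iff_mem_blockStab hM N hN c hc x).mp ((hT x).mp hxT)
    rw [mem_blockStab_iff N hN hM c hc] at hxs
    have hx' : (⟨x, hxL⟩ : L) ∈ blockStab (N.subgroupOf L) hN' (irrSub N L hNL '' c) := by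
      rw [mem_blockStab_iff _ _ hM _ hc']
      rintro _ ⟨θ₁, hθ₁, rfl⟩
      rw [irrConj_irrSub N hN L hNL]
      exact ⟨_, hxs θ₁ hθ₁, rfl⟩
    exact key hx'
  · intro n hn
    refine ⟨?_, hNL hn⟩
    apply (hT n).mpr
    rw [stabilizesBlock_iff_mem_blockStab hM N hN c hc]
    exact le_blockStab N hN c hn

end Cfsg.Agent.S4673
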