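import Cfsg.Statements.S4681
import Mathlib
import Cfsg.Agent.Lib.Helper6.BrPrin

set_option autoImplicit false
open Cfsg

namespace Cfsg.Agent.S4681

open Cfsg.Agent.Lib.Helper6

/-- Fix a prime p and a maximal ideal M of the algebraic integers containing p. Let B₀ be the principal p-block of the finite group G, P a Sylow p-subgroup and e₀ the principal p-block of C_G(P). Then (P, e₀) is a maximal Brauer pair of B₀, and the fusion system of B₀ on (P, e₀) is the fusion system of G on P: its maps from each subgroup of P are exactly the conjugation maps into P by elements of G. -/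
theorem result {G : Type*} [Group G] [Fintype G] (p : ℕ) [Fact p.Prime] (M : Ideal Cfsg.AlgInt) (hM : Cfsg.IsPModular p M) (S : Sylow p G) : Cfsg.IsMaximalBrauerPair p M (Cfsg.principalBlock M G) (S : Subgroup G) (Cfsg.principalBlock M (Subgroup.centralizer ((S : Subgroup G) : Set G))) ∧ ∀ F : Cfsg.FusionSystem (S : Subgroup G), Cfsg.IsBlockFusionSystemOn p M (Cfsg.principalBlock M G) (S : Subgroup G) (Cfsg.principalBlock M (Subgroup.centralizer ((S : Subgroup G) : Set G))) F → ∀ Q : Subgroup G, F.Hom Q = (Cfsg.groupFusionSystem (S : Subgroup G)).Hom Q := by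
  classical
  have hSp : IsPGroup p (S : Subgroup G) := S.isPGroup'
  have hmax : Cfsg.IsMaximalBrauerPair p M (Cfsg.principalBlock M G) (S : Subgroup G)
      (Cfsg.principalBlock M (Subgroup.centralizer ((S : Subgroup G) : Set G))) := by
    refine ⟨isBrauerPairOf_principal hM _ hSp, ?_⟩
    intro R g hRg hle
    have h1 : (S : Subgroup G) ≤ R := le_of_chain _ ⟨R, g⟩ hle
    exact S.is_maximal' hRg.1.1 h1
  refine ⟨hmax, ?_⟩
  intro F hF Q
  ext φ
  rw [hF.2 Q φ]
  constructor
  · rintro ⟨hQS, g, hg, hQg, _⟩
    refine ⟨hQS, ?_, g, hg⟩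
    intro u
    apply hQg
    rw [hg u]
    exact conj_mem_map_conj Q g u.2
  · rintro ⟨hQS, hφS, g, hg⟩
    have hQg : Q.map (MulAut.conj g).toMonoidHom ≤ (S : Subgroup G) := by
      intro y hy
      rw [mem_map_conj_iff] at hy
      have := hφS ⟨_, hy⟩
      rw [hg] at this
      simp only at this
      have e : g * (g⁻¹ * y * g) * g⁻¹ = y := by group
      rwa [e] at this
    refine ⟨hQS, g, hg, hQg,
      Cfsg.principalBlock M (Subgroup.centralizer (Q : Set G)), ?_, ?_⟩
    · exact subpairLE_principal hM _ _ Q le_rfl hSp hQS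
    · rw [conjBlock_principalBlock]
      exact subpairLE_principal hM _ _ _ le_rfl hSp hQg

end Cfsg.Agent.S4681
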