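import Cfsg.Statements.S4688
import Mathlib
import Cfsg.Agent.Lib.Helper6.BrSat4
import Cfsg.Agent.Lib.Helper6.BrRel3
import Cfsg.Agent.S4686

set_option autoImplicit false
open Cfsg

namespace Cfsg.Agent.S4688

open Cfsg.Agent.Lib.Helper6

/-- Fix a prime p and a maximal ideal M of the algebraic integers containing p, and a nilpotent p-block B of the finite group G with maximal Brauer pair (P, e). Then for every Brauer pair (Q, f) of B, f is a nilpotent block of C_G(Q); and if moreover (Q, f) ≤ (P, e), then C_P(Q) is a defect group of f as a block of C_G(Q). -/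
theorem result {G : Type*} [Group G] [Fintype G] (p : ℕ) [Fact p.Prime] (M : Ideal Cfsg.AlgInt) (hM : Cfsg.IsPModular p M) (B : Set (Cfsg.IrrCharacter G)) (P : Subgroup G) (e : Set (Cfsg.IrrCharacter (Subgroup.centralizer (P : Set G)))) (hmax : Cfsg.IsMaximalBrauerPair p M B P e) (hnil : Cfsg.IsNilpotentBlock p M B) (Q : Subgroup G) (f : Set (Cfsg.IrrCharacter (Subgroup.centralizer (Q : Set G)))) (hQf : Cfsg.IsBrauerPairOf p M B Q f) : Cfsg.IsNilpotentBlock p M f ∧ (Cfsg.SubpairLE p M Q f P e → Cfsg.IsDefectGroup p M f ((P ⊓ Subgroup.centralizer (Q : Set G)).subgroupOf (Subgroup.centralizer (Q : Set G)))) := by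
  classical
  have hPe := hmax.1.1
  have hB := hmax.1.2.1
  have : Fintype (Subgroup.centralizer (Q : Set G)) := Fintype.ofFinite _
  constructor
  · refine ⟨hQf.1.2, ?_⟩
    intro R g hRg x hxN hxst hxreg
    have hn := isNormalSubpair_of_cent Q hQf.1 R g hRg
    have : Fintype (Subgroup.centralizer
      ((Q ⊔ R.map (Subgroup.centralizer (Q : Set G)).subtype : Subgroup G) : Set G)) :=
      Fintype.ofFinite _
    have hBR := (isBrauerPairOf_iff_of_isNormalSubpair
      (Q ⊔ R.map (Subgroup.centralizer (Q : Set G)).subtype) Q hM _ f hn B hB).mpr hQf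
    have hxNG : (x : G) ∈ Subgroup.normalizer
        ((Q ⊔ R.map (Subgroup.centralizer (Q : Set G)).subtype : Subgroup G) : Set G) :=
      Subgroup.normalizer_inf_normalizer_le_normalizer_sup Q _
        ⟨Subgroup.centralizer_le_normalizer _ x.2,
          coe_mem_normalizer_of_rel2 (Subgroup.centralizer (Q : Set G)) R _ rfl x hxN⟩
    have hxst' := stabilizesBlock_rel3 (Subgroup.centralizer (Q : Set G)) R _
      (mem_centralizer_cent_iff Q R) (centralizer_sup_le Q R) g x
      (normalizer_le_normalizer_centralizer _ hxNG) hxst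
    have hxreg' : Cfsg.IsPRegular p (x : G) := by
      unfold Cfsg.IsPRegular at hxreg ⊢
      rwa [Subgroup.orderOf_coe]
    have := hnil.2 _ _ hBR (x : G) hxNG hxst' hxreg'
    exact (mem_centralizer_cent_iff Q R x).mpr this
  · intro hle
    have hQP : Q ≤ P := le_of_chain _ _ hle
    obtain ⟨F, hF⟩ := exists_blockFusionSystem hM B P e hmax
    have hinner := (Cfsg.Agent.S4686.result p M hM B P e hmax F hF).mp hnil
    rw [← blockFusion_isFullyCentralized_iff hM B P e F hF Q f hQP hQf.1.2 hle]
    refine ⟨hQP, ?_⟩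
    rintro Q' ⟨φ, hφ, rfl⟩
    rw [hinner] at hφ
    obtain ⟨_, u, huP, hu⟩ := hφ
    have hrange : φ.range = Q.map (MulAut.conj u).toMonoidHom := by
      rw [← range_conjHom]
      congr 1
      ext v
      rw [hu v]
      rfl
    rw [hrange]
    unfold Cfsg.FusionSystem.centralizerIn
    have hmap : P ⊓ Subgroup.centralizer ((Q.map (MulAut.conj u).toMonoidHom : Subgroup G) : Set G)
        = (P ⊓ Subgroup.centralizer (Q : Set G)).map (MulAut.conj u).toMonoidHom := by
      ext x
      rw [mem_map_conj_iff, Subgroup.mem_inf, Subgroup.mem_inf, mem_centralizer_map_conj_iff]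
      constructor
      · rintro ⟨h1, h2⟩
        exact ⟨P.mul_mem (P.mul_mem (P.inv_mem huP) h1) huP, h2⟩
      · rintro ⟨h1, h2⟩
        refine ⟨?_, h2⟩
        have h3 := P.mul_mem (P.mul_mem huP h1) (P.inv_mem huP)
        have e1 : u * (u⁻¹ * x * u) * u⁻¹ = x := by group
        rwa [e1] at h3
    rw [hmap, Subgroup.card_map_of_injective (MulAut.conj u).injective]

end Cfsg.Agent.S4688
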