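import Cfsg.Statements.S4691
import Mathlib
import Cfsg.Agent.Lib.Helper6.BrPrin
import Cfsg.Agent.S0071

set_option autoImplicit false
open Cfsg

namespace Cfsg.Agent.S4691

open Cfsg.Agent.Lib.Helper6

theorem exists_conj_le_sylow' {G : Type*} [Group G] [Finite G] {p : ℕ} [Fact p.Prime] (P : Sylow p G)
    {Q : Subgroup G} (hQ : IsPGroup p Q) :
    ∃ y : G, Q.map (MulAut.conj y).toMonoidHom ≤ (P : Subgroup G) := by
  obtain ⟨P', hP'⟩ := hQ.exists_le_sylow
  obtain ⟨y, hy⟩ := MulAction.exists_smul_eq G P' P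
  refine ⟨y, ?_⟩
  rw [← hy, Sylow.coe_subgroup_smul, Subgroup.pointwise_smul_def]
  exact Subgroup.map_mono hP'


/-- Fix a prime p and a maximal ideal M of the algebraic integers containing p. A finite group G has a normal p-complement if and only if its principal p-block is nilpotent. -/
theorem result {G : Type*} [Group G] [Fintype G] (p : ℕ) [Fact p.Prime] (M : Ideal Cfsg.AlgInt) (hM : Cfsg.IsPModular p M) : Cfsg.HasNormalPComplement p G ↔ Cfsg.IsNilpotentBlock p M (Cfsg.principalBlock M G) := by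
  classical
  have hp : p.Prime := Fact.out
  constructor
  · rintro ⟨P, N, hN, hc⟩
    have hfrob := (Cfsg.Agent.S0071.result P).mp ⟨N, hN, hc⟩
    refine ⟨isPBlock_principalBlock, ?_⟩
    intro Q e hQe x hxN _ hxreg
    obtain ⟨y, hy⟩ := exists_conj_le_sylow' P hQe.1.1
    have h1 := mem_normalizer_map_conj Q y hxN
    have hord : orderOf (y * x * y⁻¹) = orderOf x := by
      have : y * x * y⁻¹ = MulAut.conj y x := by simp [MulAut.conj_apply]
      rw [this]
      exact MulEquiv.orderOf_eq (MulAut.conj y) x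
    have hcop : Nat.Coprime (orderOf (y * x * y⁻¹)) p := by
      rw [hord, Nat.coprime_comm]
      exact (hp.coprime_iff_not_dvd).mpr hxreg
    have h2 := hfrob _ hy _ h1 hcop
    rw [mem_centralizer_map_conj_iff] at h2
    have e : y⁻¹ * (y * x * y⁻¹) * y = x := by group
    rwa [e] at h2
  · rintro ⟨_, hnil⟩
    obtain ⟨P⟩ : Nonempty (Sylow p G) := inferInstance
    obtain ⟨N, hN, hc⟩ := (Cfsg.Agent.S0071.result P).mpr (by
      intro Q hQP g hgN hcop
      have hQ : IsPGroup p Q := P.isPGroup'.to_le hQP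
      apply hnil Q _ (isBrauerPairOf_principal hM Q hQ) g hgN
      · rw [stabilizesBlock_iff]
        exact ⟨normalizer_le_normalizer_centralizer Q hgN, autIrr_image_principalBlock _⟩
      · unfold Cfsg.IsPRegular
        rw [Nat.coprime_comm] at hcop
        exact (hp.coprime_iff_not_dvd).mp hcop)
    exact ⟨P, N, hN, hc⟩

end Cfsg.Agent.S4691
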