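import Cfsg.Statements.S4693
import Mathlib
import Cfsg.Agent.Lib.Helper6.BrSat5

set_option autoImplicit false
open Cfsg

namespace Cfsg.Agent.S4693

open Cfsg.Agent.Lib.Helper6

theorem nilpotent_aux {G : Type*} [Group G] [Fintype G] [DecidableEq G] (p : ℕ) [Fact p.Prime]
    (M : Ideal Cfsg.AlgInt) (hM : Cfsg.IsPModular p M) (B : Set (Cfsg.IrrCharacter G))
    (P : Subgroup G) (e : Set (Cfsg.IrrCharacter (Subgroup.centralizer (P : Set G))))
    (hmax : Cfsg.IsMaximalBrauerPair p M B P e) (F : Cfsg.FusionSystem P)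
    (hF : Cfsg.IsBlockFusionSystemOn p M B P e F) (Q : Subgroup G)
    (f : Set (Cfsg.IrrCharacter (Subgroup.centralizer (Q : Set G)))) (hQP : Q ≤ P)
    (hf : Cfsg.IsPBlock M f) (hle : Cfsg.SubpairLE p M Q f P e) (hcen : F.IsCentric Q)
    (hG : ∀ x : G, x ∈ Subgroup.normalizer (Q : Set G) ∧
      Cfsg.StabilizesBlock (Subgroup.centralizer (Q : Set G)) f x)
    (H : Subgroup G) (hH : H = Q ⊔ Subgroup.centralizer (Q : Set G)) :
    ∃ F' : Set (Cfsg.IrrCharacter H), Cfsg.IsPBlock M F' ∧
      (∀ t : H, Cfsg.blockCoeff F' t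
        = Cfsg.subgroupBlockCoeff (Subgroup.centralizer (Q : Set G)) f (t : G)) ∧
      Cfsg.IsNilpotentBlock p M F' := by
  classical
  have hPe := hmax.1.1
  have hB := hmax.1.2.1
  have hQp : IsPGroup p Q := hPe.1.to_le hQP
  have hQf : Cfsg.IsBrauerPair p M Q f := ⟨hQp, hf⟩
  have hQH : Q ≤ H := by rw [hH]; exact le_sup_left
  have hCH : Subgroup.centralizer (Q : Set G) ≤ H := by rw [hH]; exact le_sup_right
  have hHN : H ≤ Subgroup.normalizer (Q : Set G) := by
    rw [hH]
    exact sup_le Subgroup.le_normalizer (Subgroup.centralizer_le_normalizer _)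
  have hHst : ∀ x ∈ H, Cfsg.StabilizesBlock (Subgroup.centralizer (Q : Set G)) f x := by
    intro x hx
    apply stabilizesBlock_of_mem_sup
    rw [← hH]
    exact hx
  have hQnC : Q ≤ Subgroup.normalizer
      ((Subgroup.centralizer (Q : Set G) : Subgroup G) : Set G) :=
    Subgroup.le_normalizer.trans (normalizer_le_normalizer_centralizer Q)
  have hHmul : ∀ z ∈ H, ∃ q ∈ Q, ∃ c ∈ Subgroup.centralizer (Q : Set G), z = q * c := by
    intro z hz
    have hz' : z ∈ ((Q ⊔ Subgroup.centralizer (Q : Set G) : Subgroup G) : Set G) := by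
      rw [← hH]
      exact hz
    rw [Subgroup.coe_mul_of_left_le_normalizer_right Q _ hQnC, Set.mem_mul] at hz'
    obtain ⟨q, hq, c, hc, hqc⟩ := hz'
    exact ⟨q, hq, c, hc, hqc.symm⟩
  have hHnorm : ∀ y z : G, z ∈ H → y * z * y⁻¹ ∈ H := by
    intro y z hz
    have hyN : y ∈ Subgroup.normalizer ((H : Subgroup G) : Set G) := by
      rw [hH]
      exact Subgroup.normalizer_inf_normalizer_le_normalizer_sup Q _
        ⟨(hG y).1, normalizer_le_normalizer_centralizer Q (hG y).1⟩
    exact (Subgroup.mem_normalizer_iff.mp hyN z).mp hz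
  have : Fintype H := Fintype.ofFinite _
  obtain ⟨F', hF', hcoef⟩ := exists_block_of_sub_stab hM Q hQp f hf H hCH hQH hHN hHst
  refine ⟨F', hF', hcoef, hF', ?_⟩
  intro R g hRg x hxN hxst hxreg
  -- (a) `x` centralizes `Q`
  have hxC : (x : G) ∈ Subgroup.centralizer (Q : Set G) := by
    obtain ⟨q, hq, c, hc, hqc⟩ := hHmul (x : G) x.2
    have hxeq : conjActHom Q H hHN x = conjActHom Q H hHN ⟨q, hQH hq⟩ := by
      ext u
      rw [conjActHom_apply_coe, conjActHom_apply_coe, hqc]
      have h1 := Subgroup.mem_centralizer_iff.mp hc (u : G) u.2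
      change q * c * (u : G) * (q * c)⁻¹ = q * (u : G) * q⁻¹
      calc q * c * (u : G) * (q * c)⁻¹ = q * (c * (u : G)) * c⁻¹ * q⁻¹ := by group
        _ = q * ((u : G) * c) * c⁻¹ * q⁻¹ := by rw [h1]
        _ = q * (u : G) * q⁻¹ := by group
    obtain ⟨k, hk⟩ := hQp ⟨q, hq⟩
    have hk' : q ^ (p ^ k) = 1 := by
      have := congrArg Subtype.val hk
      simpa using this
    have h1 : (conjActHom Q H hHN x) ^ (orderOf x) = 1 := by
      rw [← map_pow, pow_orderOf_eq_one, map_one]
    have h2 : (conjActHom Q H hHN x) ^ (p ^ k) = 1 := by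
      rw [hxeq, ← map_pow]
      have : (⟨q, hQH hq⟩ : H) ^ (p ^ k) = 1 := by
        apply Subtype.ext
        rw [Subgroup.coe_pow]
        exact hk'
      rw [this, map_one]
    have hcop : Nat.Coprime (orderOf x) (p ^ k) := by
      apply Nat.Coprime.pow_right
      exact ((Nat.Prime.coprime_iff_not_dvd Fact.out).mpr hxreg).symm
    have h3 := orderOf_dvd_of_pow_eq_one h1
    have h4 := orderOf_dvd_of_pow_eq_one h2
    have h5 : orderOf (conjActHom Q H hHN x) = 1 := by
      have := Nat.dvd_gcd h3 h4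
      rw [hcop] at this
      exact Nat.dvd_one.mp this
    rw [orderOf_eq_one_iff, ← MonoidHom.mem_ker, conjActHom_ker, Subgroup.mem_subgroupOf] at h5
    exact h5
  -- (b) `R ≤ Q`
  have hRQ : R.map H.subtype ≤ Q := by
    obtain ⟨b, hbmax, hch⟩ := exists_maximal_above (p := p) (M := M) F' _ ⟨R, g⟩ le_rfl hRg
    obtain ⟨D, g'⟩ := b
    have hRD : R ≤ D := le_of_chain _ ⟨D, g'⟩ hch
    have hDdef : Cfsg.IsDefectGroup p M F' D := isDefectGroup_of_isMaximalBrauerPair hM F' D g' hbmax
    haveI hQHn : (Q.subgroupOf H).Normal := Subgroup.normal_subgroupOf_of_le_normalizer hHN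
    have hQHp : IsPGroup p (Q.subgroupOf H) := by
      rw [← Subgroup.comap_subtype]
      exact hQp.comap_subtype
    have hQD : Q.subgroupOf H ≤ D :=
      (le_sSup ⟨hQHn, hQHp⟩ : Q.subgroupOf H ≤ Cfsg.pCore p H).trans
        (Cfsg.Agent.S0912.result p M hM F' hF' D hDdef)
    have hQDG : Q ≤ D.map H.subtype := by
      intro z hz
      exact ⟨⟨z, hQH hz⟩, hQD (by rw [Subgroup.mem_subgroupOf]; exact hz), rfl⟩
    obtain ⟨hCD, hnD⟩ := isNormalSubpair_of_isBrauerPairOf_sub Q f hQf H hCH hHN hHst F' hcoef D g'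
      hQDG hbmax.1
    have hBQ : Cfsg.IsBrauerPairOf p M B Q f :=
      (isBrauerPairOf_iff_of_chain hM B hB ⟨Q, f⟩ ⟨P, e⟩ hle).mp hmax.1
    have : Fintype (Subgroup.centralizer (Q : Set G)) := Fintype.ofFinite _
    have : Fintype (Subgroup.centralizer ((D.map H.subtype : Subgroup G) : Set G)) :=
      Fintype.ofFinite _
    have hBD := (isBrauerPairOf_iff_of_isNormalSubpair (D.map H.subtype) Q hM _ f hnD B hB).mpr hBQ
    obtain ⟨y, hy⟩ := exists_conj_subpairLE hM B P (D.map H.subtype) e _ hmax hBD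
    have hDyP : (D.map H.subtype).map (MulAut.conj y).toMonoidHom ≤ P := le_of_chain _ _ hy
    have hDGH : D.map H.subtype ≤ H := le_of_map_eq H D _ rfl
    have hDyQ : (D.map H.subtype).map (MulAut.conj y).toMonoidHom ≤ Q := by
      intro z hz
      have hzP := hDyP hz
      rw [mem_map_conj_iff] at hz
      have hzH : z ∈ H := by
        have := hHnorm y _ (hDGH hz)
        have e1 : y * (y⁻¹ * z * y) * y⁻¹ = z := by group
        rwa [e1] at this
      obtain ⟨q, hq, c, hc, hqc⟩ := hHmul z hzH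
      have hcP : c ∈ P := by
        have : c = q⁻¹ * z := by rw [hqc]; group
        rw [this]
        exact P.mul_mem (P.inv_mem (hQP hq)) hzP
      have hcQ : c ∈ Q := hcen.2 Q (isConj_self P F Q hQP) ⟨hcP, hc⟩
      rw [hqc]
      exact Q.mul_mem hq hcQ
    have hc1 : Nat.card (D.map H.subtype)
        = Nat.card ((D.map H.subtype).map (MulAut.conj y).toMonoidHom) :=
      (Subgroup.card_map_of_injective (MulAut.conj y).injective).symm
    have hc2 := Subgroup.card_le_of_le hDyQ
    have hQeq : Q = D.map H.subtype := Subgroup.eq_of_le_of_card_ge hQDG (by omega)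
    rw [hQeq]
    exact Subgroup.map_mono hRD
  -- (c)
  rw [Subgroup.mem_centralizer_iff]
  intro r hr
  apply Subtype.ext
  rw [Subgroup.coe_mul, Subgroup.coe_mul]
  exact Subgroup.mem_centralizer_iff.mp hxC (r : G) (hRQ ⟨r, hr, rfl⟩)


/-- Fix a prime p and a maximal ideal M of the algebraic integers containing p, a p-block B of the finite group G with maximal Brauer pair (P, e) and fusion system F on P, and a Brauer pair (Q, f) ≤ (P, e) with Q centric in F. Suppose every element of G normalizes Q and stabilizes f. Then the idempotent of B agrees with that of f modulo M at every element of G, and f is the idempotent of a nilpotent block of Q·C_G(Q): some p-block of Q·C_G(Q) has the idempotent coefficients of f and is nilpotent. -/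
theorem result {G : Type*} [Group G] [Fintype G] (p : ℕ) [Fact p.Prime] (M : Ideal Cfsg.AlgInt) (hM : Cfsg.IsPModular p M) (B : Set (Cfsg.IrrCharacter G)) (P : Subgroup G) (e : Set (Cfsg.IrrCharacter (Subgroup.centralizer (P : Set G)))) (hmax : Cfsg.IsMaximalBrauerPair p M B P e) (F : Cfsg.FusionSystem P) (hF : Cfsg.IsBlockFusionSystemOn p M B P e F) (Q : Subgroup G) (f : Set (Cfsg.IrrCharacter (Subgroup.centralizer (Q : Set G)))) (hQP : Q ≤ P) (hf : Cfsg.IsPBlock M f) (hle : Cfsg.SubpairLE p M Q f P e) (hcen : F.IsCentric Q) (hG : ∀ x : G, x ∈ Subgroup.normalizer (Q : Set G) ∧ Cfsg.StabilizesBlock (Subgroup.centralizer (Q : Set G)) f x) : (∀ g : G, Cfsg.MemLocalIdeal M (Cfsg.blockCoeff B g - Cfsg.subgroupBlockCoeff (Subgroup.centralizer (Q : Set G)) f g)) ∧ ∃ F' : Set (Cfsg.IrrCharacter ↥(Q ⊔ Subgroup.centralizer (Q : Set G))), Cfsg.IsPBlock M F' ∧ (∀ t : ↥(Q ⊔ Subgroup.centralizer (Q : Set G)), Cfsg.blockCoeff F' t = Cfsg.subgroupBlockCoeff (Subgroup.centralizer (Q :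 Set G)) f (t : G)) ∧ Cfsg.IsNilpotentBlock p M F' := by
  classical
  have hPe := hmax.1.1
  have hB := hmax.1.2.1
  have hQp : IsPGroup p Q := hPe.1.to_le hQP
  have hQf : Cfsg.IsBrauerPair p M Q f := ⟨hQp, hf⟩
  have : Fintype (Subgroup.centralizer (Q : Set G)) := Fintype.ofFinite _
  refine ⟨?_, nilpotent_aux p M hM B P e hmax F hF Q f hQP hf hle hcen hG _ rfl⟩
  haveI hQn : Q.Normal := by
    constructor
    intro n hn g
    exact (Subgroup.mem_normalizer_iff.mp (hG g).1 n).mp hn
  haveI hCn : (Subgroup.centralizer (Q : Set G)).Normal := by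
    constructor
    intro n hn g
    exact (Subgroup.mem_normalizer_iff.mp
      (normalizer_le_normalizer_centralizer Q (hG g).1) n).mp hn
  obtain ⟨B', hB', hcoefB'⟩ := exists_block_of_stable_of_vanish
    (Subgroup.centralizer (Q : Set G)) hM
    (fun χ g hg => centralChar_memLocalIdeal_of_not_mem_centralizer hM Q hQp χ g hg)
    f hf (fun x => (hG x).2)
  have hBQ : Cfsg.IsBrauerPairOf p M B Q f :=
    (isBrauerPairOf_iff_of_chain hM B hB ⟨Q, f⟩ ⟨P, e⟩ hle).mp hmax.1
  have hβ : Cfsg.blockCoeff B'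
      = Cfsg.subgroupBlockCoeff (Subgroup.centralizer (Q : Set G)) f := funext hcoefB'
  have hB'Q : Cfsg.IsBrauerPairOf p M B' Q f := by
    refine ⟨hQf, hB', ?_⟩
    intro ξ hξ
    rw [hβ]
    exact (isNormalSubpair_refl hM Q f hQf).2.2.2.2.2 ξ hξ
  have hBB' : B = B' :=
    IsInducedBlock.unique (Subgroup.centralizer (Q : Set G)) hM
      ((isBrauerPairOf_iff_isInducedBlock hM Q hQp f B).mp hBQ)
      ((isBrauerPairOf_iff_isInducedBlock hM Q hQp f B').mp hB'Q)
  intro g
  rw [hBB', hcoefB', sub_self]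
  exact memLocalIdeal_zero hM

end Cfsg.Agent.S4693
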