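import Mathlib
import Cfsg.Statements.S4702
import Cfsg.Agent.Lib.Lead.S3B

set_option autoImplicit false

open Cfsg

namespace Cfsg.Agent.S4702

theorem result {α : Type*} [Fintype α] [DecidableEq α] (hm : 3 ≤ Fintype.card α) (hodd : Odd (Fintype.card α)) (G : Subgroup (Equiv.Perm α)) (h3 : MulAction.IsMultiplyPretransitive G α 3) (hfix : ∀ g : G, 3 ≤ Nat.card (MulAction.fixedBy α g) → g = 1) : ∃ a : ℕ, 1 ≤ a ∧ Fintype.card α = 2 ^ a + 1 ∧ ∃ (F : Type) (_ : Field F) (_ : Fintype F), Fintype.card F = 2 ^ a ∧ Nonempty (G ≃* Matrix.SpecialLinearGroup (Fin 2) F) := by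
  have hsharp := Cfsg.Agent.Lib.Lead.S3.sharp_of_fixedBy G hfix
  obtain ⟨a, ha, hcard⟩ := Cfsg.Agent.Lib.Lead.S3.degree_of_odd G h3 hsharp hodd hm
  obtain ⟨F, fld, ft, hcF, ⟨e⟩⟩ := Cfsg.Agent.Lib.Lead.S3.sharp3_pgl G h3 hsharp ha hcard
  have h2 : ringChar F = 2 := Cfsg.Agent.Lib.Lead.S3.ringChar_two_of_card hcF
  exact ⟨a, ha, hcard, F, fld, ft, hcF,
    ⟨e.trans ((Cfsg.Agent.Lib.Lead.S3.pslEquivPgl F h2).symm.trans
      (Cfsg.Agent.Lib.Lead.S3.slEquivPsl F h2).symm)⟩⟩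

end Cfsg.Agent.S4702
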