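import Cfsg.Statements.S4706
import Cfsg.Agent.Lib.Helper7.P2pFix
import Cfsg.Agent.Lib.Helper7.P2pConc
import Cfsg.Agent.S0676
import Cfsg.Agent.S4702
import Cfsg.Agent.S1013

set_option autoImplicit false
open Cfsg

namespace Cfsg.Agent.S4706

open Cfsg.Agent.Lib.Helper7.P2p

/-- Let p > 2 be a prime and G a permutation group on p letters whose Sylow p-subgroup P has normalizer of order 2p. Then either P is normal in G, or p − 1 = 2^a for some a and G is isomorphic to SL(2, 2^a). -/
theorem result {α : Type*} [Fintype α] [DecidableEq α] {p : ℕ} [Fact p.Prime] (hp : 2 < p) (hα : Fintype.card α = p) (G : Subgroup (Equiv.Perm α)) (P : Sylow p G) (hN : Nat.card (Subgroup.normalizer ((P : Subgroup G) : Set G)) = 2 * p) : (P : Subgroup G).Normal ∨ ∃ (a : ℕ) (F : Type) (_ : Field F) (_ : Fintype F), p = 2 ^ a + 1 ∧ Fintype.card F = 2 ^ a ∧ Nonempty (G ≃* Matrix.SpecialLinearGroup (Fin 2) F) := by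
  classical
  have hpp := (Fact.out : p.Prime)
  by_cases hnorm : (P : Subgroup G).Normal
  · exact Or.inl hnorm
  right
  have : Fintype G := Fintype.ofFinite G
  have hPcard : Nat.card (P : Subgroup G) = p := card_sylow_of_normalizer hp P hN
  -- `p ≥ 5`
  have hp5 : 5 ≤ p := by
    by_contra h
    push Not at h
    have hp34 : p = 3 ∨ p = 4 := by omega
    rcases hp34 with h3 | h4
    · apply hnorm
      apply Subgroup.normalizer_eq_top_iff.1
      apply (Subgroup.card_eq_iff_eq_top _).1
      apply le_antisymm (Subgroup.card_le_card_group _)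
      rw [hN, h3]
      have h1 : Nat.card G ≤ Nat.card (Equiv.Perm α) := Subgroup.card_le_card_group G
      rw [Nat.card_eq_fintype_card (α := Equiv.Perm α), Fintype.card_perm, hα, h3] at h1
      exact h1
    · rw [h4] at hpp
      exact absurd hpp (by norm_num)
  -- orders of the nonidentity elements of `P`
  have hord : ∀ x ∈ (P : Subgroup G), x ≠ 1 → orderOf (x : Equiv.Perm α) = p := by
    intro x hx hx1
    rw [Subgroup.orderOf_coe]
    apply orderOf_eq_prime _ hx1
    have h1 : (⟨x, hx⟩ : (P : Subgroup G)) ^ Nat.card (P : Subgroup G) = 1 := pow_card_eq_one'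
    rw [hPcard] at h1
    have := congrArg Subtype.val h1
    simpa using this
  have hfpf : ∀ x ∈ (P : Subgroup G), x ≠ 1 → ∀ c : α, x • c ≠ c := by
    intro x hx hx1 c
    exact fpf_of_orderOf hα (x : Equiv.Perm α) (hord x hx hx1) c
  have hcent : ∀ x ∈ (P : Subgroup G), x ≠ 1 → ∀ g : G, g * x = x * g → g ∈ (P : Subgroup G) := by
    intro x hx hx1 g hg
    have hg' : (g : Equiv.Perm α) * (x : Equiv.Perm α) = (x : Equiv.Perm α) * (g : Equiv.Perm α) := by
      have := congrArg Subtype.val hg
      simpa using this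
    obtain ⟨k, hk⟩ := eq_pow_of_commute hα (x : Equiv.Perm α) (g : Equiv.Perm α)
      (hord x hx hx1) hg'
    have hgx : g = x ^ k := by
      apply Subtype.ext
      rw [hk]
      simp
    rw [hgx]
    exact (P : Subgroup G).pow_mem hx k
  obtain ⟨hinv, hconj⟩ := inv_of_normalizer (P : Subgroup G) hPcard hN hcent
  -- a nonidentity element of `P`
  obtain ⟨σ, hσP, hσ1⟩ : ∃ σ ∈ (P : Subgroup G), σ ≠ 1 := by
    by_contra hcon
    push Not at hcon
    have hbot : (P : Subgroup G) = ⊥ := (Subgroup.eq_bot_iff_forall _).2 hcon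
    rw [hbot, Subgroup.card_bot] at hPcard
    omega
  -- transitivity
  have : MulAction.IsPretransitive G α := by
    refine ⟨fun c d => ?_⟩
    obtain ⟨k, hk⟩ := transitive_of_orderOf hα (σ : Equiv.Perm α) (hord σ hσP hσ1) c d
    refine ⟨σ ^ k, ?_⟩
    rw [Subgroup.smul_def, Equiv.Perm.smul_def]
    simpa using hk
  -- more than one Sylow subgroup
  have hn : 1 < Nat.card (Sylow p G) := by
    rw [Sylow.card_eq_index_normalizer P]
    show 1 < (Subgroup.normalizer ((P : Subgroup G) : Set G)).index
    have h1 : (Subgroup.normalizer ((P : Subgroup G) : Set G)).index ≠ 1 := by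
      intro h
      exact hnorm (Subgroup.normalizer_eq_top_iff.1 (Subgroup.index_eq_one.1 h))
    have h2 : (Subgroup.normalizer ((P : Subgroup G) : Set G)).index ≠ 0 :=
      Subgroup.index_ne_zero_of_finite
    omega
  have ht : (((P : Subgroup G).subgroupOf
      (Subgroup.normalizer ((P : Subgroup G) : Set G))).index).Prime := by
    have h1 := Subgroup.card_mul_index ((P : Subgroup G).subgroupOf
      (Subgroup.normalizer ((P : Subgroup G) : Set G)))
    rw [Nat.card_congr (Subgroup.subgroupOfEquivOfLe Subgroup.le_normalizer).toEquiv, hPcard,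
      hN] at h1
    have h2 : p * ((P : Subgroup G).subgroupOf
        (Subgroup.normalizer ((P : Subgroup G) : Set G))).index = p * 2 := by rw [h1]; ring
    rw [Nat.eq_of_mul_eq_mul_left hpp.pos h2]
    exact Nat.prime_two
  have hsimple : IsSimpleGroup G := Cfsg.Agent.S1013.result hα G P hn ht
  have hnsolv : ¬ Group.IsSolvable G := by
    intro hs
    have hcomm := IsSimpleGroup.comm_iff_isSolvable.2 hs
    apply hnorm
    refine ⟨fun n hn g => ?_⟩
    rw [hcomm g n, mul_inv_cancel_right]
    exact hn
  have heven : Even (Nat.card (Subgroup.normalizer ((P : Subgroup G) : Set G))) := by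
    rw [hN]
    exact even_two_mul p
  have h3 : MulAction.IsMultiplyPretransitive G α 3 :=
    Cfsg.Agent.S0676.result hα G hnsolv P heven
  have hfix : ∀ g : G, 3 ≤ Nat.card (MulAction.fixedBy α g) → g = 1 := by
    intro g hg
    have h := fixed_le_two p hpp hp5 hα (P : Subgroup G) hPcard hfpf hcent hinv hconj h3 g hg
    apply Subtype.ext
    ext c
    have := h c
    rw [Subgroup.smul_def, Equiv.Perm.smul_def] at this
    simpa using this
  have hodd : Odd (Fintype.card α) := by
    rw [hα]
    exact hpp.odd_of_ne_two (by omega)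
  obtain ⟨a, -, hcard, F, fld, ft, hF, hiso⟩ :=
    Cfsg.Agent.S4702.result (by rw [hα]; omega) hodd G h3 hfix
  exact ⟨a, F, fld, ft, by rw [← hα]; exact hcard, hF, hiso⟩

end Cfsg.Agent.S4706
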