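import Cfsg.Statements.S4708
import Mathlib
import Cfsg.Agent.Lib.Helper6.BlkPrincipalCover
import Cfsg.Agent.Lib.Helper6.CliffordDeg
import Cfsg.Agent.Lib.Helper6.BlkSections

set_option autoImplicit false
open Cfsg

namespace Cfsg.Agent.S4708

open Cfsg.Agent.Lib.Helper6
open scoped ComplexConjugate

/-- Let p be a prime, M a maximal ideal of the algebraic integers containing p, G a finite group and H a normal subgroup. Write λ(X) for the sum of the squares of the degrees of the irreducible characters in the principal p-block of a group X. Then λ(H) ≤ λ(G) ≤ [G : H]·λ(H). -/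
theorem result {G : Type*} [Group G] [Finite G] (p : ℕ) [Fact p.Prime] (M : Ideal Cfsg.AlgInt) (hM : Cfsg.IsPModular p M) (H : Subgroup G) [H.Normal] : (∑ᶠ θ ∈ Cfsg.principalBlock M H, Cfsg.charDegree (θ : H → ℂ) ^ 2) ≤ (∑ᶠ χ ∈ Cfsg.principalBlock M G, Cfsg.charDegree (χ : G → ℂ) ^ 2) ∧ (∑ᶠ χ ∈ Cfsg.principalBlock M G, Cfsg.charDegree (χ : G → ℂ) ^ 2) ≤ H.index * ∑ᶠ θ ∈ Cfsg.principalBlock M H, Cfsg.charDegree (θ : H → ℂ) ^ 2 := by
  classical
  have : Fintype G := Fintype.ofFinite G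
  have : Fintype H := Fintype.ofFinite H
  have : Fintype (Cfsg.IrrCharacter G) := Fintype.ofFinite _
  have : Fintype (Cfsg.IrrCharacter H) := Fintype.ofFinite _
  have hHn : H.Normal := inferInstance
  have hm : ∀ (χ : Cfsg.IrrCharacter G) (θ : Cfsg.IrrCharacter H), ∃ m : ℕ,
      Cfsg.classInner (fun h : H => (χ : G → ℂ) h) (θ : H → ℂ) = m := fun χ θ =>
    IsCharacter.classInner_irr_nat (IsCharacter.restrict H (IsIrrCharacter.isCharacter χ.2)) θ.2
  choose m hm using hm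
  obtain ⟨dG, hdG⟩ : ∃ dG : Cfsg.IrrCharacter G → ℕ, dG = fun χ : Cfsg.IrrCharacter G => Cfsg.charDegree (χ : G → ℂ) :=
    ⟨_, rfl⟩
  obtain ⟨dH, hdH⟩ : ∃ dH : Cfsg.IrrCharacter H → ℕ, dH = fun θ : Cfsg.IrrCharacter H => Cfsg.charDegree (θ : H → ℂ) :=
    ⟨_, rfl⟩
  have hG1 : ∀ χ : Cfsg.IrrCharacter G, (χ : G → ℂ) 1 = (dG χ : ℂ) := fun χ => by
    rw [hdG]; exact IsCharacter.apply_one_eq_charDegree (IsIrrCharacter.isCharacter χ.2)
  have hH1 : ∀ θ : Cfsg.IrrCharacter H, (θ : H → ℂ) 1 = (dH θ : ℂ) := fun θ => by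
    rw [hdH]; exact IsCharacter.apply_one_eq_charDegree (IsIrrCharacter.isCharacter θ.2)
  have hdegG : ∀ χ : Cfsg.IrrCharacter G, dG χ = ∑ θ : Cfsg.IrrCharacter H, dH θ * m χ θ := by
    intro χ
    have h1 := restrict_apply_one_eq_sum H (IsIrrCharacter.isCharacter χ.2)
    rw [hG1 χ] at h1
    have h2 : (dG χ : ℂ) = ((∑ θ : Cfsg.IrrCharacter H, dH θ * m χ θ : ℕ) : ℂ) := by
      rw [h1]
      push_cast
      apply Finset.sum_congr rfl
      intro θ _
      rw [hH1 θ, hm χ θ]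
    exact_mod_cast h2
  have hdegH : ∀ θ : Cfsg.IrrCharacter H, H.index * dH θ = ∑ χ : Cfsg.IrrCharacter G, dG χ * m χ θ := by
    intro θ
    have h1 := indFun_one_eq_sum H θ
    rw [hH1 θ] at h1
    have h2 : ((H.index * dH θ : ℕ) : ℂ) = ((∑ χ : Cfsg.IrrCharacter G, dG χ * m χ θ : ℕ) : ℂ) := by
      push_cast
      rw [h1]
      apply Finset.sum_congr rfl
      intro χ _
      rw [hG1 χ, hm χ θ]
    exact_mod_cast h2
  have hup : ∀ θ : Cfsg.IrrCharacter H, θ ∈ Cfsg.principalBlock M H →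
      ∃ χ : Cfsg.IrrCharacter G, χ ∈ Cfsg.principalBlock M G ∧ 1 ≤ m χ θ := by
    intro θ hθ
    obtain ⟨χ, hχ, h1⟩ := exists_mem_principalBlock_over hM H θ hθ
    refine ⟨χ, hχ, ?_⟩
    rw [hm χ θ] at h1
    have : m χ θ ≠ 0 := fun h => h1 (by rw [h]; simp)
    omega
  have hdown : ∀ χ : Cfsg.IrrCharacter G, χ ∈ Cfsg.principalBlock M G →
      ∀ θ : Cfsg.IrrCharacter H, m χ θ ≠ 0 → θ ∈ Cfsg.principalBlock M H := by
    intro χ hχ θ hθ
    apply mem_principalBlock_of_constituent H hHn hM χ hχ θ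
    rw [hm χ θ]
    exact_mod_cast hθ
  have e1 : ∑ᶠ θ ∈ Cfsg.principalBlock M H, Cfsg.charDegree (θ : H → ℂ) ^ 2
      = ∑ θ ∈ Finset.univ.filter (· ∈ Cfsg.principalBlock M H), dH θ ^ 2 := by
    rw [finsum_mem_eq_sum_filter_lib, hdH]
  have e2 : ∑ᶠ χ ∈ Cfsg.principalBlock M G, Cfsg.charDegree (χ : G → ℂ) ^ 2
      = ∑ χ ∈ Finset.univ.filter (· ∈ Cfsg.principalBlock M G), dG χ ^ 2 := by
    rw [finsum_mem_eq_sum_filter_lib, hdG]
  rw [e1, e2]
  obtain ⟨SG, hSG⟩ : ∃ SG : Finset (Cfsg.IrrCharacter G),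
      SG = Finset.univ.filter (· ∈ Cfsg.principalBlock M G) := ⟨_, rfl⟩
  obtain ⟨SH, hSH⟩ : ∃ SH : Finset (Cfsg.IrrCharacter H),
      SH = Finset.univ.filter (· ∈ Cfsg.principalBlock M H) := ⟨_, rfl⟩
  rw [← hSG, ← hSH]
  have hmemG : ∀ χ, χ ∈ SG ↔ χ ∈ Cfsg.principalBlock M G := fun χ => by
    rw [hSG]; simp
  have hmemH : ∀ θ, θ ∈ SH ↔ θ ∈ Cfsg.principalBlock M H := fun θ => by
    rw [hSH]; simp
  have hsq : ∀ (s : Finset (Cfsg.IrrCharacter H)) (a : Cfsg.IrrCharacter H → ℕ),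
      ∑ θ ∈ s, a θ ^ 2 ≤ (∑ θ ∈ s, a θ) ^ 2 := by
    intro s a
    calc ∑ θ ∈ s, a θ ^ 2 ≤ ∑ θ ∈ s, a θ * (∑ θ' ∈ s, a θ') := by
          apply Finset.sum_le_sum
          intro θ hθ
          rw [sq]
          exact Nat.mul_le_mul_left _ (Finset.single_le_sum (f := a) (fun _ _ => Nat.zero_le _) hθ)
      _ = (∑ θ ∈ s, a θ) ^ 2 := by rw [← Finset.sum_mul, sq]
  constructor
  · calc ∑ θ ∈ SH, dH θ ^ 2 ≤ ∑ θ ∈ SH, ∑ χ ∈ SG, m χ θ * dH θ ^ 2 := by
          apply Finset.sum_le_sum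
          intro θ hθ
          obtain ⟨χ, hχ, h1⟩ := hup θ ((hmemH θ).mp hθ)
          calc dH θ ^ 2 ≤ m χ θ * dH θ ^ 2 := Nat.le_mul_of_pos_left _ h1
            _ ≤ ∑ χ ∈ SG, m χ θ * dH θ ^ 2 :=
              Finset.single_le_sum (f := fun χ => m χ θ * dH θ ^ 2) (fun _ _ => Nat.zero_le _)
                ((hmemG χ).mpr hχ)
      _ = ∑ χ ∈ SG, ∑ θ ∈ SH, m χ θ * dH θ ^ 2 := Finset.sum_comm
      _ ≤ ∑ χ ∈ SG, dG χ ^ 2 := by
          apply Finset.sum_le_sum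
          intro χ _
          rw [hdegG χ]
          calc ∑ θ ∈ SH, m χ θ * dH θ ^ 2 ≤ ∑ θ ∈ SH, (dH θ * m χ θ) ^ 2 := by
                apply Finset.sum_le_sum
                intro θ _
                calc m χ θ * dH θ ^ 2 ≤ (m χ θ * m χ θ) * dH θ ^ 2 :=
                      Nat.mul_le_mul_right _ (Nat.le_mul_self _)
                  _ = (dH θ * m χ θ) ^ 2 := by ring
            _ ≤ ∑ θ, (dH θ * m χ θ) ^ 2 :=
                Finset.sum_le_sum_of_subset (Finset.subset_univ _)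
            _ ≤ (∑ θ, dH θ * m χ θ) ^ 2 := hsq _ _
  · calc ∑ χ ∈ SG, dG χ ^ 2 = ∑ χ ∈ SG, ∑ θ ∈ SH, dG χ * (dH θ * m χ θ) := by
          apply Finset.sum_congr rfl
          intro χ hχ
          rw [sq]
          have h0 : dG χ * dG χ = dG χ * ∑ θ : Cfsg.IrrCharacter H, dH θ * m χ θ := by
            rw [← hdegG χ]
          rw [h0, Finset.mul_sum]
          symm
          apply Finset.sum_subset (Finset.subset_univ _)
          intro θ _ hθ
          have : m χ θ = 0 := by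
            by_contra h
            exact hθ ((hmemH θ).mpr (hdown χ ((hmemG χ).mp hχ) θ h))
          rw [this, mul_zero, mul_zero]
      _ = ∑ θ ∈ SH, ∑ χ ∈ SG, dG χ * (dH θ * m χ θ) := Finset.sum_comm
      _ ≤ ∑ θ ∈ SH, dH θ * (H.index * dH θ) := by
          apply Finset.sum_le_sum
          intro θ _
          rw [hdegH θ, Finset.mul_sum]
          calc ∑ χ ∈ SG, dG χ * (dH θ * m χ θ) ≤ ∑ χ, dG χ * (dH θ * m χ θ) :=
                Finset.sum_le_sum_of_subset (Finset.subset_univ _)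
            _ = ∑ χ, dH θ * (dG χ * m χ θ) := by
                apply Finset.sum_congr rfl
                intro χ _
                ring
      _ = H.index * ∑ θ ∈ SH, dH θ ^ 2 := by
          rw [Finset.mul_sum]
          apply Finset.sum_congr rfl
          intro θ _
          ring

end Cfsg.Agent.S4708
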