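import Cfsg.Statements.S4709
import Mathlib
import Cfsg.Agent.Lib.Helper6.BLData3

set_option autoImplicit false
open Cfsg

namespace Cfsg.Agent.S4709

open Cfsg.Agent.Lib.Helper6


/-- Let p be a prime, M a maximal ideal of the algebraic integers containing p, and G a finite group with a nontrivial abelian Sylow p-subgroup P; put N = N_G(P), C = C_G(P). Suppose N/C is cyclic of order m with 1 < m < #P − 1 (C has index m in N and N is generated by C and one element), and C_G(y) ∩ N = C for every non-identity y ∈ P. Put r = (#P − 1)/m. Then there is s ≤ m such that the principal p-block is the disjoint union of a set X of s characters containing the principal character and a set Y of r characters, with integers a_χ ≠ 0 (χ ∈ X), d and a sign δ = ±1, such that: every χ ∈ X takes the value a_χ at every element whose p-part is a non-identity element of P; there is a map ζ from the non-principal linear characters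 ψ of P onto Y, constant on N-conjugacy classes, with ζ_ψ(z) = d + δ·Σ ψ'(y) for every z whose p-part y is a non-identity element of P, the sum running over the N-conjugates ψ' of ψ; (d − δ)^2 + (r − 1) d^2 + Σ_{χ ∈ X} a_χ^2 = m + 1; all members of Y agree on p-regular elements; and (r d − δ) η(g) + Σ_{χ ∈ X} a_χ χ(g) = 0 for every η ∈ Y and every p-regular g. -/
theorem result {G : Type*} [Group G] [Finite G] (p : ℕ) [Fact p.Prime] (M : Ideal Cfsg.AlgInt) (hM : Cfsg.IsPModular p M) (P : Sylow p G) (hab : IsMulCommutative P) (hP1 : Nat.card P ≠ 1) (m : ℕ) (hm1 : 1 < m) (hm2 : m + 1 < Nat.card P) (hCN : (Subgroup.centralizer ((P : Subgroup G) : Set G)).relIndex (Subgroup.normalizer ((P : Subgroup G) : Set G)) = m) (hcyc : ∃ g : G, g ∈ Subgroup.normalizer ((P : Subgroup G) : Set G) ∧ Subgroup.centralizer ((P : Subgroup G) : Set G) ⊔ Subgroup.zpowers g = Subgroup.normalizer ((P : Subgroup G) : Set G)) (hfrob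 : ∀ y : G, y ∈ (P : Subgroup G) → y ≠ 1 → Subgroup.centralizer ({y} : Set G) ⊓ Subgroup.normalizer ((P : Subgroup G) : Set G) = Subgroup.centralizer ((P : Subgroup G) : Set G)) : ∃ (s : ℕ) (X Y : Set (Cfsg.IrrCharacter G)), s ≤ m ∧ Cfsg.principalBlock M G = X ∪ Y ∧ Disjoint X Y ∧ Nat.card X = s ∧ Nat.card Y = (Nat.card P - 1) / m ∧ (∃ χ₁ ∈ X, (χ₁ : G → ℂ) = fun _ => 1) ∧ ∃ (a : Cfsg.IrrCharacter G → ℤ) (d δ : ℤ) (ζ : (↥(P : Subgroup G) →* ℂˣ) → Cfsg.IrrCharacter G), (δ = 1 ∨ δ = -1) ∧ (∀ χ ∈ X, a χ ≠ 0 ∧ ∀ z y : G, Cfsg.IsPPart p z y → y ∈ (P : Subgroup G) → y ≠ 1 → (χ : G → ℂ) z = (a χ : ℂ)) ∧ (∀ ψ : ↥(P : Subgroup G) →* ℂˣ, ψ ≠ 1 → ζ ψ ∈ Y) ∧ (∀ η ∈ Y, ∃ ψ : ↥(P : Subgroup G) →* ℂˣ, ψ ≠ 1 ∧ ζ ψ = η) ∧ (∀ ψ ψ' : ↥(P : Subgroup G) →* ℂˣ, ψ ≠ 1 → (∃ n : G, n ∈ Subgroup.normalizer ((P : Subgroup G) : Set G) ∧ ∀ w w' : ↥(P : Subgroup G), (w' : G) = n * w * n⁻¹ → ψ' w' = ψ w) → ζ ψ' = ζ ψ) ∧ (∀ ψ : ↥(P : Subgroup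 G) →* ℂˣ, ψ ≠ 1 → ∀ (z : G) (y : ↥(P : Subgroup G)), Cfsg.IsPPart p z (y : G) → (y : G) ≠ 1 → (ζ ψ : G → ℂ) z = (d : ℂ) + (δ : ℂ) * ∑ᶠ ψ' ∈ {ψ' : ↥(P : Subgroup G) →* ℂˣ | ∃ n : G, n ∈ Subgroup.normalizer ((P : Subgroup G) : Set G) ∧ ∀ w w' : ↥(P : Subgroup G), (w' : G) = n * w * n⁻¹ → ψ' w' = ψ w}, ((ψ' y : ℂˣ) : ℂ)) ∧ ((d - δ) ^ 2 + ((Nat.card P - 1) / m - 1 : ℤ) * d ^ 2 + ∑ᶠ χ ∈ X, a χ ^ 2 = (m : ℤ) + 1) ∧ (∀ η ∈ Y, ∀ η' ∈ Y, ∀ g : G, ¬ p ∣ orderOf g → (η : G → ℂ) g = (η' : G → ℂ) g) ∧ (∀ η ∈ Y, ∀ g : G, ¬ p ∣ orderOf g → ((((Nat.card P - 1) / m : ℕ) : ℂ) * d - δ) * (η : G → ℂ) g + ∑ᶠ χ ∈ X, (a χ : ℂ) * (χ : G → ℂ) g = 0) := by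

  classical
  haveI : Fintype G := Fintype.ofFinite G
  haveI : Fintype ↥(P : Subgroup G) := Fintype.ofFinite _
  haveI : Finite (↥(P : Subgroup G) →* ℂˣ) :=
    Nat.finite_of_card_ne_zero (by rw [card_homs_of_comm hab]; exact Nat.card_pos.ne')
  haveI : Fintype (↥(P : Subgroup G) →* ℂˣ) := Fintype.ofFinite _
  haveI : Fintype (Cfsg.IrrCharacter G) := Fintype.ofFinite _
  obtain ⟨D⟩ := exists_blData hM P hab hfrob m hm1 hm2 hCN
  have hcardY := D.card_Y hab hfrob hCN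
  have hr : (Nat.card P - 1) / m = D.Y.card := by
    rw [← hcardY]
    exact Nat.mul_div_cancel _ (by omega)
  have hnorm := D.norm_eq
  have hY1 := D.one_lt_card_Y
  have hXne : ∀ χ ∈ D.X, D.w χ ≠ 0 := by
    intro χ hχ
    obtain ⟨h1, h2⟩ := (D.mem_X χ).mp hχ
    exact D.w_ne_zero hM hab hfrob χ h1 h2
  refine ⟨D.X.card, ↑D.X, ↑D.Y, ?_, ?_, ?_, ?_, ?_, ?_, D.w, D.d, D.δ, D.Θ, D.hδ, ?_, ?_, ?_, ?_,
    ?_, ?_, ?_, ?_⟩
  · -- s ≤ m
    have h1 : (D.X.card : ℤ) ≤ ∑ χ ∈ D.X, D.w χ ^ 2 := by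
      have : ∀ χ ∈ D.X, (1 : ℤ) ≤ D.w χ ^ 2 := by
        intro χ hχ
        have := hXne χ hχ
        have h2 : 0 < D.w χ ^ 2 := by positivity
        omega
      calc (D.X.card : ℤ) = ∑ χ ∈ D.X, (1 : ℤ) := by simp
        _ ≤ _ := Finset.sum_le_sum this
    have h2 : (1 : ℤ) ≤ (D.d - D.δ) ^ 2 + ((D.Y.card : ℤ) - 1) * D.d ^ 2 := by
      by_cases hd : D.d = 0
      · rw [hd]
        have := D.δ_mul_δ
        nlinarith
      · have h3 : 0 < D.d ^ 2 := by positivity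
        have h4 : (1 : ℤ) ≤ (D.Y.card : ℤ) - 1 := by
          have : (2 : ℤ) ≤ D.Y.card := by exact_mod_cast hY1
          omega
        nlinarith [sq_nonneg (D.d - D.δ)]
    have h3 : (D.X.card : ℤ) ≤ m := by linarith
    exact_mod_cast h3
  · -- the principal block is the union
    ext χ
    simp only [Set.mem_union, Finset.mem_coe]
    rw [D.mem_X, D.mem_Y]
    constructor
    · intro h
      by_cases h2 : ∃ ψ, ψ ≠ 1 ∧ D.Θ ψ = χ
      · exact Or.inr h2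
      · left
        refine ⟨h, ?_⟩
        intro ψ hψ hΘ
        exact h2 ⟨ψ, hψ, hΘ⟩
    · rintro (h | ⟨ψ, hψ, rfl⟩)
      · exact h.1
      · exact D.hΘmem ψ hψ
  · -- disjoint
    rw [Finset.disjoint_coe]
    unfold BLData.X
    exact Finset.sdiff_disjoint
  · rw [Nat.card_coe_set_eq, Set.ncard_coe_finset]
  · rw [Nat.card_coe_set_eq, Set.ncard_coe_finset, hr]
  · refine ⟨oneIrr G, ?_, rfl⟩
    rw [Finset.mem_coe, D.mem_X]
    exact ⟨oneIrr_mem_principalBlock hM, (D.one hM).2⟩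
  · -- values of nonexceptional characters
    intro χ hχ
    rw [Finset.mem_coe] at hχ
    refine ⟨hXne χ hχ, ?_⟩
    intro z y hzy hy hy1
    obtain ⟨h1, h2⟩ := (D.mem_X χ).mp hχ
    rw [principal_apply_of_isPPart hM P hab hfrob χ h1 z y hzy hy hy1]
    have h3 := D.val hab χ h1 ⟨y, hy⟩ (by
      intro h
      exact hy1 (congrArg Subtype.val h))
    simp only at h3
    rw [h3, Finset.sum_eq_zero]
    · simp
    · intro μ _
      rw [if_neg]
      rintro ⟨h6, h7⟩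
      exact h2 μ h6 h7
  · intro ψ hψ
    rw [Finset.mem_coe, D.mem_Y]
    exact ⟨ψ, hψ, rfl⟩
  · intro η hη
    rw [Finset.mem_coe, D.mem_Y] at hη
    exact hη
  · intro ψ ψ' hψ hrel
    have hrel' : blRel (P : Subgroup G) ψ ψ' := hrel
    have hψ' := blRel_ne_one _ hrel' hψ
    exact ((D.hΘ ψ ψ' hψ hψ').mpr hrel').symm
  · -- values of exceptional characters
    intro ψ hψ z y hzy hy1
    have hmem := D.hΘmem ψ hψ
    rw [principal_apply_of_isPPart hM P hab hfrob _ hmem z (y : G) hzy y.2 hy1]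
    have h3 := D.val hab (D.Θ ψ) hmem y (by
      intro h
      apply hy1
      rw [h]; rfl)
    rw [h3, D.hwd ψ hψ, orbSum_eq_finsum]
    unfold orbSum
    congr 2
    apply Finset.sum_congr rfl
    intro μ _
    apply if_congr _ rfl rfl
    constructor
    · rintro ⟨h4, h5⟩
      exact (D.hΘ ψ μ hψ h4).mp h5.symm
    · intro h4
      have h5 := blRel_ne_one _ h4 hψ
      exact ⟨h5, ((D.hΘ ψ μ hψ h5).mpr h4).symm⟩
  · -- the norm equation
    rw [finsum_mem_coe_finset]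
    have h1 : ((Nat.card P : ℤ) - 1) / (m : ℤ) = (D.Y.card : ℤ) := by
      have h2 : ((Nat.card P : ℤ) - 1) = ((D.Y.card * m : ℕ) : ℤ) := by
        rw [hcardY]
        have : 1 ≤ Nat.card P := Nat.card_pos
        push_cast [Nat.cast_sub this]
        ring
      rw [h2]
      push_cast
      exact Int.mul_ediv_cancel _ (by exact_mod_cast (by omega : m ≠ 0))
    rw [h1]
    exact hnorm
  · intro η hη η' hη' g hg
    exact D.pRegular_eq η η' hη hη' g hg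
  · intro η hη g hg
    rw [finsum_mem_coe_finset, hr]
    exact D.pRegular_rel η hη g hg


end Cfsg.Agent.S4709
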