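import Cfsg.Statements.S4717
import Mathlib
import Cfsg.Agent.Lib.Helper6.BlkMajor
import Cfsg.Agent.S0936

set_option autoImplicit false
open Cfsg

namespace Cfsg.Agent.S4717

open Cfsg.Agent.Lib.Helper6

/-- Let p be a prime, M a maximal ideal of the algebraic integers containing p, and r a natural number; say that a finite group X has deficiency class r when X has no non-principal p-block of defect ≥ r. If G has deficiency class r then so does the centralizer of every p-element of G; conversely, if r > 0 and the centralizer of every element of order p has deficiency class r, then G has deficiency class r. -/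
theorem result {G : Type*} [Group G] [Finite G] (p : ℕ) [Fact p.Prime] (M : Ideal Cfsg.AlgInt) (hM : Cfsg.IsPModular p M) (r : ℕ) : ((∀ B' : Set (Cfsg.IrrCharacter G), Cfsg.IsPBlock M B' → B' ≠ Cfsg.principalBlock M G → Cfsg.blockDefect p B' < r) → ∀ y : G, (∃ k : ℕ, orderOf y = p ^ k) → (∀ B' : Set (Cfsg.IrrCharacter ↥(Subgroup.centralizer ({y} : Set G))), Cfsg.IsPBlock M B' → B' ≠ Cfsg.principalBlock M ↥(Subgroup.centralizer ({y} : Set G)) → Cfsg.blockDefect p B' < r)) ∧ (0 < r → (∀ y : G, orderOf y = p → (∀ B' : Set (Cfsg.IrrCharacter ↥(Subgroup.centralizer ({y} : Set G))), Cfsg.IsPBlock M B' → B' ≠ Cfsg.principalBlock M ↥(Subgroup.centralizer ({y} : Set G)) → Cfsg.blockDefect p B' < r)) → (∀ B' : Set (Cfsg.IrrCharacter G), Cfsg.IsPBlock M B' → B' ≠ Cfsg.principalBlock M G → Cfsg.blockDefect p B' < r)) := by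
  classical
  have : Fintype G := Fintype.ofFinite G
  have hp : p.Prime := hM.1
  constructor
  · intro hG y hy b hb hbne
    obtain ⟨k, hk⟩ := hy
    have hP₀ : IsPGroup p (Subgroup.zpowers y) := by
      apply IsPGroup.of_card (n := k)
      rw [Nat.card_zpowers, hk]
    have hyK : y ∈ Subgroup.centralizer ({y} : Set G) := by
      rw [Subgroup.mem_centralizer_singleton_iff]
    have hdef := Cfsg.Agent.S0919.result p M hM (Subgroup.zpowers y)
      (Subgroup.centralizer ({y} : Set G)) hP₀ (by rw [Subgroup.zpowers_le]; exact hyK)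
      (by
        apply Subgroup.centralizer_le
        intro w hw
        rw [Set.mem_singleton_iff] at hw
        rw [hw]
        exact Subgroup.mem_zpowers y)
      (by
        refine le_trans ?_ (Subgroup.centralizer_le_normalizer _)
        intro g hg
        rw [Subgroup.mem_centralizer_singleton_iff] at hg
        rw [Subgroup.mem_centralizer_iff]
        intro z hz
        obtain ⟨n, rfl⟩ := Subgroup.mem_zpowers_iff.mp hz
        have hc : Commute g y := hg
        exact ((hc.zpow_right n).eq).symm) b hb
    obtain ⟨B, hind⟩ := hdef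
    have hBne : B ≠ Cfsg.principalBlock M G := by
      intro hBp
      apply hbne
      rw [hBp] at hind
      exact (Cfsg.Agent.S0936.result p M hM _ b ⟨_, hind⟩).mp hind
    have h1 := hG B hind.2.1 hBne
    have : Fintype ↥(Subgroup.centralizer ({y} : Set G)) := Fintype.ofFinite _
    have h2 := IsInducedBlock.blockDefect_le hM _ hind
    omega
  · intro hr hC B hB hBne
    by_contra hcon
    rw [not_lt] at hcon
    obtain ⟨D, hD⟩ := exists_isDefectGroup hM B hB
    have hDcard := Cfsg.Agent.S0908.result p M hM B hB D hD
    have hDp : IsPGroup p D := IsDefectGroup.isPGroup' hD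
    have hd1 : 1 ≤ Cfsg.blockDefect p B := by omega
    have hDnt : Nontrivial D := by
      rw [← Finite.one_lt_card_iff_nontrivial, hDcard]
      exact Nat.one_lt_pow (by omega) hp.one_lt
    have hZnt : Nontrivial (Subgroup.center D) := hDp.center_nontrivial
    have hZp : IsPGroup p (Subgroup.center D) := hDp.to_subgroup _
    obtain ⟨n, hn⟩ := IsPGroup.iff_card.mp hZp
    have hn0 : n ≠ 0 := by
      rintro rfl
      rw [pow_zero] at hn
      have := Finite.one_lt_card_iff_nontrivial.mpr hZnt
      omega
    have hdvd : p ∣ Nat.card (Subgroup.center D) := by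
      rw [hn]
      exact dvd_pow_self p hn0
    obtain ⟨z, hz⟩ := exists_prime_orderOf_dvd_card' p hdvd
    obtain ⟨y, hy⟩ : ∃ y : G, y = ((z : D) : G) := ⟨_, rfl⟩
    have hyord : orderOf y = p := by
      rw [hy, Subgroup.orderOf_coe, Subgroup.orderOf_coe, hz]
    have hyD : y ∈ D := by
      rw [hy]
      exact (z : D).2
    have hyZ : ∀ w ∈ D, w * y = y * w := by
      intro w hw
      have h1 := Subgroup.mem_center_iff.mp z.2 ⟨w, hw⟩
      have h2 := congrArg (fun t : D => (t : G)) h1
      rw [hy]
      exact h2
    obtain ⟨β, hβ, hle⟩ := exists_induced_block_centralizer_of_center hM B hB D hD y hyD hyZ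
    have hβne : β ≠ Cfsg.principalBlock M ↥(Subgroup.centralizer ({y} : Set G)) := by
      intro hβp
      apply hBne
      have : Fintype ↥(Subgroup.centralizer ({y} : Set G)) := Fintype.ofFinite _
      have h1 := (Cfsg.Agent.S0936.result p M hM _ β ⟨_, hβ⟩).mpr hβp
      exact IsInducedBlock.unique _ hM hβ h1
    have h3 := hC y hyord β hβ.1 hβne
    omega

end Cfsg.Agent.S4717
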