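import Cfsg.Statements.S4720
import Mathlib
import Cfsg.Agent.Lib.Helper6.BlkColumn

set_option autoImplicit false
open Cfsg

namespace Cfsg.Agent.S4720

open Cfsg.Agent.Lib.Helper6

open scoped ComplexConjugate

theorem card_conjugators {G : Type*} [Group G] [Finite G] (N : Subgroup G) (y y' n₀ : G)
    (hn₀ : n₀ ∈ N) (h : n₀ * y * n₀⁻¹ = y') :
    Nat.card {x : ↥N // (x : G) * y * (x : G)⁻¹ = y'}
      = Nat.card ↥(N ⊓ Subgroup.centralizer ({y} : Set G)) := by
  apply Nat.card_congr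
  refine ⟨fun x => ⟨n₀⁻¹ * (x.1 : G), ?_⟩, fun k => ⟨⟨n₀ * (k : G), ?_⟩, ?_⟩, ?_, ?_⟩
  · refine Subgroup.mem_inf.mpr ⟨N.mul_mem (N.inv_mem hn₀) x.1.2, ?_⟩
    rw [mem_centralizer_singleton_iff]
    have hx := x.2
    have e : y = n₀⁻¹ * y' * n₀ := by rw [← h]; group
    have e2 : (x.1 : G) * y = y' * (x.1 : G) := eq_mul_of_mul_inv_eq hx
    calc y * (n₀⁻¹ * (x.1 : G)) = n₀⁻¹ * (n₀ * y * n₀⁻¹) * (x.1 : G) := by group
      _ = n₀⁻¹ * y' * (x.1 : G) := by rw [h]
      _ = n₀⁻¹ * ((x.1 : G) * y) := by rw [e2]; group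
      _ = n₀⁻¹ * (x.1 : G) * y := by group
  · exact N.mul_mem hn₀ (Subgroup.mem_inf.mp k.2).1
  · have hk := (Subgroup.mem_inf.mp k.2).2
    rw [mem_centralizer_singleton_iff] at hk
    show n₀ * (k : G) * y * (n₀ * (k : G))⁻¹ = y'
    calc n₀ * (k : G) * y * (n₀ * (k : G))⁻¹ = n₀ * ((k : G) * y) * (k : G)⁻¹ * n₀⁻¹ := by group
      _ = n₀ * (y * (k : G)) * (k : G)⁻¹ * n₀⁻¹ := by rw [hk]
      _ = n₀ * y * n₀⁻¹ := by group
      _ = y' := h
  · intro x
    apply Subtype.ext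
    apply Subtype.ext
    show n₀ * (n₀⁻¹ * (x.1 : G)) = (x.1 : G)
    group
  · intro k
    apply Subtype.ext
    show n₀⁻¹ * (n₀ * (k : G)) = (k : G)
    group

/-- Let p be a prime, M a maximal ideal of the algebraic integers containing p, P a p-subgroup of the finite group G, N a subgroup with P ≤ N ≤ N_G(P), and U a nonempty subset of P normalized by N such that an element of U and an element of P that are conjugate in G are already conjugate in N, and such that λ(C_G(y)) = w·#C_N(y) for every y ∈ U with one rational number w, where λ(X) denotes the sum of the squares of the degrees of the irreducible characters in the principal p-block of X. For a complex function θ on P and χ in the principal block of G put a_χ(θ) = #P⁻¹ Σ_{y ∈ P} χ(y) θ(y⁻¹). Then for generalized characters θ, η of P with θ vanishing outside U, Σ_χ a_χ(θ)·conj(a_χ(η)) = (w/#P²)·Σ_{y ∈ P} θ(y)·conj(Σ_{x ∈ N} η(x y x⁻¹)) (η extended by zero off P; the conjugates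 lie in P), the first sum over the principal p-block of G. -/
theorem result {G : Type*} [Group G] [Finite G] (p : ℕ) [Fact p.Prime] (M : Ideal Cfsg.AlgInt) (hM : Cfsg.IsPModular p M) (P : Subgroup G) (hP : IsPGroup p P) (N : Subgroup G) (hPN : P ≤ N) (hNN : N ≤ Subgroup.normalizer (P : Set G)) (U : Set G) (hUne : U.Nonempty) (hUP : U ⊆ (P : Set G)) (hUN : ∀ n ∈ N, ∀ u ∈ U, n * u * n⁻¹ ∈ U) (hfus : ∀ u ∈ U, ∀ g : G, g * u * g⁻¹ ∈ (P : Set G) → ∃ n ∈ N, n * u * n⁻¹ = g * u * g⁻¹) (w : ℚ) (hw : ∀ y ∈ U, ((∑ᶠ ψ ∈ Cfsg.principalBlock M ↥(Subgroup.centralizer ({y} : Set G)), Cfsg.charDegree (ψ : ↥(Subgroup.centralizer ({y} : Set G)) → ℂ) ^ 2) : ℚ) = w * Nat.card ↥(N ⊓ Subgroup.centralizer ({y} : Set G))) (θ η : ↥P → ℂ) (hθ : Cfsg.IsGeneralizedCharacter ↥P θ) (hη : Cfsg.IsGeneralizedCharacter ↥P η) (hθU : ∀ y : ↥P, (y : G) ∉ U → θ y = 0) : ∑ᶠ χ ∈ Cfsg.principalBlock M G, ((Nat.card ↥P : ℂ)⁻¹ * ∑ᶠ y : ↥P, (χ : G → ℂ) (y : G) * θ y⁻¹) * (starRingEnd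 ℂ) ((Nat.card ↥P : ℂ)⁻¹ * ∑ᶠ y : ↥P, (χ : G → ℂ) (y : G) * η y⁻¹) = ((w : ℂ) / ((Nat.card ↥P : ℂ) ^ 2)) * ∑ᶠ y : ↥P, θ y * (starRingEnd ℂ) (∑ᶠ x : ↥N, Cfsg.extendByZero P η ((x : G) * (y : G) * (x : G)⁻¹)) := by
  classical
  have : Fintype G := Fintype.ofFinite G
  have : Fintype ↥P := Fintype.ofFinite _
  have : Fintype ↥N := Fintype.ofFinite _
  have : Fintype (Cfsg.IrrCharacter G) := Fintype.ofFinite _
  have hp : p.Prime := hM.1
  have hcP : (Nat.card ↥P : ℂ) ≠ 0 := by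
    have : 0 < Nat.card ↥P := Nat.card_pos
    exact_mod_cast this.ne'
  -- elements of `P` are `p`-elements
  have hpel : ∀ y : ↥P, ∃ k : ℕ, orderOf (y : G) = p ^ k := by
    intro y
    obtain ⟨k, hk⟩ := (IsPGroup.iff_orderOf.mp hP) y
    exact ⟨k, by rw [Subgroup.orderOf_coe, hk]⟩
  -- the column sums
  obtain ⟨T, hT⟩ : ∃ T : ↥P → ↥P → ℂ, ∀ y y', T y y'
      = ∑ ζ ∈ Finset.univ.filter (· ∈ Cfsg.principalBlock M G),
        (ζ : G → ℂ) (y : G) * conj ((ζ : G → ℂ) (y' : G)) := ⟨_, fun _ _ => rfl⟩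
  -- rewrite the coefficients
  have ha : ∀ (χ : Cfsg.IrrCharacter G) (f : ↥P → ℂ),
      ∑ᶠ y : ↥P, (χ : G → ℂ) (y : G) * f y⁻¹ = ∑ y : ↥P, conj ((χ : G → ℂ) (y : G)) * f y := by
    intro χ f
    rw [finsum_eq_sum_of_fintype]
    rw [← Equiv.sum_comp (Equiv.inv ↥P)]
    apply Finset.sum_congr rfl
    intro y _
    simp only [Equiv.inv_apply, inv_inv, Subgroup.coe_inv]
    rw [IsCharacter.apply_inv (IsIrrCharacter.isCharacter χ.2)]
  have hL : ∑ᶠ χ ∈ Cfsg.principalBlock M G,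
      ((Nat.card ↥P : ℂ)⁻¹ * ∑ᶠ y : ↥P, (χ : G → ℂ) (y : G) * θ y⁻¹) *
        (starRingEnd ℂ) ((Nat.card ↥P : ℂ)⁻¹ * ∑ᶠ y : ↥P, (χ : G → ℂ) (y : G) * η y⁻¹)
      = ((Nat.card ↥P : ℂ)⁻¹ * (Nat.card ↥P : ℂ)⁻¹) * ∑ y : ↥P, θ y *
          conj (∑ y' : ↥P, η y' * T y y') := by
    rw [finsum_mem_eq_sum_filter_lib]
    simp only [ha, map_mul, map_inv₀, Complex.conj_natCast, map_sum, Complex.conj_conj, hT]
    simp_rw [Finset.mul_sum, Finset.sum_mul]
    refine (Finset.sum_congr rfl (fun χ _ => Finset.sum_comm)).trans ?_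
    rw [Finset.sum_comm]
    apply Finset.sum_congr rfl
    intro y _
    rw [Finset.sum_comm]
    apply Finset.sum_congr rfl
    intro y' _
    apply Finset.sum_congr rfl
    intro χ _
    ring
  rw [hL]
  -- evaluate the inner sum for `y ∈ U`
  have hkey : ∀ y : ↥P, (y : G) ∈ U → ∑ y' : ↥P, η y' * T y y'
      = (w : ℂ) * ∑ᶠ x : ↥N, Cfsg.extendByZero P η ((x : G) * (y : G) * (x : G)⁻¹) := by
    intro y hyU
    -- the value of lambda
    have hlam : (∑ᶠ ψ ∈ Cfsg.principalBlock M (Subgroup.centralizer ({(y : G)} : Set G)),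
            ((Cfsg.charDegree (ψ : Subgroup.centralizer ({(y : G)} : Set G) → ℂ) : ℕ) : ℂ) ^ 2)
        = (w : ℂ) * (Nat.card ↥(N ⊓ Subgroup.centralizer ({(y : G)} : Set G)) : ℂ) := by
      have h1 := hw (y : G) hyU
      have : Fintype (Cfsg.IrrCharacter (Subgroup.centralizer ({(y : G)} : Set G))) :=
        Fintype.ofFinite _
      rw [finsum_mem_eq_sum_filter_lib] at h1 ⊢
      have h2 := congrArg (fun q : ℚ => (q : ℂ)) h1
      push_cast at h2
      exact h2
    have hTval : ∀ y' : ↥P, T y y' = if IsConj (y : G) (y' : G) then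
        (w : ℂ) * (Nat.card ↥(N ⊓ Subgroup.centralizer ({(y : G)} : Set G)) : ℂ) else 0 := by
      intro y'
      rw [hT, ← finsum_mem_eq_sum_filter_lib]
      split_ifs with hc
      · rw [principal_column_conj p M hM _ _ (hpel y) hc, hlam]
      · exact principal_column_not_conj p M hM _ _ (hpel y) (hpel y') hc
    -- the right side
    have hnorm : ∀ x : ↥N, (x : G) * (y : G) * (x : G)⁻¹ ∈ P := by
      intro x
      have := hNN x.2
      rw [Subgroup.mem_normalizer_iff] at this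
      exact (this (y : G)).mp y.2
    have hR : ∑ᶠ x : ↥N, Cfsg.extendByZero P η ((x : G) * (y : G) * (x : G)⁻¹)
        = ∑ y' : ↥P, η y' * ((Finset.univ.filter
            (fun x : ↥N => (x : G) * (y : G) * (x : G)⁻¹ = (y' : G))).card : ℂ) := by
      rw [finsum_eq_sum_of_fintype]
      have e1 : ∀ x : ↥N, Cfsg.extendByZero P η ((x : G) * (y : G) * (x : G)⁻¹)
          = ∑ y' : ↥P, if (x : G) * (y : G) * (x : G)⁻¹ = (y' : G) then η y' else 0 := by
        intro x
        have e2 : Cfsg.extendByZero P η ((x : G) * (y : G) * (x : G)⁻¹)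
            = η ⟨(x : G) * (y : G) * (x : G)⁻¹, hnorm x⟩ := by
          unfold Cfsg.extendByZero
          exact Function.Injective.extend_apply Subtype.val_injective η 0
            ⟨(x : G) * (y : G) * (x : G)⁻¹, hnorm x⟩
        rw [e2]
        rw [Finset.sum_eq_single_of_mem (⟨(x : G) * (y : G) * (x : G)⁻¹, hnorm x⟩ : ↥P)
          (Finset.mem_univ _)]
        · rw [if_pos rfl]
        · intro b _ hb
          rw [if_neg]
          intro h
          apply hb
          apply Subtype.ext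
          exact h.symm
      simp_rw [e1]
      rw [Finset.sum_comm]
      apply Finset.sum_congr rfl
      intro y' _
      rw [← Finset.sum_filter, Finset.sum_const, nsmul_eq_mul, mul_comm]
    rw [hR, Finset.mul_sum]
    apply Finset.sum_congr rfl
    intro y' _
    rw [hTval y']
    split_ifs with hc
    · obtain ⟨c, hc⟩ := isConj_iff.mp hc
      obtain ⟨n₀, hn₀, hn₀e⟩ := hfus (y : G) hyU c (by rw [hc]; exact y'.2)
      have hcard := card_conjugators N (y : G) (y' : G) n₀ hn₀ (by rw [hn₀e, hc])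
      rw [Nat.card_eq_fintype_card, Fintype.card_subtype] at hcard
      rw [hcard]
      ring
    · have : Finset.univ.filter (fun x : ↥N => (x : G) * (y : G) * (x : G)⁻¹ = (y' : G)) = ∅ := by
        apply Finset.filter_eq_empty_iff.mpr
        intro x _ hx
        exact hc (isConj_iff.mpr ⟨(x : G), hx⟩)
      rw [this]
      simp
  have hcw : conj (w : ℂ) = (w : ℂ) := by
    rw [← Complex.ofReal_ratCast, Complex.conj_ofReal]
  rw [finsum_eq_sum_of_fintype, Finset.mul_sum, Finset.mul_sum]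
  apply Finset.sum_congr rfl
  intro y _
  by_cases hyU : (y : G) ∈ U
  · rw [hkey y hyU, map_mul, hcw]
    field_simp
  · rw [hθU y hyU]
    simp

end Cfsg.Agent.S4720
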