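import Cfsg.Statements.S4721
import Mathlib
import Cfsg.Agent.Lib.Helper6.BLSigns

set_option autoImplicit false
open Cfsg

namespace Cfsg.Agent.S4721

open Cfsg.Agent.Lib.Helper6


/-- Let p be a prime, M a maximal ideal of the algebraic integers containing p, and G a finite group with a nontrivial abelian Sylow p-subgroup P, N = N_G(P), C = C_G(P), such that N/C is cyclic of order 3, #P > 4, and C_G(y) ∩ N = C for every non-identity y ∈ P. Then the principal p-block is the disjoint union of a set X of exactly 3 characters containing the principal character and a set Y of (#P − 1)/3 characters, with signs a_χ = ±1 (χ ∈ X, a = 1 at the principal character) and δ = ±1 such that every χ ∈ X takes the value a_χ at every element whose p-part is a non-identity element of P, and there is a map ζ from the non-principal linear characters of P onto Y, constant on N-conjugacy classes, with ζ_ψ(z) = δ·Σ ψ'(y) over the N-orbit of ψ, for z with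 p-part y ≠ 1 in P. If moreover G has an involution lying in no proper normal subgroup of G, then exactly two of the three numbers −δ and a_χ (χ ∈ X non-principal) equal −1, and the product of the degrees of the two non-principal members of X and of any member of Y is a perfect square. -/
theorem result {G : Type*} [Group G] [Finite G] (p : ℕ) [Fact p.Prime] (M : Ideal Cfsg.AlgInt) (hM : Cfsg.IsPModular p M) (P : Sylow p G) (hab : IsMulCommutative P) (hP1 : Nat.card P ≠ 1) (hCN : (Subgroup.centralizer ((P : Subgroup G) : Set G)).relIndex (Subgroup.normalizer ((P : Subgroup G) : Set G)) = 3) (hcyc : ∃ g : G, g ∈ Subgroup.normalizer ((P : Subgroup G) : Set G) ∧ Subgroup.centralizer ((P : Subgroup G) : Set G) ⊔ Subgroup.zpowers g = Subgroup.normalizer ((P : Subgroup G) : Set G)) (hm2 : 3 + 1 < Nat.card P) (hfrob : ∀ y : G, y ∈ (P : Subgroup G) → y ≠ 1 → Subgroup.centralizer ({y} : Set G) ⊓ Subgroup.normalizer ((P : Subgroup G) : Set G)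 = Subgroup.centralizer ((P : Subgroup G) : Set G)) : ∃ (X Y : Set (Cfsg.IrrCharacter G)), Cfsg.principalBlock M G = X ∪ Y ∧ Disjoint X Y ∧ Nat.card X = 3 ∧ Nat.card Y = (Nat.card P - 1) / 3 ∧ (∃ χ₁ ∈ X, (χ₁ : G → ℂ) = fun _ => 1) ∧ ∃ (a : Cfsg.IrrCharacter G → ℤ) (δ : ℤ) (ζ : (↥(P : Subgroup G) →* ℂˣ) → Cfsg.IrrCharacter G), (δ = 1 ∨ δ = -1) ∧ (∀ χ ∈ X, (a χ = 1 ∨ a χ = -1) ∧ ∀ z y : G, Cfsg.IsPPart p z y → y ∈ (P : Subgroup G) → y ≠ 1 → (χ : G → ℂ) z = (a χ : ℂ)) ∧ (∀ ψ : ↥(P : Subgroup G) →* ℂˣ, ψ ≠ 1 → ζ ψ ∈ Y) ∧ (∀ η ∈ Y, ∃ ψ : ↥(P : Subgroup G) →* ℂˣ, ψ ≠ 1 ∧ ζ ψ = η) ∧ (∀ ψ ψ' : ↥(P : Subgroup G) →* ℂˣ, ψ ≠ 1 → (∃ n : G, n ∈ Subgroup.normalizer ((P : Subgroup G) : Set G) ∧ ∀ w w' : ↥(P : Subgroup G), (w' : G) = n * w * n⁻¹ → ψ' w' = ψ w) → ζ ψ' = ζ ψ) ∧ (∀ ψ : ↥(P : Subgroup G) →* ℂˣ, ψ ≠ 1 → ∀ (z : G) (y : ↥(P : Subgroup G)), Cfsg.IsPPart p z (y : G) → (y : G) ≠ 1 → (ζ ψ : G → ℂ) z = (δ : ℂ) * ∑ᶠ ψ' ∈ {ψ' : ↥(P : Subgroup G)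 →* ℂˣ | ∃ n : G, n ∈ Subgroup.normalizer ((P : Subgroup G) : Set G) ∧ ∀ w w' : ↥(P : Subgroup G), (w' : G) = n * w * n⁻¹ → ψ' w' = ψ w}, ((ψ' y : ℂˣ) : ℂ)) ∧ ((∃ t : G, orderOf t = 2 ∧ ∀ K : Subgroup G, K.Normal → t ∈ K → K = ⊤) → Nat.card {χ : Cfsg.IrrCharacter G // χ ∈ X ∧ (χ : G → ℂ) ≠ (fun _ => 1) ∧ a χ = -1} + (if δ = 1 then 1 else 0) = 2 ∧ ∀ η ∈ Y, IsSquare (Cfsg.charDegree (η : G → ℂ) * ∏ᶠ χ ∈ {χ : Cfsg.IrrCharacter G | χ ∈ X ∧ (χ : G → ℂ) ≠ fun _ => 1}, Cfsg.charDegree (χ : G → ℂ))) := by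

  classical
  haveI : Fintype G := Fintype.ofFinite G
  haveI : Fintype ↥(P : Subgroup G) := Fintype.ofFinite _
  haveI : Finite (↥(P : Subgroup G) →* ℂˣ) :=
    Nat.finite_of_card_ne_zero (by rw [card_homs_of_comm hab]; exact Nat.card_pos.ne')
  haveI : Fintype (↥(P : Subgroup G) →* ℂˣ) := Fintype.ofFinite _
  haveI : Fintype (Cfsg.IrrCharacter G) := Fintype.ofFinite _
  obtain ⟨D, hd⟩ := exists_blData_three (M := M) hM hab hfrob hm2 hCN
  have hcardY := D.card_Y hab hfrob hCN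
  have hr : (Nat.card P - 1) / 3 = D.Y.card := by
    rw [← hcardY]
    exact Nat.mul_div_cancel _ (by norm_num)
  obtain ⟨hX3, hXsign⟩ := D.three_X hd hM hab hfrob
  refine ⟨↑D.X, ↑D.Y, ?_, ?_, ?_, ?_, ?_, D.w, D.δ, D.Θ, D.hδ, ?_, ?_, ?_, ?_, ?_, ?_⟩
  · -- the principal block is the union
    ext χ
    simp only [Set.mem_union, Finset.mem_coe]
    rw [D.mem_X, D.mem_Y]
    constructor
    · intro h
      by_cases h2 : ∃ ψ, ψ ≠ 1 ∧ D.Θ ψ = χ
      · exact Or.inr h2
      · left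
        refine ⟨h, ?_⟩
        intro ψ hψ hΘ
        exact h2 ⟨ψ, hψ, hΘ⟩
    · rintro (h | ⟨ψ, hψ, rfl⟩)
      · exact h.1
      · exact D.hΘmem ψ hψ
  · -- disjoint
    rw [Finset.disjoint_coe]
    unfold BLData.X
    exact Finset.sdiff_disjoint
  · rw [Nat.card_coe_set_eq, Set.ncard_coe_finset, hX3]
  · rw [Nat.card_coe_set_eq, Set.ncard_coe_finset, hr]
  · refine ⟨oneIrr G, ?_, rfl⟩
    rw [Finset.mem_coe]
    exact D.one_mem_X hM
  · -- values of nonexceptional characters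
    intro χ hχ
    rw [Finset.mem_coe] at hχ
    refine ⟨hXsign χ hχ, ?_⟩
    intro z y hzy hy hy1
    obtain ⟨h1, h2⟩ := (D.mem_X χ).mp hχ
    rw [principal_apply_of_isPPart hM P hab hfrob χ h1 z y hzy hy hy1]
    exact D.val_X hab χ hχ ⟨y, hy⟩ (by
      intro h
      exact hy1 (congrArg Subtype.val h))
  · intro ψ hψ
    rw [Finset.mem_coe, D.mem_Y]
    exact ⟨ψ, hψ, rfl⟩
  · intro η hη
    rw [Finset.mem_coe, D.mem_Y] at hη
    exact hη
  · intro ψ ψ' hψ hrel
    have hrel' : blRel (P : Subgroup G) ψ ψ' := hrel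
    have hψ' := blRel_ne_one _ hrel' hψ
    exact ((D.hΘ ψ ψ' hψ hψ').mpr hrel').symm
  · -- values of exceptional characters
    intro ψ hψ z y hzy hy1
    have hmem := D.hΘmem ψ hψ
    rw [principal_apply_of_isPPart hM P hab hfrob _ hmem z (y : G) hzy y.2 hy1]
    rw [D.val_Y hab ψ hψ y (by
      intro h
      apply hy1
      rw [h]; rfl), hd, Int.cast_zero, zero_add, orbSum_eq_finsum]
  · -- the involution
    rintro ⟨t, ht, htn⟩
    by_cases hp2 : p = 2
    · exact (D.involution_two hd hM hab hfrob hCN hm2 hp2 t ht htn).elim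
    obtain ⟨χ₂, χ₃, hne, hX', hprod, hsq⟩ :=
      D.involution_odd hd hM hab hfrob hCN hP1 hp2 t ht htn
    have hnotall := D.not_all_plus hd hM χ₂ χ₃ hne hX'
    have hone_iff : ∀ χ : Cfsg.IrrCharacter G,
        (χ : G → ℂ) ≠ (fun _ => 1) ↔ χ ≠ oneIrr G := by
      intro χ
      constructor
      · intro h h'
        apply h
        rw [h']
        rfl
      · intro h h'
        apply h
        exact Subtype.ext h'
    have hχ₂X' : χ₂ ∈ D.X.erase (oneIrr G) := by rw [hX']; simp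
    have hχ₃X' : χ₃ ∈ D.X.erase (oneIrr G) := by rw [hX']; simp
    have hχ₂X := Finset.mem_of_mem_erase hχ₂X'
    have hχ₃X := Finset.mem_of_mem_erase hχ₃X'
    constructor
    · have hcount : Nat.card {χ : Cfsg.IrrCharacter G // χ ∈ (↑D.X : Set (Cfsg.IrrCharacter G))
          ∧ (χ : G → ℂ) ≠ (fun _ => 1) ∧ D.w χ = -1}
          = (({χ₂, χ₃} : Finset (Cfsg.IrrCharacter G)).filter (fun χ => D.w χ = -1)).card := by
        rw [Nat.card_eq_fintype_card, Fintype.card_subtype]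
        congr 1
        ext χ
        simp only [Finset.mem_filter, Finset.mem_univ, true_and]
        rw [← hX', Finset.mem_erase]
        constructor
        · rintro ⟨h1, h2, h3⟩
          exact ⟨⟨(hone_iff χ).mp h2, Finset.mem_coe.mp h1⟩, h3⟩
        · rintro ⟨⟨h2, h1⟩, h3⟩
          exact ⟨Finset.mem_coe.mpr h1, (hone_iff χ).mpr h2, h3⟩
      rw [hcount, Finset.filter_insert, Finset.filter_singleton]
      rcases hXsign χ₂ hχ₂X with h2 | h2 <;> rcases hXsign χ₃ hχ₃X with h3 | h3 <;>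
        rcases D.hδ with h4 | h4
      · rw [h2, h3, h4] at hprod; norm_num at hprod
      · exact absurd ⟨h2, h3, h4⟩ hnotall
      · rw [h2, h3, h4]; simp
      · rw [h2, h3, h4] at hprod; norm_num at hprod
      · rw [h2, h3, h4]; simp
      · rw [h2, h3, h4] at hprod; norm_num at hprod
      · rw [h2, h3, h4] at hprod; norm_num at hprod
      · rw [h2, h3, h4]; simp [hne]
    · intro η hη
      have hset : {χ : Cfsg.IrrCharacter G | χ ∈ (↑D.X : Set (Cfsg.IrrCharacter G))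
          ∧ (χ : G → ℂ) ≠ fun _ => 1} = ↑({χ₂, χ₃} : Finset (Cfsg.IrrCharacter G)) := by
        ext χ
        rw [← hX']
        constructor
        · rintro ⟨h1, h2⟩
          exact Finset.mem_coe.mpr (Finset.mem_erase.mpr ⟨(hone_iff χ).mp h2, Finset.mem_coe.mp h1⟩)
        · intro h
          have := Finset.mem_erase.mp (Finset.mem_coe.mp h)
          exact ⟨Finset.mem_coe.mpr this.2, (hone_iff χ).mpr this.1⟩
      rw [hset, finprod_mem_coe_finset, Finset.prod_pair hne]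
      exact hsq η (Finset.mem_coe.mp hη)


end Cfsg.Agent.S4721
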