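import Cfsg.Statements.S4722
import Mathlib
import Cfsg.Agent.Lib.Helper6.BlkColumn
import Cfsg.Agent.Lib.Helper6.BlkClassMult
import Cfsg.Agent.Lib.Helper6.BlkPrincipalKer
import Cfsg.Agent.Lib.Helper6.BlkKer

set_option autoImplicit false
open Cfsg

namespace Cfsg.Agent.S4722

open Cfsg.Agent.Lib.Helper6

open scoped ComplexConjugate

theorem exists_of_at_most_one_pos {ι : Type*} (S : Finset ι) (r d s : ι → ℝ)
    (hd : ∀ i ∈ S, 0 < d i)
    (h1 : ∑ i ∈ S, r i * s i ^ 2 / d i = 0) (h2 : ∑ i ∈ S, r i * d i = 0)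
    (h3 : ∑ i ∈ S, r i * s i = 0) (i₀ : ι) (hi₀ : i₀ ∈ S) (hr₀ : r i₀ ≠ 0) (hs₀ : s i₀ = d i₀)
    (hpos : ∀ i ∈ S, ∀ j ∈ S, 0 < r i → 0 < r j → i = j) :
    ∃ i ∈ S, i ≠ i₀ ∧ s i = d i := by
  classical
  -- a positive coefficient exists
  have hex : ∃ i₁ ∈ S, 0 < r i₁ := by
    by_contra hcon
    push Not at hcon
    have hle : ∀ i ∈ S, r i * d i ≤ 0 := fun i hi =>
      mul_nonpos_of_nonpos_of_nonneg (hcon i hi) (hd i hi).le
    have := (Finset.sum_eq_zero_iff_of_nonpos hle).mp h2 i₀ hi₀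
    rcases mul_eq_zero.mp this with h | h
    · exact hr₀ h
    · exact (hd i₀ hi₀).ne' h
  obtain ⟨i₁, hi₁, hr₁⟩ := hex
  obtain ⟨lam, hlam⟩ : ∃ lam : ℝ, lam = (d i₁ - s i₁) / d i₁ := ⟨_, rfl⟩
  have hQ : ∑ i ∈ S, r i * d i * ((d i - s i) / d i - lam) ^ 2 = 0 := by
    have e : ∀ i ∈ S, r i * d i * ((d i - s i) / d i - lam) ^ 2
        = (r i * d i - 2 * (r i * s i) + r i * s i ^ 2 / d i)
          - 2 * lam * (r i * d i - r i * s i) + lam ^ 2 * (r i * d i) := by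
      intro i hi
      have := (hd i hi).ne'
      field_simp
      ring
    rw [Finset.sum_congr rfl e]
    simp only [Finset.sum_add_distrib, Finset.sum_sub_distrib, ← Finset.mul_sum, h1, h2, h3]
    ring
  have hterm : ∀ i ∈ S, r i * d i * ((d i - s i) / d i - lam) ^ 2 ≤ 0 := by
    intro i hi
    by_cases hii : i = i₁
    · rw [hii, hlam]; simp
    · have hri : r i ≤ 0 := by
        by_contra hcon
        push Not at hcon
        exact hii (hpos i hi i₁ hi₁ hcon hr₁)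
      exact mul_nonpos_of_nonpos_of_nonneg
        (mul_nonpos_of_nonpos_of_nonneg hri (hd i hi).le) (sq_nonneg _)
  have hzero := (Finset.sum_eq_zero_iff_of_nonpos hterm).mp hQ
  by_cases h01 : i₀ = i₁
  · -- lam = 0
    have hlam0 : lam = 0 := by
      rw [hlam, ← h01, hs₀]; simp
    -- some negative coefficient
    have hex2 : ∃ i₂ ∈ S, r i₂ * d i₂ < 0 := by
      by_contra hcon
      push Not at hcon
      have := (Finset.sum_eq_zero_iff_of_nonneg hcon).mp h2 i₀ hi₀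
      rcases mul_eq_zero.mp this with h | h
      · exact hr₀ h
      · exact (hd i₀ hi₀).ne' h
    obtain ⟨i₂, hi₂, hneg⟩ := hex2
    have hr₂ : r i₂ < 0 := by
      by_contra hcon
      push Not at hcon
      exact absurd hneg (not_lt.mpr (mul_nonneg hcon (hd i₂ hi₂).le))
    refine ⟨i₂, hi₂, ?_, ?_⟩
    · intro h
      rw [h, h01] at hr₂
      exact lt_asymm hr₂ hr₁
    · have hz := hzero i₂ hi₂
      rw [hlam0, sub_zero] at hz
      rcases mul_eq_zero.mp hz with h | h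
      · exact absurd h hneg.ne
      · have h' := pow_eq_zero_iff (two_ne_zero) |>.mp h
        rw [div_eq_zero_iff] at h'
        rcases h' with h' | h'
        · linarith
        · exact absurd h' (hd i₂ hi₂).ne'
  · refine ⟨i₁, hi₁, fun h => h01 h.symm, ?_⟩
    have hz := hzero i₀ hi₀
    rw [hs₀, sub_self, zero_div, zero_sub] at hz
    rcases mul_eq_zero.mp hz with h | h
    · rcases mul_eq_zero.mp h with h | h
      · exact absurd h hr₀
      · exact absurd h (hd i₀ hi₀).ne'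
    · have h' := pow_eq_zero_iff (two_ne_zero) |>.mp h
      rw [neg_eq_zero, hlam, div_eq_zero_iff] at h'
      rcases h' with h' | h'
      · linarith
      · exact absurd h' (hd i₁ hi₁).ne'


theorem not_inverted_of_product {G : Type*} [Group G] [Finite G] (t : G) (ht : orderOf t = 2)
    (u c g h : G) (hc : Cfsg.IsPPart 2 c u) (hprod : g * t * g⁻¹ * (h * t * h⁻¹) = c) :
    (g * t * g⁻¹) * u * (g * t * g⁻¹)⁻¹ = u⁻¹ := by
  classical
  have : Fintype G := Fintype.ofFinite G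
  have ht2 : t * t = 1 := by rw [← pow_two, ← ht, pow_orderOf_eq_one]
  have h1 : (g * t * g⁻¹) * (g * t * g⁻¹) = 1 := by
    calc (g * t * g⁻¹) * (g * t * g⁻¹) = g * (t * t) * g⁻¹ := by group
      _ = 1 := by rw [ht2]; group
  have h2 : (h * t * h⁻¹) * (h * t * h⁻¹) = 1 := by
    calc (h * t * h⁻¹) * (h * t * h⁻¹) = h * (t * t) * h⁻¹ := by group
      _ = 1 := by rw [ht2]; group
  have hi1 : (g * t * g⁻¹)⁻¹ = g * t * g⁻¹ := inv_eq_of_mul_eq_one_left h1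
  have hi2 : (h * t * h⁻¹)⁻¹ = h * t * h⁻¹ := inv_eq_of_mul_eq_one_left h2
  have hcinv : (g * t * g⁻¹) * c * (g * t * g⁻¹)⁻¹ = c⁻¹ := by
    rw [← hprod]
    obtain ⟨A, hA⟩ : ∃ A : G, A = g * t * g⁻¹ := ⟨_, rfl⟩
    obtain ⟨B, hB⟩ : ∃ B : G, B = h * t * h⁻¹ := ⟨_, rfl⟩
    rw [← hA] at h1 hi1 ⊢
    rw [← hB] at h2 hi2 ⊢
    rw [mul_inv_rev, hi1, hi2]
    calc A * (A * B) * A = (A * A) * B * A := by group
      _ = B * A := by rw [h1, one_mul]
  have hp1 := IsPPart.conj hc (g * t * g⁻¹)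
  rw [hcinv] at hp1
  exact IsPPart.unique Nat.prime_two hp1 (IsPPart.inv' hc)

/-- Let M be a maximal ideal of the algebraic integers containing 2, P a 2-subgroup of the finite group G, U a subset of P, and t an involution of G such that no element of U is inverted by any conjugate of t. Let θ be a generalized character of P vanishing outside U, and for χ in the principal 2-block B₀ put a_χ = #P⁻¹ Σ_{y ∈ P} χ(y) θ(y⁻¹). Then Σ_{χ ∈ B₀} a_χ χ(t)^2/χ(1) = 0, Σ_{χ ∈ B₀} a_χ χ(1) = 0 and Σ_{χ ∈ B₀} a_χ χ(t) = 0. If moreover #P⁻¹ Σ_{y ∈ P} θ(y) ≠ 0, then either at least two of the a_χ have positive real part and at least two have negative real part, or G has a proper normal subgroup containing O_2'(G) and t. -/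
theorem result {G : Type*} [Group G] [Finite G] (M : Ideal Cfsg.AlgInt) (hM : Cfsg.IsPModular 2 M) (P : Subgroup G) (hP : IsPGroup 2 P) (U : Set G) (hUP : U ⊆ (P : Set G)) (t : G) (ht : orderOf t = 2) (hinv : ∀ u ∈ U, ∀ g : G, (g * t * g⁻¹) * u * (g * t * g⁻¹)⁻¹ ≠ u⁻¹) (θ : ↥P → ℂ) (hθ : Cfsg.IsGeneralizedCharacter ↥P θ) (hθU : ∀ y : ↥P, (y : G) ∉ U → θ y = 0) : (∑ᶠ χ ∈ Cfsg.principalBlock M G, ((Nat.card ↥P : ℂ)⁻¹ * ∑ᶠ y : ↥P, (χ : G → ℂ) (y : G) * θ y⁻¹) * (χ : G → ℂ) t ^ 2 / (χ : G → ℂ) 1 = 0) ∧ (∑ᶠ χ ∈ Cfsg.principalBlock M G, ((Nat.card ↥P : ℂ)⁻¹ * ∑ᶠ y : ↥P, (χ : G → ℂ) (y : G) * θ y⁻¹) * (χ : G → ℂ) 1 = 0) ∧ (∑ᶠ χ ∈ Cfsg.principalBlock M G, ((Nat.card ↥P : ℂ)⁻¹ * ∑ᶠ y : ↥P, (χ : G → ℂ) (y : G) * θ y⁻¹) * (χ : G → ℂ) t = 0) ∧ ((Nat.card ↥P : ℂ)⁻¹ * ∑ᶠ y : ↥P, θ y ≠ 0 → (2 ≤ Nat.card {χ : Cfsg.IrrCharacter G // χ ∈ Cfsg.principalBlock M G ∧ 0 < (((Nat.card ↥P : ℂ)⁻¹ * ∑ᶠ y : ↥P, (χ : G → ℂ) (y :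 G) * θ y⁻¹)).re} ∧ 2 ≤ Nat.card {χ : Cfsg.IrrCharacter G // χ ∈ Cfsg.principalBlock M G ∧ (((Nat.card ↥P : ℂ)⁻¹ * ∑ᶠ y : ↥P, (χ : G → ℂ) (y : G) * θ y⁻¹)).re < 0}) ∨ ∃ K : Subgroup G, K.Normal ∧ K ≠ ⊤ ∧ Cfsg.pPrimeCore 2 G ≤ K ∧ t ∈ K) := by
  classical
  have : Fintype G := Fintype.ofFinite G
  have : Fintype ↥P := Fintype.ofFinite _
  have : Fintype (Cfsg.IrrCharacter G) := Fintype.ofFinite _
  have : Fact (Nat.Prime 2) := ⟨Nat.prime_two⟩
  have hp : (2 : ℕ).Prime := Nat.prime_two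
  have hcP : (Nat.card ↥P : ℂ) ≠ 0 := by
    have : 0 < Nat.card ↥P := Nat.card_pos
    exact_mod_cast this.ne'
  have hpel : ∀ y : ↥P, ∃ k : ℕ, orderOf (y : G) = 2 ^ k := by
    intro y
    obtain ⟨k, hk⟩ := (IsPGroup.iff_orderOf.mp hP) y
    exact ⟨k, by rw [Subgroup.orderOf_coe, hk]⟩
  have ht2 : t * t = 1 := by rw [← pow_two, ← ht, pow_orderOf_eq_one]
  have htinv : t⁻¹ = t := inv_eq_of_mul_eq_one_left ht2
  have htel : ∃ k : ℕ, orderOf t = 2 ^ k := ⟨1, by rw [ht, pow_one]⟩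
  have h1el : ∃ k : ℕ, orderOf (1 : G) = 2 ^ k := ⟨0, by rw [orderOf_one, pow_zero]⟩
  have hppart : ∀ g : G, (∃ k : ℕ, orderOf g = 2 ^ k) → Cfsg.IsPPart 2 g g := by
    intro g hg
    refine ⟨1, by simp, Commute.one_right g, hg, ?_⟩
    rw [orderOf_one]
    norm_num
  obtain ⟨S, hS⟩ : ∃ S : Finset (Cfsg.IrrCharacter G), S
      = Finset.univ.filter (· ∈ Cfsg.principalBlock M G) := ⟨_, rfl⟩
  have hmemS : ∀ χ : Cfsg.IrrCharacter G, χ ∈ S ↔ χ ∈ Cfsg.principalBlock M G := by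
    intro χ; rw [hS]; simp
  -- rewrite the coefficients
  have ha : ∀ (χ : Cfsg.IrrCharacter G),
      ∑ᶠ y : ↥P, (χ : G → ℂ) (y : G) * θ y⁻¹ = ∑ y : ↥P, conj ((χ : G → ℂ) (y : G)) * θ y := by
    intro χ
    rw [finsum_eq_sum_of_fintype]
    rw [← Equiv.sum_comp (Equiv.inv ↥P)]
    apply Finset.sum_congr rfl
    intro y _
    simp only [Equiv.inv_apply, inv_inv, Subgroup.coe_inv]
    rw [IsCharacter.apply_inv (IsIrrCharacter.isCharacter χ.2)]
  obtain ⟨a, hadef⟩ : ∃ a : Cfsg.IrrCharacter G → ℂ, ∀ χ, a χ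
      = (Nat.card ↥P : ℂ)⁻¹ * ∑ᶠ y : ↥P, (χ : G → ℂ) (y : G) * θ y⁻¹ := ⟨_, fun _ => rfl⟩
  -- the reduction
  have hred : ∀ f : Cfsg.IrrCharacter G → ℂ,
      (∀ u : ↥P, (u : G) ∈ U → ∑ χ ∈ S, f χ * conj ((χ : G → ℂ) (u : G)) = 0) →
      ∑ χ ∈ S, a χ * f χ = 0 := by
    intro f hf
    simp_rw [hadef, ha, Finset.mul_sum, Finset.sum_mul]
    rw [Finset.sum_comm]
    apply Finset.sum_eq_zero
    intro y _
    by_cases hyU : (y : G) ∈ U
    · have := hf y hyU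
      have e : ∀ χ ∈ S, (Nat.card ↥P : ℂ)⁻¹ * (conj ((χ : G → ℂ) (y : G)) * θ y) * f χ
          = ((Nat.card ↥P : ℂ)⁻¹ * θ y) * (f χ * conj ((χ : G → ℂ) (y : G))) := by
        intro χ _; ring
      rw [Finset.sum_congr rfl e, ← Finset.mul_sum, this, mul_zero]
    · apply Finset.sum_eq_zero
      intro χ _
      rw [hθU y hyU]
      ring
  -- (2)
  have hU1 : ∀ u ∈ U, u ≠ 1 := by
    intro u hu h1
    apply hinv u hu 1
    rw [h1]; simp
  have hUt : ∀ u ∈ U, ¬ IsConj t u := by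
    intro u hu hc
    obtain ⟨c, hc⟩ := isConj_iff.mp hc
    apply hinv u hu c
    rw [hc]
    have : u * u = 1 := by
      rw [← hc]
      calc c * t * c⁻¹ * (c * t * c⁻¹) = c * (t * t) * c⁻¹ := by group
        _ = 1 := by rw [ht2]; group
    rw [mul_inv_cancel_right]
    exact (inv_eq_of_mul_eq_one_left this).symm
  have h2c : ∑ χ ∈ S, a χ * (χ : G → ℂ) 1 = 0 := by
    apply hred
    intro u hu
    rw [hS, ← finsum_mem_eq_sum_filter_lib]
    apply principal_column_not_conj 2 M hM 1 (u : G) h1el (hpel u)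
    rw [isConj_one_right]
    exact hU1 _ hu
  have h3c : ∑ χ ∈ S, a χ * (χ : G → ℂ) t = 0 := by
    apply hred
    intro u hu
    rw [hS, ← finsum_mem_eq_sum_filter_lib]
    exact principal_column_not_conj 2 M hM t (u : G) htel (hpel u) (hUt _ hu)
  have h1c : ∑ χ ∈ S, a χ * ((χ : G → ℂ) t * (χ : G → ℂ) t / (χ : G → ℂ) 1) = 0 := by
    apply hred
    intro u hu
    rw [hS]
    have := block_sum_classMult_eq_zero hM t t (u : G) (hppart _ (hpel u)) ?_ (oneIrr G)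
    · exact this
    · intro c hc g h hprod
      exact hinv (u : G) hu g (not_inverted_of_product t ht (u : G) c g h hc hprod)
  have e1 : ∑ᶠ χ ∈ Cfsg.principalBlock M G, ((Nat.card ↥P : ℂ)⁻¹ *
      ∑ᶠ y : ↥P, (χ : G → ℂ) (y : G) * θ y⁻¹) * (χ : G → ℂ) t ^ 2 / (χ : G → ℂ) 1 = 0 := by
    rw [finsum_mem_eq_sum_filter_lib, ← hS, ← h1c]
    apply Finset.sum_congr rfl
    intro χ _
    rw [hadef]
    ring
  have e2 : ∑ᶠ χ ∈ Cfsg.principalBlock M G, ((Nat.card ↥P : ℂ)⁻¹ *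
      ∑ᶠ y : ↥P, (χ : G → ℂ) (y : G) * θ y⁻¹) * (χ : G → ℂ) 1 = 0 := by
    rw [finsum_mem_eq_sum_filter_lib, ← hS, ← h2c]
    apply Finset.sum_congr rfl
    intro χ _
    rw [hadef]
  have e3 : ∑ᶠ χ ∈ Cfsg.principalBlock M G, ((Nat.card ↥P : ℂ)⁻¹ *
      ∑ᶠ y : ↥P, (χ : G → ℂ) (y : G) * θ y⁻¹) * (χ : G → ℂ) t = 0 := by
    rw [finsum_mem_eq_sum_filter_lib, ← hS, ← h3c]
    apply Finset.sum_congr rfl
    intro χ _
    rw [hadef]
  refine ⟨e1, e2, e3, ?_⟩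
  intro hA
  simp_rw [← hadef]
  by_cases hK : ∃ K : Subgroup G, K.Normal ∧ K ≠ ⊤ ∧ Cfsg.pPrimeCore 2 G ≤ K ∧ t ∈ K
  · right; exact hK
  left
  -- reality
  have hθinv : ∀ y : ↥P, conj (θ y⁻¹) = θ y := by
    intro y
    obtain ⟨χ₁, χ₂, h1, h2, rfl⟩ := hθ
    simp only [Pi.sub_apply, map_sub]
    rw [IsCharacter.apply_inv h1, IsCharacter.apply_inv h2, Complex.conj_conj, Complex.conj_conj]
  have hareal : ∀ χ, conj (a χ) = a χ := by
    intro χ
    rw [hadef, map_mul, map_inv₀, Complex.conj_natCast]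
    congr 1
    conv_rhs => rw [ha χ]
    rw [finsum_eq_sum_of_fintype, map_sum]
    apply Finset.sum_congr rfl
    intro y _
    rw [map_mul, hθinv]
  obtain ⟨r, hr⟩ : ∃ r : Cfsg.IrrCharacter G → ℝ, ∀ χ, r χ = (a χ).re := ⟨_, fun _ => rfl⟩
  obtain ⟨d, hd⟩ : ∃ d : Cfsg.IrrCharacter G → ℝ, ∀ χ, d χ
      = (Cfsg.charDegree (χ : G → ℂ) : ℝ) := ⟨_, fun _ => rfl⟩
  obtain ⟨s, hs⟩ : ∃ s : Cfsg.IrrCharacter G → ℝ, ∀ χ, s χ = ((χ : G → ℂ) t).re :=
    ⟨_, fun _ => rfl⟩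
  have hrc : ∀ χ, ((r χ : ℝ) : ℂ) = a χ := by
    intro χ
    rw [hr]
    exact Complex.conj_eq_iff_re.mp (hareal χ)
  have hdc : ∀ χ : Cfsg.IrrCharacter G, ((d χ : ℝ) : ℂ) = (χ : G → ℂ) 1 := by
    intro χ
    rw [hd, IsCharacter.apply_one_eq_charDegree (IsIrrCharacter.isCharacter χ.2)]
    simp
  have hsc : ∀ χ : Cfsg.IrrCharacter G, ((s χ : ℝ) : ℂ) = (χ : G → ℂ) t := by
    intro χ
    rw [hs]
    apply Complex.conj_eq_iff_re.mp
    rw [← IsCharacter.apply_inv (IsIrrCharacter.isCharacter χ.2), htinv]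
  have hdpos : ∀ χ ∈ S, 0 < d χ := by
    intro χ _
    rw [hd]
    exact_mod_cast IsIrrCharacter.charDegree_pos χ.2
  have h1r : ∑ χ ∈ S, r χ * s χ ^ 2 / d χ = 0 := by
    apply Complex.ofReal_injective
    push_cast
    rw [← h1c]
    apply Finset.sum_congr rfl
    intro χ _
    rw [hrc, hdc, hsc]
    ring
  have h2r : ∑ χ ∈ S, r χ * d χ = 0 := by
    apply Complex.ofReal_injective
    push_cast
    rw [← h2c]
    apply Finset.sum_congr rfl
    intro χ _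
    rw [hrc, hdc]
  have h3r : ∑ χ ∈ S, r χ * s χ = 0 := by
    apply Complex.ofReal_injective
    push_cast
    rw [← h3c]
    apply Finset.sum_congr rfl
    intro χ _
    rw [hrc, hsc]
  -- the trivial character
  have hone_mem : oneIrr G ∈ S := by
    rw [hmemS, principalBlock_eq]
    exact sameBlock_refl hM _
  have ha_one : a (oneIrr G) = (Nat.card ↥P : ℂ)⁻¹ * ∑ᶠ y : ↥P, θ y := by
    rw [hadef]
    congr 1
    rw [ha, finsum_eq_sum_of_fintype]
    apply Finset.sum_congr rfl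
    intro y _
    show conj (1 : ℂ) * θ y = θ y
    rw [map_one, one_mul]
  have hr_one : r (oneIrr G) ≠ 0 := by
    intro h0
    apply hA
    rw [← ha_one, ← hrc, h0]
    simp
  have hs_one : s (oneIrr G) = d (oneIrr G) := by
    apply Complex.ofReal_injective
    rw [hsc, hdc]
    rfl
  have hkill : ∀ χ₁ ∈ S, χ₁ ≠ oneIrr G → s χ₁ = d χ₁ → False := by
    intro χ₁ hχ₁ hne hsd
    apply hK
    refine ⟨charKer (IsIrrCharacter.isCharacter χ₁.2), charKer_normal _, ?_, ?_, ?_⟩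
    · intro htop
      have hconst : ∀ g : G, (χ₁ : G → ℂ) g = (χ₁ : G → ℂ) 1 := by
        intro g
        have : g ∈ charKer (IsIrrCharacter.isCharacter χ₁.2) := by rw [htop]; exact Subgroup.mem_top g
        exact (mem_charKer _ g).mp this
      have h1 := classInner_irrCharacter χ₁ (oneIrr G)
      rw [if_neg hne] at h1
      unfold Cfsg.classInner at h1
      have h2 : ∀ g : G, (χ₁ : G → ℂ) g * conj (((oneIrr G : Cfsg.IrrCharacter G) : G → ℂ) g)
          = (χ₁ : G → ℂ) 1 := by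
        intro g
        rw [hconst g]
        show (χ₁ : G → ℂ) 1 * conj (1 : ℂ) = _
        rw [map_one, mul_one]
      simp_rw [h2] at h1
      rw [Finset.sum_const, Finset.card_univ, nsmul_eq_mul, ← Nat.card_eq_fintype_card,
        ← mul_assoc, inv_mul_cancel₀ (card_ne_zero_complex G), one_mul] at h1
      exact IsIrrCharacter.apply_one_ne_zero χ₁.2 h1
    · intro n hn
      exact (mem_charKer _ n).mpr
        (apply_eq_apply_one_of_mem_principalBlock hM χ₁ ((hmemS χ₁).mp hχ₁) n hn)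
    · apply (mem_charKer _ t).mpr
      rw [← hsc, ← hdc, hsd]
  constructor
  · by_contra hlt
    push Not at hlt
    have hsub : Subsingleton {χ : Cfsg.IrrCharacter G // χ ∈ Cfsg.principalBlock M G
        ∧ 0 < (a χ).re} := Finite.card_le_one_iff_subsingleton.mp (by omega)
    obtain ⟨χ₁, hχ₁, hne, hsd⟩ := exists_of_at_most_one_pos S r d s hdpos h1r h2r h3r (oneIrr G)
      hone_mem hr_one hs_one (by
        intro i hi j hj hri hrj
        rw [hr] at hri hrj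
        have := hsub.elim ⟨i, (hmemS i).mp hi, hri⟩ ⟨j, (hmemS j).mp hj, hrj⟩
        exact congrArg Subtype.val this)
    exact hkill χ₁ hχ₁ hne hsd
  · by_contra hlt
    push Not at hlt
    have hsub : Subsingleton {χ : Cfsg.IrrCharacter G // χ ∈ Cfsg.principalBlock M G
        ∧ (a χ).re < 0} := Finite.card_le_one_iff_subsingleton.mp (by omega)
    obtain ⟨χ₁, hχ₁, hne, hsd⟩ := exists_of_at_most_one_pos S (fun χ => - r χ) d s hdpos
      (by simp only [neg_mul, neg_div, Finset.sum_neg_distrib, h1r, neg_zero])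
      (by simp only [neg_mul, Finset.sum_neg_distrib, h2r, neg_zero])
      (by simp only [neg_mul, Finset.sum_neg_distrib, h3r, neg_zero])
      (oneIrr G) hone_mem (by simpa using hr_one) hs_one (by
        intro i hi j hj hri hrj
        simp only [Left.neg_pos_iff] at hri hrj
        rw [hr] at hri hrj
        have := hsub.elim ⟨i, (hmemS i).mp hi, hri⟩ ⟨j, (hmemS j).mp hj, hrj⟩
        exact congrArg Subtype.val this)
    exact hkill χ₁ hχ₁ hne hsd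

end Cfsg.Agent.S4722
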