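import Cfsg.Statements.S4723
import Mathlib
import Cfsg.Agent.Lib.Helper6.BlkStabHeight

set_option autoImplicit false
open Cfsg

namespace Cfsg.Agent.S4723

open Cfsg.Agent.Lib.Helper6

/-- Let p be a prime, M a maximal ideal of the algebraic integers containing p, H a normal subgroup of the finite group G and b a p-block of H. Let T be the stabilizer of b in G. Then b contains a character θ of height zero whose own stabilizer in G (the elements g with θ(g h g⁻¹) = θ(h) for all h ∈ H) has index prime to p in T, i.e. contains a Sylow p-subgroup of T. -/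
theorem result {G : Type*} [Group G] [Finite G] (p : ℕ) [Fact p.Prime] (M : Ideal Cfsg.AlgInt) (hM : Cfsg.IsPModular p M) (H : Subgroup G) [H.Normal] (b : Set (Cfsg.IrrCharacter ↥H)) (hb : Cfsg.IsPBlock M b) (T : Subgroup G) (hT : (∀ g : G, g ∈ T ↔ ∀ θ ∈ b, ∀ θ' : Cfsg.IrrCharacter ↥H, (∀ h h' : ↥H, (h' : G) = g * h * g⁻¹ → (θ' : ↥H → ℂ) h' = (θ : ↥H → ℂ) h) → θ' ∈ b)) : ∃ θ ∈ b, Cfsg.blockHeight p b (θ : ↥H → ℂ) = 0 ∧ ∃ S : Subgroup G, S ≤ T ∧ (∀ g : G, g ∈ S ↔ (g ∈ T ∧ ∀ h h' : ↥H, (h' : G) = g * h * g⁻¹ → (θ : ↥H → ℂ) h' = (θ : ↥H → ℂ) h)) ∧ ¬ p ∣ S.relIndex T := by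

  classical
  haveI : Fintype G := Fintype.ofFinite G
  haveI : Fintype H := Fintype.ofFinite H
  haveI : Fintype T := Fintype.ofFinite T
  have hHn : H.Normal := inferInstance
  have hT' : ∀ g : G, g ∈ T ↔ ∀ θ ∈ b, irrConj H hHn g θ ∈ b := by
    intro g
    rw [← T.inv_mem_iff, hT]
    constructor
    · intro h θ hθ
      apply h θ hθ (irrConj H hHn g θ)
      intro x x' hx
      rw [irrConj_coe, conjFun_apply]
      apply congrArg
      apply Subtype.ext
      simp [hx, mul_assoc]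
    · intro h θ hθ θ' hθ'
      have : θ' = irrConj H hHn g θ := by
        apply Subtype.ext
        funext x'
        rw [irrConj_coe, conjFun_apply]
        exact hθ' ⟨g * x' * g⁻¹, hHn.conj_mem x' x'.2 g⟩ x' (by simp [mul_assoc])
      rw [this]
      exact h θ hθ
  have hHT : H ≤ T := by
    intro g hg
    rw [hT']
    intro θ hθ
    rw [irrConj_of_mem H hHn hg]
    exact hθ
  obtain ⟨θ, hθb, hθh, hθS⟩ := exists_height_zero_stab H hHn T hHT b hT' hM hb
  refine ⟨θ, hθb, hθh, T ⊓ inertia H hHn (θ : H → ℂ), inf_le_left, ?_, hθS⟩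
  intro g
  rw [Subgroup.mem_inf, mem_inertia]
  constructor
  · rintro ⟨h1, h2⟩
    refine ⟨h1, ?_⟩
    intro x x' hx
    have h3 := congrFun h2 x
    rw [conjFun_apply] at h3
    rw [← h3]
    apply congrArg
    apply Subtype.ext
    exact hx
  · rintro ⟨h1, h2⟩
    refine ⟨h1, ?_⟩
    funext x
    rw [conjFun_apply]
    exact h2 x ⟨g * x * g⁻¹, hHn.conj_mem x x.2 g⟩ rfl


end Cfsg.Agent.S4723
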