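import Cfsg.Statements.S4725
import Mathlib
import Cfsg.Agent.Lib.Helper6.BlkIndDegree
import Cfsg.Agent.Lib.Helper6.CharOps
import Cfsg.Agent.Lib.Helper6.Multiplicity

set_option autoImplicit false
open Cfsg

namespace Cfsg.Agent.S4725

open Cfsg.Agent.Lib.Helper6

/-- Let p be a prime, M a maximal ideal of the algebraic integers containing p, H a subgroup of the finite group G, and b a p-block of H inducing the p-block B of G, with b and B of the same defect. Then for every height-zero ζ ∈ b there is a height-zero χ ∈ B whose multiplicity in the character induced from ζ is not divisible by p. -/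
theorem result {G : Type*} [Group G] [Fintype G] (p : ℕ) [Fact p.Prime] (M : Ideal Cfsg.AlgInt) (hM : Cfsg.IsPModular p M) (H : Subgroup G) (b : Set (Cfsg.IrrCharacter ↥H)) (B : Set (Cfsg.IrrCharacter G)) (hind : Cfsg.IsInducedBlock M H b B) (hdef : Cfsg.blockDefect p b = Cfsg.blockDefect p B) (ζ : Cfsg.IrrCharacter ↥H) (hζ : ζ ∈ b) (hζ0 : Cfsg.blockHeight p b (ζ : ↥H → ℂ) = 0) : ∃ χ ∈ B, Cfsg.blockHeight p B (χ : G → ℂ) = 0 ∧ ∃ a : ℕ, Cfsg.classInner (Cfsg.indFun H (ζ : ↥H → ℂ)) (χ : G → ℂ) = (a : ℂ) ∧ ¬ p ∣ a := by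
  classical
  have : Fintype (Cfsg.IrrCharacter G) := Fintype.ofFinite _
  have : Fintype H := Fintype.ofFinite H
  have hp : p.Prime := hM.1
  obtain ⟨χ₀, hBχ⟩ := hind.2.1
  have hχ₀ : χ₀ ∈ B := by rw [hBχ]; exact sameBlock_refl hM _
  have hΦ : Cfsg.IsCharacter G (Cfsg.indFun H (ζ : ↥H → ℂ)) :=
    IsCharacter.indFun H (IsIrrCharacter.isCharacter ζ.2)
  obtain ⟨m, hm, hmi⟩ := IsCharacter.exists_mult hΦ
  obtain ⟨s, hs⟩ : ∃ s, s = sInf ((fun χ : Cfsg.IrrCharacter G =>
      (Cfsg.charDegree (χ : G → ℂ)).factorization p) '' B) := ⟨_, rfl⟩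
  have hsle : ∀ χ ∈ B, s ≤ (Cfsg.charDegree (χ : G → ℂ)).factorization p := by
    intro χ hχ
    rw [hs]
    exact Nat.sInf_le ⟨χ, hχ, rfl⟩
  by_contra hcon
  push Not at hcon
  -- the degree of the `B`-part
  have hN : Cfsg.blockPart B (Cfsg.indFun H (ζ : ↥H → ℂ)) 1
      = ((∑ χ ∈ Finset.univ.filter (· ∈ B), m χ * Cfsg.charDegree (χ : G → ℂ) : ℕ) : ℂ) := by
    rw [blockPart_eq_finset_sum]
    push_cast
    apply Finset.sum_congr rfl
    intro χ _
    rw [hmi χ, IsCharacter.apply_one_eq_charDegree (IsIrrCharacter.isCharacter χ.2)]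
  have hdvd : p ^ (s + 1) ∣ ∑ χ ∈ Finset.univ.filter (· ∈ B),
      m χ * Cfsg.charDegree (χ : G → ℂ) := by
    apply Finset.dvd_sum
    intro χ hχ
    simp only [Finset.mem_filter, Finset.mem_univ, true_and] at hχ
    have h1 := hsle χ hχ
    have h2 : p ^ (Cfsg.charDegree (χ : G → ℂ)).factorization p ∣ Cfsg.charDegree (χ : G → ℂ) :=
      Nat.ordProj_dvd _ _
    by_cases hh : Cfsg.blockHeight p B (χ : G → ℂ) = 0
    · have h3 := hcon χ hχ hh (m χ) (hmi χ)
      rw [pow_succ, mul_comm]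
      exact Nat.mul_dvd_mul h3 ((pow_dvd_pow p h1).trans h2)
    · have h3 : s + 1 ≤ (Cfsg.charDegree (χ : G → ℂ)).factorization p := by
        unfold Cfsg.blockHeight at hh
        rw [← hs] at hh
        omega
      exact Dvd.dvd.mul_left ((pow_dvd_pow p h3).trans h2) _
  -- the degree of the induced character
  have hζ1 := IsCharacter.apply_one_eq_charDegree (IsIrrCharacter.isCharacter ζ.2)
  have hD : Cfsg.indFun H (ζ : ↥H → ℂ) 1
      = ((H.index * Cfsg.charDegree (ζ : ↥H → ℂ) : ℕ) : ℂ) := by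
    rw [indFun_one, hζ1]
    push_cast
    rfl
  have hζpos := IsIrrCharacter.charDegree_pos ζ.2
  have hidx0 : H.index ≠ 0 := Subgroup.index_ne_zero_of_finite
  have hD0 : H.index * Cfsg.charDegree (ζ : ↥H → ℂ) ≠ 0 := Nat.mul_ne_zero hidx0 hζpos.ne'
  have hνD : (H.index * Cfsg.charDegree (ζ : ↥H → ℂ)).factorization p = s := by
    rw [Nat.factorization_mul hidx0 hζpos.ne']
    simp only [Finsupp.coe_add, Pi.add_apply]
    have h1 : (Nat.card G).factorization p
        = H.index.factorization p + (Nat.card H).factorization p := by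
      rw [← H.index_mul_card, Nat.factorization_mul hidx0 Nat.card_pos.ne']
      simp
    have h2 : (Cfsg.charDegree (ζ : ↥H → ℂ)).factorization p ≤ (Nat.card H).factorization p := by
      have := IsIrrCharacter.charDegree_dvd_card ζ.2
      exact (Nat.factorization_le_iff_dvd hζpos.ne' Nat.card_pos.ne').mpr this p
    have h3 : (Cfsg.charDegree (χ₀ : G → ℂ)).factorization p ≤ (Nat.card G).factorization p := by
      have := IsIrrCharacter.charDegree_dvd_card χ₀.2
      exact (Nat.factorization_le_iff_dvd (IsIrrCharacter.charDegree_pos χ₀.2).ne'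
        Nat.card_pos.ne').mpr this p
    have h4 := hsle χ₀ hχ₀
    have h5 : sInf ((fun ξ : Cfsg.IrrCharacter ↥H =>
        (Cfsg.charDegree (ξ : ↥H → ℂ)).factorization p) '' b)
        ≤ (Cfsg.charDegree (ζ : ↥H → ℂ)).factorization p := Nat.sInf_le ⟨ζ, hζ, rfl⟩
    unfold Cfsg.blockDefect at hdef
    unfold Cfsg.blockHeight at hζ0
    rw [← hs] at hdef
    omega
  -- conclude
  have hkey := induced_blockPart_div H hM hind ζ hζ χ₀
  rw [if_pos hBχ.symm, ← hBχ, hN, hD] at hkey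
  obtain ⟨N', hN'⟩ := hdvd
  have hDdecomp : p ^ s * (H.index * Cfsg.charDegree (ζ : ↥H → ℂ) / p ^ s)
      = H.index * Cfsg.charDegree (ζ : ↥H → ℂ) := by
    have := Nat.ordProj_mul_ordCompl_eq_self (H.index * Cfsg.charDegree (ζ : ↥H → ℂ)) p
    rw [hνD] at this
    exact this
  have hD' : ¬ p ∣ H.index * Cfsg.charDegree (ζ : ↥H → ℂ) / p ^ s := by
    have := Nat.not_dvd_ordCompl hp hD0
    rw [hνD] at this
    exact this
  have hp0 : (p : ℂ) ≠ 0 := by exact_mod_cast hp.ne_zero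
  have hD'0 : ((H.index * Cfsg.charDegree (ζ : ↥H → ℂ) / p ^ s : ℕ) : ℂ) ≠ 0 := by
    intro h
    apply hD'
    have : H.index * Cfsg.charDegree (ζ : ↥H → ℂ) / p ^ s = 0 := by exact_mod_cast h
    rw [this]; exact dvd_zero p
  have hquot : ((∑ χ ∈ Finset.univ.filter (· ∈ B), m χ * Cfsg.charDegree (χ : G → ℂ) : ℕ) : ℂ)
      / ((H.index * Cfsg.charDegree (ζ : ↥H → ℂ) : ℕ) : ℂ)
      = (p : ℂ) * ((N' : ℂ) * ((H.index * Cfsg.charDegree (ζ : ↥H → ℂ) / p ^ s : ℕ) : ℂ)⁻¹) := by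
    rw [hN']
    conv_lhs => rw [← hDdecomp]
    push_cast
    field_simp
    ring
  have hJ : Cfsg.MemLocalIdeal M
      (((∑ χ ∈ Finset.univ.filter (· ∈ B), m χ * Cfsg.charDegree (χ : G → ℂ) : ℕ) : ℂ)
      / ((H.index * Cfsg.charDegree (ζ : ↥H → ℂ) : ℕ) : ℂ)) := by
    rw [hquot]
    apply MemLocalIdeal.mul_right hM (memLocalIdeal_prime hM)
    apply MemLocalRing.mul hM (memLocalRing_natCast hM _)
    exact memLocalRing_inv_natCast hM hD'
  have h1 := MemLocalIdeal.sub hM hJ hkey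
  rw [sub_sub_cancel] at h1
  exact not_memLocalIdeal_one hM h1

end Cfsg.Agent.S4725
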