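import Cfsg.Statements.S4727
import Mathlib
import Cfsg.Agent.Lib.Helper6.PiKer4
import Cfsg.Agent.Lib.Helper6.BlkSecond2
import Cfsg.Agent.Lib.Helper6.BlkSecond3
import Cfsg.Agent.Lib.Helper6.BlkMajor
import Cfsg.Agent.S0912
import Cfsg.Agent.S4734

set_option autoImplicit false
open Cfsg

namespace Cfsg.Agent.S4727

open Cfsg.Agent.Lib.Helper6

open Cfsg.Agent.Lib.Helper2

section aux

variable {G : Type*} [Group G] [Fintype G] [DecidableEq G]
variable {p : ℕ} {M : Ideal Cfsg.AlgInt}

/-- a class function takes the same value at two points if all its block parts do -/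
theorem apply_eq_of_blockPart_eq (hM : Cfsg.IsPModular p M) {ϑ : G → ℂ}
    (hϑ : Cfsg.IsClassFunction G ϑ) (y z : G)
    (h : ∀ ψ₀ : Cfsg.IrrCharacter G,
      Cfsg.blockPart (Cfsg.blockOf M (ψ₀ : G → ℂ)) ϑ y
        = Cfsg.blockPart (Cfsg.blockOf M (ψ₀ : G → ℂ)) ϑ z) :
    ϑ y = ϑ z := by
  classical
  haveI : Fintype (Cfsg.IrrCharacter G) := Fintype.ofFinite _
  have key : ∀ w : G, ϑ w = ∑ b ∈ Finset.univ.image
      (fun ψ : Cfsg.IrrCharacter G => Cfsg.blockOf M (ψ : G → ℂ)), Cfsg.blockPart b ϑ w := by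
    intro w
    rw [← blockPart_univ hϑ w, blockPart_eq_finset_sum]
    have h1 : (Finset.univ.filter (· ∈ (Set.univ : Set (Cfsg.IrrCharacter G)))) = Finset.univ := by
      ext χ; simp
    rw [h1]
    rw [← Finset.sum_fiberwise_of_maps_to (s := Finset.univ)
      (t := Finset.univ.image (fun ψ : Cfsg.IrrCharacter G => Cfsg.blockOf M (ψ : G → ℂ)))
      (g := fun ψ : Cfsg.IrrCharacter G => Cfsg.blockOf M (ψ : G → ℂ))
      (fun ψ _ => Finset.mem_image_of_mem _ (Finset.mem_univ ψ))]
    apply Finset.sum_congr rfl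
    intro b hb
    obtain ⟨ψ₀, _, rfl⟩ := Finset.mem_image.mp hb
    rw [blockPart_eq_finset_sum]
    apply Finset.sum_congr
    · ext χ
      simp only [Finset.mem_filter, Finset.mem_univ, true_and]
      constructor
      · intro hχ
        rw [← hχ]
        exact sameBlock_refl hM _
      · intro hχ
        exact (blockOf_eq_of_mem hM hχ).symm
    · intro χ _; rfl
  rw [key y, key z]
  apply Finset.sum_congr rfl
  intro b hb
  obtain ⟨ψ₀, _, rfl⟩ := Finset.mem_image.mp hb
  exact h ψ₀

end aux

/-- Let p be a prime, π a set of primes containing p, M a maximal ideal of the algebraic integers containing p, and B a p-block of the finite group G with defect group D; let B₁ be the block of N_G(D) with defect group D that induces B (the Brauer correspondent of B). Suppose every element of O_π'(N_G(D)), the largest normal subgroup of N_G(D) whose order has no prime divisor in π, lies in the kernel of every member of B₁. If y is a p-element whose centralizer C has a normal Hall π'-subgroup (every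 element of C whose order has no prime divisor in π lies in O_π'(C)), then χ(y x) = χ(y) for every χ ∈ B and every x ∈ C whose order has no prime divisor in π. -/
theorem result {G : Type*} [Group G] [Finite G] (p : ℕ) [Fact p.Prime] (M : Ideal Cfsg.AlgInt) (hM : Cfsg.IsPModular p M) (π : Set ℕ) (hpπ : p ∈ π) (B : Set (Cfsg.IrrCharacter G)) (hB : Cfsg.IsPBlock M B) (D : Subgroup G) (hBD : Cfsg.IsDefectGroup p M B D) (B₁ : Set (Cfsg.IrrCharacter ↥(Subgroup.normalizer (D : Set G)))) (hB₁ : Cfsg.IsInducedBlock M (Subgroup.normalizer (D : Set G)) B₁ B) (hB₁D : Cfsg.IsDefectGroup p M B₁ (D.subgroupOf (Subgroup.normalizer (D : Set G)))) (hker : ∀ n : ↥(Subgroup.normalizer (D : Set G)), n ∈ Cfsg.piCore {q | q ∉ π} ↥(Subgroup.normalizer (D : Set G)) → n ∈ Cfsg.blockKer B₁) (y : G) (hy : ∃ k : ℕ, orderOf y = p ^ k) (hC : ∀ x : ↥(Subgroup.centralizer ({y} : Set G)), (∀ q : ℕ, q.Prime → q ∣ orderOf x → q ∉ π) → x ∈ Cfsg.piCore {q | q ∉ π} ↥(Subgroup.centralizer ({y} : Set G))) : ∀ χ ∈ B, ∀ x : G, x ∈ Subgroup.centralizer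 ({y} : Set G) → (∀ q : ℕ, q.Prime → q ∣ orderOf x → q ∉ π) → (χ : G → ℂ) (y * x) = (χ : G → ℂ) y := by
  classical
  have : Fintype G := Fintype.ofFinite G
  have hp : p.Prime := hM.1
  intro χ hχ x hxC hxπ
  obtain ⟨C, hCdef⟩ : ∃ C : Subgroup G, C = Subgroup.centralizer ({y} : Set G) := ⟨_, rfl⟩
  haveI : Fintype C := Fintype.ofFinite _
  have hyC : y ∈ C := by
    rw [hCdef, Subgroup.mem_centralizer_iff]
    intro g hg
    rw [Set.mem_singleton_iff] at hg
    rw [hg]
  have hcomm' : ∀ g : G, g ∈ C → Commute y g := by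
    intro g hg
    rw [hCdef, Subgroup.mem_centralizer_iff] at hg
    exact hg y (Set.mem_singleton _)
  have hcomm : ∀ c : C, Commute y (c : G) := fun c => hcomm' _ c.2
  -- the class function
  obtain ⟨φ, hφ⟩ : ∃ φ : C → ℂ, φ = fun c : C => (χ : G → ℂ) (y * (c : G)) := ⟨_, rfl⟩
  have hcf : Cfsg.IsClassFunction C φ := by
    intro g h
    rw [hφ]
    simp only [Subgroup.coe_mul, Subgroup.coe_inv]
    have e : y * ((h : G) * (g : G) * (h : G)⁻¹) = (h : G) * (y * (g : G)) * (h : G)⁻¹ := by
      have := (hcomm h).eq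
      calc y * ((h : G) * (g : G) * (h : G)⁻¹) = (y * (h : G)) * (g : G) * (h : G)⁻¹ := by group
        _ = ((h : G) * y) * (g : G) * (h : G)⁻¹ := by rw [this]
        _ = (h : G) * (y * (g : G)) * (h : G)⁻¹ := by group
    rw [e]
    exact IsIrrCharacter.isClassFunction χ.2 _ _
  have hxC' : x ∈ C := by rw [hCdef]; exact hxC
  have hxreg : ¬ p ∣ orderOf (⟨x, hxC'⟩ : C) := by
    intro hd
    rw [← Subgroup.orderOf_coe] at hd
    exact hxπ p hp hd hpπ
  have hgoal : φ ⟨x, hxC'⟩ = φ 1 := by
    apply apply_eq_of_blockPart_eq hM hcf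
    intro ψ₀
    by_cases hind : Cfsg.IsInducedBlock M C (Cfsg.blockOf M (ψ₀ : C → ℂ)) B
    · -- the block induces `B`: the element lies in its kernel
      obtain ⟨D₀, hD₀⟩ := exists_isDefectGroup hM _ hind.1
      have hyD₀ : (⟨y, hyC⟩ : C) ∈ D₀ := by
        have h1 := Cfsg.Agent.S0912.result p M hM _ hind.1 D₀ hD₀
        apply h1
        have hzn : (Subgroup.zpowers (⟨y, hyC⟩ : C)).Normal := by
          constructor
          intro n hn g
          obtain ⟨i, rfl⟩ := Subgroup.mem_zpowers_iff.mp hn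
          have hc : g * (⟨y, hyC⟩ : C) ^ i * g⁻¹ = (⟨y, hyC⟩ : C) ^ i := by
            have h2 : Commute (⟨y, hyC⟩ : C) g := by
              apply Subtype.ext
              exact (hcomm g).eq
            have h3 : Commute ((⟨y, hyC⟩ : C) ^ i) g := h2.zpow_left i
            rw [← h3.eq]
            group
          rw [hc]
          exact Subgroup.zpow_mem_zpowers _ i
        have hzp : IsPGroup p (Subgroup.zpowers (⟨y, hyC⟩ : C)) := by
          obtain ⟨k, hk⟩ := hy
          apply IsPGroup.of_card (n := k)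
          rw [Nat.card_zpowers, ← Subgroup.orderOf_coe]
          exact hk
        haveI := hzn
        exact le_pCore hzp (Subgroup.mem_zpowers _)
      have hCD₀ : Subgroup.centralizer ((D₀.map C.subtype : Subgroup G) : Set G) ≤ C := by
        intro g hg
        rw [hCdef, Subgroup.mem_centralizer_iff]
        intro w hw
        rw [Set.mem_singleton_iff] at hw
        rw [hw]
        rw [Subgroup.mem_centralizer_iff] at hg
        exact hg y ⟨⟨y, hyC⟩, hyD₀, rfl⟩
      have hk := Cfsg.Agent.S4734.result p M hM π hpπ B hB D hBD B₁ hB₁ hB₁D hker C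
        (Cfsg.blockOf M (ψ₀ : C → ℂ)) hind D₀ hD₀ hCD₀
      have hxcore : (⟨x, hxC'⟩ : C) ∈ Cfsg.piCore {q | q ∉ π} C := by
        subst hCdef
        apply hC
        intro q hq hd
        rw [← Subgroup.orderOf_coe] at hd
        exact hxπ q hq hd
      have hxker := hk _ hxcore
      unfold Cfsg.blockPart
      apply finsum_mem_congr rfl
      intro θ hθ
      rw [hxker θ hθ]
    · -- the block does not induce `B`: both parts vanish
      have h1 := second_main_chars hM y hy C hCdef hB χ hχ ⟨ψ₀, rfl⟩ hind ⟨x, hxC'⟩ hxreg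
      have h2 := second_main_chars hM y hy C hCdef hB χ hχ ⟨ψ₀, rfl⟩ hind 1
        (by rw [orderOf_one]; exact hp.not_dvd_one)
      rw [← hφ] at h1 h2
      rw [h1, h2]
  rw [hφ] at hgoal
  simp only [Subgroup.coe_one, mul_one] at hgoal
  exact hgoal

end Cfsg.Agent.S4727
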