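import Cfsg.Statements.S4728
import Mathlib
import Cfsg.Agent.Lib.Helper6.PiKer5
import Cfsg.Agent.Lib.Helper6.BrConj2
import Cfsg.Agent.Lib.Helper6.BrCyc

set_option autoImplicit false
open Cfsg

namespace Cfsg.Agent.S4728

open Cfsg.Agent.Lib.Helper6

/-- Let p be a prime, π a set of primes containing p, M a maximal ideal of the algebraic integers containing p, B a p-block of the finite group G with defect group D, and B₁ the block of N_G(D) with defect group D inducing B. Let D₀ be a p-subgroup, H₀ = D₀·C_G(D₀), and b a block of H₀ inducing B. Write O_π'(X) for the largest normal subgroup of X whose order has no prime divisor in π. Suppose that O_π'(C_G(D₀)) is a normal Hall π'-subgroup of C_G(D₀) (it contains every element of C_G(D₀) whose order has no prime divisor in π) and that every element of it lies in the kernel of every member of b. Then every element of O_π'(N_G(D)) lies in the kernel of every member of B₁. -/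
theorem result {G : Type*} [Group G] [Finite G] (p : ℕ) [Fact p.Prime] (M : Ideal Cfsg.AlgInt) (hM : Cfsg.IsPModular p M) (π : Set ℕ) (hpπ : p ∈ π) (B : Set (Cfsg.IrrCharacter G)) (hB : Cfsg.IsPBlock M B) (D : Subgroup G) (hBD : Cfsg.IsDefectGroup p M B D) (B₁ : Set (Cfsg.IrrCharacter ↥(Subgroup.normalizer (D : Set G)))) (hB₁ : Cfsg.IsInducedBlock M (Subgroup.normalizer (D : Set G)) B₁ B) (hB₁D : Cfsg.IsDefectGroup p M B₁ (D.subgroupOf (Subgroup.normalizer (D : Set G)))) (D₀ : Subgroup G) (hD₀ : IsPGroup p D₀) (H₀ : Subgroup G) (hH₀ : H₀ = D₀ ⊔ Subgroup.centralizer (D₀ : Set G)) (b : Set (Cfsg.IrrCharacter ↥H₀)) (hb : Cfsg.IsInducedBlock M H₀ b B) (hcompl : ∀ x : ↥(Subgroup.centralizer (D₀ : Set G)), (∀ q : ℕ, q.Prime → q ∣ orderOf x → q ∉ π) → x ∈ Cfsg.piCore {q | q ∉ π} ↥(Subgroup.centralizer (D₀ : Set G))) (hkerb : ∀ x : ↥(Subgroup.centralizer (D₀ : Set G)), x ∈ Cfsg.piCore {q | q ∉ π} ↥(Subgroup.centralizer (D₀ : Set G)) → ∀ θ ∈ b, ∀ h : ↥H₀, (h : G) = (x :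 G) → (θ : ↥H₀ → ℂ) h = (θ : ↥H₀ → ℂ) 1) : ∀ n : ↥(Subgroup.normalizer (D : Set G)), n ∈ Cfsg.piCore {q | q ∉ π} ↥(Subgroup.normalizer (D : Set G)) → n ∈ Cfsg.blockKer B₁ := by
  classical
  have : Fintype G := Fintype.ofFinite G
  -- the pair at the bottom
  obtain ⟨e₀, hpair₀, hker₀⟩ := exists_pair_of_sup_centralizer hM π hpπ D₀ hD₀ H₀ hH₀ b hb hkerb
  obtain ⟨a, hamax, hch⟩ := exists_maximal_above (p := p) (M := M) B _ ⟨D₀, e₀⟩ le_rfl hpair₀
  obtain ⟨_, hKa⟩ := hallKer_of_chain hM π hpπ ⟨D₀, e₀⟩ a hch ⟨hcompl, hker₀⟩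
  -- the pair at the top
  have hmapD : (D.subgroupOf (Subgroup.normalizer (D : Set G))).map
      (Subgroup.normalizer (D : Set G)).subtype = D :=
    Subgroup.map_subgroupOf_eq_of_le Subgroup.le_normalizer
  have hC' : Subgroup.centralizer ((((D.subgroupOf (Subgroup.normalizer (D : Set G))).map
      (Subgroup.normalizer (D : Set G)).subtype : Subgroup G)) : Set G)
        ≤ Subgroup.normalizer (D : Set G) := by
    rw [hmapD]
    exact Subgroup.centralizer_le_normalizer _
  obtain ⟨eD, hpairD, hfin⟩ := exists_pair_of_sub hM π hpπ (Subgroup.normalizer (D : Set G)) B₁ hB₁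
    (D.subgroupOf (Subgroup.normalizer (D : Set G))) hB₁D hC'
  have hBD' : Cfsg.IsDefectGroup p M B ((D.subgroupOf (Subgroup.normalizer (D : Set G))).map
      (Subgroup.normalizer (D : Set G)).subtype) := by
    rw [hmapD]
    exact hBD
  have hmaxD := isMaximalBrauerPair_of_isDefectGroup hM B _ eD hBD' hpairD
  obtain ⟨x, hx⟩ := isMaximalBrauerPair_conj hM B a ⟨_, eD⟩ hamax hmaxD
  have h1 : KerAll π (conjPair x a).2 := (kerAll_conjPair_iff π x a).mpr hKa
  rw [← hx] at h1
  exact hfin h1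

end Cfsg.Agent.S4728
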