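import Cfsg.Statements.S4730
import Mathlib
import Cfsg.Agent.S0142
import Cfsg.Agent.Lib.Helper6.CharBasic
import Cfsg.Agent.Lib.Helper6.BlkLocal
import Cfsg.Agent.Lib.Helper6.CharOps
import Cfsg.Agent.Lib.Helper6.Mult
import Cfsg.Agent.Lib.Helper6.Constituent
import Cfsg.Agent.Lib.Helper6.BlkContrib

set_option autoImplicit false
open Cfsg

namespace Cfsg.Agent.S4730

open Cfsg.Agent.Lib.Helper6
open scoped ComplexConjugate

/-- Let p be a prime, M a maximal ideal of the algebraic integers containing p, and G a finite group with trivial centre, Sylow p-subgroup P of order p^a and centre Z(P) of order p^b. If χ is a faithful irreducible character of G whose degree is a power of p, then the p-block of χ has defect at most a − b; in particular, if P is abelian then χ lies in a block of defect zero. -/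
theorem result {G : Type*} [Group G] [Finite G] (p : ℕ) [Fact p.Prime] (M : Ideal Cfsg.AlgInt) (hM : Cfsg.IsPModular p M) (hZ : Subgroup.center G = ⊥) (P : Sylow p G) (a b : ℕ) (ha : Nat.card P = p ^ a) (hb : Nat.card (Subgroup.center ↥(P : Subgroup G)) = p ^ b) (χ : Cfsg.IrrCharacter G) (hfaith : ∀ g : G, (χ : G → ℂ) g = (χ : G → ℂ) 1 → g = 1) (n : ℕ) (hdeg : Cfsg.charDegree (χ : G → ℂ) = p ^ n) : Cfsg.blockDefect p (Cfsg.blockOf M (χ : G → ℂ)) ≤ a - b ∧ (IsMulCommutative ↥(P : Subgroup G) → Cfsg.blockDefect p (Cfsg.blockOf M (χ : G → ℂ)) = 0) := by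
  classical
  have : Fintype G := Fintype.ofFinite G
  have hp : p.Prime := Fact.out
  obtain ⟨nρ, ρ, hirr, hchar⟩ := χ.2
  haveI := hirr
  have hdegρ : (χ : G → ℂ) 1 = (nρ : ℂ) := by
    rw [← hchar, Representation.char_one]; simp
  have hdegχ : (χ : G → ℂ) 1 = ((p ^ n : ℕ) : ℂ) := by
    rw [IsCharacter.apply_one_eq_charDegree (IsIrrCharacter.isCharacter χ.2), hdeg]
  have hnρ : nρ = p ^ n := by exact_mod_cast (hdegρ.symm.trans hdegχ)
  -- the centre of P as a subgroup of G
  obtain ⟨Z, hZdef⟩ : ∃ Z : Subgroup G,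
      Z = (Subgroup.center ↥(P : Subgroup G)).map (P : Subgroup G).subtype := ⟨_, rfl⟩
  have hZcomm : ∀ z ∈ Z, ∀ y ∈ (P : Subgroup G), y * z = z * y := by
    intro z hz y hy
    rw [hZdef] at hz
    obtain ⟨w, hw, rfl⟩ := hz
    have := Subgroup.mem_center_iff.mp hw ⟨y, hy⟩
    exact congrArg Subtype.val this
  have hZcard : Nat.card Z = p ^ b := by
    rw [hZdef, Subgroup.card_map_of_injective (Subgroup.subtype_injective _), hb]
  have hidxZ : ∀ z ∈ Z, ¬ p ∣ (Subgroup.centralizer ({z} : Set G)).index := by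
    intro z hz hdiv
    have hPle : (P : Subgroup G) ≤ Subgroup.centralizer ({z} : Set G) := by
      intro y hy
      rw [Subgroup.mem_centralizer_singleton_iff]
      exact hZcomm z hz y hy
    have h1 : (Subgroup.centralizer ({z} : Set G)).index ∣ (P : Subgroup G).index :=
      Subgroup.index_dvd_of_le hPle
    exact P.not_dvd_index (hdiv.trans h1)
  have hvan : ∀ z ∈ Z, z ≠ 1 → (χ : G → ℂ) z = 0 := by
    intro z hz hz1
    have hcop : Nat.Coprime (Module.finrank ℂ (Fin nρ → ℂ))
        (Subgroup.centralizer ({z} : Set G)).index := by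
      rw [Module.finrank_fin_fun, hnρ]
      exact Nat.Coprime.pow_left n ((Nat.Prime.coprime_iff_not_dvd hp).mpr (hidxZ z hz))
    rcases Cfsg.Agent.S0142.result ρ z hcop with h0 | h0
    · rw [← hchar]; exact h0
    · exfalso
      obtain ⟨ω, hω⟩ := (norm_character_eq_iff ρ z).mp h0
      apply hz1
      have hcen : z ∈ Subgroup.center G := by
        rw [Subgroup.mem_center_iff]
        intro y
        have hρ1 : ρ (y * z * y⁻¹ * z⁻¹) = 1 := by
          rw [map_mul, map_mul, map_mul]
          have hcomm : ρ y * ρ z = ρ z * ρ y := by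
            rw [hω]; ext v; simp
          rw [hcomm, mul_assoc (ρ z), ← map_mul, mul_inv_cancel, map_one, mul_one, ← map_mul,
            mul_inv_cancel, map_one]
        have hχ1 : (χ : G → ℂ) (y * z * y⁻¹ * z⁻¹) = (χ : G → ℂ) 1 := by
          rw [← hchar]
          show LinearMap.trace ℂ _ (ρ (y * z * y⁻¹ * z⁻¹)) = LinearMap.trace ℂ _ (ρ 1)
          rw [hρ1, map_one ρ]
        have h3 := hfaith _ hχ1
        calc y * z = (y * z * y⁻¹ * z⁻¹) * (z * y) := by group
          _ = z * y := by rw [h3, one_mul]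
      rw [hZ, Subgroup.mem_bot] at hcen
      exact hcen
  have hkey : ∀ ψ : Cfsg.IrrCharacter G, ψ ∈ Cfsg.blockOf M (χ : G → ℂ) →
      p ^ b ∣ Cfsg.charDegree (ψ : G → ℂ) := by
    intro ψ hψ
    have hψ1 : (ψ : G → ℂ) 1 = (Cfsg.charDegree (ψ : G → ℂ) : ℂ) :=
      IsCharacter.apply_one_eq_charDegree (IsIrrCharacter.isCharacter ψ.2)
    have hdpos : 0 < Cfsg.charDegree (ψ : G → ℂ) := IsIrrCharacter.charDegree_pos ψ.2
    have hd0 : (ψ : G → ℂ) 1 ≠ 0 := IsIrrCharacter.apply_one_ne_zero ψ.2
    have hquot : ∀ z ∈ Z, z ≠ 1 → Cfsg.MemLocalIdeal M ((ψ : G → ℂ) z / (ψ : G → ℂ) 1) := by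
      intro z hz hz1
      have h1 := hψ z
      unfold Cfsg.centralChar at h1
      rw [hvan z hz hz1, mul_zero, zero_div, zero_sub] at h1
      have h2 := MemLocalIdeal.neg h1
      rw [neg_neg] at h2
      have hidx := hidxZ z hz
      have h3 := MemLocalIdeal.mul_left hM (memLocalRing_inv_natCast hM hidx) h2
      have hne : ((Subgroup.centralizer ({z} : Set G)).index : ℂ) ≠ 0 := by
        have : (Subgroup.centralizer ({z} : Set G)).index ≠ 0 := fun h => hidx (h ▸ dvd_zero p)
        exact_mod_cast this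
      convert h3 using 1
      field_simp
    have : Fintype Z := Fintype.ofFinite Z
    obtain ⟨m, hm⟩ := IsCharacter.classInner_nat
      (IsCharacter.restrict Z (IsIrrCharacter.isCharacter ψ.2)) (isCharacter_one (G := Z))
    unfold Cfsg.classInner at hm
    simp only [map_one, mul_one] at hm
    have hZc : (Nat.card Z : ℂ) ≠ 0 := by
      rw [hZcard]; exact_mod_cast (pow_pos hp.pos b).ne'
    have hsum : ∑ z : Z, (ψ : G → ℂ) z = ((p ^ b : ℕ) : ℂ) * (m : ℂ) := by
      rw [← hZcard, ← hm]
      field_simp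
    rw [← Finset.add_sum_erase Finset.univ _ (Finset.mem_univ (1 : Z))] at hsum
    obtain ⟨ε, hεdef⟩ : ∃ ε : ℂ, ε = ∑ z ∈ (Finset.univ : Finset Z).erase 1,
        (ψ : G → ℂ) z / (ψ : G → ℂ) 1 := ⟨_, rfl⟩
    have hε : Cfsg.MemLocalIdeal M ε := by
      rw [hεdef]
      apply MemLocalIdeal.sum hM
      intro z hz
      apply hquot z z.2
      intro h
      apply Finset.ne_of_mem_erase hz
      exact Subtype.ext h
    have heq : ((p ^ b : ℕ) : ℂ) * (m : ℂ) / (ψ : G → ℂ) 1 = 1 + ε := by
      rw [← hsum, hεdef, add_div, ← Finset.sum_div]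
      simp only [Subgroup.coe_one]
      rw [div_self hd0]
    by_contra hnd
    obtain ⟨c, r, hr, hd⟩ := Nat.exists_eq_pow_mul_and_not_dvd hdpos.ne' p hp.ne_one
    have hcb : c < b := by
      by_contra hcb
      push Not at hcb
      apply hnd
      rw [hd]
      exact Dvd.dvd.mul_right (pow_dvd_pow p hcb) r
    have h4 : Cfsg.MemLocalIdeal M (((p ^ b : ℕ) : ℂ) * (m : ℂ) / (ψ : G → ℂ) 1) := by
      rw [hψ1, hd]
      have hr0 : (r : ℂ) ≠ 0 := by
        have : r ≠ 0 := fun h => hr (h ▸ dvd_zero p)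
        exact_mod_cast this
      have hp0 : (p : ℂ) ≠ 0 := by exact_mod_cast hp.ne_zero
      have e : ((p ^ b : ℕ) : ℂ) * (m : ℂ) / ((p ^ c * r : ℕ) : ℂ)
          = (p : ℂ) * (((p ^ (b - c - 1) : ℕ) : ℂ) * (m : ℂ) * (r : ℂ)⁻¹) := by
        have hb' : b = c + (b - c - 1) + 1 := by omega
        conv_lhs => rw [hb']
        push_cast
        field_simp
        ring
      rw [e]
      apply MemLocalIdeal.mul_right hM (memLocalIdeal_prime hM)
      exact MemLocalRing.mul hM (MemLocalRing.mul hM (memLocalRing_natCast hM _)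
        (memLocalRing_natCast hM _)) (memLocalRing_inv_natCast hM hr)
    rw [heq] at h4
    have h5 := MemLocalIdeal.sub hM h4 hε
    rw [add_sub_cancel_right] at h5
    exact not_memLocalIdeal_one hM h5
  have hfac : (Nat.card G).factorization p = a := by
    have h1 := P.card_eq_multiplicity
    rw [ha] at h1
    exact (Nat.pow_right_injective hp.two_le h1).symm
  have hinf : b ≤ sInf ((fun ψ : Cfsg.IrrCharacter G =>
      (Cfsg.charDegree (ψ : G → ℂ)).factorization p) '' Cfsg.blockOf M (χ : G → ℂ)) := by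
    apply le_csInf
    · exact ⟨_, χ, sameBlock_refl hM _, rfl⟩
    · rintro _ ⟨ψ, hψ, rfl⟩
      exact (Nat.Prime.pow_dvd_iff_le_factorization hp
        (IsIrrCharacter.charDegree_pos ψ.2).ne').mp (hkey ψ hψ)
  refine ⟨?_, ?_⟩
  · unfold Cfsg.blockDefect
    rw [hfac]
    omega
  · intro hcomm
    have hba : b = a := by
      have h1 : Subgroup.center ↥(P : Subgroup G) = ⊤ := by
        rw [eq_top_iff]
        intro x _
        rw [Subgroup.mem_center_iff]
        intro g
        exact hcomm.is_comm.comm g x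
      rw [h1, Subgroup.card_top, ha] at hb
      exact (Nat.pow_right_injective hp.two_le hb).symm
    unfold Cfsg.blockDefect
    rw [hfac]
    omega

end Cfsg.Agent.S4730
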