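import Cfsg.Statements.S4731
import Mathlib
import Cfsg.Agent.Lib.Helper6.BlkPQ
import Cfsg.Agent.Lib.Helper6.BrPrin
import Cfsg.Agent.Lib.Helper6.Multiplicity
import Cfsg.Agent.Lib.Helper6.BlkDefect

set_option autoImplicit false
open Cfsg

namespace Cfsg.Agent.S4731

open Cfsg.Agent.Lib.Helper6

/-- Let p ≠ q be primes, M_p and M_q maximal ideals of the algebraic integers containing p and q respectively, and G a finite group with no element of order pq; let q^b be the q-part of the order of G. For a p-block B_p (relative to M_p), a q-block B_q (relative to M_q) and a p-singular element y, the sum of χ(1)χ(y) over the irreducible characters χ lying in both B_p and B_q is q^b times an algebraic integer. -/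
theorem result {G : Type*} [Group G] [Finite G] (p q : ℕ) [Fact p.Prime] [Fact q.Prime] (hpq : p ≠ q) (Mp Mq : Ideal Cfsg.AlgInt) (hMp : Cfsg.IsPModular p Mp) (hMq : Cfsg.IsPModular q Mq) (hno : ∀ g : G, orderOf g ≠ p * q) (b : ℕ) (hb : (Nat.card G).factorization q = b) (Bp : Set (Cfsg.IrrCharacter G)) (hBp : Cfsg.IsPBlock Mp Bp) (Bq : Set (Cfsg.IrrCharacter G)) (hBq : Cfsg.IsPBlock Mq Bq) (y : G) (hy : p ∣ orderOf y) : ∃ ω : Cfsg.AlgInt, ∑ᶠ χ ∈ Bp ∩ Bq, (Cfsg.charDegree (χ : G → ℂ) : ℂ) * (χ : G → ℂ) y = (q : ℂ) ^ b * (ω : ℂ) := by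
  classical
  have : Fintype G := Fintype.ofFinite G
  haveI : Fintype (Cfsg.IrrCharacter G) := Fintype.ofFinite _
  have hpp : p.Prime := hMp.1
  have hqp : q.Prime := hMq.1
  obtain ⟨χp, rfl⟩ := hBp
  obtain ⟨χq, rfl⟩ := hBq
  have Q : Sylow q G := default
  haveI : Fintype (Q : Subgroup G) := Fintype.ofFinite _
  haveI : Fintype (Cfsg.IrrCharacter (Q : Subgroup G)) := Fintype.ofFinite _
  have hQcard : Nat.card (Q : Subgroup G) = q ^ b := by
    rw [Sylow.card_eq_multiplicity, hb]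
  -- the set of common characters as a finset
  obtain ⟨S, hS⟩ : ∃ S : Finset (Cfsg.IrrCharacter G), (S : Set (Cfsg.IrrCharacter G))
      = Cfsg.blockOf Mp (χp : G → ℂ) ∩ Cfsg.blockOf Mq (χq : G → ℂ) :=
    ⟨(Set.toFinite _).toFinset, Set.Finite.coe_toFinset _⟩
  -- multiplicities of the trivial character of Q
  have hmult : ∀ χ : Cfsg.IrrCharacter G, ∃ m : ℕ,
      ∑ g : (Q : Subgroup G), (χ : G → ℂ) (g : G) = (q : ℂ) ^ b * (m : ℂ) := by
    intro χ
    have hres : Cfsg.IsCharacter (Q : Subgroup G) (fun h : (Q : Subgroup G) => (χ : G → ℂ) h) :=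
      IsCharacter.restrict _ (IsIrrCharacter.isCharacter χ.2)
    obtain ⟨m, _, hm⟩ := IsCharacter.exists_mult hres
    refine ⟨m (oneIrr (Q : Subgroup G)), ?_⟩
    have h1 := hm (oneIrr (Q : Subgroup G))
    unfold Cfsg.classInner at h1
    have h2 : ∀ g : (Q : Subgroup G), (χ : G → ℂ) (g : G)
        * (starRingEnd ℂ) (((oneIrr (Q : Subgroup G) : Cfsg.IrrCharacter _) : _ → ℂ) g)
        = (χ : G → ℂ) (g : G) := by
      intro g
      have : ((oneIrr (Q : Subgroup G) : Cfsg.IrrCharacter _) : _ → ℂ) g = 1 := rfl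
      rw [this, map_one, mul_one]
    simp_rw [h2] at h1
    rw [← h1, hQcard]
    have hq0 : ((q ^ b : ℕ) : ℂ) ≠ 0 := by
      exact_mod_cast (pow_pos hqp.pos b).ne'
    push_cast at hq0 ⊢
    field_simp
  choose m hm using hmult
  -- the algebraic integer
  have hint : IsIntegral ℤ (∑ χ ∈ S, (m χ : ℂ) * (χ : G → ℂ) y) := by
    apply IsIntegral.sum
    intro χ _
    apply IsIntegral.mul
    · have : IsIntegral ℤ (((m χ : ℤ)) : ℂ) := isIntegral_algebraMap (R := ℤ) (A := ℂ) (x := (m χ : ℤ))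
      simpa using this
    · exact IsCharacter.isIntegral_apply (IsIrrCharacter.isCharacter χ.2) y
  refine ⟨⟨_, hint⟩, ?_⟩
  -- orthogonality on the nonidentity elements of Q
  have horth : ∀ g : (Q : Subgroup G), g ≠ 1 →
      ∑ χ ∈ S, (χ : G → ℂ) y * (χ : G → ℂ) (g : G) = 0 := by
    intro g hg
    have hgq : q ∣ orderOf (g : G) := by
      obtain ⟨k, hk⟩ := (Q.2 g)
      have hk' : (g : G) ^ q ^ k = 1 := by
        have := congrArg Subtype.val hk
        simpa using this
      obtain ⟨j, _, hj⟩ := (Nat.dvd_prime_pow hqp).mp (orderOf_dvd_of_pow_eq_one hk')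
      have hj0 : j ≠ 0 := by
        rintro rfl
        rw [pow_zero, orderOf_eq_one_iff] at hj
        apply hg
        apply Subtype.ext
        exact hj
      rw [hj]
      exact dvd_pow_self q hj0
    have := pq_orthogonality hpq hMp hMq hno χp χq y (g : G) hy hgq
    rw [← hS, finsum_mem_coe_finset] at this
    exact this
  -- sum over Q
  have hsum : ∑ g : (Q : Subgroup G), ∑ χ ∈ S, (χ : G → ℂ) y * (χ : G → ℂ) (g : G)
      = ∑ χ ∈ S, (χ : G → ℂ) y * (χ : G → ℂ) 1 := by
    rw [Finset.sum_eq_single (1 : (Q : Subgroup G))]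
    · rfl
    · intro g _ hg
      exact horth g hg
    · intro h
      exact absurd (Finset.mem_univ _) h
  rw [Finset.sum_comm] at hsum
  rw [← hS, finsum_mem_coe_finset]
  have h3 : ∑ χ ∈ S, (Cfsg.charDegree (χ : G → ℂ) : ℂ) * (χ : G → ℂ) y
      = ∑ χ ∈ S, (χ : G → ℂ) y * (χ : G → ℂ) 1 := by
    apply Finset.sum_congr rfl
    intro χ _
    rw [← IsCharacter.apply_one_eq_charDegree (IsIrrCharacter.isCharacter χ.2), mul_comm]
  rw [h3, ← hsum]
  show _ = (q : ℂ) ^ b * ∑ χ ∈ S, (m χ : ℂ) * (χ : G → ℂ) y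
  rw [Finset.mul_sum]
  apply Finset.sum_congr rfl
  intro χ _
  rw [← Finset.mul_sum, hm χ]
  ring

end Cfsg.Agent.S4731
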