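import Cfsg.Statements.S4735
import Mathlib
import Cfsg.Agent.Lib.Helper6.BlkPrincipalQuot
import Cfsg.Agent.Lib.Helper6.BlkSections
import Cfsg.Agent.Lib.Helper6.SecondOrth
import Cfsg.Agent.Lib.Helper6.Regular
import Cfsg.Agent.Lib.Helper6.BrPrin

set_option autoImplicit false
open Cfsg

namespace Cfsg.Agent.S4735

open Cfsg.Agent.Lib.Helper6
open scoped ComplexConjugate

/-- Let p be a prime, M a maximal ideal of the algebraic integers containing p, G a finite group, H = O_p'(G) and Ḡ = G/H. For x ∈ G write λ(G, x) for the sum of |χ(x)|^2 over the irreducible characters χ in the principal p-block of G. Then λ(G, x) is a positive integer, λ(G, x) = λ(Ḡ, x̄) where x̄ is the image of x, and λ(G, x) ≤ #C_Ḡ(x̄). Moreover λ(G, 1) = [G : H] if and only if the principal block is the only p-block of Ḡ. -/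
theorem result {G : Type*} [Group G] [Finite G] (p : ℕ) [Fact p.Prime] (M : Ideal Cfsg.AlgInt) (hM : Cfsg.IsPModular p M) (x : G) : (∃ n : ℕ, 0 < n ∧ ∑ᶠ χ ∈ Cfsg.principalBlock M G, Complex.normSq ((χ : G → ℂ) x) = n) ∧ ∑ᶠ χ ∈ Cfsg.principalBlock M G, Complex.normSq ((χ : G → ℂ) x) = ∑ᶠ ψ ∈ Cfsg.principalBlock M (G ⧸ Cfsg.pPrimeCore p G), Complex.normSq ((ψ : G ⧸ Cfsg.pPrimeCore p G → ℂ) (QuotientGroup.mk x)) ∧ ∑ᶠ χ ∈ Cfsg.principalBlock M G, Complex.normSq ((χ : G → ℂ) x) ≤ (Nat.card ↥(Subgroup.centralizer ({(QuotientGroup.mk x : G ⧸ Cfsg.pPrimeCore p G)} : Set (G ⧸ Cfsg.pPrimeCore p G))) : ℝ) ∧ ((∑ᶠ χ ∈ Cfsg.principalBlock M G, Cfsg.charDegree (χ : G → ℂ) ^ 2) = (Cfsg.pPrimeCore p G).index ↔ ∀ B : Set (Cfsg.IrrCharacter (G ⧸ Cfsg.pPrimeCore p G)), Cfsg.IsPBlock M B → B = Cfsg.principalBlock M (G ⧸ Cfsg.pPrimeCore p G)) := by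
  classical
  have : Fintype G := Fintype.ofFinite G
  have : Fintype (Cfsg.IrrCharacter G) := Fintype.ofFinite _
  have hp : p.Prime := Fact.out
  obtain ⟨hNn, hNc⟩ := pPrimeCore_normal_and_coprime (G := G) p
  have hNp : ¬ p ∣ Nat.card (Cfsg.pPrimeCore p G) := by
    intro hdvd
    have := Nat.Coprime.eq_one_of_dvd hNc.symm hdvd
    exact hp.one_lt.ne' this
  have : Fintype (G ⧸ Cfsg.pPrimeCore p G) := Fintype.ofFinite _
  have : Fintype (Cfsg.IrrCharacter (G ⧸ Cfsg.pPrimeCore p G)) := Fintype.ofFinite _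
  have hbij := bijOn_inflIrr_principalBlock (M := M) (Cfsg.pPrimeCore p G) hM hNp
  -- (2)
  have h2 : ∑ᶠ χ ∈ Cfsg.principalBlock M G, Complex.normSq ((χ : G → ℂ) x)
      = ∑ᶠ ψ ∈ Cfsg.principalBlock M (G ⧸ Cfsg.pPrimeCore p G),
        Complex.normSq ((ψ : G ⧸ Cfsg.pPrimeCore p G → ℂ) (QuotientGroup.mk x)) := by
    symm
    exact finsum_mem_eq_of_bijOn (inflIrr (Cfsg.pPrimeCore p G)) hbij (fun ψ _ => rfl)
  -- (1)
  have h1 : ∃ n : ℕ, 0 < n ∧
      ∑ᶠ χ ∈ Cfsg.principalBlock M G, Complex.normSq ((χ : G → ℂ) x) = n := by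
    rw [finsum_mem_eq_sum_filter_lib]
    obtain ⟨S, hS⟩ : ∃ S : Finset (Cfsg.IrrCharacter G),
        S = Finset.univ.filter (· ∈ Cfsg.principalBlock M G) := ⟨_, rfl⟩
    rw [← hS]
    have hmem : ∀ χ, χ ∈ S ↔ χ ∈ Cfsg.principalBlock M G := fun χ => by rw [hS]; simp
    obtain ⟨z, hz⟩ := exists_int_sum_mul_conj_of_powIrr_stable S
      (fun k hk χ hχ => (hmem _).mpr (powIrr_mem_principalBlock hM k hk χ ((hmem χ).mp hχ))) x
    have hreal : (((∑ χ ∈ S, Complex.normSq ((χ : G → ℂ) x) : ℝ)) : ℂ) = (z : ℂ) := by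
      rw [← hz]
      push_cast
      apply Finset.sum_congr rfl
      intro χ _
      rw [Complex.mul_conj]
    have hzr : ∑ χ ∈ S, Complex.normSq ((χ : G → ℂ) x) = (z : ℝ) := by
      have := congrArg Complex.re hreal
      simpa using this
    have hone : oneIrr G ∈ S := (hmem _).mpr (oneIrr_mem_principalBlock hM)
    have hge : (1 : ℝ) ≤ ∑ χ ∈ S, Complex.normSq ((χ : G → ℂ) x) := by
      have h3 : Complex.normSq (((oneIrr G : Cfsg.IrrCharacter G) : G → ℂ) x) = 1 := by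
        change Complex.normSq (1 : ℂ) = 1
        simp
      calc (1 : ℝ) = Complex.normSq (((oneIrr G : Cfsg.IrrCharacter G) : G → ℂ) x) := h3.symm
        _ ≤ ∑ χ ∈ S, Complex.normSq ((χ : G → ℂ) x) :=
          Finset.single_le_sum (f := fun χ : Cfsg.IrrCharacter G => Complex.normSq ((χ : G → ℂ) x))
            (fun _ _ => Complex.normSq_nonneg _) hone
    rw [hzr] at hge ⊢
    have hz1 : 1 ≤ z := by exact_mod_cast hge
    refine ⟨z.toNat, by omega, ?_⟩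
    have : ((z.toNat : ℤ) : ℝ) = (z : ℝ) := by
      rw [Int.toNat_of_nonneg (by omega)]
    exact_mod_cast this.symm
  -- (3)
  have h3 : ∑ᶠ χ ∈ Cfsg.principalBlock M G, Complex.normSq ((χ : G → ℂ) x)
      ≤ (Nat.card ↥(Subgroup.centralizer
        ({(QuotientGroup.mk x : G ⧸ Cfsg.pPrimeCore p G)} : Set (G ⧸ Cfsg.pPrimeCore p G))) : ℝ) := by
    rw [h2, finsum_mem_eq_sum_filter_lib]
    have h4 := (sum_irr_mul_conj (QuotientGroup.mk x : G ⧸ Cfsg.pPrimeCore p G)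
      (QuotientGroup.mk x)).1 (IsConj.refl _)
    have h5 : ((∑ ψ : Cfsg.IrrCharacter (G ⧸ Cfsg.pPrimeCore p G),
        Complex.normSq ((ψ : G ⧸ Cfsg.pPrimeCore p G → ℂ) (QuotientGroup.mk x)) : ℝ) : ℂ)
        = ((Nat.card ↥(Subgroup.centralizer
        ({(QuotientGroup.mk x : G ⧸ Cfsg.pPrimeCore p G)} : Set (G ⧸ Cfsg.pPrimeCore p G))) : ℝ) : ℂ) := by
      push_cast
      rw [← h4]
      apply Finset.sum_congr rfl
      intro ψ _
      rw [Complex.mul_conj]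
    have h6 := Complex.ofReal_injective h5
    rw [← h6]
    exact Finset.sum_le_sum_of_subset_of_nonneg (Finset.filter_subset _ _)
      (fun _ _ _ => Complex.normSq_nonneg _)
  refine ⟨h1, h2, h3, ?_⟩
  -- (4)
  have hdeg : ∑ᶠ χ ∈ Cfsg.principalBlock M G, Cfsg.charDegree (χ : G → ℂ) ^ 2
      = ∑ᶠ ψ ∈ Cfsg.principalBlock M (G ⧸ Cfsg.pPrimeCore p G),
        Cfsg.charDegree (ψ : G ⧸ Cfsg.pPrimeCore p G → ℂ) ^ 2 := by
    symm
    apply finsum_mem_eq_of_bijOn (inflIrr (Cfsg.pPrimeCore p G)) hbij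
    intro ψ _
    unfold Cfsg.charDegree
    rfl
  rw [hdeg, finsum_mem_eq_sum_filter_lib]
  have hidx : (Cfsg.pPrimeCore p G).index = Nat.card (G ⧸ Cfsg.pPrimeCore p G) :=
    Subgroup.index_eq_card _
  have hall : ∑ ψ : Cfsg.IrrCharacter (G ⧸ Cfsg.pPrimeCore p G),
      Cfsg.charDegree (ψ : G ⧸ Cfsg.pPrimeCore p G → ℂ) ^ 2
      = Nat.card (G ⧸ Cfsg.pPrimeCore p G) := by
    have h4 := sum_sq_degree (G := G ⧸ Cfsg.pPrimeCore p G)
    have h5 : ((∑ ψ : Cfsg.IrrCharacter (G ⧸ Cfsg.pPrimeCore p G),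
        Cfsg.charDegree (ψ : G ⧸ Cfsg.pPrimeCore p G → ℂ) ^ 2 : ℕ) : ℂ)
        = (Nat.card (G ⧸ Cfsg.pPrimeCore p G) : ℂ) := by
      rw [← h4]
      push_cast
      apply Finset.sum_congr rfl
      intro ψ _
      rw [IsCharacter.apply_one_eq_charDegree (IsIrrCharacter.isCharacter ψ.2)]
    exact_mod_cast h5
  rw [hidx, ← hall]
  constructor
  · intro heq B hB
    -- all characters in principal block
    have hfil : Finset.univ.filter (· ∈ Cfsg.principalBlock M (G ⧸ Cfsg.pPrimeCore p G))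
        = (Finset.univ : Finset (Cfsg.IrrCharacter (G ⧸ Cfsg.pPrimeCore p G))) := by
      by_contra hne
      have hss : Finset.univ.filter (· ∈ Cfsg.principalBlock M (G ⧸ Cfsg.pPrimeCore p G))
          ⊂ (Finset.univ : Finset (Cfsg.IrrCharacter (G ⧸ Cfsg.pPrimeCore p G))) :=
        Finset.ssubset_iff_subset_ne.mpr ⟨Finset.filter_subset _ _, hne⟩
      obtain ⟨ψ, _, hψ⟩ := Finset.exists_of_ssubset hss
      have hlt := Finset.sum_lt_sum_of_subset (f := fun ψ : Cfsg.IrrCharacter (G ⧸ Cfsg.pPrimeCore p G) =>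
        Cfsg.charDegree (ψ : G ⧸ Cfsg.pPrimeCore p G → ℂ) ^ 2) hss.subset (Finset.mem_univ ψ) hψ
        (pow_pos (IsIrrCharacter.charDegree_pos ψ.2) 2) (fun _ _ _ => Nat.zero_le _)
      omega
    have hallmem : ∀ ψ : Cfsg.IrrCharacter (G ⧸ Cfsg.pPrimeCore p G),
        ψ ∈ Cfsg.principalBlock M (G ⧸ Cfsg.pPrimeCore p G) := by
      intro ψ
      have : ψ ∈ Finset.univ.filter (· ∈ Cfsg.principalBlock M (G ⧸ Cfsg.pPrimeCore p G)) := by
        rw [hfil]; exact Finset.mem_univ _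
      exact (Finset.mem_filter.mp this).2
    obtain ⟨χ₀, rfl⟩ := hB
    have h5 := hallmem χ₀
    have h6 : Cfsg.blockOf M (fun _ : G ⧸ Cfsg.pPrimeCore p G => (1 : ℂ))
        = Cfsg.blockOf M (χ₀ : G ⧸ Cfsg.pPrimeCore p G → ℂ) :=
      blockOf_eq_of_sameBlock hM h5
    exact h6.symm
  · intro hB
    congr 1
    apply Finset.filter_true_of_mem
    intro ψ _
    have h5 := hB (Cfsg.blockOf M (ψ : G ⧸ Cfsg.pPrimeCore p G → ℂ)) ⟨ψ, rfl⟩
    rw [← h5]
    exact sameBlock_refl hM _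

end Cfsg.Agent.S4735
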