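import Cfsg.Statements.S4736
import Mathlib
import Cfsg.Agent.Lib.Helper6.BlkUniqueBlock
import Cfsg.Agent.Lib.Helper6.BlkPrincipal
import Cfsg.Agent.Lib.Helper6.BlkPrincipalKer
import Cfsg.Agent.Lib.Helper6.BlkQuot4
import Cfsg.Agent.Lib.Helper6.BlkNormalP
import Cfsg.Agent.Lib.Helper6.BlkHeightTilde
import Cfsg.Agent.Lib.Helper1.PConstrainedOfPSolvable
import Cfsg.Agent.Lib.Helper1.PSolvSub
import Cfsg.Agent.Lib.Helper1.PCore
import Cfsg.Agent.Lib.Helper1.PLengthOne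
import Cfsg.Agent.Lib.Helper1.UpperPSeriesCentralizer
import Cfsg.Agent.Lib.Helper3.ItoConv

set_option autoImplicit false
open Cfsg

namespace Cfsg.Agent.S4736

open Cfsg.Agent.Lib.Helper6

/-- Let p be a prime, M a maximal ideal of the algebraic integers containing p, and G a finite p-solvable group with Sylow p-subgroup P. Then P is abelian if and only if every irreducible character in the principal p-block of G has height zero. -/
theorem result {G : Type*} [Group G] [Finite G] (p : ℕ) [Fact p.Prime] (M : Ideal Cfsg.AlgInt) (hM : Cfsg.IsPModular p M) (hsolv : Cfsg.IsPSolvable p G) (P : Sylow p G) : IsMulCommutative P ↔ ∀ χ ∈ Cfsg.principalBlock M G, Cfsg.blockHeight p (Cfsg.principalBlock M G) (χ : G → ℂ) = 0 := by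

  classical
  have : Fintype G := Fintype.ofFinite G
  have hp : p.Prime := Fact.out
  obtain ⟨K, hKdef⟩ : ∃ K : Subgroup G, K = Cfsg.pPrimeCore p G := ⟨_, rfl⟩
  haveI hKn : K.Normal := hKdef ▸ (inferInstance : (Cfsg.pPrimeCore p G).Normal)
  have hKcop : (Nat.card K).Coprime p := hKdef ▸ Cfsg.Agent.Lib.Helper1.pPrimeCore_card_coprime p
  have hbot : Cfsg.pPrimeCore p (G ⧸ K) = ⊥ :=
    Cfsg.Agent.Lib.Helper1.pPrimeCore_quotient_eq_bot_of_eq p K hKdef
  have hsolvQ : Cfsg.IsPSolvable p (G ⧸ K) :=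
    Cfsg.Agent.Lib.Helper1.isPSolvable_of_surjective p (QuotientGroup.mk' K)
      (QuotientGroup.mk'_surjective K) hsolv
  have hcent : Subgroup.centralizer (Cfsg.pCore p (G ⧸ K) : Set (G ⧸ K)) ≤ Cfsg.pCore p (G ⧸ K) :=
    Cfsg.Agent.Lib.Helper1.centralizer_pCore_le_of_isPSolvable hbot
      (Cfsg.Agent.Lib.Helper1.PSolvSub.isPSolvable_subgroup hsolvQ _)
  have : Fintype (G ⧸ K) := Fintype.ofFinite _
  have huniq : ∀ χ ψ : Cfsg.IrrCharacter (G ⧸ K),
      Cfsg.SameBlock M (χ : G ⧸ K → ℂ) (ψ : G ⧸ K → ℂ) :=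
    sameBlock_of_centralizer_le hM (Cfsg.pCore p (G ⧸ K))
      (Cfsg.Agent.Lib.Helper1.pCore_isPGroup p) hcent
  -- the principal block consists of the characters inflated from `G ⧸ K`
  have hinfl : ∀ β : Cfsg.IrrCharacter (G ⧸ K), inflIrr K β ∈ Cfsg.principalBlock M G := by
    intro β
    exact sameBlock_inflation K hM (oneIrr (G ⧸ K)) β (huniq _ _)
  have hdefl : ∀ χ ∈ Cfsg.principalBlock M G, ∃ β : Cfsg.IrrCharacter (G ⧸ K), χ = inflIrr K β := by
    intro χ hχ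
    obtain ⟨β, hβ⟩ := IsIrrCharacter.exists_deflation K χ (fun n hn =>
      apply_eq_apply_one_of_mem_principalBlock hM χ hχ n (hKdef ▸ hn))
    exact ⟨β, Subtype.ext hβ⟩
  have hdeg : ∀ β : Cfsg.IrrCharacter (G ⧸ K),
      Cfsg.charDegree (inflIrr K β : G → ℂ) = Cfsg.charDegree (β : G ⧸ K → ℂ) := by
    intro β
    unfold Cfsg.charDegree
    rw [inflIrr_apply, QuotientGroup.mk_one]
  have hone : oneIrr G ∈ Cfsg.principalBlock M G := by
    rw [principalBlock_eq]; exact sameBlock_refl hM _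
  have hht : ∀ χ ∈ Cfsg.principalBlock M G,
      (Cfsg.blockHeight p (Cfsg.principalBlock M G) (χ : G → ℂ) = 0 ↔
        ¬ p ∣ Cfsg.charDegree (χ : G → ℂ)) := by
    intro χ hχ
    have hd0 : Cfsg.charDegree (χ : G → ℂ) ≠ 0 := (IsIrrCharacter.charDegree_pos χ.2).ne'
    rw [blockHeight_eq_zero_iff (p := p) _ χ hχ]
    constructor
    · intro h hdvd
      have h1 := h (oneIrr G) hone
      have h2 : (Cfsg.charDegree ((oneIrr G : Cfsg.IrrCharacter G) : G → ℂ)) = 1 :=
        charDegree_one_fun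
      rw [h2, Nat.factorization_one, Finsupp.zero_apply, Nat.le_zero] at h1
      have := (hp.factorization_pos_of_dvd hd0 hdvd)
      omega
    · intro h ψ _
      rw [Nat.factorization_eq_zero_of_not_dvd h]
      exact Nat.zero_le _
  -- the image of `P` in the quotient
  let Pbar : Sylow p (G ⧸ K) := P.mapSurjective (QuotientGroup.mk'_surjective K)
  have hPbar : (Pbar : Subgroup (G ⧸ K)) = (P : Subgroup G).map (QuotientGroup.mk' K) :=
    Sylow.coe_mapSurjective _ _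
  constructor
  · intro hcomm χ hχ
    rw [hht χ hχ]
    obtain ⟨β, rfl⟩ := hdefl χ hχ
    rw [hdeg]
    have hPc : ∀ a ∈ (Pbar : Subgroup (G ⧸ K)), ∀ b ∈ (Pbar : Subgroup (G ⧸ K)), a * b = b * a := by
      intro a ha b hb
      rw [hPbar] at ha hb
      obtain ⟨x, hx, rfl⟩ := ha
      obtain ⟨y, hy, rfl⟩ := hb
      rw [← map_mul, ← map_mul]
      congr 1
      have h := hcomm.is_comm.comm (⟨x, hx⟩ : ↥(P : Subgroup G)) ⟨y, hy⟩
      exact congrArg Subtype.val h
    have hle1 : Cfsg.pCore p (G ⧸ K) ≤ (Pbar : Subgroup (G ⧸ K)) :=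
      Cfsg.Agent.Lib.Helper1.pCore_le_sylow p Pbar
    have hle2 : (Pbar : Subgroup (G ⧸ K)) ≤ Cfsg.pCore p (G ⧸ K) := by
      intro a ha
      apply hcent
      rw [Subgroup.mem_centralizer_iff]
      intro y hy
      exact hPc y (hle1 hy) a ha
    have heq : (Pbar : Subgroup (G ⧸ K)) = Cfsg.pCore p (G ⧸ K) := le_antisymm hle2 hle1
    have hnorm : (Pbar : Subgroup (G ⧸ K)).Normal := heq ▸ (inferInstance : (Cfsg.pCore p (G ⧸ K)).Normal)
    exact Cfsg.Agent.Lib.Helper3.ItoConv.not_dvd_charDegree_of_normal_abelian p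
      (Pbar : Subgroup (G ⧸ K)) hnorm hPc Pbar.not_dvd_index β
  · intro hall
    have hdegs : ∀ β : Cfsg.IrrCharacter (G ⧸ K), ¬ p ∣ Cfsg.charDegree (β : G ⧸ K → ℂ) := by
      intro β
      rw [← hdeg, ← hht _ (hinfl β)]
      exact hall _ (hinfl β)
    obtain ⟨-, hPc⟩ := (Cfsg.Agent.Lib.Helper3.ItoConv.sylow_normal_comm_iff p hsolvQ Pbar).mpr hdegs
    have hinf : K ⊓ (P : Subgroup G) = ⊥ := by
      apply (Subgroup.disjoint_of_coprime_natCard ?_).eq_bot
      obtain ⟨n, hn⟩ := IsPGroup.iff_card.mp P.2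
      rw [hn]
      exact Nat.Coprime.pow_right n hKcop
    refine ⟨⟨fun a b => ?_⟩⟩
    have h1 := hPc (QuotientGroup.mk' K (a : G)) (by rw [hPbar]; exact ⟨a, a.2, rfl⟩)
      (QuotientGroup.mk' K (b : G)) (by rw [hPbar]; exact ⟨b, b.2, rfl⟩)
    rw [← map_mul, ← map_mul, QuotientGroup.mk'_apply, QuotientGroup.mk'_apply,
      QuotientGroup.eq] at h1
    have h2 : ((a : G) * (b : G))⁻¹ * ((b : G) * (a : G)) ∈ K ⊓ (P : Subgroup G) :=
      ⟨h1, (P : Subgroup G).mul_mem ((P : Subgroup G).inv_mem ((P : Subgroup G).mul_mem a.2 b.2))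
        ((P : Subgroup G).mul_mem b.2 a.2)⟩
    rw [hinf, Subgroup.mem_bot, inv_mul_eq_one] at h2
    exact Subtype.ext h2


end Cfsg.Agent.S4736
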