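import Cfsg.Statements.S4738
import Mathlib
import Cfsg.Agent.Lib.Helper6.InvSylow2
import Cfsg.Agent.Lib.Helper6.Mult
import Cfsg.Agent.Lib.Helper6.Multiplicity

set_option autoImplicit false
open Cfsg

namespace Cfsg.Agent.S4738

open Cfsg.Agent.Lib.Helper6

/-- Let p be an odd prime and G a finite group of even order containing no element of order 2p. Then either G has an irreducible character of p-defect zero (its degree has the same p-part as the order of G), or every Sylow p-subgroup of G is abelian and all involutions of G are conjugate. -/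
theorem result {G : Type*} [Group G] [Finite G] (p : ℕ) [Fact p.Prime] (hp2 : p ≠ 2) (hG : Even (Nat.card G)) (h2p : ∀ g : G, orderOf g ≠ 2 * p) : (∃ χ : Cfsg.IrrCharacter G, (Cfsg.charDegree (χ : G → ℂ)).factorization p = (Nat.card G).factorization p) ∨ ((∀ P : Sylow p G, IsMulCommutative ↥(P : Subgroup G)) ∧ ∀ s t : G, orderOf s = 2 → orderOf t = 2 → IsConj s t) := by

  classical
  have : Fintype G := Fintype.ofFinite G
  haveI : Fact (Nat.Prime 2) := ⟨Nat.prime_two⟩
  have hp : p.Prime := Fact.out
  by_cases hno : ∃ χ : Cfsg.IrrCharacter G,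
      (Cfsg.charDegree (χ : G → ℂ)).factorization p = (Nat.card G).factorization p
  · exact Or.inl hno
  right
  push Not at hno
  have h2G : 2 ∣ Nat.card G := even_iff_two_dvd.mp hG
  -- `p` divides the order of `G`
  have hpG : p ∣ Nat.card G := by
    by_contra hpG
    apply hno ⟨fun _ => 1, isIrrCharacter_one⟩
    obtain ⟨k, hk⟩ := IsIrrCharacter.charDegree_dvd_card (isIrrCharacter_one (G := G))
    rw [Nat.factorization_eq_zero_of_not_dvd hpG, Nat.factorization_eq_zero_of_not_dvd]
    intro h
    apply hpG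
    rw [hk]
    exact Dvd.dvd.mul_right h k
  -- centralizers of nontrivial `p`-elements have odd order
  have hC : ∀ g : G, g ≠ 1 → (∃ k : ℕ, orderOf g = p ^ k) →
      Odd (Nat.card ↥(Subgroup.centralizer ({g} : Set G))) := by
    rintro u hu1 ⟨k, hk⟩
    by_contra hodd
    rw [Nat.not_odd_iff_even, even_iff_two_dvd] at hodd
    obtain ⟨t, ht⟩ := exists_prime_orderOf_dvd_card' 2 hodd
    have ht2 : orderOf (t : G) = 2 := by rw [Subgroup.orderOf_coe]; exact ht
    have hk0 : k ≠ 0 := by
      rintro rfl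
      rw [pow_zero, orderOf_eq_one_iff] at hk
      exact hu1 hk
    obtain ⟨m, rfl⟩ := Nat.exists_eq_succ_of_ne_zero hk0
    have hu' : orderOf (u ^ p ^ m) = p := by
      rw [orderOf_pow_of_dvd (pow_ne_zero _ hp.ne_zero) (by rw [hk]; exact pow_dvd_pow p (Nat.le_succ m)),
        hk, pow_succ, Nat.mul_div_cancel_left _ (pow_pos hp.pos m)]
    have hcomm : Commute (t : G) (u ^ p ^ m) := by
      have h1 : u * (t : G) = (t : G) * u :=
        Subgroup.mem_centralizer_iff.mp t.2 u (Set.mem_singleton u)
      exact (Commute.pow_right (show Commute (t : G) u from h1.symm) _)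
    have hco : (orderOf (t : G)).Coprime (orderOf (u ^ p ^ m)) := by
      rw [ht2, hu']
      exact (Nat.coprime_primes Nat.prime_two hp).mpr (Ne.symm hp2)
    have := hcomm.orderOf_mul_eq_mul_orderOf_of_coprime hco
    rw [ht2, hu'] at this
    exact h2p _ this
  constructor
  · intro P
    obtain ⟨s, hs⟩ := exists_prime_orderOf_dvd_card' 2 h2G
    obtain ⟨g, hg⟩ := exists_conj_inverting_sylow p hC hno s hs P
    exact ⟨⟨fun a b => Subtype.ext (commute_of_inverted (P : Subgroup G) _ hg a.2 b.2)⟩⟩
  · intro s t hs ht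
    obtain ⟨S⟩ : Nonempty (Sylow p G) := inferInstance
    obtain ⟨g, hg⟩ := exists_conj_inverting_sylow p hC hno s hs S
    obtain ⟨h, hh⟩ := exists_conj_inverting_sylow p hC hno t ht S
    obtain ⟨a, hadef⟩ : ∃ a, a = g * s * g⁻¹ := ⟨_, rfl⟩
    obtain ⟨b, hbdef⟩ : ∃ b, b = h * t * h⁻¹ := ⟨_, rfl⟩
    rw [← hadef] at hg
    rw [← hbdef] at hh
    have hss : s * s = 1 := by
      rw [← sq, ← hs, pow_orderOf_eq_one]
    have htt : t * t = 1 := by
      rw [← sq, ← ht, pow_orderOf_eq_one]
    have haa : a * a = 1 := by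
      calc a * a = g * (s * s) * g⁻¹ := by rw [hadef]; group
        _ = 1 := by rw [hss]; group
    have hbb : b * b = 1 := by
      calc b * b = h * (t * t) * h⁻¹ := by rw [hbdef]; group
        _ = 1 := by rw [htt]; group
    -- a nontrivial element of `S`
    have hScard : 1 < Nat.card (S : Subgroup G) := by
      rw [Sylow.card_eq_multiplicity]
      apply Nat.one_lt_pow _ hp.one_lt
      exact (hp.factorization_pos_of_dvd Nat.card_pos.ne' hpG).ne'
    obtain ⟨v', hv'⟩ := (Subgroup.ne_bot_iff_exists_ne_one).mp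
      ((Subgroup.one_lt_card_iff_ne_bot (S : Subgroup G)).mp hScard)
    have hv1 : (v' : G) ≠ 1 := fun h => hv' (Subtype.ext h)
    have hvS : (v' : G) ∈ (S : Subgroup G) := v'.2
    obtain ⟨k, hk⟩ := (IsPGroup.iff_orderOf.mp S.2) v'
    rw [← Subgroup.orderOf_coe] at hk
    have hodd := hC (v' : G) hv1 ⟨k, hk⟩
    have habmem : a * b ∈ Subgroup.centralizer ({(v' : G)} : Set G) := by
      rw [Subgroup.mem_centralizer_iff]
      intro w hw
      rw [Set.mem_singleton_iff] at hw
      subst hw
      have h1 := hh _ hvS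
      have h2 := hg _ ((S : Subgroup G).inv_mem hvS)
      rw [inv_inv] at h2
      calc (v' : G) * (a * b) = (a * (v' : G)⁻¹ * a⁻¹) * (a * b) := by rw [h2]
        _ = a * (v' : G)⁻¹ * b := by group
        _ = a * (b * (v' : G) * b⁻¹) * b := by rw [h1]
        _ = a * b * (v' : G) := by group
    have hdvd : orderOf (⟨a * b, habmem⟩ : Subgroup.centralizer ({(v' : G)} : Set G))
        ∣ Nat.card (Subgroup.centralizer ({(v' : G)} : Set G)) := orderOf_dvd_natCard _
    rw [Subgroup.orderOf_mk] at hdvd
    have hab : IsConj a b := isConj_of_odd_orderOf_mul haa hbb (Odd.of_dvd_nat hodd hdvd)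
    have hsa : IsConj s a := isConj_iff.mpr ⟨g, hadef.symm⟩
    have htb : IsConj t b := isConj_iff.mpr ⟨h, hbdef.symm⟩
    exact hsa.trans (hab.trans htb.symm)


end Cfsg.Agent.S4738
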