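import Cfsg.Statements.S4740
import Mathlib
import Cfsg.Agent.Lib.Helper6.ClassProd

set_option autoImplicit false
open Cfsg

namespace Cfsg.Agent.S4740

open Cfsg.Agent.Lib.Helper6

/-- Let p be an odd prime, G a finite group of even order, x an involution of G and P a subgroup of G of order p ^ c such that no conjugate of x inverts a non-identity element of P. If p ^ a is the p-part of the order of C_G(x), then some irreducible character of G has degree divisible by p ^ (c - a). -/
theorem result {G : Type*} [Group G] [Finite G] (p : ℕ) [Fact p.Prime] (hp2 : p ≠ 2) (hG : Even (Nat.card G)) (x : G) (hx : orderOf x = 2) (P : Subgroup G) (c : ℕ) (hP : Nat.card ↥P = p ^ c) (hinv : ∀ g : G, IsConj x g → ∀ z ∈ P, z ≠ 1 → g * z * g⁻¹ ≠ z⁻¹) (a : ℕ) (ha : (Nat.card ↥(Subgroup.centralizer ({x} : Set G))).factorization p = a) : ∃ χ : Cfsg.IrrCharacter G, p ^ (c - a) ∣ Cfsg.charDegree (χ : G → ℂ) := by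
  classical
  have : Fintype G := Fintype.ofFinite G
  have hpp : p.Prime := Fact.out
  by_contra hcon
  push Not at hcon
  have hca : a < c := by
    by_contra h
    have : c - a = 0 := by omega
    apply hcon (oneIrr G)
    rw [this, pow_zero]
    exact one_dvd _
  have hdeg : ∀ χ : Cfsg.IrrCharacter G,
      (Cfsg.charDegree (χ : G → ℂ)).factorization p ≤ c - a - 1 := by
    intro χ
    have hpos := IsIrrCharacter.charDegree_pos χ.2
    have h1 := hcon χ
    rw [hpp.pow_dvd_iff_le_factorization hpos.ne'] at h1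
    omega
  have hxx : x⁻¹ = x := by
    have h2 : x ^ 2 = 1 := by rw [← hx]; exact pow_orderOf_eq_one x
    have : x * x = 1 := by rw [← pow_two]; exact h2
    exact inv_eq_of_mul_eq_one_left this
  have hno : ∀ w ∈ P, w ≠ 1 → ∀ g h : G, g * x * g⁻¹ * (h * x⁻¹ * h⁻¹) ≠ w := by
    intro w hw hw1 g h heq
    rw [hxx] at heq
    have hu : (g * x * g⁻¹) * (g * x * g⁻¹) = 1 := by
      have : (g * x * g⁻¹) * (g * x * g⁻¹) = g * (x * x) * g⁻¹ := by group
      rw [this]
      have h2 : x * x = 1 := by
        rw [← pow_two, ← hx]; exact pow_orderOf_eq_one x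
      rw [h2]; group
    have hv : (h * x * h⁻¹) * (h * x * h⁻¹) = 1 := by
      have : (h * x * h⁻¹) * (h * x * h⁻¹) = h * (x * x) * h⁻¹ := by group
      rw [this]
      have h2 : x * x = 1 := by
        rw [← pow_two, ← hx]; exact pow_orderOf_eq_one x
      rw [h2]; group
    have hconj : IsConj x (g * x * g⁻¹) := isConj_iff.mpr ⟨g, rfl⟩
    generalize g * x * g⁻¹ = u at heq hu hconj
    generalize h * x * h⁻¹ = v at heq hv
    have huinv : u⁻¹ = u := inv_eq_of_mul_eq_one_left hu
    have hvinv : v⁻¹ = v := inv_eq_of_mul_eq_one_left hv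
    apply hinv u hconj w hw hw1
    rw [← heq, mul_inv_rev, huinv, hvinv]
    calc u * (u * v) * u = (u * u) * v * u := by group
      _ = v * u := by rw [hu, one_mul]
  have hdvd := pow_dvd_card_centralizer_of_no_products hpp x P c (c - a - 1) hP hdeg hno
  have hCpos : 0 < Nat.card (Subgroup.centralizer ({x} : Set G)) := Nat.card_pos
  rw [hpp.pow_dvd_iff_le_factorization hCpos.ne', ha] at hdvd
  omega

end Cfsg.Agent.S4740
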