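import Cfsg.Statements.S4742
import Mathlib
import Cfsg.Agent.Lib.Helper6.ClassProd

set_option autoImplicit false
open Cfsg

namespace Cfsg.Agent.S4742

open Cfsg.Agent.Lib.Helper6

/-- the core of the argument: without characters of `p`-defect zero, every element with a
`p'`-centralizer has two conjugates whose quotient is a nonidentity `p`-element -/
theorem exists_conj_quotient {G : Type*} [Group G] [Finite G] (p : ℕ) [Fact p.Prime]
    (hpG : p ∣ Nat.card G)
    (hnd : ∀ χ : Cfsg.IrrCharacter G,
      (Cfsg.charDegree (χ : G → ℂ)).factorization p ≠ (Nat.card G).factorization p)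
    (z : G) (hz : ¬ p ∣ Nat.card (Subgroup.centralizer ({z} : Set G))) :
    ∃ g h : G, IsConj z g ∧ IsConj z h ∧ g * h⁻¹ ≠ 1 ∧ ∃ k : ℕ, orderOf (g * h⁻¹) = p ^ k := by
  classical
  have : Fintype G := Fintype.ofFinite G
  have hpp : p.Prime := Fact.out
  by_contra hcon
  push Not at hcon
  have P : Sylow p G := default
  have hGpos : 0 < Nat.card G := Nat.card_pos
  obtain ⟨A, hA⟩ : ∃ A : ℕ, A = (Nat.card G).factorization p := ⟨_, rfl⟩
  have hA1 : 1 ≤ A := by
    rw [hA]
    exact (hpp.dvd_iff_one_le_factorization hGpos.ne').mp hpG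
  have hPcard : Nat.card (P : Subgroup G) = p ^ A := by
    rw [Sylow.card_eq_multiplicity, hA]
  have hdeg : ∀ χ : Cfsg.IrrCharacter G,
      (Cfsg.charDegree (χ : G → ℂ)).factorization p ≤ A - 1 := by
    intro χ
    have hpos := IsIrrCharacter.charDegree_pos χ.2
    have h1 : (Cfsg.charDegree (χ : G → ℂ)).factorization p ≤ A := by
      rw [hA]
      exact (Nat.factorization_le_iff_dvd hpos.ne' hGpos.ne').mpr
        (IsIrrCharacter.charDegree_dvd_card χ.2) p
    have h2 := hnd χ
    rw [← hA] at h2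
    omega
  have hno : ∀ w ∈ (P : Subgroup G), w ≠ 1 → ∀ g h : G,
      g * z * g⁻¹ * (h * z⁻¹ * h⁻¹) ≠ w := by
    intro w hw hw1 g h heq
    have e1 : h * z⁻¹ * h⁻¹ = (h * z * h⁻¹)⁻¹ := by group
    rw [e1] at heq
    have h3 := hcon (g * z * g⁻¹) (h * z * h⁻¹) (isConj_iff.mpr ⟨g, rfl⟩)
      (isConj_iff.mpr ⟨h, rfl⟩) (by rw [heq]; exact hw1)
    obtain ⟨k, hk⟩ := (P.2 ⟨w, hw⟩)
    have hk' : w ^ p ^ k = 1 := by
      have := congrArg Subtype.val hk
      simpa using this
    obtain ⟨j, _, hj⟩ := (Nat.dvd_prime_pow hpp).mp (orderOf_dvd_of_pow_eq_one hk')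
    exact h3 j (by rw [heq]; exact hj)
  have hdvd := pow_dvd_card_centralizer_of_no_products hpp z (P : Subgroup G) A (A - 1) hPcard
    hdeg hno
  have : A - (A - 1) = 1 := by omega
  rw [this, pow_one] at hdvd
  exact hz hdvd

/-- Let p ≠ q be primes dividing the order of the finite group G, and suppose the centralizer of every non-identity p-element of G has order prime to q. Then either G has an irreducible character of p-defect zero, or for every non-identity q-element z of G there are conjugates g, h of z such that g h⁻¹ is a non-identity p-element. -/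
theorem result {G : Type*} [Group G] [Finite G] (p q : ℕ) [Fact p.Prime] [Fact q.Prime] (hppq : p ≠ q) (hpG : p ∣ Nat.card G) (hqG : q ∣ Nat.card G) (hC : ∀ g : G, g ≠ 1 → (∃ k : ℕ, orderOf g = p ^ k) → ¬ q ∣ Nat.card ↥(Subgroup.centralizer ({g} : Set G))) : (∃ χ : Cfsg.IrrCharacter G, (Cfsg.charDegree (χ : G → ℂ)).factorization p = (Nat.card G).factorization p) ∨ ∀ z : G, z ≠ 1 → (∃ k : ℕ, orderOf z = q ^ k) → ∃ g h : G, IsConj z g ∧ IsConj z h ∧ g * h⁻¹ ≠ 1 ∧ ∃ k : ℕ, orderOf (g * h⁻¹) = p ^ k := by
  classical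
  have hpp : p.Prime := Fact.out
  have hqp : q.Prime := Fact.out
  by_cases hdz : ∃ χ : Cfsg.IrrCharacter G,
      (Cfsg.charDegree (χ : G → ℂ)).factorization p = (Nat.card G).factorization p
  · exact Or.inl hdz
  · right
    push Not at hdz
    intro z hz1 hzq
    apply exists_conj_quotient p hpG hdz z
    intro hdvd
    -- an element of order p in the centralizer of z
    obtain ⟨w, hw⟩ := exists_prime_orderOf_dvd_card' (G := Subgroup.centralizer ({z} : Set G)) p hdvd
    have hwo : orderOf (w : G) = p := by rw [Subgroup.orderOf_coe]; exact hw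
    have hw1 : (w : G) ≠ 1 := by
      intro h
      rw [h, orderOf_one] at hwo
      exact hpp.one_lt.ne hwo
    have hcomm : z * (w : G) = (w : G) * z := by
      have := Subgroup.mem_centralizer_iff.mp w.2 z (Set.mem_singleton z)
      exact this
    have hzC : z ∈ Subgroup.centralizer ({(w : G)} : Set G) := by
      rw [Subgroup.mem_centralizer_iff]
      intro y hy
      rw [Set.mem_singleton_iff] at hy
      rw [hy]
      exact hcomm.symm
    apply hC (w : G) hw1 ⟨1, by rw [hwo, pow_one]⟩
    obtain ⟨k, hk⟩ := hzq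
    have hk0 : k ≠ 0 := by
      rintro rfl
      rw [pow_zero, orderOf_eq_one_iff] at hk
      exact hz1 hk
    have h1 : orderOf (⟨z, hzC⟩ : Subgroup.centralizer ({(w : G)} : Set G)) = q ^ k := by
      rw [← Subgroup.orderOf_coe]
      exact hk
    have h2 := orderOf_dvd_natCard (⟨z, hzC⟩ : Subgroup.centralizer ({(w : G)} : Set G))
    rw [h1] at h2
    exact dvd_trans (dvd_pow_self q hk0) h2

end Cfsg.Agent.S4742
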