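import Cfsg.Statements.S4743
import Mathlib
import Cfsg.Agent.Lib.Helper6.ClassProd
import Cfsg.Agent.S4742

set_option autoImplicit false
open Cfsg

namespace Cfsg.Agent.S4743

open Cfsg.Agent.Lib.Helper6

/-- a normal subgroup of order divisible by `r` but not by `r'` forces a character of
`r'`-defect zero -/
theorem exists_defect_zero_of_normal {G : Type*} [Group G] [Finite G] (r r' : ℕ) [Fact r.Prime]
    [Fact r'.Prime] (hr'G : r' ∣ Nat.card G)
    (hsym : ∀ g : G, ¬ (r ∣ orderOf g ∧ r' ∣ orderOf g))
    (N : Subgroup G) [N.Normal] (h1 : ¬ r' ∣ Nat.card N) (h2 : r ∣ Nat.card N) :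
    ∃ χ : Cfsg.IrrCharacter G,
      (Cfsg.charDegree (χ : G → ℂ)).factorization r' = (Nat.card G).factorization r' := by
  classical
  have hr : r.Prime := Fact.out
  have hr' : r'.Prime := Fact.out
  by_contra hcon
  push Not at hcon
  obtain ⟨w, hw⟩ := exists_prime_orderOf_dvd_card' (G := N) r h2
  have hwo : orderOf (w : G) = r := by rw [Subgroup.orderOf_coe]; exact hw
  have hC : ¬ r' ∣ Nat.card (Subgroup.centralizer ({(w : G)} : Set G)) := by
    intro hdvd
    obtain ⟨z, hz⟩ := exists_prime_orderOf_dvd_card'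
      (G := Subgroup.centralizer ({(w : G)} : Set G)) r' hdvd
    have hzo : orderOf (z : G) = r' := by rw [Subgroup.orderOf_coe]; exact hz
    have hcomm : Commute (w : G) (z : G) :=
      Subgroup.mem_centralizer_iff.mp z.2 (w : G) (Set.mem_singleton _)
    have hne : r ≠ r' := by
      rintro rfl
      apply hcon (oneIrr G) |>.elim
      exfalso
      -- r divides |N| but r' = r does not
      exact h1 h2
    have hcop : Nat.Coprime (orderOf (w : G)) (orderOf (z : G)) := by
      rw [hwo, hzo]
      exact (Nat.coprime_primes hr hr').mpr hne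
    have hord := hcomm.orderOf_mul_eq_mul_orderOf_of_coprime hcop
    apply hsym ((w : G) * (z : G))
    rw [hord, hwo, hzo]
    exact ⟨dvd_mul_right _ _, dvd_mul_left _ _⟩
  obtain ⟨g, h, hg, hh, hne, k, hk⟩ :=
    Cfsg.Agent.S4742.exists_conj_quotient r' hr'G hcon (w : G) hC
  have hgN : g ∈ N := by
    obtain ⟨c, hc⟩ := isConj_iff.mp hg
    rw [← hc]
    exact Subgroup.Normal.conj_mem inferInstance _ w.2 c
  have hhN : h ∈ N := by
    obtain ⟨c, hc⟩ := isConj_iff.mp hh
    rw [← hc]
    exact Subgroup.Normal.conj_mem inferInstance _ w.2 c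
  have hmem : g * h⁻¹ ∈ N := N.mul_mem hgN (N.inv_mem hhN)
  have hk0 : k ≠ 0 := by
    rintro rfl
    rw [pow_zero, orderOf_eq_one_iff] at hk
    exact hne hk
  have h3 := orderOf_dvd_natCard (⟨g * h⁻¹, hmem⟩ : N)
  rw [← Subgroup.orderOf_coe] at h3
  simp only at h3
  rw [hk] at h3
  exact h1 (dvd_trans (dvd_pow_self r' hk0) h3)

theorem chain_defect_zero {G : Type*} [Group G] [Finite G] (r r' : ℕ) [Fact r.Prime]
    [Fact r'.Prime] (hrG : r ∣ Nat.card G) (hr'G : r' ∣ Nat.card G)
    (hsym : ∀ g : G, ¬ (r ∣ orderOf g ∧ r' ∣ orderOf g))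
    (hsolv : Cfsg.IsPSolvable r G) :
    (∃ χ : Cfsg.IrrCharacter G,
      (Cfsg.charDegree (χ : G → ℂ)).factorization r = (Nat.card G).factorization r) ∨
    (∃ χ : Cfsg.IrrCharacter G,
      (Cfsg.charDegree (χ : G → ℂ)).factorization r' = (Nat.card G).factorization r') := by
  classical
  have hr : r.Prime := Fact.out
  have hr' : r'.Prime := Fact.out
  obtain ⟨n, H, h0, hlast, hmono, hnorm, hfac⟩ := hsolv
  -- find the first step where r or r' enters
  have hstep : ∃ i : Fin n, ¬ (r ∣ Nat.card (H i.castSucc) ∨ r' ∣ Nat.card (H i.castSucc)) ∧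
      (r ∣ Nat.card (H i.succ) ∨ r' ∣ Nat.card (H i.succ)) := by
    by_contra hcon
    push Not at hcon
    have hall : ∀ k : Fin (n + 1), ¬ (r ∣ Nat.card (H k) ∨ r' ∣ Nat.card (H k)) := by
      intro k
      induction k using Fin.induction with
      | zero =>
        rw [h0, Subgroup.card_bot]
        rintro (h | h)
        · exact hr.one_lt.ne' (Nat.dvd_one.mp h)
        · exact hr'.one_lt.ne' (Nat.dvd_one.mp h)
      | succ i ih =>
        intro hbad
        have := hcon i (not_or.mp ih)
        rcases hbad with h | h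
        · exact this.1 h
        · exact this.2 h
    apply hall (Fin.last n)
    left
    rw [hlast, Subgroup.card_top]
    exact hrG
  obtain ⟨i, hgood, hbad⟩ := hstep
  push Not at hgood
  have hle : H i.castSucc ≤ H i.succ := hmono (Fin.castSucc_lt_succ (i := i)).le
  have hcard : Nat.card (H i.castSucc) * (H i.castSucc).relIndex (H i.succ)
      = Nat.card (H i.succ) := by
    have := Subgroup.relIndex_mul_relIndex (⊥ : Subgroup G) (H i.castSucc) (H i.succ) bot_le hle
    rw [Subgroup.relIndex_bot_left, Subgroup.relIndex_bot_left] at this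
    exact this
  haveI := hnorm i.succ
  rcases hfac i with ⟨m, hm⟩ | hcop
  · -- an r-factor: H (i+1) has order prime to r' and divisible by r
    rw [hm] at hcard
    have hnr' : ¬ r' ∣ Nat.card (H i.succ) := by
      rw [← hcard]
      intro h
      rcases (Nat.Prime.dvd_mul hr').mp h with h | h
      · exact hgood.2 h
      · have := hr'.dvd_of_dvd_pow h
        have heq := (Nat.prime_dvd_prime_iff_eq hr' hr).mp this
        apply hsym 1
        rw [orderOf_one]
        exfalso
        -- r' = r: then r' divides |H (i+1)| iff r does; but the symmetric hypothesis fails on an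
        -- element of order r
        obtain ⟨w, hw⟩ := exists_prime_orderOf_dvd_card' (G := G) r hrG
        exact hsym w ⟨by rw [hw], by rw [hw, heq]⟩
    have hrd : r ∣ Nat.card (H i.succ) := by
      rcases hbad with h | h
      · exact h
      · exact absurd h hnr'
    exact Or.inr (exists_defect_zero_of_normal r r' hr'G hsym (H i.succ) hnr' hrd)
  · -- an r'-factor: H (i+1) has order prime to r and divisible by r'
    have hnr : ¬ r ∣ Nat.card (H i.succ) := by
      rw [← hcard]
      intro h
      rcases (Nat.Prime.dvd_mul hr).mp h with h | h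
      · exact hgood.1 h
      · exact (Nat.Prime.coprime_iff_not_dvd hr).mp hcop.symm h
    have hr'd : r' ∣ Nat.card (H i.succ) := by
      rcases hbad with h | h
      · exact absurd h hnr
      · exact h
    have hsym' : ∀ g : G, ¬ (r' ∣ orderOf g ∧ r ∣ orderOf g) := fun g h => hsym g ⟨h.2, h.1⟩
    exact Or.inl (exists_defect_zero_of_normal r' r hrG hsym' (H i.succ) hnr hr'd)

/-- Let p ≠ q be primes dividing the order of the finite group G, suppose the centralizer of every non-identity p-element has order prime to q, and suppose G is p-solvable or q-solvable. Then G has an irreducible character of p-defect zero or an irreducible character of q-defect zero. -/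
theorem result {G : Type*} [Group G] [Finite G] (p q : ℕ) [Fact p.Prime] [Fact q.Prime] (hppq : p ≠ q) (hpG : p ∣ Nat.card G) (hqG : q ∣ Nat.card G) (hC : ∀ g : G, g ≠ 1 → (∃ k : ℕ, orderOf g = p ^ k) → ¬ q ∣ Nat.card ↥(Subgroup.centralizer ({g} : Set G))) (hsolv : Cfsg.IsPSolvable p G ∨ Cfsg.IsPSolvable q G) : (∃ χ : Cfsg.IrrCharacter G, (Cfsg.charDegree (χ : G → ℂ)).factorization p = (Nat.card G).factorization p) ∨ (∃ χ : Cfsg.IrrCharacter G, (Cfsg.charDegree (χ : G → ℂ)).factorization q = (Nat.card G).factorization q) := by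
  classical
  have hpp : p.Prime := Fact.out
  have hqp : q.Prime := Fact.out
  have hsym : ∀ g : G, ¬ (p ∣ orderOf g ∧ q ∣ orderOf g) := by
    rintro g ⟨h1, h2⟩
    have hpos : 0 < orderOf g := orderOf_pos g
    have hw := orderOf_pow_orderOf_div (x := g) hpos.ne' h1
    have hz := orderOf_pow_orderOf_div (x := g) hpos.ne' h2
    have hw1 : g ^ (orderOf g / p) ≠ 1 := by
      intro h
      rw [h, orderOf_one] at hw
      exact hpp.one_lt.ne hw
    apply hC (g ^ (orderOf g / p)) hw1 ⟨1, by rw [hw, pow_one]⟩
    have hzC : g ^ (orderOf g / q) ∈ Subgroup.centralizer ({g ^ (orderOf g / p)} : Set G) := by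
      rw [Subgroup.mem_centralizer_iff]
      intro y hy
      rw [Set.mem_singleton_iff] at hy
      rw [hy]
      exact ((Commute.refl g).pow_pow _ _).eq
    have h3 := orderOf_dvd_natCard
      (⟨_, hzC⟩ : Subgroup.centralizer ({g ^ (orderOf g / p)} : Set G))
    rw [← Subgroup.orderOf_coe] at h3
    simp only at h3
    rw [hz] at h3
    exact h3
  rcases hsolv with hs | hs
  · exact chain_defect_zero p q hpG hqG hsym hs
  · have hsym' : ∀ g : G, ¬ (q ∣ orderOf g ∧ p ∣ orderOf g) := fun g h => hsym g ⟨h.2, h.1⟩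
    exact (chain_defect_zero q p hqG hpG hsym' hs).symm

end Cfsg.Agent.S4743
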