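import Cfsg.Statements.S4744
import Mathlib
import Cfsg.Agent.Lib.Helper6.InvSylow2

set_option autoImplicit false
open Cfsg

namespace Cfsg.Agent.S4744

open Cfsg.Agent.Lib.Helper6

/-- Let p be an odd prime and G a finite group of even order divisible by p in which the centralizer of every non-identity p-element has odd order. Then either G has an irreducible character of p-defect zero, or the normalizer of every Sylow p-subgroup P of G has even order and P is abelian. -/
theorem result {G : Type*} [Group G] [Finite G] (p : ℕ) [Fact p.Prime] (hp2 : p ≠ 2) (hpG : p ∣ Nat.card G) (h2G : 2 ∣ Nat.card G) (hC : ∀ g : G, g ≠ 1 → (∃ k : ℕ, orderOf g = p ^ k) → Odd (Nat.card ↥(Subgroup.centralizer ({g} : Set G)))) : (∃ χ : Cfsg.IrrCharacter G, (Cfsg.charDegree (χ : G → ℂ)).factorization p = (Nat.card G).factorization p) ∨ ∀ P : Sylow p G, Even (Nat.card ↥(Subgroup.normalizer ((P : Subgroup G) : Set G))) ∧ IsMulCommutative ↥(P : Subgroup G) := by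

  classical
  haveI : Fact (Nat.Prime 2) := ⟨Nat.prime_two⟩
  by_cases hno : ∃ χ : Cfsg.IrrCharacter G,
      (Cfsg.charDegree (χ : G → ℂ)).factorization p = (Nat.card G).factorization p
  · exact Or.inl hno
  · right
    push Not at hno
    intro P
    obtain ⟨s, hs⟩ := exists_prime_orderOf_dvd_card' 2 h2G
    obtain ⟨g, hg⟩ := exists_conj_inverting_sylow p hC hno s hs P
    obtain ⟨x, hxdef⟩ : ∃ x, x = g * s * g⁻¹ := ⟨_, rfl⟩
    rw [← hxdef] at hg
    have hss : s * s = 1 := by
      rw [← sq, ← hs, pow_orderOf_eq_one]
    have hs1 : s ≠ 1 := by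
      intro h
      rw [h, orderOf_one] at hs
      omega
    have hxx : x * x = 1 := by
      calc x * x = g * (s * s) * g⁻¹ := by rw [hxdef]; group
        _ = 1 := by rw [hss]; group
    have hx1 : x ≠ 1 := by
      intro hx
      apply hs1
      calc s = g⁻¹ * x * g := by rw [hxdef]; group
        _ = 1 := by rw [hx]; group
    have hxinv : x⁻¹ = x := inv_eq_of_mul_eq_one_left hxx
    have hx2 : orderOf x = 2 := by
      apply orderOf_eq_prime
      · rw [sq]; exact hxx
      · exact hx1
    constructor
    · have hxN : x ∈ Subgroup.normalizer ((P : Subgroup G) : Set G) := by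
        rw [Subgroup.mem_normalizer_iff]
        intro v
        constructor
        · intro hv
          rw [hg v hv]
          exact (P : Subgroup G).inv_mem hv
        · intro hv
          have h1 := hg _ hv
          have h2 : x * (x * v * x⁻¹) * x⁻¹ = v := by
            calc x * (x * v * x⁻¹) * x⁻¹ = (x * x) * v * (x * x)⁻¹ := by group
              _ = v := by rw [hxx]; simp
          rw [h2] at h1
          rw [h1]
          exact (P : Subgroup G).inv_mem hv
      have hdvd : orderOf (⟨x, hxN⟩ : Subgroup.normalizer ((P : Subgroup G) : Set G))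
          ∣ Nat.card (Subgroup.normalizer ((P : Subgroup G) : Set G)) := orderOf_dvd_natCard _
      rw [Subgroup.orderOf_mk, hx2] at hdvd
      exact even_iff_two_dvd.mpr hdvd
    · exact ⟨⟨fun a b => Subtype.ext (commute_of_inverted (P : Subgroup G) x hg a.2 b.2)⟩⟩


end Cfsg.Agent.S4744
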