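import Cfsg.Statements.S4746
import Cfsg.Agent.Lib.Helper3.RV1

set_option autoImplicit false
open Cfsg

namespace Cfsg.Agent.S4746

/-- Let p be an odd prime and G a finite group of even order divisible by p in which the centralizer of every non-identity p-element has odd order. Then G has an irreducible character of p-defect zero or an irreducible character of even degree. -/
theorem result {G : Type*} [Group G] [Finite G] (p : ℕ) [Fact p.Prime] (hp2 : p ≠ 2) (hpG : p ∣ Nat.card G) (h2G : 2 ∣ Nat.card G) (hC : ∀ g : G, g ≠ 1 → (∃ k : ℕ, orderOf g = p ^ k) → Odd (Nat.card ↥(Subgroup.centralizer ({g} : Set G)))) : (∃ χ : Cfsg.IrrCharacter G, (Cfsg.charDegree (χ : G → ℂ)).factorization p = (Nat.card G).factorization p) ∨ ∃ χ : Cfsg.IrrCharacter G, Even (Cfsg.charDegree (χ : G → ℂ)) := by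
  classical
  by_cases hno : ∃ χ : Cfsg.IrrCharacter G,
      (Cfsg.charDegree (χ : G → ℂ)).factorization p = (Nat.card G).factorization p
  · exact Or.inl hno
  · right
    push Not at hno
    haveI : Fact (Nat.Prime 2) := ⟨Nat.prime_two⟩
    obtain ⟨s, hs⟩ := exists_prime_orderOf_dvd_card' 2 h2G
    obtain ⟨P⟩ : Nonempty (Sylow p G) := inferInstance
    obtain ⟨g, hg⟩ := Cfsg.Agent.Lib.Helper6.exists_conj_inverting_sylow p hC hno s hs P
    have hPne : (P : Subgroup G) ≠ ⊥ := Sylow.ne_bot_of_dvd_card P hpG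
    obtain ⟨x, hxP, hx1⟩ : ∃ x : G, x ∈ (P : Subgroup G) ∧ x ≠ 1 := by
      obtain ⟨y, hy⟩ := (Subgroup.ne_bot_iff_exists_ne_one).mp hPne
      exact ⟨(y : G), y.2, fun h => hy (Subtype.ext h)⟩
    have hpx : ∃ k : ℕ, orderOf x = p ^ k := by
      obtain ⟨k, hk⟩ := (IsPGroup.iff_orderOf.mp P.isPGroup') ⟨x, hxP⟩
      refine ⟨k, ?_⟩
      rw [← hk]
      exact (Subgroup.orderOf_mk x hxP).symm
    have hodd := hC x hx1 hpx
    have hreal : IsConj x x⁻¹ := isConj_iff.mpr ⟨g * s * g⁻¹, hg x hxP⟩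
    exact Cfsg.Agent.Lib.Helper3.RV.exists_even_degree_of_real_of_odd_centralizer x hx1 hreal hodd

end Cfsg.Agent.S4746
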