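import Cfsg.Statements.S4751
import Cfsg.Agent.Lib.Helper3.RU7
import Cfsg.Agent.Lib.Helper3.RU10
import Cfsg.Agent.Lib.Helper1.PCore
import Cfsg.Agent.Lib.Helper6.FiniteOrder

set_option autoImplicit false
open Cfsg

namespace Cfsg.Agent.S4751

/-- Let χ be a faithful, non-linear irreducible character of the finite group G (χ g = χ 1 only for g = 1, χ 1 ≠ 1) whose value at every element of order divisible by p is a root of unity, and suppose P = O_p(G) ≠ 1. Then either P is an elementary abelian Sylow p-subgroup of G, C_G(P) is the internal direct product of P and Z(G), G acts transitively by conjugation on the non-principal linear characters of P, and χ 1 = |P| − 1; or p = 2 and G is the internal direct product of a subgroup isomorphic to the symmetric group S₄ and the centre Z(G), which has odd order. -/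
theorem result {G : Type*} [Group G] [Finite G] (p : ℕ) [Fact p.Prime] (χ : Cfsg.IrrCharacter G) (hfaith : ∀ g : G, (χ : G → ℂ) g = (χ : G → ℂ) 1 → g = 1) (hnl : (χ : G → ℂ) 1 ≠ 1) (hroot : ∀ g : G, p ∣ orderOf g → ∃ n : ℕ, 0 < n ∧ ((χ : G → ℂ) g) ^ n = 1) (hP : Cfsg.pCore p G ≠ ⊥) : ((Nat.card ↥(Cfsg.pCore p G)).factorization p = (Nat.card G).factorization p ∧ Cfsg.IsElementaryAbelian p (Cfsg.pCore p G) ∧ Subgroup.centralizer ((Cfsg.pCore p G : Subgroup G) : Set G) = Cfsg.pCore p G ⊔ Subgroup.center G ∧ Cfsg.pCore p G ⊓ Subgroup.center G = ⊥ ∧ (∀ lam mu : ↥(Cfsg.pCore p G) → ℂ, Cfsg.IsCharacter ↥(Cfsg.pCore p G) lam → lam 1 = 1 → lam ≠ (fun _ => (1 : ℂ)) → Cfsg.IsCharacter ↥(Cfsg.pCore p G) mu → mu 1 = 1 → mu ≠ (fun _ => (1 : ℂ)) → ∃ g : G, ∀ (x : G) (hx : x ∈ Cfsg.pCore p G) (hgx : g * x * g⁻¹ ∈ Cfsg.pCore p G), mu ⟨x, hx⟩ = lam ⟨g * x * g⁻¹, hgx⟩) ∧ (χ : G → ℂ) 1 = (Nat.card ↥(Cfsg.pCore p G) : ℂ) - 1) ∨ (p = 2 ∧ Odd (Nat.card ↥(Subgroup.center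 G)) ∧ ∃ H : Subgroup G, Nonempty (↥H ≃* Equiv.Perm (Fin 4)) ∧ H ⊓ Subgroup.center G = ⊥ ∧ H ⊔ Subgroup.center G = ⊤) := by
  classical
  have : Fintype G := Fintype.ofFinite G
  obtain ⟨P, hPdef⟩ : ∃ P, P = Cfsg.pCore p G := ⟨_, rfl⟩
  rw [← hPdef] at hP ⊢
  have : Fintype P := Fintype.ofFinite _
  have hPn : P.Normal := hPdef ▸ Cfsg.Agent.Lib.Helper1.pCore_normal p
  have hPp : IsPGroup p P := hPdef ▸ Cfsg.Agent.Lib.Helper1.pCore_isPGroup p
  have hsing : ∀ g : G, p ∣ orderOf g → Complex.normSq ((χ : G → ℂ) g) = 1 := by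
    intro g hg
    obtain ⟨n, hn, hpow⟩ := hroot g hg
    have := Cfsg.Agent.Lib.Helper6.norm_eq_one_of_pow_eq_one hn hpow
    rw [Complex.normSq_eq_norm_sq, this]
    norm_num
  have hcore : Cfsg.Agent.Lib.Helper3.RU.Core p (χ : G → ℂ) P :=
    Cfsg.Agent.Lib.Helper3.RU.core_of_hyps P χ.2 hfaith hnl hsing hPn hPp hP
  obtain ⟨S⟩ : Nonempty (Sylow p G) := inferInstance
  have hPS : P ≤ (S : Subgroup G) := hPdef ▸ Cfsg.Agent.Lib.Helper1.pCore_le_sylow p S
  have : Fintype (S : Subgroup G) := Fintype.ofFinite _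
  -- involutions of the centre lie in `P`
  have hZP : ∀ z ∈ Subgroup.center G, z ^ p = 1 → z ∈ P := by
    intro z hz hzp
    have hle : Subgroup.zpowers z ≤ Subgroup.center G := (Subgroup.zpowers_le).mpr hz
    have hnorm : (Subgroup.zpowers z).Normal := by
      constructor
      intro x hx g
      have hxc := Subgroup.mem_center_iff.mp (hle hx) g
      have : g * x * g⁻¹ = x := by rw [hxc]; group
      rw [this]; exact hx
    have hpg : IsPGroup p (Subgroup.zpowers z) := by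
      rintro ⟨g, hg⟩
      obtain ⟨i, rfl⟩ := Subgroup.mem_zpowers_iff.mp hg
      refine ⟨1, ?_⟩
      apply Subtype.ext
      simp only [pow_one, Subgroup.coe_pow, Subgroup.coe_one]
      rw [← zpow_natCast, ← zpow_mul, mul_comm, zpow_mul, zpow_natCast, hzp, one_zpow]
    have := Cfsg.Agent.Lib.Helper1.le_pCore hnorm hpg
    rw [← hPdef] at this
    exact this (Subgroup.mem_zpowers z)
  rcases hcore.card_pgroup S hPS S.isPGroup' with hS | ⟨hp2, hS⟩
  · left
    refine ⟨?_, ⟨⟨⟨fun a b => Subtype.ext (hcore.comm a a.2 b b.2)⟩⟩, hcore.exponent⟩,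
      hcore.centralizer_eq, hcore.inf_center, ?_, hcore.deg⟩
    · rw [← hS, S.card_eq_multiplicity, Nat.Prime.factorization_pow Fact.out]
      simp
    · intro lam mu hlam hlam1 hlamne hmu hmu1 hmune
      obtain ⟨g, hg⟩ := hcore.trans hlam hlam1 hlamne hmu hmu1 hmune
      refine ⟨g, ?_⟩
      intro x hx hgx
      rw [hg, Cfsg.Agent.Lib.Helper6.conjFun_apply]
  · right
    subst hp2
    have h4 := hcore.card_eq_four S hPS S.isPGroup' hS
    obtain ⟨t, htS, htP, htt, -⟩ := Cfsg.Agent.Lib.Helper3.RU.exists_outside_of_card_two (S : Subgroup G) hPS hS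
    have hodd' : ∀ z ∈ Subgroup.center G, z * z = 1 → z = 1 := by
      intro z hz hzz
      have h1 : z ∈ P ⊓ Subgroup.center G := ⟨hZP z hz (by rw [pow_two]; exact hzz), hz⟩
      rw [hcore.inf_center, Subgroup.mem_bot] at h1
      exact h1
    have hZodd : Odd (Nat.card ↥(Subgroup.center G)) := by
      rw [← Nat.not_even_iff_odd, even_iff_two_dvd]
      intro hdvd
      obtain ⟨z, hz⟩ := exists_prime_orderOf_dvd_card' 2 hdvd
      have hzz : (z : G) * z = 1 := by
        have h1 : z ^ 2 = 1 := by rw [← hz]; exact pow_orderOf_eq_one z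
        have h2 : ((z ^ 2 : Subgroup.center G) : G) = 1 := by rw [h1]; rfl
        rw [← pow_two]
        exact_mod_cast h2
      have h3 := hodd' z z.2 hzz
      have h4 : z = 1 := Subtype.ext h3
      rw [h4, orderOf_one] at hz
      norm_num at hz
    have hfs : Cfsg.Agent.Lib.Helper3.RU.FourSetup P :=
      ⟨hPn, h4, fun x hx => by rw [← pow_two]; exact hcore.exponent x hx,
        hcore.centralizer_eq, hcore.inf_center, hodd'⟩
    obtain ⟨H, hH1, hH2, hH3⟩ := hfs.exists_S4 htP htt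
    exact ⟨rfl, hZodd, H, hH1, hH2, hH3⟩

end Cfsg.Agent.S4751
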