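import Cfsg.Statements.S4754
import Mathlib
import Cfsg.Agent.Lib.Helper6.ClassMult
import Cfsg.Agent.Lib.Helper6.SecondOrth
-- import your own Cfsg.Agent.* helpers here

set_option autoImplicit false
open Cfsg

namespace Cfsg.Agent.S4754

open Cfsg.Agent.Lib.Helper6


theorem result' {G : Type*} [Group G] [Finite G] (x y : G) : (∀ z : G, IsConj (x * y) z ↔ ∃ a b : G, z = a * x * a⁻¹ * (b * y * b⁻¹)) ↔ ∀ (a b : G) (χ : Cfsg.IrrCharacter G), (χ : G → ℂ) 1 * (χ : G → ℂ) (a * x * a⁻¹ * (b * y * b⁻¹)) = (χ : G → ℂ) x * (χ : G → ℂ) y := by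
  have : Fintype G := Fintype.ofFinite G
  have hcard : (Nat.card G : ℂ) ≠ 0 := card_ne_zero_complex G
  constructor
  · intro h a b χ
    have hχ1 : (χ : G → ℂ) 1 ≠ 0 := IsIrrCharacter.apply_one_ne_zero χ.2
    have hconst : ∀ z : G, (∃ a b : G, z = a * x * a⁻¹ * (b * y * b⁻¹)) →
        (χ : G → ℂ) z = (χ : G → ℂ) (x * y) := by
      intro z hz
      exact ((isConj_iff_forall_irr _ _).1 ((h z).2 hz) χ).symm
    have hsum := IsIrrCharacter.sum_conj_mul χ.2 x y
    have h2 : ∀ g : G, (χ : G → ℂ) (g * x * g⁻¹ * y) = (χ : G → ℂ) (x * y) := by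
      intro g
      apply hconst
      exact ⟨g, 1, by group⟩
    rw [Finset.sum_congr rfl (fun g _ => h2 g), Finset.sum_const, Finset.card_univ,
      ← Nat.card_eq_fintype_card, nsmul_eq_mul] at hsum
    rw [hconst _ ⟨a, b, rfl⟩]
    field_simp at hsum
    rw [mul_comm]; exact hsum
  · intro h z
    constructor
    · intro hz
      obtain ⟨c, hc⟩ := isConj_iff.1 hz
      refine ⟨c, c, ?_⟩
      rw [← hc]; group
    · rintro ⟨a, b, rfl⟩
      rw [isConj_iff_forall_irr]
      intro χ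
      have hχ1 : (χ : G → ℂ) 1 ≠ 0 := IsIrrCharacter.apply_one_ne_zero χ.2
      have h1 := h a b χ
      have h2 := h 1 1 χ
      have e : (1 : G) * x * 1⁻¹ * (1 * y * 1⁻¹) = x * y := by group
      rw [e] at h2
      exact mul_left_cancel₀ hχ1 (h2.trans h1.symm)





/-- For elements x, y of a finite group G, the conjugacy class of x y equals the set of all products of a conjugate of x with a conjugate of y if and only if χ(1) χ(a x a⁻¹ b y b⁻¹) = χ(x) χ(y) for all a, b ∈ G and every irreducible character χ. -/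
theorem result {G : Type*} [Group G] [Finite G] (x y : G) : (∀ z : G, IsConj (x * y) z ↔ ∃ a b : G, z = a * x * a⁻¹ * (b * y * b⁻¹)) ↔ ∀ (a b : G) (χ : Cfsg.IrrCharacter G), (χ : G → ℂ) 1 * (χ : G → ℂ) (a * x * a⁻¹ * (b * y * b⁻¹)) = (χ : G → ℂ) x * (χ : G → ℂ) y := by
  exact result' x y

end Cfsg.Agent.S4754
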