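import Cfsg.Statements.S4755
import Mathlib
import Cfsg.Agent.Lib.Helper6.ClassMult
import Cfsg.Agent.Lib.Helper6.SecondOrth
import Cfsg.Agent.Lib.Helper6.Linear
-- import your own Cfsg.Agent.* helpers here

set_option autoImplicit false
open Cfsg

namespace Cfsg.Agent.S4755

open Cfsg.Agent.Lib.Helper6
open scoped ComplexConjugate commutatorElement


/-- a linear character has values of norm one -/
theorem linear_mul_conj {G : Type*} [Group G] [Finite G] (χ : Cfsg.IrrCharacter G)
    (h1 : (χ : G → ℂ) 1 = 1) (g : G) : (χ : G → ℂ) g * conj ((χ : G → ℂ) g) = 1 := by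
  have hc := IsIrrCharacter.isCharacter χ.2
  rw [← IsCharacter.apply_inv hc g, ← IsCharacter.mul_of_apply_one_eq_one hc h1, mul_inv_cancel, h1]


theorem result' {G : Type*} [Group G] [Finite G] (x y : G) (hx : x ≠ 1) (hy : y ≠ 1) (h : ∀ (a b : G) (χ : Cfsg.IrrCharacter G), (χ : G → ℂ) (a * x * a⁻¹ * (b * y * b⁻¹)) = (χ : G → ℂ) (a * x * a⁻¹) * (χ : G → ℂ) (b * y * b⁻¹)) : (∀ z : G, IsConj (x * y) z ↔ ∃ a b : G, z = a * x * a⁻¹ * (b * y * b⁻¹)) ∧ (∀ χ : Cfsg.IrrCharacter G, (χ : G → ℂ) 1 ≠ 1 → (χ : G → ℂ) (x * y) = 0) ∧ (∀ z : G, IsConj (x * y) z ↔ (x * y)⁻¹ * z ∈ commutator G) := by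
  classical
  have : Fintype G := Fintype.ofFinite G
  have : Fintype (Cfsg.IrrCharacter G) := Fintype.ofFinite _
  have hcard : (Nat.card G : ℂ) ≠ 0 := card_ne_zero_complex G
  -- class functions
  have hcf : ∀ (χ : Cfsg.IrrCharacter G) (a g : G), (χ : G → ℂ) (a * g * a⁻¹) = (χ : G → ℂ) g :=
    fun χ a g => IsIrrCharacter.isClassFunction χ.2 g a
  -- values on products
  have hprod : ∀ (a b : G) (χ : Cfsg.IrrCharacter G),
      (χ : G → ℂ) (a * x * a⁻¹ * (b * y * b⁻¹)) = (χ : G → ℂ) x * (χ : G → ℂ) y := by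
    intro a b χ
    rw [h a b χ, hcf, hcf]
  have hxy : ∀ χ : Cfsg.IrrCharacter G, (χ : G → ℂ) (x * y) = (χ : G → ℂ) x * (χ : G → ℂ) y := by
    intro χ
    have := hprod 1 1 χ
    have e : (1 : G) * x * 1⁻¹ * (1 * y * 1⁻¹) = x * y := by group
    rwa [e] at this
  -- nonlinear characters vanish
  have hvan : ∀ χ : Cfsg.IrrCharacter G, (χ : G → ℂ) 1 ≠ 1 → (χ : G → ℂ) x * (χ : G → ℂ) y = 0 := by
    intro χ hχ1
    have hχ0 : (χ : G → ℂ) 1 ≠ 0 := IsIrrCharacter.apply_one_ne_zero χ.2
    have hsum := IsIrrCharacter.sum_conj_mul χ.2 x y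
    have h2 : ∀ g : G, (χ : G → ℂ) (g * x * g⁻¹ * y) = (χ : G → ℂ) x * (χ : G → ℂ) y := by
      intro g
      have := hprod g 1 χ
      have e : g * x * g⁻¹ * (1 * y * 1⁻¹) = g * x * g⁻¹ * y := by group
      rwa [e] at this
    rw [Finset.sum_congr rfl (fun g _ => h2 g), Finset.sum_const, Finset.card_univ,
      ← Nat.card_eq_fintype_card, nsmul_eq_mul] at hsum
    field_simp at hsum
    -- hsum : χ x * χ y * χ 1 = χ x * χ y
    by_contra hne
    apply hχ1
    have h3 : (χ : G → ℂ) x * (χ : G → ℂ) y * (χ : G → ℂ) 1 = (χ : G → ℂ) x * (χ : G → ℂ) y * 1 := by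
      rw [mul_one]; linear_combination hsum
    exact mul_left_cancel₀ hne h3
  have part1 : ∀ z : G, IsConj (x * y) z ↔ ∃ a b : G, z = a * x * a⁻¹ * (b * y * b⁻¹) := by
    intro z
    constructor
    · intro hz
      obtain ⟨c, hc⟩ := isConj_iff.1 hz
      refine ⟨c, c, ?_⟩
      rw [← hc]; group
    · rintro ⟨a, b, rfl⟩
      rw [isConj_iff_forall_irr]
      intro χ
      rw [hprod, hxy]
  have part2 : ∀ χ : Cfsg.IrrCharacter G, (χ : G → ℂ) 1 ≠ 1 → (χ : G → ℂ) (x * y) = 0 := by
    intro χ hχ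
    rw [hxy, hvan χ hχ]
  refine ⟨part1, part2, ?_⟩
  -- centralizer order
  have hcent : (Nat.card (Subgroup.centralizer ({x * y} : Set G)) : ℂ) = ((commutator G).index : ℂ) := by
    rw [← (sum_irr_mul_conj (x * y) (x * y)).1 (IsConj.refl _)]
    have h1 : ∀ χ : Cfsg.IrrCharacter G, (χ : G → ℂ) (x * y) * conj ((χ : G → ℂ) (x * y))
        = if (χ : G → ℂ) 1 = 1 then 1 else 0 := by
      intro χ
      split_ifs with hχ
      · exact linear_mul_conj χ hχ _
      · rw [part2 χ hχ, zero_mul]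
    rw [Finset.sum_congr rfl (fun χ _ => h1 χ), Finset.sum_boole, ← card_linear_characters,
      Nat.card_eq_fintype_card, Fintype.card_subtype]
  have hcent' : Nat.card (Subgroup.centralizer ({x * y} : Set G)) = (commutator G).index := by
    exact_mod_cast hcent
  have hclass : (Finset.univ.filter (fun z : G => IsConj (x * y) z)).card = Nat.card (commutator G) := by
    have h1 := card_conj_mul_card_centralizer (x * y)
    rw [hcent', ← Subgroup.card_mul_index (commutator G)] at h1
    have hpos : 0 < (commutator G).index := Nat.pos_of_ne_zero Subgroup.index_ne_zero_of_finite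
    exact Nat.eq_of_mul_eq_mul_right hpos h1
  have hsub : Finset.univ.filter (fun z : G => IsConj (x * y) z)
      ⊆ Finset.univ.filter (fun z : G => (x * y)⁻¹ * z ∈ commutator G) := by
    intro z hz
    rw [Finset.mem_filter] at hz ⊢
    refine ⟨Finset.mem_univ _, ?_⟩
    obtain ⟨c, hc⟩ := isConj_iff.1 hz.2
    rw [← hc]
    have e : (x * y)⁻¹ * (c * (x * y) * c⁻¹) = ⁅(x * y)⁻¹, c⁆ := by
      rw [commutatorElement_def]; group
    rw [e]
    exact Subgroup.commutator_mem_commutator (Subgroup.mem_top _) (Subgroup.mem_top _)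
  have hcard2 : (Finset.univ.filter (fun z : G => (x * y)⁻¹ * z ∈ commutator G)).card
      = Nat.card (commutator G) := by
    rw [Nat.card_eq_fintype_card, ← Fintype.card_subtype]
    apply Fintype.card_congr
    exact {
      toFun := fun z => ⟨(x * y)⁻¹ * z.1, z.2⟩
      invFun := fun w => ⟨(x * y) * w.1, by
        have : (x * y)⁻¹ * ((x * y) * w.1) = w.1 := by group
        rw [this]; exact w.2⟩
      left_inv := fun z => by apply Subtype.ext; simp only; group
      right_inv := fun w => by apply Subtype.ext; simp only; group }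
  have heq := Finset.eq_of_subset_of_card_le hsub (by rw [hcard2, hclass])
  intro z
  have := Finset.ext_iff.1 heq z
  simpa using this





/-- Let x, y be non-identity elements of the finite group G such that χ(x' y') = χ(x') χ(y') for all conjugates x' of x, y' of y and every irreducible character χ. Then the conjugacy class of x y is the set of all products of a conjugate of x with a conjugate of y; every irreducible character of degree greater than 1 vanishes at x y; and the conjugacy class of x y is the coset of the commutator subgroup containing x y. -/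
theorem result {G : Type*} [Group G] [Finite G] (x y : G) (hx : x ≠ 1) (hy : y ≠ 1) (h : ∀ (a b : G) (χ : Cfsg.IrrCharacter G), (χ : G → ℂ) (a * x * a⁻¹ * (b * y * b⁻¹)) = (χ : G → ℂ) (a * x * a⁻¹) * (χ : G → ℂ) (b * y * b⁻¹)) : (∀ z : G, IsConj (x * y) z ↔ ∃ a b : G, z = a * x * a⁻¹ * (b * y * b⁻¹)) ∧ (∀ χ : Cfsg.IrrCharacter G, (χ : G → ℂ) 1 ≠ 1 → (χ : G → ℂ) (x * y) = 0) ∧ (∀ z : G, IsConj (x * y) z ↔ (x * y)⁻¹ * z ∈ commutator G) := by
  exact result' x y hx hy h

end Cfsg.Agent.S4755
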