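import Cfsg.Statements.S4757
import Mathlib
import Cfsg.Agent.Lib.Helper6.SecondOrth
import Cfsg.Agent.Lib.Helper6.Linear
import Cfsg.Agent.Lib.Helper6.Mult
import Cfsg.Agent.Lib.Helper6.Constituent
import Cfsg.Agent.Lib.Helper6.BlkCover

set_option autoImplicit false
open Cfsg

namespace Cfsg.Agent.S4757

open Cfsg.Agent.Lib.Helper6
open scoped ComplexConjugate

/-- Let u ≠ 1 be an element of the finite group G and c a complex number such that every non-principal irreducible character χ satisfies χ(1) − χ(u) = c or χ(u) = 0. Then the following are equivalent: (a) u has order 2, G is generated by u together with O(G), the largest normal subgroup of G of odd order, and the centralizer of u is {1, u}; (b) G is not perfect; (c) c = 2. -/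
theorem result {G : Type*} [Group G] [Finite G] (u : G) (hu : u ≠ 1) (c : ℂ) (hyp : ∀ χ : Cfsg.IrrCharacter G, (χ : G → ℂ) ≠ (fun _ => (1 : ℂ)) → ((χ : G → ℂ) 1 - (χ : G → ℂ) u = c ∨ (χ : G → ℂ) u = 0)) : ((orderOf u = 2 ∧ Subgroup.zpowers u ⊔ Cfsg.oddCore G = ⊤ ∧ Subgroup.centralizer ({u} : Set G) = Subgroup.zpowers u) ↔ commutator G ≠ ⊤) ∧ (commutator G ≠ ⊤ ↔ c = 2) := by
  classical
  have : Fintype G := Fintype.ofFinite G
  have : Fintype (Cfsg.IrrCharacter G) := Fintype.ofFinite _
  have hdeg : ∀ χ : Cfsg.IrrCharacter G, ∃ d : ℕ, 1 ≤ d ∧ (χ : G → ℂ) 1 = (d : ℂ) := by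
    intro χ
    exact ⟨Cfsg.charDegree (χ : G → ℂ), IsIrrCharacter.charDegree_pos χ.2,
      IsCharacter.apply_one_eq_charDegree (IsIrrCharacter.isCharacter χ.2)⟩
  choose d hd1 hdχ using hdeg
  obtain ⟨χ₀, hχ₀def⟩ : ∃ χ₀ : Cfsg.IrrCharacter G, (χ₀ : G → ℂ) = fun _ => (1 : ℂ) :=
    ⟨⟨fun _ => (1 : ℂ), isIrrCharacter_one⟩, rfl⟩
  have hχ₀ : ∀ χ : Cfsg.IrrCharacter G, χ ≠ χ₀ → (χ : G → ℂ) ≠ (fun _ => (1 : ℂ)) := by
    intro χ hne h; exact hne (Subtype.ext (h.trans hχ₀def.symm))
  have hcol : ∑ χ : Cfsg.IrrCharacter G, (χ : G → ℂ) u * conj ((χ : G → ℂ) 1) = 0 := by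
    apply (sum_irr_mul_conj u (1 : G)).2
    intro hconj
    rw [isConj_comm, isConj_one_right] at hconj
    exact hu hconj
  have hcol' : ∑ χ : Cfsg.IrrCharacter G, (χ : G → ℂ) u * (d χ : ℂ) = 0 := by
    rw [← hcol]
    apply Finset.sum_congr rfl
    intro χ _
    rw [hdχ χ, Complex.conj_natCast]
  have hdχ₀ : d χ₀ = 1 := by
    have h := hdχ χ₀
    rw [hχ₀def] at h
    have h' : (1 : ℂ) = (d χ₀ : ℂ) := h
    exact_mod_cast h'.symm
  have h4 : ((χ₀ : G → ℂ) u * (d χ₀ : ℂ)).re = 1 := by rw [hdχ₀, hχ₀def]; simp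
  have hposarg : (∀ χ : Cfsg.IrrCharacter G, χ ≠ χ₀ →
      0 ≤ ((χ : G → ℂ) u * (d χ : ℂ)).re) → False := by
    intro h
    have h1 := congrArg Complex.re hcol'
    rw [Complex.re_sum, Complex.zero_re] at h1
    have h2 : ∀ χ ∈ (Finset.univ : Finset (Cfsg.IrrCharacter G)),
        0 ≤ ((χ : G → ℂ) u * (d χ : ℂ)).re := by
      intro χ _
      by_cases hχ : χ = χ₀
      · rw [hχ, h4]; norm_num
      · exact h χ hχ
    have h3 := Finset.single_le_sum h2 (Finset.mem_univ χ₀)
    rw [h1, h4] at h3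
    linarith
  have hc0 : c ≠ 0 := by
    intro hc
    apply hposarg
    intro χ hne
    rcases hyp χ (hχ₀ χ hne) with h | h
    · rw [hdχ χ, hc, sub_eq_zero] at h
      rw [← h, ← Nat.cast_mul, Complex.natCast_re]
      positivity
    · rw [h, zero_mul]; simp
  have hL : ∀ φ : G →* ℂˣ, φ ≠ 1 → ((φ u : ℂˣ) : ℂ) = 1 - c := by
    intro φ hφ
    have hne : ((⟨fun g => ((φ g : ℂˣ) : ℂ), isIrrCharacter_of_hom φ⟩ : Cfsg.IrrCharacter G) : G → ℂ)
        ≠ (fun _ => (1 : ℂ)) := by
      intro h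
      apply hφ
      ext g
      have := congrFun h g
      simpa using this
    rcases hyp _ hne with h | h
    · simp only [map_one, Units.val_one] at h
      rw [← h]; ring
    · exact absurd h (Units.ne_zero _)
  have hsq : ∀ φ : G →* ℂˣ, φ ≠ 1 → φ * φ = 1 ∧ ((φ u : ℂˣ) : ℂ) = -1 ∧ c = 2 := by
    intro φ hφ
    have ha := hL φ hφ
    have ha0 : ((φ u : ℂˣ) : ℂ) ≠ 0 := Units.ne_zero _
    have ha1 : ((φ u : ℂˣ) : ℂ) ≠ 1 := by
      rw [ha]; intro h; apply hc0; linear_combination (-1 : ℂ) * h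
    have hφφ : φ * φ = 1 := by
      by_contra hne
      have h2 := hL (φ * φ) hne
      rw [MonoidHom.mul_apply, Units.val_mul, ← ha] at h2
      have : ((φ u : ℂˣ) : ℂ) * (((φ u : ℂˣ) : ℂ) - 1) = 0 := by linear_combination h2
      rcases mul_eq_zero.mp this with h | h
      · exact ha0 h
      · exact ha1 (sub_eq_zero.mp h)
    have haa : ((φ u : ℂˣ) : ℂ) * ((φ u : ℂˣ) : ℂ) = 1 := by
      have := congrArg (fun ψ : G →* ℂˣ => ((ψ u : ℂˣ) : ℂ)) hφφ
      simpa using this
    have hm1 : ((φ u : ℂˣ) : ℂ) = -1 := by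
      rcases mul_self_eq_one_iff.mp haa with h | h
      · exact absurd h ha1
      · exact h
    refine ⟨hφφ, hm1, ?_⟩
    rw [hm1] at ha
    linear_combination ha
  have hex : commutator G ≠ ⊤ → ∃ φ : G →* ℂˣ, φ ≠ 1 := by
    intro hne
    by_contra hall
    push Not at hall
    apply hne
    rw [← Subgroup.index_eq_one, ← card_linear_characters, ← Nat.card_congr (linearCharEquiv G)]
    haveI : Subsingleton (G →* ℂˣ) := ⟨fun a b => by rw [hall a, hall b]⟩
    exact Nat.card_of_subsingleton (1 : G →* ℂˣ)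
  have htriv : commutator G = ⊤ → ∀ φ : G →* ℂˣ, φ = 1 := by
    intro h φ
    have hle := Abelianization.commutator_subset_ker φ
    ext g
    have hg : g ∈ φ.ker := hle (by rw [h]; trivial)
    rw [MonoidHom.mem_ker] at hg
    simp [hg]
  have hcb : c = 2 → commutator G ≠ ⊤ := by
    intro hc htop
    have hall := htriv htop
    apply hposarg
    intro χ hne
    have hd2 : 2 ≤ d χ := by
      by_contra hlt
      have hd1' : d χ = 1 := by have := hd1 χ; omega
      have h1 : (χ : G → ℂ) 1 = 1 := by rw [hdχ χ, hd1']; simp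
      apply hne
      apply Subtype.ext
      funext g
      have := linearCharHom_apply (IsIrrCharacter.isCharacter χ.2) h1 g
      rw [hall (linearCharHom (IsIrrCharacter.isCharacter χ.2) h1)] at this
      rw [← this, hχ₀def]; simp
    rcases hyp χ (hχ₀ χ hne) with h | h
    · have hu' : (χ : G → ℂ) u = (d χ : ℂ) - 2 := by
        rw [hdχ χ, hc] at h; linear_combination (-1 : ℂ) * h
      rw [hu']
      have h5 : (((d χ : ℂ) - 2) * (d χ : ℂ)).re = ((d χ : ℝ) - 2) * (d χ : ℝ) := by simp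
      rw [h5]
      have : (2 : ℝ) ≤ d χ := by exact_mod_cast hd2
      nlinarith
    · rw [h, zero_mul]; simp
  have hab : (orderOf u = 2 ∧ Subgroup.zpowers u ⊔ Cfsg.oddCore G = ⊤ ∧
      Subgroup.centralizer ({u} : Set G) = Subgroup.zpowers u) → commutator G ≠ ⊤ := by
    rintro ⟨ho, hsup, -⟩ htop
    obtain ⟨hON, hOc⟩ := pPrimeCore_normal_and_coprime (G := G) 2
    haveI := hON
    have hq : ∀ g : G, ∃ k : ℤ, (QuotientGroup.mk' (Cfsg.pPrimeCore 2 G)) g
        = ((QuotientGroup.mk' (Cfsg.pPrimeCore 2 G)) u) ^ k := by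
      intro g
      have hg : g ∈ Subgroup.zpowers u ⊔ Cfsg.pPrimeCore 2 G := by
        have : g ∈ Subgroup.zpowers u ⊔ Cfsg.oddCore G := by rw [hsup]; trivial
        exact this
      obtain ⟨y, hy, z, hz, rfl⟩ := Subgroup.mem_sup_of_normal_right.mp hg
      obtain ⟨k, rfl⟩ := Subgroup.mem_zpowers_iff.mp hy
      refine ⟨k, ?_⟩
      rw [map_mul, map_zpow]
      have : (QuotientGroup.mk' (Cfsg.pPrimeCore 2 G)) z = 1 := by
        rw [QuotientGroup.mk'_apply, QuotientGroup.eq_one_iff]; exact hz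
      rw [this, mul_one]
    have hle : commutator G ≤ Cfsg.pPrimeCore 2 G := by
      rw [commutator_def, Subgroup.commutator_le]
      intro g₁ _ g₂ _
      obtain ⟨a, ha⟩ := hq g₁
      obtain ⟨b, hb⟩ := hq g₂
      rw [← QuotientGroup.eq_one_iff, ← QuotientGroup.mk'_apply, map_commutatorElement, ha, hb,
        commutatorElement_eq_one_iff_commute]
      exact (Commute.refl _).zpow_zpow a b
    rw [htop, top_le_iff] at hle
    have h2 : ¬ 2 ∣ Nat.card G := by
      have h3 : Nat.card (Cfsg.pPrimeCore 2 G) = Nat.card G := by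
        rw [hle]; exact Subgroup.card_top
      rw [← h3]
      intro hd
      have := Nat.eq_one_of_dvd_coprimes hOc hd (dvd_refl 2)
      omega
    apply h2
    rw [← ho]
    exact orderOf_dvd_natCard u
  have hba : commutator G ≠ ⊤ → (orderOf u = 2 ∧ Subgroup.zpowers u ⊔ Cfsg.oddCore G = ⊤ ∧
      Subgroup.centralizer ({u} : Set G) = Subgroup.zpowers u) := by
    intro hne
    obtain ⟨φ, hφ⟩ := hex hne
    obtain ⟨hφφ, hφu, hc2⟩ := hsq φ hφ
    have huniq : ∀ ψ : G →* ℂˣ, ψ ≠ 1 → ψ = φ := by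
      intro ψ hψ
      obtain ⟨_, hψu, _⟩ := hsq ψ hψ
      have h1 : φ * ψ = 1 := by
        by_contra hne'
        obtain ⟨_, h2, _⟩ := hsq (φ * ψ) hne'
        rw [MonoidHom.mul_apply, Units.val_mul, hφu, hψu] at h2
        norm_num at h2
      refine MonoidHom.ext fun g => Units.ext ?_
      have e1 := congrArg (fun θ : G →* ℂˣ => ((θ g : ℂˣ) : ℂ)) h1
      have e2 := congrArg (fun θ : G →* ℂˣ => ((θ g : ℂˣ) : ℂ)) hφφ
      simp only [MonoidHom.mul_apply, Units.val_mul, MonoidHom.one_apply, Units.val_one] at e1 e2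
      have hne0 : ((φ g : ℂˣ) : ℂ) ≠ 0 := Units.ne_zero _
      have : ((φ g : ℂˣ) : ℂ) * (((ψ g : ℂˣ) : ℂ) - ((φ g : ℂˣ) : ℂ)) = 0 := by
        linear_combination e1 - e2
      rcases mul_eq_zero.mp this with h | h
      · exact absurd h hne0
      · exact sub_eq_zero.mp h
    obtain ⟨lam, hlamdef⟩ : ∃ lam : Cfsg.IrrCharacter G,
        (lam : G → ℂ) = fun g => ((φ g : ℂˣ) : ℂ) :=
      ⟨⟨fun g => ((φ g : ℂˣ) : ℂ), isIrrCharacter_of_hom φ⟩, rfl⟩
    have hlam0 : lam ≠ χ₀ := by
      intro h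
      apply hφ
      ext g
      have h1 : (lam : G → ℂ) g = (χ₀ : G → ℂ) g := by rw [h]
      rw [hlamdef, hχ₀def] at h1
      simpa using h1
    have hdlam : d lam = 1 := by
      have h := hdχ lam
      rw [hlamdef] at h
      have h' : (1 : ℂ) = (d lam : ℂ) := by rw [← h]; simp
      exact_mod_cast h'.symm
    have hd2 : ∀ χ : Cfsg.IrrCharacter G, χ ≠ χ₀ → χ ≠ lam → 2 ≤ d χ := by
      intro χ hne0 hnel
      by_contra hlt
      have hd1' : d χ = 1 := by have := hd1 χ; omega
      have h1 : (χ : G → ℂ) 1 = 1 := by rw [hdχ χ, hd1']; simp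
      have happ := linearCharHom_apply (IsIrrCharacter.isCharacter χ.2) h1
      by_cases hψ : linearCharHom (IsIrrCharacter.isCharacter χ.2) h1 = 1
      · apply hne0
        apply Subtype.ext
        funext g
        rw [← happ g, hψ, hχ₀def]; simp
      · apply hnel
        apply Subtype.ext
        funext g
        rw [← happ g, huniq _ hψ, hlamdef]
    have hmemlam : lam ∈ (Finset.univ : Finset (Cfsg.IrrCharacter G)).erase χ₀ :=
      Finset.mem_erase.mpr ⟨hlam0, Finset.mem_univ _⟩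
    have hvan : ∀ χ : Cfsg.IrrCharacter G, χ ≠ χ₀ → χ ≠ lam → (χ : G → ℂ) u = 0 := by
      have hnn : ∀ χ ∈ ((Finset.univ : Finset (Cfsg.IrrCharacter G)).erase χ₀).erase lam,
          0 ≤ ((χ : G → ℂ) u * (d χ : ℂ)).re := by
        intro χ hχ
        rw [Finset.mem_erase, Finset.mem_erase] at hχ
        rcases hyp χ (hχ₀ χ hχ.2.1) with h | h
        · have hu' : (χ : G → ℂ) u = (d χ : ℂ) - 2 := by
            rw [hdχ χ, hc2] at h; linear_combination (-1 : ℂ) * h
          rw [hu']
          have h5 : (((d χ : ℂ) - 2) * (d χ : ℂ)).re = ((d χ : ℝ) - 2) * (d χ : ℝ) := by simp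
          rw [h5]
          have : (2 : ℝ) ≤ d χ := by exact_mod_cast hd2 χ hχ.2.1 hχ.1
          nlinarith
        · rw [h, zero_mul]; simp
      have hsum0 : ∑ χ ∈ ((Finset.univ : Finset (Cfsg.IrrCharacter G)).erase χ₀).erase lam,
          ((χ : G → ℂ) u * (d χ : ℂ)).re = 0 := by
        have h1 := hcol'
        rw [← Finset.add_sum_erase Finset.univ _ (Finset.mem_univ χ₀),
          ← Finset.add_sum_erase (Finset.univ.erase χ₀) _ hmemlam] at h1
        have h2 := congrArg Complex.re h1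
        rw [Complex.add_re, Complex.add_re, h4, Complex.re_sum, Complex.zero_re] at h2
        have h6 : ((lam : G → ℂ) u * (d lam : ℂ)).re = -1 := by
          rw [hdlam, hlamdef]
          show (((φ u : ℂˣ) : ℂ) * ((1 : ℕ) : ℂ)).re = -1
          rw [hφu]; simp
        rw [h6] at h2
        linarith
      intro χ hne0 hnel
      have hmem : χ ∈ ((Finset.univ : Finset (Cfsg.IrrCharacter G)).erase χ₀).erase lam :=
        Finset.mem_erase.mpr ⟨hnel, Finset.mem_erase.mpr ⟨hne0, Finset.mem_univ _⟩⟩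
      have hz := (Finset.sum_eq_zero_iff_of_nonneg hnn).mp hsum0 χ hmem
      rcases hyp χ (hχ₀ χ hne0) with h | h
      · have hu' : (χ : G → ℂ) u = (d χ : ℂ) - 2 := by
          rw [hdχ χ, hc2] at h; linear_combination (-1 : ℂ) * h
        rw [hu'] at hz
        have h5 : (((d χ : ℂ) - 2) * (d χ : ℂ)).re = ((d χ : ℝ) - 2) * (d χ : ℝ) := by simp
        rw [h5] at hz
        have h7 : (2 : ℝ) ≤ d χ := by exact_mod_cast hd2 χ hne0 hnel
        have h8 : ((d χ : ℝ) - 2) = 0 := by
          rcases mul_eq_zero.mp hz with h9 | h9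
          · exact h9
          · linarith
        rw [hu']
        have h9 : ((d χ : ℂ) - 2) = (((d χ : ℝ) - 2 : ℝ) : ℂ) := by push_cast; ring
        rw [h9, h8]; simp
      · exact h
    have hC : (Nat.card (Subgroup.centralizer ({u} : Set G)) : ℂ) = 2 := by
      rw [← (sum_irr_mul_conj u u).1 (IsConj.refl u)]
      rw [← Finset.add_sum_erase Finset.univ _ (Finset.mem_univ χ₀),
        ← Finset.add_sum_erase (Finset.univ.erase χ₀) _ hmemlam]
      rw [Finset.sum_eq_zero]
      · rw [hχ₀def, hlamdef]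
        show (1 : ℂ) * conj (1 : ℂ) + (((φ u : ℂˣ) : ℂ) * conj (((φ u : ℂˣ) : ℂ)) + 0) = 2
        rw [hφu]; simp; norm_num
      · intro χ hχ
        rw [Finset.mem_erase, Finset.mem_erase] at hχ
        rw [hvan χ hχ.2.1 hχ.1, zero_mul]
    have hC2 : Nat.card (Subgroup.centralizer ({u} : Set G)) = 2 := by exact_mod_cast hC
    haveI : Fact (Nat.Prime 2) := ⟨Nat.prime_two⟩
    have hzle : Subgroup.zpowers u ≤ Subgroup.centralizer ({u} : Set G) := by
      rw [Subgroup.zpowers_le, Subgroup.mem_centralizer_iff]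
      intro h hh
      rw [Set.mem_singleton_iff] at hh
      rw [hh]
    have hcz : Nat.card (Subgroup.zpowers u) = orderOf u := Nat.card_zpowers u
    have ho : orderOf u = 2 := by
      have h1 : Nat.card (Subgroup.zpowers u) ≤ 2 := by
        rw [← hC2]; exact Subgroup.card_le_of_le hzle
      have h2 : 0 < orderOf u := orderOf_pos u
      have h3 : orderOf u ≠ 1 := by rw [Ne, orderOf_eq_one_iff]; exact hu
      omega
    have hceq : Subgroup.centralizer ({u} : Set G) = Subgroup.zpowers u := by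
      symm
      apply Subgroup.eq_of_le_of_card_ge hzle
      rw [hC2, hcz, ho]
    have hmemz : ∀ x : G, x ∈ Subgroup.zpowers u → x = 1 ∨ x = u := by
      intro x hx
      obtain ⟨k, rfl⟩ := Subgroup.mem_zpowers_iff.mp hx
      rw [← zpow_mod_orderOf, ho]
      have hk : k % ((2 : ℕ) : ℤ) = 0 ∨ k % ((2 : ℕ) : ℤ) = 1 := by
        have := Int.emod_two_eq_zero_or_one k
        simpa using this
      rcases hk with h | h
      · left; rw [h]; simp
      · right; rw [h]; simp
    have hpg : IsPGroup 2 (Subgroup.zpowers u) :=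
      IsPGroup.of_card (n := 1) (by rw [hcz, ho]; rfl)
    obtain ⟨P, hP⟩ := hpg.exists_le_sylow
    have huP : u ∈ (P : Subgroup G) := hP (Subgroup.mem_zpowers u)
    haveI : Nontrivial (P : Subgroup G) :=
      ⟨⟨⟨u, huP⟩, 1, fun h => hu (congrArg Subtype.val h)⟩⟩
    have hZP := IsPGroup.center_nontrivial P.isPGroup'
    obtain ⟨⟨z, hz⟩, hz1⟩ := exists_ne (1 : Subgroup.center (P : Subgroup G))
    have hzu : (z : G) = u := by
      have hcomm := Subgroup.mem_center_iff.mp hz ⟨u, huP⟩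
      have hzc : (z : G) ∈ Subgroup.centralizer ({u} : Set G) := by
        rw [Subgroup.mem_centralizer_iff]
        intro h hh
        rw [Set.mem_singleton_iff] at hh
        rw [hh]
        exact congrArg Subtype.val hcomm
      rw [hceq] at hzc
      rcases hmemz _ hzc with h | h
      · exfalso; apply hz1; apply Subtype.ext; apply Subtype.ext; exact h
      · exact h
    have hPle : (P : Subgroup G) ≤ Subgroup.centralizer ({u} : Set G) := by
      intro y hy
      rw [Subgroup.mem_centralizer_iff]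
      intro h hh
      rw [Set.mem_singleton_iff] at hh
      rw [hh]
      have hcomm := Subgroup.mem_center_iff.mp hz ⟨y, hy⟩
      have h1 := congrArg Subtype.val hcomm
      simp only [Subgroup.coe_mul] at h1
      rw [hzu] at h1
      exact h1.symm
    have hPc : Nat.card (P : Subgroup G) = 2 := by
      have h1 := Subgroup.card_le_of_le hPle
      have h2 := Subgroup.card_le_of_le hP
      rw [hC2] at h1; rw [hcz, ho] at h2; omega
    have hidx : ¬ 2 ∣ (P : Subgroup G).index := P.not_dvd_index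
    have hG : Nat.card G = 2 * (P : Subgroup G).index := by
      have := (P : Subgroup G).card_mul_index
      rw [hPc] at this
      exact this.symm
    have hval : ∀ b : G, ((φ b : ℂˣ) : ℂ) = 1 ∨ ((φ b : ℂˣ) : ℂ) = -1 := by
      intro b
      have := congrArg (fun ψ : G →* ℂˣ => ((ψ b : ℂˣ) : ℂ)) hφφ
      simp only [MonoidHom.mul_apply, Units.val_mul, MonoidHom.one_apply, Units.val_one] at this
      exact mul_self_eq_one_iff.mp this
    have hmemK : ∀ b : G, b ∈ φ.ker ↔ ((φ b : ℂˣ) : ℂ) = 1 := by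
      intro b; rw [MonoidHom.mem_ker]; constructor
      · intro h; rw [h]; rfl
      · intro h; exact Units.ext h
    have hxor : ∀ b : G, Xor (b * u ∈ φ.ker) (b ∈ φ.ker) := by
      intro b
      rw [hmemK, hmemK, map_mul, Units.val_mul, hφu]
      rcases hval b with h | h
      · right; rw [h]; constructor
        · rfl
        · norm_num
      · left; rw [h]; constructor
        · norm_num
        · norm_num
    have hKidx : φ.ker.index = 2 := Subgroup.index_eq_two_iff.mpr ⟨u, hxor⟩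
    have hKcard : Nat.card φ.ker = (P : Subgroup G).index := by
      have := φ.ker.card_mul_index
      rw [hKidx, hG] at this
      omega
    have hKle : φ.ker ≤ Cfsg.oddCore G := by
      show φ.ker ≤ sSup {N : Subgroup G | N.Normal ∧ (Nat.card N).Coprime 2}
      apply le_sSup
      refine ⟨inferInstance, ?_⟩
      rw [hKcard]
      exact ((Nat.Prime.coprime_iff_not_dvd Nat.prime_two).mpr hidx).symm
    refine ⟨ho, ?_, hceq⟩
    rw [eq_top_iff]
    intro g _
    rcases hxor g with ⟨h, _⟩ | ⟨h, _⟩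
    · have hgeq : g = (g * u) * u⁻¹ := by group
      rw [hgeq]
      exact Subgroup.mul_mem _ (Subgroup.mem_sup_right (hKle h))
        (Subgroup.inv_mem _ (Subgroup.mem_sup_left (Subgroup.mem_zpowers u)))
    · exact Subgroup.mem_sup_right (hKle h)
  exact ⟨⟨hab, hba⟩, ⟨fun hne => by obtain ⟨φ, hφ⟩ := hex hne; exact (hsq φ hφ).2.2, hcb⟩⟩

end Cfsg.Agent.S4757
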