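import Cfsg.Statements.S4762
import Mathlib
import Cfsg.Agent.Lib.Helper6.ProdChar
import Cfsg.Agent.Lib.Helper6.PComplement
import Cfsg.Agent.Lib.Helper6.Multiplicity
import Cfsg.Agent.Lib.Helper6.ClassCount
import Cfsg.Agent.Lib.Helper6.Auto
import Cfsg.Agent.Lib.Helper6.Linear
import Cfsg.Agent.Lib.Helper6.SecondOrth
import Cfsg.Agent.Lib.Helper6.ClassMult
import Cfsg.Agent.Lib.Helper6.QuotChar
import Cfsg.Agent.Lib.Helper6.Extraspecial
import Cfsg.Agent.Lib.Helper1.Nilpotent
import Cfsg.Agent.Lib.Helper1.FrattiniP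
-- import your own Cfsg.Agent.* helpers here

set_option autoImplicit false
open Cfsg

namespace Cfsg.Agent.S4762

open Cfsg.Agent.Lib.Helper6
open scoped commutatorElement
variable {G : Type*} [Group G] [Finite G]


/-- a finite nilpotent group is the direct product of a Sylow `p`-subgroup and a `p'`-subgroup -/
theorem exists_prod_iso [Group.IsNilpotent G] (p : ℕ) [hp : Fact p.Prime] (S : Sylow p G) :
    ∃ (K : Subgroup G) (e : ↥(S : Subgroup G) × ↥K ≃* G), Nat.Coprime (Nat.card K) p ∧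
      K.index = p ^ (Nat.card G).factorization p ∧
      ∀ uk : ↥(S : Subgroup G) × ↥K, e uk = (uk.1 : G) * (uk.2 : G) := by
  classical
  obtain ⟨K, hKn, hKcop, hKidx⟩ := exists_normal_pcomplement_of_nilpotent (E := G) p
  have hScard : Nat.card (S : Subgroup G) = p ^ (Nat.card G).factorization p :=
    Sylow.card_eq_multiplicity S
  have hSn : (S : Subgroup G).Normal := inferInstance
  have hdisj : Disjoint (S : Subgroup G) K := by
    apply Subgroup.disjoint_of_coprime_natCard
    rw [hScard]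
    exact (Nat.Coprime.pow_right _ hKcop).symm
  have hcomm : ∀ (u : ↥(S : Subgroup G)) (k : ↥K),
      Commute ((S : Subgroup G).subtype u) (K.subtype k) := by
    intro u k
    exact Subgroup.commute_of_normal_of_disjoint (S : Subgroup G) K hSn hKn hdisj u k u.2 k.2
  let f : ↥(S : Subgroup G) × ↥K →* G :=
    MonoidHom.noncommCoprod (S : Subgroup G).subtype K.subtype hcomm
  have hf : ∀ uk : ↥(S : Subgroup G) × ↥K, f uk = (uk.1 : G) * (uk.2 : G) := fun uk => rfl
  have hinj : Function.Injective f := by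
    rw [injective_iff_map_eq_one]
    rintro ⟨u, k⟩ h
    rw [hf] at h
    simp only at h
    have h1 : (u : G) = (k : G)⁻¹ := eq_inv_of_mul_eq_one_left h
    have h2 : (u : G) ∈ (S : Subgroup G) ⊓ K := ⟨u.2, by rw [h1]; exact K.inv_mem k.2⟩
    rw [hdisj.eq_bot, Subgroup.mem_bot] at h2
    have h3 : (k : G) = 1 := by rw [h2, one_mul] at h; exact h
    ext
    · exact h2
    · exact h3
  have hcard : Nat.card (↥(S : Subgroup G) × ↥K) = Nat.card G := by
    rw [Nat.card_prod, hScard, ← hKidx, mul_comm, Subgroup.card_mul_index]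
  have hbij : Function.Bijective f := by
    haveI : Fintype G := Fintype.ofFinite G
    haveI : Fintype (↥(S : Subgroup G) × ↥K) := Fintype.ofFinite _
    rw [Fintype.bijective_iff_injective_and_card]
    refine ⟨hinj, ?_⟩
    rw [← Nat.card_eq_fintype_card, ← Nat.card_eq_fintype_card, hcard]
  exact ⟨K, MulEquiv.ofBijective f hbij, hKcop, hKidx, fun uk => hf uk⟩


/-- a nontrivial finite group has at least two irreducible characters -/
theorem exists_irr_ne {K : Type*} [Group K] [Finite K] [Nontrivial K] (ψ : IrrCharacter K) :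
    ∃ ψ' : IrrCharacter K, ψ' ≠ ψ := by
  classical
  have : Fintype (IrrCharacter K) := Fintype.ofFinite _
  have : Fintype (ConjClasses K) := Fintype.ofFinite _
  apply Fintype.exists_ne_of_one_lt_card
  rw [← Nat.card_eq_fintype_card, card_irrCharacter, Nat.card_eq_fintype_card]
  obtain ⟨k, hk⟩ := exists_ne (1 : K)
  apply Fintype.one_lt_card_iff.2
  refine ⟨ConjClasses.mk 1, ConjClasses.mk k, ?_⟩
  intro he
  rw [ConjClasses.mk_eq_mk_iff_isConj, isConj_comm, isConj_one_left] at he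
  exact hk he


theorem isPGroup_of_unique [Group.IsNilpotent G] (p : ℕ) [hp : Fact p.Prime]
    (h1 : Nat.card {χ : Cfsg.IrrCharacter G // p ∣ Cfsg.charDegree (χ : G → ℂ)} = 1) :
    IsPGroup p G := by
  classical
  obtain ⟨hsub, ⟨χ₀⟩⟩ := Nat.card_eq_one_iff_unique.1 h1
  let S : Sylow p G := default
  obtain ⟨K, e, hKcop, hKidx, he⟩ := exists_prod_iso p S
  by_cases hK : K = ⊥
  · apply IsPGroup.of_card (n := (Nat.card G).factorization p)
    rw [← hKidx, hK, Subgroup.index_bot]
  exfalso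
  have hKnt : Nontrivial K := (Subgroup.nontrivial_iff_ne_bot K).2 hK
  have hθ₀ : IsIrrCharacter (↥(S : Subgroup G) × ↥K) (fun x => (χ₀.1 : G → ℂ) (e x)) :=
    IsIrrCharacter.comp_mulEquiv e χ₀.1.2
  obtain ⟨φ, ψ, hφ, hψ, hθ⟩ := exists_prodFun_of_isIrrCharacter hθ₀
  obtain ⟨ψ', hψ'⟩ := exists_irr_ne (⟨ψ, hψ⟩ : IrrCharacter K)
  have hθ₁' : IsIrrCharacter (↥(S : Subgroup G) × ↥K) (prodFun φ (ψ' : K → ℂ)) :=
    IsIrrCharacter.prodFun hφ ψ'.2
  have hθ₁ : IsIrrCharacter G (fun g => prodFun φ (ψ' : K → ℂ) (e.symm g)) :=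
    IsIrrCharacter.comp_mulEquiv e.symm hθ₁'
  -- degrees
  have hd0 : (χ₀.1 : G → ℂ) 1 = φ 1 * ψ 1 := by
    have := congrFun hθ (1 : ↥(S : Subgroup G) × ↥K)
    simp only [map_one] at this
    rw [this]; rfl
  have hd1 : (fun g => prodFun φ (ψ' : K → ℂ) (e.symm g)) 1 = φ 1 * (ψ' : K → ℂ) 1 := by
    simp only [map_one]; rfl
  have c0 := IsCharacter.apply_one_eq_charDegree (IsIrrCharacter.isCharacter χ₀.1.2)
  have c1 := IsCharacter.apply_one_eq_charDegree (IsIrrCharacter.isCharacter hφ)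
  have c2 := IsCharacter.apply_one_eq_charDegree (IsIrrCharacter.isCharacter hψ)
  have c3 := IsCharacter.apply_one_eq_charDegree (IsIrrCharacter.isCharacter ψ'.2)
  have c4 := IsCharacter.apply_one_eq_charDegree (IsIrrCharacter.isCharacter hθ₁)
  have e0 : charDegree (χ₀.1 : G → ℂ) = charDegree φ * charDegree ψ := by
    have : (charDegree (χ₀.1 : G → ℂ) : ℂ) = ((charDegree φ * charDegree ψ : ℕ) : ℂ) := by
      rw [← c0, hd0, c1, c2]; push_cast; rfl
    exact_mod_cast this
  have e1 : charDegree (fun g => prodFun φ (ψ' : K → ℂ) (e.symm g))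
      = charDegree φ * charDegree (ψ' : K → ℂ) := by
    have : (charDegree (fun g => prodFun φ (ψ' : K → ℂ) (e.symm g)) : ℂ)
        = ((charDegree φ * charDegree (ψ' : K → ℂ) : ℕ) : ℂ) := by
      rw [← c4]
      show prodFun φ (ψ' : K → ℂ) (e.symm 1) = _
      rw [map_one]
      show φ 1 * (ψ' : K → ℂ) 1 = _
      rw [c1, c3]; push_cast; rfl
    exact_mod_cast this
  have hpψ : ¬ p ∣ charDegree ψ := by
    have : Fintype K := Fintype.ofFinite K
    intro hd
    have h2 := hd.trans (IsIrrCharacter.charDegree_dvd_card hψ)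
    have := Nat.Coprime.eq_one_of_dvd hKcop.symm h2
    exact hp.out.one_lt.ne' this
  have hpφ : p ∣ charDegree φ := by
    have := χ₀.2
    rw [e0] at this
    rcases (Nat.Prime.dvd_mul hp.out).1 this with h3 | h3
    · exact h3
    · exact absurd h3 hpψ
  let χ₁ : {χ : Cfsg.IrrCharacter G // p ∣ Cfsg.charDegree (χ : G → ℂ)} :=
    ⟨⟨_, hθ₁⟩, by show p ∣ charDegree (fun g => prodFun φ (ψ' : K → ℂ) (e.symm g)); rw [e1]; exact Dvd.dvd.mul_right hpφ _⟩
  have heq : χ₁ = χ₀ := Subsingleton.elim _ _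
  apply hψ'
  apply Subtype.ext
  funext k
  have h4 : (χ₁.1 : G → ℂ) (e (1, k)) = (χ₀.1 : G → ℂ) (e (1, k)) := by rw [heq]
  have h5 : (χ₁.1 : G → ℂ) (e (1, k)) = φ 1 * (ψ' : K → ℂ) k := by
    show prodFun φ (ψ' : K → ℂ) (e.symm (e (1, k))) = _
    rw [MulEquiv.symm_apply_apply]; rfl
  have h6 : (χ₀.1 : G → ℂ) (e (1, k)) = φ 1 * ψ k := by
    have := congrFun hθ (1, k)
    change (χ₀.1 : G → ℂ) (e (1, k)) = prodFun φ ψ (1, k) at this
    rw [this]; rfl
  rw [h5, h6] at h4
  have hφ1 : φ 1 ≠ 0 := IsIrrCharacter.apply_one_ne_zero hφ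
  exact mul_left_cancel₀ hφ1 h4




/-- in a `p`-group an irreducible character of degree prime to `p` is linear -/
theorem apply_one_eq_one_of_not_dvd {p : ℕ} [hp : Fact p.Prime] (hG : IsPGroup p G)
    (χ : IrrCharacter G) (h : ¬ p ∣ charDegree (χ : G → ℂ)) : (χ : G → ℂ) 1 = 1 := by
  have : Fintype G := Fintype.ofFinite G
  obtain ⟨n, hn⟩ := hG.exists_card_eq
  have h1 := IsIrrCharacter.charDegree_dvd_card χ.2
  rw [hn] at h1
  obtain ⟨j, -, hj⟩ := (Nat.dvd_prime_pow hp.out).1 h1
  have hj0 : j = 0 := by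
    by_contra hj0
    apply h
    rw [hj]
    exact dvd_pow_self p hj0
  rw [hj0, pow_zero] at hj
  rw [IsCharacter.apply_one_eq_charDegree (IsIrrCharacter.isCharacter χ.2), hj, Nat.cast_one]


theorem charDegree_eq_one_iff (χ : IrrCharacter G) :
    charDegree (χ : G → ℂ) = 1 ↔ (χ : G → ℂ) 1 = 1 := by
  rw [IsCharacter.apply_one_eq_charDegree (IsIrrCharacter.isCharacter χ.2)]
  constructor
  · intro h; rw [h, Nat.cast_one]
  · intro h; exact_mod_cast h


/-- a linear character is trivial on the commutator subgroup -/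
theorem apply_eq_one_of_mem_commutator (χ : IrrCharacter G) (h1 : (χ : G → ℂ) 1 = 1) {z : G}
    (hz : z ∈ commutator G) : (χ : G → ℂ) z = 1 := by
  have hk := Abelianization.commutator_subset_ker
    (linearCharHom (IsIrrCharacter.isCharacter χ.2) h1) hz
  rw [MonoidHom.mem_ker] at hk
  have := linearCharHom_apply (IsIrrCharacter.isCharacter χ.2) h1 z
  rw [hk] at this
  simpa using this.symm


/-- a finite group all of whose irreducible characters are linear is abelian -/
theorem commutator_eq_bot_of_all_linear {H : Type*} [Group H] [Finite H]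
    (h : ∀ β : IrrCharacter H, (β : H → ℂ) 1 = 1) : commutator H = ⊥ := by
  classical
  have : Fintype H := Fintype.ofFinite H
  have : Fintype (IrrCharacter H) := Fintype.ofFinite _
  have h1 := sum_sq_charDegree (K := H)
  have h2 : ∀ β : IrrCharacter H, charDegree (β : H → ℂ) ^ 2 = 1 := by
    intro β
    rw [(charDegree_eq_one_iff β).2 (h β), one_pow]
  simp only [h2, Finset.sum_const, Finset.card_univ, smul_eq_mul, mul_one] at h1
  have h3 := card_linear_characters (G := H)
  have h4 : Nat.card {χ : IrrCharacter H // (χ : H → ℂ) 1 = 1} = Nat.card (IrrCharacter H) :=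
    Nat.card_congr (Equiv.subtypeUnivEquiv h)
  rw [h4, Nat.card_eq_fintype_card, h1] at h3
  have h5 := Subgroup.card_mul_index (commutator H)
  rw [← h3] at h5
  have h6 : Nat.card (commutator H) = 1 := by
    have hpos : 0 < Nat.card H := Nat.card_pos
    have : Nat.card (commutator H) * Nat.card H = 1 * Nat.card H := by rw [h5, one_mul]
    exact Nat.eq_of_mul_eq_mul_right hpos this
  exact Subgroup.card_eq_one.1 h6


/-- the counting identity -/
theorem index_add_sq {p : ℕ} [hp : Fact p.Prime] (hG : IsPGroup p G)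
    (h1 : Nat.card {χ : Cfsg.IrrCharacter G // p ∣ Cfsg.charDegree (χ : G → ℂ)} = 1)
    (χ₀ : {χ : Cfsg.IrrCharacter G // p ∣ Cfsg.charDegree (χ : G → ℂ)}) :
    (commutator G).index + charDegree (χ₀.1 : G → ℂ) ^ 2 = Nat.card G := by
  classical
  have : Fintype G := Fintype.ofFinite G
  have : Fintype (IrrCharacter G) := Fintype.ofFinite _
  obtain ⟨hsub, -⟩ := Nat.card_eq_one_iff_unique.1 h1
  have hlin : ∀ χ : IrrCharacter G, χ ≠ χ₀.1 → (χ : G → ℂ) 1 = 1 := by
    intro χ hne
    apply apply_one_eq_one_of_not_dvd hG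
    intro hd
    apply hne
    have : (⟨χ, hd⟩ : {χ : Cfsg.IrrCharacter G // p ∣ Cfsg.charDegree (χ : G → ℂ)}) = χ₀ :=
      Subsingleton.elim _ _
    exact congrArg Subtype.val this
  have hnl : (χ₀.1 : G → ℂ) 1 ≠ 1 := by
    intro h
    have := (charDegree_eq_one_iff χ₀.1).2 h
    have h2 := χ₀.2
    rw [this] at h2
    exact hp.out.one_lt.ne' (Nat.dvd_one.1 h2)
  have h3 := sum_sq_charDegree (K := G)
  rw [← Finset.add_sum_erase Finset.univ _ (Finset.mem_univ χ₀.1)] at h3
  have h4 : ∑ χ ∈ Finset.univ.erase χ₀.1, charDegree (χ : G → ℂ) ^ 2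
      = (Finset.univ.erase χ₀.1).card := by
    rw [Finset.card_eq_sum_ones]
    apply Finset.sum_congr rfl
    intro χ hχ
    rw [(charDegree_eq_one_iff χ).2 (hlin χ (Finset.ne_of_mem_erase hχ)), one_pow]
  rw [h4] at h3
  have h5 : Nat.card {χ : IrrCharacter G // (χ : G → ℂ) 1 = 1} = (Finset.univ.erase χ₀.1).card := by
    rw [Nat.card_eq_fintype_card, Fintype.card_subtype]
    congr 1
    ext χ
    simp only [Finset.mem_filter, Finset.mem_univ, true_and, Finset.mem_erase, and_true]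
    constructor
    · intro h he; rw [he] at h; exact hnl h
    · intro h; exact hlin χ h
  rw [← h5, card_linear_characters] at h3
  omega




/-- all other irreducible characters are linear -/
theorem linear_of_ne {p : ℕ} [hp : Fact p.Prime] (hG : IsPGroup p G)
    (h1 : Nat.card {χ : Cfsg.IrrCharacter G // p ∣ Cfsg.charDegree (χ : G → ℂ)} = 1)
    (χ₀ : {χ : Cfsg.IrrCharacter G // p ∣ Cfsg.charDegree (χ : G → ℂ)})
    (χ : IrrCharacter G) (hne : χ ≠ χ₀.1) : (χ : G → ℂ) 1 = 1 := by
  obtain ⟨hsub, -⟩ := Nat.card_eq_one_iff_unique.1 h1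
  apply apply_one_eq_one_of_not_dvd hG
  intro hd
  apply hne
  have : (⟨χ, hd⟩ : {χ : Cfsg.IrrCharacter G // p ∣ Cfsg.charDegree (χ : G → ℂ)}) = χ₀ :=
    Subsingleton.elim _ _
  exact congrArg Subtype.val this


/-- the derived subgroup is central of order `p` -/
theorem commutator_card {p : ℕ} [hp : Fact p.Prime] (hG : IsPGroup p G)
    (h1 : Nat.card {χ : Cfsg.IrrCharacter G // p ∣ Cfsg.charDegree (χ : G → ℂ)} = 1)
    (χ₀ : {χ : Cfsg.IrrCharacter G // p ∣ Cfsg.charDegree (χ : G → ℂ)}) :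
    Nat.card (commutator G) = p ∧ commutator G ≤ Subgroup.center G := by
  classical
  have : Fintype G := Fintype.ofFinite G
  have : Fintype (IrrCharacter G) := Fintype.ofFinite _
  have hnil : Group.IsNilpotent G := hG.isNilpotent
  have hcnt := index_add_sq hG h1 χ₀
  have hdpos : 0 < charDegree (χ₀.1 : G → ℂ) := IsIrrCharacter.charDegree_pos χ₀.1.2
  have hne : commutator G ≠ ⊥ := by
    intro hbot
    rw [hbot, Subgroup.index_bot] at hcnt
    have : 0 < charDegree (χ₀.1 : G → ℂ) ^ 2 := by positivity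
    omega
  have hN := Cfsg.Agent.Lib.Helper1.normal_inf_center_ne_bot (commutator G) hne
  set N := commutator G ⊓ Subgroup.center G with hNdef
  have hNp : IsPGroup p N := hG.to_subgroup N
  have hpN : p ∣ Nat.card N := by
    obtain ⟨a, ha⟩ := hNp.exists_card_eq
    rw [ha]
    apply dvd_pow_self
    intro h0
    rw [h0, pow_zero] at ha
    exact hN (Subgroup.card_eq_one.1 ha)
  obtain ⟨z', hz'⟩ := exists_prime_orderOf_dvd_card' p hpN
  set z : G := (z' : G) with hz
  have hzo : orderOf z = p := by rw [hz, Subgroup.orderOf_coe]; exact hz'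
  have hzN : z ∈ N := z'.2
  have hzc : z ∈ commutator G := hzN.1
  have hzZ : z ∈ Subgroup.center G := hzN.2
  have hz1 : z ≠ 1 := by
    intro he
    rw [he, orderOf_one] at hzo
    exact hp.out.one_lt.ne hzo
  set Z₁ := Subgroup.zpowers z with hZ₁
  have hZ₁Z : Z₁ ≤ Subgroup.center G := Subgroup.zpowers_le.2 hzZ
  have hZ₁c : Z₁ ≤ commutator G := Subgroup.zpowers_le.2 hzc
  have hZ₁n : Z₁.Normal := by
    constructor
    intro n hn g
    have := Subgroup.mem_center_iff.1 (hZ₁Z hn) g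
    have e : g * n * g⁻¹ = n := by rw [this]; group
    rw [e]; exact hn
  have hZ₁card : Nat.card Z₁ = p := by rw [hZ₁, Nat.card_zpowers, hzo]
  have hle : commutator G ≤ Z₁ := by
    by_contra hnot
    have hH : commutator (G ⧸ Z₁) ≠ ⊥ := by
      intro hbot
      apply hnot
      rw [commutator_eq_closure, Subgroup.closure_le]
      rintro x ⟨a, b, rfl⟩
      rw [SetLike.mem_coe, ← QuotientGroup.eq_one_iff]
      have h2 : ⁅(a : G ⧸ Z₁), (b : G ⧸ Z₁)⁆ ∈ commutator (G ⧸ Z₁) :=
        Subgroup.commutator_mem_commutator (Subgroup.mem_top _) (Subgroup.mem_top _)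
      rw [hbot, Subgroup.mem_bot] at h2
      rw [← h2]
      simp [commutatorElement_def]
    obtain ⟨β, hβ⟩ : ∃ β : IrrCharacter (G ⧸ Z₁), (β : G ⧸ Z₁ → ℂ) 1 ≠ 1 := by
      by_contra hall
      push Not at hall
      exact hH (commutator_eq_bot_of_all_linear hall)
    have hχ' : IsIrrCharacter G (fun g : G => (β : G ⧸ Z₁ → ℂ) (QuotientGroup.mk g)) :=
      IsIrrCharacter.comp_mk Z₁ β.2
    have hχ'eq : (⟨_, hχ'⟩ : IrrCharacter G) = χ₀.1 := by
      by_contra hne'
      have := linear_of_ne hG h1 χ₀ _ hne'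
      exact hβ this
    have hχ₀z : (χ₀.1 : G → ℂ) z = (χ₀.1 : G → ℂ) 1 := by
      rw [← hχ'eq]
      show (β : G ⧸ Z₁ → ℂ) (QuotientGroup.mk z) = (β : G ⧸ Z₁ → ℂ) (QuotientGroup.mk 1)
      rw [(QuotientGroup.eq_one_iff z).2 (Subgroup.mem_zpowers z), QuotientGroup.mk_one]
    have hall : ∀ χ : IrrCharacter G, (χ : G → ℂ) z = (χ : G → ℂ) 1 := by
      intro χ
      by_cases hχ : χ = χ₀.1
      · rw [hχ]; exact hχ₀z
      · have hl := linear_of_ne hG h1 χ₀ χ hχ
        rw [apply_eq_one_of_mem_commutator χ hl hzc, hl]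
    have s1 := sum_irr_apply_mul_apply_one (G := G) z
    have s2 := sum_irr_apply_mul_apply_one (G := G) 1
    rw [if_neg hz1] at s1
    rw [if_pos rfl] at s2
    simp only [hall] at s1
    rw [s1] at s2
    exact card_ne_zero_complex G s2.symm
  have heq : commutator G = Z₁ := le_antisymm hle hZ₁c
  exact ⟨by rw [heq, hZ₁card], by rw [heq]; exact hZ₁Z⟩




/-- the prime is `2` -/
theorem prime_eq_two {p : ℕ} [hp : Fact p.Prime] (hG : IsPGroup p G)
    (h1 : Nat.card {χ : Cfsg.IrrCharacter G // p ∣ Cfsg.charDegree (χ : G → ℂ)} = 1)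
    (χ₀ : {χ : Cfsg.IrrCharacter G // p ∣ Cfsg.charDegree (χ : G → ℂ)}) : p = 2 := by
  have : Fintype G := Fintype.ofFinite G
  have hcnt := index_add_sq hG h1 χ₀
  obtain ⟨hc, -⟩ := commutator_card hG h1 χ₀
  have hmul := Subgroup.card_mul_index (commutator G)
  rw [hc] at hmul
  set d := charDegree (χ₀.1 : G → ℂ) with hd
  set i := (commutator G).index with hi
  obtain ⟨n, hn⟩ := hG.exists_card_eq
  have hdvd : d ∣ Nat.card G := IsIrrCharacter.charDegree_dvd_card χ₀.1.2
  rw [hn] at hdvd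
  obtain ⟨a, -, ha⟩ := (Nat.dvd_prime_pow hp.out).1 hdvd
  have h2 : (p - 1) * i = d ^ 2 := by
    have hp1 : 1 ≤ p := hp.out.one_lt.le
    have : p * i = i + d ^ 2 := by rw [hmul, hcnt]
    have e : (p - 1) * i + i = p * i := by
      have : (p - 1 + 1) * i = p * i := by rw [Nat.sub_add_cancel hp1]
      linarith [this, add_mul (p - 1) 1 i]
    omega
  have h3 : (p - 1) ∣ p ^ (2 * a) := by
    rw [pow_mul', ← ha, ← h2]  
    exact dvd_mul_right _ _
  obtain ⟨j, -, hj⟩ := (Nat.dvd_prime_pow hp.out).1 h3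
  rcases Nat.eq_zero_or_pos j with h0 | h0
  · rw [h0, pow_zero] at hj
    omega
  · exfalso
    have : p ∣ p - 1 := by rw [hj]; exact dvd_pow_self p h0.ne'
    have hp2 := hp.out.two_le
    have := Nat.le_of_dvd (by omega) this
    omega


/-- the centre has order `2` -/
theorem card_center (hG : IsPGroup 2 G)
    (h1 : Nat.card {χ : Cfsg.IrrCharacter G // 2 ∣ Cfsg.charDegree (χ : G → ℂ)} = 1)
    (χ₀ : {χ : Cfsg.IrrCharacter G // 2 ∣ Cfsg.charDegree (χ : G → ℂ)}) :
    Nat.card (Subgroup.center G) = 2 := by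
  classical
  have : Fintype G := Fintype.ofFinite G
  have : Fintype (IrrCharacter G) := Fintype.ofFinite _
  haveI : Fact (Nat.Prime 2) := ⟨Nat.prime_two⟩
  have hcnt := index_add_sq hG h1 χ₀
  obtain ⟨hc, hcZ⟩ := commutator_card hG h1 χ₀
  have hmul := Subgroup.card_mul_index (commutator G)
  rw [hc] at hmul
  set d := charDegree (χ₀.1 : G → ℂ) with hd
  set i := (commutator G).index with hi
  have hdi : d ^ 2 = i := by omega
  have hG2 : Nat.card G = 2 * d ^ 2 := by omega
  have hge : 2 ≤ Nat.card (Subgroup.center G) := by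
    rw [← hc]; exact Subgroup.card_le_of_le hcZ
  apply le_antisymm _ hge
  -- values on the centre
  have hval : ∀ z ∈ Subgroup.center G,
      (χ₀.1 : G → ℂ) z * (starRingEnd ℂ) ((χ₀.1 : G → ℂ) z) = ((d ^ 2 : ℕ) : ℂ) := by
    intro z hz
    have s := (sum_irr_mul_conj (G := G) z z).1 (IsConj.refl z)
    have hcz : Subgroup.centralizer ({z} : Set G) = ⊤ := by
      rw [eq_top_iff]
      intro g _
      rw [Subgroup.mem_centralizer_singleton_iff]
      exact Subgroup.mem_center_iff.1 hz g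
    rw [hcz, Subgroup.card_top] at s
    rw [← Finset.add_sum_erase Finset.univ _ (Finset.mem_univ χ₀.1)] at s
    have h4 : ∑ χ ∈ Finset.univ.erase χ₀.1, (χ : G → ℂ) z * (starRingEnd ℂ) ((χ : G → ℂ) z)
        = ((Finset.univ.erase χ₀.1).card : ℂ) := by
      rw [Finset.card_eq_sum_ones, Nat.cast_sum]
      apply Finset.sum_congr rfl
      intro χ hχ
      have hl := linear_of_ne hG h1 χ₀ χ (Finset.ne_of_mem_erase hχ)
      have hch := IsIrrCharacter.isCharacter χ.2
      rw [← IsCharacter.apply_inv hch, ← IsCharacter.mul_of_apply_one_eq_one hch hl,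
        mul_inv_cancel, hl, Nat.cast_one]
    rw [h4] at s
    have h5 : (Finset.univ.erase χ₀.1).card = Nat.card (IrrCharacter G) - 1 := by
      rw [Finset.card_erase_of_mem (Finset.mem_univ _), Finset.card_univ,
        Nat.card_eq_fintype_card]
    -- number of irreducible characters
    have h6 : Nat.card (IrrCharacter G) - 1 = i := by
      have h3 := sum_sq_charDegree (K := G)
      rw [← Finset.add_sum_erase Finset.univ _ (Finset.mem_univ χ₀.1)] at h3
      have h7 : ∑ χ ∈ Finset.univ.erase χ₀.1, charDegree (χ : G → ℂ) ^ 2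
          = (Finset.univ.erase χ₀.1).card := by
        rw [Finset.card_eq_sum_ones]
        apply Finset.sum_congr rfl
        intro χ hχ
        rw [(charDegree_eq_one_iff χ).2 (linear_of_ne hG h1 χ₀ χ (Finset.ne_of_mem_erase hχ)),
          one_pow]
      rw [h7, h5] at h3
      rw [← hd] at h3
      omega
    rw [h5, h6] at s
    have : ((Nat.card G : ℕ) : ℂ) = ((d ^ 2 + i : ℕ) : ℂ) := by
      rw [hG2, ← hdi]; norm_num; ring
    rw [this] at s
    push_cast at s ⊢
    linear_combination s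
  -- norm of `χ₀`
  have hnorm : ∑ g : G, (χ₀.1 : G → ℂ) g * (starRingEnd ℂ) ((χ₀.1 : G → ℂ) g)
      = (Nat.card G : ℂ) := by
    have h7 := classInner_irrCharacter χ₀.1 χ₀.1
    rw [if_pos rfl] at h7
    unfold Cfsg.classInner at h7
    have hG0 : (Nat.card G : ℂ) ≠ 0 := card_ne_zero_complex G
    rw [← mul_one (Nat.card G : ℂ), ← h7, ← mul_assoc, mul_inv_cancel₀ hG0, one_mul]
  have hreal : ∀ g : G, (χ₀.1 : G → ℂ) g * (starRingEnd ℂ) ((χ₀.1 : G → ℂ) g)
      = ((Complex.normSq ((χ₀.1 : G → ℂ) g) : ℝ) : ℂ) := fun g => Complex.mul_conj _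
  simp only [hreal] at hnorm hval
  have hnorm' : ∑ g : G, Complex.normSq ((χ₀.1 : G → ℂ) g) = (Nat.card G : ℝ) := by
    have : ((∑ g : G, Complex.normSq ((χ₀.1 : G → ℂ) g) : ℝ) : ℂ) = ((Nat.card G : ℝ) : ℂ) := by
      push_cast; exact hnorm
    exact_mod_cast this
  have hval' : ∀ z ∈ Subgroup.center G, Complex.normSq ((χ₀.1 : G → ℂ) z) = ((d ^ 2 : ℕ) : ℝ) := by
    intro z hz
    have := hval z hz
    exact_mod_cast this
  have hsub : ∑ g ∈ Finset.univ.filter (fun g : G => g ∈ Subgroup.center G),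
      Complex.normSq ((χ₀.1 : G → ℂ) g) ≤ ∑ g : G, Complex.normSq ((χ₀.1 : G → ℂ) g) :=
    Finset.sum_le_sum_of_subset_of_nonneg (Finset.filter_subset _ _)
      (fun g _ _ => Complex.normSq_nonneg _)
  have hsum : ∑ g ∈ Finset.univ.filter (fun g : G => g ∈ Subgroup.center G),
      Complex.normSq ((χ₀.1 : G → ℂ) g) = (Nat.card (Subgroup.center G) : ℝ) * ((d ^ 2 : ℕ) : ℝ) := by
    rw [Finset.sum_congr rfl (fun g hg => hval' g (Finset.mem_filter.1 hg).2), Finset.sum_const,
      nsmul_eq_mul, Nat.card_eq_fintype_card, Fintype.card_subtype]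
  rw [hsum, hnorm', hG2] at hsub
  have hdpos : 0 < d := IsIrrCharacter.charDegree_pos χ₀.1.2
  have hd2 : (0 : ℝ) < ((d ^ 2 : ℕ) : ℝ) := by positivity
  have : (Nat.card (Subgroup.center G) : ℝ) ≤ 2 := by
    have h8 : (Nat.card (Subgroup.center G) : ℝ) * ((d ^ 2 : ℕ) : ℝ) ≤ 2 * ((d ^ 2 : ℕ) : ℝ) := by
      push_cast at hsub ⊢; linarith
    exact le_of_mul_le_mul_right h8 hd2
  exact_mod_cast this




/-- the forward direction for `2`-groups -/
theorem isExtraspecial_of_unique (hG : IsPGroup 2 G)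
    (h1 : Nat.card {χ : Cfsg.IrrCharacter G // 2 ∣ Cfsg.charDegree (χ : G → ℂ)} = 1) :
    Cfsg.IsExtraspecial 2 G := by
  haveI : Fact (Nat.Prime 2) := ⟨Nat.prime_two⟩
  obtain ⟨-, ⟨χ₀⟩⟩ := Nat.card_eq_one_iff_unique.1 h1
  obtain ⟨hc, hcZ⟩ := commutator_card hG h1 χ₀
  have hZ := card_center hG h1 χ₀
  have hcomm : commutator G = Subgroup.center G :=
    Subgroup.eq_of_le_of_card_ge hcZ (by rw [hc, hZ])
  refine ⟨⟨hG, ?_, hcomm⟩, hZ⟩
  apply le_antisymm
  · apply Cfsg.Agent.Lib.Helper1.frattini_le_of_elementary_quotient 2 (Subgroup.center G) hcZ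
    intro x
    rw [pow_two, Subgroup.mem_center_iff]
    intro y
    -- the commutator of `x` and `y`
    set c := x * y * x⁻¹ * y⁻¹ with hcdef
    have hcc : c ∈ commutator G := by
      rw [commutator_eq_closure]
      exact Subgroup.subset_closure ⟨x, y, rfl⟩
    have hcen := Subgroup.mem_center_iff.1 (hcZ hcc)
    have hc2 : c * c = 1 := by
      have h0 := pow_card_eq_one' (G := commutator G) (x := ⟨c, hcc⟩)
      have h1 := congrArg Subtype.val h0
      rw [Subgroup.coe_pow, Subgroup.coe_one, hc, pow_two] at h1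
      exact h1
    have e1 : x * y * x⁻¹ = c * y := by rw [hcdef]; group
    have e2 : (x * x) * y * (x * x)⁻¹ = y := by
      calc (x * x) * y * (x * x)⁻¹ = x * (x * y * x⁻¹) * x⁻¹ := by group
        _ = x * (c * y) * x⁻¹ := by rw [e1]
        _ = (x * c) * y * x⁻¹ := by group
        _ = (c * x) * y * x⁻¹ := by rw [hcen x]
        _ = c * (x * y * x⁻¹) := by group
        _ = c * (c * y) := by rw [e1]
        _ = (c * c) * y := by group
        _ = y := by rw [hc2, one_mul]
    calc y * (x * x) = ((x * x) * y * (x * x)⁻¹) * (x * x) := by rw [e2]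
      _ = (x * x) * y := by group
  · rw [← hcomm]
    exact Cfsg.Agent.Lib.Helper1.commutator_le_frattini_of_isPGroup 2 hG


/-- the converse direction -/
theorem unique_of_isExtraspecial (hE : Cfsg.IsExtraspecial 2 G) :
    Nat.card {χ : Cfsg.IrrCharacter G // 2 ∣ Cfsg.charDegree (χ : G → ℂ)} = 1 := by
  classical
  have : Fintype G := Fintype.ofFinite G
  have : Fintype (IrrCharacter G) := Fintype.ofFinite _
  haveI : Fact (Nat.Prime 2) := ⟨Nat.prime_two⟩
  obtain ⟨⟨hG, -, hcomm⟩, hZ⟩ := id hE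
  -- nonlinear characters have `2 d² = |G|`
  have hnl : ∀ χ : IrrCharacter G, (χ : G → ℂ) 1 ≠ 1 →
      2 * charDegree (χ : G → ℂ) ^ 2 = Nat.card G := by
    intro χ hχ
    obtain ⟨-, h2⟩ := extraspecial_nonlinear 2 hE χ.2 hχ
    rw [IsCharacter.apply_one_eq_charDegree (IsIrrCharacter.isCharacter χ.2)] at h2
    exact_mod_cast h2
  have hiff : ∀ χ : IrrCharacter G, 2 ∣ charDegree (χ : G → ℂ) ↔ (χ : G → ℂ) 1 ≠ 1 := by
    intro χ
    constructor
    · intro hd h1
      rw [(charDegree_eq_one_iff χ).2 h1] at hd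
      omega
    · intro h1
      obtain ⟨n, hn⟩ := hG.exists_card_eq
      have hdvd := IsIrrCharacter.charDegree_dvd_card χ.2
      rw [hn] at hdvd
      obtain ⟨j, -, hj⟩ := (Nat.dvd_prime_pow Nat.prime_two).1 hdvd
      rcases Nat.eq_zero_or_pos j with h0 | h0
      · rw [h0, pow_zero] at hj
        exact absurd ((charDegree_eq_one_iff χ).1 hj) h1
      · rw [hj]; exact dvd_pow_self 2 h0.ne'
  -- counting
  have hsum := sum_sq_charDegree (K := G)
  rw [← Finset.sum_filter_add_sum_filter_not Finset.univ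
    (fun χ : IrrCharacter G => (χ : G → ℂ) 1 = 1)] at hsum
  have hs1 : ∑ χ ∈ Finset.univ.filter (fun χ : IrrCharacter G => (χ : G → ℂ) 1 = 1),
      charDegree (χ : G → ℂ) ^ 2
      = (Finset.univ.filter (fun χ : IrrCharacter G => (χ : G → ℂ) 1 = 1)).card := by
    rw [Finset.card_eq_sum_ones]
    apply Finset.sum_congr rfl
    intro χ hχ
    rw [(charDegree_eq_one_iff χ).2 (Finset.mem_filter.1 hχ).2, one_pow]
  have hs2 : 2 * ∑ χ ∈ Finset.univ.filter (fun χ : IrrCharacter G => ¬ (χ : G → ℂ) 1 = 1),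
      charDegree (χ : G → ℂ) ^ 2
      = (Finset.univ.filter (fun χ : IrrCharacter G => ¬ (χ : G → ℂ) 1 = 1)).card
        * Nat.card G := by
    rw [Finset.mul_sum, Finset.sum_congr rfl (fun χ hχ => hnl χ (Finset.mem_filter.1 hχ).2),
      Finset.sum_const, smul_eq_mul]
  have hlin : (Finset.univ.filter (fun χ : IrrCharacter G => (χ : G → ℂ) 1 = 1)).card
      = (commutator G).index := by
    rw [← card_linear_characters, Nat.card_eq_fintype_card, Fintype.card_subtype]
  have hidx : 2 * (commutator G).index = Nat.card G := by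
    have := Subgroup.card_mul_index (commutator G)
    rw [hcomm, hZ] at this
    rw [hcomm]; exact this
  rw [hs1, hlin] at hsum
  have hcard1 : (Finset.univ.filter (fun χ : IrrCharacter G => ¬ (χ : G → ℂ) 1 = 1)).card = 1 := by
    have hGpos : 0 < Nat.card G := Nat.card_pos
    set t := (Finset.univ.filter (fun χ : IrrCharacter G => ¬ (χ : G → ℂ) 1 = 1)).card with ht
    have : t * Nat.card G = 1 * Nat.card G := by
      rw [← hs2]
      omega
    exact Nat.eq_of_mul_eq_mul_right hGpos this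
  rw [Nat.card_eq_fintype_card, Fintype.card_subtype, ← hcard1]
  congr 1
  ext χ
  simp only [Finset.mem_filter, Finset.mem_univ, true_and]
  exact hiff χ


theorem result' [Group.IsNilpotent G] (p : ℕ) [hp : Fact p.Prime] :
    Nat.card {χ : Cfsg.IrrCharacter G // p ∣ Cfsg.charDegree (χ : G → ℂ)} = 1 ↔
      (p = 2 ∧ Cfsg.IsExtraspecial 2 G) := by
  constructor
  · intro h1
    have hG := isPGroup_of_unique p h1
    obtain ⟨-, ⟨χ₀⟩⟩ := Nat.card_eq_one_iff_unique.1 h1
    have hp2 := prime_eq_two hG h1 χ₀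
    subst hp2
    exact ⟨rfl, isExtraspecial_of_unique hG h1⟩
  · rintro ⟨rfl, hE⟩
    exact unique_of_isExtraspecial hE





/-- Let p be a prime and G a finite nilpotent group. Then G has exactly one irreducible complex character of degree divisible by p if and only if p = 2 and G is an extraspecial 2-group. -/
theorem result {G : Type*} [Group G] [Finite G] [Group.IsNilpotent G] (p : ℕ) [Fact p.Prime] : Nat.card {χ : Cfsg.IrrCharacter G // p ∣ Cfsg.charDegree (χ : G → ℂ)} = 1 ↔ (p = 2 ∧ Cfsg.IsExtraspecial 2 G) := by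
  exact result' p

end Cfsg.Agent.S4762
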