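import Cfsg.Statements.S4763
import Mathlib
import Cfsg.Agent.Lib.Helper6.OnePSing2
import Cfsg.Agent.Lib.Helper6.ClassCount
import Cfsg.Agent.S4452

set_option autoImplicit false
open Cfsg

namespace Cfsg.Agent.S4763

open Cfsg.Agent.Lib.Helper6

/-- Let p be a prime and G a finite group that is not nilpotent and has a normal p-complement (a normal subgroup of order prime to p and index a power of p). If G has exactly one irreducible complex character of degree divisible by p, then G has exactly one conjugacy class whose size is divisible by p. -/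
theorem result {G : Type*} [Group G] [Finite G] (p : ℕ) [Fact p.Prime] (hnil : ¬ Group.IsNilpotent G) (N : Subgroup G) [N.Normal] (hN : (Nat.card N).Coprime p) (hidx : ∃ k : ℕ, N.index = p ^ k) (hone : Nat.card {χ : Cfsg.IrrCharacter G // p ∣ Cfsg.charDegree (χ : G → ℂ)} = 1) : Nat.card {C : ConjClasses G // p ∣ Nat.card C.carrier} = 1 := by
  classical
  haveI : Fintype G := Fintype.ofFinite G
  have hp : p.Prime := Fact.out
  have hcommQ := quotient_comm_of_unique_pSingular p hnil N hN hidx hone
  obtain ⟨k, hk⟩ := hidx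
  have hndvd : ¬ p ∣ Nat.card N := (Nat.Prime.coprime_iff_not_dvd hp).mp hN.symm
  have hcardG : Nat.card G = Nat.card N * p ^ k := by rw [← hk, Subgroup.card_mul_index]
  have hfac : (Nat.card G).factorization p = k := by
    rw [hcardG, Nat.factorization_mul Nat.card_pos.ne' (pow_ne_zero _ hp.ne_zero),
      Finsupp.add_apply, Nat.factorization_eq_zero_of_not_dvd hndvd, hp.factorization_pow,
      Finsupp.single_eq_same, zero_add]
  obtain ⟨P⟩ : Nonempty (Sylow p G) := inferInstance
  have hPcard : Nat.card (P : Subgroup G) = p ^ k := by rw [P.card_eq_multiplicity, hfac]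
  have hk0 : k ≠ 0 := by
    intro h0
    obtain ⟨⟨χ, hχ⟩⟩ := (Nat.card_eq_one_iff_unique.mp hone).2
    have h1 := IsIrrCharacter.charDegree_dvd_card χ.2
    rw [hcardG, h0, pow_zero, mul_one] at h1
    exact hndvd (dvd_trans hχ h1)
  have hcopNP : (Nat.card N).Coprime (Nat.card (P : Subgroup G)) := by
    rw [hPcard]; exact Nat.Coprime.pow_right k hN
  have hPN : ∀ x ∈ (P : Subgroup G), x ∈ N → x = 1 := by
    intro x hxP hxN
    have h1 : orderOf x ∣ Nat.card N := Subgroup.orderOf_dvd_natCard N hxN
    have h2 : orderOf x ∣ Nat.card (P : Subgroup G) := Subgroup.orderOf_dvd_natCard _ hxP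
    exact orderOf_eq_one_iff.mp (Nat.eq_one_of_dvd_coprimes hcopNP h1 h2)
  have hPcomm : ∀ x ∈ (P : Subgroup G), ∀ y ∈ (P : Subgroup G), x * y = y * x := by
    intro x hx y hy
    have h1 := hcommQ (x : G ⧸ N) (y : G ⧸ N)
    rw [← QuotientGroup.mk_mul, ← QuotientGroup.mk_mul, QuotientGroup.eq] at h1
    have h2 := hPN _ ((P : Subgroup G).mul_mem ((P : Subgroup G).inv_mem
      ((P : Subgroup G).mul_mem hx hy)) ((P : Subgroup G).mul_mem hy hx)) h1
    exact inv_mul_eq_one.mp h2
  have hsup : N ⊔ (P : Subgroup G) = ⊤ := by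
    apply Subgroup.IsComplement'.sup_eq_top
    apply Subgroup.isComplement'_of_coprime _ hcopNP
    rw [hPcard, hcardG]
  have hNC : Subgroup.normalizer ((P : Subgroup G) : Set G)
      ≤ Subgroup.centralizer ((P : Subgroup G) : Set G) := by
    intro x hx
    have hx' : x ∈ ((N ⊔ (P : Subgroup G) : Subgroup G) : Set G) := by
      rw [hsup]; exact Set.mem_univ x
    rw [Subgroup.normal_mul, Set.mem_mul] at hx'
    obtain ⟨n, hn, u, hu, rfl⟩ := hx'
    have hun : u ∈ Subgroup.normalizer ((P : Subgroup G) : Set G) := Subgroup.le_normalizer hu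
    have hnn : n ∈ Subgroup.normalizer ((P : Subgroup G) : Set G) := by
      have := mul_mem hx (inv_mem hun)
      rwa [mul_inv_cancel_right] at this
    rw [Subgroup.mem_centralizer_iff]
    intro y hy
    have hy' : y ∈ (P : Subgroup G) := hy
    have h1 : n * y * n⁻¹ ∈ (P : Subgroup G) := (Subgroup.mem_set_normalizer_iff.mp hnn y).mp hy
    have h2 : n * y * n⁻¹ * y⁻¹ ∈ (P : Subgroup G) :=
      (P : Subgroup G).mul_mem h1 ((P : Subgroup G).inv_mem hy')
    have h3 : n * y * n⁻¹ * y⁻¹ ∈ N := by
      have h4 : y * n⁻¹ * y⁻¹ ∈ N := (inferInstance : N.Normal).conj_mem _ (N.inv_mem hn) y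
      have h5 : n * y * n⁻¹ * y⁻¹ = n * (y * n⁻¹ * y⁻¹) := by group
      rw [h5]; exact N.mul_mem hn h4
    have h6 := hPN _ h2 h3
    have h7 : n * y = y * n := by
      have : n * y * n⁻¹ * y⁻¹ * (y * n) = 1 * (y * n) := by rw [h6]
      rw [one_mul] at this
      rw [← this]; group
    calc y * (n * u) = (y * n) * u := by rw [mul_assoc]
      _ = (n * y) * u := by rw [h7]
      _ = n * (y * u) := by rw [mul_assoc]
      _ = n * (u * y) := by rw [hPcomm y hy' u hu]
      _ = n * u * y := by rw [mul_assoc]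
  have hA := card_pPrime_classes_eq p P hNC
  haveI : Group.IsSolvable (P : Subgroup G) := by
    haveI := P.2.isNilpotent
    infer_instance
  have hB := Cfsg.Agent.S4452.result N (P : Subgroup G) hsup hcopNP inferInstance
  have hall : ∀ η : Cfsg.IrrCharacter ↥(Subgroup.normalizer ((P : Subgroup G) : Set G)),
      (Cfsg.charDegree (η : ↥(Subgroup.normalizer ((P : Subgroup G) : Set G)) → ℂ)).Coprime
        (Nat.card (P : Subgroup G)) := by
    intro η
    obtain ⟨M, hM⟩ : ∃ M : Subgroup G, M = Subgroup.normalizer ((P : Subgroup G) : Set G) :=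
      ⟨_, rfl⟩
    have hPM : (P : Subgroup G) ≤ Subgroup.normalizer ((P : Subgroup G) : Set G) :=
      Subgroup.le_normalizer
    have hAn : ((P : Subgroup G).subgroupOf
        (Subgroup.normalizer ((P : Subgroup G) : Set G))).Normal := Subgroup.normal_in_normalizer
    have hAcomm : ∀ a ∈ (P : Subgroup G).subgroupOf
        (Subgroup.normalizer ((P : Subgroup G) : Set G)),
        ∀ b ∈ (P : Subgroup G).subgroupOf (Subgroup.normalizer ((P : Subgroup G) : Set G)),
        a * b = b * a := by
      intro a ha b hb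
      apply Subtype.ext
      exact hPcomm _ (Subgroup.mem_subgroupOf.mp ha) _ (Subgroup.mem_subgroupOf.mp hb)
    obtain ⟨d, hd, hdA⟩ := ito_aux _ ↥(Subgroup.normalizer ((P : Subgroup G) : Set G)) rfl
      ((P : Subgroup G).subgroupOf (Subgroup.normalizer ((P : Subgroup G) : Set G))) hAn hAcomm
      (η : _ → ℂ) η.2
    have hdeg : Cfsg.charDegree (η : ↥(Subgroup.normalizer ((P : Subgroup G) : Set G)) → ℂ)
        = d := by
      have := IsCharacter.apply_one_eq_charDegree (IsIrrCharacter.isCharacter η.2)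
      rw [hd] at this
      exact_mod_cast this.symm
    rw [hdeg, hPcard]
    apply Nat.Coprime.pow_right
    rw [Nat.coprime_comm, Nat.Prime.coprime_iff_not_dvd hp]
    intro hpd
    have h1 : ((P : Subgroup G).subgroupOf
        (Subgroup.normalizer ((P : Subgroup G) : Set G))).index ∣ (P : Subgroup G).index :=
      Dvd.intro _ (Subgroup.relIndex_mul_index hPM)
    exact P.not_dvd_index (dvd_trans hpd (dvd_trans hdA h1))
  have h1 : Nat.card (Cfsg.IrrCharacter G) = Nat.card (ConjClasses G) := card_irrCharacter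
  have h2 : Nat.card (Cfsg.IrrCharacter G)
      = Nat.card {χ : Cfsg.IrrCharacter G // p ∣ Cfsg.charDegree (χ : G → ℂ)}
        + Nat.card {χ : Cfsg.IrrCharacter G // ¬ p ∣ Cfsg.charDegree (χ : G → ℂ)} := by
    rw [← Nat.card_congr (Equiv.sumCompl
      (fun χ : Cfsg.IrrCharacter G => p ∣ Cfsg.charDegree (χ : G → ℂ))), Nat.card_sum]
  have h3 : Nat.card (ConjClasses G)
      = Nat.card {C : ConjClasses G // p ∣ Nat.card C.carrier}
        + Nat.card {C : ConjClasses G // ¬ p ∣ Nat.card C.carrier} := by
    rw [← Nat.card_congr (Equiv.sumCompl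
      (fun C : ConjClasses G => p ∣ Nat.card C.carrier)), Nat.card_sum]
  have h4 : Nat.card {χ : Cfsg.IrrCharacter G // ¬ p ∣ Cfsg.charDegree (χ : G → ℂ)}
      = Nat.card {χ : Cfsg.IrrCharacter G //
          (Cfsg.charDegree (χ : G → ℂ)).Coprime (Nat.card (P : Subgroup G))} := by
    apply Nat.card_congr
    apply Equiv.subtypeEquivRight
    intro χ
    rw [hPcard]
    constructor
    · intro h
      exact Nat.Coprime.pow_right k ((Nat.Prime.coprime_iff_not_dvd hp).mpr h).symm
    · intro h
      have h5 : (Cfsg.charDegree (χ : G → ℂ)).Coprime p :=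
        Nat.Coprime.coprime_dvd_right (dvd_pow_self p hk0) h
      exact (Nat.Prime.coprime_iff_not_dvd hp).mp h5.symm
  have h5 : Nat.card {η : Cfsg.IrrCharacter ↥(Subgroup.normalizer ((P : Subgroup G) : Set G)) //
      (Cfsg.charDegree (η : ↥(Subgroup.normalizer ((P : Subgroup G) : Set G)) → ℂ)).Coprime
        (Nat.card (P : Subgroup G))}
      = Nat.card (Cfsg.IrrCharacter ↥(Subgroup.normalizer ((P : Subgroup G) : Set G))) :=
    Nat.card_congr (Equiv.subtypeUnivEquiv hall)
  have h6 : Nat.card (Cfsg.IrrCharacter ↥(Subgroup.normalizer ((P : Subgroup G) : Set G)))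
      = Nat.card (ConjClasses ↥(Subgroup.normalizer ((P : Subgroup G) : Set G))) :=
    card_irrCharacter
  omega

end Cfsg.Agent.S4763
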