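import Cfsg.Statements.S4765
import Cfsg.Agent.Lib.Helper4.PSL2Deg

set_option autoImplicit false
open Cfsg

namespace Cfsg.Agent.S4765

open Cfsg.Agent.Lib.Helper4

/-- Let F be a finite field of characteristic p with at least 4 elements. Then PSL(2,F) has exactly one irreducible complex character of degree divisible by p, and its degree is the order of F. -/
theorem result (p : ℕ) [Fact p.Prime] (F : Type*) [Field F] [Fintype F] [CharP F p] (hF : 4 ≤ Fintype.card F) : Nat.card {χ : Cfsg.IrrCharacter (Matrix.ProjectiveSpecialLinearGroup (Fin 2) F) // p ∣ Cfsg.charDegree (χ : Matrix.ProjectiveSpecialLinearGroup (Fin 2) F → ℂ)} = 1 ∧ ∀ χ : Cfsg.IrrCharacter (Matrix.ProjectiveSpecialLinearGroup (Fin 2) F), p ∣ Cfsg.charDegree (χ : Matrix.ProjectiveSpecialLinearGroup (Fin 2) F → ℂ) → Cfsg.charDegree (χ : Matrix.ProjectiveSpecialLinearGroup (Fin 2) F → ℂ) = Fintype.card F := by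
  have hp : p.Prime := Fact.out
  obtain ⟨n, -, hn⟩ := FiniteField.card F p
  have hpq : p ∣ Fintype.card F := by
    rw [hn]
    exact dvd_pow_self p n.ne_zero
  have hq1 : 1 ≤ Fintype.card F := by omega
  have hnot1 : ¬ p ∣ 1 := hp.one_lt.ne' ∘ Nat.dvd_one.mp
  have key : ∀ χ : Cfsg.IrrCharacter (Matrix.ProjectiveSpecialLinearGroup (Fin 2) F),
      p ∣ Cfsg.charDegree (χ : Matrix.ProjectiveSpecialLinearGroup (Fin 2) F → ℂ) →
      Cfsg.charDegree (χ : Matrix.ProjectiveSpecialLinearGroup (Fin 2) F → ℂ) = Fintype.card F := by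
    intro χ hχ
    have hmem : Cfsg.charDegree (χ : Matrix.ProjectiveSpecialLinearGroup (Fin 2) F → ℂ) ∈
        Cfsg.charDegrees (Matrix.SpecialLinearGroup (Fin 2) F) :=
      charDegrees_PSL2_subset ⟨χ, rfl⟩
    rcases sl2_degree_cases hmem with h | h | h | h | h | h
    · rw [h] at hχ; exact absurd hχ hnot1
    · exact h
    · exfalso
      rw [h] at hχ
      exact hnot1 ((Nat.dvd_add_right hpq).mp hχ)
    · exfalso
      rw [h] at hχ
      have : p ∣ (Fintype.card F - 1) + 1 := by rw [Nat.sub_add_cancel hq1]; exact hpq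
      exact hnot1 ((Nat.dvd_add_right hχ).mp this)
    · exfalso
      have h2 : p ∣ Fintype.card F + 1 := by rw [← h]; exact Dvd.dvd.mul_left hχ 2
      exact hnot1 ((Nat.dvd_add_right hpq).mp h2)
    · exfalso
      have h2 : p ∣ Fintype.card F - 1 := by rw [← h]; exact Dvd.dvd.mul_left hχ 2
      have : p ∣ (Fintype.card F - 1) + 1 := by rw [Nat.sub_add_cancel hq1]; exact hpq
      exact hnot1 ((Nat.dvd_add_right h2).mp this)
  refine ⟨?_, key⟩
  rw [Nat.card_eq_one_iff_unique]
  constructor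
  · constructor
    rintro ⟨χ, hχ⟩ ⟨χ', hχ'⟩
    apply Subtype.ext
    exact psl2_degree_card_unique (by omega) χ χ' (key χ hχ) (key χ' hχ')
  · obtain ⟨χ, hχ⟩ := card_mem_charDegrees_PSL2 (F := F)
    exact ⟨⟨χ, by rw [hχ]; exact hpq⟩⟩

end Cfsg.Agent.S4765
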