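import Cfsg.Statements.S4774
import Cfsg.Agent.Lib.Helper4.PSL2Odd

set_option autoImplicit false
open Cfsg

namespace Cfsg.Agent.S4774

open Cfsg.Agent.Lib.Helper4

/-- Let F be a finite field of odd characteristic t with q > 5 elements and let S be isomorphic to PSL(2,F) or to SL(2,F). Then the vertices of the character degree graph of S are the primes dividing q(q²−1); the prime t is adjacent to no vertex; two distinct primes dividing q² − 1 are adjacent exactly when one of them is 2, or both divide q + 1, or both divide q − 1. -/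
theorem result (F : Type*) [Field F] [Fintype F] (t : ℕ) [Fact t.Prime] [CharP F t] (ht : t ≠ 2) (q : ℕ) (hq : Fintype.card F = q) (h5 : 5 < q) {S : Type*} [Group S] [Finite S] (hS : Nonempty (S ≃* Matrix.ProjectiveSpecialLinearGroup (Fin 2) F) ∨ Nonempty (S ≃* Matrix.SpecialLinearGroup (Fin 2) F)) : Cfsg.degreePrimes S = {r : ℕ | r.Prime ∧ r ∣ q * (q ^ 2 - 1)} ∧ ∀ r s : ℕ, (Cfsg.degreeGraph S).Adj r s ↔ (r ≠ s ∧ r.Prime ∧ s.Prime ∧ r ∣ q ^ 2 - 1 ∧ s ∣ q ^ 2 - 1 ∧ (r = 2 ∨ s = 2 ∨ (r ∣ q + 1 ∧ s ∣ q + 1) ∨ (r ∣ q - 1 ∧ s ∣ q - 1))) := by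
  subst hq
  have htp : t.Prime := Fact.out
  obtain ⟨n, -, hn⟩ := FiniteField.card F t
  have hodd : Odd (Fintype.card F) := by
    rw [hn]
    exact (htp.odd_of_ne_two ht).pow
  have h7 : 7 ≤ Fintype.card F := by
    obtain ⟨k, hk⟩ := hodd
    omega
  have hq1 : 1 ≤ Fintype.card F := by omega
  have H : (∀ d ∈ Cfsg.charDegrees S, d = 1 ∨ d = Fintype.card F ∨ d = Fintype.card F + 1 ∨
      d = Fintype.card F - 1 ∨ 2 * d = Fintype.card F + 1 ∨ 2 * d = Fintype.card F - 1) ∧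
      Fintype.card F ∈ Cfsg.charDegrees S ∧ Fintype.card F + 1 ∈ Cfsg.charDegrees S ∧
      Fintype.card F - 1 ∈ Cfsg.charDegrees S := by
    rcases hS with ⟨⟨e⟩⟩ | ⟨⟨e⟩⟩
    · rw [charDegrees_congr e]
      exact ⟨fun d hd => sl2_degree_cases (charDegrees_PSL2_subset hd),
        card_mem_charDegrees_PSL2, succ_mem_charDegrees_PSL2 hodd h7,
        pred_mem_charDegrees_PSL2 hodd h7⟩
    · rw [charDegrees_congr e]
      obtain ⟨h1, h2, h3⟩ := sl2_odd_mem hodd (by omega)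
      exact ⟨fun d hd => sl2_degree_cases hd, h1, h2, h3⟩
  obtain ⟨H1, Hq, Hp, Hm⟩ := H
  constructor
  · exact degreePrimes_eq_of_degrees _ hq1 H1 Hq Hp Hm
  · intro r s
    exact adj_iff_odd _ t n htp hn hodd hq1 H1 Hp Hm r s

end Cfsg.Agent.S4774
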