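import Cfsg.Statements.S4784
import Mathlib
import Cfsg.Agent.Lib.Helper8.FS7
import Cfsg.Agent.Lib.Helper8.McK1

set_option autoImplicit false
open Cfsg

namespace Cfsg.Agent.S4784

open Cfsg.Agent.Lib.Helper6 Cfsg.Agent.Lib.Helper8.FS in
/-- in a group of odd order the indicator of an irreducible character is its multiplicity of the
trivial character -/
theorem s4784_odd {Q : Type*} [Group Q] [Fintype Q] (hodd : Odd (Nat.card Q))
    (β : Cfsg.IrrCharacter Q) (h : fsInd (β : Q → ℂ) = 1) : (β : Q → ℂ) = fun _ => 1 := by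
  classical
  have hcop : (Nat.card Q).Coprime 2 := by
    apply Nat.Coprime.symm
    rw [Nat.Prime.coprime_iff_not_dvd Nat.prime_two]
    exact hodd.not_two_dvd_nat
  have h1 : ∑ q : Q, (β : Q → ℂ) (q * q) = ∑ q : Q, (β : Q → ℂ) q := by
    rw [← Equiv.sum_comp (powCoprime hcop) (fun q => (β : Q → ℂ) q)]
    apply Finset.sum_congr rfl
    intro q _
    rw [powCoprime_apply, pow_two]
  let one : Cfsg.IrrCharacter Q := ⟨fun _ => 1, isIrrCharacter_one⟩
  have h2 : fsInd (β : Q → ℂ) = Cfsg.classInner (β : Q → ℂ) (one : Q → ℂ) := by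
    unfold fsInd Cfsg.classInner
    rw [h1]
    congr 1
    apply Finset.sum_congr rfl
    intro q _
    show _ = (β : Q → ℂ) q * (starRingEnd ℂ) (1 : ℂ)
    rw [map_one, mul_one]
  rw [h2, classInner_irrCharacter] at h
  by_cases hb : β = one
  · rw [hb]
  · rw [if_neg hb] at h
    exact absurd h zero_ne_one

/-- Let H be a subgroup of the finite group G and consider the permutation character of G on the cosets of H (the function induced from the principal character of H). Then exactly one irreducible constituent of it is real-valued with Frobenius–Schur indicator +1 (namely the principal character) if and only if the normal core of H has odd index in G. -/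
theorem result {G : Type*} [Group G] [Fintype G] (H : Subgroup G) : Nat.card {χ : Cfsg.IrrCharacter G // Cfsg.classInner (Cfsg.indFun H (fun _ : H => (1 : ℂ))) (χ : G → ℂ) ≠ 0 ∧ (∀ g : G, (starRingEnd ℂ) ((χ : G → ℂ) g) = (χ : G → ℂ) g) ∧ (Nat.card G : ℂ)⁻¹ * ∑ g : G, (χ : G → ℂ) (g * g) = 1} = 1 ↔ Odd H.normalCore.index := by
  classical
  haveI : Fintype (Cfsg.IrrCharacter G) := Fintype.ofFinite _
  haveI : Fintype H := Fintype.ofFinite H
  -- the permutation character and its multiplicities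
  have hπ : Cfsg.IsCharacter G (Cfsg.indFun H (fun _ : H => (1 : ℂ))) :=
    Cfsg.Agent.Lib.Helper6.IsCharacter.indFun H Cfsg.Agent.Lib.Helper6.isCharacter_one
  obtain ⟨m, hm, hmi⟩ := Cfsg.Agent.Lib.Helper6.IsCharacter.exists_mult hπ
  let one : Cfsg.IrrCharacter G := ⟨fun _ => 1, Cfsg.Agent.Lib.Helper6.isIrrCharacter_one⟩
  have hνone : Cfsg.Agent.Lib.Helper8.FS.fsInd (one : G → ℂ) = 1 := by
    show Cfsg.Agent.Lib.Helper8.FS.fsInd (fun _ : G => (1 : ℂ)) = 1
    unfold Cfsg.Agent.Lib.Helper8.FS.fsInd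
    rw [Finset.sum_const, Finset.card_univ, ← Nat.card_eq_fintype_card, nsmul_eq_mul, mul_one,
      inv_mul_cancel₀ (Cfsg.Agent.Lib.Helper8.FS.card_ne_zero' (G := G))]
  have hmone : m one = 1 := by
    have h1 := hmi one
    rw [Cfsg.Agent.Lib.Helper8.McK.classInner_indFun_irr] at h1
    have h2 : Cfsg.classInner (fun _ : H => (1 : ℂ)) (fun h : H => (one : G → ℂ) h) = 1 := by
      unfold Cfsg.classInner
      show (Nat.card H : ℂ)⁻¹ * ∑ _g : H, (1 : ℂ) * (starRingEnd ℂ) (1 : ℂ) = 1
      rw [map_one, mul_one, Finset.sum_const, Finset.card_univ, ← Nat.card_eq_fintype_card,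
        nsmul_eq_mul, mul_one, inv_mul_cancel₀ (Cfsg.Agent.Lib.Helper6.card_ne_zero_complex H)]
    rw [h2] at h1
    exact_mod_cast h1.symm
  have hPone : Cfsg.classInner (Cfsg.indFun H (fun _ : H => (1 : ℂ))) (one : G → ℂ) ≠ 0 ∧
      (∀ g : G, (starRingEnd ℂ) ((one : G → ℂ) g) = (one : G → ℂ) g) ∧
      (Nat.card G : ℂ)⁻¹ * ∑ g : G, (one : G → ℂ) (g * g) = 1 := by
    refine ⟨?_, ?_, hνone⟩
    · rw [hmi one, hmone]
      norm_num
    · intro g
      show (starRingEnd ℂ) (1 : ℂ) = 1
      exact map_one _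
  -- reformulate the count
  have hcount : Nat.card {χ : Cfsg.IrrCharacter G //
      Cfsg.classInner (Cfsg.indFun H (fun _ : H => (1 : ℂ))) (χ : G → ℂ) ≠ 0 ∧
      (∀ g : G, (starRingEnd ℂ) ((χ : G → ℂ) g) = (χ : G → ℂ) g) ∧
      (Nat.card G : ℂ)⁻¹ * ∑ g : G, (χ : G → ℂ) (g * g) = 1} = 1 ↔
      ∀ χ : Cfsg.IrrCharacter G, m χ ≠ 0 →
        Cfsg.Agent.Lib.Helper8.FS.fsInd (χ : G → ℂ) = 1 → χ = one := by
    constructor
    · intro hc χ hmχ hνχ
      obtain ⟨a, ha⟩ := Nat.card_eq_one_iff_exists.mp hc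
      have hPχ : Cfsg.classInner (Cfsg.indFun H (fun _ : H => (1 : ℂ))) (χ : G → ℂ) ≠ 0 ∧
          (∀ g : G, (starRingEnd ℂ) ((χ : G → ℂ) g) = (χ : G → ℂ) g) ∧
          (Nat.card G : ℂ)⁻¹ * ∑ g : G, (χ : G → ℂ) (g * g) = 1 := by
        refine ⟨?_, ?_, hνχ⟩
        · rw [hmi χ]
          exact_mod_cast hmχ
        · exact Cfsg.Agent.Lib.Helper8.FS.real_of_fsInd_ne_zero χ (by rw [hνχ]; exact one_ne_zero)
      have h1 := ha ⟨χ, hPχ⟩
      have h2 := ha ⟨one, hPone⟩
      have h3 := h1.trans h2.symm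
      exact congrArg Subtype.val h3
    · intro hall
      apply Nat.card_eq_one_iff_exists.mpr
      refine ⟨⟨one, hPone⟩, ?_⟩
      rintro ⟨χ, hχ1, hχ2, hχ3⟩
      apply Subtype.ext
      apply hall χ
      · intro h0
        apply hχ1
        rw [hmi χ, h0]
        simp
      · exact hχ3
  rw [hcount]
  haveI hKn : H.normalCore.Normal := Subgroup.normalCore_normal H
  constructor
  · -- no other constituent of indicator one forces odd index
    intro hall
    by_contra hodd
    rw [Nat.not_odd_iff_even] at hodd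
    -- an involution of the quotient
    haveI : Fact (Nat.Prime 2) := ⟨Nat.prime_two⟩
    have h2dvd : 2 ∣ Nat.card (G ⧸ H.normalCore) := by
      rw [← Subgroup.index_eq_card]
      exact hodd.two_dvd
    obtain ⟨q, hq⟩ := exists_prime_orderOf_dvd_card' (G := G ⧸ H.normalCore) 2 h2dvd
    obtain ⟨t, rfl⟩ := QuotientGroup.mk_surjective q
    have ht1 : t ∉ H.normalCore := by
      intro h
      have : (QuotientGroup.mk t : G ⧸ H.normalCore) = 1 := (QuotientGroup.eq_one_iff t).mpr h
      rw [this, orderOf_one] at hq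
      omega
    have ht2 : t * t ∈ H.normalCore := by
      rw [← QuotientGroup.eq_one_iff, QuotientGroup.mk_mul, ← pow_two, ← hq]
      exact pow_orderOf_eq_one _
    -- conjugate outside H
    obtain ⟨x, hx⟩ : ∃ x : G, x * t * x⁻¹ ∉ H := by
      by_contra hcon
      push Not at hcon
      exact ht1 hcon
    have hs2 : (x * t * x⁻¹) * (x * t * x⁻¹) ∈ H := by
      have h1 : (x * t * x⁻¹) * (x * t * x⁻¹) = x * (t * t) * x⁻¹ := by group
      rw [h1]
      exact H.normalCore_le (hKn.conj_mem _ ht2 x)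
    -- count
    have hN : (Finset.univ.filter (fun g : G => g ∈ H)).card
        < (Finset.univ.filter (fun g : G => g * g ∈ H)).card := by
      apply Finset.card_lt_card
      rw [Finset.ssubset_iff_of_subset]
      · refine ⟨x * t * x⁻¹, ?_, ?_⟩
        · rw [Finset.mem_filter]
          exact ⟨Finset.mem_univ _, hs2⟩
        · rw [Finset.mem_filter]
          exact fun h => hx h.2
      · intro g hg
        rw [Finset.mem_filter] at hg ⊢
        exact ⟨Finset.mem_univ _, H.mul_mem hg.2 hg.2⟩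
    have hHcard : (Finset.univ.filter (fun g : G => g ∈ H)).card = Nat.card H := by
      rw [Nat.card_eq_fintype_card, Fintype.card_subtype]
    rw [hHcard] at hN
    -- the indicator of the permutation character
    have hfs := Cfsg.Agent.Lib.Helper8.FS.fsInd_perm H
    rw [Cfsg.Agent.Lib.Helper8.FS.fsInd_eq_sum_mult m hm] at hfs
    have hre := congrArg Complex.re hfs
    rw [Complex.re_sum] at hre
    have hle : ∑ θ : Cfsg.IrrCharacter G, ((m θ : ℂ) * Cfsg.Agent.Lib.Helper8.FS.fsInd (θ : G → ℂ)).re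
        ≤ 1 := by
      rw [← Finset.add_sum_erase _ _ (Finset.mem_univ one)]
      have h1 : ((m one : ℂ) * Cfsg.Agent.Lib.Helper8.FS.fsInd (one : G → ℂ)).re = 1 := by
        rw [hmone, hνone]
        simp
      rw [h1]
      have h2 : ∑ θ ∈ Finset.univ.erase one,
          ((m θ : ℂ) * Cfsg.Agent.Lib.Helper8.FS.fsInd (θ : G → ℂ)).re ≤ 0 := by
        apply Finset.sum_nonpos
        intro θ hθ
        have hθne : θ ≠ one := (Finset.mem_erase.mp hθ).1
        rw [Complex.mul_re, Complex.natCast_re, Complex.natCast_im, zero_mul, sub_zero]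
        by_cases hmθ : m θ = 0
        · rw [hmθ]
          simp
        · have hν : Cfsg.Agent.Lib.Helper8.FS.fsInd (θ : G → ℂ) ≠ 1 := fun h => hθne (hall θ hmθ h)
          apply mul_nonpos_of_nonneg_of_nonpos (Nat.cast_nonneg _)
          rcases Cfsg.Agent.Lib.Helper8.FS.fsInd_irr_cases θ with h | h | h
          · rw [h]; simp
          · exact absurd h hν
          · rw [h]; simp
      linarith
    rw [hre] at hle
    have hHpos : (0 : ℝ) < (Nat.card H : ℝ) := by exact_mod_cast Nat.card_pos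
    have h3 : ((Nat.card H : ℂ)⁻¹ * ((Finset.univ.filter (fun g : G => g * g ∈ H)).card : ℂ)).re
        = ((Finset.univ.filter (fun g : G => g * g ∈ H)).card : ℝ) / (Nat.card H : ℝ) := by
      rw [← Complex.ofReal_natCast, ← Complex.ofReal_natCast, ← Complex.ofReal_inv,
        ← Complex.ofReal_mul, Complex.ofReal_re]
      field_simp
    rw [h3, div_le_one hHpos] at hle
    have : (Finset.univ.filter (fun g : G => g * g ∈ H)).card ≤ Nat.card H := by exact_mod_cast hle
    omega
  · -- odd index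
    intro hodd χ hmχ hνχ
    have hker : ∀ k ∈ H.normalCore, (χ : G → ℂ) k = (χ : G → ℂ) 1 := by
      intro k hk
      exact Cfsg.Agent.Lib.Helper8.FS.apply_eq_of_mult_ne_zero m hm k
        (Cfsg.Agent.Lib.Helper8.FS.indFun_one_apply_of_mem_core H k hk) χ hmχ
    obtain ⟨β, hβ, hχβ⟩ := Cfsg.Agent.Lib.Helper3.CharQuot.exists_irr_quot H.normalCore χ.2 hker
    haveI : Fintype (G ⧸ H.normalCore) := Fintype.ofFinite _
    haveI : Fintype H.normalCore := Fintype.ofFinite _
    have hfs : Cfsg.Agent.Lib.Helper8.FS.fsInd β = 1 := by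
      rw [← hνχ]
      unfold Cfsg.Agent.Lib.Helper8.FS.fsInd
      have h1 : ∑ g : G, (χ : G → ℂ) (g * g)
          = ∑ g : G, (fun q : G ⧸ H.normalCore => β (q * q)) (QuotientGroup.mk g) := by
        apply Finset.sum_congr rfl
        intro g _
        rw [hχβ]
        rfl
      rw [h1, Cfsg.Agent.Lib.Helper6.sum_comp_mk H.normalCore (fun q => β (q * q))]
      have h2 : (Nat.card G : ℂ) = (Nat.card (G ⧸ H.normalCore) : ℂ) * (Nat.card H.normalCore : ℂ) := by
        rw [← Nat.cast_mul, ← Subgroup.index_eq_card, Subgroup.index_mul_card]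
      have hNc := Cfsg.Agent.Lib.Helper6.card_ne_zero_complex H.normalCore
      have hQc := Cfsg.Agent.Lib.Helper6.card_ne_zero_complex (G ⧸ H.normalCore)
      rw [h2]
      field_simp
    have hoddQ : Odd (Nat.card (G ⧸ H.normalCore)) := by
      rw [← Subgroup.index_eq_card]
      exact hodd
    have hβ1 := s4784_odd hoddQ ⟨β, hβ⟩ hfs
    apply Subtype.ext
    show (χ : G → ℂ) = fun _ => 1
    rw [hχβ]
    funext g
    exact congrFun hβ1 _

end Cfsg.Agent.S4784
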