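import Cfsg.Statements.S4796
import Mathlib
import Cfsg.Agent.Lib.Helper8.Codegree2
import Cfsg.Agent.Lib.Helper1.FrobeniusCount

set_option autoImplicit false
open Cfsg

namespace Cfsg.Agent.S4796

open scoped Pointwise in
open Cfsg.Agent.Lib.Helper6 Cfsg.Agent.Lib.Helper8.Codegree in
theorem frob_of_normal_prime {G : Type*} [Group G] [Finite G] (p m : ℕ) (hp : p.Prime)
    (hm2 : 2 ≤ m) (hmp : m < p) (hcard : Nat.card G = p * m) (P : Subgroup G) (hPn : P.Normal)
    (hPcard : Nat.card P = p)
    (hcent : ∀ c : G, (∀ x ∈ P, c * x = x * c) → c ∈ P) :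
    ∃ H : Subgroup G, Cfsg.IsFrobeniusComplement H ∧ Nat.card ↥(Cfsg.frobeniusKernel H) = p := by
  classical
  haveI : Fact p.Prime := ⟨hp⟩
  have hPidx : P.index = m := by
    have := Subgroup.card_mul_index P
    rw [hPcard, hcard] at this
    exact Nat.eq_of_mul_eq_mul_left hp.pos this
  have hcop : Nat.Coprime (Nat.card P) P.index := by
    rw [hPcard, hPidx]
    exact (Nat.Prime.coprime_iff_not_dvd hp).mpr (fun h => absurd (Nat.le_of_dvd (by omega) h) (by omega))
  obtain ⟨H, hH⟩ := Subgroup.exists_left_complement'_of_coprime hcop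
  have hHcard : Nat.card H = m := by
    have := hH.card_mul_card
    rw [hPcard, hcard, mul_comm] at this
    exact Nat.eq_of_mul_eq_mul_left hp.pos this
  have hHP : H ⊓ P = ⊥ := hH.disjoint.eq_bot
  have hHidx : H.index = p := by
    have := Subgroup.card_mul_index H
    rw [hHcard, hcard, mul_comm] at this
    exact Nat.eq_of_mul_eq_mul_right (show 0 < m by omega) this
  have hfrob : Cfsg.IsFrobeniusComplement H := by
    refine ⟨?_, ?_, ?_⟩
    · intro h
      rw [h, Subgroup.card_bot] at hHcard
      omega
    · intro h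
      rw [h, Subgroup.card_top, hcard] at hHcard
      have : 2 * m ≤ p * m := Nat.mul_le_mul_right m hp.two_le
      omega
    · intro g hg
      rw [eq_bot_iff]
      intro y hy
      obtain ⟨hyH, hyg⟩ := Subgroup.mem_inf.mp hy
      rw [Cfsg.Agent.Lib.Helper1.mem_conj_smul_iff'] at hyg
      -- decompose g = x * h
      have hcompl := (Subgroup.isComplement'_def.mp hH.symm)
      obtain ⟨⟨⟨x, hx⟩, ⟨h, hh⟩⟩, hxh⟩ := hcompl.2 g
      simp only at hxh
      have hx1 : x ≠ 1 := by
        intro h1
        apply hg
        rw [← hxh, h1, one_mul]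
        exact hh
      -- x⁻¹ y x ∈ H
      have hy' : x⁻¹ * y * x ∈ H := by
        have h1 : x⁻¹ * y * x = h * (g⁻¹ * y * g) * h⁻¹ := by
          rw [← hxh]; group
        rw [h1]
        exact H.mul_mem (H.mul_mem hh hyg) (H.inv_mem hh)
      have h2 : y⁻¹ * (x⁻¹ * y * x) ∈ H ⊓ P := by
        refine Subgroup.mem_inf.mpr ⟨H.mul_mem (H.inv_mem hyH) hy', ?_⟩
        have h3 : y⁻¹ * (x⁻¹ * y * x) = (y⁻¹ * x⁻¹ * y⁻¹⁻¹) * x := by group
        rw [h3]
        exact P.mul_mem (hPn.conj_mem _ (P.inv_mem hx) _) hx
      rw [hHP, Subgroup.mem_bot] at h2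
      have hyx : y * x = x * y := by
        have h3 : x⁻¹ * y * x = y := by
          have := inv_mul_eq_one.mp h2
          exact this.symm
        calc y * x = x * (x⁻¹ * y * x) := by group
          _ = x * y := by rw [h3]
      -- y centralises P = ⟨x⟩
      have hyP : y ∈ P := by
        apply hcent
        intro z hz
        have htop : Subgroup.zpowers (⟨x, hx⟩ : P) = ⊤ :=
          zpowers_eq_top_of_prime_card hPcard (fun h => hx1 (congrArg Subtype.val h))
        have hzmem : (⟨z, hz⟩ : P) ∈ Subgroup.zpowers (⟨x, hx⟩ : P) := by rw [htop]; trivial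
        obtain ⟨k, hk⟩ := Subgroup.mem_zpowers_iff.mp hzmem
        have hk' : x ^ k = z := by
          have := congrArg Subtype.val hk
          simpa using this
        rw [← hk']
        exact ((show Commute y x from hyx).zpow_right k).eq
      have : y ∈ H ⊓ P := Subgroup.mem_inf.mpr ⟨hyH, hyP⟩
      rw [hHP] at this
      exact this
  refine ⟨H, hfrob, ?_⟩
  rw [Cfsg.Agent.Lib.Helper1.card_frobeniusKernel hfrob, hHidx]

/-- Let G be a finite group with a faithful irreducible complex character χ whose codegree #G / χ(1) is a prime p (for a faithful character the kernel is trivial, so the codegree is #G / χ(1)). Then either G is cyclic of order p, or G is a Frobenius group whose Frobenius kernel has order p: some proper non-trivial subgroup H satisfies H ∩ gHg⁻¹ = 1 for every element g outside H, and the set of elements lying in no conjugate of H, together with the identity, has exactly p elements. -/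
theorem result {G : Type*} [Group G] [Finite G] (χ : Cfsg.IrrCharacter G) (hfaith : ∀ g : G, (χ : G → ℂ) g = (χ : G → ℂ) 1 → g = 1) (p : ℕ) (hp : p.Prime) (hcod : Nat.card G = p * Cfsg.charDegree (χ : G → ℂ)) : (IsCyclic G ∧ Nat.card G = p) ∨ ∃ H : Subgroup G, Cfsg.IsFrobeniusComplement H ∧ Nat.card ↥(Cfsg.frobeniusKernel H) = p := by
  classical
  set m := Cfsg.charDegree (χ : G → ℂ) with hm
  have hm0 : 0 < m := Cfsg.Agent.Lib.Helper6.IsIrrCharacter.charDegree_pos χ.2
  haveI : Nontrivial G := by
    rw [← Finite.one_lt_card_iff_nontrivial, hcod]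
    have := hp.two_le
    nlinarith
  have h1 := Cfsg.Agent.Lib.Helper8.Codegree.one_add_sq_le_card χ.2 hfaith
  rw [hcod] at h1
  have hmp : m < p := by
    by_contra hcon
    push Not at hcon
    nlinarith
  by_cases hm1 : m = 1
  · left
    have hGp : Nat.card G = p := by rw [hcod, hm1, mul_one]
    haveI : Fact p.Prime := ⟨hp⟩
    exact ⟨isCyclic_of_prime_card hGp, hGp⟩
  · right
    have hm2 : 2 ≤ m := by omega
    obtain ⟨P, hPn, hPcard⟩ :=
      Cfsg.Agent.Lib.Helper8.Codegree.exists_normal_of_card p m hp hm0 hmp hcod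
    haveI : Fact p.Prime := ⟨hp⟩
    haveI : IsCyclic P := isCyclic_of_prime_card hPcard
    have hPcomm : ∀ a ∈ P, ∀ b ∈ P, a * b = b * a := by
      intro a ha b hb
      have := (IsCyclic.commGroup (α := P)).mul_comm ⟨a, ha⟩ ⟨b, hb⟩
      exact congrArg Subtype.val this
    apply frob_of_normal_prime p m hp hm2 hmp hcod P hPn hPcard
    intro c hc
    -- A = closure (P ∪ {c}) is abelian
    set S : Set G := (P : Set G) ∪ {c} with hS
    have hScomm : ∀ a ∈ S, ∀ b ∈ S, a * b = b * a := by
      intro a ha b hb
      rcases ha with ha | ha <;> rcases hb with hb | hb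
      · exact hPcomm a ha b hb
      · rw [Set.mem_singleton_iff.mp hb]; exact (hc a ha).symm
      · rw [Set.mem_singleton_iff.mp ha]; exact hc b hb
      · rw [Set.mem_singleton_iff.mp ha, Set.mem_singleton_iff.mp hb]
    have hAcomm : ∀ a ∈ Subgroup.closure S, ∀ b ∈ Subgroup.closure S, a * b = b * a := by
      intro a ha b hb
      have hinst := Subgroup.isMulCommutative_closure hScomm
      have := mul_comm' (⟨a, ha⟩ : Subgroup.closure S) ⟨b, hb⟩
      exact congrArg Subtype.val this
    have hle := Cfsg.Agent.Lib.Helper8.Codegree.charDegree_le_index_of_comm χ.2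
      (Subgroup.closure S) hAcomm
    have hPA : P ≤ Subgroup.closure S := fun z hz => Subgroup.subset_closure (Or.inl hz)
    have hcA : c ∈ Subgroup.closure S := Subgroup.subset_closure (Or.inr rfl)
    have hAcard : Nat.card (Subgroup.closure S) ≤ p := by
      have h2 := Subgroup.card_mul_index (Subgroup.closure S)
      rw [hcod] at h2
      have h3 : Nat.card (Subgroup.closure S) * m ≤ p * m := by
        calc Nat.card (Subgroup.closure S) * m ≤ Nat.card (Subgroup.closure S) * (Subgroup.closure S).index :=
              Nat.mul_le_mul_left _ hle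
          _ = p * m := h2
      exact Nat.le_of_mul_le_mul_right h3 hm0
    have hAP : P = Subgroup.closure S :=
      Subgroup.eq_of_le_of_card_ge hPA (by rw [hPcard]; exact hAcard)
    rw [hAP]
    exact hcA

end Cfsg.Agent.S4796
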