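import Cfsg.Statements.S4797
import Mathlib
import Cfsg.Agent.Lib.Helper8.Codegree

set_option autoImplicit false
open Cfsg

namespace Cfsg.Agent.S4797

open Cfsg.Agent.Lib.Helper6 Cfsg.Agent.Lib.Helper8.Codegree in
theorem exists_prime_codegree {G : Type*} [Group G] [Finite G] (h : commutator G ≠ ⊤) :
    ∃ χ : Cfsg.IrrCharacter G, ((Nat.card G / (Nat.card {g : G // (χ : G → ℂ) g = (χ : G → ℂ) 1} * Cfsg.charDegree (χ : G → ℂ)))).Prime := by
  classical
  have hidx : (commutator G).index ≠ 1 := fun h1 => h (Subgroup.index_eq_one.mp h1)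
  have hcard : Nat.card (G →* ℂˣ) = (commutator G).index := by
    rw [Nat.card_congr (linearCharEquiv G), card_linear_characters]
  have hidx0 : (commutator G).index ≠ 0 := Subgroup.index_ne_zero_of_finite
  haveI : Finite (G →* ℂˣ) := Nat.finite_of_card_ne_zero (by rw [hcard]; exact hidx0)
  haveI : Nontrivial (G →* ℂˣ) := by
    rw [← Finite.one_lt_card_iff_nontrivial, hcard]
    omega
  obtain ⟨φ, hφ⟩ := exists_ne (1 : G →* ℂˣ)
  have hn1 : orderOf φ ≠ 1 := fun h1 => hφ (orderOf_eq_one_iff.mp h1)
  have hn0 : orderOf φ ≠ 0 := (orderOf_pos φ).ne'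
  obtain ⟨p, hp, hpn⟩ := Nat.exists_prime_and_dvd hn1
  set ψ : G →* ℂˣ := φ ^ (orderOf φ / p) with hψ
  have hψord : orderOf ψ = p := orderOf_pow_orderOf_div hn0 hpn
  have hψ1 : ψ ≠ 1 := by
    intro h1
    rw [h1, orderOf_one] at hψord
    exact hp.one_lt.ne hψord
  have hψp : ∀ g : G, ψ g ^ p = 1 := by
    intro g
    have : ψ ^ p = 1 := by rw [← hψord]; exact pow_orderOf_eq_one ψ
    have h2 := congrArg (fun f : G →* ℂˣ => f g) this
    simpa using h2
  -- the range has order p
  have hrange : Nat.card ψ.range = p := by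
    haveI : Finite ψ.range := Finite.of_surjective ψ.rangeRestrict ψ.rangeRestrict_surjective
    have hcyc : IsCyclic ψ.range := inferInstance
    have hexp : Monoid.exponent ψ.range ∣ p := by
      apply Monoid.exponent_dvd_of_forall_pow_eq_one
      rintro ⟨y, g, rfl⟩
      apply Subtype.ext
      simpa using hψp g
    rw [IsCyclic.exponent_eq_card] at hexp
    rcases (Nat.dvd_prime hp).mp hexp with h1 | h1
    · exfalso
      apply hψ1
      have hbot : ψ.range = ⊥ := Subgroup.card_eq_one.mp h1
      ext g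
      have : ψ g ∈ ψ.range := ⟨g, rfl⟩
      rw [hbot, Subgroup.mem_bot] at this
      rw [this]; rfl
    · exact h1
  refine ⟨⟨fun g => (ψ g : ℂ), isIrrCharacter_of_hom ψ⟩, ?_⟩
  have hker : Nat.card {g : G // (fun g => (ψ g : ℂ)) g = (fun g => (ψ g : ℂ)) 1} = Nat.card ψ.ker := by
    apply Nat.card_congr
    apply Equiv.subtypeEquivRight
    intro g
    simp [MonoidHom.mem_ker]
  have hdeg : Cfsg.charDegree (fun g => (ψ g : ℂ)) = 1 := by
    unfold Cfsg.charDegree
    simp
  show (Nat.card G / (Nat.card {g : G // (fun g => (ψ g : ℂ)) g = (fun g => (ψ g : ℂ)) 1} * Cfsg.charDegree (fun g => (ψ g : ℂ)))).Prime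
  rw [hker, hdeg, mul_one, ← Subgroup.card_mul_index ψ.ker,
    Nat.mul_div_cancel_left _ Nat.card_pos, Subgroup.index_ker, hrange]
  exact hp

/-- The codegree of an irreducible complex character χ of a finite group G is [G : ker χ] / χ(1), where ker χ is the set of elements at which χ takes the value χ(1). A non-trivial finite group is perfect if and only if no irreducible complex character of it has prime codegree. -/
theorem result {G : Type*} [Group G] [Finite G] [Nontrivial G] : commutator G = ⊤ ↔ ∀ χ : Cfsg.IrrCharacter G, ¬ ((Nat.card G / (Nat.card {g : G // (χ : G → ℂ) g = (χ : G → ℂ) 1} * Cfsg.charDegree (χ : G → ℂ)))).Prime := by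
  classical
  constructor
  · intro hperf χ hprime
    obtain ⟨K, hKn, β, c, hK, hβ, hχβ, hfaith, hdeg, hQcard, hcod⟩ :=
      Cfsg.Agent.Lib.Helper8.Codegree.codegree_data χ.2
    rw [hcod] at hprime
    have hm0 : 0 < Cfsg.charDegree β := Cfsg.Agent.Lib.Helper6.IsIrrCharacter.charDegree_pos hβ
    haveI : Nontrivial (G ⧸ K) := by
      rw [← Finite.one_lt_card_iff_nontrivial, hQcard]
      have := hprime.two_le
      nlinarith
    have h1 := Cfsg.Agent.Lib.Helper8.Codegree.one_add_sq_le_card hβ hfaith
    rw [hQcard] at h1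
    have hmp : Cfsg.charDegree β < c := by
      by_contra hcon
      push Not at hcon
      nlinarith
    have hQperf : commutator (G ⧸ K) = ⊤ := by
      rw [commutator_def, ← Subgroup.map_top_of_surjective (QuotientGroup.mk' K)
        (QuotientGroup.mk'_surjective K), ← Subgroup.map_commutator, ← commutator_def, hperf]
    exact Cfsg.Agent.Lib.Helper8.Codegree.not_perfect_of_card c (Cfsg.charDegree β) hprime hm0 hmp
      (by rw [hQcard, mul_comm]) hQperf
  · intro h
    by_contra hne
    obtain ⟨χ, hχ⟩ := exists_prime_codegree hne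
    exact h χ hχ

end Cfsg.Agent.S4797
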