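import Cfsg.Statements.S4798
import Mathlib
import Cfsg.Agent.Lib.Helper8.RG13
import Cfsg.Agent.Lib.Helper6.CharMisc

set_option autoImplicit false
open Cfsg

namespace Cfsg.Agent.S4798

/-- Let p be a prime and χ a faithful irreducible complex character of the finite group G (χ(g) = χ(1) only for g = 1), so that its codegree is #G / χ(1). Then #G / χ(1) is a power of p if and only if χ is induced from a character of a Sylow p-subgroup of G. -/
theorem result {G : Type*} [Group G] [Fintype G] (p : ℕ) [Fact p.Prime] (χ : Cfsg.IrrCharacter G) (hfaith : ∀ g : G, (χ : G → ℂ) g = (χ : G → ℂ) 1 → g = 1) : (∃ k : ℕ, Nat.card G = p ^ k * Cfsg.charDegree (χ : G → ℂ)) ↔ ∃ (P : Sylow p G) (θ : ↥(P : Subgroup G) → ℂ), Cfsg.IsCharacter ↥(P : Subgroup G) θ ∧ (χ : G → ℂ) = Cfsg.indFun (P : Subgroup G) θ := by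
  classical
  have hp : p.Prime := Fact.out
  have hχc := Cfsg.Agent.Lib.Helper6.IsIrrCharacter.isCharacter χ.2
  have hdpos := Cfsg.Agent.Lib.Helper6.IsIrrCharacter.charDegree_pos χ.2
  constructor
  · rintro ⟨k, hk⟩
    obtain ⟨P⟩ : Nonempty (Sylow p G) := inferInstance
    haveI : Fintype ↥(P : Subgroup G) := Fintype.ofFinite _
    haveI : Fintype (Cfsg.IrrCharacter ↥(P : Subgroup G)) := Fintype.ofFinite _
    obtain ⟨n, hn⟩ := IsPGroup.iff_card.mp P.2
    have hidx : ¬ p ∣ (P : Subgroup G).index := P.not_dvd_index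
    have hcard : (P : Subgroup G).index * Nat.card ↥(P : Subgroup G) = Nat.card G :=
      Subgroup.index_mul_card _
    have hsum := Cfsg.Agent.Lib.Helper8.RelGlau.charDegree_eq_sum_rmult (P : Subgroup G).subtype hχc
    -- the constituents
    obtain ⟨s, hs⟩ : ∃ s : Finset (Cfsg.IrrCharacter ↥(P : Subgroup G)),
        s = Finset.univ.filter (fun η : Cfsg.IrrCharacter ↥(P : Subgroup G) =>
          Cfsg.Agent.Lib.Helper8.GlauP.rmult (P : Subgroup G).subtype (χ : G → ℂ)
            (η : ↥(P : Subgroup G) → ℂ) ≠ 0) := ⟨_, rfl⟩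
    have hsne : s.Nonempty := by
      by_contra hne
      rw [Finset.not_nonempty_iff_eq_empty] at hne
      have h0 : ∑ η : Cfsg.IrrCharacter ↥(P : Subgroup G),
          Cfsg.Agent.Lib.Helper8.GlauP.rmult (P : Subgroup G).subtype (χ : G → ℂ)
            (η : ↥(P : Subgroup G) → ℂ) * Cfsg.charDegree (η : ↥(P : Subgroup G) → ℂ) = 0 := by
        apply Finset.sum_eq_zero
        intro η _
        have : η ∉ s := by rw [hne]; exact Finset.notMem_empty η
        rw [hs, Finset.mem_filter] at this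
        push Not at this
        rw [this (Finset.mem_univ _), zero_mul]
      rw [h0] at hsum
      omega
    obtain ⟨lam, hlam, hmin⟩ := Finset.exists_min_image s
      (fun η => Cfsg.charDegree (η : ↥(P : Subgroup G) → ℂ)) hsne
    have hpow : ∀ η : Cfsg.IrrCharacter ↥(P : Subgroup G),
        ∃ b : ℕ, Cfsg.charDegree (η : ↥(P : Subgroup G) → ℂ) = p ^ b := by
      intro η
      have h1 := Cfsg.Agent.Lib.Helper6.IsIrrCharacter.charDegree_dvd_card η.2
      rw [hn] at h1
      obtain ⟨b, _, hb⟩ := (Nat.dvd_prime_pow hp).mp h1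
      exact ⟨b, hb⟩
    obtain ⟨a, ha⟩ := hpow lam
    have hdvd_each : ∀ η ∈ s, Cfsg.charDegree (lam : ↥(P : Subgroup G) → ℂ)
        ∣ Cfsg.charDegree (η : ↥(P : Subgroup G) → ℂ) := by
      intro η hη
      obtain ⟨b, hb⟩ := hpow η
      have hle := hmin η hη
      rw [ha, hb] at hle ⊢
      exact pow_dvd_pow p ((Nat.pow_le_pow_iff_right hp.one_lt).mp hle)
    have hdvd : Cfsg.charDegree (lam : ↥(P : Subgroup G) → ℂ) ∣ Cfsg.charDegree (χ : G → ℂ) := by
      rw [hsum]
      apply Finset.dvd_sum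
      intro η _
      by_cases h0 : Cfsg.Agent.Lib.Helper8.GlauP.rmult (P : Subgroup G).subtype (χ : G → ℂ)
          (η : ↥(P : Subgroup G) → ℂ) = 0
      · rw [h0, zero_mul]
        exact dvd_zero _
      · have : η ∈ s := by
          rw [hs, Finset.mem_filter]
          exact ⟨Finset.mem_univ _, h0⟩
        exact Dvd.dvd.mul_left (hdvd_each η this) _
    obtain ⟨d'', hd''⟩ := hdvd
    have hd''pos : 0 < d'' := by
      rcases Nat.eq_zero_or_pos d'' with h | h
      · rw [h, mul_zero] at hd''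
        omega
      · exact h
    -- the index divides `d''`
    have hidx_dvd : (P : Subgroup G).index ∣ d'' := by
      have h1 : (P : Subgroup G).index ∣ d'' * (p ^ k * p ^ a) := by
        refine ⟨Nat.card ↥(P : Subgroup G), ?_⟩
        rw [hcard, hk, hd'', ha]
        ring
      have hcop : Nat.Coprime (P : Subgroup G).index (p ^ k * p ^ a) := by
        rw [← pow_add]
        apply Nat.Coprime.pow_right
        exact ((Nat.Prime.coprime_iff_not_dvd hp).mpr hidx).symm
      exact Nat.Coprime.dvd_of_dvd_mul_right hcop h1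
    have hidx_le : (P : Subgroup G).index ≤ d'' := Nat.le_of_dvd hd''pos hidx_dvd
    -- the induced character
    have hindc : Cfsg.IsCharacter G (Cfsg.indFun (P : Subgroup G) (lam : ↥(P : Subgroup G) → ℂ)) :=
      Cfsg.Agent.Lib.Helper6.IsCharacter.indFun _
        (Cfsg.Agent.Lib.Helper6.IsIrrCharacter.isCharacter lam.2)
    have hlam0 : Cfsg.Agent.Lib.Helper8.GlauP.rmult (P : Subgroup G).subtype (χ : G → ℂ)
        (lam : ↥(P : Subgroup G) → ℂ) ≠ 0 := by
      rw [hs, Finset.mem_filter] at hlam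
      exact hlam.2
    have hcons : Cfsg.classInner (Cfsg.indFun (P : Subgroup G) (lam : ↥(P : Subgroup G) → ℂ))
        (χ : G → ℂ) ≠ 0 := by
      rw [Cfsg.Agent.S0146.result (P : Subgroup G) _ _
        (Cfsg.Agent.Lib.Helper6.IsIrrCharacter.isClassFunction χ.2)]
      have h1 := Cfsg.Agent.Lib.Helper8.GlauP.rmult_spec (P : Subgroup G).subtype hχc lam.2
      intro h0
      have h2 := Cfsg.Agent.Lib.Helper6.classInner_conj_symm (lam : ↥(P : Subgroup G) → ℂ)
        (fun h : ↥(P : Subgroup G) => (χ : G → ℂ) h)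
      rw [h0, map_zero] at h2
      have e : (fun h : ↥(P : Subgroup G) => (χ : G → ℂ) ((P : Subgroup G).subtype h))
          = fun h : ↥(P : Subgroup G) => (χ : G → ℂ) h := rfl
      rw [e, ← h2] at h1
      exact hlam0 (by exact_mod_cast h1.symm)
    have hind1 : Cfsg.indFun (P : Subgroup G) (lam : ↥(P : Subgroup G) → ℂ) 1
        = (((P : Subgroup G).index * Cfsg.charDegree (lam : ↥(P : Subgroup G) → ℂ) : ℕ) : ℂ) := by
      rw [Cfsg.Agent.Lib.Helper6.indFun_one, Cfsg.Agent.Lib.Helper6.IsCharacter.apply_one_eq_charDegree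
        (Cfsg.Agent.Lib.Helper6.IsIrrCharacter.isCharacter lam.2)]
      push_cast
      ring
    have hdegind : Cfsg.charDegree (Cfsg.indFun (P : Subgroup G) (lam : ↥(P : Subgroup G) → ℂ))
        = (P : Subgroup G).index * Cfsg.charDegree (lam : ↥(P : Subgroup G) → ℂ) := by
      have h1 := Cfsg.Agent.Lib.Helper6.IsCharacter.apply_one_eq_charDegree hindc
      rw [hind1] at h1
      exact_mod_cast h1.symm
    have hle := Cfsg.Agent.Lib.Helper6.IsCharacter.charDegree_le hindc χ.2 hcons
    rw [hdegind] at hle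
    have heq : Cfsg.charDegree (χ : G → ℂ)
        = (P : Subgroup G).index * Cfsg.charDegree (lam : ↥(P : Subgroup G) → ℂ) := by
      apply le_antisymm hle
      rw [hd'', mul_comm]
      exact Nat.mul_le_mul_left _ hidx_le
    have h1 : Cfsg.indFun (P : Subgroup G) (lam : ↥(P : Subgroup G) → ℂ) 1 = (χ : G → ℂ) 1 := by
      rw [hind1, Cfsg.Agent.Lib.Helper6.IsCharacter.apply_one_eq_charDegree hχc, heq]
    refine ⟨P, (lam : ↥(P : Subgroup G) → ℂ),
      Cfsg.Agent.Lib.Helper6.IsIrrCharacter.isCharacter lam.2, ?_⟩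
    exact (Cfsg.Agent.Lib.Helper6.IsCharacter.eq_of_constituent_of_apply_one_eq hindc χ.2 hcons h1).symm
  · rintro ⟨P, θ, hθ, hχθ⟩
    obtain ⟨n, hn⟩ := IsPGroup.iff_card.mp P.2
    have hcard : (P : Subgroup G).index * Nat.card ↥(P : Subgroup G) = Nat.card G :=
      Subgroup.index_mul_card _
    have hidxpos : 0 < (P : Subgroup G).index := Nat.pos_of_ne_zero Subgroup.index_ne_zero_of_finite
    have h1 : (χ : G → ℂ) 1 = (((P : Subgroup G).index * Cfsg.charDegree θ : ℕ) : ℂ) := by
      rw [hχθ, Cfsg.Agent.Lib.Helper6.indFun_one,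
        Cfsg.Agent.Lib.Helper6.IsCharacter.apply_one_eq_charDegree hθ]
      push_cast
      ring
    have hd : Cfsg.charDegree (χ : G → ℂ) = (P : Subgroup G).index * Cfsg.charDegree θ := by
      have h2 := Cfsg.Agent.Lib.Helper6.IsCharacter.apply_one_eq_charDegree hχc
      rw [h1] at h2
      exact_mod_cast h2.symm
    have hdvd := Cfsg.Agent.Lib.Helper6.IsIrrCharacter.charDegree_dvd_card χ.2
    rw [hd, ← hcard] at hdvd
    have hdvd' : Cfsg.charDegree θ ∣ Nat.card ↥(P : Subgroup G) :=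
      Nat.dvd_of_mul_dvd_mul_left hidxpos hdvd
    rw [hn] at hdvd'
    obtain ⟨i, hi, hti⟩ := (Nat.dvd_prime_pow hp).mp hdvd'
    refine ⟨n - i, ?_⟩
    rw [hd, hti, ← hcard, hn]
    have : p ^ n = p ^ (n - i) * p ^ i := by rw [← pow_add, Nat.sub_add_cancel hi]
    rw [this]
    ring

end Cfsg.Agent.S4798
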