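import Cfsg.Statements.S4801
import Mathlib
import Cfsg.Agent.Lib.Helper8.Codegree

set_option autoImplicit false
open Cfsg

namespace Cfsg.Agent.S4801

open Cfsg.Agent.Lib.Helper6 Cfsg.Agent.Lib.Helper8.Codegree in
theorem codegree_dvd_card {G : Type*} [Group G] [Finite G] (ψ : Cfsg.IrrCharacter G) :
    (Nat.card G / (Nat.card {g : G // (ψ : G → ℂ) g = (ψ : G → ℂ) 1} * Cfsg.charDegree (ψ : G → ℂ))) ∣ Nat.card G := by
  obtain ⟨K, hKn, β, c, hK, hβ, hχβ, hfaith, hdeg, hQcard, hcod⟩ := codegree_data ψ.2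
  rw [hcod, ← Subgroup.card_mul_index K, Subgroup.index_eq_card, hQcard]
  exact ⟨Nat.card K * Cfsg.charDegree β, by ring⟩

open Cfsg.Agent.Lib.Helper6 Cfsg.Agent.Lib.Helper8.Codegree in
theorem exists_pprime_degree {S : Type*} [Group S] [Finite S] (p : ℕ) (hp : p.Prime)
    (hpS : p ∣ Nat.card S) :
    ∃ χ : Cfsg.IrrCharacter S, ¬ p ∣ Cfsg.charDegree (χ : S → ℂ) ∧ ∃ g : S, (χ : S → ℂ) g ≠ (χ : S → ℂ) 1 := by
  classical
  have : Fintype S := Fintype.ofFinite S
  haveI : Fintype (Cfsg.IrrCharacter S) := Fintype.ofFinite _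
  have hsum := sum_sq_degree (G := S)
  have hdeg : ∀ χ : Cfsg.IrrCharacter S, (χ : S → ℂ) 1 = (Cfsg.charDegree (χ : S → ℂ) : ℂ) :=
    fun χ => IsCharacter.apply_one_eq_charDegree (IsIrrCharacter.isCharacter χ.2)
  have hsum' : ∑ χ : Cfsg.IrrCharacter S, Cfsg.charDegree (χ : S → ℂ) ^ 2 = Nat.card S := by
    have : ((∑ χ : Cfsg.IrrCharacter S, Cfsg.charDegree (χ : S → ℂ) ^ 2 : ℕ) : ℂ) = (Nat.card S : ℂ) := by
      rw [← hsum]
      push_cast
      apply Finset.sum_congr rfl
      intro χ _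
      rw [hdeg χ]
    exact_mod_cast this
  let τ : Cfsg.IrrCharacter S := ⟨fun g => ((1 : S →* ℂˣ) g : ℂ), isIrrCharacter_of_hom 1⟩
  have hτdeg : Cfsg.charDegree (τ : S → ℂ) = 1 := by
    have := hdeg τ
    have h1 : (τ : S → ℂ) 1 = 1 := by simp [τ]
    rw [h1] at this
    exact_mod_cast this.symm
  by_contra hcon
  push Not at hcon
  -- every χ with p ∤ χ(1) is constant; then it is τ
  have hall : ∀ χ : Cfsg.IrrCharacter S, χ ≠ τ → p ∣ Cfsg.charDegree (χ : S → ℂ) := by
    intro χ hχτ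
    by_contra hpd
    apply hχτ
    have hconst := hcon χ hpd
    obtain ⟨K, hKn, β, c, hK, hβ, hχβ, hfaith, hdeg', hQcard, hcod⟩ := codegree_data χ.2
    have hKtop : K = ⊤ := by
      rw [eq_top_iff]
      intro g _
      exact (hK g).2 (hconst g)
    have hQ1 : Nat.card (S ⧸ K) = 1 := by
      rw [← Subgroup.index_eq_card, hKtop, Subgroup.index_top]
    have hm1 : Cfsg.charDegree (χ : S → ℂ) = 1 := by
      rw [← hdeg']
      rw [hQ1] at hQcard
      exact Nat.eq_one_of_mul_eq_one_right hQcard.symm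
    apply Subtype.ext
    funext g
    rw [hconst g, hdeg χ, hm1]
    simp [τ]
  have h1 := Finset.add_sum_erase Finset.univ (fun χ : Cfsg.IrrCharacter S => Cfsg.charDegree (χ : S → ℂ) ^ 2)
    (Finset.mem_univ τ)
  rw [hsum', hτdeg] at h1
  have h2 : p ∣ ∑ χ ∈ Finset.univ.erase τ, Cfsg.charDegree (χ : S → ℂ) ^ 2 := by
    apply Finset.dvd_sum
    intro χ hχ
    exact Dvd.dvd.pow (hall χ (Finset.ne_of_mem_erase hχ)) (by norm_num)
  have h3 : p ∣ 1 := by
    have h4 : p ∣ 1 ^ 2 + ∑ χ ∈ Finset.univ.erase τ, Cfsg.charDegree (χ : S → ℂ) ^ 2 := by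
      rw [h1]; exact hpS
    exact (Nat.dvd_add_left h2).mp (by simpa using h4)
  exact hp.one_lt.ne' (Nat.dvd_one.mp h3)

/-- The codegree of an irreducible complex character χ of a finite group G is [G : ker χ] / χ(1), where ker χ is the set of elements at which χ takes the value χ(1). Let S be a finite simple group and G a finite group such that every codegree of an irreducible character of S is a codegree of an irreducible character of G. Then the order of S divides the order of G. -/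
theorem result {S : Type*} [Group S] [Finite S] (hS : IsSimpleGroup S) {G : Type*} [Group G] [Finite G] (hsub : ∀ χ : Cfsg.IrrCharacter S, ∃ ψ : Cfsg.IrrCharacter G, (Nat.card S / (Nat.card {g : S // (χ : S → ℂ) g = (χ : S → ℂ) 1} * Cfsg.charDegree (χ : S → ℂ))) = (Nat.card G / (Nat.card {g : G // (ψ : G → ℂ) g = (ψ : G → ℂ) 1} * Cfsg.charDegree (ψ : G → ℂ)))) : Nat.card S ∣ Nat.card G := by
  classical
  have hS0 : Nat.card S ≠ 0 := Nat.card_pos.ne'
  have hG0 : Nat.card G ≠ 0 := Nat.card_pos.ne'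
  rw [← Nat.factorization_prime_le_iff_dvd hS0 hG0]
  intro p hp
  by_cases hpS : p ∣ Nat.card S
  · obtain ⟨χ, hpχ, g, hg⟩ := exists_pprime_degree p hp hpS
    obtain ⟨K, hKn, β, c, hK, hβ, hχβ, hfaith, hdeg, hQcard, hcod⟩ :=
      Cfsg.Agent.Lib.Helper8.Codegree.codegree_data χ.2
    have hKbot : K = ⊥ := by
      rcases hS.eq_bot_or_eq_top_of_normal K hKn with h | h
      · exact h
      · exfalso
        apply hg
        apply (hK g).1
        rw [h]; trivial
    have hScard : Nat.card S = Cfsg.charDegree (χ : S → ℂ) * c := by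
      rw [← hdeg, ← hQcard, ← Subgroup.index_eq_card, hKbot, Subgroup.index_bot]
    obtain ⟨ψ, hψ⟩ := hsub χ
    rw [hcod] at hψ
    have hcG : c ∣ Nat.card G := hψ ▸ codegree_dvd_card ψ
    have hm0 : Cfsg.charDegree (χ : S → ℂ) ≠ 0 := by
      intro h0; rw [h0, zero_mul] at hScard; exact hS0 hScard
    have hc0 : c ≠ 0 := by
      intro h0; rw [h0, mul_zero] at hScard; exact hS0 hScard
    rw [hScard, Nat.factorization_mul hm0 hc0, Finsupp.add_apply,
      Nat.factorization_eq_zero_of_not_dvd hpχ, zero_add]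
    exact (Nat.factorization_le_iff_dvd hc0 hG0).mpr hcG p
  · rw [Nat.factorization_eq_zero_of_not_dvd hpS]
    exact Nat.zero_le _

end Cfsg.Agent.S4801
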