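import Cfsg.Statements.S4802
import Mathlib
import Cfsg.Agent.Lib.Helper6.BlkNormalP
import Cfsg.Agent.Lib.Helper6.SecondOrth
import Cfsg.Agent.Lib.Helper6.ClassFun
-- import your own Cfsg.Agent.* helpers here

set_option autoImplicit false
open Cfsg

namespace Cfsg.Agent.S4802

open Cfsg.Agent.Lib.Helper6
open scoped ComplexConjugate


theorem sum_ite_mem {G : Type*} [Group G] [Fintype G] (H : Subgroup G) [Fintype H]
    [DecidablePred (· ∈ H)] (f : G → ℂ) :
    ∑ x : G, (if x ∈ H then f x else 0) = ∑ h : H, f h := by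
  rw [← Finset.sum_filter]
  exact (Finset.sum_subtype (Finset.univ.filter (· ∈ H)) (by simp) f)


/-- the sum of a nontrivial-on-`K` irreducible character over a normal subgroup `K` vanishes -/
theorem sum_eq_zero_of_not_const {G : Type*} [Group G] [Fintype G] (K : Subgroup G) [K.Normal]
    [Fintype K] (χ : Cfsg.IrrCharacter G) (h : ∃ x ∈ K, (χ : G → ℂ) x ≠ (χ : G → ℂ) 1) :
    ∑ k : K, (χ : G → ℂ) k = 0 := by
  by_contra hne
  obtain ⟨x, hx, hxne⟩ := h
  exact hxne (IsIrrCharacter.const_on_normal_of_sum_ne_zero K χ.2 hne ⟨x, hx⟩)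


theorem result' {G : Type*} [Group G] [Finite G] (N M : Subgroup G) [N.Normal] [M.Normal] (hNM : N < M) (g : G) (hgM : g ∈ M) (hgN : g ∉ N) : {h : G | IsConj g h} = (M : Set G) \ (N : Set G) ↔ ((∀ χ : Cfsg.IrrCharacter G, (∀ x ∈ N, (χ : G → ℂ) x = (χ : G → ℂ) 1) → ∀ x ∈ M, x ∉ N → ∀ y ∈ M, y ∉ N → (χ : G → ℂ) x = (χ : G → ℂ) y) ∧ (∀ χ : Cfsg.IrrCharacter G, (∃ x ∈ N, (χ : G → ℂ) x ≠ (χ : G → ℂ) 1) → (χ : G → ℂ) g = 0)) := by
  classical
  have : Fintype G := Fintype.ofFinite G
  have hGc : (Nat.card G : ℂ) ≠ 0 := card_ne_zero_complex G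
  -- the sum over `M \ N`
  have hsumS : ∀ f : G → ℂ, ∑ x : G, (if x ∈ M ∧ x ∉ N then f x else 0)
      = ∑ m : M, f m - ∑ n : N, f n := by
    intro f
    rw [← sum_ite_mem M f, ← sum_ite_mem N f, ← Finset.sum_sub_distrib]
    apply Finset.sum_congr rfl
    intro x _
    by_cases hxN : x ∈ N
    · have hxM : x ∈ M := hNM.le hxN
      simp [hxN, hxM]
    · by_cases hxM : x ∈ M
      · simp [hxN, hxM]
      · simp [hxN, hxM]
  -- characters nontrivial on N sum to zero over `M \ N`
  have hzero : ∀ χ : Cfsg.IrrCharacter G, (∃ x ∈ N, (χ : G → ℂ) x ≠ (χ : G → ℂ) 1) →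
      ∑ x : G, (if x ∈ M ∧ x ∉ N then (χ : G → ℂ) x else 0) = 0 := by
    intro χ hχ
    rw [hsumS, sum_eq_zero_of_not_const N χ hχ, sum_eq_zero_of_not_const M χ, sub_zero]
    obtain ⟨x, hx, hne⟩ := hχ
    exact ⟨x, hNM.le hx, hne⟩
  have hconjS : ∀ x a : G, (x ∈ M ∧ x ∉ N) → (a * x * a⁻¹ ∈ M ∧ a * x * a⁻¹ ∉ N) := by
    intro x a ⟨hxM, hxN⟩
    refine ⟨‹M.Normal›.conj_mem x hxM a, fun h => hxN ?_⟩
    have := ‹N.Normal›.conj_mem _ h a⁻¹
    have e : a⁻¹ * (a * x * a⁻¹) * a⁻¹⁻¹ = x := by group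
    rwa [e] at this
  have hclassS : ∀ h : G, IsConj g h → (h ∈ M ∧ h ∉ N) := by
    intro h hh
    obtain ⟨c, hc⟩ := isConj_iff.1 hh
    rw [← hc]
    exact hconjS g c ⟨hgM, hgN⟩
  constructor
  · intro hcl
    have hmem : ∀ x : G, (x ∈ M ∧ x ∉ N) ↔ IsConj g x := by
      intro x
      have := Set.ext_iff.1 hcl x
      simp only [Set.mem_ofPred_eq, Set.mem_sdiff, SetLike.mem_coe] at this
      exact this.symm
    constructor
    · intro χ _ x hxM hxN y hyM hyN
      have h1 := (isConj_iff_forall_irr g x).1 ((hmem x).1 ⟨hxM, hxN⟩) χ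
      have h2 := (isConj_iff_forall_irr g y).1 ((hmem y).1 ⟨hyM, hyN⟩) χ
      rw [← h1, ← h2]
    · intro χ hχ
      have h0 := hzero χ hχ
      have h1 : ∀ x : G, (if x ∈ M ∧ x ∉ N then (χ : G → ℂ) x else 0)
          = (if x ∈ M ∧ x ∉ N then (χ : G → ℂ) g else 0) := by
        intro x
        split_ifs with hx
        · exact ((isConj_iff_forall_irr g x).1 ((hmem x).1 hx) χ).symm
        · rfl
      rw [Finset.sum_congr rfl (fun x _ => h1 x), ← Finset.sum_filter, Finset.sum_const,
        nsmul_eq_mul] at h0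
      rcases mul_eq_zero.1 h0 with h | h
      · exfalso
        have : (Finset.univ.filter (fun x : G => x ∈ M ∧ x ∉ N)).card ≠ 0 := by
          apply Finset.card_ne_zero.2
          exact ⟨g, by simp [hgM, hgN]⟩
        exact this (by exact_mod_cast h)
      · exact h
  · rintro ⟨hA, hB⟩
    -- the two indicator class functions
    set φ : G → ℂ := fun x => if x ∈ M ∧ x ∉ N then 1 else 0 with hφ
    set ψ : G → ℂ := fun x => if IsConj g x then 1 else 0 with hψ
    set nS : ℕ := (Finset.univ.filter (fun x : G => x ∈ M ∧ x ∉ N)).card with hnS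
    set nC : ℕ := (Finset.univ.filter (fun x : G => IsConj g x)).card with hnC
    have hnC0 : (nC : ℂ) ≠ 0 := by
      have : nC ≠ 0 := Finset.card_ne_zero.2 ⟨g, by
        rw [Finset.mem_filter]; exact ⟨Finset.mem_univ _, IsConj.refl g⟩⟩
      exact_mod_cast this
    have hφcf : IsClassFunction G φ := by
      intro x a
      simp only [hφ]
      have h1 : (a * x * a⁻¹ ∈ M ∧ a * x * a⁻¹ ∉ N) ↔ (x ∈ M ∧ x ∉ N) := by
        constructor
        · intro h
          have := hconjS _ a⁻¹ h
          have e : a⁻¹ * (a * x * a⁻¹) * a⁻¹⁻¹ = x := by group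
          rwa [e] at this
        · exact hconjS x a
      simp only [h1]
    have hψcf : IsClassFunction G ψ := by
      intro x a
      simp only [hψ]
      have h1 : IsConj g (a * x * a⁻¹) ↔ IsConj g x := by
        have h2 : IsConj x (a * x * a⁻¹) := isConj_iff.2 ⟨a, rfl⟩
        exact ⟨fun h => h.trans h2.symm, fun h => h.trans h2⟩
      simp only [h1]
    set θ : G → ℂ := φ - ((nS : ℂ) / (nC : ℂ)) • ψ with hθ
    have hθcf : IsClassFunction G θ := isClassFunction_sub hφcf (isClassFunction_smul _ hψcf)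
    have hψin : ∀ χ : Cfsg.IrrCharacter G, classInner ψ (χ : G → ℂ)
        = (Nat.card G : ℂ)⁻¹ * ((nC : ℂ) * conj ((χ : G → ℂ) g)) := by
      intro χ
      unfold classInner
      congr 1
      have h1 : ∀ x : G, ψ x * conj ((χ : G → ℂ) x)
          = if IsConj g x then conj ((χ : G → ℂ) g) else 0 := by
        intro x
        simp only [hψ]
        split_ifs with hx
        · rw [one_mul, (isConj_iff_forall_irr g x).1 hx χ]
        · rw [zero_mul]
      rw [Finset.sum_congr rfl (fun x _ => h1 x), ← Finset.sum_filter, Finset.sum_const,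
        nsmul_eq_mul]
    have hφin : ∀ χ : Cfsg.IrrCharacter G, classInner φ (χ : G → ℂ)
        = (Nat.card G : ℂ)⁻¹ * ∑ x : G, (if x ∈ M ∧ x ∉ N then conj ((χ : G → ℂ) x) else 0) := by
      intro χ
      unfold classInner
      congr 1
      apply Finset.sum_congr rfl
      intro x _
      simp only [hφ]
      split_ifs <;> simp
    have hθ0 : θ = 0 := by
      apply eq_zero_of_classInner_irr_eq_zero θ hθcf
      intro χ
      rw [hθ, classInner_sub_left, classInner_smul_left, hψin, hφin]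
      by_cases hχ : ∀ x ∈ N, (χ : G → ℂ) x = (χ : G → ℂ) 1
      · have h1 : ∀ x : G, (if x ∈ M ∧ x ∉ N then conj ((χ : G → ℂ) x) else 0)
            = (if x ∈ M ∧ x ∉ N then conj ((χ : G → ℂ) g) else 0) := by
          intro x
          split_ifs with hx
          · rw [hA χ hχ x hx.1 hx.2 g hgM hgN]
          · rfl
        rw [Finset.sum_congr rfl (fun x _ => h1 x), ← Finset.sum_filter, Finset.sum_const,
          nsmul_eq_mul]
        field_simp
        ring
      · push Not at hχ
        have hg0 := hB χ hχ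
        have h0 := hzero χ hχ
        have h1 : ∑ x : G, (if x ∈ M ∧ x ∉ N then conj ((χ : G → ℂ) x) else 0) = 0 := by
          have : ∑ x : G, (if x ∈ M ∧ x ∉ N then conj ((χ : G → ℂ) x) else 0)
              = conj (∑ x : G, (if x ∈ M ∧ x ∉ N then (χ : G → ℂ) x else 0)) := by
            rw [map_sum]
            apply Finset.sum_congr rfl
            intro x _
            split_ifs <;> simp
          rw [this, h0, map_zero]
        rw [h1, hg0, map_zero]
        ring
    ext h
    simp only [Set.mem_ofPred_eq, Set.mem_sdiff, SetLike.mem_coe]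
    constructor
    · exact hclassS h
    · intro hh
      have h1 := congrFun hθ0 h
      simp only [hθ, hφ, hψ, Pi.sub_apply, Pi.smul_apply, Pi.zero_apply, smul_eq_mul] at h1
      rw [if_pos hh] at h1
      by_contra hnc
      rw [if_neg hnc, mul_zero, sub_zero] at h1
      exact one_ne_zero h1





/-- Let N < M be normal subgroups of the finite group G and g ∈ M ∖ N. Then the conjugacy class of g is exactly M ∖ N if and only if every irreducible complex character of G whose kernel contains N takes the same value at all elements of M ∖ N, and every irreducible complex character of G whose kernel does not contain N vanishes at g. -/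
theorem result {G : Type*} [Group G] [Finite G] (N M : Subgroup G) [N.Normal] [M.Normal] (hNM : N < M) (g : G) (hgM : g ∈ M) (hgN : g ∉ N) : {h : G | IsConj g h} = (M : Set G) \ (N : Set G) ↔ ((∀ χ : Cfsg.IrrCharacter G, (∀ x ∈ N, (χ : G → ℂ) x = (χ : G → ℂ) 1) → ∀ x ∈ M, x ∉ N → ∀ y ∈ M, y ∉ N → (χ : G → ℂ) x = (χ : G → ℂ) y) ∧ (∀ χ : Cfsg.IrrCharacter G, (∃ x ∈ N, (χ : G → ℂ) x ≠ (χ : G → ℂ) 1) → (χ : G → ℂ) g = 0)) := by
  exact result' N M hNM g hgM hgN

end Cfsg.Agent.S4802
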