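import Cfsg.Statements.S4808
import Mathlib
import Cfsg.Agent.Lib.Helper3.CharQuot
import Cfsg.Agent.Lib.Helper6.ClassMult
import Cfsg.Agent.Lib.Helper6.Mult
-- import your own Cfsg.Agent.* helpers here

set_option autoImplicit false
open Cfsg

namespace Cfsg.Agent.S4808

open Cfsg.Agent.Lib.Helper6 Cfsg.Agent.Lib.Helper3.CharQuot


theorem result' {G : Type*} [Group G] [Finite G] (p : ℕ) (hp : p.Prime) : p ∣ Nat.card G ↔ ∃ χ : Cfsg.IrrCharacter G, p ∣ (Nat.card G / (Nat.card {g : G // (χ : G → ℂ) g = (χ : G → ℂ) 1} * Cfsg.charDegree (χ : G → ℂ))) := by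
  classical
  have : Fintype G := Fintype.ofFinite G
  have : Fintype (Cfsg.IrrCharacter G) := Fintype.ofFinite _
  constructor
  · intro hpG
    by_contra hno
    push Not at hno
    have : Fact p.Prime := ⟨hp⟩
    obtain ⟨x, hx⟩ := exists_prime_orderOf_dvd_card' p hpG
    have hx1 : x ≠ 1 := by
      rintro rfl
      rw [orderOf_one] at hx
      exact hp.one_lt.ne hx
    have hsum := sum_irr_apply_mul_apply_one x
    rw [if_neg hx1] at hsum
    -- every term is a nonnegative real, the trivial character contributes 1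
    have hterm : ∀ χ : Cfsg.IrrCharacter G, (χ : G → ℂ) x * (χ : G → ℂ) 1
        = if (χ : G → ℂ) x = (χ : G → ℂ) 1 then ((Cfsg.charDegree (χ : G → ℂ) ^ 2 : ℕ) : ℂ) else 0 := by
      intro χ
      split_ifs with h
      · rw [h, IsCharacter.apply_one_eq_charDegree (IsIrrCharacter.isCharacter χ.2)]
        push_cast; ring
      · rw [apply_eq_zero_of_codegree χ.2 hp (hno χ) hx h, zero_mul]
    rw [Finset.sum_congr rfl (fun χ _ => hterm χ)] at hsum
    have hsum' : ∑ χ : Cfsg.IrrCharacter G,
        (if (χ : G → ℂ) x = (χ : G → ℂ) 1 then (Cfsg.charDegree (χ : G → ℂ) ^ 2 : ℕ) else 0) = 0 := by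
      have : ((∑ χ : Cfsg.IrrCharacter G,
        (if (χ : G → ℂ) x = (χ : G → ℂ) 1 then (Cfsg.charDegree (χ : G → ℂ) ^ 2 : ℕ) else 0) : ℕ) : ℂ) = 0 := by
        rw [← hsum]; push_cast
        apply Finset.sum_congr rfl
        intro χ _
        split_ifs <;> simp
      exact_mod_cast this
    rw [Finset.sum_eq_zero_iff] at hsum'
    let χ₀ : Cfsg.IrrCharacter G := ⟨fun _ => 1, isIrrCharacter_one⟩
    have := hsum' χ₀ (Finset.mem_univ _)
    rw [if_pos rfl] at this
    have hpos := IsIrrCharacter.charDegree_pos χ₀.2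
    have : Cfsg.charDegree (χ₀ : G → ℂ) = 0 := by
      exact pow_eq_zero_iff (n := 2) (by norm_num) |>.1 this
    omega
  · rintro ⟨χ, hχ⟩
    have hdvd := card_kernel_mul_degree_dvd χ.2
    obtain ⟨c, hc⟩ := hdvd
    have hpos : 0 < Nat.card {g : G // (χ : G → ℂ) g = (χ : G → ℂ) 1} * Cfsg.charDegree (χ : G → ℂ) := by
      apply Nat.pos_of_ne_zero
      intro h0
      rw [h0, zero_mul] at hc
      exact Nat.card_pos.ne' hc
    rw [hc, Nat.mul_div_cancel_left _ hpos] at hχ
    rw [hc]
    exact Dvd.dvd.mul_left hχ _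





/-- The codegree of an irreducible complex character χ of a finite group G is [G : ker χ] / χ(1), where ker χ is the set of elements at which χ takes the value χ(1). A prime divides the order of G if and only if it divides the codegree of some irreducible complex character of G. -/
theorem result {G : Type*} [Group G] [Finite G] (p : ℕ) (hp : p.Prime) : p ∣ Nat.card G ↔ ∃ χ : Cfsg.IrrCharacter G, p ∣ (Nat.card G / (Nat.card {g : G // (χ : G → ℂ) g = (χ : G → ℂ) 1} * Cfsg.charDegree (χ : G → ℂ))) := by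
  exact result' p hp

end Cfsg.Agent.S4808
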