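import Cfsg.Statements.S4813
import Mathlib
import Cfsg.Agent.Lib.Helper6.PrD3

set_option autoImplicit false
open Cfsg

namespace Cfsg.Agent.S4813

/-- If every irreducible complex character of the finite group G of degree greater than one has prime degree, then G has at most three distinct irreducible character degrees. -/
theorem result {G : Type*} [Group G] [Finite G] (hprime : ∀ d ∈ Cfsg.charDegrees G, d = 1 ∨ d.Prime) : Nat.card ↥(Cfsg.charDegrees G) ≤ 3 := by
  classical
  have hP : Cfsg.Agent.Lib.Helper6.PrD.PrimeDeg G := fun χ => hprime _ ⟨χ, rfl⟩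
  obtain ⟨m, n, h3⟩ := Cfsg.Agent.Lib.Helper6.PrD.exists_threeDeg hP
  have hsub : Cfsg.charDegrees G ⊆ ((({1, m, n} : Finset ℕ)) : Set ℕ) := by
    rintro d ⟨χ, rfl⟩
    have := h3 χ
    simp only [Finset.coe_insert, Finset.coe_singleton, Set.mem_insert_iff,
      Set.mem_singleton_iff]
    exact this
  rw [Nat.card_coe_set_eq]
  calc (Cfsg.charDegrees G).ncard ≤ ((({1, m, n} : Finset ℕ)) : Set ℕ).ncard :=
        Set.ncard_le_ncard hsub (Finset.finite_toSet _)
    _ = ({1, m, n} : Finset ℕ).card := Set.ncard_coe_finset _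
    _ ≤ 3 := Finset.card_le_three

end Cfsg.Agent.S4813
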