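import Cfsg.Statements.S4856
import Mathlib
import Cfsg.Agent.Lib.Helper6.ClassMult
import Cfsg.Agent.Lib.Helper6.BlkAlg

set_option autoImplicit false
open Cfsg

namespace Cfsg.Agent.S4856

open Cfsg.Agent.Lib.Helper6

/-- For an element z of a finite group G, the number of pairs (x, y) of elements with x y x⁻¹ y⁻¹ = z equals the order of G times the sum over the irreducible characters χ of χ(z)/χ(1). -/
theorem result {G : Type*} [Group G] [Finite G] (z : G) : (Nat.card {xy : G × G // xy.1 * xy.2 * xy.1⁻¹ * xy.2⁻¹ = z} : ℂ) = (Nat.card G : ℂ) * ∑ᶠ χ : Cfsg.IrrCharacter G, (χ : G → ℂ) z / (χ : G → ℂ) 1 := by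
  classical
  have : Fintype G := Fintype.ofFinite G
  have : Fintype (Cfsg.IrrCharacter G) := Fintype.ofFinite _
  have hG : (Nat.card G : ℂ) ≠ 0 := card_ne_zero_complex G
  rw [finsum_eq_sum_of_fintype]
  -- the count as a double sum of indicators
  have h1 : (Nat.card {xy : G × G // xy.1 * xy.2 * xy.1⁻¹ * xy.2⁻¹ = z} : ℂ)
      = ∑ y : G, ∑ x : G, if x * y * x⁻¹ * (y⁻¹ * z⁻¹) = 1 then (1 : ℂ) else 0 := by
    rw [Nat.card_eq_fintype_card, Fintype.card_subtype, Finset.card_filter, Nat.cast_sum,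
      Fintype.sum_prod_type, Finset.sum_comm]
    apply Finset.sum_congr rfl; intro y _
    apply Finset.sum_congr rfl; intro x _
    have : (x * y * x⁻¹ * y⁻¹ = z) ↔ (x * y * x⁻¹ * (y⁻¹ * z⁻¹) = 1) := by
      constructor
      · intro h; rw [← h]; group
      · intro h
        have h2 : x * y * x⁻¹ * y⁻¹ = (x * y * x⁻¹ * (y⁻¹ * z⁻¹)) * z := by group
        rw [h2, h, one_mul]
    simp only [this]
    split_ifs <;> simp
  -- expand the indicator
  have h2 : ∀ w : G, (if w = 1 then (1 : ℂ) else 0)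
      = (Nat.card G : ℂ)⁻¹ * ∑ χ : Cfsg.IrrCharacter G, (χ : G → ℂ) w * (χ : G → ℂ) 1 := by
    intro w
    rw [sum_irr_apply_mul_apply_one]
    split_ifs
    · rw [inv_mul_cancel₀ hG]
    · rw [mul_zero]
  -- the value with inverse
  have h3 : (Nat.card {xy : G × G // xy.1 * xy.2 * xy.1⁻¹ * xy.2⁻¹ = z} : ℂ)
      = (Nat.card G : ℂ) * ∑ χ : Cfsg.IrrCharacter G, (χ : G → ℂ) z⁻¹ / (χ : G → ℂ) 1 := by
    rw [h1]
    simp_rw [h2]
    have e1 : ∑ y : G, ∑ x : G, (Nat.card G : ℂ)⁻¹ * ∑ χ : Cfsg.IrrCharacter G,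
          (χ : G → ℂ) (x * y * x⁻¹ * (y⁻¹ * z⁻¹)) * (χ : G → ℂ) 1
        = ∑ χ : Cfsg.IrrCharacter G, (Nat.card G : ℂ)⁻¹ * ∑ y : G, ∑ x : G,
          (χ : G → ℂ) (x * y * x⁻¹ * (y⁻¹ * z⁻¹)) * (χ : G → ℂ) 1 := by
      simp only [Finset.mul_sum]
      rw [Finset.sum_congr rfl (fun y _ => Finset.sum_comm)]
      rw [Finset.sum_comm]
    rw [e1, Finset.mul_sum]
    apply Finset.sum_congr rfl
    intro χ _
    have hχ1 : (χ : G → ℂ) 1 ≠ 0 := IsIrrCharacter.apply_one_ne_zero χ.2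
    have h4 : ∀ y : G, ∑ x : G, (χ : G → ℂ) (x * y * x⁻¹ * (y⁻¹ * z⁻¹)) * (χ : G → ℂ) 1
        = (Nat.card G : ℂ) * ((χ : G → ℂ) y * (χ : G → ℂ) (y⁻¹ * z⁻¹)) := by
      intro y
      rw [← Finset.sum_mul, IsIrrCharacter.sum_conj_mul χ.2 y (y⁻¹ * z⁻¹)]
      field_simp
    simp_rw [h4]
    rw [← Finset.mul_sum, ← mul_assoc, inv_mul_cancel₀ hG, one_mul]
    have hgoal : ∑ y : G, (χ : G → ℂ) y * (χ : G → ℂ) (y⁻¹ * z⁻¹)
        = (Nat.card G : ℂ) * ((χ : G → ℂ) z⁻¹ / (χ : G → ℂ) 1) := by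
      -- generalized orthogonality
      have h5 := sum_classFunction_mul_shift χ.2 (x := fun h => (χ : G → ℂ) h⁻¹) (by
        intro g h
        have : (h * g * h⁻¹)⁻¹ = h * g⁻¹ * h⁻¹ := by group
        simp only [this]
        exact IsIrrCharacter.isClassFunction χ.2 g⁻¹ h) z⁻¹
      have h6 : ∑ h : G, (χ : G → ℂ) h⁻¹ * (χ : G → ℂ) h = (Nat.card G : ℂ) := by
        have h7 := classInner_irrCharacter χ χ
        rw [if_pos rfl] at h7
        unfold Cfsg.classInner at h7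
        have h8 : ∀ h : G, (χ : G → ℂ) h⁻¹ * (χ : G → ℂ) h
            = (χ : G → ℂ) h * (starRingEnd ℂ) ((χ : G → ℂ) h) := by
          intro h
          rw [IsCharacter.apply_inv (IsIrrCharacter.isCharacter χ.2), mul_comm]
        simp_rw [h8]
        rw [← mul_one (Nat.card G : ℂ), ← h7, ← mul_assoc, mul_inv_cancel₀ hG, one_mul]
      rw [h6] at h5
      rw [← Equiv.sum_comp (Equiv.inv G)]
      simp only [Equiv.inv_apply, inv_inv]
      rw [h5]
      field_simp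
    exact hgoal
  -- the count is real
  have h9 := congrArg (starRingEnd ℂ) h3
  rw [Complex.conj_natCast, map_mul, Complex.conj_natCast, map_sum] at h9
  rw [h9]
  congr 1
  apply Finset.sum_congr rfl
  intro χ _
  rw [map_div₀, IsIrrCharacter.conj_apply_one χ.2,
    IsCharacter.apply_inv (IsIrrCharacter.isCharacter χ.2), Complex.conj_conj]

end Cfsg.Agent.S4856
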