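import Cfsg.Statements.S4814
import Mathlib
import Cfsg.Agent.S4856
import Cfsg.Agent.Lib.Helper6.Auto
import Cfsg.Agent.Lib.Helper6.Linear

set_option autoImplicit false
open Cfsg

namespace Cfsg.Agent.S4814

open scoped ComplexConjugate

open Cfsg.Agent.Lib.Helper6 in
theorem gen_orth {G : Type*} [Group G] [Fintype G] (χ ψ : Cfsg.IrrCharacter G) (g : G) :
    ∑ z : G, (χ : G → ℂ) z * (ψ : G → ℂ) (z⁻¹ * g) =
      if χ = ψ then (Nat.card G : ℂ) * (χ : G → ℂ) g / (χ : G → ℂ) 1 else 0 := by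
  classical
  have hG := card_ne_zero_complex G
  have hx : Cfsg.IsClassFunction G (fun h => (χ : G → ℂ) h⁻¹) := by
    intro a h
    have : (h * a * h⁻¹)⁻¹ = h * a⁻¹ * h⁻¹ := by group
    simp only [this]
    exact IsIrrCharacter.isClassFunction χ.2 a⁻¹ h
  have h5 := sum_classFunction_mul_shift ψ.2 hx g
  have h6 : ∑ h : G, (χ : G → ℂ) h⁻¹ * (ψ : G → ℂ) h =
      (Nat.card G : ℂ) * (if ψ = χ then 1 else 0) := by
    have h7 := classInner_irrCharacter ψ χ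
    unfold Cfsg.classInner at h7
    have h8 : ∀ h : G, (χ : G → ℂ) h⁻¹ * (ψ : G → ℂ) h = (ψ : G → ℂ) h * conj ((χ : G → ℂ) h) := by
      intro h
      rw [IsCharacter.apply_inv (IsIrrCharacter.isCharacter χ.2), mul_comm]
    simp_rw [h8]
    rw [← h7, ← mul_assoc, mul_inv_cancel₀ hG, one_mul]
  rw [← Equiv.sum_comp (Equiv.inv G)]
  simp only [Equiv.inv_apply, inv_inv]
  rw [h5, h6]
  by_cases hχψ : χ = ψ
  · subst hχψ
    simp only [if_true]
    ring
  · rw [if_neg hχψ, if_neg (fun h => hχψ h.symm)]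
    simp

open Cfsg.Agent.Lib.Helper6 in
theorem norm_apply_le_one {G : Type*} [Group G] [Fintype G] (χ : Cfsg.IrrCharacter G) (g : G) :
    ‖(χ : G → ℂ) g‖ ≤ ‖(χ : G → ℂ) 1‖ := by
  obtain ⟨n, ρ, hirr, hρ⟩ := χ.2
  rw [← hρ]
  have := norm_character_le ρ g
  rw [Representation.char_one]
  simpa using this

/-- Let G be a finite group such that the sum, over the irreducible complex characters χ of G, of 1/χ(1)² is less than 2. Then every element of G is a product of two commutators. -/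
theorem result {G : Type*} [Group G] [Finite G]
    (h : ∑ᶠ χ : Cfsg.IrrCharacter G, 1 / ‖(χ : G → ℂ) 1‖ ^ 2 < (2 : ℝ)) (g : G) :
    ∃ a b c d : G, (a * b * a⁻¹ * b⁻¹) * (c * d * c⁻¹ * d⁻¹) = g := by
  classical
  have : Fintype G := Fintype.ofFinite G
  haveI : Fintype (Cfsg.IrrCharacter G) := Fintype.ofFinite _
  have hG : (Nat.card G : ℂ) ≠ 0 := Cfsg.Agent.Lib.Helper6.card_ne_zero_complex G
  rw [finsum_eq_sum_of_fintype] at h
  set F : G → ℂ := fun z => ∑ χ : Cfsg.IrrCharacter G, (χ : G → ℂ) z / (χ : G → ℂ) 1 with hF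
  have hN : ∀ z : G, (Nat.card {xy : G × G // xy.1 * xy.2 * xy.1⁻¹ * xy.2⁻¹ = z} : ℂ) =
      (Nat.card G : ℂ) * F z := by
    intro z
    rw [Cfsg.Agent.S4856.result z, finsum_eq_sum_of_fintype]
  have hχ1 : ∀ χ : Cfsg.IrrCharacter G, (χ : G → ℂ) 1 ≠ 0 :=
    fun χ => Cfsg.Agent.Lib.Helper6.IsIrrCharacter.apply_one_ne_zero χ.2
  have hconv : ∑ z : G, F z * F (z⁻¹ * g) =
      (Nat.card G : ℂ) * ∑ χ : Cfsg.IrrCharacter G, (χ : G → ℂ) g / ((χ : G → ℂ) 1) ^ 3 := by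
    calc ∑ z : G, F z * F (z⁻¹ * g)
        = ∑ z : G, ∑ χ : Cfsg.IrrCharacter G, ∑ ψ : Cfsg.IrrCharacter G,
            ((χ : G → ℂ) z / (χ : G → ℂ) 1) * ((ψ : G → ℂ) (z⁻¹ * g) / (ψ : G → ℂ) 1) := by
          simp only [hF, Finset.sum_mul_sum]
      _ = ∑ χ : Cfsg.IrrCharacter G, ∑ ψ : Cfsg.IrrCharacter G, ∑ z : G,
            ((χ : G → ℂ) z / (χ : G → ℂ) 1) * ((ψ : G → ℂ) (z⁻¹ * g) / (ψ : G → ℂ) 1) := by
          rw [Finset.sum_comm]
          apply Finset.sum_congr rfl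
          intro χ _
          rw [Finset.sum_comm]
      _ = ∑ χ : Cfsg.IrrCharacter G, ∑ ψ : Cfsg.IrrCharacter G,
            (∑ z : G, (χ : G → ℂ) z * (ψ : G → ℂ) (z⁻¹ * g)) /
              ((χ : G → ℂ) 1 * (ψ : G → ℂ) 1) := by
          apply Finset.sum_congr rfl
          intro χ _
          apply Finset.sum_congr rfl
          intro ψ _
          rw [Finset.sum_div]
          apply Finset.sum_congr rfl
          intro z _
          rw [div_mul_div_comm]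
      _ = ∑ χ : Cfsg.IrrCharacter G, ((Nat.card G : ℂ) * (χ : G → ℂ) g / (χ : G → ℂ) 1) /
              ((χ : G → ℂ) 1 * (χ : G → ℂ) 1) := by
          apply Finset.sum_congr rfl
          intro χ _
          simp_rw [gen_orth]
          rw [Finset.sum_eq_single χ]
          · rw [if_pos rfl]
          · intro ψ _ hψ
            rw [if_neg (fun h => hψ h.symm), zero_div]
          · intro h0; exact absurd (Finset.mem_univ χ) h0
      _ = (Nat.card G : ℂ) * ∑ χ : Cfsg.IrrCharacter G, (χ : G → ℂ) g / ((χ : G → ℂ) 1) ^ 3 := by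
          rw [Finset.mul_sum]
          apply Finset.sum_congr rfl
          intro χ _
          have := hχ1 χ
          field_simp
  -- the trivial character
  let τ : Cfsg.IrrCharacter G := ⟨fun g => ((1 : G →* ℂˣ) g : ℂ), Cfsg.Agent.Lib.Helper6.isIrrCharacter_of_hom 1⟩
  have hτ : ∀ x : G, (τ : G → ℂ) x = 1 := fun x => by simp [τ]
  have hne : ∑ χ : Cfsg.IrrCharacter G, (χ : G → ℂ) g / ((χ : G → ℂ) 1) ^ 3 ≠ 0 := by
    intro h0
    have hsplit := Finset.add_sum_erase Finset.univ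
      (fun χ : Cfsg.IrrCharacter G => (χ : G → ℂ) g / ((χ : G → ℂ) 1) ^ 3) (Finset.mem_univ τ)
    have hsplit' := Finset.add_sum_erase Finset.univ
      (fun χ : Cfsg.IrrCharacter G => 1 / ‖(χ : G → ℂ) 1‖ ^ 2) (Finset.mem_univ τ)
    simp only [hτ] at hsplit hsplit'
    rw [h0] at hsplit
    have hR : ‖∑ χ ∈ Finset.univ.erase τ, (χ : G → ℂ) g / ((χ : G → ℂ) 1) ^ 3‖ ≤
        ∑ χ ∈ Finset.univ.erase τ, 1 / ‖(χ : G → ℂ) 1‖ ^ 2 := by
      refine (norm_sum_le _ _).trans (Finset.sum_le_sum ?_)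
      intro χ _
      have hpos : 0 < ‖(χ : G → ℂ) 1‖ := norm_pos_iff.mpr (hχ1 χ)
      have hle := norm_apply_le_one χ g
      rw [norm_div, norm_pow, div_le_div_iff₀ (pow_pos hpos 3) (pow_pos hpos 2)]
      have h3 : ‖(χ : G → ℂ) 1‖ ^ 3 = ‖(χ : G → ℂ) 1‖ * ‖(χ : G → ℂ) 1‖ ^ 2 := by ring
      rw [one_mul, h3]
      exact mul_le_mul_of_nonneg_right hle (sq_nonneg _)
    have hR1 : ∑ χ ∈ Finset.univ.erase τ, (χ : G → ℂ) g / ((χ : G → ℂ) 1) ^ 3 = -1 := by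
      have h4 : (1 : ℂ) / 1 ^ 3 = 1 := by norm_num
      rw [h4] at hsplit
      exact eq_neg_of_add_eq_zero_right hsplit
    rw [hR1, norm_neg, norm_one] at hR
    have h5 : (1 : ℝ) / ‖(1 : ℂ)‖ ^ 2 = 1 := by simp
    rw [h5] at hsplit'
    linarith
  obtain ⟨z, hz1, hz2⟩ : ∃ z, F z ≠ 0 ∧ F (z⁻¹ * g) ≠ 0 := by
    by_contra hcon
    push Not at hcon
    have h0 : ∑ z : G, F z * F (z⁻¹ * g) = 0 := by
      apply Finset.sum_eq_zero
      intro z _
      by_cases h1 : F z = 0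
      · rw [h1, zero_mul]
      · rw [hcon z h1, mul_zero]
    rw [hconv] at h0
    rcases mul_eq_zero.mp h0 with h1 | h1
    · exact hG h1
    · exact hne h1
  have hex : ∀ w : G, F w ≠ 0 → ∃ a b : G, a * b * a⁻¹ * b⁻¹ = w := by
    intro w hw
    have h1 : (Nat.card {xy : G × G // xy.1 * xy.2 * xy.1⁻¹ * xy.2⁻¹ = w} : ℂ) ≠ 0 := by
      rw [hN w]; exact mul_ne_zero hG hw
    have h2 : Nat.card {xy : G × G // xy.1 * xy.2 * xy.1⁻¹ * xy.2⁻¹ = w} ≠ 0 := by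
      exact_mod_cast h1
    obtain ⟨⟨⟨a, b⟩, hab⟩⟩ := (Nat.card_pos_iff.mp (Nat.pos_of_ne_zero h2)).1
    exact ⟨a, b, hab⟩
  obtain ⟨a, b, hab⟩ := hex z hz1
  obtain ⟨c, d, hcd⟩ := hex _ hz2
  exact ⟨a, b, c, d, by rw [hab, hcd]; group⟩

end Cfsg.Agent.S4814
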