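import Cfsg.Statements.S4828
import Mathlib
import Cfsg.Agent.Lib.Helper6.BrCan
import Cfsg.Agent.Lib.Helper6.BrInert
import Cfsg.Agent.S0968
import Cfsg.Agent.S0969

set_option autoImplicit false
open Cfsg

namespace Cfsg.Agent.S4828

open Cfsg.Agent.Lib.Helper6

theorem card_subgroupOf_inf {G : Type*} [Group G] (Q C : Subgroup G) :
    Nat.card ((Q ⊓ C).subgroupOf C) = Nat.card ↥(Q ⊓ C) :=
  Nat.card_congr (Subgroup.subgroupOfEquivOfLe (inf_le_right : Q ⊓ C ≤ C)).toEquiv

theorem factorization_card_eq {K : Type*} [Group K] [Finite K] (p : ℕ) (Z : Subgroup K) :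
    (Nat.card K).factorization p = (Nat.card Z).factorization p + Z.index.factorization p := by
  rw [← Z.card_mul_index, Nat.factorization_mul Nat.card_pos.ne'
    Subgroup.index_ne_zero_of_finite, Finsupp.add_apply]

theorem center_sub_le_center {G : Type*} [Group G] (Q : Subgroup G) :
    (Q ⊓ Subgroup.centralizer (Q : Set G)).subgroupOf (Subgroup.centralizer (Q : Set G))
      ≤ Subgroup.center (Subgroup.centralizer (Q : Set G)) := by
  intro z hz
  rw [Subgroup.mem_subgroupOf] at hz
  rw [Subgroup.mem_center_iff]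
  intro c
  apply Subtype.ext
  rw [Subgroup.coe_mul, Subgroup.coe_mul]
  exact (Subgroup.mem_centralizer_iff.mp c.2 (z : G) hz.1).symm


/-- Let p be a prime, M a maximal ideal of the algebraic integers containing p, and (Q, e) a Brauer pair of the finite group G (Q a p-subgroup, e a block of C_G(Q)). Then (Q, e) is a maximal Brauer pair of some block of G if and only if e contains an irreducible character θ such that θ takes the value θ(1) at every element of Z(Q) = Q ∩ C_G(Q), the p-part of θ(1) times the p-part of the order of Z(Q) equals the p-part of the order of C_G(Q) (θ has defect zero as a character of C_G(Q)/Z(Q)), and every element of N_G(Q) of p-power order that stabilizes e lies in Q·C_G(Q) (the stabilizer of e in N_G(Q) has index prime to p over Q·C_G(Q)). -/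
theorem result {G : Type*} [Group G] [Finite G] (p : ℕ) [Fact p.Prime] (M : Ideal Cfsg.AlgInt) (hM : Cfsg.IsPModular p M) (Q : Subgroup G) (e : Set (Cfsg.IrrCharacter (Subgroup.centralizer (Q : Set G)))) (he : Cfsg.IsBrauerPair p M Q e) :
    (∃ B : Set (Cfsg.IrrCharacter G), Cfsg.IsMaximalBrauerPair p M B Q e) ↔
      ∃ θ ∈ e, (∀ z : Subgroup.centralizer (Q : Set G), (z : G) ∈ Q → (θ : Subgroup.centralizer (Q : Set G) → ℂ) z = (θ : Subgroup.centralizer (Q : Set G) → ℂ) 1) ∧
        (Cfsg.charDegree (θ : Subgroup.centralizer (Q : Set G) → ℂ)).factorization p + (Nat.card ↥(Q ⊓ Subgroup.centralizer (Q : Set G))).factorization p = (Nat.card (Subgroup.centralizer (Q : Set G))).factorization p ∧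
        (∀ g : G, g ∈ Subgroup.normalizer (Q : Set G) → Cfsg.StabilizesBlock (Subgroup.centralizer (Q : Set G)) e g → (∃ k : ℕ, orderOf g = p ^ k) → g ∈ Q ⊔ Subgroup.centralizer (Q : Set G)) := by
  classical
  have : Fintype G := Fintype.ofFinite G
  have : Fintype (Subgroup.centralizer (Q : Set G)) := Fintype.ofFinite _
  have hZc := center_sub_le_center Q
  have hZp : IsPGroup p ((Q ⊓ Subgroup.centralizer (Q : Set G)).subgroupOf
      (Subgroup.centralizer (Q : Set G))) := by
    rw [← Subgroup.comap_subtype]
    exact (he.1.to_le inf_le_left).comap_subtype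
  have hfac := factorization_card_eq p ((Q ⊓ Subgroup.centralizer (Q : Set G)).subgroupOf
      (Subgroup.centralizer (Q : Set G)))
  rw [card_subgroupOf_inf] at hfac
  constructor
  · rintro ⟨B, hmax⟩
    have hBe := hmax.1
    have hstep : ∀ (R : Subgroup G)
        (g : Set (Cfsg.IrrCharacter (Subgroup.centralizer (R : Set G)))),
        Cfsg.IsNormalSubpair p M Q e R g → R = Q := by
      intro R g h
      have : Fintype (Subgroup.centralizer (R : Set G)) := Fintype.ofFinite _
      apply hmax.2 R g
      · exact (isBrauerPairOf_iff_of_isNormalSubpair R Q hM g e h B hBe.2.1).mpr hBe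
      · exact Relation.ReflTransGen.single h
    have hZdef := isDefectGroup_center_of_steps hM Q e he hstep
    have hG : ((Q ⊓ Subgroup.centralizer (Q : Set G)).subgroupOf
        (Subgroup.centralizer (Q : Set G))) ⊔ Subgroup.centralizer
        ((((Q ⊓ Subgroup.centralizer (Q : Set G)).subgroupOf
        (Subgroup.centralizer (Q : Set G)) : Subgroup (Subgroup.centralizer (Q : Set G))))
          : Set (Subgroup.centralizer (Q : Set G))) = ⊤ := by
      have h1 : Subgroup.centralizer
          ((((Q ⊓ Subgroup.centralizer (Q : Set G)).subgroupOf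
          (Subgroup.centralizer (Q : Set G)) : Subgroup (Subgroup.centralizer (Q : Set G))))
            : Set (Subgroup.centralizer (Q : Set G))) = ⊤ := by
        rw [Subgroup.centralizer_eq_top_iff_subset]
        exact hZc
      rw [h1, sup_top_eq]
    obtain ⟨⟨θ, ⟨hθe, hθZ⟩, _⟩, hdeg, _⟩ := Cfsg.Agent.S0968.result p M hM _ hZp hG e he.2 hZdef
    refine ⟨θ, hθe, ?_, ?_, ?_⟩
    · intro z hz
      apply hθZ
      rw [Subgroup.mem_subgroupOf]
      exact ⟨hz, z.2⟩
    · rw [hdeg θ hθe hθZ, hfac]
      ring
    · intro g hgN hgst hgord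
      have hT : ∀ y : G, y ∈ Subgroup.normalizer (Q : Set G) ⊓ stabSub
          (Subgroup.centralizer (Q : Set G)) e ↔ y ∈ Subgroup.normalizer (Q : Set G) ∧
          Cfsg.StabilizesBlock (Subgroup.centralizer (Q : Set G)) e y := by
        intro y
        rw [Subgroup.mem_inf, mem_stabSub_iff]
      have hidx := not_dvd_relIndex_of_maximal hM B Q e hmax _ hT
      have hTN : Subgroup.normalizer (Q : Set G) ⊓ stabSub (Subgroup.centralizer (Q : Set G)) e
          ≤ Subgroup.normalizer ((Q ⊔ Subgroup.centralizer (Q : Set G) : Subgroup G) : Set G) := by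
        intro y hy
        have hyN : y ∈ Subgroup.normalizer (Q : Set G) := hy.1
        have hyC := normalizer_le_normalizer_centralizer Q hyN
        rw [Subgroup.mem_normalizer_iff] at hyN hyC ⊢
        intro x
        constructor
        · intro hx
          have h1 : Q ⊔ Subgroup.centralizer (Q : Set G)
              ≤ (Q ⊔ Subgroup.centralizer (Q : Set G)).comap (MulAut.conj y).toMonoidHom := by
            apply sup_le
            · intro q hq
              rw [Subgroup.mem_comap]
              exact Subgroup.mem_sup_left ((hyN q).mp hq)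
            · intro c hc
              rw [Subgroup.mem_comap]
              exact Subgroup.mem_sup_right ((hyC c).mp hc)
          exact h1 hx
        · intro hx
          have h1 : Q ⊔ Subgroup.centralizer (Q : Set G)
              ≤ (Q ⊔ Subgroup.centralizer (Q : Set G)).comap (MulAut.conj y⁻¹).toMonoidHom := by
            apply sup_le
            · intro q hq
              rw [Subgroup.mem_comap]
              apply Subgroup.mem_sup_left
              have := (hyN (y⁻¹ * q * y)).mpr (by
                have e1 : y * (y⁻¹ * q * y) * y⁻¹ = q := by group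
                rw [e1]; exact hq)
              simpa [MulAut.conj_apply] using this
            · intro c hc
              rw [Subgroup.mem_comap]
              apply Subgroup.mem_sup_right
              have := (hyC (y⁻¹ * c * y)).mpr (by
                have e1 : y * (y⁻¹ * c * y) * y⁻¹ = c := by group
                rw [e1]; exact hc)
              simpa [MulAut.conj_apply] using this
          have h2 := h1 hx
          rw [Subgroup.mem_comap] at h2
          have e2 : (MulAut.conj y⁻¹).toMonoidHom (y * x * y⁻¹) = x := by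
            simp only [MulEquiv.coe_toMonoidHom, MulAut.conj_apply]
            group
          rwa [e2] at h2
      exact mem_of_orderOf_pow_of_not_dvd_relIndex _ _ hTN hidx g ((hT g).mpr ⟨hgN, hgst⟩) hgord
  · rintro ⟨θ, hθe, _, hdeg, hpel⟩
    have hdeg' : (Cfsg.charDegree (θ : Subgroup.centralizer (Q : Set G) → ℂ)).factorization p
        = ((Q ⊓ Subgroup.centralizer (Q : Set G)).subgroupOf
          (Subgroup.centralizer (Q : Set G))).index.factorization p := by
      omega
    have hZdef0 := (Cfsg.Agent.S0969.result p M hM _ hZp hZc θ hdeg').1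
    have heθ : e = Cfsg.blockOf M (θ : Subgroup.centralizer (Q : Set G) → ℂ) := by
      obtain ⟨ξ₀, hξ₀⟩ := he.2
      rw [hξ₀] at hθe ⊢
      exact blockOf_eq_of_mem hM hθe
    rw [← heθ] at hZdef0
    obtain ⟨B, hQe⟩ := exists_block_of_pair hM Q he.1 e he.2
    refine ⟨B, isMaximalBrauerPair_of_steps hM B Q e hQe ?_⟩
    intro R g h
    obtain ⟨x₀, hx₀R, hx₀Q, hne⟩ := exists_blockCoeff_of_isNormalSubpair hM Q R e g h
    obtain ⟨_, hRg, hQR, hRN, hst, _⟩ := h
    apply le_antisymm _ hQR
    intro r hr
    have hrord : ∃ k : ℕ, orderOf r = p ^ k := by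
      obtain ⟨k, hk⟩ := (IsPGroup.iff_orderOf.mp hRg.1) ⟨r, hr⟩
      exact ⟨k, by rw [← hk, Subgroup.orderOf_mk]⟩
    have hrQC := hpel r (hRN hr) (hst r hr) hrord
    have hset := Subgroup.coe_mul_of_right_le_normalizer_left Q (Subgroup.centralizer (Q : Set G))
      (Subgroup.centralizer_le_normalizer _)
    have hr2 : r ∈ ((Q ⊔ Subgroup.centralizer (Q : Set G) : Subgroup G) : Set G) := hrQC
    rw [hset, Set.mem_mul] at hr2
    obtain ⟨q, hq, c, hc, hqc⟩ := hr2
    have hqc' : q * c = c * q := (Subgroup.mem_centralizer_iff.mp hc q hq)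
    have hcx : c * x₀ = x₀ * c := by
      have h1 : q * x₀ = x₀ * q := Subgroup.mem_centralizer_iff.mp hx₀Q q hq
      have h2 : r * x₀ = x₀ * r := Subgroup.mem_centralizer_iff.mp hx₀R r hr
      have h3 : c = q⁻¹ * r := by rw [← hqc]; group
      rw [h3]
      calc q⁻¹ * r * x₀ = q⁻¹ * (r * x₀) := by group
        _ = q⁻¹ * (x₀ * r) := by rw [h2]
        _ = q⁻¹ * x₀ * r := by group
        _ = q⁻¹ * (x₀ * q) * q⁻¹ * r := by group
        _ = q⁻¹ * (q * x₀) * q⁻¹ * r := by rw [h1]
        _ = x₀ * (q⁻¹ * r) := by group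
    have hcord : ∃ j : ℕ, orderOf c = p ^ j := by
      obtain ⟨k, hk⟩ := hrord
      obtain ⟨k', hk'⟩ := (IsPGroup.iff_orderOf.mp he.1) ⟨q, hq⟩
      have hk'' : orderOf q = p ^ k' := by rw [← hk', Subgroup.orderOf_mk]
      have hcomm : Commute q c := hqc'
      have h1 : c ^ (p ^ (k + k')) = 1 := by
        have h2 : r ^ (p ^ (k + k')) = 1 := by
          rw [pow_add, pow_mul, ← hk, pow_orderOf_eq_one, one_pow]
        have h3 : q ^ (p ^ (k + k')) = 1 := by
          rw [add_comm, pow_add, pow_mul, ← hk'', pow_orderOf_eq_one, one_pow]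
        rw [← hqc, hcomm.mul_pow, h3, one_mul] at h2
        exact h2
      obtain ⟨j, _, hj⟩ := (Nat.dvd_prime_pow (Fact.out : p.Prime)).mp (orderOf_dvd_of_pow_eq_one h1)
      exact ⟨j, hj⟩
    have hcord' : ∃ j : ℕ, orderOf (⟨c, hc⟩ : Subgroup.centralizer (Q : Set G)) = p ^ j := by
      obtain ⟨j, hj⟩ := hcord
      exact ⟨j, by rw [Subgroup.orderOf_mk, hj]⟩
    have hcZ := mem_of_central_defectGroup hM e he.2 _ hZc hZdef0 ⟨x₀, hx₀Q⟩ hne ⟨c, hc⟩
      (by apply Subtype.ext; rw [Subgroup.coe_mul, Subgroup.coe_mul]; exact hcx) hcord'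
    rw [Subgroup.mem_subgroupOf] at hcZ
    rw [← hqc]
    exact Q.mul_mem hq hcZ.1

end Cfsg.Agent.S4828
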