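import Cfsg.Statements.S4836
import Mathlib
import Cfsg.Agent.Lib.Helper3.Gagola
-- import your own Cfsg.Agent.* helpers here

set_option autoImplicit false
open Cfsg

namespace Cfsg.Agent.S4836

open Cfsg.Agent.Lib.Helper3.Gagola Cfsg.Agent.Lib.Helper6


theorem faithful {G : Type*} [Group G] [Finite G] (hG : 2 < Nat.card G) (χ : Cfsg.IrrCharacter G) (hχ : Nat.card {C : ConjClasses G // ∃ g ∈ C.carrier, (χ : G → ℂ) g ≠ 0} = 2) :
    (∀ g : G, (χ : G → ℂ) g = (χ : G → ℂ) 1 → g = 1) ∧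
      (∀ ψ : Cfsg.IrrCharacter G, (∀ g : G, (ψ : G → ℂ) g = (ψ : G → ℂ) 1 → g = 1) → ψ = χ) := by
  obtain ⟨c, h⟩ := exists_gdata hG χ hχ
  have hχ1 := IsIrrCharacter.apply_one_ne_zero χ.2
  constructor
  · intro g hg
    by_contra hg1
    have h0 : (χ : G → ℂ) g ≠ 0 := by rw [hg]; exact hχ1
    have hcg := (h.supp g h0).resolve_left hg1
    have h1 := h.val
    rw [apply_eq_of_isConj χ hcg, hg] at h1
    -- (m + 1) χ(1) = 0
    have h2 : (((Subgroup.centralizer ({c} : Set G)).index + 1 : ℕ) : ℂ) * (χ : G → ℂ) 1 = 0 := by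
      push_cast; linear_combination h1
    rcases mul_eq_zero.1 h2 with h3 | h3
    · exact_mod_cast h3
    · exact hχ1 h3
  · intro ψ hψ
    by_contra hne
    exact h.ne_one (hψ c (h.ker ψ hne))


theorem result' {G : Type*} [Group G] [Finite G] (hG : 2 < Nat.card G) (χ : Cfsg.IrrCharacter G) (hχ : Nat.card {C : ConjClasses G // ∃ g ∈ C.carrier, (χ : G → ℂ) g ≠ 0} = 2) :
    (∀ g : G, (χ : G → ℂ) g = (χ : G → ℂ) 1 → g = 1) ∧
      (∀ ψ : Cfsg.IrrCharacter G, (∀ g : G, (ψ : G → ℂ) g = (ψ : G → ℂ) 1 → g = 1) → ψ = χ) ∧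
      (∀ ψ : Cfsg.IrrCharacter G, Nat.card {C : ConjClasses G // ∃ g ∈ C.carrier, (ψ : G → ℂ) g ≠ 0} = 2 → ψ = χ) := by
  obtain ⟨h1, h2⟩ := faithful hG χ hχ
  refine ⟨h1, h2, ?_⟩
  intro ψ hψ
  exact h2 ψ (faithful hG ψ hψ).1





/-- Let G be a finite group of order greater than 2 with an irreducible character χ that is nonzero on exactly two conjugacy classes. Then χ is faithful (it takes the value χ(1) only at the identity), it is the only faithful irreducible character of G, and it is the only irreducible character of G that is nonzero on exactly two conjugacy classes. -/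
theorem result {G : Type*} [Group G] [Finite G] (hG : 2 < Nat.card G) (χ : Cfsg.IrrCharacter G) (hχ : Nat.card {C : ConjClasses G // ∃ g ∈ C.carrier, (χ : G → ℂ) g ≠ 0} = 2) :
    (∀ g : G, (χ : G → ℂ) g = (χ : G → ℂ) 1 → g = 1) ∧
      (∀ ψ : Cfsg.IrrCharacter G, (∀ g : G, (ψ : G → ℂ) g = (ψ : G → ℂ) 1 → g = 1) → ψ = χ) ∧
      (∀ ψ : Cfsg.IrrCharacter G, Nat.card {C : ConjClasses G // ∃ g ∈ C.carrier, (ψ : G → ℂ) g ≠ 0} = 2 → ψ = χ) := by
  exact result' hG χ hχ

end Cfsg.Agent.S4836
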