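import Cfsg.Statements.S4837
import Mathlib
import Cfsg.Agent.Lib.Helper3.Gagola
-- import your own Cfsg.Agent.* helpers here

set_option autoImplicit false
open Cfsg

namespace Cfsg.Agent.S4837

open Cfsg.Agent.Lib.Helper3.Gagola Cfsg.Agent.Lib.Helper6


theorem result' {G : Type*} [Group G] [Finite G] (hG : 2 < Nat.card G) (χ : Cfsg.IrrCharacter G) (hχ : Nat.card {C : ConjClasses G // ∃ g ∈ C.carrier, (χ : G → ℂ) g ≠ 0} = 2) (p : ℕ) [Fact p.Prime] (N : Subgroup G) [hNn : N.Normal] (hN : ∀ g : G, g ∈ N ↔ (χ : G → ℂ) g ≠ 0) (hNp : IsPGroup p N) (hN1 : N ≠ ⊥) :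
    (∀ x ∈ N, x ≠ 1 → ∃ P : Sylow p G, Subgroup.centralizer ({x} : Set G) = P) ∧
      (∀ μ : Cfsg.IrrCharacter N, (μ : N → ℂ) ≠ (fun _ => (1 : ℂ)) → ∃ P : Sylow p G, ∀ g : G, g ∈ (P : Subgroup G) ↔ ∀ n n' : N, (n' : G) = g * n * g⁻¹ → (μ : N → ℂ) n' = (μ : N → ℂ) n) := by
  obtain ⟨c, h⟩ := exists_gdata hG χ hχ
  have hNeq := eq_suppSubgroup h N hN
  have hNp' : IsPGroup p (suppSubgroup χ) := hNeq ▸ hNp
  constructor
  · intro x hx hx1
    exact h.exists_sylow_centralizer hNp' (hNeq ▸ hx) hx1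
  · intro μ hμ
    have hcomm : ∀ a b : N, a * b = b * a := by
      obtain ⟨q, _, hab, _⟩ := h.exists_prime
      rw [← hNeq] at hab
      exact hab.is_comm.comm
    have hidx := h.index_stabilizer N hNn hN hcomm μ hμ
    set S := @MulAction.stabilizer G _ _ (irrAction N hNn) μ with hS
    have hcardS : Nat.card S = p ^ (Nat.card G).factorization p := by
      rw [← h.card_centralizer hNp']
      have h1 := S.index_mul_card
      have h2 := (Subgroup.centralizer ({c} : Set G)).index_mul_card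
      rw [hidx, ← h2] at h1
      have hpos : 0 < (Subgroup.centralizer ({c} : Set G)).index :=
        Nat.pos_of_ne_zero Subgroup.index_ne_zero_of_finite
      exact Nat.eq_of_mul_eq_mul_left hpos h1
    refine ⟨Sylow.ofCard S hcardS, ?_⟩
    intro g
    rw [Sylow.coe_ofCard]
    have hmem : ∀ g : G, g ∈ S ↔ conjFun N hNn (μ : N → ℂ) g⁻¹ = (μ : N → ℂ) := by
      intro g
      rw [hS, @MulAction.mem_stabilizer_iff G _ _ (irrAction N hNn)]
      constructor
      · intro he
        exact congrArg Subtype.val he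
      · intro he
        exact Subtype.ext he
    rw [← inv_mem_iff, hmem, inv_inv]
    constructor
    · intro he n n' hn'
      have h1 := congrFun he n
      rw [conjFun_apply] at h1
      rw [← h1]
      have e : n' = ⟨g * n * g⁻¹, hNn.conj_mem n n.2 g⟩ := Subtype.ext hn'
      rw [e]
    · intro hcond
      funext n
      rw [conjFun_apply]
      exact hcond n ⟨g * n * g⁻¹, hNn.conj_mem n n.2 g⟩ rfl





/-- Let G be a finite group of order greater than 2 with an irreducible character χ nonzero on exactly two conjugacy classes, and let N be the set of elements where χ is nonzero, given as a nontrivial normal p-subgroup of G for the prime p. Then for every nonidentity x in N the centralizer C_G(x) is a Sylow p-subgroup of G, and for every irreducible character λ ≠ 1 of N the stabilizer of λ in G (its inertia group) is a Sylow p-subgroup of G. -/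
theorem result {G : Type*} [Group G] [Finite G] (hG : 2 < Nat.card G) (χ : Cfsg.IrrCharacter G) (hχ : Nat.card {C : ConjClasses G // ∃ g ∈ C.carrier, (χ : G → ℂ) g ≠ 0} = 2) (p : ℕ) [Fact p.Prime] (N : Subgroup G) [N.Normal] (hN : ∀ g : G, g ∈ N ↔ (χ : G → ℂ) g ≠ 0) (hNp : IsPGroup p N) (hN1 : N ≠ ⊥) :
    (∀ x ∈ N, x ≠ 1 → ∃ P : Sylow p G, Subgroup.centralizer ({x} : Set G) = P) ∧
      (∀ μ : Cfsg.IrrCharacter N, (μ : N → ℂ) ≠ (fun _ => (1 : ℂ)) → ∃ P : Sylow p G, ∀ g : G, g ∈ (P : Subgroup G) ↔ ∀ n n' : N, (n' : G) = g * n * g⁻¹ → (μ : N → ℂ) n' = (μ : N → ℂ) n) := by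
  exact result' hG χ hχ p N hN hNp hN1

end Cfsg.Agent.S4837
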