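import Cfsg.Statements.S4838
import Mathlib
import Cfsg.Agent.Lib.Helper3.Gagola
-- import your own Cfsg.Agent.* helpers here

set_option autoImplicit false
open Cfsg

namespace Cfsg.Agent.S4838

open Cfsg.Agent.Lib.Helper3.Gagola Cfsg.Agent.Lib.Helper6
open scoped commutatorElement
variable {G : Type*} [Group G] [Finite G]


/-- a `p`-subgroup centralizing an element outside the support is small -/
theorem card_mul_card_le {χ : Cfsg.IrrCharacter G} {c : G} (h : GData χ c) {p : ℕ} [hp : Fact p.Prime]
    (N : Subgroup G) [hNn : N.Normal] (hN : ∀ g : G, g ∈ N ↔ (χ : G → ℂ) g ≠ 0) (hNp : IsPGroup p N)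
    (P : Sylow p G) {x : G} (hx : x ∉ N) (Q : Subgroup G) (hQ : IsPGroup p Q)
    (hQx : Q ≤ Subgroup.centralizer ({x} : Set G)) : Nat.card Q * Nat.card N ≤ Nat.card P := by
  have h1 : Nat.card Q ∣ Nat.card (Subgroup.centralizer ({x} : Set G)) := Subgroup.card_dvd_of_le hQx
  rw [h.card_centralizer_quot N hN hx] at h1
  have h2 : Nat.card Q ∣ N.index := by
    rw [Subgroup.index_eq_card]
    exact h1.trans (Subgroup.card_subgroup_dvd_card _)
  have h3 : Nat.card Q * Nat.card N ∣ Nat.card G := by
    rw [← Subgroup.index_mul_card N]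
    exact Nat.mul_dvd_mul_right h2 _
  obtain ⟨j, hj⟩ := hQ.exists_card_eq
  obtain ⟨a, ha⟩ := hNp.exists_card_eq
  rw [hj, ha, ← pow_add] at h3 ⊢
  rw [P.card_eq_multiplicity]
  apply Nat.pow_le_pow_right hp.out.pos
  exact (hp.out.pow_dvd_iff_le_factorization Nat.card_pos.ne').1 h3


/-- a normal `p`-subgroup lies in every Sylow `p`-subgroup -/
theorem normal_le_sylow {p : ℕ} [hp : Fact p.Prime] (N : Subgroup G) [hNn : N.Normal]
    (hNp : IsPGroup p N) (P : Sylow p G) : N ≤ (P : Subgroup G) := by
  obtain ⟨Q, hQ⟩ := hNp.exists_le_sylow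
  obtain ⟨g, rfl⟩ := MulAction.exists_smul_eq G Q P
  intro n hn
  rw [Sylow.coe_subgroup_smul, Subgroup.mem_pointwise_smul_iff_inv_smul_mem]
  apply hQ
  have := hNn.conj_mem n hn g⁻¹
  simpa [MulAut.smul_def] using this


theorem result' (hG : 2 < Nat.card G) (χ : Cfsg.IrrCharacter G) (hχ : Nat.card {C : ConjClasses G // ∃ g ∈ C.carrier, (χ : G → ℂ) g ≠ 0} = 2) (p : ℕ) [hp : Fact p.Prime] (N : Subgroup G) [hNn : N.Normal] (hN : ∀ g : G, g ∈ N ↔ (χ : G → ℂ) g ≠ 0) (hNp : IsPGroup p N) (hN1 : N ≠ ⊥) (P : Sylow p G) :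
    (∀ x : G, x ∉ N → Nat.card (Subgroup.centralizer ({x} : Set G)) = Nat.card (Subgroup.centralizer ({(x : G ⧸ N)} : Set (G ⧸ N)))) ∧
      ((Subgroup.center ↥(P : Subgroup G)).map (P : Subgroup G).subtype ≤ N ∧
        ((Subgroup.center ↥(P : Subgroup G)).map (P : Subgroup G).subtype = N ↔ (P : Subgroup G).Normal)) ∧
      (∃ i : ℕ, Subgroup.upperCentralSeries ↥(P : Subgroup G) i = N.subgroupOf (P : Subgroup G)) := by
  classical
  obtain ⟨c, h⟩ := exists_gdata hG χ hχ
  have hNeq := eq_suppSubgroup h N hN
  have hNp' : IsPGroup p (suppSubgroup χ) := hNeq ▸ hNp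
  have hNP : N ≤ (P : Subgroup G) := normal_le_sylow N hNp P
  have hNcard : 1 < Nat.card N := by
    by_contra hle
    have : Nat.card N = 1 := by have := Nat.card_pos (α := N); omega
    exact hN1 (Subgroup.card_eq_one.1 this)
  have hcN : c ∈ N := (hN c).2 h.ne_zero
  -- (b1)
  have hZN : (Subgroup.center ↥(P : Subgroup G)).map (P : Subgroup G).subtype ≤ N := by
    rintro _ ⟨w, hw, rfl⟩
    by_contra hzN
    have hPle : (P : Subgroup G) ≤ Subgroup.centralizer ({((P : Subgroup G).subtype w)} : Set G) := by
      intro y hy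
      rw [Subgroup.mem_centralizer_singleton_iff]
      have := (Subgroup.mem_center_iff.1 hw) ⟨y, hy⟩
      exact congrArg Subtype.val this
    have h1 := card_mul_card_le h N hN hNp P hzN (P : Subgroup G) P.2 hPle
    have hPpos : 0 < Nat.card (P : Subgroup G) := Nat.card_pos
    nlinarith
  refine ⟨fun x hx => h.card_centralizer_quot N hN hx, ⟨hZN, ?_⟩, ?_⟩
  · constructor
    · intro hZ
      -- `C_G(c') = P` for every nonidentity `c'` of `N`
      have hcent : ∀ c' ∈ N, c' ≠ 1 → Subgroup.centralizer ({c'} : Set G) = (P : Subgroup G) := by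
        intro c' hc' hc'1
        symm
        apply Subgroup.eq_of_le_of_card_ge
        · intro y hy
          rw [Subgroup.mem_centralizer_singleton_iff]
          rw [← hZ] at hc'
          obtain ⟨w, hw, rfl⟩ := hc'
          have := (Subgroup.mem_center_iff.1 hw) ⟨y, hy⟩
          exact congrArg Subtype.val this
        · have hc'S : c' ∈ suppSubgroup χ := hNeq ▸ hc'
          rw [card_centralizer_eq_of_isConj (h.isConj_of_mem hc'S hc'1), h.card_centralizer hNp',
            P.card_eq_multiplicity]
      constructor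
      intro y hy g
      have hc1 : c ≠ 1 := h.ne_one
      have hgc : g * c * g⁻¹ ∈ N := hNn.conj_mem c hcN g
      have hgc1 : g * c * g⁻¹ ≠ 1 := by
        intro he
        apply hc1
        have : c = g⁻¹ * (g * c * g⁻¹) * g := by group
        rw [this, he]; group
      rw [← hcent c hcN hc1, Subgroup.mem_centralizer_singleton_iff] at hy
      rw [← hcent _ hgc hgc1, Subgroup.mem_centralizer_singleton_iff]
      calc g * y * g⁻¹ * (g * c * g⁻¹) = g * (y * c) * g⁻¹ := by group
        _ = g * (c * y) * g⁻¹ := by rw [hy]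
        _ = g * c * g⁻¹ * (g * y * g⁻¹) := by group
    · intro hPn
      apply le_antisymm hZN
      set Z := (Subgroup.center ↥(P : Subgroup G)).map (P : Subgroup G).subtype with hZ
      have hZn : Z.Normal := by
        constructor
        rintro _ ⟨w, hw, rfl⟩ g
        have hgw : g * (w : G) * g⁻¹ ∈ (P : Subgroup G) := hPn.conj_mem w w.2 g
        refine ⟨⟨g * (w : G) * g⁻¹, hgw⟩, ?_, rfl⟩
        refine Subgroup.mem_center_iff.2 ?_
        intro y
        apply Subtype.ext
        have hy' : g⁻¹ * (y : G) * g ∈ (P : Subgroup G) := by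
          have := hPn.conj_mem y y.2 g⁻¹
          rwa [inv_inv] at this
        have h1 := (Subgroup.mem_center_iff.1 hw) ⟨g⁻¹ * (y : G) * g, hy'⟩
        have h2 : (g⁻¹ * (y : G) * g) * (w : G) = (w : G) * (g⁻¹ * (y : G) * g) :=
          congrArg Subtype.val h1
        show (y : G) * (g * (w : G) * g⁻¹) = g * (w : G) * g⁻¹ * (y : G)
        calc (y : G) * (g * (w : G) * g⁻¹) = g * ((g⁻¹ * (y : G) * g) * (w : G)) * g⁻¹ := by group
          _ = g * ((w : G) * (g⁻¹ * (y : G) * g)) * g⁻¹ := by rw [h2]
          _ = g * (w : G) * g⁻¹ * (y : G) := by group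
      have hZ1 : Z ≠ ⊥ := by
        have hPnt : Nontrivial ↥(P : Subgroup G) := by
          refine ⟨⟨⟨c, hNP hcN⟩, 1, ?_⟩⟩
          intro he
          exact h.ne_one (congrArg Subtype.val he)
        have hcen : Nontrivial (Subgroup.center ↥(P : Subgroup G)) := P.2.center_nontrivial
        obtain ⟨z, hz1⟩ := exists_ne (1 : Subgroup.center ↥(P : Subgroup G))
        intro hbot
        apply hz1
        have hmem : ((z : ↥(P : Subgroup G)) : G) ∈ Z := ⟨z, z.2, rfl⟩
        rw [hbot, Subgroup.mem_bot] at hmem
        exact Subtype.ext (Subtype.ext hmem)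
      rw [hNeq]
      exact h.supp_le Z hZn hZ1
  · -- (c)
    set N' : Subgroup ↥(P : Subgroup G) := N.subgroupOf (P : Subgroup G) with hN'
    have hN'card : Nat.card N' = Nat.card N :=
      Nat.card_congr (Subgroup.subgroupOfEquivOfLe hNP).toEquiv
    have hN'1 : N' ≠ ⊥ := by
      intro he
      have : Nat.card N' = 1 := by rw [he]; exact Subgroup.card_bot
      omega
    have claimA : ∀ i : ℕ, Subgroup.upperCentralSeries ↥(P : Subgroup G) i < N' →
        Subgroup.upperCentralSeries ↥(P : Subgroup G) (i + 1) ≤ N' := by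
      intro i hlt x hx
      by_contra hxN
      rw [hN', Subgroup.mem_subgroupOf] at hxN
      have : Fintype ↥(P : Subgroup G) := Fintype.ofFinite _
      set Zi := Subgroup.upperCentralSeries ↥(P : Subgroup G) i with hZi
      rw [Subgroup.mem_upperCentralSeries_succ_iff] at hx
      -- class size bound
      have hcl : (Finset.univ.filter (fun y : ↥(P : Subgroup G) => IsConj x y)).card
          ≤ Nat.card Zi := by
        rw [Nat.card_eq_fintype_card, Fintype.card_subtype]
        apply Finset.card_le_card_of_injOn (fun y => y * x⁻¹)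
        · intro y hy
          rw [Finset.mem_coe, Finset.mem_filter] at hy
          obtain ⟨g, hg⟩ := isConj_iff.1 hy.2
          rw [Finset.mem_coe, Finset.mem_filter]
          refine ⟨Finset.mem_univ _, ?_⟩
          have h1 := Zi.inv_mem (hx g)
          have e : ⁅x, g⁆⁻¹ = y * x⁻¹ := by rw [commutatorElement_def, ← hg]; group
          rwa [e] at h1
        · intro y _ y' _ hyy'
          exact mul_right_cancel hyy'
      have horb := card_conj_mul_card_centralizer x
      -- the centralizer in `P` is small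
      set CP := Subgroup.centralizer ({x} : Set ↥(P : Subgroup G)) with hCP
      have hCPle : CP.map (P : Subgroup G).subtype ≤ Subgroup.centralizer ({(x : G)} : Set G) := by
        rintro _ ⟨y, hy, rfl⟩
        have hy' : y * x = x * y := Subgroup.mem_centralizer_singleton_iff.1 hy
        rw [Subgroup.mem_centralizer_singleton_iff]
        exact congrArg Subtype.val hy'
      have hCPp : IsPGroup p (CP.map (P : Subgroup G).subtype) :=
        P.2.to_le (Subgroup.map_subtype_le _)
      have h3 := card_mul_card_le h N hN hNp P hxN _ hCPp hCPle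
      rw [Subgroup.card_map_of_injective (Subgroup.subtype_injective _)] at h3
      have hZlt : Nat.card Zi < Nat.card N' := by
        by_contra hge
        push Not at hge
        have := Subgroup.eq_of_le_of_card_ge hlt.le hge
        exact hlt.ne this
      have hCPpos : 0 < Nat.card CP := Nat.card_pos
      rw [hN'card] at hZlt
      nlinarith
    have hnil : Group.IsNilpotent ↥(P : Subgroup G) := P.2.isNilpotent
    obtain ⟨i₀, hi₀⟩ := hnil.nilpotent
    have hex : ∃ i, ¬ Subgroup.upperCentralSeries ↥(P : Subgroup G) i < N' := by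
      refine ⟨i₀, ?_⟩
      rw [hi₀]
      exact not_lt_of_ge le_top
    set i := Nat.find hex with hi
    have hspec := Nat.find_spec hex
    have hi0 : i ≠ 0 := by
      intro h0
      rw [← hi, h0, Subgroup.upperCentralSeries_zero] at hspec
      exact hspec (bot_lt_iff_ne_bot.2 hN'1)
    obtain ⟨j, hj⟩ := Nat.exists_eq_succ_of_ne_zero hi0
    have hjlt : Subgroup.upperCentralSeries ↥(P : Subgroup G) j < N' := by
      by_contra hnot
      have := Nat.find_min' hex hnot
      omega
    refine ⟨i, ?_⟩
    have hle := claimA j hjlt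
    rw [← hi, hj] at hspec
    rw [hj]
    by_contra hne
    exact hspec (lt_of_le_of_ne hle hne)





/-- Let G be a finite group of order greater than 2 with an irreducible character χ nonzero on exactly two conjugacy classes, N the normal p-subgroup of elements where χ is nonzero, and P a Sylow p-subgroup of G. Then (a) for every x outside N the centralizer of x in G has the same order as the centralizer of xN in G/N; (b) the centre of P lies in N, and equals N exactly when P is normal in G; (c) N, viewed inside P, is a term of the upper central series of P. -/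
theorem result {G : Type*} [Group G] [Finite G] (hG : 2 < Nat.card G) (χ : Cfsg.IrrCharacter G) (hχ : Nat.card {C : ConjClasses G // ∃ g ∈ C.carrier, (χ : G → ℂ) g ≠ 0} = 2) (p : ℕ) [Fact p.Prime] (N : Subgroup G) [N.Normal] (hN : ∀ g : G, g ∈ N ↔ (χ : G → ℂ) g ≠ 0) (hNp : IsPGroup p N) (hN1 : N ≠ ⊥) (P : Sylow p G) :
    (∀ x : G, x ∉ N → Nat.card (Subgroup.centralizer ({x} : Set G)) = Nat.card (Subgroup.centralizer ({(x : G ⧸ N)} : Set (G ⧸ N)))) ∧
      ((Subgroup.center ↥(P : Subgroup G)).map (P : Subgroup G).subtype ≤ N ∧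
        ((Subgroup.center ↥(P : Subgroup G)).map (P : Subgroup G).subtype = N ↔ (P : Subgroup G).Normal)) ∧
      (∃ i : ℕ, Subgroup.upperCentralSeries ↥(P : Subgroup G) i = N.subgroupOf (P : Subgroup G)) := by
  exact result' hG χ hχ p N hN hNp hN1 P

end Cfsg.Agent.S4838
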