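import Cfsg.Statements.S4839
import Mathlib
import Cfsg.Agent.Lib.Helper3.Gagola2
-- import your own Cfsg.Agent.* helpers here

set_option autoImplicit false
open Cfsg

namespace Cfsg.Agent.S4839

open Cfsg.Agent.Lib.Helper3.Gagola Cfsg.Agent.Lib.Helper6


theorem result' {G : Type*} [Group G] [Finite G] (hG : 2 < Nat.card G) (χ : Cfsg.IrrCharacter G) (hχ : Nat.card {C : ConjClasses G // ∃ g ∈ C.carrier, (χ : G → ℂ) g ≠ 0} = 2) (p : ℕ) [hp : Fact p.Prime] (N : Subgroup G) [hNn : N.Normal] (hN : ∀ g : G, g ∈ N ↔ (χ : G → ℂ) g ≠ 0) (hNp : IsPGroup p N) (hN1 : N ≠ ⊥) :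
    N = Cfsg.pCore p G ↔ ∃ H : Subgroup G, Cfsg.IsFrobeniusComplement H ∧ Cfsg.frobeniusKernel H = (N : Set G) ∧ Nat.card H + 1 = Nat.card N := by
  obtain ⟨c, h⟩ := exists_gdata hG χ hχ
  constructor
  · intro hcore
    exact h.exists_frobenius_of_pCore hG N hN hNp hcore
  · rintro ⟨H, hfrob, hker, hcard⟩
    apply le_antisymm (Cfsg.Agent.Lib.Helper1.le_pCore hNn hNp)
    intro x hx
    by_contra hxN
    have hxk : x ∉ Cfsg.frobeniusKernel H := by rw [hker]; exact hxN
    unfold Cfsg.frobeniusKernel at hxk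
    rw [Set.mem_ofPred_eq] at hxk
    push Not at hxk
    obtain ⟨hx1, g, hxg⟩ := hxk
    rw [Cfsg.Agent.Lib.Helper1.mem_conj_smul_iff] at hxg
    have hcn := Cfsg.Agent.Lib.Helper1.pCore_normal (G := G) p
    have hy : g⁻¹ * x * g ∈ Cfsg.pCore p G := by
      have := hcn.conj_mem x hx g⁻¹
      rwa [inv_inv] at this
    have hy1 : g⁻¹ * x * g ≠ 1 := by
      intro he
      apply hx1
      calc x = g * (g⁻¹ * x * g) * g⁻¹ := by group
        _ = 1 := by rw [he]; group
    obtain ⟨k, hk⟩ := (Cfsg.Agent.Lib.Helper1.pCore_isPGroup (G := G) p) ⟨_, hy⟩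
    have hk' : (g⁻¹ * x * g) ^ p ^ k = 1 := by
      have h1 := congrArg Subtype.val hk
      rw [Subgroup.coe_pow, Subgroup.coe_one] at h1
      exact h1
    obtain ⟨j, -, hj⟩ := (Nat.dvd_prime_pow hp.out).1 (orderOf_dvd_of_pow_eq_one hk')
    have hj0 : j ≠ 0 := by
      intro h0
      rw [h0, pow_zero] at hj
      exact hy1 (orderOf_eq_one_iff.1 hj)
    have hpH : p ∣ Nat.card H := by
      have h1 : orderOf (⟨_, hxg⟩ : H) ∣ Nat.card H := orderOf_dvd_natCard _
      have h2 : orderOf (⟨_, hxg⟩ : H) = orderOf (g⁻¹ * x * g) := Subgroup.orderOf_mk _ _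
      rw [h2, hj] at h1
      exact (dvd_pow_self p hj0).trans h1
    have hpN : p ∣ Nat.card N := by
      obtain ⟨a, ha⟩ := hNp.exists_card_eq
      rw [ha]
      apply dvd_pow_self
      intro h0
      rw [h0, pow_zero] at ha
      exact hN1 (Subgroup.card_eq_one.1 ha)
    rw [← hcard] at hpN
    have := (Nat.dvd_add_right hpH).1 hpN
    exact hp.out.one_lt.ne' (Nat.dvd_one.1 this)





/-- Let G be a finite group of order greater than 2 with an irreducible character χ nonzero on exactly two conjugacy classes, and let N be the normal p-subgroup of elements where χ is nonzero. Then N is the whole p-core O_p(G) if and only if G is a doubly transitive Frobenius group with kernel N: G has a Frobenius complement H whose Frobenius kernel is N and whose order is one less than that of N. -/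
theorem result {G : Type*} [Group G] [Finite G] (hG : 2 < Nat.card G) (χ : Cfsg.IrrCharacter G) (hχ : Nat.card {C : ConjClasses G // ∃ g ∈ C.carrier, (χ : G → ℂ) g ≠ 0} = 2) (p : ℕ) [Fact p.Prime] (N : Subgroup G) [N.Normal] (hN : ∀ g : G, g ∈ N ↔ (χ : G → ℂ) g ≠ 0) (hNp : IsPGroup p N) (hN1 : N ≠ ⊥) :
    N = Cfsg.pCore p G ↔ ∃ H : Subgroup G, Cfsg.IsFrobeniusComplement H ∧ Cfsg.frobeniusKernel H = (N : Set G) ∧ Nat.card H + 1 = Nat.card N := by
  exact result' hG χ hχ p N hN hNp hN1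

end Cfsg.Agent.S4839
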