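import Cfsg.Statements.S4840
import Cfsg.Agent.Lib.Helper3.Gagola2
import Cfsg.Agent.Lib.Helper2.GagSolvC

set_option autoImplicit false
open Cfsg

namespace Cfsg.Agent.S4840

open Cfsg.Agent.Lib.Helper3.Gagola Cfsg.Agent.Lib.Helper2.GagSolv

/-- Let G be a finite solvable group of order greater than 2 with an irreducible character nonzero on exactly two conjugacy classes. Then there is exactly one prime p with O_p(G) ≠ 1, and the quotient G/O_p(G) has a normal p-complement and commutative Sylow p-subgroups. -/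
theorem result {G : Type*} [Group G] [Finite G] [hs : Group.IsSolvable G] (hG : 2 < Nat.card G) (χ : Cfsg.IrrCharacter G) (hχ : Nat.card {C : ConjClasses G // ∃ g ∈ C.carrier, (χ : G → ℂ) g ≠ 0} = 2) :
    ∃ p : ℕ, p.Prime ∧ (∀ q : ℕ, q.Prime → (Cfsg.pCore q G ≠ ⊥ ↔ q = p)) ∧
      Cfsg.HasNormalPComplement p (G ⧸ Cfsg.pCore p G) ∧ ∀ Q : Sylow p (G ⧸ Cfsg.pCore p G), IsMulCommutative (Q : Subgroup (G ⧸ Cfsg.pCore p G)) := by
  obtain ⟨c, hc⟩ := exists_gdata hG χ hχ
  obtain ⟨p, hp, hcommN, hexpN⟩ := hc.exists_prime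
  haveI : Fact p.Prime := ⟨hp⟩
  have hNiff : ∀ g : G, g ∈ suppSubgroup χ ↔ (χ : G → ℂ) g ≠ 0 := hc.mem_supp_iff
  have hNp : IsPGroup p ↥(suppSubgroup χ) := by
    intro x
    refine ⟨1, ?_⟩
    rw [pow_one]
    apply Subtype.ext
    rw [Subgroup.coe_pow, Subgroup.coe_one]
    exact hexpN x x.2
  have hTP : TP p (suppSubgroup χ) :=
    { ne_bot := hc.supp_ne_bot
      comm := fun a ha b hb => hc.supp_comm (suppSubgroup χ) hNiff ha hb
      exp := hexpN
      conj := fun x hx y hy hx1 hy1 => hc.exists_conj hx hy hx1 hy1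
      cent := fun x hx hx1 => hc.isPGroup_centralizer_of_mem (suppSubgroup χ) hNiff hNp hx hx1 }
  refine ⟨p, hp, ?_, transP hTP⟩
  intro q hq
  constructor
  · intro hne
    have hle := hc.supp_le (Cfsg.pCore q G) inferInstance hne
    obtain ⟨x, hx, hx1⟩ := hTP.exists_ne_one
    haveI : Fact q.Prime := ⟨hq⟩
    have hxo : orderOf x = p := orderOf_eq_prime (hexpN x hx) hx1
    have hq' : IsPGroup q ↥(Cfsg.pCore q G) := Cfsg.Agent.Lib.Helper1.pCore_isPGroup q
    obtain ⟨k, hk⟩ := hq' ⟨x, hle hx⟩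
    have hk' : x ^ (q ^ k) = 1 := by
      have := congrArg Subtype.val hk
      simpa using this
    have hdvd : p ∣ q ^ k := by rw [← hxo]; exact orderOf_dvd_of_pow_eq_one hk'
    have hpq : p ∣ q := hp.dvd_of_dvd_pow hdvd
    exact ((Nat.prime_dvd_prime_iff_eq hp hq).mp hpq).symm
  · rintro rfl hb
    have := hTP.le_pCore
    rw [hb] at this
    exact hc.supp_ne_bot (eq_bot_iff.mpr this)

end Cfsg.Agent.S4840
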