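import Cfsg.Statements.S4859
import Mathlib
import Cfsg.Agent.Lib.Helper8.FS3
import Cfsg.Agent.Lib.Helper6.Mult

set_option autoImplicit false
open Cfsg

namespace Cfsg.Agent.S4859

/-- Let p be an odd prime, G a finite group and x an element of G whose order is a power of p (possibly 1) and whose centralizer has even order. Let y be a 2-element of the centralizer of x whose order is largest among the 2-elements of that centralizer. Then x * y is not a square in G, and some non-principal real-valued irreducible character of G does not vanish at x * y. -/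
theorem result {G : Type*} [Group G] [Finite G] (p : ℕ) [Fact p.Prime] (hp : p ≠ 2) (x : G) (hx : ∃ k : ℕ, orderOf x = p ^ k) (heven : Even (Nat.card (Subgroup.centralizer ({x} : Set G)))) (y : G) (hy : y ∈ Subgroup.centralizer ({x} : Set G)) (hy2 : ∃ k : ℕ, orderOf y = 2 ^ k) (hmax : ∀ z ∈ Subgroup.centralizer ({x} : Set G), (∃ k : ℕ, orderOf z = 2 ^ k) → orderOf z ≤ orderOf y) : (¬ ∃ u : G, u * u = x * y) ∧ ∃ χ : Cfsg.IrrCharacter G, ¬ ((χ : G → ℂ) = fun _ => (1 : ℂ)) ∧ (∀ g : G, ((χ : G → ℂ) g).im = 0) ∧ (χ : G → ℂ) (x * y) ≠ 0 := by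
  classical
  haveI : Fintype G := Fintype.ofFinite G
  haveI : Fintype (Cfsg.IrrCharacter G) := Fintype.ofFinite _
  obtain ⟨k, hk⟩ := hx
  obtain ⟨l, hl⟩ := hy2
  have hp' : p.Prime := Fact.out
  have hxy : Commute x y := by
    have := Subgroup.mem_centralizer_singleton_iff.mp hy
    exact this.symm
  -- y ≠ 1
  have hl1 : 1 ≤ l := by
    haveI : Fact (Nat.Prime 2) := ⟨Nat.prime_two⟩
    obtain ⟨z, hz⟩ := exists_prime_orderOf_dvd_card' (G := Subgroup.centralizer ({x} : Set G)) 2
      heven.two_dvd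
    have hz' : orderOf (z : G) = 2 := by rw [Subgroup.orderOf_coe]; exact hz
    have := hmax (z : G) z.2 ⟨1, by rw [hz', pow_one]⟩
    rw [hz', hl] at this
    by_contra hcon
    have : l = 0 := by omega
    subst this
    omega
  have hcop : Nat.Coprime (2 ^ l) (orderOf x) := by
    rw [hk]
    apply Nat.Coprime.pow
    rw [Nat.coprime_primes Nat.prime_two hp']
    exact fun h => hp h.symm
  have hsq : ¬ ∃ u : G, u * u = x * y := by
    rintro ⟨u, hu⟩
    -- x is a power of u
    obtain ⟨c, hc⟩ := exists_pow_eq_self_of_coprime hcop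
    have hx_pow : x = u ^ (2 * 2 ^ l * c) := by
      have h1 : (x * y) ^ (2 ^ l) = x ^ (2 ^ l) := by
        rw [hxy.mul_pow, ← hl, pow_orderOf_eq_one, mul_one]
      rw [pow_mul, pow_mul, pow_two, hu, h1, hc]
    have hux : u * x = x * u := by
      rw [hx_pow]
      exact ((Commute.refl u).pow_right _).eq
    have hord_xy : orderOf (x * y) = p ^ k * 2 ^ l := by
      rw [hxy.orderOf_mul_eq_mul_orderOf_of_coprime, hk, hl]
      rw [hl]
      exact hcop.symm
    have hord_u2 : orderOf (u ^ 2) = p ^ k * 2 ^ l := by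
      rw [pow_two, hu, hord_xy]
    have ho_pos : 0 < orderOf u := orderOf_pos u
    have hpow := orderOf_pow (n := 2) u
    rw [hord_u2] at hpow
    -- orderOf u is even
    have hpk_odd : Odd (p ^ k) := (hp'.odd_of_ne_two hp).pow
    have heven_o : 2 ∣ orderOf u := by
      by_contra hodd
      have hg : (orderOf u).gcd 2 = 1 := by
        have : Nat.Coprime (orderOf u) 2 := by
          rw [Nat.coprime_comm, Nat.Prime.coprime_iff_not_dvd Nat.prime_two]
          exact hodd
        exact this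
      rw [hg, Nat.div_one] at hpow
      apply hodd
      rw [← hpow]
      exact Dvd.dvd.mul_left (dvd_pow_self 2 (by omega)) _
    have hg : (orderOf u).gcd 2 = 2 := Nat.gcd_eq_right heven_o
    rw [hg] at hpow
    have ho : orderOf u = 2 ^ (l + 1) * p ^ k := by
      obtain ⟨m, hm⟩ := heven_o
      rw [hm, Nat.mul_div_cancel_left _ (by norm_num : 0 < 2)] at hpow
      rw [hm, ← hpow, pow_succ]
      ring
    -- the 2-element v = u ^ (p^k)
    have hv_ord : orderOf (u ^ (p ^ k)) = 2 ^ (l + 1) := by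
      rw [orderOf_pow, ho, Nat.gcd_mul_left_left]
      exact Nat.mul_div_cancel _ (pow_pos hp'.pos k)
    have hv_mem : u ^ (p ^ k) ∈ Subgroup.centralizer ({x} : Set G) := by
      rw [Subgroup.mem_centralizer_singleton_iff]
      have : Commute u x := hux
      exact (this.pow_left _).eq
    have := hmax _ hv_mem ⟨l + 1, hv_ord⟩
    rw [hv_ord, hl] at this
    have h2 : 2 ^ l < 2 ^ (l + 1) := Nat.pow_lt_pow_right (by norm_num) (by omega)
    omega
  refine ⟨hsq, ?_⟩
  -- count of square roots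
  have hcount := Cfsg.Agent.Lib.Helper8.FS.sqrtCount_eq (x * y)
  have hzero : Cfsg.Agent.Lib.Helper8.FS.sqrtCount (x * y) = 0 := by
    unfold Cfsg.Agent.Lib.Helper8.FS.sqrtCount
    have : IsEmpty {s : G // s * s = x * y} := ⟨fun s => hsq ⟨s.1, s.2⟩⟩
    rw [Nat.card_of_isEmpty]
    simp
  rw [hzero] at hcount
  let one : Cfsg.IrrCharacter G := ⟨fun _ => 1, Cfsg.Agent.Lib.Helper6.isIrrCharacter_one⟩
  have hνone : Cfsg.Agent.Lib.Helper8.FS.fsInd (one : G → ℂ) = 1 := by
    show Cfsg.Agent.Lib.Helper8.FS.fsInd (fun _ : G => (1 : ℂ)) = 1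
    unfold Cfsg.Agent.Lib.Helper8.FS.fsInd
    rw [Finset.sum_const, Finset.card_univ, ← Nat.card_eq_fintype_card, nsmul_eq_mul, mul_one,
      inv_mul_cancel₀ (Cfsg.Agent.Lib.Helper8.FS.card_ne_zero' (G := G))]
  rw [← Finset.add_sum_erase _ (fun χ : Cfsg.IrrCharacter G =>
    Cfsg.Agent.Lib.Helper8.FS.fsInd (χ : G → ℂ) * (χ : G → ℂ) (x * y)) (Finset.mem_univ one)] at hcount
  rw [hνone] at hcount
  have hone_val : (one : G → ℂ) (x * y) = 1 := rfl
  rw [hone_val, one_mul] at hcount
  have hne : ∑ χ ∈ Finset.univ.erase one,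
      Cfsg.Agent.Lib.Helper8.FS.fsInd (χ : G → ℂ) * (χ : G → ℂ) (x * y) ≠ 0 := by
    intro h
    rw [h, add_zero] at hcount
    exact zero_ne_one hcount
  obtain ⟨χ, hχmem, hχne⟩ := Finset.exists_ne_zero_of_sum_ne_zero hne
  refine ⟨χ, ?_, ?_, ?_⟩
  · intro h
    apply (Finset.mem_erase.mp hχmem).1
    apply Subtype.ext
    exact h
  · intro g
    have hν : Cfsg.Agent.Lib.Helper8.FS.fsInd (χ : G → ℂ) ≠ 0 := left_ne_zero_of_mul hχne
    exact Complex.conj_eq_iff_im.mp (Cfsg.Agent.Lib.Helper8.FS.real_of_fsInd_ne_zero χ hν g)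
  · exact right_ne_zero_of_mul hχne

end Cfsg.Agent.S4859
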