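import Cfsg.Statements.S4866
import Mathlib
import Cfsg.Agent.Lib.Helper8.RealOrb2

set_option autoImplicit false
open Cfsg

namespace Cfsg.Agent.S4866

/-- Let K be a normal subgroup of odd index in the finite group G. Then G has as many orbits on the real-valued irreducible complex characters of K (acting by conjugation) as it has orbits on the conjugacy classes of K that are real in K; equivalently, the number of G-orbits of real-valued irreducible characters of K equals the number of G-conjugacy classes of elements of K that are conjugate in K to their inverses. -/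
theorem result {G : Type*} [Group G] [Finite G] (K : Subgroup G) [K.Normal] (hodd : Odd K.index) : Nat.card (Quot (fun θ η : {θ : Cfsg.IrrCharacter ↥K // (∀ k : ↥K, ((θ : ↥K → ℂ) k).im = 0)} => ∃ g : G, ∀ k k' : ↥K, (k' : G) = g * (k : G) * g⁻¹ → (η.1 : ↥K → ℂ) k' = (θ.1 : ↥K → ℂ) k)) = Nat.card (Quot (fun x y : {x : ↥K // IsConj x x⁻¹} => ∃ g : G, (y.1 : G) = g * x.1 * g⁻¹)) := by
  classical
  haveI : Fintype K := Fintype.ofFinite K
  have hmain := Cfsg.Agent.Lib.Helper8.RealOrb.card_orbits_eq K hodd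
  letI a1 := Cfsg.Agent.Lib.Helper8.RealOrb.actRealIrr K
  letI a2 := Cfsg.Agent.Lib.Helper8.RealOrb.actRealClasses K
  -- the left side
  have hL : Nat.card (Quot (fun θ η : {θ : Cfsg.IrrCharacter ↥K // (∀ k : ↥K, ((θ : ↥K → ℂ) k).im = 0)} =>
      ∃ g : G, ∀ k k' : ↥K, (k' : G) = g * (k : G) * g⁻¹ → (η.1 : ↥K → ℂ) k' = (θ.1 : ↥K → ℂ) k))
      = Nat.card (Quotient (MulAction.orbitRel G (Cfsg.Agent.Lib.Helper8.RealOrb.RealIrr K))) := by
    apply Nat.card_congr
    refine Quot.congrRight ?_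
    intro (θ : Cfsg.Agent.Lib.Helper8.RealOrb.RealIrr K) (η : Cfsg.Agent.Lib.Helper8.RealOrb.RealIrr K)
    have hsym : (MulAction.orbitRel G (Cfsg.Agent.Lib.Helper8.RealOrb.RealIrr K)).r θ η
        ↔ (MulAction.orbitRel G (Cfsg.Agent.Lib.Helper8.RealOrb.RealIrr K)).r η θ :=
      ⟨fun h => (MulAction.orbitRel G _).symm h, fun h => (MulAction.orbitRel G _).symm h⟩
    rw [hsym]
    show _ ↔ η ∈ MulAction.orbit G θ
    constructor
    · rintro ⟨g, hg⟩
      refine ⟨g, ?_⟩
      apply Subtype.ext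
      apply Subtype.ext
      funext k'
      show (θ.1 : ↥K → ℂ) ((Cfsg.Agent.Lib.Helper8.GlauL.conjN K g)⁻¹ k') = (η.1 : ↥K → ℂ) k'
      symm
      apply hg
      rw [Cfsg.Agent.Lib.Helper8.GlauL.conjN_inv_coe]
      group
    · rintro ⟨g, hg⟩
      refine ⟨g, ?_⟩
      intro k k' hk'
      have h1 : ((g • θ : Cfsg.Agent.Lib.Helper8.RealOrb.RealIrr K).1 : ↥K → ℂ) k'
          = (η.1 : ↥K → ℂ) k' := by
        have h2 : g • θ = η := hg
        rw [h2]
      rw [← h1]
      show (θ.1 : ↥K → ℂ) ((Cfsg.Agent.Lib.Helper8.GlauL.conjN K g)⁻¹ k') = (θ.1 : ↥K → ℂ) k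
      refine congrArg _ (Subtype.ext ?_)
      rw [Cfsg.Agent.Lib.Helper8.GlauL.conjN_inv_coe, hk']
      group
  -- the right side
  have hR : Nat.card (Quot (fun x y : {x : ↥K // IsConj x x⁻¹} => ∃ g : G, (y.1 : G) = g * x.1 * g⁻¹))
      = Nat.card (Quotient (MulAction.orbitRel G (Cfsg.Agent.Lib.Helper8.RealOrb.RealClasses K))) := by
    apply Nat.card_congr
    have hwd : ∀ x y : {x : ↥K // IsConj x x⁻¹}, (∃ g : G, (y.1 : G) = g * x.1 * g⁻¹) →
        (Quotient.mk (MulAction.orbitRel G (Cfsg.Agent.Lib.Helper8.RealOrb.RealClasses K))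
          ⟨ConjClasses.mk x.1, (Cfsg.Agent.Lib.Helper8.GlauP.realCls_mk_iff x.1).mpr x.2⟩)
        = Quotient.mk (MulAction.orbitRel G (Cfsg.Agent.Lib.Helper8.RealOrb.RealClasses K))
          ⟨ConjClasses.mk y.1, (Cfsg.Agent.Lib.Helper8.GlauP.realCls_mk_iff y.1).mpr y.2⟩ := by
      rintro x y ⟨g, hg⟩
      apply Quotient.sound
      show _ ∈ MulAction.orbit G _
      refine ⟨g⁻¹, ?_⟩
      apply Subtype.ext
      show Cfsg.Agent.Lib.Helper8.RealOrb.clsMap K g⁻¹ (ConjClasses.mk y.1) = ConjClasses.mk x.1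
      rw [Cfsg.Agent.Lib.Helper8.RealOrb.clsMap_mk]
      congr 1
      apply Subtype.ext
      rw [Cfsg.Agent.Lib.Helper8.RealOrb.conjN_coe, hg]
      group
    refine Equiv.ofBijective (Quot.lift (fun x => Quotient.mk _
      ⟨ConjClasses.mk x.1, (Cfsg.Agent.Lib.Helper8.GlauP.realCls_mk_iff x.1).mpr x.2⟩) hwd) ⟨?_, ?_⟩
    · intro a b
      induction a using Quot.ind with
      | mk x =>
      induction b using Quot.ind with
      | mk y =>
      intro h
      have h1 := Quotient.exact h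
      obtain ⟨g, hg⟩ : (⟨ConjClasses.mk x.1, (Cfsg.Agent.Lib.Helper8.GlauP.realCls_mk_iff x.1).mpr x.2⟩ :
          Cfsg.Agent.Lib.Helper8.RealOrb.RealClasses K) ∈ MulAction.orbit G
          (⟨ConjClasses.mk y.1, (Cfsg.Agent.Lib.Helper8.GlauP.realCls_mk_iff y.1).mpr y.2⟩ :
          Cfsg.Agent.Lib.Helper8.RealOrb.RealClasses K) := h1
      have h2 : Cfsg.Agent.Lib.Helper8.RealOrb.clsMap K g (ConjClasses.mk y.1) = ConjClasses.mk x.1 :=
        congrArg Subtype.val hg
      rw [Cfsg.Agent.Lib.Helper8.RealOrb.clsMap_mk] at h2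
      obtain ⟨u, hu⟩ := isConj_iff.mp (ConjClasses.mk_eq_mk_iff_isConj.mp h2)
      symm
      apply Quot.sound
      refine ⟨(u : G) * g, ?_⟩
      have h3 := congrArg Subtype.val hu
      rw [← h3]
      show (u : G) * (g * (y.1 : G) * g⁻¹) * ((u : ↥K) : G)⁻¹ = _
      group
    · intro q
      induction q using Quotient.inductionOn with
      | h c =>
      obtain ⟨k, hk⟩ := ConjClasses.exists_rep c.1
      have hkr : IsConj k k⁻¹ := by
        apply (Cfsg.Agent.Lib.Helper8.GlauP.realCls_mk_iff k).mp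
        rw [hk]
        exact c.2
      refine ⟨Quot.mk _ ⟨k, hkr⟩, ?_⟩
      show Quotient.mk _ _ = Quotient.mk _ c
      congr 1
      apply Subtype.ext
      exact hk
  rw [hL, hR]
  exact hmain

end Cfsg.Agent.S4866
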