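import Cfsg.Statements.S4870
import Mathlib
import Cfsg.Agent.Lib.Helper8.CliffInj
import Cfsg.Agent.Lib.Helper8.AFT4
import Cfsg.Agent.Lib.Helper8.McK1
import Cfsg.Agent.Lib.Helper6.Gallagher
import Cfsg.Agent.Lib.Helper6.Auto

set_option autoImplicit false
open Cfsg

namespace Cfsg.Agent.S4870

open Cfsg.Agent.Lib.Helper6 Cfsg.Agent.Lib.Helper8.GlauL Cfsg.Agent.Lib.Helper8.AFT in
theorem le_ker_of_minimal {G : Type*} [Group G] (N : Subgroup G) (hN : N.Normal)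
    (hmin : ∀ M : Subgroup G, M.Normal → M ≤ N → M = ⊥ ∨ M = N)
    (hna : ¬ IsMulCommutative ↥N) (lam : G →* ℂˣ) : N ≤ lam.ker := by
  haveI := hN
  have hc : ⁅N, N⁆ = N := by
    rcases hmin ⁅N, N⁆ inferInstance (Subgroup.commutator_le_right N N) with h | h
    · exfalso
      apply hna
      rw [Subgroup.commutator_eq_bot_iff_le_centralizer] at h
      refine ⟨⟨fun a b => ?_⟩⟩
      apply Subtype.ext
      have := h a.2 b b.2
      exact this.symm
    · exact h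
  rw [← hc, Subgroup.commutator_le]
  intro a _ b _
  rw [MonoidHom.mem_ker, map_commutatorElement, commutatorElement_eq_one_iff_commute]
  exact Commute.all _ _

open Cfsg.Agent.Lib.Helper6 Cfsg.Agent.Lib.Helper8.GlauL Cfsg.Agent.Lib.Helper8.AFT in
/-- a linear character fixing the Clifford correspondent is trivial on the inertia group -/
theorem trivial_on_inertia {G : Type*} [Group G] [Fintype G] (N : Subgroup G) (hN : N.Normal)
    (φ : Cfsg.IrrCharacter ↥N) (I : Subgroup G)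
    (hI : ∀ g : G, g ∈ I ↔ ∀ n n' : ↥N, (n' : G) = g * (n : G) * g⁻¹ →
      (φ : ↥N → ℂ) n' = (φ : ↥N → ℂ) n) (hNI : N ≤ I)
    (ψ : Cfsg.IrrCharacter ↥I)
    (hψ : ∀ n : ↥N, (ψ : ↥I → ℂ) (Subgroup.inclusion hNI n) = (φ : ↥N → ℂ) n)
    (lam : G →* ℂˣ) (hlam : N ≤ lam.ker)
    (hfix : ∀ g : G, ((lam g : ℂˣ) : ℂ) * Cfsg.indFun I (ψ : ↥I → ℂ) g
      = Cfsg.indFun I (ψ : ↥I → ℂ) g) :
    ∀ g ∈ I, lam g = 1 := by
  classical
  have hstab : ∀ g : G, conjFun N hN (φ : ↥N → ℂ) g = (φ : ↥N → ℂ) → g ∈ I := by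
    intro g hg
    rw [hI]
    intro n n' hn
    have h1 := congrFun hg n
    rw [conjFun_apply] at h1
    rw [← h1]
    exact congrArg _ (Subtype.ext hn)
  have hres : (fun n : N => (ψ : ↥I → ℂ) ⟨n, hNI n.2⟩) = (φ : ↥N → ℂ) := by
    funext n
    exact hψ n
  have hc : Cfsg.classInner (fun n : N => (ψ : ↥I → ℂ) ⟨n, hNI n.2⟩) (φ : ↥N → ℂ) ≠ 0 := by
    rw [hres, classInner_irrCharacter φ φ, if_pos rfl]
    exact one_ne_zero
  set lamI : ↥I →* ℂˣ := lam.comp I.subtype with hlamI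
  set ψ' : Cfsg.IrrCharacter ↥I := linMul lamI ψ with hψ'
  have hres' : (fun n : N => (ψ' : ↥I → ℂ) ⟨n, hNI n.2⟩) = (φ : ↥N → ℂ) := by
    funext n
    rw [hψ', linMul_apply]
    have h1 : lamI ⟨n, hNI n.2⟩ = 1 := by
      have := hlam n.2
      rw [MonoidHom.mem_ker] at this
      exact this
    rw [h1, Units.val_one, one_mul]
    exact hψ n
  have hc' : Cfsg.classInner (fun n : N => (ψ' : ↥I → ℂ) ⟨n, hNI n.2⟩) (φ : ↥N → ℂ) ≠ 0 := by
    rw [hres', classInner_irrCharacter φ φ, if_pos rfl]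
    exact one_ne_zero
  have hind : Cfsg.indFun I (ψ' : ↥I → ℂ) = Cfsg.indFun I (ψ : ↥I → ℂ) := by
    have hcl : Cfsg.IsClassFunction G (fun g => ((lam g : ℂˣ) : ℂ)) :=
      IsIrrCharacter.isClassFunction (isIrrCharacter_of_hom lam)
    have h1 := indFun_mul_restrict I (ψ : ↥I → ℂ) hcl
    have h2 : (ψ' : ↥I → ℂ) = (ψ : ↥I → ℂ) * fun h : I => ((lam h : ℂˣ) : ℂ) := by
      funext h
      rw [hψ', linMul_apply, Pi.mul_apply, mul_comm]
      rfl
    rw [h2, h1]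
    funext g
    rw [Pi.mul_apply, mul_comm]
    exact hfix g
  have heq : ψ' = ψ :=
    Cfsg.Agent.Lib.Helper8.CliffInj.indFun_injective_of_stab N hN I hNI φ hstab ψ' ψ hc' hc hind
  -- Gallagher in the group I
  haveI hK : (N.subgroupOf I).Normal := Subgroup.Normal.subgroupOf hN I
  let e : ↥(N.subgroupOf I) ≃* ↥N := Subgroup.subgroupOfEquivOfLe hNI
  let θ : Cfsg.IrrCharacter ↥(N.subgroupOf I) :=
    ⟨fun k => (φ : ↥N → ℂ) (e k), IsIrrCharacter.comp_mulEquiv e φ.2⟩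
  have hinv : Cfsg.Agent.Lib.Helper8.McK.InvK (N.subgroupOf I) (θ : ↥(N.subgroupOf I) → ℂ) := by
    intro g k
    show (φ : ↥N → ℂ) (e _) = (φ : ↥N → ℂ) (e k)
    exact ((hI g).1 g.2) (e k) (e _) rfl
  have hextθ : ∀ k : ↥(N.subgroupOf I), (ψ : ↥I → ℂ) k = (θ : ↥(N.subgroupOf I) → ℂ) k := by
    intro k
    show (ψ : ↥I → ℂ) k = (φ : ↥N → ℂ) (e k)
    rw [← hψ (e k)]
    congr 1
  have hl : N.subgroupOf I ≤ lamI.ker := by
    intro k hk
    rw [MonoidHom.mem_ker]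
    have := hlam (Subgroup.mem_subgroupOf.1 hk)
    rw [MonoidHom.mem_ker] at this
    exact this
  have hl' : N.subgroupOf I ≤ (1 : ↥I →* ℂˣ).ker := by
    intro k _
    rw [MonoidHom.mem_ker]
    rfl
  have h1ψ : linMul (1 : ↥I →* ℂˣ) ψ = ψ := by
    apply Subtype.ext
    funext g
    rw [linMul_apply]
    simp
  have hfinal := Cfsg.Agent.Lib.Helper8.McK.linMul_injective_of_extension (N.subgroupOf I) θ hinv ψ
    hextθ lamI 1 hl hl' (by rw [h1ψ]; exact heq)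
  intro g hg
  have := congrArg (fun f : ↥I →* ℂˣ => f ⟨g, hg⟩) hfinal
  exact this

/-- Let G be a finite group with a non-abelian minimal normal subgroup N, and let φ be an irreducible complex character of N with stabilizer I in G (the elements g with φ(g n g⁻¹) = φ(n) for all n ∈ N) such that φ extends to an irreducible character of I. Put d = φ(1)·[G : I]. Then the number of linear characters of G is at most [G : I] times the number of irreducible characters of G of degree d. -/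
theorem result {G : Type*} [Group G] [Finite G] (N : Subgroup G) (hN : N.Normal) (hN1 : N ≠ ⊥) (hmin : ∀ M : Subgroup G, M.Normal → M ≤ N → M = ⊥ ∨ M = N) (hna : ¬ IsMulCommutative ↥N) (φ : Cfsg.IrrCharacter ↥N) (I : Subgroup G) (hI : ∀ g : G, g ∈ I ↔ ∀ n n' : ↥N, (n' : G) = g * (n : G) * g⁻¹ → (φ : ↥N → ℂ) n' = (φ : ↥N → ℂ) n) (hNI : N ≤ I) (hext : ∃ ψ : Cfsg.IrrCharacter ↥I, ∀ n : ↥N, (ψ : ↥I → ℂ) (Subgroup.inclusion hNI n) = (φ : ↥N → ℂ) n) : Nat.card {χ : Cfsg.IrrCharacter G // Cfsg.charDegree (χ : G → ℂ) = 1} ≤ I.index * Nat.card {χ : Cfsg.IrrCharacter G // Cfsg.charDegree (χ : G → ℂ) = Cfsg.charDegree (φ : ↥N → ℂ) * I.index} := by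
  classical
  haveI : Fintype G := Fintype.ofFinite G
  haveI := hN
  obtain ⟨ψ, hψ⟩ := hext
  have hNker := le_ker_of_minimal N hN hmin hna
  have hstab : ∀ g : G, Cfsg.Agent.Lib.Helper6.conjFun N hN (φ : ↥N → ℂ) g = (φ : ↥N → ℂ) → g ∈ I := by
    intro g hg
    rw [hI]
    intro n n' hn
    have h1 := congrFun hg n
    rw [Cfsg.Agent.Lib.Helper6.conjFun_apply] at h1
    rw [← h1]
    exact congrArg _ (Subtype.ext hn)
  have hres : (fun n : N => (ψ : ↥I → ℂ) ⟨n, hNI n.2⟩) = (φ : ↥N → ℂ) := by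
    funext n
    exact hψ n
  have hc : Cfsg.classInner (fun n : N => (ψ : ↥I → ℂ) ⟨n, hNI n.2⟩) (φ : ↥N → ℂ) ≠ 0 := by
    rw [hres, Cfsg.Agent.Lib.Helper6.classInner_irrCharacter φ φ, if_pos rfl]
    exact one_ne_zero
  have hirr := Cfsg.Agent.Lib.Helper6.indFun_isIrrCharacter_of_stab N hN I hNI φ hstab ψ hc
  set χ₀ : Cfsg.IrrCharacter G := ⟨Cfsg.indFun I (ψ : ↥I → ℂ), hirr⟩ with hχ₀
  have hdeg : Cfsg.charDegree (χ₀ : G → ℂ) = Cfsg.charDegree (φ : ↥N → ℂ) * I.index := by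
    have h1 := Cfsg.Agent.Lib.Helper6.indFun_one I (ψ : ↥I → ℂ)
    have h2 : (ψ : ↥I → ℂ) 1 = (φ : ↥N → ℂ) 1 := hψ 1
    rw [h2, Cfsg.Agent.Lib.Helper6.IsCharacter.apply_one_eq_charDegree
      (Cfsg.Agent.Lib.Helper6.IsIrrCharacter.isCharacter hirr),
      Cfsg.Agent.Lib.Helper6.IsCharacter.apply_one_eq_charDegree
      (Cfsg.Agent.Lib.Helper6.IsIrrCharacter.isCharacter φ.2), ← Nat.cast_mul] at h1
    have h3 : Cfsg.charDegree (Cfsg.indFun I (ψ : ↥I → ℂ)) = I.index * Cfsg.charDegree (φ : ↥N → ℂ) := by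
      exact_mod_cast h1
    show Cfsg.charDegree (Cfsg.indFun I (ψ : ↥I → ℂ)) = _
    rw [h3, mul_comm]
  letI := Cfsg.Agent.Lib.Helper8.AFT.linAct (G := G)
  set Λ : Subgroup (G →* ℂˣ) := MulAction.stabilizer (G →* ℂˣ) χ₀ with hΛdef
  have hΛ : Nat.card Λ ≤ I.index := by
    have hsub : ∀ g ∈ I, g ∈ Cfsg.Agent.Lib.Helper8.AFT.kerSet Λ := by
      intro g hg
      rw [Cfsg.Agent.Lib.Helper8.AFT.mem_kerSet]
      intro lam hlam
      rw [hΛdef, MulAction.mem_stabilizer_iff] at hlam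
      apply trivial_on_inertia N hN φ I hI hNI ψ hψ lam (hNker lam) _ g hg
      intro x
      exact congrFun (congrArg Subtype.val hlam) x
    have h1 := Cfsg.Agent.Lib.Helper8.AFT.card_mul_card_kerSet Λ
    have h2 : Nat.card I ≤ (Cfsg.Agent.Lib.Helper8.AFT.kerSet Λ).card := by
      rw [Nat.card_eq_fintype_card, Fintype.card_subtype]
      apply Finset.card_le_card
      intro g hg
      rw [Finset.mem_filter] at hg
      exact hsub g hg.2
    have h3 := Subgroup.index_mul_card I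
    have h4 : Nat.card Λ * Nat.card I ≤ I.index * Nat.card I := by
      rw [h3, ← h1]
      exact Nat.mul_le_mul_left _ h2
    exact Nat.le_of_mul_le_mul_right h4 Nat.card_pos
  have hlin : Nat.card {χ : Cfsg.IrrCharacter G // Cfsg.charDegree (χ : G → ℂ) = 1}
      = Nat.card (G →* ℂˣ) := by
    rw [Nat.card_congr (Cfsg.Agent.Lib.Helper6.linearCharEquiv G)]
    apply Nat.card_congr
    apply Equiv.subtypeEquivRight
    intro χ
    rw [Cfsg.Agent.Lib.Helper6.IsCharacter.apply_one_eq_charDegree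
      (Cfsg.Agent.Lib.Helper6.IsIrrCharacter.isCharacter χ.2)]
    exact Nat.cast_eq_one.symm
  have hos : Nat.card (MulAction.orbit (G →* ℂˣ) χ₀) * Nat.card Λ = Nat.card (G →* ℂˣ) := by
    rw [← Nat.card_prod]
    exact Nat.card_congr (MulAction.orbitProdStabilizerEquivGroup (G →* ℂˣ) χ₀)
  haveI : Finite (Cfsg.IrrCharacter G) := inferInstance
  have horb : Nat.card (MulAction.orbit (G →* ℂˣ) χ₀)
      ≤ Nat.card {χ : Cfsg.IrrCharacter G // Cfsg.charDegree (χ : G → ℂ)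
        = Cfsg.charDegree (φ : ↥N → ℂ) * I.index} := by
    have hmem : ∀ x : MulAction.orbit (G →* ℂˣ) χ₀, Cfsg.charDegree ((x : Cfsg.IrrCharacter G) : G → ℂ)
        = Cfsg.charDegree (φ : ↥N → ℂ) * I.index := by
      rintro ⟨x, lam, hx⟩
      rw [← hdeg]
      show Cfsg.charDegree (x : G → ℂ) = _
      rw [← hx]
      exact Cfsg.Agent.Lib.Helper8.AFT.charDegree_linMul lam χ₀
    apply Nat.card_le_card_of_injective (fun x => ⟨x.1, hmem x⟩)
    intro x y hxy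
    apply Subtype.ext
    exact congrArg (fun z : {χ : Cfsg.IrrCharacter G // Cfsg.charDegree (χ : G → ℂ)
        = Cfsg.charDegree (φ : ↥N → ℂ) * I.index} => z.1) hxy
  rw [hlin, ← hos, mul_comm]
  exact Nat.mul_le_mul hΛ horb

end Cfsg.Agent.S4870
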