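import Cfsg.Statements.S4912
import Mathlib
import Cfsg.Agent.S4870
import Cfsg.Agent.Lib.Helper8.FS9
import Cfsg.Agent.Lib.Helper8.AFT4

set_option autoImplicit false
open Cfsg

namespace Cfsg.Agent.S4912

open Cfsg.Agent.Lib.Helper6 Cfsg.Agent.Lib.Helper8.GlauL Cfsg.Agent.Lib.Helper8.AFT
  Cfsg.Agent.Lib.Helper8.FS in
/-- twisting by a character of order two does not change the indicator -/
theorem fsInd_linMul {G : Type*} [Group G] [Fintype G] (lam : G →* ℂˣ) (hlam : lam ^ 2 = 1)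
    (χ : Cfsg.IrrCharacter G) : fsInd (linMul lam χ : G → ℂ) = fsInd (χ : G → ℂ) := by
  unfold fsInd
  congr 1
  apply Finset.sum_congr rfl
  intro g _
  rw [linMul_apply]
  have h1 : lam (g * g) = 1 := by
    rw [map_mul, ← pow_two]
    have := DFunLike.congr_fun hlam g
    simpa using this
  rw [h1, Units.val_one, one_mul]

open Cfsg.Agent.Lib.Helper6 Cfsg.Agent.Lib.Helper8.GlauL Cfsg.Agent.Lib.Helper8.AFT
  Cfsg.Agent.Lib.Helper8.FS in
/-- for linear characters, indicator one means real -/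
theorem fsInd_linear_iff {G : Type*} [Group G] [Fintype G] (χ : Cfsg.IrrCharacter G)
    (hd : Cfsg.charDegree (χ : G → ℂ) = 1) : fsInd (χ : G → ℂ) = 1 ↔ IsRe χ := by
  constructor
  · intro h g
    exact real_of_fsInd_ne_zero χ (by rw [h]; exact one_ne_zero) g
  · intro hre
    have h1 : (χ : G → ℂ) 1 = 1 := by
      rw [IsCharacter.apply_one_eq_charDegree (IsIrrCharacter.isCharacter χ.2), hd]
      simp
    set lam := (linearCharEquiv G).symm ⟨χ, h1⟩ with hlam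
    have hχ : ∀ g : G, (χ : G → ℂ) g = ((lam g : ℂˣ) : ℂ) := by
      intro g
      have h2 : (linearCharEquiv G lam).1 = χ := by
        rw [hlam, Equiv.apply_symm_apply]
      have h3 := congrArg (fun x : Cfsg.IrrCharacter G => (x : G → ℂ) g) h2
      exact h3.symm
    have hsq : lam ^ 2 = 1 := by
      rw [← real_hom_iff]
      intro g
      rw [← hχ g]
      exact hre g
    unfold fsInd
    have h4 : ∀ g : G, (χ : G → ℂ) (g * g) = 1 := by
      intro g
      rw [hχ, map_mul, ← pow_two]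
      have := DFunLike.congr_fun hsq g
      simp only [MonoidHom.pow_apply, MonoidHom.one_apply] at this
      rw [this, Units.val_one]
    rw [Finset.sum_congr rfl (fun g _ => h4 g), Finset.sum_const, Finset.card_univ, nsmul_eq_mul,
      mul_one, ← Nat.card_eq_fintype_card]
    exact inv_mul_cancel₀ card_ne_zero'

/-- Let G be a finite group with a non-abelian minimal normal subgroup N, and let φ be an irreducible complex character of N with stabilizer I in G such that φ extends to an irreducible character of I with Frobenius–Schur indicator +1. Put d = φ(1)·[G : I]. Then the number of linear characters of G with Frobenius–Schur indicator +1 is at most [G : I] times the number of irreducible characters of G of degree d with Frobenius–Schur indicator +1. -/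
theorem result {G : Type*} [Group G] [Finite G] (N : Subgroup G) (hN : N.Normal) (hN1 : N ≠ ⊥) (hmin : ∀ M : Subgroup G, M.Normal → M ≤ N → M = ⊥ ∨ M = N) (hna : ¬ IsMulCommutative ↥N) (φ : Cfsg.IrrCharacter ↥N) (I : Subgroup G) (hI : ∀ g : G, g ∈ I ↔ ∀ n n' : ↥N, (n' : G) = g * (n : G) * g⁻¹ → (φ : ↥N → ℂ) n' = (φ : ↥N → ℂ) n) (hNI : N ≤ I) (hext : ∃ ψ : Cfsg.IrrCharacter ↥I, (Nat.card ↥I : ℂ)⁻¹ * ∑ᶠ g : ↥I, (ψ : ↥I → ℂ) (g * g) = 1 ∧ ∀ n : ↥N, (ψ : ↥I → ℂ) (Subgroup.inclusion hNI n) = (φ : ↥N → ℂ) n) : Nat.card {χ : Cfsg.IrrCharacter G // Cfsg.charDegree (χ : G → ℂ) = 1 ∧ (Nat.card G : ℂ)⁻¹ * ∑ᶠ g : G, (χ : G → ℂ) (g * g) = 1} ≤ I.index * Nat.card {χ : Cfsg.IrrCharacter G // Cfsg.charDegree (χ : G → ℂ) = Cfsg.charDegree (φ : ↥N → ℂ) * I.index ∧ (Nat.card G : ℂ)⁻¹ * ∑ᶠ g : G, (χ : G → ℂ) (g * g) = 1} := by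
  classical
  haveI : Fintype G := Fintype.ofFinite G
  haveI : Fintype N := Fintype.ofFinite N
  haveI : Fintype I := Fintype.ofFinite I
  haveI := hN
  obtain ⟨ψ, hψν, hψ⟩ := hext
  have hNker := Cfsg.Agent.S4870.le_ker_of_minimal N hN hmin hna
  have hstab : ∀ g : G, Cfsg.Agent.Lib.Helper6.conjFun N hN (φ : ↥N → ℂ) g = (φ : ↥N → ℂ) → g ∈ I := by
    intro g hg
    rw [hI]
    intro n n' hn
    have h1 := congrFun hg n
    rw [Cfsg.Agent.Lib.Helper6.conjFun_apply] at h1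
    rw [← h1]
    exact congrArg _ (Subtype.ext hn)
  have hres : (fun n : N => (ψ : ↥I → ℂ) ⟨n, hNI n.2⟩) = (φ : ↥N → ℂ) := by
    funext n
    exact hψ n
  have hc : Cfsg.classInner (fun n : N => (ψ : ↥I → ℂ) ⟨n, hNI n.2⟩) (φ : ↥N → ℂ) ≠ 0 := by
    rw [hres, Cfsg.Agent.Lib.Helper6.classInner_irrCharacter φ φ, if_pos rfl]
    exact one_ne_zero
  have hirr := Cfsg.Agent.Lib.Helper6.indFun_isIrrCharacter_of_stab N hN I hNI φ hstab ψ hc
  set χ₀ : Cfsg.IrrCharacter G := ⟨Cfsg.indFun I (ψ : ↥I → ℂ), hirr⟩ with hχ₀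
  have hdeg : Cfsg.charDegree (χ₀ : G → ℂ) = Cfsg.charDegree (φ : ↥N → ℂ) * I.index := by
    have h1 := Cfsg.Agent.Lib.Helper6.indFun_one I (ψ : ↥I → ℂ)
    have h2 : (ψ : ↥I → ℂ) 1 = (φ : ↥N → ℂ) 1 := hψ 1
    rw [h2, Cfsg.Agent.Lib.Helper6.IsCharacter.apply_one_eq_charDegree
      (Cfsg.Agent.Lib.Helper6.IsIrrCharacter.isCharacter hirr),
      Cfsg.Agent.Lib.Helper6.IsCharacter.apply_one_eq_charDegree
      (Cfsg.Agent.Lib.Helper6.IsIrrCharacter.isCharacter φ.2), ← Nat.cast_mul] at h1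
    have h3 : Cfsg.charDegree (Cfsg.indFun I (ψ : ↥I → ℂ)) = I.index * Cfsg.charDegree (φ : ↥N → ℂ) := by
      exact_mod_cast h1
    show Cfsg.charDegree (Cfsg.indFun I (ψ : ↥I → ℂ)) = _
    rw [h3, mul_comm]
  -- the indicator of `χ₀`
  have hψν' : Cfsg.Agent.Lib.Helper8.FS.fsInd (ψ : ↥I → ℂ) = 1 := by
    unfold Cfsg.Agent.Lib.Helper8.FS.fsInd
    rw [← hψν, finsum_eq_sum_of_fintype]
  have hψreal := Cfsg.Agent.Lib.Helper8.FS.real_of_fsInd_ne_zero ψ (by rw [hψν']; exact one_ne_zero)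
  have hφreal : ∀ n : N, (starRingEnd ℂ) ((φ : ↥N → ℂ) n) = (φ : ↥N → ℂ) n := by
    intro n
    rw [← hψ n]
    exact hψreal _
  have hν₀ : Cfsg.Agent.Lib.Helper8.FS.fsInd (χ₀ : G → ℂ) = 1 := by
    rw [← hψν']
    exact Cfsg.Agent.Lib.Helper8.FS.fsInd_indFun_of_stab N hN I hNI φ ψ hψ hφreal hstab
  have hνconv : ∀ χ : Cfsg.IrrCharacter G,
      ((Nat.card G : ℂ)⁻¹ * ∑ᶠ g : G, (χ : G → ℂ) (g * g) = 1)
        ↔ Cfsg.Agent.Lib.Helper8.FS.fsInd (χ : G → ℂ) = 1 := by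
    intro χ
    unfold Cfsg.Agent.Lib.Helper8.FS.fsInd
    rw [finsum_eq_sum_of_fintype]
  letI := Cfsg.Agent.Lib.Helper8.AFT.linAct (G := G)
  set Λ : Subgroup (G →* ℂˣ) := MulAction.stabilizer (G →* ℂˣ) χ₀ with hΛdef
  have hΛ : Nat.card Λ ≤ I.index := by
    have hsub : ∀ g ∈ I, g ∈ Cfsg.Agent.Lib.Helper8.AFT.kerSet Λ := by
      intro g hg
      rw [Cfsg.Agent.Lib.Helper8.AFT.mem_kerSet]
      intro lam hlam
      rw [hΛdef, MulAction.mem_stabilizer_iff] at hlam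
      apply Cfsg.Agent.S4870.trivial_on_inertia N hN φ I hI hNI ψ hψ lam (hNker lam) _ g hg
      intro x
      exact congrFun (congrArg Subtype.val hlam) x
    have h1 := Cfsg.Agent.Lib.Helper8.AFT.card_mul_card_kerSet Λ
    have h2 : Nat.card I ≤ (Cfsg.Agent.Lib.Helper8.AFT.kerSet Λ).card := by
      rw [Nat.card_eq_fintype_card, Fintype.card_subtype]
      apply Finset.card_le_card
      intro g hg
      rw [Finset.mem_filter] at hg
      exact hsub g hg.2
    have h3 := Subgroup.index_mul_card I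
    have h4 : Nat.card Λ * Nat.card I ≤ I.index * Nat.card I := by
      rw [h3, ← h1]
      exact Nat.mul_le_mul_left _ h2
    exact Nat.le_of_mul_le_mul_right h4 Nat.card_pos
  set L₂ : Subgroup (G →* ℂˣ) := Cfsg.Agent.Lib.Helper8.AFT.torsionChars G 2 with hL₂
  have hlin : Nat.card {χ : Cfsg.IrrCharacter G // Cfsg.charDegree (χ : G → ℂ) = 1 ∧
      (Nat.card G : ℂ)⁻¹ * ∑ᶠ g : G, (χ : G → ℂ) (g * g) = 1} = Nat.card L₂ := by
    rw [hL₂, ← Cfsg.Agent.Lib.Helper8.AFT.card_linear_real]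
    apply Nat.card_congr
    apply Equiv.subtypeEquivRight
    intro χ
    constructor
    · rintro ⟨h1, h2⟩
      exact ⟨h1, (fsInd_linear_iff χ h1).1 ((hνconv χ).1 h2)⟩
    · rintro ⟨h1, h2⟩
      exact ⟨h1, (hνconv χ).2 ((fsInd_linear_iff χ h1).2 h2)⟩
  have hos : Nat.card (MulAction.orbit L₂ χ₀) * Nat.card (MulAction.stabilizer L₂ χ₀)
      = Nat.card L₂ := by
    rw [← Nat.card_prod]
    exact Nat.card_congr (MulAction.orbitProdStabilizerEquivGroup L₂ χ₀)
  have hstabcard : Nat.card (MulAction.stabilizer L₂ χ₀) ≤ I.index := by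
    refine le_trans ?_ hΛ
    have hmem : ∀ lam : MulAction.stabilizer L₂ χ₀, ((lam : L₂) : G →* ℂˣ) ∈ Λ := by
      intro lam
      rw [hΛdef, MulAction.mem_stabilizer_iff]
      have := lam.2
      rw [MulAction.mem_stabilizer_iff] at this
      exact this
    apply Nat.card_le_card_of_injective
      (fun lam : MulAction.stabilizer L₂ χ₀ => (⟨((lam : L₂) : G →* ℂˣ), hmem lam⟩ : Λ))
    intro a b hab
    apply Subtype.ext
    apply Subtype.ext
    exact congrArg (fun z : Λ => (z : G →* ℂˣ)) hab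
  haveI : Finite (Cfsg.IrrCharacter G) := inferInstance
  have horb : Nat.card (MulAction.orbit L₂ χ₀)
      ≤ Nat.card {χ : Cfsg.IrrCharacter G // Cfsg.charDegree (χ : G → ℂ)
        = Cfsg.charDegree (φ : ↥N → ℂ) * I.index ∧
        (Nat.card G : ℂ)⁻¹ * ∑ᶠ g : G, (χ : G → ℂ) (g * g) = 1} := by
    have hmem : ∀ x : MulAction.orbit L₂ χ₀,
        Cfsg.charDegree ((x : Cfsg.IrrCharacter G) : G → ℂ)
          = Cfsg.charDegree (φ : ↥N → ℂ) * I.index ∧
        (Nat.card G : ℂ)⁻¹ * ∑ᶠ g : G, ((x : Cfsg.IrrCharacter G) : G → ℂ) (g * g) = 1 := by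
      rintro ⟨x, lam, hx⟩
      have hx' : Cfsg.Agent.Lib.Helper8.GlauL.linMul (lam : G →* ℂˣ) χ₀ = x := hx
      constructor
      · rw [← hdeg]
        show Cfsg.charDegree (x : G → ℂ) = _
        rw [← hx']
        exact Cfsg.Agent.Lib.Helper8.AFT.charDegree_linMul lam χ₀
      · rw [hνconv]
        show Cfsg.Agent.Lib.Helper8.FS.fsInd (x : G → ℂ) = 1
        rw [← hx', fsInd_linMul (lam : G →* ℂˣ) lam.2 χ₀, hν₀]
    apply Nat.card_le_card_of_injective (fun x => ⟨x.1, hmem x⟩)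
    intro x y hxy
    apply Subtype.ext
    exact congrArg (fun z : {χ : Cfsg.IrrCharacter G // Cfsg.charDegree (χ : G → ℂ)
        = Cfsg.charDegree (φ : ↥N → ℂ) * I.index ∧
        (Nat.card G : ℂ)⁻¹ * ∑ᶠ g : G, (χ : G → ℂ) (g * g) = 1} => z.1) hxy
  rw [hlin, ← hos, mul_comm]
  exact Nat.mul_le_mul hstabcard horb

end Cfsg.Agent.S4912
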