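import Cfsg.Statements.S4871
import Mathlib
import Cfsg.Agent.S4870
import Cfsg.Agent.S4912
import Cfsg.Agent.Lib.Helper8.SRAvg3
import Cfsg.Agent.Lib.Helper8.SelfCent5
import Cfsg.Agent.Lib.Helper8.AFT4

set_option autoImplicit false
open Cfsg

namespace Cfsg.Agent.S4871

theorem count_ineq {X : Type*} [Fintype X] (deg : X → ℕ) (a k s : ℕ)
    (h1 : (Finset.univ.filter (fun x => deg x = 1)).card = a)
    (h2 : ∀ x, deg x ≠ 1 → 2 ≤ deg x)
    (O : Finset X) (hO : ∀ x ∈ O, deg x = s) (hOk : O.card = k) (hs : 2 ≤ s) (hks : a ≤ k * s) :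
    4 * Fintype.card X ≤ 3 * ∑ x, deg x := by
  classical
  set U := Finset.univ.filter (fun x => ¬ deg x = 1) with hU
  have hcard : Fintype.card X = a + U.card := by
    rw [← h1, ← Finset.card_univ]
    exact (Finset.card_filter_add_card_filter_not (fun x => deg x = 1)).symm
  have hsum : ∑ x, deg x = a + ∑ x ∈ U, deg x := by
    rw [← Finset.sum_filter_add_sum_filter_not Finset.univ (fun x => deg x = 1)]
    congr 1
    rw [← h1, Finset.card_eq_sum_ones]
    apply Finset.sum_congr rfl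
    intro x hx
    exact (Finset.mem_filter.1 hx).2
  have hOU : O ⊆ U := fun x hx => Finset.mem_filter.2 ⟨Finset.mem_univ _, by rw [hO x hx]; omega⟩
  have hsO : ∑ x ∈ O, deg x = k * s := by
    rw [Finset.sum_congr rfl hO, Finset.sum_const, smul_eq_mul, hOk]
  have hsR : 2 * (U \ O).card ≤ ∑ x ∈ U \ O, deg x := by
    have := Finset.card_nsmul_le_sum (U \ O) deg 2 (fun x hx => by
      have hx' := (Finset.mem_sdiff.1 hx).1
      exact h2 x (Finset.mem_filter.1 hx').2)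
    rw [smul_eq_mul, mul_comm] at this
    exact this
  have hcR : (U \ O).card + k = U.card := by
    rw [← hOk]
    exact Finset.card_sdiff_add_card_eq_card hOU
  have hsU : ∑ x ∈ U, deg x = ∑ x ∈ U \ O, deg x + k * s := by
    rw [← hsO]
    exact (Finset.sum_sdiff hOU).symm
  have h2k : 2 * k ≤ k * s := by
    rw [mul_comm]
    exact Nat.mul_le_mul_left k hs
  rw [hcard, hsum, hsU]
  omega

/-- Let G be a finite group that is the semidirect product of a normal elementary abelian subgroup N of odd order by a non-trivial 2-subgroup P, with N the unique minimal normal subgroup of G. Consider the strongly real irreducible complex characters of G (Frobenius–Schur indicator +1) whose degree is 1 or even. Then their average degree is at least 4/3: four times their number is at most three times the sum of their degrees. -/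
theorem result {G : Type*} [Group G] [Finite G] (N P : Subgroup G) (hN : N.Normal) (q : ℕ) [Fact q.Prime] (hq : q ≠ 2) (hNel : Cfsg.IsElementaryAbelian q N) (hP : IsPGroup 2 ↥P) (hP1 : P ≠ ⊥) (hdisj : N ⊓ P = ⊥) (hprod : N ⊔ P = ⊤) (hmin : N ≠ ⊥ ∧ ∀ M : Subgroup G, M.Normal → M ≠ ⊥ → N ≤ M) : 4 * Nat.card {χ : Cfsg.IrrCharacter G // (Cfsg.charDegree (χ : G → ℂ) = 1 ∨ 2 ∣ Cfsg.charDegree (χ : G → ℂ)) ∧ (Nat.card G : ℂ)⁻¹ * ∑ᶠ g : G, (χ : G → ℂ) (g * g) = 1} ≤ 3 * (∑ᶠ χ : {χ : Cfsg.IrrCharacter G // (Cfsg.charDegree (χ : G → ℂ) = 1 ∨ 2 ∣ Cfsg.charDegree (χ : G → ℂ)) ∧ (Nat.card G : ℂ)⁻¹ * ∑ᶠ g : G, (χ : G → ℂ) (g * g) = 1}, Cfsg.charDegree (χ.1 : G → ℂ)) := by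
  classical
  haveI : Fintype G := Fintype.ofFinite G
  haveI := hN
  haveI : Fintype N := Fintype.ofFinite N
  have hq' : q.Prime := Fact.out
  obtain ⟨hNcomm, hNexp⟩ := hNel
  have hNc : ∀ a ∈ N, ∀ b ∈ N, a * b = b * a := fun a ha b hb =>
    congrArg Subtype.val (hNcomm.is_comm.comm ⟨a, ha⟩ ⟨b, hb⟩)
  obtain ⟨z, hzP, hz2, hzinv⟩ := Cfsg.Agent.Lib.Helper8.SRAvg.exists_inverting_involution N P hN hNc
    hP hP1 hdisj hprod hmin
  -- a nontrivial linear character of `N`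
  obtain ⟨μ, hμ1⟩ : ∃ μ : ↥N →* ℂˣ, μ ≠ 1 := by
    letI : CommGroup ↥N := { (inferInstance : Group ↥N) with
      mul_comm := fun a b => hNcomm.is_comm.comm a b }
    obtain ⟨a, ha⟩ : ∃ a : ↥N, a ≠ 1 := by
      by_contra hcon
      push Not at hcon
      apply hmin.1
      rw [Subgroup.eq_bot_iff_forall]
      intro x hx
      exact congrArg Subtype.val (hcon ⟨x, hx⟩)
    have : NeZero (Monoid.exponent ↥N : ℂ) := by
      refine ⟨?_⟩
      exact_mod_cast Monoid.exponent_ne_zero_of_finite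
    obtain ⟨φ, hφ⟩ := CommGroup.exists_apply_ne_one_of_hasEnoughRootsOfUnity ↥N ℂ ha
    refine ⟨φ, ?_⟩
    intro h
    apply hφ
    rw [h]
    rfl
  have hμq : ∀ n : N, μ n ^ q = 1 := by
    intro n
    rw [← map_pow]
    have : n ^ q = 1 := by
      apply Subtype.ext
      rw [Subgroup.coe_pow]
      exact hNexp n n.2
    rw [this, map_one]
  have hqodd : Nat.Coprime q 2 := by
    rw [Nat.coprime_primes hq' Nat.prime_two]
    exact hq
  -- index of `N`
  obtain ⟨k, hk⟩ := IsPGroup.iff_card.mp hP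
  have hidx : N.index = 2 ^ k := by
    have h1 := Cfsg.Agent.Lib.Helper8.SelfCent.card_sup_of_inf_eq_bot P N hdisj
    rw [sup_comm, hprod, Subgroup.card_top, hk] at h1
    have h2 := Subgroup.card_mul_index N
    rw [h1] at h2
    have h3 : Nat.card ↥N * N.index = Nat.card ↥N * 2 ^ k := by rw [h2, mul_comm]
    exact Nat.eq_of_mul_eq_mul_left Nat.card_pos h3
  set I := Cfsg.Agent.Lib.Helper6.inertia N hN (Cfsg.Agent.Lib.Helper8.SRAvg.chr μ) with hIdef
  haveI : Fintype I := Fintype.ofFinite I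
  have hNI : N ≤ I := Cfsg.Agent.Lib.Helper8.SRAvg.le_inertia_chr N hN μ
  obtain ⟨ψ, hψ, hψq⟩ := Cfsg.Agent.Lib.Helper8.SRAvg.exists_odd_extension N hN μ q k hq' hq hNexp hidx
  have hψz := Cfsg.Agent.Lib.Helper8.SRAvg.mul_conj_eq_one N hN μ q k hq' hq hidx hz2 hzinv ψ hψ hψq
  have hν₀ := Cfsg.Agent.Lib.Helper8.SRAvg.fsInd_indFun_eq_one N hN μ hz2 hzinv ψ hψ hψz
  -- `z ∉ I`
  have hzI : z ∉ I := by
    intro hz
    rw [hIdef, Cfsg.Agent.Lib.Helper8.SRAvg.mem_inertia_iff] at hz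
    apply hμ1
    ext n
    have h1 := hz n
    have h2 : (⟨z * n * z⁻¹, hN.conj_mem n n.2 z⟩ : N) = n⁻¹ := by
      apply Subtype.ext
      rw [Subgroup.coe_inv]
      exact hzinv n n.2
    rw [h2, map_inv] at h1
    have h3 : μ n ^ 2 = 1 := by
      rw [pow_two]
      nth_rewrite 1 [← h1]
      exact inv_mul_cancel _
    have h4 := pow_gcd_eq_one.2 ⟨hμq n, h3⟩
    rw [hqodd, pow_one] at h4
    rw [h4]
    rfl
  -- the characters
  set φ : Cfsg.IrrCharacter ↥N := ⟨Cfsg.Agent.Lib.Helper8.SRAvg.chr μ,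
    Cfsg.Agent.Lib.Helper6.isIrrCharacter_of_hom μ⟩ with hφ
  set ψc : Cfsg.IrrCharacter ↥I := ⟨Cfsg.Agent.Lib.Helper8.SRAvg.chr ψ,
    Cfsg.Agent.Lib.Helper6.isIrrCharacter_of_hom ψ⟩ with hψc
  have hψφ : ∀ n : ↥N, (ψc : ↥I → ℂ) (Subgroup.inclusion hNI n) = (φ : ↥N → ℂ) n := by
    intro n
    show ((ψ _ : ℂˣ) : ℂ) = ((μ n : ℂˣ) : ℂ)
    rw [← hψ n]
    rfl
  have hstab : ∀ g : G, Cfsg.Agent.Lib.Helper6.conjFun N hN (φ : ↥N → ℂ) g = (φ : ↥N → ℂ) → g ∈ I :=
    fun g hg => hg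
  have hIiff : ∀ g : G, g ∈ I ↔ ∀ n n' : ↥N, (n' : G) = g * (n : G) * g⁻¹ →
      (φ : ↥N → ℂ) n' = (φ : ↥N → ℂ) n := by
    intro g
    constructor
    · intro hg n n' hn
      have h1 := congrFun ((Cfsg.Agent.Lib.Helper6.mem_inertia N hN _ g).1 hg) n
      rw [Cfsg.Agent.Lib.Helper6.conjFun_apply] at h1
      show Cfsg.Agent.Lib.Helper8.SRAvg.chr μ n' = Cfsg.Agent.Lib.Helper8.SRAvg.chr μ n
      rw [← h1]
      exact congrArg _ (Subtype.ext hn)
    · intro h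
      rw [hIdef, Cfsg.Agent.Lib.Helper6.mem_inertia]
      funext n
      rw [Cfsg.Agent.Lib.Helper6.conjFun_apply]
      exact h n _ rfl
  have hres : (fun n : N => (ψc : ↥I → ℂ) ⟨n, hNI n.2⟩) = (φ : ↥N → ℂ) := by
    funext n
    exact hψφ n
  have hc : Cfsg.classInner (fun n : N => (ψc : ↥I → ℂ) ⟨n, hNI n.2⟩) (φ : ↥N → ℂ) ≠ 0 := by
    rw [hres, Cfsg.Agent.Lib.Helper6.classInner_irrCharacter φ φ, if_pos rfl]
    exact one_ne_zero
  have hirr := Cfsg.Agent.Lib.Helper6.indFun_isIrrCharacter_of_stab N hN I hNI φ hstab ψc hc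
  set χ₀ : Cfsg.IrrCharacter G := ⟨Cfsg.indFun I (ψc : ↥I → ℂ), hirr⟩ with hχ₀
  have hdeg : Cfsg.charDegree (χ₀ : G → ℂ) = I.index := by
    have h1 := Cfsg.Agent.Lib.Helper6.indFun_one I (ψc : ↥I → ℂ)
    have h2 : (ψc : ↥I → ℂ) 1 = 1 := by
      show ((ψ 1 : ℂˣ) : ℂ) = 1
      rw [map_one, Units.val_one]
    rw [h2, mul_one, Cfsg.Agent.Lib.Helper6.IsCharacter.apply_one_eq_charDegree
      (Cfsg.Agent.Lib.Helper6.IsIrrCharacter.isCharacter hirr)] at h1
    show Cfsg.charDegree (Cfsg.indFun I (ψc : ↥I → ℂ)) = _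
    exact_mod_cast h1
  -- the index of `I`
  have hIidx : 2 ≤ I.index ∧ 2 ∣ I.index := by
    have h1 : I.index ∣ 2 ^ k := by
      rw [← hidx]
      exact Subgroup.index_dvd_of_le hNI
    obtain ⟨j, -, hj⟩ := (Nat.dvd_prime_pow Nat.prime_two).1 h1
    have hj0 : j ≠ 0 := by
      intro h0
      rw [h0, pow_zero, Subgroup.index_eq_one] at hj
      apply hzI
      rw [hj]
      exact Subgroup.mem_top z
    rw [hj]
    constructor
    · calc 2 = 2 ^ 1 := (pow_one 2).symm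
        _ ≤ 2 ^ j := Nat.pow_le_pow_right (by norm_num) (Nat.one_le_iff_ne_zero.2 hj0)
    · exact dvd_pow_self 2 hj0
  have hνconv : ∀ χ : Cfsg.IrrCharacter G,
      ((Nat.card G : ℂ)⁻¹ * ∑ᶠ g : G, (χ : G → ℂ) (g * g) = 1)
        ↔ Cfsg.Agent.Lib.Helper8.FS.fsInd (χ : G → ℂ) = 1 := by
    intro χ
    unfold Cfsg.Agent.Lib.Helper8.FS.fsInd
    rw [finsum_eq_sum_of_fintype]
  letI := Cfsg.Agent.Lib.Helper8.AFT.linAct (G := G)
  set L₂ : Subgroup (G →* ℂˣ) := Cfsg.Agent.Lib.Helper8.AFT.torsionChars G 2 with hL₂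
  -- the stabilizer of `χ₀` in `L₂`
  set Λ : Subgroup (G →* ℂˣ) := MulAction.stabilizer (G →* ℂˣ) χ₀ ⊓ L₂ with hΛdef
  have hΛ : Nat.card Λ ≤ I.index := by
    have hsub : ∀ g ∈ I, g ∈ Cfsg.Agent.Lib.Helper8.AFT.kerSet Λ := by
      intro g hg
      rw [Cfsg.Agent.Lib.Helper8.AFT.mem_kerSet]
      intro lam hlam
      obtain ⟨hlam1, hlam2⟩ := hlam
      have hlam1' : lam ∈ MulAction.stabilizer (G →* ℂˣ) χ₀ := hlam1
      rw [MulAction.mem_stabilizer_iff] at hlam1'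
      have hlam2' : lam ^ 2 = 1 := hlam2
      have hlamN : N ≤ lam.ker := by
        intro n hn
        rw [MonoidHom.mem_ker]
        have h3 : lam n ^ 2 = 1 := by
          have := DFunLike.congr_fun hlam2' n
          simpa using this
        have h5 : lam n ^ q = 1 := by
          rw [← map_pow, hNexp n hn, map_one]
        have h4 := pow_gcd_eq_one.2 ⟨h5, h3⟩
        rw [hqodd, pow_one] at h4
        exact h4
      apply Cfsg.Agent.S4870.trivial_on_inertia N hN φ I hIiff hNI ψc hψφ lam hlamN _ g hg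
      intro x
      exact congrFun (congrArg Subtype.val hlam1') x
    have h1 := Cfsg.Agent.Lib.Helper8.AFT.card_mul_card_kerSet Λ
    have h2 : Nat.card I ≤ (Cfsg.Agent.Lib.Helper8.AFT.kerSet Λ).card := by
      rw [Nat.card_eq_fintype_card, Fintype.card_subtype]
      apply Finset.card_le_card
      intro g hg
      rw [Finset.mem_filter] at hg
      exact hsub g hg.2
    have h3 := Subgroup.index_mul_card I
    have h4 : Nat.card Λ * Nat.card I ≤ I.index * Nat.card I := by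
      rw [h3, ← h1]
      exact Nat.mul_le_mul_left _ h2
    exact Nat.le_of_mul_le_mul_right h4 Nat.card_pos
  have hos : Nat.card (MulAction.orbit L₂ χ₀) * Nat.card (MulAction.stabilizer L₂ χ₀)
      = Nat.card L₂ := by
    rw [← Nat.card_prod]
    exact Nat.card_congr (MulAction.orbitProdStabilizerEquivGroup L₂ χ₀)
  have hstabcard : Nat.card (MulAction.stabilizer L₂ χ₀) ≤ I.index := by
    refine le_trans ?_ hΛ
    have hmem : ∀ lam : MulAction.stabilizer L₂ χ₀, ((lam : L₂) : G →* ℂˣ) ∈ Λ := by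
      intro lam
      refine ⟨?_, (lam : L₂).2⟩
      show ((lam : L₂) : G →* ℂˣ) ∈ MulAction.stabilizer (G →* ℂˣ) χ₀
      rw [MulAction.mem_stabilizer_iff]
      have := lam.2
      rw [MulAction.mem_stabilizer_iff] at this
      exact this
    apply Nat.card_le_card_of_injective
      (fun lam : MulAction.stabilizer L₂ χ₀ => (⟨((lam : L₂) : G →* ℂˣ), hmem lam⟩ : Λ))
    intro a b hab
    apply Subtype.ext
    apply Subtype.ext
    exact congrArg (fun z : Λ => (z : G →* ℂˣ)) hab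
  -- the count
  haveI : Finite (Cfsg.IrrCharacter G) := inferInstance
  haveI : Fintype {χ : Cfsg.IrrCharacter G // (Cfsg.charDegree (χ : G → ℂ) = 1 ∨
      2 ∣ Cfsg.charDegree (χ : G → ℂ)) ∧
      (Nat.card G : ℂ)⁻¹ * ∑ᶠ g : G, (χ : G → ℂ) (g * g) = 1} := Fintype.ofFinite _
  rw [finsum_eq_sum_of_fintype, Nat.card_eq_fintype_card]
  haveI : Fintype (MulAction.orbit L₂ χ₀) := Fintype.ofFinite _
  have horbmem : ∀ x : MulAction.orbit L₂ χ₀,
      (Cfsg.charDegree ((x : Cfsg.IrrCharacter G) : G → ℂ) = 1 ∨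
        2 ∣ Cfsg.charDegree ((x : Cfsg.IrrCharacter G) : G → ℂ)) ∧
      (Nat.card G : ℂ)⁻¹ * ∑ᶠ g : G, ((x : Cfsg.IrrCharacter G) : G → ℂ) (g * g) = 1 := by
    rintro ⟨x, lam, hx⟩
    have hx' : Cfsg.Agent.Lib.Helper8.GlauL.linMul (lam : G →* ℂˣ) χ₀ = x := hx
    have hd : Cfsg.charDegree (x : G → ℂ) = I.index := by
      rw [← hdeg, ← hx']
      exact Cfsg.Agent.Lib.Helper8.AFT.charDegree_linMul lam χ₀
    constructor
    · right
      show 2 ∣ Cfsg.charDegree (x : G → ℂ)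
      rw [hd]
      exact hIidx.2
    · rw [hνconv]
      show Cfsg.Agent.Lib.Helper8.FS.fsInd (x : G → ℂ) = 1
      rw [← hx', Cfsg.Agent.S4912.fsInd_linMul (lam : G →* ℂˣ) lam.2 χ₀]
      exact hν₀
  have horbdeg : ∀ x : MulAction.orbit L₂ χ₀,
      Cfsg.charDegree ((x : Cfsg.IrrCharacter G) : G → ℂ) = I.index := by
    rintro ⟨x, lam, hx⟩
    have hx' : Cfsg.Agent.Lib.Helper8.GlauL.linMul (lam : G →* ℂˣ) χ₀ = x := hx
    show Cfsg.charDegree (x : G → ℂ) = I.index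
    rw [← hdeg, ← hx']
    exact Cfsg.Agent.Lib.Helper8.AFT.charDegree_linMul lam χ₀
  set ι : MulAction.orbit L₂ χ₀ → {χ : Cfsg.IrrCharacter G // (Cfsg.charDegree (χ : G → ℂ) = 1 ∨
      2 ∣ Cfsg.charDegree (χ : G → ℂ)) ∧
      (Nat.card G : ℂ)⁻¹ * ∑ᶠ g : G, (χ : G → ℂ) (g * g) = 1} := fun x => ⟨x.1, horbmem x⟩ with hι
  have hιinj : Function.Injective ι := by
    intro x y hxy
    apply Subtype.ext
    exact congrArg (fun w : {χ : Cfsg.IrrCharacter G // (Cfsg.charDegree (χ : G → ℂ) = 1 ∨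
      2 ∣ Cfsg.charDegree (χ : G → ℂ)) ∧
      (Nat.card G : ℂ)⁻¹ * ∑ᶠ g : G, (χ : G → ℂ) (g * g) = 1} => w.1) hxy
  apply count_ineq (fun χ => Cfsg.charDegree (χ.1 : G → ℂ)) (Nat.card L₂)
    (Nat.card (MulAction.orbit L₂ χ₀)) I.index ?_ ?_ (Finset.univ.image ι) ?_ ?_ hIidx.1 ?_
  · -- the linear ones
    rw [← Fintype.card_subtype, ← Nat.card_eq_fintype_card, hL₂,
      ← Cfsg.Agent.Lib.Helper8.AFT.card_linear_real]
    apply Nat.card_congr
    refine ⟨fun χ => ⟨χ.1.1, χ.2, (Cfsg.Agent.S4912.fsInd_linear_iff χ.1.1 χ.2).1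
        ((hνconv χ.1.1).1 χ.1.2.2)⟩,
      fun χ => ⟨⟨χ.1, Or.inl χ.2.1,
        (hνconv χ.1).2 ((Cfsg.Agent.S4912.fsInd_linear_iff χ.1 χ.2.1).2 χ.2.2)⟩, χ.2.1⟩,
      fun χ => rfl, fun χ => rfl⟩
  · intro χ hχ
    rcases χ.2.1 with h | h
    · exact absurd h hχ
    · have hpos := Cfsg.Agent.Lib.Helper6.IsIrrCharacter.charDegree_pos χ.1.2
      exact Nat.le_of_dvd hpos h
  · intro χ hχ
    rw [Finset.mem_image] at hχ
    obtain ⟨x, -, rfl⟩ := hχ
    exact horbdeg x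
  · rw [Finset.card_image_of_injective _ hιinj, Finset.card_univ, Nat.card_eq_fintype_card]
  · rw [← hos]
    exact Nat.mul_le_mul_left _ hstabcard

end Cfsg.Agent.S4871
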