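import Cfsg.Statements.S4873
import Mathlib
import Cfsg.Agent.Lib.Helper8.RealOrb4

set_option autoImplicit false
open Cfsg

namespace Cfsg.Agent.S4873

/-- Let N be a normal subgroup of odd index in the finite group G. Then every irreducible complex character of N with Frobenius–Schur indicator +1 lies under exactly one irreducible character of G with Frobenius–Schur indicator +1. -/
theorem result {G : Type*} [Group G] [Finite G] (N : Subgroup G) [N.Normal] (hodd : Odd N.index) (φ : Cfsg.IrrCharacter ↥N) (hφ : (Nat.card ↥N : ℂ)⁻¹ * ∑ᶠ g : ↥N, (φ : ↥N → ℂ) (g * g) = 1) : ∃! χ : Cfsg.IrrCharacter G, (Nat.card G : ℂ)⁻¹ * ∑ᶠ g : G, (χ : G → ℂ) (g * g) = 1 ∧ (∑ᶠ n : ↥N, (χ : G → ℂ) n * (starRingEnd ℂ) ((φ : ↥N → ℂ) n)) ≠ 0 := by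
  classical
  haveI : Fintype G := Fintype.ofFinite G
  haveI : Fintype N := Fintype.ofFinite N
  have hN0 : (Nat.card N : ℂ) ≠ 0 := Cfsg.Agent.Lib.Helper6.card_ne_zero_complex N
  rw [finsum_eq_sum_of_fintype] at hφ
  have hφ' : Cfsg.Agent.Lib.Helper8.FS.fsInd (φ : N → ℂ) = 1 := hφ
  have hφre : Cfsg.Agent.Lib.Helper8.GlauP.RealFun (φ : N → ℂ) := by
    rw [Cfsg.Agent.Lib.Helper8.RealOrb.realFun_iff']
    exact Cfsg.Agent.Lib.Helper8.FS.real_of_fsInd_ne_zero φ (by rw [hφ']; exact one_ne_zero)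
  have hover : ∀ χ : Cfsg.IrrCharacter G,
      (∑ᶠ n : N, (χ : G → ℂ) n * (starRingEnd ℂ) ((φ : N → ℂ) n)) ≠ 0 ↔
      Cfsg.classInner (fun k : N => (χ : G → ℂ) k) (φ : N → ℂ) ≠ 0 := by
    intro χ
    rw [finsum_eq_sum_of_fintype]
    unfold Cfsg.classInner
    constructor
    · intro h
      exact mul_ne_zero (inv_ne_zero hN0) h
    · intro h
      exact right_ne_zero_of_mul h
  have hfs : ∀ χ : Cfsg.IrrCharacter G,
      (Nat.card G : ℂ)⁻¹ * ∑ᶠ g : G, (χ : G → ℂ) (g * g) = Cfsg.Agent.Lib.Helper8.FS.fsInd (χ : G → ℂ) := by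
    intro χ
    rw [finsum_eq_sum_of_fintype]
    rfl
  obtain ⟨χ, hχ1, hχ2⟩ := Cfsg.Agent.Lib.Helper8.RealOrb.exists_over_of_fsInd_eq_one N hodd φ hφ'
  refine ⟨χ, ⟨?_, ?_⟩, ?_⟩
  · rw [hfs]; exact hχ1
  · rw [hover]; exact hχ2
  · rintro ψ ⟨hψ1, hψ2⟩
    rw [hfs] at hψ1
    rw [hover] at hψ2
    have hr : ∀ θ : Cfsg.IrrCharacter G, Cfsg.Agent.Lib.Helper8.FS.fsInd (θ : G → ℂ) = 1 →
        Cfsg.Agent.Lib.Helper8.GlauP.RealFun (θ : G → ℂ) := by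
      intro θ hθ
      rw [Cfsg.Agent.Lib.Helper8.RealOrb.realFun_iff]
      exact Cfsg.Agent.Lib.Helper8.FS.real_of_fsInd_ne_zero θ (by rw [hθ]; exact one_ne_zero)
    exact Cfsg.Agent.Lib.Helper8.RealOrb.real_over_unique N hodd ⟨φ, hφre⟩ ψ χ (hr ψ hψ1) (hr χ hχ1)
      hψ2 hχ2

end Cfsg.Agent.S4873
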