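import Cfsg.Statements.S4911
import Mathlib
import Cfsg.Agent.Lib.Helper8.GlauE2
import Cfsg.Agent.Lib.Helper8.GlauP10

set_option autoImplicit false
open Cfsg

namespace Cfsg.Agent.S4911

/-- Let P and K be subgroups of a finite group with P a p-group normalizing K and K of order prime to p. Then the number of P-invariant real-valued irreducible complex characters of K equals the number of conjugacy classes of K that are real (closed under inversion) and P-invariant. Moreover, if every real-valued irreducible character of K is P-invariant, then every real element of K (one conjugate in K to its inverse) is conjugate in K to an element centralized by P. -/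
theorem result {G : Type*} [Group G] [Finite G] (p : ℕ) [Fact p.Prime] (P K : Subgroup G) (hP : IsPGroup p ↥P) (hK : ¬ p ∣ Nat.card ↥K) (hPK : P ≤ Subgroup.normalizer (K : Set G)) : Nat.card {θ : Cfsg.IrrCharacter ↥K // (∀ k : ↥K, ((θ : ↥K → ℂ) k).im = 0) ∧ (∀ x ∈ P, ∀ k k' : ↥K, (k' : G) = x * (k : G) * x⁻¹ → (θ : ↥K → ℂ) k' = (θ : ↥K → ℂ) k)} = Nat.card {c : ConjClasses ↥K // (∀ k : ↥K, ConjClasses.mk k = c → IsConj k k⁻¹) ∧ ∀ k : ↥K, ConjClasses.mk k = c → ∀ x ∈ P, ∀ k' : ↥K, (k' : G) = x * (k : G) * x⁻¹ → ConjClasses.mk k' = c} ∧ ((∀ θ : Cfsg.IrrCharacter ↥K, (∀ k : ↥K, ((θ : ↥K → ℂ) k).im = 0) → (∀ x ∈ P, ∀ k k' : ↥K, (k' : G) = x * (k : G) * x⁻¹ → (θ : ↥K → ℂ) k' = (θ : ↥K → ℂ) k)) → ∀ k : ↥K, IsConj k k⁻¹ → ∃ k' : ↥K, IsConj k k' ∧ ∀ x ∈ P, x * (k' : G) * x⁻¹ = (k' : G)) := by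
  classical
  haveI : Fintype G := Fintype.ofFinite G
  obtain ⟨M, hM⟩ := Cfsg.Agent.Lib.Helper6.exists_isPModular p
  have hnorm : ∀ s ∈ P, ∀ g ∈ K, s * g * s⁻¹ ∈ K := by
    intro s hs g hg
    have h1 := hPK hs
    rw [Subgroup.mem_normalizer_iff] at h1
    exact (h1 g).mp hg
  set C : Subgroup G := K ⊓ Subgroup.centralizer (P : Set G) with hC
  have hCK : C ≤ K := inf_le_left
  set A := Cfsg.Agent.Lib.Helper8.GlauP.PAct.ofSubgroups K P C hnorm hC hCK hP hK with hA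
  have hinv := Cfsg.Agent.Lib.Helper8.GlauP.PAct.ofSubgroups_inv_iff K P C hnorm hC hCK hP hK
  have hcls : ∀ c : ConjClasses ↥K, A.InvCls c ↔
      ∀ k : ↥K, ConjClasses.mk k = c → ∀ x ∈ P, ∀ k' : ↥K, (k' : G) = x * (k : G) * x⁻¹ →
        ConjClasses.mk k' = c := by
    intro c
    constructor
    · intro h k hk x hx k' hk'
      have h1 := h ⟨x, hx⟩ k hk
      have h2 : A.φ ⟨x, hx⟩ k = k' := by
        apply Subtype.ext
        rw [hk']
        rfl
      rw [h2] at h1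
      exact h1
    · intro h s k hk
      exact h k hk s s.2 _ rfl
  constructor
  · have h1 := A.card_real_inv_irr_eq_cls hM
    have e1 : ∀ θ : Cfsg.IrrCharacter ↥K,
        ((∀ k : ↥K, ((θ : ↥K → ℂ) k).im = 0) ∧ (∀ x ∈ P, ∀ k k' : ↥K, (k' : G) = x * (k : G) * x⁻¹ →
          (θ : ↥K → ℂ) k' = (θ : ↥K → ℂ) k)) ↔
        (Cfsg.Agent.Lib.Helper8.GlauP.RealFun (θ : ↥K → ℂ) ∧ A.Inv (θ : ↥K → ℂ)) := by
      intro θ
      rw [hinv]
      rfl
    refine (Nat.card_congr (Equiv.subtypeEquivRight e1)).trans (h1.trans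
      (Nat.card_congr (Equiv.subtypeEquivRight ?_)))
    intro c
    rw [hcls c]
    rfl
  · intro hall k hk
    have h1 : ∀ χ : Cfsg.IrrCharacter ↥K, Cfsg.Agent.Lib.Helper8.GlauP.RealFun (χ : ↥K → ℂ) →
        A.Inv (χ : ↥K → ℂ) := by
      intro χ hχ
      rw [hinv]
      exact hall χ hχ
    have h2 : Cfsg.Agent.Lib.Helper8.GlauP.RealCls (ConjClasses.mk k) :=
      (Cfsg.Agent.Lib.Helper8.GlauP.realCls_mk_iff k).mpr hk
    have h3 := A.invCls_of_real hM h1 _ h2
    obtain ⟨L, hL⟩ := A.exists_map_eq _ h3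
    obtain ⟨c, rfl⟩ := ConjClasses.exists_rep L
    have h4 : IsConj (A.ι c) k := ConjClasses.mk_eq_mk_iff_isConj.mp hL
    refine ⟨A.ι c, h4.symm, ?_⟩
    intro x hx
    have hc : (c : G) ∈ Subgroup.centralizer (P : Set G) := (Subgroup.mem_inf.mp c.2).2
    rw [Subgroup.mem_centralizer_iff] at hc
    have h5 := hc x hx
    show x * (c : G) * x⁻¹ = (c : G)
    rw [h5]
    group

end Cfsg.Agent.S4911
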