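import Cfsg.Statements.S4914
import Mathlib
import Cfsg.Agent.Lib.Helper8.RG13
import Cfsg.Agent.Lib.Helper8.GlauP10

set_option autoImplicit false
open Cfsg

namespace Cfsg.Agent.S4914

open Cfsg.Agent.Lib.Helper6 Cfsg.Agent.Lib.Helper8.GlauP Cfsg.Agent.Lib.Helper8.GlauL
  Cfsg.Agent.Lib.Helper8.RelGlau in
/-- a subgroup normalizing `K` normalizes the normal Sylow subgroup of `K` -/
theorem conj_mem_of_normal_sylow {Γ : Type*} [Group Γ] [Finite Γ] (p : ℕ) [Fact p.Prime]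
    (K Q : Subgroup Γ) (hQK : Q ≤ K) (hQn : ∀ k ∈ K, ∀ q ∈ Q, k * q * k⁻¹ ∈ Q)
    (hQp : ∃ a : ℕ, Nat.card ↥Q = p ^ a) (hQsyl : ¬ p ∣ Q.relIndex K) (x : Γ)
    (hx : ∀ k ∈ K, x * k * x⁻¹ ∈ K) (q : Γ) (hq : q ∈ Q) : x * q * x⁻¹ ∈ Q := by
  obtain ⟨a, ha⟩ := hQp
  haveI hN : (Q.subgroupOf K).Normal :=
    ⟨fun n hn k => by rw [Subgroup.mem_subgroupOf] at hn ⊢; exact hQn k k.2 n hn⟩
  obtain ⟨k, hk⟩ : ∃ k : ↥K, (k : Γ) = x * q * x⁻¹ := ⟨⟨_, hx q (hQK hq)⟩, rfl⟩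
  have hq1 : q ^ (p ^ a) = 1 := by
    have h1 : (⟨q, hq⟩ : ↥Q) ^ Nat.card ↥Q = 1 := pow_card_eq_one'
    rw [ha] at h1
    exact congrArg Subtype.val h1
  have h1 : orderOf k ∣ p ^ a := by
    apply orderOf_dvd_of_pow_eq_one
    apply Subtype.ext
    rw [Subgroup.coe_pow, hk, conj_pow, hq1]
    simp
  have h2 : orderOf (QuotientGroup.mk' (Q.subgroupOf K) k) ∣ orderOf k :=
    orderOf_map_dvd (QuotientGroup.mk' (Q.subgroupOf K)) k
  have h3 : orderOf (QuotientGroup.mk' (Q.subgroupOf K) k) ∣ (Q.subgroupOf K).index := by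
    rw [Subgroup.index_eq_card]
    exact orderOf_dvd_natCard _
  have hcop : Nat.Coprime (p ^ a) (Q.subgroupOf K).index := by
    apply Nat.Coprime.pow_left
    exact (Nat.Prime.coprime_iff_not_dvd (Fact.out)).mpr hQsyl
  have h4 := Nat.eq_one_of_dvd_coprimes hcop (h2.trans h1) h3
  rw [orderOf_eq_one_iff] at h4
  have h5 : k ∈ Q.subgroupOf K := (QuotientGroup.eq_one_iff k).mp h4
  rw [Subgroup.mem_subgroupOf, hk] at h5
  exact h5

/-- Let P and K be subgroups of a finite group G with P a p-group normalizing K, and suppose K has a normal Sylow p-subgroup Q. Let C be the subgroup of those k ∈ K whose commutator with every element of P lies in Q (so that C/Q is the fixed-point subgroup of P on K/Q). Then there is a bijection f from the P-invariant irreducible complex characters of K onto the P-invariant irreducible complex characters of C such that, for every P-invariant irreducible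 character χ of K, the multiplicity of f(χ) in the restriction of χ to C is a natural number congruent to 1 or to −1 modulo p, every other P-invariant irreducible character of C occurs in that restriction with multiplicity divisible by p, and the degrees of χ and f(χ) are congruent modulo p up to sign. -/
theorem result {G : Type*} [Group G] [Finite G] (p : ℕ) [Fact p.Prime] (P K Q C : Subgroup G) (hP : IsPGroup p ↥P) (hPK : P ≤ Subgroup.normalizer (K : Set G)) (hQK : Q ≤ K) (hQn : ∀ k ∈ K, ∀ q ∈ Q, k * q * k⁻¹ ∈ Q) (hQp : ∃ a : ℕ, Nat.card ↥Q = p ^ a) (hQsyl : ¬ p ∣ Q.relIndex K) (hCK : C ≤ K) (hC : ∀ k : G, k ∈ C ↔ (k ∈ K ∧ ∀ x ∈ P, x * k * x⁻¹ * k⁻¹ ∈ Q)) : ∃ f : {χ : Cfsg.IrrCharacter ↥K // (∀ x ∈ P, ∀ k k' : ↥K, (k' : G) = x * (k : G) * x⁻¹ → (χ : ↥K → ℂ) k' = (χ : ↥K → ℂ) k)} → {ξ : Cfsg.IrrCharacter ↥C // (∀ x ∈ P, ∀ k k' : ↥C, (k' : G) = x * (k : G) * x⁻¹ → (ξ : ↥C → ℂ) k'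 = (ξ : ↥C → ℂ) k)}, Function.Bijective f ∧ ∀ χ, (∀ ξ : {ξ : Cfsg.IrrCharacter ↥C // (∀ x ∈ P, ∀ k k' : ↥C, (k' : G) = x * (k : G) * x⁻¹ → (ξ : ↥C → ℂ) k' = (ξ : ↥C → ℂ) k)}, ∃ m : ℕ, (Nat.card ↥C : ℂ)⁻¹ * ∑ᶠ c : ↥C, (χ.1 : ↥K → ℂ) (Subgroup.inclusion hCK c) * (starRingEnd ℂ) ((ξ.1 : ↥C → ℂ) c) = (m : ℂ) ∧ (ξ = f χ → ((m : ZMod p) = 1 ∨ (m : ZMod p) = -1)) ∧ (ξ ≠ f χ → p ∣ m)) ∧ ((Cfsg.charDegree ((f χ).1 : ↥C → ℂ) : ZMod p) = (Cfsg.charDegree (χ.1 : ↥K → ℂ) : ZMod p) ∨ (Cfsg.charDegree ((f χ).1 : ↥C → ℂ) : ZMod p) = -(Cfsg.charDegree (χ.1 : ↥K → ℂ) : ZMod p)) := by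
  classical
  haveI : Fintype ↥K := Fintype.ofFinite _
  haveI : Fintype ↥C := Fintype.ofFinite _
  have hnormK : ∀ s ∈ P, ∀ g ∈ K, s * g * s⁻¹ ∈ K := fun s hs g hg =>
    (Subgroup.mem_normalizer_iff.1 (hPK hs) g).1 hg
  have hnormQ : ∀ s ∈ P, ∀ q ∈ Q, s * q * s⁻¹ ∈ Q := fun s hs q hq =>
    conj_mem_of_normal_sylow p K Q hQK hQn hQp hQsyl s (hnormK s hs) q hq
  have hnormC : ∀ s ∈ P, ∀ c ∈ C, s * c * s⁻¹ ∈ C := by
    intro s hs c hc
    obtain ⟨hcK, hcP⟩ := (hC c).mp hc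
    rw [hC]
    refine ⟨hnormK s hs c hcK, fun x hx => ?_⟩
    have h1 := hcP (x * s) (P.mul_mem hx hs)
    have h2 := Q.inv_mem (hcP s hs)
    have h3 := Q.mul_mem h1 h2
    have e : x * s * c * (x * s)⁻¹ * c⁻¹ * (s * c * s⁻¹ * c⁻¹)⁻¹
        = x * (s * c * s⁻¹) * x⁻¹ * (s * c * s⁻¹)⁻¹ := by group
    rwa [e] at h3
  have hQp' : IsPGroup p ↥(Q.subgroupOf K) := by
    obtain ⟨a, ha⟩ := hQp
    exact (IsPGroup.of_card ha).comap_subtype
  obtain ⟨D, hDι, hDφK, hDφC, hDQ⟩ : ∃ D : Cfsg.Agent.Lib.Helper8.RelGlau.Setup p ↥K ↥C ↥P,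
      D.ι = Subgroup.inclusion hCK ∧
      (∀ (s : ↥P) (k : ↥K), ((D.φK s k : ↥K) : G) = s * k * (s : G)⁻¹) ∧
      (∀ (s : ↥P) (c : ↥C), ((D.φC s c : ↥C) : G) = s * c * (s : G)⁻¹) ∧
      IsPGroup p ↥D.Q := by
    refine ⟨{ ι := Subgroup.inclusion hCK
              inj := Subgroup.inclusion_injective hCK
              Q := Q.subgroupOf K
              hQn := ⟨fun q hq k => by
                rw [Subgroup.mem_subgroupOf] at hq ⊢
                exact hQn k k.2 q hq⟩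
              hQle := ?_
              φK := Cfsg.Agent.Lib.Helper8.GlauP.conjHom K P hnormK
              φC := Cfsg.Agent.Lib.Helper8.GlauP.conjHom C P hnormC
              hι := fun s c => rfl
              hQs := ?_
              hfix := ?_
              pgroup := hP
              cop := hQsyl }, rfl, fun _ _ => rfl, fun _ _ => rfl, hQp'⟩
    · intro k hk
      rw [Subgroup.mem_subgroupOf] at hk
      have hkC : (k : G) ∈ C := by
        rw [hC]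
        refine ⟨k.2, fun x hx => ?_⟩
        exact Q.mul_mem (hnormQ x hx _ hk) (Q.inv_mem hk)
      exact ⟨⟨k, hkC⟩, rfl⟩
    · intro s q hq
      rw [Subgroup.mem_subgroupOf] at hq ⊢
      exact hnormQ s s.2 q hq
    · intro k
      constructor
      · intro h
        have hkC : (k : G) ∈ C := by
          rw [hC]
          refine ⟨k.2, fun x hx => ?_⟩
          have := h ⟨x, hx⟩
          rw [Subgroup.mem_subgroupOf] at this
          exact this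
        exact ⟨⟨k, hkC⟩, rfl⟩
      · rintro ⟨c, rfl⟩ s
        rw [Subgroup.mem_subgroupOf]
        exact ((hC c).mp c.2).2 s s.2
  have hK_iff : ∀ χ : ↥K → ℂ, Cfsg.Agent.Lib.Helper8.GlauP.InvChar D.φK χ ↔
      (∀ x ∈ P, ∀ k k' : ↥K, (k' : G) = x * (k : G) * x⁻¹ → χ k' = χ k) := by
    intro χ
    constructor
    · intro h x hx k k' hk'
      have : k' = D.φK ⟨x, hx⟩ k := Subtype.ext (by rw [hk', hDφK])
      rw [this]
      exact h ⟨x, hx⟩ k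
    · intro h s g
      exact h s s.2 g (D.φK s g) (hDφK s g)
  have hC_iff : ∀ ξ : ↥C → ℂ, Cfsg.Agent.Lib.Helper8.GlauP.InvChar D.φC ξ ↔
      (∀ x ∈ P, ∀ k k' : ↥C, (k' : G) = x * (k : G) * x⁻¹ → ξ k' = ξ k) := by
    intro ξ
    constructor
    · intro h x hx k k' hk'
      have : k' = D.φC ⟨x, hx⟩ k := Subtype.ext (by rw [hk', hDφC])
      rw [this]
      exact h ⟨x, hx⟩ k
    · intro h s g
      exact h s s.2 g (D.φC s g) (hDφC s g)
  obtain ⟨f, hbij, hf⟩ := D.main hDQ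
  refine ⟨fun χ => ⟨(f ⟨χ.1, (hK_iff _).mpr χ.2⟩).1, (hC_iff _).mp (f ⟨χ.1, (hK_iff _).mpr χ.2⟩).2⟩,
    ⟨?_, ?_⟩, ?_⟩
  · intro χ χ' h
    have h0 := Subtype.ext_iff.mp h
    have h1 : (f ⟨χ.1, (hK_iff _).mpr χ.2⟩).1 = (f ⟨χ'.1, (hK_iff _).mpr χ'.2⟩).1 := h0
    have h2 := hbij.1 (Subtype.ext h1)
    have h3 := Subtype.ext_iff.mp h2
    exact Subtype.ext h3
  · intro ξ
    obtain ⟨χ0, hχ0⟩ := hbij.2 ⟨ξ.1, (hC_iff _).mpr ξ.2⟩
    refine ⟨⟨χ0.1, (hK_iff _).mp χ0.2⟩, ?_⟩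
    apply Subtype.ext
    show (f ⟨χ0.1, _⟩).1 = ξ.1
    have : (⟨χ0.1, (hK_iff _).mpr ((hK_iff _).mp χ0.2)⟩ :
        {χ : Cfsg.IrrCharacter ↥K // Cfsg.Agent.Lib.Helper8.GlauP.InvChar D.φK (χ : ↥K → ℂ)})
        = χ0 := Subtype.ext rfl
    rw [this, hχ0]
  · intro χ
    obtain ⟨hmul, hdeg⟩ := hf ⟨χ.1, (hK_iff _).mpr χ.2⟩
    refine ⟨?_, hdeg⟩
    intro ξ
    obtain ⟨h1, h2⟩ := hmul ⟨ξ.1, (hC_iff _).mpr ξ.2⟩
    refine ⟨Cfsg.Agent.Lib.Helper8.GlauP.rmult D.ι (χ.1 : ↥K → ℂ) (ξ.1 : ↥C → ℂ), ?_, ?_, ?_⟩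
    · have h3 := Cfsg.Agent.Lib.Helper8.GlauP.rmult_spec D.ι
        (Cfsg.Agent.Lib.Helper6.IsIrrCharacter.isCharacter χ.1.2) ξ.1.2
      rw [← h3, finsum_eq_sum_of_fintype, hDι]
      rfl
    · intro h
      apply h1
      apply Subtype.ext
      have h0 := Subtype.ext_iff.mp h
      exact h0
    · intro h
      apply h2
      intro h'
      apply h
      apply Subtype.ext
      have h0 := Subtype.ext_iff.mp h'
      exact h0

end Cfsg.Agent.S4914
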