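import Cfsg.Statements.S4916
import Mathlib
import Cfsg.Agent.Lib.Helper6.BlkPrincipal
import Cfsg.Agent.Lib.Helper6.BlkOrth2
import Cfsg.Agent.S0914

set_option autoImplicit false
open Cfsg

namespace Cfsg.Agent.S4916

open Cfsg.Agent.Lib.Helper6

/-- Let G be a finite group, p a prime and M a maximal ideal of the algebraic integers containing p. Then the principal character is the only irreducible character of degree prime to p in the principal p-block of G if and only if p does not divide the order of G. -/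
theorem result {G : Type*} [Group G] [Finite G] (p : ℕ) [Fact p.Prime] (M : Ideal Cfsg.AlgInt) (hM : Cfsg.IsPModular p M) : (∀ χ : Cfsg.IrrCharacter G, χ ∈ Cfsg.principalBlock M G → ¬ p ∣ Cfsg.charDegree (χ : G → ℂ) → (χ : G → ℂ) = fun _ => (1 : ℂ)) ↔ ¬ p ∣ Nat.card G := by
  classical
  have : Fintype G := Fintype.ofFinite G
  have : Fintype (Cfsg.IrrCharacter G) := Fintype.ofFinite _
  have hp : p.Prime := hM.1
  constructor
  · intro hall hdvd
    obtain ⟨x, hx⟩ := exists_prime_orderOf_dvd_card' p hdvd
    have h1 := weak_block_orthogonality_finset hM (oneIrr G) 1 x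
      (by rw [orderOf_one]; exact hp.not_dvd_one) (by rw [hx])
    have hmem : oneIrr G ∈ Finset.univ.filter
        (· ∈ Cfsg.blockOf M ((oneIrr G : Cfsg.IrrCharacter G) : G → ℂ)) := by
      simp only [Finset.mem_filter, Finset.mem_univ, true_and]
      exact sameBlock_refl hM _
    rw [← Finset.add_sum_erase _ _ hmem] at h1
    have h2 : ((oneIrr G : Cfsg.IrrCharacter G) : G → ℂ) 1
        * (starRingEnd ℂ) (((oneIrr G : Cfsg.IrrCharacter G) : G → ℂ) x) = 1 := by
      show (1 : ℂ) * (starRingEnd ℂ) 1 = 1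
      simp
    rw [h2] at h1
    -- every other term lies in the ideal
    have h3 : Cfsg.MemLocalIdeal M (∑ χ ∈ (Finset.univ.filter
        (· ∈ Cfsg.blockOf M ((oneIrr G : Cfsg.IrrCharacter G) : G → ℂ))).erase (oneIrr G),
        (χ : G → ℂ) 1 * (starRingEnd ℂ) ((χ : G → ℂ) x)) := by
      apply MemLocalIdeal.sum hM
      intro χ hχ
      have hχne := Finset.ne_of_mem_erase hχ
      have hχB := Finset.mem_of_mem_erase hχ
      simp only [Finset.mem_filter, Finset.mem_univ, true_and] at hχB
      have hpd : p ∣ Cfsg.charDegree (χ : G → ℂ) := by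
        by_contra hnd
        apply hχne
        apply Subtype.ext
        exact hall χ hχB hnd
      rw [IsCharacter.apply_one_eq_charDegree (IsIrrCharacter.isCharacter χ.2)]
      apply MemLocalIdeal.mul_right hM
      · exact (memLocalIdeal_natCast_iff hM _).mpr hpd
      · exact memLocalRing_of_isIntegral hM
          (isIntegral_conj (IsCharacter.isIntegral_apply (IsIrrCharacter.isCharacter χ.2) x))
    have h4 : (1 : ℂ) = - ∑ χ ∈ (Finset.univ.filter
        (· ∈ Cfsg.blockOf M ((oneIrr G : Cfsg.IrrCharacter G) : G → ℂ))).erase (oneIrr G),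
        (χ : G → ℂ) 1 * (starRingEnd ℂ) ((χ : G → ℂ) x) := by
      rw [eq_neg_iff_add_eq_zero]
      exact h1
    apply not_memLocalIdeal_one hM
    rw [h4]
    exact MemLocalIdeal.neg h3
  · intro hnd χ hχ _
    have hq : ¬ p ∣ Nat.card G / Cfsg.charDegree ((oneIrr G : Cfsg.IrrCharacter G) : G → ℂ) := by
      have : Cfsg.charDegree ((oneIrr G : Cfsg.IrrCharacter G) : G → ℂ) = 1 := charDegree_one_fun
      rw [this, Nat.div_one]
      exact hnd
    have h1 := (Cfsg.Agent.S0914.result p M hM (oneIrr G)).mp hq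
    have h2 : χ ∈ Cfsg.blockOf M ((oneIrr G : Cfsg.IrrCharacter G) : G → ℂ) := hχ
    rw [h1, Set.mem_singleton_iff] at h2
    rw [h2]
    rfl

end Cfsg.Agent.S4916
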