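import Cfsg.Statements.S4923
import Cfsg.Agent.Lib.Helper6.Fv1
import Cfsg.Agent.Lib.Helper6.Fv2
import Cfsg.Agent.Lib.Helper6.Fv3
import Cfsg.Agent.Lib.Helper6.CAut
import Cfsg.Agent.Lib.Helper6.PConj2
import Cfsg.Agent.S4189
import Cfsg.Agent.S4399

set_option autoImplicit false
open Cfsg

namespace Cfsg.Agent.S4923

open Cfsg.Agent.Lib.Helper6 Cfsg.Agent.Lib.Helper6.Fv

section aux

variable {S : Type*} [Group S] [Finite S]

/-- the action of an element on a cyclic subgroup of index two is a power map -/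
theorem exists_exponent {a : S} (hi : (Subgroup.zpowers a).index = 2) (b : S) :
    ∃ k : ℕ, b * a * b⁻¹ = a ^ (k + 1) := by
  haveI hAn : (Subgroup.zpowers a).Normal := Subgroup.normal_of_index_eq_two hi
  have hmem : b * a * b⁻¹ ∈ Subgroup.zpowers a := hAn.conj_mem a (Subgroup.mem_zpowers a) b
  obtain ⟨m0, hm0⟩ := (Submonoid.mem_powers_iff _ _).mp (mem_powers_iff_mem_zpowers.mpr hmem)
  have hopos : 0 < orderOf a := orderOf_pos a
  obtain ⟨k, hk0⟩ : ∃ k, k + 1 = m0 + orderOf a := ⟨m0 + orderOf a - 1, by omega⟩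
  refine ⟨k, ?_⟩
  rw [hk0, pow_add, pow_orderOf_eq_one, mul_one, hm0]

/-- in a nonabelian group the exponent is nontrivial -/
theorem not_dvd_of_nonabelian {a b : S} (hna : ¬ ∀ x y : S, x * y = y * x)
    (hi : (Subgroup.zpowers a).index = 2) (hb : b ∉ Subgroup.zpowers a) {k : ℕ}
    (hk : b * a * b⁻¹ = a ^ (k + 1)) : ¬ orderOf a ∣ k := by
  intro hd
  have h1 : a ^ k = 1 := orderOf_dvd_iff_pow_eq_one.mp hd
  rw [pow_succ, h1, one_mul] at hk
  have h2 : b * a = a * b := by
    have := congrArg (fun z => z * b) hk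
    simpa [mul_assoc] using this
  exact hna (Cfsg.Agent.S4189.comm_of_commute_index_two a b hi hb h2)

/-- the exponent is odd -/
theorem exponent_even {a b : S} {e k : ℕ} (he : 1 ≤ e) (ha : orderOf a = 2 ^ e)
    (hk : b * a * b⁻¹ = a ^ (k + 1)) : k % 2 = 0 := by
  have hc : Nat.Coprime (k + 1) (2 ^ e) := coprime_of_conj ha hk
  by_contra hcon
  have h2 : 2 ∣ k + 1 := by omega
  have h3 : 2 ∣ 2 ^ e := dvd_pow_self 2 (by omega)
  have := Nat.dvd_gcd h2 h3
  rw [hc] at this
  omega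

theorem add_inv_cases {t z s : ℂ} (ht : t ≠ 0) (hz : z ≠ 0)
    (h : t + s * t⁻¹ = z + s * z⁻¹) : t = z ∨ t * z = s := by
  have e1 : t * t⁻¹ = 1 := mul_inv_cancel₀ ht
  have e2 : z * z⁻¹ = 1 := mul_inv_cancel₀ hz
  have h1 : (t - z) * (t * z - s) = 0 := by
    linear_combination (t * z) * h - s * z * e1 + s * t * e2
  rcases mul_eq_zero.mp h1 with h2 | h2
  · left
    exact sub_eq_zero.mp h2
  · right
    exact sub_eq_zero.mp h2

end aux

section main

variable {G : Type*} [Group G] [Finite G]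

theorem forward (P : Sylow 2 G) (n : ℕ) (hn : 3 ≤ n)
    (hP : Nat.card ↥(P : Subgroup G) = 2 ^ n) (ζ : ℂ) (hζ : IsPrimitiveRoot ζ (2 ^ (n - 1)))
    (h4 : (commutator ↥(P : Subgroup G)).index = 4) :
    ∃ g : G, g ∈ (P : Subgroup G) ∧ 2 ∣ (Subgroup.centralizer ({g} : Set G)).index ∧
      (IntermediateField.adjoin ℚ {z : ℂ | ∃ χ : Cfsg.IrrCharacter G, (χ : G → ℂ) g = z}
          = IntermediateField.adjoin ℚ ({ζ + ζ⁻¹} : Set ℂ) ∨
        IntermediateField.adjoin ℚ {z : ℂ | ∃ χ : Cfsg.IrrCharacter G, (χ : G → ℂ) g = z}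
          = IntermediateField.adjoin ℚ ({ζ - ζ⁻¹} : Set ℂ)) := by
  classical
  haveI : Fact (Nat.Prime 2) := ⟨Nat.prime_two⟩
  have hS2 : IsPGroup 2 ↥(P : Subgroup G) := P.isPGroup'
  have h8 : 2 ^ 3 ≤ 2 ^ n := Nat.pow_le_pow_right (by norm_num) hn
  have hna : ¬ ∀ a b : ↥(P : Subgroup G), a * b = b * a := by
    intro hab
    have hbot : commutator ↥(P : Subgroup G) = ⊥ := by
      rw [commutator_def, Subgroup.commutator_eq_bot_iff_le_centralizer]
      intro y _
      rw [Subgroup.mem_centralizer_iff]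
      intro z _
      exact hab z y
    rw [hbot, Subgroup.index_bot, hP] at h4
    omega
  obtain ⟨a, hi⟩ := Cfsg.Agent.S4399.exists_cyclic_index_two (Nat.card ↥(P : Subgroup G))
    ↥(P : Subgroup G) rfl hS2 hna h4
  have hAc : ∀ x ∈ Subgroup.zpowers a, ∀ y ∈ Subgroup.zpowers a, x * y = y * x :=
    fun x hx y hy => commute_zpowers hx hy
  have hoa : orderOf a = 2 ^ (n - 1) := by
    have h1 := Subgroup.index_mul_card (Subgroup.zpowers a)
    rw [hi, Nat.card_zpowers, hP] at h1
    have h2 : 2 ^ n = 2 * 2 ^ (n - 1) := by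
      rw [← pow_succ']
      congr 1
      omega
    omega
  obtain ⟨b, hb⟩ := Cfsg.Agent.S4399.exists_not_mem_of_index_two hi
  obtain ⟨k, hk⟩ := exists_exponent hi b
  have hgcd : Nat.gcd (orderOf a) k = 2 := by
    have := index_commutator_eq hi hb hk
    rw [h4] at this
    omega
  have hdvd : orderOf a ∣ 2 * (k + 2) := by
    have h1 := orderOf_dvd_mul hi hk
    have h2 := Nat.dvd_gcd (dvd_mul_right (orderOf a) (k + 2)) h1
    rwa [Nat.gcd_mul_right, hgcd] at h2
  have hk4 : k % 4 = 2 := by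
    apply mod_four_of_gcd (e := n - 1) (by omega)
    rw [← hoa]
    exact hgcd
  have hm4 : (k + 1) % 4 = 3 := by omega
  obtain ⟨N, hN⟩ : ∃ N, N = 2 ^ (n - 1) := ⟨_, rfl⟩
  have hN4 : 4 ≤ N := by
    rw [hN]
    calc 4 = 2 ^ 2 := by norm_num
      _ ≤ 2 ^ (n - 1) := Nat.pow_le_pow_right (by norm_num) (by omega)
  have hoa' : orderOf a = N := by rw [hoa, hN]
  rw [← hN] at hζ
  have hN0 : 0 < N := by omega
  obtain ⟨m, hm⟩ : ∃ m, m = (k + 1) % N := ⟨_, rfl⟩
  have hmN : m < N := by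
    rw [hm]
    exact Nat.mod_lt _ hN0
  obtain ⟨x, hx⟩ : ∃ x : G, x = (a : G) := ⟨_, rfl⟩
  have hox : orderOf x = N := by
    rw [hx, Subgroup.orderOf_coe, hoa']
  have hxN : x ^ N = 1 := by
    rw [← hox]
    exact pow_orderOf_eq_one x
  have hxm : x ^ m = x ^ (k + 1) := by
    rw [hm, ← hox]
    exact pow_mod_orderOf x (k + 1)
  have hbx : (b : G) * x * (b : G)⁻¹ = x ^ (k + 1) := by
    rw [hx]
    have := congrArg (fun s : ↥(P : Subgroup G) => (s : G)) hk
    simpa using this
  have hconj : IsConj x (x ^ m) := by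
    rw [hxm]
    exact isConj_iff.mpr ⟨(b : G), hbx⟩
  have hm1 : m ≠ 1 := by
    intro h1
    have h2 : k + 1 ≡ 0 + 1 [MOD N] := by
      unfold Nat.ModEq
      rw [← hm, h1, zero_add, Nat.mod_eq_of_lt (by omega)]
    have h3 : N ∣ k := Nat.modEq_zero_iff_dvd.mp (Nat.ModEq.add_right_cancel' 1 h2)
    have h4' : Nat.gcd N k = N := Nat.gcd_eq_left h3
    rw [hoa'] at hgcd
    omega
  -- the root of unity
  have hζ0 : ζ ≠ 0 := hζ.ne_zero hN0.ne'
  have hζm : ζ ^ m = ζ ^ (k + 1) := by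
    have := pow_mod_orderOf ζ (k + 1)
    rw [← hζ.eq_orderOf] at this
    rw [hm]
    exact this
  obtain ⟨ε, hε⟩ : ∃ ε : ℂ, ε = ζ * ζ ^ (k + 1) := ⟨_, rfl⟩
  have hε2 : ε ^ 2 = 1 := by
    rw [hε, ← pow_succ', ← pow_mul, hζ.pow_eq_one_iff_dvd]
    rw [hoa'] at hdvd
    have e : (k + 1 + 1) * 2 = 2 * (k + 2) := by ring
    rw [e]
    exact hdvd
  have hε1 : ε = 1 ∨ ε = -1 := eq_one_or_neg_one_of_sq hε2
  have hεm : ζ * ζ ^ m = ε := by
    rw [hζm, hε]
  have hζmε : ζ ^ m = ε * ζ⁻¹ := by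
    rw [← hεm]
    field_simp
  have hne : ζ ^ m ≠ ζ := by
    intro h
    have h1 : ζ ^ m = ζ ^ 1 := by
      rw [pow_one]
      exact h
    exact hm1 (hζ.pow_inj hmN (by omega) h1)
  -- even class size
  have hcen : ∀ z ∈ Subgroup.center ↥(P : Subgroup G), orderOf z ∣ 2 := by
    intro z hz
    have h2 := Cfsg.Agent.S4399.card_center_eq_two (Subgroup.zpowers a) hi hAc hna h4
    have h3 := Subgroup.orderOf_dvd_natCard _ hz
    rwa [h2] at h3
  have heven : 2 ∣ (Subgroup.centralizer ({x} : Set G)).index := by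
    rw [hx]
    apply two_dvd_index_centralizer P a hcen _ ⟨n - 1, hoa⟩
    rw [hoa']
    omega
  -- fusion
  have hs4 : ∀ s : ↥(P : Subgroup G), s ∉ Subgroup.zpowers a → s ^ 4 = 1 :=
    fun s hs => pow_four_of_not_mem hi hb hs hk hgcd
  have hsm : ∀ s : ↥(P : Subgroup G), s ∉ Subgroup.zpowers a → s * a * s⁻¹ = a ^ (k + 1) :=
    fun s hs => by rw [conj_eq_of_not_mem hi hb hs, hk]
  have hF : ∀ i, i < N → IsConj (x ^ i) x → i = 1 ∨ i = m := by
    intro i hi' hcon
    obtain ⟨h, hh⟩ := isConj_iff.mp hcon.symm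
    rw [hx] at hh
    have := fusion P a (e := n - 1) (by omega) hoa hm4 hs4 hsm h i hh
    rw [← hN] at this
    rcases this with h1 | h1
    · left
      have h2 : i % N = 1 % N := h1
      rw [Nat.mod_eq_of_lt hi', Nat.mod_eq_of_lt (by omega)] at h2
      exact h2
    · right
      have h2 : i % N = (k + 1) % N := h1
      rw [Nat.mod_eq_of_lt hi', ← hm] at h2
      exact h2
  -- the field of values
  have hθK : ζ + ζ ^ m ∈ IntermediateField.adjoin ℚ
      {z : ℂ | ∃ χ : Cfsg.IrrCharacter G, (χ : G → ℂ) x = z} :=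
    theta_mem x (by omega) hxN hζ hm1 hmN hconj hF
  have hsub : IntermediateField.adjoin ℚ
      {z : ℂ | ∃ χ : Cfsg.IrrCharacter G, (χ : G → ℂ) x = z}
        = IntermediateField.adjoin ℚ ({ζ + ζ ^ m} : Set ℂ) := by
    apply le_antisymm
    · rw [IntermediateField.adjoin_le_iff]
      rintro z ⟨χ, rfl⟩
      show (χ : G → ℂ) x ∈ IntermediateField.adjoin ℚ ({ζ + ζ ^ m} : Set ℂ)
      apply values_mem x hN0 hxN hζ hne hconj _
        (IntermediateField.mem_adjoin_simple_self ℚ _) _ χ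
      rw [hεm]
      rcases hε1 with h | h
      · rw [h]
        exact one_mem _
      · rw [h]
        exact neg_mem (one_mem _)
    · rw [IntermediateField.adjoin_le_iff]
      intro z hz
      rw [Set.mem_singleton_iff] at hz
      rw [hz]
      exact hθK
  refine ⟨x, ?_, heven, ?_⟩
  · rw [hx]
    exact a.2
  · rw [hsub]
    rcases hε1 with h | h
    · left
      have e : ζ ^ m = ζ⁻¹ := by rw [hζmε, h, one_mul]
      rw [e]
    · right
      have e : ζ ^ m = -ζ⁻¹ := by rw [hζmε, h, neg_one_mul]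
      rw [e, ← sub_eq_add_neg]

theorem backward (P : Sylow 2 G) (n : ℕ) (hn : 3 ≤ n)
    (hP : Nat.card ↥(P : Subgroup G) = 2 ^ n) (ζ : ℂ) (hζ : IsPrimitiveRoot ζ (2 ^ (n - 1)))
    (g : G) (hg : g ∈ (P : Subgroup G))
    (heven : 2 ∣ (Subgroup.centralizer ({g} : Set G)).index)
    (hK : IntermediateField.adjoin ℚ {z : ℂ | ∃ χ : Cfsg.IrrCharacter G, (χ : G → ℂ) g = z}
          = IntermediateField.adjoin ℚ ({ζ + ζ⁻¹} : Set ℂ) ∨
        IntermediateField.adjoin ℚ {z : ℂ | ∃ χ : Cfsg.IrrCharacter G, (χ : G → ℂ) g = z}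
          = IntermediateField.adjoin ℚ ({ζ - ζ⁻¹} : Set ℂ)) :
    (commutator ↥(P : Subgroup G)).index = 4 := by
  classical
  haveI : Fintype G := Fintype.ofFinite G
  haveI : Fact (Nat.Prime 2) := ⟨Nat.prime_two⟩
  have hna : ¬ ∀ a b : ↥(P : Subgroup G), a * b = b * a := by
    intro hab
    have hle : (P : Subgroup G) ≤ Subgroup.centralizer ({g} : Set G) := by
      intro y hy
      rw [Subgroup.mem_centralizer_iff]
      intro z hz
      rw [Set.mem_singleton_iff] at hz
      rw [hz]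
      have := hab ⟨g, hg⟩ ⟨y, hy⟩
      exact congrArg Subtype.val this
    have h1 : (Subgroup.centralizer ({g} : Set G)).index ∣ (P : Subgroup G).index :=
      Subgroup.index_dvd_of_le hle
    exact P.not_dvd_index (heven.trans h1)
  rcases Nat.lt_or_ge n 4 with hn4 | hn4
  · -- order eight
    have hn3 : n = 3 := by omega
    subst hn3
    have h8 : Nat.card ↥(P : Subgroup G) = 8 := by
      rw [hP]
      norm_num
    obtain ⟨a, ha⟩ := Cfsg.Agent.S4189.exists_order_four h8 hna
    have hi : (Subgroup.zpowers a).index = 2 := by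
      have h1 := Subgroup.index_mul_card (Subgroup.zpowers a)
      rw [Nat.card_zpowers, ha, h8] at h1
      omega
    obtain ⟨b, hb⟩ := Cfsg.Agent.S4399.exists_not_mem_of_index_two hi
    obtain ⟨k, hk⟩ := exists_exponent hi b
    have ha' : orderOf a = 2 ^ 2 := by
      rw [ha]
      norm_num
    have h1 := not_dvd_of_nonabelian hna hi hb hk
    have h2 := exponent_even (e := 2) (by norm_num) ha' hk
    rw [ha] at h1
    have hk4 : k % 4 = 2 := by omega
    rw [index_commutator_eq hi hb hk, ha', gcd_of_mod_four (by norm_num) hk4]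
  · -- the general case
    obtain ⟨N, hN⟩ : ∃ N, N = 2 ^ (n - 1) := ⟨_, rfl⟩
    obtain ⟨M, hM⟩ : ∃ M, M = 2 ^ (n - 2) := ⟨_, rfl⟩
    have hNM : N = M * 2 := by
      rw [hN, hM, ← pow_succ]
      congr 1
      omega
    have hM4 : 4 ∣ M := by
      rw [hM]
      have := pow_dvd_pow 2 (by omega : 2 ≤ n - 2)
      norm_num at this
      exact this
    have hM0 : 0 < M := by
      rw [hM]
      positivity
    have hN0 : 0 < N := by omega
    have h4N : 4 ∣ N := by
      rw [hNM]
      exact Dvd.dvd.mul_right hM4 2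
    rw [← hN] at hζ
    have hζ0 : ζ ≠ 0 := hζ.ne_zero hN0.ne'
    have hζM : ζ ^ M = -1 := (hζ.pow hN0 hNM).eq_neg_one_of_two_right
    -- the sign
    obtain ⟨s, hs, hKs⟩ : ∃ s : ℂ, (s = 1 ∨ s = -1) ∧
        IntermediateField.adjoin ℚ {z : ℂ | ∃ χ : Cfsg.IrrCharacter G, (χ : G → ℂ) g = z}
          = IntermediateField.adjoin ℚ ({ζ + s * ζ⁻¹} : Set ℂ) := by
      rcases hK with h | h
      · refine ⟨1, Or.inl rfl, ?_⟩
        rw [one_mul]
        exact h
      · refine ⟨-1, Or.inr rfl, ?_⟩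
        rw [neg_one_mul, ← sub_eq_add_neg]
        exact h
    have hθmem : ζ + s * ζ⁻¹ ∈ IntermediateField.adjoin ℚ
        {z : ℂ | ∃ χ : Cfsg.IrrCharacter G, (χ : G → ℂ) g = z} := by
      rw [hKs]
      exact IntermediateField.mem_adjoin_simple_self ℚ _
    have hfix : ∀ σ : ℂ ≃+* ℂ,
        (∀ χ : Cfsg.IrrCharacter G, σ ((χ : G → ℂ) g) = (χ : G → ℂ) g) →
        σ ζ + s * (σ ζ)⁻¹ = ζ + s * ζ⁻¹ := by
      intro σ hσ
      have h1 := adjoin_fix σ _ (by
        rintro v ⟨χ, rfl⟩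
        exact hσ χ) _ hθmem
      have hσs : σ s = s := by
        rcases hs with h | h
        · rw [h, map_one]
        · rw [h, map_neg, map_one]
      rw [map_add, map_mul, map_inv₀, hσs] at h1
      exact h1
    -- `g ^ M ≠ 1`
    have hgM : g ^ M ≠ 1 := by
      intro hgM
      have hgN : g ^ N = 1 := by
        rw [hNM, pow_mul, hgM, one_pow]
      have hcop : Nat.Coprime (M + 1) N := by
        rw [hN]
        apply Nat.Coprime.pow_right
        rw [Nat.coprime_two_right, Nat.odd_iff]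
        omega
      haveI : NeZero N := ⟨hN0.ne'⟩
      obtain ⟨σ, hσ⟩ := CAut.exists_ringEquiv_pow N (M + 1) hcop
      have h1 : ∀ χ : Cfsg.IrrCharacter G, σ ((χ : G → ℂ) g) = (χ : G → ℂ) g := by
        intro χ
        rw [PConj2.ringEquiv_character_pow hN0.ne' σ hσ (IsIrrCharacter.isCharacter χ.2) g hgN,
          pow_succ, hgM, one_mul]
      have h2 := hfix σ h1
      have hσζ : σ ζ = -ζ := by
        rw [hσ ζ hζ.pow_eq_one, pow_succ, hζM, neg_one_mul]
      rw [hσζ, inv_neg] at h2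
      have h3 : ζ + s * ζ⁻¹ = 0 := by
        linear_combination (-1 / 2 : ℂ) * h2
      have e2 : ζ * ζ⁻¹ = 1 := mul_inv_cancel₀ hζ0
      have h4 : ζ ^ 2 = -s := by
        linear_combination ζ * h3 - s * e2
      have h5 : ζ ^ 4 = 1 := by
        have e : ζ ^ 4 = (ζ ^ 2) ^ 2 := by ring
        rw [e, h4]
        rcases hs with h | h <;> rw [h] <;> norm_num
      have h6 : N ∣ 4 := (hζ.pow_eq_one_iff_dvd 4).mp h5
      have h7 := Nat.le_of_dvd (by norm_num) h6
      have h8 := Nat.le_of_dvd hM0 hM4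
      omega
    -- the order of `g`
    obtain ⟨gS, hgS⟩ : ∃ gS : ↥(P : Subgroup G), (gS : G) = g := ⟨⟨g, hg⟩, rfl⟩
    have hoa : orderOf gS = 2 ^ (n - 1) := by
      have hdiv : orderOf gS ∣ 2 ^ n := by
        rw [← hP]
        exact orderOf_dvd_natCard gS
      obtain ⟨i, hin, hi⟩ := (Nat.dvd_prime_pow Nat.prime_two).mp hdiv
      have hi1 : i ≠ n := by
        intro h
        apply hna
        have htop : Subgroup.zpowers gS = ⊤ := by
          apply Subgroup.eq_top_of_card_eq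
          rw [Nat.card_zpowers, hi, h, hP]
        intro y z
        exact commute_zpowers (a := gS) (by rw [htop]; trivial) (by rw [htop]; trivial)
      have hi2 : n - 1 ≤ i := by
        by_contra hcon
        have hle : i ≤ n - 2 := by omega
        have hd : orderOf gS ∣ M := by
          rw [hi, hM]
          exact pow_dvd_pow 2 hle
        have h1 : gS ^ M = 1 := orderOf_dvd_iff_pow_eq_one.mp hd
        apply hgM
        have := congrArg (fun s : ↥(P : Subgroup G) => (s : G)) h1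
        simpa [hgS] using this
      have : i = n - 1 := by omega
      rw [hi, this]
    have hoa' : orderOf gS = N := by rw [hoa, hN]
    have hi : (Subgroup.zpowers gS).index = 2 := by
      have h1 := Subgroup.index_mul_card (Subgroup.zpowers gS)
      rw [Nat.card_zpowers, hoa, hP] at h1
      have h2 : 2 ^ n = 2 * 2 ^ (n - 1) := by
        rw [← pow_succ']
        congr 1
        omega
      have h3 : 0 < 2 ^ (n - 1) := by positivity
      rw [h2] at h1
      exact Nat.eq_of_mul_eq_mul_right h3 h1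
    obtain ⟨b, hb⟩ := Cfsg.Agent.S4399.exists_not_mem_of_index_two hi
    obtain ⟨k, hk⟩ := exists_exponent hi b
    have hndvd : ¬ N ∣ k := by
      have := not_dvd_of_nonabelian hna hi hb hk
      rwa [hoa'] at this
    have hcop : Nat.Coprime (k + 1) N := by
      rw [hN]
      exact coprime_of_conj hoa hk
    haveI : NeZero N := ⟨hN0.ne'⟩
    obtain ⟨σ, hσ⟩ := CAut.exists_ringEquiv_pow N (k + 1) hcop
    have hgN : g ^ N = 1 := by
      have h1 : gS ^ N = 1 := by
        rw [← hoa']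
        exact pow_orderOf_eq_one gS
      have := congrArg (fun s : ↥(P : Subgroup G) => (s : G)) h1
      simpa [hgS] using this
    have hbg : (b : G) * g * (b : G)⁻¹ = g ^ (k + 1) := by
      have := congrArg (fun s : ↥(P : Subgroup G) => (s : G)) hk
      simpa [hgS] using this
    have h1 : ∀ χ : Cfsg.IrrCharacter G, σ ((χ : G → ℂ) g) = (χ : G → ℂ) g := by
      intro χ
      rw [PConj2.ringEquiv_character_pow hN0.ne' σ hσ (IsIrrCharacter.isCharacter χ.2) g hgN,
        ← hbg]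
      exact ((isConj_iff_forall_irr g ((b : G) * g * (b : G)⁻¹)).mp
        (isConj_iff.mpr ⟨(b : G), rfl⟩) χ).symm
    have h2 := hfix σ h1
    have hσζ : σ ζ = ζ ^ (k + 1) := hσ ζ hζ.pow_eq_one
    rw [hσζ] at h2
    have ht0 : ζ ^ (k + 1) ≠ 0 := pow_ne_zero _ hζ0
    have hk4 : k % 4 = 2 := by
      rcases add_inv_cases ht0 hζ0 h2 with h3 | h3
      · exfalso
        apply hndvd
        rw [← hζ.pow_eq_one_iff_dvd]
        have h4 : ζ ^ k * ζ = 1 * ζ := by
          rw [← pow_succ, one_mul]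
          exact h3
        exact mul_right_cancel₀ hζ0 h4
      · rw [← pow_succ] at h3
        rcases hs with h | h
        · rw [h] at h3
          have h5 : N ∣ k + 1 + 1 := (hζ.pow_eq_one_iff_dvd _).mp h3
          have h6 := h4N.trans h5
          omega
        · rw [h] at h3
          have h5 : ζ ^ (k + 1 + 1 + M) = 1 := by
            rw [pow_add, h3, hζM]
            norm_num
          have h6 : N ∣ k + 1 + 1 + M := (hζ.pow_eq_one_iff_dvd _).mp h5
          have h7 := h4N.trans h6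
          omega
    rw [index_commutator_eq hi hb hk, hoa, gcd_of_mod_four (by omega) hk4]

end main

/-- Let G be a finite group with Sylow 2-subgroup P of order 2^n ≥ 8, and let ζ be a primitive 2^(n−1)-th root of unity in ℂ. Then the commutator subgroup of P has index 4 in P if and only if there is an element g of P whose conjugacy class in G has even size and such that the field generated over ℚ by the values at g of all irreducible complex characters of G equals ℚ(ζ + ζ⁻¹) or ℚ(ζ − ζ⁻¹). -/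
theorem result {G : Type*} [Group G] [Finite G] (P : Sylow 2 G) (n : ℕ) (hn : 3 ≤ n) (hP : Nat.card P = 2 ^ n) (ζ : ℂ) (hζ : IsPrimitiveRoot ζ (2 ^ (n - 1))) :
    (commutator ↥P).index = 4 ↔
      ∃ g : G, g ∈ (P : Subgroup G) ∧ 2 ∣ (Subgroup.centralizer ({g} : Set G)).index ∧
        (IntermediateField.adjoin ℚ {z : ℂ | ∃ χ : Cfsg.IrrCharacter G, (χ : G → ℂ) g = z} = IntermediateField.adjoin ℚ ({ζ + ζ⁻¹} : Set ℂ) ∨
          IntermediateField.adjoin ℚ {z : ℂ | ∃ χ : Cfsg.IrrCharacter G, (χ : G → ℂ) g = z} = IntermediateField.adjoin ℚ ({ζ - ζ⁻¹} : Set ℂ)) := by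
  constructor
  · intro h4
    exact forward P n hn hP ζ hζ h4
  · rintro ⟨g, hg, heven, hK⟩
    exact backward P n hn hP ζ hζ g hg heven hK

end Cfsg.Agent.S4923
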