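import Cfsg.Statements.S4955
import Mathlib
import Cfsg.Agent.Lib.Helper8.PReg3
import Cfsg.Agent.Lib.Helper3.ClassBound
import Cfsg.Agent.Lib.Helper3.CharQuot
import Cfsg.Agent.Lib.Helper6.Ito
import Cfsg.Agent.Lib.Helper6.BlkPrincipalSum
import Cfsg.Agent.Lib.Helper6.ClassCount

set_option autoImplicit false
open Cfsg

namespace Cfsg.Agent.S4955

open Cfsg.Agent.Lib.Helper6 in
/-- conjugacy classes of isomorphic groups -/
noncomputable def conjClassesEquiv {α β : Type*} [Group α] [Group β] (e : α ≃* β) :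
    ConjClasses α ≃ ConjClasses β where
  toFun := ConjClasses.map e.toMonoidHom
  invFun := ConjClasses.map e.symm.toMonoidHom
  left_inv := by
    intro c
    induction c using Quotient.inductionOn with
    | _ a =>
      show ConjClasses.mk (e.symm (e a)) = ConjClasses.mk a
      rw [MulEquiv.symm_apply_apply]
  right_inv := by
    intro c
    induction c using Quotient.inductionOn with
    | _ a =>
      show ConjClasses.mk (e (e.symm a)) = ConjClasses.mk a
      rw [MulEquiv.apply_symm_apply]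

open Cfsg.Agent.Lib.Helper6 in
/-- the irreducible characters with `V` in the kernel are counted by the classes of `X ⧸ V` -/
theorem card_kernel_ge {X : Type*} [Group X] [Finite X] (V : Subgroup X) [V.Normal] :
    Nat.card {χ : Cfsg.IrrCharacter X // ∀ n ∈ V, (χ : X → ℂ) n = (χ : X → ℂ) 1}
      = Nat.card (ConjClasses (X ⧸ V)) := by
  classical
  haveI : Fintype X := Fintype.ofFinite X
  haveI : Fintype (X ⧸ V) := Fintype.ofFinite _
  rw [← card_irrCharacter]
  symm
  let f : Cfsg.IrrCharacter (X ⧸ V) →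
      {χ : Cfsg.IrrCharacter X // ∀ n ∈ V, (χ : X → ℂ) n = (χ : X → ℂ) 1} := fun β =>
    ⟨⟨fun g => (β : X ⧸ V → ℂ) (QuotientGroup.mk g), IsIrrCharacter.comp_mk V β.2⟩, by
      intro n hn
      show (β : X ⧸ V → ℂ) (QuotientGroup.mk n) = (β : X ⧸ V → ℂ) (QuotientGroup.mk 1)
      rw [(QuotientGroup.eq_one_iff n).mpr hn, QuotientGroup.mk_one]⟩
  have hinj : Function.Injective f := by
    intro β β' h
    apply Subtype.ext
    funext q
    obtain ⟨g, rfl⟩ := QuotientGroup.mk_surjective q
    have := congrArg (fun χ : {χ : Cfsg.IrrCharacter X //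
      ∀ n ∈ V, (χ : X → ℂ) n = (χ : X → ℂ) 1} => (χ.1 : X → ℂ) g) h
    exact this
  have hsurj : Function.Surjective f := by
    rintro ⟨χ, hχ⟩
    obtain ⟨β, hβ, hχβ⟩ := Cfsg.Agent.Lib.Helper3.CharQuot.exists_irr_quot V χ.2 hχ
    refine ⟨⟨β, hβ⟩, ?_⟩
    apply Subtype.ext
    apply Subtype.ext
    exact hχβ.symm
  exact Nat.card_congr (Equiv.ofBijective f ⟨hinj, hsurj⟩)

/-- the order of the centralizer of `v ∈ V` -/
theorem card_centralizer {X : Type*} [Group X] [Finite X] (V : Subgroup X)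
    (hab : ∀ a ∈ V, ∀ b ∈ V, a * b = b * a) (G : Subgroup X)
    (hGV : Subgroup.IsComplement' V G) (v : X) (hv : v ∈ V) :
    Nat.card (Subgroup.centralizer ({v} : Set X))
      = Nat.card V * Nat.card ↥(G ⊓ Subgroup.centralizer ({v} : Set X)) := by
  classical
  have hVc : ∀ a ∈ V, a ∈ Subgroup.centralizer ({v} : Set X) := by
    intro a ha
    rw [Subgroup.mem_centralizer_singleton_iff]
    exact hab a ha v hv
  let e : V × G ≃ X := Equiv.ofBijective _ hGV
  have he : ∀ x : V × G, e x = (x.1 : X) * (x.2 : X) := fun x => rfl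
  rw [← Nat.card_prod]
  symm
  refine Nat.card_congr ?_
  refine
    { toFun := fun x => ⟨(x.1 : X) * (x.2 : X), ?_⟩
      invFun := fun c => ((e.symm c).1, ⟨((e.symm (c : X)).2 : X), ?_⟩)
      left_inv := ?_
      right_inv := ?_ }
  · exact Subgroup.mul_mem _ (hVc _ x.1.2) x.2.2.2
  · refine ⟨(e.symm (c : X)).2.2, ?_⟩
    have h1 : ((e.symm (c : X)).1 : X) * ((e.symm (c : X)).2 : X) = c := by
      rw [← he, Equiv.apply_symm_apply]
    have h2 : ((e.symm (c : X)).2 : X) = ((e.symm (c : X)).1 : X)⁻¹ * c :=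
      eq_inv_mul_of_mul_eq h1
    rw [h2]
    exact Subgroup.mul_mem _ (Subgroup.inv_mem _ (hVc _ (e.symm (c : X)).1.2)) c.2
  · rintro ⟨a, g⟩
    have h1 : e.symm ((a : X) * ((g : X))) = (a, ⟨(g : X), g.2.1⟩) := by
      rw [Equiv.symm_apply_eq, he]
    apply Prod.ext
    · simp only [h1]
    · apply Subtype.ext
      simp only [h1]
  · intro c
    apply Subtype.ext
    show ((e.symm (c : X)).1 : X) * ((e.symm (c : X)).2 : X) = c
    rw [← he, Equiv.apply_symm_apply]

/-- Let X be a finite group with an abelian normal Sylow p-subgroup V (a normal p-subgroup of index prime to p in which any two elements commute), and let G be a complement to V in X. Then for every v in V, writing C for the centralizer of v in G, the number k(X) of conjugacy classes of X satisfies k(X) ≤ (order of C)·(order of V) − ((order of G) − k(G)); the statement is written with the subtracted term moved to the left. In particular, if some v in V is centralized by no nonidentity element of G, then k(X) is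 at most the order of V. -/
theorem result {X : Type*} [Group X] [Finite X] (p : ℕ) [Fact p.Prime] (V : Subgroup X) [V.Normal] (hVp : IsPGroup p V) (hidx : ¬ p ∣ V.index) (hab : ∀ a ∈ V, ∀ b ∈ V, a * b = b * a) (G : Subgroup X) (hGV : Subgroup.IsComplement' V G) (v : X) (hv : v ∈ V) : Nat.card (ConjClasses X) + Nat.card G ≤ Nat.card ↥(G ⊓ Subgroup.centralizer ({v} : Set X)) * Nat.card V + Nat.card (ConjClasses G) := by
  classical
  haveI : Fintype X := Fintype.ofFinite X
  haveI : Fintype (Cfsg.IrrCharacter X) := Fintype.ofFinite _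
  haveI : NeZero (Nat.card X) := ⟨Nat.card_pos.ne'⟩
  -- nonvanishing at `v`
  have hne : ∀ χ : Cfsg.IrrCharacter X, (χ : X → ℂ) v ≠ 0 := by
    intro χ
    obtain ⟨d, hd1, hd⟩ := Cfsg.Agent.Lib.Helper6.ito_aux _ X rfl V inferInstance hab χ χ.2
    obtain ⟨k, hk⟩ := hVp ⟨v, hv⟩
    have hk' : v ^ (p ^ k) = 1 := by
      have := congrArg (fun z : V => (z : X)) hk
      simpa using this
    exact Cfsg.Agent.Lib.Helper8.PReg.apply_ne_zero_of_not_dvd p
      (Cfsg.Agent.Lib.Helper6.IsIrrCharacter.isCharacter χ.2) hd1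
      (fun h => hidx (h.trans hd)) hk'
  set U := (ZMod (Nat.card X))ˣ with hU
  set S : Cfsg.IrrCharacter X → ℝ := fun χ =>
    ∑ k : U, ‖(χ : X → ℂ) (v ^ (k : ZMod (Nat.card X)).val)‖ ^ 2 with hS
  set cX : ℝ := (Nat.card (Subgroup.centralizer ({v} : Set X)) : ℝ) with hcX
  have hUpos : (0 : ℝ) < Fintype.card U := by
    have : 0 < Fintype.card U := Fintype.card_pos
    exact_mod_cast this
  have htot : ∑ χ : Cfsg.IrrCharacter X, S χ = (Fintype.card U : ℝ) * cX := by
    rw [hS]
    simp only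
    rw [Finset.sum_comm]
    rw [Finset.sum_congr rfl (fun k _ =>
      Cfsg.Agent.Lib.Helper3.ClassBound.sum_irr_norm_sq_pow v _ (ZMod.val_coe_unit_coprime k))]
    rw [Finset.sum_const, Finset.card_univ, nsmul_eq_mul]
  set A : Cfsg.IrrCharacter X → Prop := fun χ => ∀ n ∈ V, (χ : X → ℂ) n = (χ : X → ℂ) 1 with hA
  have hSA : ∀ χ, A χ → S χ = (Fintype.card U : ℝ) * ‖(χ : X → ℂ) 1‖ ^ 2 := by
    intro χ hχ
    rw [hS]
    simp only
    rw [Finset.sum_congr rfl (fun k _ => by rw [hχ _ (Subgroup.pow_mem V hv _)]),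
      Finset.sum_const, Finset.card_univ, nsmul_eq_mul]
  have hSB : ∀ χ, ¬ A χ → (Fintype.card U : ℝ) ≤ S χ := by
    intro χ _
    exact Cfsg.Agent.Lib.Helper3.GaloisNorm.character_card_le_sum_norm_sq
      (Cfsg.Agent.Lib.Helper6.IsIrrCharacter.isCharacter χ.2) v (Nat.card X) pow_card_eq_one'
      (hne χ)
  have hsq : ∑ χ ∈ Finset.univ.filter A, ‖(χ : X → ℂ) 1‖ ^ 2 = (V.index : ℝ) := by
    have h1 := Cfsg.Agent.Lib.Helper6.sum_sq_degree_of_kernel_ge (G := X) V
    have h2 : ∀ χ : Cfsg.IrrCharacter X, (χ : X → ℂ) 1 * (χ : X → ℂ) 1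
        = ((‖(χ : X → ℂ) 1‖ ^ 2 : ℝ) : ℂ) := by
      intro χ
      rw [Cfsg.Agent.Lib.Helper6.IsCharacter.apply_one_eq_charDegree
        (Cfsg.Agent.Lib.Helper6.IsIrrCharacter.isCharacter χ.2)]
      simp [sq]
    rw [Finset.sum_congr rfl (fun χ _ => h2 χ)] at h1
    have h3 : ((∑ χ ∈ Finset.univ.filter A, ‖(χ : X → ℂ) 1‖ ^ 2 : ℝ) : ℂ)
        = ((V.index : ℝ) : ℂ) := by
      push_cast
      push_cast at h1
      exact h1
    exact_mod_cast h3
  have hsplit : ∑ χ : Cfsg.IrrCharacter X, S χ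
      = ∑ χ ∈ Finset.univ.filter A, S χ + ∑ χ ∈ Finset.univ.filter (fun χ => ¬ A χ), S χ :=
    (Finset.sum_filter_add_sum_filter_not Finset.univ A S).symm
  have hsumA : ∑ χ ∈ Finset.univ.filter A, S χ = (Fintype.card U : ℝ) * (V.index : ℝ) := by
    rw [Finset.sum_congr rfl (fun χ hχ => hSA χ (Finset.mem_filter.mp hχ).2), ← Finset.mul_sum,
      hsq]
  have hsumB : (Fintype.card U : ℝ) * ((Finset.univ.filter (fun χ => ¬ A χ)).card : ℝ)
      ≤ ∑ χ ∈ Finset.univ.filter (fun χ => ¬ A χ), S χ := by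
    calc (Fintype.card U : ℝ) * ((Finset.univ.filter (fun χ => ¬ A χ)).card : ℝ)
        = ∑ _χ ∈ Finset.univ.filter (fun χ => ¬ A χ), (Fintype.card U : ℝ) := by
          rw [Finset.sum_const, nsmul_eq_mul, mul_comm]
      _ ≤ _ := Finset.sum_le_sum (fun χ hχ => hSB χ (Finset.mem_filter.mp hχ).2)
  have hkey : (V.index : ℝ) + ((Finset.univ.filter (fun χ => ¬ A χ)).card : ℝ) ≤ cX := by
    have h1 : (Fintype.card U : ℝ) * ((V.index : ℝ)
        + ((Finset.univ.filter (fun χ => ¬ A χ)).card : ℝ)) ≤ (Fintype.card U : ℝ) * cX := by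
      rw [← htot, hsplit, hsumA, mul_add]
      linarith
    exact le_of_mul_le_mul_left h1 hUpos
  -- counting
  have hcardA : (Finset.univ.filter A).card = Nat.card (ConjClasses G) := by
    rw [← Fintype.card_subtype, ← Nat.card_eq_fintype_card, card_kernel_ge V]
    exact Nat.card_congr (conjClassesEquiv hGV.symm.QuotientMulEquiv)
  have hcardX : Nat.card (ConjClasses X)
      = (Finset.univ.filter A).card + (Finset.univ.filter (fun χ => ¬ A χ)).card := by
    rw [← Cfsg.Agent.Lib.Helper6.card_irrCharacter, Nat.card_eq_fintype_card,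
      ← Finset.card_univ]
    exact (Finset.card_filter_add_card_filter_not A).symm
  have hidxG : V.index = Nat.card G := hGV.symm.index_eq_card
  have hcent := card_centralizer V hab G hGV v hv
  have hkeyN : V.index + (Finset.univ.filter (fun χ => ¬ A χ)).card
      ≤ Nat.card (Subgroup.centralizer ({v} : Set X)) := by
    have : ((V.index + (Finset.univ.filter (fun χ => ¬ A χ)).card : ℕ) : ℝ)
        ≤ ((Nat.card (Subgroup.centralizer ({v} : Set X)) : ℕ) : ℝ) := by
      push_cast
      exact hkey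
    exact_mod_cast this
  rw [hcardX, hcardA, ← hidxG, mul_comm, ← hcent]
  omega

end Cfsg.Agent.S4955
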