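import Cfsg.Statements.S4956
import Mathlib
import Cfsg.Agent.Lib.Lead.SEInvol

set_option autoImplicit false
open Cfsg

namespace Cfsg.Agent.S4956


section abstract

variable {M : Type*} [CommGroup M] [Finite M] (α β : M →* M)

/-- `D m = m / α m` -/
abbrev Dm (α : M →* M) : M →* M := MonoidHom.id M / α

theorem Dm_apply (m : M) : Dm α m = m / α m := rfl

theorem mem_ker_Dm (m : M) : m ∈ (Dm α).ker ↔ α m = m := by
  rw [MonoidHom.mem_ker, Dm_apply, div_eq_one, eq_comm]

theorem ker_inf_range (k : ℕ) (hk : ∀ m, α^[k] m = m) (hcop : k.Coprime (Nat.card M)) :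
    (Dm α).ker ⊓ (Dm α).range = ⊥ := by
  rw [eq_bot_iff]
  rintro u ⟨hu1, ⟨v, rfl⟩⟩
  have hu1 : α (Dm α v) = Dm α v := (mem_ker_Dm α _).1 hu1
  set u := Dm α v with hu
  have hαv : α v = v / u := by
    rw [hu, Dm_apply]
    simp
  have hiter : ∀ j : ℕ, α^[j] v = v / u ^ j := by
    intro j
    induction j with
    | zero => simp
    | succ j ih =>
      rw [Function.iterate_succ_apply', ih, map_div, map_pow, hu1, hαv, pow_succ]
      simp [div_div, mul_comm]
  have h1 : u ^ k = 1 := by
    have := hiter k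
    rw [hk] at this
    have h2 : v / u ^ k = v / 1 := by rw [← this]; simp
    exact div_right_injective h2
  have h2 : u ^ Nat.card M = 1 := pow_card_eq_one'
  rw [Subgroup.mem_bot]
  have h3 : orderOf u ∣ k := orderOf_dvd_of_pow_eq_one h1
  have h4 : orderOf u ∣ Nat.card M := orderOf_dvd_of_pow_eq_one h2
  have h5 : orderOf u ∣ Nat.gcd k (Nat.card M) := Nat.dvd_gcd h3 h4
  rw [hcop] at h5
  exact orderOf_eq_one_iff.1 (Nat.dvd_one.1 h5)

theorem Dm_comm (hcomm : ∀ m, α (β m) = β (α m)) (x : M) :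
    Dm β (Dm α x) = Dm α (Dm β x) := by
  simp only [Dm_apply, map_div, hcomm]
  rw [div_div_div_comm]

theorem card_sol (hcomm : ∀ m, α (β m) = β (α m)) (k : ℕ) (hk : ∀ m, α^[k] m = m)
    (hcop : k.Coprime (Nat.card M)) :
    Nat.card {p : M × M // p.1 * α p.2 = p.2 * β p.1} =
      Nat.card M * Nat.card {u : M // α u = u ∧ β u = u} := by
  classical
  set D := Dm α with hD
  set E := Dm β with hE
  set K := D.ker with hK
  set I := D.range with hI
  set C : Subgroup M := K ⊓ E.ker with hC
  have hKI : K ⊓ I = ⊥ := ker_inf_range α k hk hcop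
  have hcardKI : Nat.card K * Nat.card I = Nat.card M := by
    rw [Subgroup.card_eq_card_quotient_mul_card_subgroup K,
      Nat.card_congr (QuotientGroup.quotientKerEquivRange D).toEquiv, mul_comm]
  have hcompl : Subgroup.IsComplement' K I :=
    Subgroup.isComplement'_of_card_mul_and_disjoint hcardKI (disjoint_iff.2 hKI)
  have hsol : ∀ p : M × M, p.1 * α p.2 = p.2 * β p.1 ↔ E p.1 = D p.2 := by
    intro p
    rw [hE, hD, Dm_apply, Dm_apply, div_eq_div_iff_mul_eq_mul]
  have hEI : ∀ i ∈ I, E i ∈ I := by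
    rintro _ ⟨x, rfl⟩
    exact ⟨E x, (Dm_comm α β hcomm x).symm⟩
  have hEK : ∀ κ ∈ K, E κ ∈ K := by
    intro κ hκ
    rw [hK, mem_ker_Dm] at hκ ⊢
    rw [hE, Dm_apply, map_div, hcomm, hκ]
  -- T ≃ C × I
  set T : Subgroup M := I.comap E with hT
  have hTcard : Nat.card T = Nat.card C * Nat.card I := by
    rw [← Nat.card_prod]
    symm
    apply Nat.card_congr
    refine Equiv.ofBijective (fun ci : C × I => (⟨ci.1.1 * ci.2.1, ?_⟩ : T)) ⟨?_, ?_⟩
    · rw [hT, Subgroup.mem_comap, map_mul]
      have : E ci.1.1 = 1 := ci.1.2.2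
      rw [this, one_mul]
      exact hEI _ ci.2.2
    · rintro ⟨c, i⟩ ⟨c', i'⟩ h
      have h1 : c.1 * i.1 = c'.1 * i'.1 := congrArg Subtype.val h
      have h2 : c'.1⁻¹ * c.1 = i'.1 * i.1⁻¹ := by
        rw [inv_mul_eq_iff_eq_mul, ← mul_assoc, ← h1, mul_assoc, mul_inv_cancel, mul_one]
      have h3 : c'.1⁻¹ * c.1 ∈ K ⊓ I := by
        refine ⟨K.mul_mem (K.inv_mem c'.2.1) c.2.1, ?_⟩
        rw [h2]
        exact I.mul_mem i'.2 (I.inv_mem i.2)
      rw [hKI, Subgroup.mem_bot] at h3
      have h4 : c.1 = c'.1 := by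
        rw [inv_mul_eq_one] at h3
        exact h3.symm
      have h5 : i.1 = i'.1 := by
        rw [h4] at h1
        exact mul_left_cancel h1
      exact Prod.ext (Subtype.ext h4) (Subtype.ext h5)
    · rintro ⟨v, hv⟩
      obtain ⟨⟨κ, i⟩, hκi, -⟩ := (Subgroup.isComplement'_def.1 hcompl).existsUnique v
      have hκi' : κ.1 * i.1 = v := hκi
      have hEκ : E κ.1 ∈ K ⊓ I := by
        refine ⟨hEK _ κ.2, ?_⟩
        have h1 : E v ∈ I := hv
        rw [← hκi', map_mul] at h1
        have := I.mul_mem h1 (I.inv_mem (hEI _ i.2))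
        rwa [mul_inv_cancel_right] at this
      rw [hKI, Subgroup.mem_bot] at hEκ
      exact ⟨(⟨κ.1, κ.2, hEκ⟩, i), Subtype.ext hκi'⟩
  -- Sol ≃ T × K
  have hchoice : ∀ v : T, ∃ w : M, D w = E v.1 := fun v => v.2
  choose wv hwv using hchoice
  have hSolcard : Nat.card {p : M × M // p.1 * α p.2 = p.2 * β p.1} = Nat.card T * Nat.card K := by
    rw [← Nat.card_prod]
    apply Nat.card_congr
    have hmemT : ∀ p : {p : M × M // p.1 * α p.2 = p.2 * β p.1}, p.1.1 ∈ T :=
      fun p => ⟨p.1.2, ((hsol p.1).1 p.2).symm⟩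
    refine
      { toFun := fun p => (⟨p.1.1, hmemT p⟩, ⟨p.1.2 / wv ⟨p.1.1, hmemT p⟩, ?_⟩)
        invFun := fun vk => ⟨(vk.1.1, vk.2.1 * wv vk.1), ?_⟩
        left_inv := ?_
        right_inv := ?_ }
    · rw [hK, MonoidHom.mem_ker, map_div, hwv]
      simp only
      rw [(hsol p.1).1 p.2, div_self']
    · rw [hsol]
      simp only
      rw [map_mul, hwv]
      have : D vk.2.1 = 1 := vk.2.2
      rw [this, one_mul]
    · rintro ⟨⟨v, w⟩, hp⟩
      simp
    · rintro ⟨⟨v, hv⟩, ⟨κ, hκ⟩⟩
      simp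
  have hCcard : Nat.card C = Nat.card {u : M // α u = u ∧ β u = u} := by
    apply Nat.card_congr
    refine Equiv.subtypeEquivRight fun u => ?_
    rw [hC, Subgroup.mem_inf, hK, mem_ker_Dm, mem_ker_Dm]
  rw [hSolcard, hTcard, ← hCcard, ← hcardKI]
  ring

end abstract

section concrete

variable {X : Type*} [Group X] [Finite X] (V : Subgroup X) [hVn : V.Normal]

theorem conjNormal_iterate (a : X) (j : ℕ) (u : V) :
    (((MulAut.conjNormal (H := V) a).toMonoidHom)^[j] u : X) = a ^ j * u * (a ^ j)⁻¹ := by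
  induction j with
  | zero => simp
  | succ j ih =>
    rw [Function.iterate_succ_apply']
    show ((MulAut.conjNormal (H := V) a) _ : X) = _
    rw [MulAut.conjNormal_apply, ih, pow_succ']
    group

theorem card_pairs_eq (hab : ∀ a ∈ V, ∀ b ∈ V, a * b = b * a) (a b : X) (hcomm : a * b = b * a)
    (hcop : (orderOf a).Coprime (Nat.card V)) :
    Nat.card {p : V × V // ((p.1 : X) * a) * ((p.2 : X) * b) = ((p.2 : X) * b) * ((p.1 : X) * a)} =
      Nat.card V * Nat.card {u : V // a * (u : X) = u * a ∧ b * (u : X) = u * b} := by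
  letI : CommGroup ↥V := @CommGroup.mk ↥V inferInstance
    (fun x y => Subtype.ext (hab x.1 x.2 y.1 y.2))
  set α : V →* V := (MulAut.conjNormal (H := V) a).toMonoidHom with hα
  set β : V →* V := (MulAut.conjNormal (H := V) b).toMonoidHom with hβ
  have hαapp : ∀ u : V, ((α u : V) : X) = a * u * a⁻¹ := fun u => MulAut.conjNormal_apply a u
  have hβapp : ∀ u : V, ((β u : V) : X) = b * u * b⁻¹ := fun u => MulAut.conjNormal_apply b u
  have hc : ∀ m, α (β m) = β (α m) := by
    intro m
    apply Subtype.ext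
    rw [hαapp, hβapp, hβapp, hαapp]
    have e1 : a * (b * ↑m * b⁻¹) * a⁻¹ = (a * b) * ↑m * (a * b)⁻¹ := by group
    have e2 : b * (a * ↑m * a⁻¹) * b⁻¹ = (b * a) * ↑m * (b * a)⁻¹ := by group
    rw [e1, e2, hcomm]
  have hk : ∀ m, α^[orderOf a] m = m := by
    intro m
    apply Subtype.ext
    rw [hα, conjNormal_iterate, pow_orderOf_eq_one]
    simp
  have h1 := card_sol α β hc (orderOf a) hk hcop
  have e1 : {p : V × V // ((p.1 : X) * a) * ((p.2 : X) * b) = ((p.2 : X) * b) * ((p.1 : X) * a)} ≃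
      {p : V × V // p.1 * α p.2 = p.2 * β p.1} := by
    refine Equiv.subtypeEquivRight fun p => ?_
    constructor
    · intro h
      apply Subtype.ext
      rw [Subgroup.coe_mul, Subgroup.coe_mul, hαapp, hβapp]
      have e : (p.1 : X) * (a * ↑p.2 * a⁻¹) = ((p.1 : X) * a) * ((p.2 : X) * b) * (a * b)⁻¹ := by
        group
      have e' : (p.2 : X) * (b * ↑p.1 * b⁻¹) = ((p.2 : X) * b) * ((p.1 : X) * a) * (b * a)⁻¹ := by
        group
      rw [e, e', h, hcomm]
    · intro h
      have h' := congrArg (fun u : V => (u : X)) h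
      simp only [Subgroup.coe_mul] at h'
      rw [hαapp, hβapp] at h'
      have e : ((p.1 : X) * a) * ((p.2 : X) * b) = (p.1 : X) * (a * ↑p.2 * a⁻¹) * (a * b) := by
        group
      have e' : ((p.2 : X) * b) * ((p.1 : X) * a) = (p.2 : X) * (b * ↑p.1 * b⁻¹) * (b * a) := by
        group
      rw [e, e', h', hcomm]
  have e2 : {u : V // a * (u : X) = u * a ∧ b * (u : X) = u * b} ≃
      {u : V // α u = u ∧ β u = u} := by
    refine Equiv.subtypeEquivRight fun u => ?_
    have hh : ∀ (c : X) (γ : V →* V) (hγ : ∀ u : V, ((γ u : V) : X) = c * u * c⁻¹),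
        c * (u : X) = u * c ↔ γ u = u := by
      intro c γ hγ
      constructor
      · intro h
        apply Subtype.ext
        rw [hγ, h]; group
      · intro h
        have h' : ((γ u : V) : X) = (u : X) := congrArg (fun u : V => (u : X)) h
        rw [hγ] at h'
        calc c * (u : X) = (c * u * c⁻¹) * c := by group
          _ = u * c := by rw [h']
    rw [hh a α hαapp, hh b β hβapp]
  rw [Nat.card_congr e1, h1, Nat.card_congr e2]

end concrete

/-- splitting a count over pairs of `X ≃ A × B` along the `B`-components -/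
theorem card_subtype_prod_equiv {A B X : Type*} [Finite A] [Fintype B] (e : A × B ≃ X)
    (P : X × X → Prop) :
    Nat.card {q : X × X // P q} =
      ∑ ab : B × B, Nat.card {p : A × A // P (e (p.1, ab.1), e (p.2, ab.2))} := by
  let g : (B × B) × (A × A) ≃ X × X :=
    { toFun := fun r => (e (r.2.1, r.1.1), e (r.2.2, r.1.2))
      invFun := fun q => (((e.symm q.1).2, (e.symm q.2).2), ((e.symm q.1).1, (e.symm q.2).1))
      left_inv := fun r => by simp
      right_inv := fun q => by simp }
  have e1 : {q : X × X // P q} ≃ {r : (B × B) × (A × A) // P (g r)} :=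
    (g.subtypeEquiv (p := fun r => P (g r)) (q := P) (fun _ => Iff.rfl)).symm
  have e2 : {r : (B × B) × (A × A) // P (g r)} ≃
      Σ ab : B × B, {vw : A × A // P (g (ab, vw))} :=
    Equiv.subtypeProdEquivSigmaSubtype (fun (ab : B × B) (vw : A × A) => P (g (ab, vw)))
  rw [Nat.card_congr (e1.trans e2), Nat.card_sigma]
  rfl

/-- double counting over a product -/
theorem sum_card_subtype_comm {A B : Type*} [Fintype A] [Fintype B] (R : A → B → Prop) :
    ∑ a : A, Nat.card {b : B // R a b} = ∑ b : B, Nat.card {a : A // R a b} := by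
  have e1 : (Σ a : A, {b : B // R a b}) ≃ {x : A × B // R x.1 x.2} :=
    (Equiv.subtypeProdEquivSigmaSubtype R).symm
  have e2 : {x : A × B // R x.1 x.2} ≃ {y : B × A // R y.2 y.1} :=
    (Equiv.prodComm A B).subtypeEquiv (fun _ => Iff.rfl)
  have e3 : {y : B × A // R y.2 y.1} ≃ Σ b : B, {a : A // R a b} :=
    Equiv.subtypeProdEquivSigmaSubtype (fun (b : B) (a : A) => R a b)
  rw [← Nat.card_sigma, ← Nat.card_sigma]
  exact Nat.card_congr (e1.trans (e2.trans e3))

section main

variable {X : Type*} [Group X] [Finite X]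

/-- commuting pairs transported along a group isomorphism -/
theorem card_commPairs_congr {H₁ H₂ : Type*} [Group H₁] [Group H₂] (f : H₁ ≃* H₂) :
    Nat.card {p : H₁ × H₁ // Commute p.1 p.2} = Nat.card {p : H₂ × H₂ // Commute p.1 p.2} := by
  apply Nat.card_congr
  refine (f.toEquiv.prodCongr f.toEquiv).subtypeEquiv ?_
  rintro ⟨x, y⟩
  simp only [Equiv.prodCongr_apply, MulEquiv.coe_toEquiv, Prod.map_apply]
  constructor
  · intro h; exact h.map f
  · intro h
    have := h.map f.symm
    simpa using this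

theorem result' (V : Subgroup X) [V.Normal] (hab : ∀ a ∈ V, ∀ b ∈ V, a * b = b * a)
    (G : Subgroup X) (hGV : Subgroup.IsComplement' V G)
    (hcop : (Nat.card V).Coprime (Nat.card G)) (S : Finset X) (hSV : ∀ s ∈ S, s ∈ V)
    (hrep : ∀ v ∈ V, ∃! s, s ∈ S ∧ ∃ g ∈ G, g * v * g⁻¹ = s) :
    Nat.card (ConjClasses X) =
      ∑ s ∈ S, Nat.card (ConjClasses ↥(G ⊓ Subgroup.centralizer ({s} : Set X))) := by
  classical
  haveI : Fintype G := Fintype.ofFinite G
  haveI : Fintype V := Fintype.ofFinite V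
  let e : V × G ≃ X := Equiv.ofBijective (fun x => x.1.1 * x.2.1) hGV
  have heapp : ∀ (v : V) (g : G), e (v, g) = (v : X) * g := fun v g => rfl
  have hdisj : ∀ x : X, x ∈ V → x ∈ G → x = 1 := by
    intro x hxV hxG
    have := hGV.disjoint
    rw [Subgroup.disjoint_def] at this
    exact this hxV hxG
  -- step 1: split along G × G
  have h1 := card_subtype_prod_equiv e (fun q : X × X => Commute q.1 q.2)
  simp only [heapp] at h1
  -- step 2: each fibre
  let R : G × G → V → Prop := fun ab u =>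
    (ab.1 : X) * ab.2 = ab.2 * ab.1 ∧ (ab.1 : X) * (u : X) = u * ab.1 ∧ (ab.2 : X) * (u : X) = u * ab.2
  have h2 : ∀ ab : G × G,
      Nat.card {p : V × V // Commute ((p.1 : X) * (ab.1 : X)) ((p.2 : X) * (ab.2 : X))} =
        Nat.card V * Nat.card {u : V // R ab u} := by
    rintro ⟨a, b⟩
    by_cases hc : (a : X) * b = b * a
    · have hco : (orderOf (a : X)).Coprime (Nat.card V) := by
        have h3 : orderOf (a : X) ∣ Nat.card G := by
          rw [Subgroup.orderOf_coe]; exact orderOf_dvd_natCard a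
        exact (Nat.Coprime.coprime_dvd_left h3 hcop.symm)
      have h4 := card_pairs_eq V hab (a : X) (b : X) hc hco
      have e1 : {u : V // R (a, b) u} ≃
          {u : V // (a : X) * (u : X) = u * a ∧ (b : X) * (u : X) = u * b} :=
        Equiv.subtypeEquivRight fun u => ⟨fun h => h.2, fun h => ⟨hc, h⟩⟩
      rw [Nat.card_congr e1, ← h4]
      rfl
    · have hE1 : IsEmpty {p : V × V // Commute ((p.1 : X) * (a : X)) ((p.2 : X) * (b : X))} := by
        constructor
        rintro ⟨⟨v, w⟩, hp⟩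
        apply hc
        have hp' : (v : X) * a * ((w : X) * b) = (w : X) * b * ((v : X) * a) := hp
        have hV1 : (a : X) * w * (a : X)⁻¹ ∈ V := Subgroup.Normal.conj_mem inferInstance _ w.2 _
        have hV2 : (b : X) * v * (b : X)⁻¹ ∈ V := Subgroup.Normal.conj_mem inferInstance _ v.2 _
        have hx : ((a : X) * b) * ((b : X) * a)⁻¹ =
            ((v : X) * ((a : X) * w * (a : X)⁻¹))⁻¹ * ((w : X) * ((b : X) * v * (b : X)⁻¹)) := by
          have e1 : (v : X) * a * ((w : X) * b) = ((v : X) * ((a : X) * w * (a : X)⁻¹)) * (a * b) := by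
            group
          have e2 : (w : X) * b * ((v : X) * a) = ((w : X) * ((b : X) * v * (b : X)⁻¹)) * (b * a) := by
            group
          rw [e1, e2] at hp'
          rw [eq_inv_mul_iff_mul_eq, ← mul_assoc, hp', mul_assoc, mul_inv_cancel, mul_one]
        have h5 : ((a : X) * b) * ((b : X) * a)⁻¹ = 1 := by
          apply hdisj
          · rw [hx]
            exact V.mul_mem (V.inv_mem (V.mul_mem v.2 hV1)) (V.mul_mem w.2 hV2)
          · exact G.mul_mem (G.mul_mem a.2 b.2) (G.inv_mem (G.mul_mem b.2 a.2))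
        exact mul_inv_eq_one.1 h5
      have hE2 : IsEmpty {u : V // R (a, b) u} := by
        constructor
        rintro ⟨u, hu⟩
        exact hc hu.1
      rw [@Nat.card_of_isEmpty _ hE1, @Nat.card_of_isEmpty _ hE2, mul_zero]
  rw [Finset.sum_congr rfl (fun ab _ => h2 ab), ← Finset.mul_sum, sum_card_subtype_comm R] at h1
  -- step 3: the inner count is the number of commuting pairs of the centralizer
  let H : X → Subgroup X := fun x => G ⊓ Subgroup.centralizer ({x} : Set X)
  have hmemC : ∀ (a x : X), a ∈ Subgroup.centralizer ({x} : Set X) ↔ a * x = x * a :=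
    fun a x => Subgroup.mem_centralizer_singleton_iff
  have h3 : ∀ u : V, Nat.card {ab : G × G // R ab u} =
      Nat.card {p : H (u : X) × H (u : X) // Commute p.1 p.2} := by
    intro u
    apply Nat.card_congr
    refine
      { toFun := fun ab => ⟨(⟨ab.1.1.1, ab.1.1.2, ?_⟩, ⟨ab.1.2.1, ab.1.2.2, ?_⟩), ?_⟩
        invFun := fun p => ⟨(⟨p.1.1.1, p.1.1.2.1⟩, ⟨p.1.2.1, p.1.2.2.1⟩), ?_, ?_, ?_⟩
        left_inv := fun ab => rfl
        right_inv := fun p => rfl }
    · exact (hmemC _ _).2 ab.2.2.1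
    · exact (hmemC _ _).2 ab.2.2.2
    · rw [commute_iff_eq]
      exact Subtype.ext ab.2.1
    · have := p.2
      rw [commute_iff_eq] at this
      exact congrArg Subtype.val this
    · exact (hmemC _ _).1 p.1.1.2.2
    · exact (hmemC _ _).1 p.1.2.2.2
  rw [Finset.sum_congr rfl (fun u _ => h3 u)] at h1
  -- step 4: group by representatives
  let rep : V → X := fun u => (hrep u.1 u.2).choose
  have hrep1 : ∀ u : V, rep u ∈ S ∧ ∃ g ∈ G, g * (u : X) * g⁻¹ = rep u :=
    fun u => (hrep u.1 u.2).choose_spec.1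
  have hrep2 : ∀ (u : V) (s : X), s ∈ S → (∃ g ∈ G, g * (u : X) * g⁻¹ = s) → rep u = s :=
    fun u s hs h => ((hrep u.1 u.2).choose_spec.2 s ⟨hs, h⟩).symm
  have hF : ∀ (u : V) (g : X), g ∈ G →
      Nat.card {p : H (u : X) × H (u : X) // Commute p.1 p.2} =
        Nat.card {p : H (g * (u : X) * g⁻¹) × H (g * (u : X) * g⁻¹) // Commute p.1 p.2} := by
    intro u g hg
    have hmap : (H (u : X)).map (MulAut.conj g).toMonoidHom = H (g * (u : X) * g⁻¹) := by
      ext y
      rw [Subgroup.mem_map]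
      constructor
      · rintro ⟨x, hx, rfl⟩
        refine ⟨G.mul_mem (G.mul_mem hg hx.1) (G.inv_mem hg), ?_⟩
        have := (hmemC _ _).1 hx.2
        apply (hmemC _ _).2
        show g * x * g⁻¹ * (g * ↑u * g⁻¹) = g * ↑u * g⁻¹ * (g * x * g⁻¹)
        calc g * x * g⁻¹ * (g * ↑u * g⁻¹) = g * (x * ↑u) * g⁻¹ := by group
          _ = g * (↑u * x) * g⁻¹ := by rw [this]
          _ = _ := by group
      · intro hy
        refine ⟨g⁻¹ * y * g, ⟨G.mul_mem (G.mul_mem (G.inv_mem hg) hy.1) hg, ?_⟩, ?_⟩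
        · have := (hmemC _ _).1 hy.2
          apply (hmemC _ _).2
          calc g⁻¹ * y * g * ↑u = g⁻¹ * (y * (g * ↑u * g⁻¹)) * g := by group
            _ = g⁻¹ * ((g * ↑u * g⁻¹) * y) * g := by rw [this]
            _ = _ := by group
        · show g * (g⁻¹ * y * g) * g⁻¹ = y
          group
    have f1 : H (u : X) ≃* (H (u : X)).map (MulAut.conj g).toMonoidHom :=
      (MulAut.conj g).subgroupMap _
    rw [card_commPairs_congr (f1.trans (MulEquiv.subgroupCongr hmap))]
  have hFrep : ∀ u : V, Nat.card {p : H (u : X) × H (u : X) // Commute p.1 p.2} =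
      Nat.card {p : H (rep u) × H (rep u) // Commute p.1 p.2} := by
    intro u
    obtain ⟨g, hg, hgu⟩ := (hrep1 u).2
    rw [hF u g hg, hgu]
  have h4 := Finset.sum_fiberwise_of_maps_to (s := (Finset.univ : Finset V)) (t := S) (g := rep)
    (fun u _ => (hrep1 u).1)
    (fun u => Nat.card {p : H (u : X) × H (u : X) // Commute p.1 p.2})
  rw [← h4] at h1
  have h5 : ∀ s ∈ S, ∑ u ∈ (Finset.univ : Finset V).filter (fun u => rep u = s),
      Nat.card {p : H (u : X) × H (u : X) // Commute p.1 p.2} =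
        Nat.card G * Nat.card (ConjClasses (H s)) := by
    intro s hs
    have h6 : ∀ u ∈ (Finset.univ : Finset V).filter (fun u => rep u = s),
        Nat.card {p : H (u : X) × H (u : X) // Commute p.1 p.2} =
          Nat.card {p : H s × H s // Commute p.1 p.2} := by
      intro u hu
      rw [hFrep u, (Finset.mem_filter.1 hu).2]
    rw [Finset.sum_congr rfl h6, Finset.sum_const, smul_eq_mul,
      card_comm_eq_card_conjClasses_mul_card]
    -- orbit-stabilizer
    have h7 := Cfsg.Agent.Lib.Lead.SE.card_conjOrbit_mul G s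
    have h8 : ((Finset.univ : Finset V).filter (fun u => rep u = s)).card =
        Nat.card {b : X // ∃ d ∈ G, d * s * d⁻¹ = b} := by
      rw [← Fintype.card_subtype, ← Nat.card_eq_fintype_card]
      apply Nat.card_congr
      refine
        { toFun := fun u => ⟨u.1.1, ?_⟩
          invFun := fun b => ⟨⟨b.1, ?_⟩, ?_⟩
          left_inv := fun u => rfl
          right_inv := fun b => rfl }
      · obtain ⟨g, hg, hgu⟩ := (hrep1 u.1).2
        rw [u.2] at hgu
        refine ⟨g⁻¹, G.inv_mem hg, ?_⟩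
        have : g⁻¹ * (g * (u.1 : X) * g⁻¹) * g⁻¹⁻¹ = (u.1 : X) := by group
        rw [hgu] at this
        exact this
      · obtain ⟨d, hd, hdb⟩ := b.2
        rw [← hdb]
        exact Subgroup.Normal.conj_mem inferInstance _ (hSV s hs) _
      · obtain ⟨d, hd, hdb⟩ := b.2
        apply hrep2 _ s hs
        refine ⟨d⁻¹, G.inv_mem hd, ?_⟩
        show d⁻¹ * b.1 * d⁻¹⁻¹ = s
        rw [← hdb]; group
    have h9 : Nat.card (Subgroup.centralizer ({s} : Set X) ⊓ G : Subgroup X) = Nat.card (H s) := by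
      show _ = Nat.card (G ⊓ Subgroup.centralizer ({s} : Set X) : Subgroup X)
      rw [inf_comm]
    rw [h8, ← h7, h9]
    ring
  rw [Finset.sum_congr rfl h5, ← Finset.mul_sum, card_comm_eq_card_conjClasses_mul_card,
    ← hGV.card_mul_card] at h1
  have hpos : 0 < Nat.card V * Nat.card G := Nat.mul_pos Nat.card_pos Nat.card_pos
  apply Nat.eq_of_mul_eq_mul_right hpos
  rw [h1]; ring

end main




/-- Let X be a finite group, V an abelian normal subgroup of X (any two elements of V commute) and G a complement to V in X whose order is coprime to that of V. Let S be a set of representatives of the orbits of G on V under conjugation: S lies in V and every element of V is conjugate under G to exactly one member of S. Then the number of conjugacy classes of X equals the sum, over s in S, of the number of conjugacy classes of the centralizer of s in G. -/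
theorem result {X : Type*} [Group X] [Finite X] (V : Subgroup X) [V.Normal] (hab : ∀ a ∈ V, ∀ b ∈ V, a * b = b * a) (G : Subgroup X) (hGV : Subgroup.IsComplement' V G) (hcop : (Nat.card V).Coprime (Nat.card G)) (S : Finset X) (hSV : ∀ s ∈ S, s ∈ V) (hrep : ∀ v ∈ V, ∃! s, s ∈ S ∧ ∃ g ∈ G, g * v * g⁻¹ = s) : Nat.card (ConjClasses X) = ∑ s ∈ S, Nat.card (ConjClasses ↥(G ⊓ Subgroup.centralizer ({s} : Set X))) := by
  exact result' V hab G hGV hcop S hSV hrep

end Cfsg.Agent.S4956
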