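import Cfsg.Statements.S4958
import Cfsg.Agent.Lib.Helper6.KgvI

set_option autoImplicit false
open Cfsg

namespace Cfsg.Agent.S4958

/-- Let X be a finite group and V a normal subgroup of X in which every element has order dividing the prime p, whose index in X is prime to p and which is its own centralizer in X; so V is an elementary abelian normal Sylow p-subgroup, and any complement G to V in X is a group of order prime to p acting faithfully on the vector space V by conjugation (the coprime linear setting of the k(GV) problem). Let G be a complement to V in X and suppose that for some v in V the centralizer of v in G is abelian. Then the number of conjugacy classes of X is at most the order of V (the abelian-stabilizer criterion for the k(GV) problem). -/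
theorem result {X : Type*} [Group X] [Finite X] (p : ℕ) [Fact p.Prime] (V : Subgroup X) [V.Normal] (hVexp : ∀ v ∈ V, v ^ p = 1) (hidx : ¬ p ∣ V.index) (hself : Subgroup.centralizer (V : Set X) = V) (G : Subgroup X) (hGV : Subgroup.IsComplement' V G) (v : X) (hv : v ∈ V) (hab : ∀ a ∈ G ⊓ Subgroup.centralizer ({v} : Set X), ∀ b ∈ G ⊓ Subgroup.centralizer ({v} : Set X), a * b = b * a) : Nat.card (ConjClasses X) ≤ Nat.card V := by
  have hVab : ∀ a ∈ V, ∀ b ∈ V, a * b = b * a := by
    intro a ha b hb
    have h1 : a ∈ Subgroup.centralizer (V : Set X) := by rw [hself]; exact ha
    exact (Subgroup.mem_centralizer_iff.mp h1 b hb).symm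
  have c : Cfsg.Agent.Lib.Helper6.Kgv.Config p V G
      (G ⊓ Subgroup.centralizer ({v} : Set X)) v :=
    { normal := inferInstance
      hVab := hVab
      hVexp := hVexp
      hGp := by rw [← hGV.symm.index_eq_card]; exact hidx
      hGV := hGV
      hu := hv
      hHG := inf_le_left
      hHu := fun h hh => by
        have := Subgroup.mem_centralizer_iff.mp hh.2 v (Set.mem_singleton v)
        exact this.symm
      hHmax := fun g hg hgv =>
        ⟨hg, Subgroup.mem_centralizer_iff.mpr (fun y hy => by
          rw [Set.mem_singleton_iff.mp hy]; exact hgv.symm)⟩
      hHab := hab }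
  obtain ⟨S, fS, κ, ω, cS, gd⟩ := c.exists_gd hself
  exact c.class_bound gd


end Cfsg.Agent.S4958
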