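import Cfsg.Statements.S4965
import Mathlib

set_option autoImplicit false
open Cfsg

namespace Cfsg.Agent.S4965


theorem result' {X : Type*} [Group X] [Finite X] (V : Subgroup X) [V.Normal]
    (φ : X ⧸ V →* MulAut ↥V)
    (hφ : ∀ (x : X) (v : ↥V), ((φ (QuotientGroup.mk x) v : ↥V) : X) = x * v * x⁻¹) :
    Nat.card (ConjClasses X) ≤ Nat.card (ConjClasses (SemidirectProduct ↥V (X ⧸ V) φ)) := by
  classical
  -- cardinalities
  have hcardS : Nat.card (SemidirectProduct ↥V (X ⧸ V) φ) = Nat.card X := by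
    rw [Nat.card_congr (SemidirectProduct.equivProd (φ := φ)), Nat.card_prod,
      Subgroup.card_eq_card_quotient_mul_card_subgroup V, mul_comm]
  -- choice of base pairs
  have hchoice : ∀ ab : (X ⧸ V) × (X ⧸ V), ∃ xy : X × X,
      (∃ p : X × X, Commute p.1 p.2 ∧ (QuotientGroup.mk p.1 : X ⧸ V) = ab.1 ∧
        (QuotientGroup.mk p.2 : X ⧸ V) = ab.2) →
      (Commute xy.1 xy.2 ∧ (QuotientGroup.mk xy.1 : X ⧸ V) = ab.1 ∧
        (QuotientGroup.mk xy.2 : X ⧸ V) = ab.2) := by
    intro ab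
    by_cases h : ∃ p : X × X, Commute p.1 p.2 ∧ (QuotientGroup.mk p.1 : X ⧸ V) = ab.1 ∧
        (QuotientGroup.mk p.2 : X ⧸ V) = ab.2
    · obtain ⟨p, hp⟩ := h
      exact ⟨p, fun _ => hp⟩
    · exact ⟨(1, 1), fun h' => absurd h' h⟩
  choose base hbase using hchoice
  have hb : ∀ p : {p : X × X // Commute p.1 p.2},
      Commute (base (QuotientGroup.mk p.1.1, QuotientGroup.mk p.1.2)).1
        (base (QuotientGroup.mk p.1.1, QuotientGroup.mk p.1.2)).2 ∧
      (QuotientGroup.mk (base (QuotientGroup.mk p.1.1, QuotientGroup.mk p.1.2)).1 : X ⧸ V) =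
        QuotientGroup.mk p.1.1 ∧
      (QuotientGroup.mk (base (QuotientGroup.mk p.1.1, QuotientGroup.mk p.1.2)).2 : X ⧸ V) =
        QuotientGroup.mk p.1.2 :=
    fun p => hbase _ ⟨p.1, p.2, rfl, rfl⟩
  have hmemV : ∀ {x x₀ : X}, (QuotientGroup.mk x₀ : X ⧸ V) = QuotientGroup.mk x →
      x * x₀⁻¹ ∈ V := by
    intro x x₀ h
    rw [QuotientGroup.eq] at h
    have h1 : x₀ * (x₀⁻¹ * x) * x₀⁻¹ ∈ V := Subgroup.Normal.conj_mem inferInstance _ h _
    have e : x₀ * (x₀⁻¹ * x) * x₀⁻¹ = x * x₀⁻¹ := by group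
    rwa [e] at h1
  have hφ' : ∀ (x x₀ : X) (_ : (QuotientGroup.mk x₀ : X ⧸ V) = QuotientGroup.mk x) (v : ↥V),
      ((φ (QuotientGroup.mk x) v : ↥V) : X) = x₀ * v * x₀⁻¹ := by
    intro x x₀ h v
    rw [← h, hφ]
  -- the injection
  let F : {p : X × X // Commute p.1 p.2} →
      {q : (SemidirectProduct ↥V (X ⧸ V) φ) × (SemidirectProduct ↥V (X ⧸ V) φ) //
        Commute q.1 q.2} := fun p =>
    ⟨(⟨⟨p.1.1 * (base (QuotientGroup.mk p.1.1, QuotientGroup.mk p.1.2)).1⁻¹, hmemV (hb p).2.1⟩,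
        QuotientGroup.mk p.1.1⟩,
      ⟨⟨p.1.2 * (base (QuotientGroup.mk p.1.1, QuotientGroup.mk p.1.2)).2⁻¹, hmemV (hb p).2.2⟩,
        QuotientGroup.mk p.1.2⟩), by
      obtain ⟨⟨x, y⟩, hxy⟩ := p
      set x₀ := (base (QuotientGroup.mk x, QuotientGroup.mk y)).1 with hx₀
      set y₀ := (base (QuotientGroup.mk x, QuotientGroup.mk y)).2 with hy₀
      obtain ⟨h0, h1, h2⟩ := hb ⟨(x, y), hxy⟩
      show Commute _ _
      rw [commute_iff_eq]
      have hxy' : x * y = y * x := hxy
      have h0' : x₀ * y₀ = y₀ * x₀ := h0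
      have h0'' : y₀⁻¹ * x₀⁻¹ = x₀⁻¹ * y₀⁻¹ := by
        rw [← mul_inv_rev, ← mul_inv_rev, h0']
      apply SemidirectProduct.ext
      · apply Subtype.ext
        simp only [SemidirectProduct.mul_left, Subgroup.coe_mul]
        rw [hφ' x x₀ h1, hφ' y y₀ h2]
        simp only
        calc x * x₀⁻¹ * (x₀ * (y * y₀⁻¹) * x₀⁻¹) = (x * y) * (y₀⁻¹ * x₀⁻¹) := by group
          _ = (y * x) * (x₀⁻¹ * y₀⁻¹) := by rw [hxy', h0'']
          _ = y * y₀⁻¹ * (y₀ * (x * x₀⁻¹) * y₀⁻¹) := by group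
      · simp only [SemidirectProduct.mul_right]
        rw [← QuotientGroup.mk_mul, ← QuotientGroup.mk_mul, hxy']⟩
  have hFinj : Function.Injective F := by
    rintro ⟨⟨x, y⟩, hxy⟩ ⟨⟨x', y'⟩, hxy'⟩ h
    have h1 := congrArg (fun q => q.1.1.right) h
    have h2 := congrArg (fun q => q.1.2.right) h
    have h3 := congrArg (fun q => (q.1.1.left : X)) h
    have h4 := congrArg (fun q => (q.1.2.left : X)) h
    simp only [F] at h1 h2 h3 h4
    rw [← h1, ← h2] at h3 h4
    have e1 : x = x' := mul_right_cancel h3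
    have e2 : y = y' := mul_right_cancel h4
    subst e1; subst e2
    rfl
  haveI : Finite (SemidirectProduct ↥V (X ⧸ V) φ) :=
    Finite.of_equiv _ (SemidirectProduct.equivProd (φ := φ)).symm
  have hle := Nat.card_le_card_of_injective F hFinj
  rw [card_comm_eq_card_conjClasses_mul_card, card_comm_eq_card_conjClasses_mul_card, hcardS] at hle
  exact Nat.le_of_mul_le_mul_right hle Nat.card_pos




/-- Let X be a finite group with an abelian normal subgroup V (any two elements of V commute), and let φ be the action of X ⧸ V on V induced by conjugation (well defined because V is abelian; the hypothesis hφ says that the class of x acts as conjugation by x). Then X has at most as many conjugacy classes as the semidirect product of V by X ⧸ V formed with this action: the split extension has the largest class number among extensions with the given action. -/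
theorem result {X : Type*} [Group X] [Finite X] (V : Subgroup X) [V.Normal] (hab : ∀ a ∈ V, ∀ b ∈ V, a * b = b * a) (φ : X ⧸ V →* MulAut ↥V) (hφ : ∀ (x : X) (v : ↥V), ((φ (QuotientGroup.mk x) v : ↥V) : X) = x * v * x⁻¹) : Nat.card (ConjClasses X) ≤ Nat.card (ConjClasses (SemidirectProduct ↥V (X ⧸ V) φ)) := by
  exact result' V φ hφ

end Cfsg.Agent.S4965
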