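import Cfsg.Statements.S4969
import Mathlib
import Cfsg.Agent.Lib.Helper6.SecondOrth
import Cfsg.Agent.Lib.Helper6.ClassCount

set_option autoImplicit false
open Cfsg

namespace Cfsg.Agent.S4969

open Cfsg.Agent.Lib.Helper6

/-- Let G be a finite group with k conjugacy classes, g ∈ G, and N > 0. Then the sum over the irreducible complex characters χ of G with χ(1) ≥ N of |χ(g)|/χ(1) is at most √(k · #C_G(g)) / N. -/
theorem result {G : Type*} [Group G] [Finite G] (g : G) (N : ℝ) (hN : 0 < N) :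
    ∑ᶠ χ : Cfsg.IrrCharacter G, (if N ≤ ‖(χ : G → ℂ) 1‖ then ‖(χ : G → ℂ) g‖ / ‖(χ : G → ℂ) 1‖ else 0) ≤
      Real.sqrt ((Nat.card (ConjClasses G) : ℝ) * (Nat.card ↥(Subgroup.centralizer ({g} : Set G)) : ℝ)) / N := by
  classical
  have : Fintype G := Fintype.ofFinite G
  have : Fintype (Cfsg.IrrCharacter G) := Fintype.ofFinite _
  rw [finsum_eq_sum_of_fintype]
  -- each term is at most `‖χ g‖ / N`
  have h1 : ∀ χ : Cfsg.IrrCharacter G,
      (if N ≤ ‖(χ : G → ℂ) 1‖ then ‖(χ : G → ℂ) g‖ / ‖(χ : G → ℂ) 1‖ else 0)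
        ≤ ‖(χ : G → ℂ) g‖ / N := by
    intro χ
    split_ifs with h
    · exact div_le_div_of_nonneg_left (norm_nonneg _) hN h
    · exact div_nonneg (norm_nonneg _) hN.le
  refine le_trans (Finset.sum_le_sum (fun χ _ => h1 χ)) ?_
  rw [← Finset.sum_div]
  apply div_le_div_of_nonneg_right _ hN.le
  -- Cauchy–Schwarz
  have h2 : (∑ χ : Cfsg.IrrCharacter G, ‖(χ : G → ℂ) g‖) ^ 2
      ≤ (Finset.univ : Finset (Cfsg.IrrCharacter G)).card *
        ∑ χ : Cfsg.IrrCharacter G, ‖(χ : G → ℂ) g‖ ^ 2 :=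
    sq_sum_le_card_mul_sum_sq
  have h3 : ∑ χ : Cfsg.IrrCharacter G, ‖(χ : G → ℂ) g‖ ^ 2
      = (Nat.card ↥(Subgroup.centralizer ({g} : Set G)) : ℝ) := by
    have h4 := (sum_irr_mul_conj g g).1 (IsConj.refl g)
    simp_rw [Complex.mul_conj] at h4
    have h5 : ((∑ χ : Cfsg.IrrCharacter G, Complex.normSq ((χ : G → ℂ) g) : ℝ) : ℂ)
        = ((Nat.card ↥(Subgroup.centralizer ({g} : Set G)) : ℝ) : ℂ) := by
      push_cast
      exact h4
    have h6 : ∑ χ : Cfsg.IrrCharacter G, Complex.normSq ((χ : G → ℂ) g)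
        = (Nat.card ↥(Subgroup.centralizer ({g} : Set G)) : ℝ) := by exact_mod_cast h5
    rw [← h6]
    apply Finset.sum_congr rfl
    intro χ _
    rw [Complex.normSq_eq_norm_sq]
  have h7 : ((Finset.univ : Finset (Cfsg.IrrCharacter G)).card : ℝ)
      = (Nat.card (ConjClasses G) : ℝ) := by
    rw [Finset.card_univ, ← Nat.card_eq_fintype_card, card_irrCharacter]
  rw [h3, h7] at h2
  apply Real.le_sqrt_of_sq_le
  exact h2

end Cfsg.Agent.S4969
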