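import Cfsg.Statements.S4989
import Mathlib
import Cfsg.Agent.Lib.Helper3.BurnsideIneq
-- import your own Cfsg.Agent.* helpers here

set_option autoImplicit false
open Cfsg

namespace Cfsg.Agent.S4989

open Cfsg.Agent.Lib.Helper3.BurnsideIneq Cfsg.Agent.Lib.Helper6


theorem result' {G : Type*} [Group G] [Finite G] (H : Subgroup G) (χ : Cfsg.IrrCharacter G) : (Nat.card ↥H : ℝ)⁻¹ * ∑ᶠ h : ↥H, ‖(χ : G → ℂ) h‖ ^ 2 ≤ 1 + (Set.ncard ({x : G | (χ : G → ℂ) x = 0} \ (H : Set G)) : ℝ) / (Nat.card ↥H : ℝ) := by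
  classical
  have : Fintype G := Fintype.ofFinite G
  obtain ⟨χ, hχ⟩ := χ
  simp only
  have hchar : Cfsg.IsCharacter G χ := by
    obtain ⟨n, ρ, _, h⟩ := hχ
    exact ⟨n, ρ, h⟩
  set T : Finset G := Finset.univ.filter (fun g => g ∉ H) with hT
  have hTclosed : ∀ t ∈ T, ∀ k : ℕ, Nat.Coprime k (Nat.card G) → t ^ k ∈ T := by
    intro t ht k hk
    rw [hT, Finset.mem_filter] at ht ⊢
    exact ⟨Finset.mem_univ _, fun h => ht.2 (mem_of_pow_mem H hk h)⟩
  have hB := card_filter_le_sum_norm_sq hchar T hTclosed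
  have hsplit : ∑ g ∈ Finset.univ.filter (fun g => g ∈ H), ‖χ g‖ ^ 2 + ∑ g ∈ T, ‖χ g‖ ^ 2
      = (Nat.card G : ℝ) := by
    rw [← sum_norm_sq_eq_card hχ, hT, Finset.sum_filter_add_sum_filter_not]
  have hA : ∑ᶠ h : ↥H, ‖χ h‖ ^ 2 = ∑ g ∈ Finset.univ.filter (fun g => g ∈ H), ‖χ g‖ ^ 2 := by
    rw [finsum_eq_sum_of_fintype, ← Finset.sum_subtype_eq_sum_filter]
    apply Finset.sum_congr _ (fun _ _ => rfl)
    ext x; simp
  have hcardT : T.card + Nat.card H = Nat.card G := by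
    have h1 : (Finset.univ.filter (fun g : G => g ∈ H)).card = Nat.card H := by
      rw [Nat.card_eq_fintype_card, Fintype.card_subtype]
    rw [← h1, hT, add_comm, Finset.card_filter_add_card_filter_not, Finset.card_univ,
      Nat.card_eq_fintype_card]
  have hZ : Set.ncard ({x : G | χ x = 0} \ (H : Set G)) = (T.filter (fun t => χ t = 0)).card := by
    rw [← Set.ncard_coe_finset]
    congr 1
    ext x
    simp [hT, and_comm]
  have hTsplit : (T.filter (fun t => χ t ≠ 0)).card + (T.filter (fun t => χ t = 0)).card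
      = T.card := by
    rw [add_comm]
    exact Finset.card_filter_add_card_filter_not (fun t => χ t = 0)
  have hHpos : (0:ℝ) < Nat.card H := by exact_mod_cast Nat.card_pos
  rw [hA, hZ]
  have hmain : ∑ g ∈ Finset.univ.filter (fun g => g ∈ H), ‖χ g‖ ^ 2 ≤
      (Nat.card H : ℝ) + ((T.filter (fun t => χ t = 0)).card : ℝ) := by
    have e1 : ((T.filter (fun t => χ t ≠ 0)).card : ℝ) + ((T.filter (fun t => χ t = 0)).card : ℝ)
      = (T.card : ℝ) := by exact_mod_cast hTsplit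
    have e2 : (T.card : ℝ) + (Nat.card H : ℝ) = (Nat.card G : ℝ) := by exact_mod_cast hcardT
    linarith
  rw [inv_mul_le_iff₀ hHpos, mul_add, mul_one, mul_div_cancel₀ _ hHpos.ne']
  exact hmain





/-- Let H be a subgroup of the finite group G and χ an irreducible complex character of G. Then the inner product of the restriction of χ to H with itself, (1/#H)·Σ_{h ∈ H} |χ(h)|², is at most 1 + #(Z ∖ H)/#H, where Z is the set of zeros of χ in G. -/
theorem result {G : Type*} [Group G] [Finite G] (H : Subgroup G) (χ : Cfsg.IrrCharacter G) : (Nat.card ↥H : ℝ)⁻¹ * ∑ᶠ h : ↥H, ‖(χ : G → ℂ) h‖ ^ 2 ≤ 1 + (Set.ncard ({x : G | (χ : G → ℂ) x = 0} \ (H : Set G)) : ℝ) / (Nat.card ↥H : ℝ) := by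
  exact result' H χ

end Cfsg.Agent.S4989
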