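import Cfsg.Statements.S4996
import Mathlib
import Cfsg.Agent.Lib.Helper3.CharTriple3
import Cfsg.Agent.Lib.Helper3.ConjCover
import Cfsg.Agent.Lib.Helper6.CliffordStab
import Cfsg.Agent.Lib.Helper6.Ito
import Cfsg.Agent.Lib.Helper6.Constituent
import Cfsg.Agent.S0191
import Cfsg.Agent.S0868
-- import your own Cfsg.Agent.* helpers here

set_option autoImplicit false
open Cfsg

namespace Cfsg.Agent.S4996

open Cfsg.Agent.Lib.Helper6 Cfsg.Agent.Lib.Helper3.CharTriple Cfsg.Agent.Lib.Helper3
open scoped ComplexConjugate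


/-- An induced function vanishes at elements none of whose conjugates lie in the subgroup. -/
theorem indFun_eq_zero_of_forall_conj_not_mem {G : Type*} [Group G] [Fintype G] (H : Subgroup G)
    (θ : H → ℂ) (g : G) (h : ∀ x : G, x⁻¹ * g * x ∉ H) : Cfsg.indFun H θ g = 0 := by
  unfold Cfsg.indFun
  rw [Finset.sum_eq_zero, mul_zero]
  intro x _
  unfold Cfsg.extendByZero
  rw [Function.extend_apply']
  · rfl
  · rintro ⟨a, ha⟩
    exact h x (ha ▸ a.2)


/-- irreducible restriction forbids vanishing on a coset -/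
theorem not_vanish_of_irr {G : Type*} [Group G] [Fintype G] (N : Subgroup G) [hN : N.Normal]
    [Fintype N] (χ : G → ℂ) (hχ : Cfsg.IsIrrCharacter G χ)
    (hχN : Cfsg.IsIrrCharacter N (fun n : N => χ n)) (x : G)
    (h0 : ∀ n : N, χ ((n : G) * x) = 0) : False := by
  have h868 := (Cfsg.Agent.S0868.result N χ hχ hχN χ hχ _ rfl).2.2 rfl
  have h1 := congrFun h868 x
  rw [Finset.sum_eq_zero (fun n _ => by rw [h0 n, zero_mul]), mul_zero] at h1
  exact zero_ne_one h1


theorem result' {G : Type*} [Group G] [Finite G] (N : Subgroup G) [hN : N.Normal] (χ : Cfsg.IrrCharacter G) : ¬ Cfsg.IsIrrCharacter ↥N (fun n : ↥N => (χ : G → ℂ) n) ↔ ∃ x : G, ∀ n : ↥N, (χ : G → ℂ) ((n : G) * x) = 0 := by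
  classical
  have : Fintype G := Fintype.ofFinite G
  have : Fintype N := Fintype.ofFinite N
  constructor
  · intro hred
    obtain ⟨ϑ, hϑ⟩ := exists_constituent_restrict N χ.2
    set T := inertia N hN (ϑ : N → ℂ) with hT
    have : Fintype T := Fintype.ofFinite T
    have hNT : N ≤ T := le_inertia N hN (IsIrrCharacter.isClassFunction ϑ.2)
    by_cases hTtop : T = ⊤
    · -- invariant case
      have hinv : ∀ (g : G) (n : N),
          (ϑ : N → ℂ) ⟨g * n * g⁻¹, hN.conj_mem (n : G) n.2 g⟩ = (ϑ : N → ℂ) n := by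
        intro g n
        have hg : g ∈ T := by rw [hTtop]; exact Subgroup.mem_top g
        have h1 : conjFun N hN (ϑ : N → ℂ) g = (ϑ : N → ℂ) := hg
        have h2 := congrFun h1 n
        rw [conjFun_apply] at h2
        exact h2
      obtain ⟨d, ρ, hρirr, hρ⟩ := ϑ.2
      have hinv' : ∀ (g : G) (n : N),
          ρ.character ⟨g * n * g⁻¹, hN.conj_mem (n : G) n.2 g⟩ = ρ.character n := by
        rw [hρ]; exact hinv
      have hcon' : Cfsg.classInner (fun n : N => (χ : G → ℂ) n) ρ.character ≠ 0 := by
        rw [hρ]; exact hϑ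
      obtain ⟨e, τ, hτirr, hτN, hτeq⟩ := exists_factor_lift N ρ hinv' (χ : G → ℂ) χ.2 hcon'
      have : Fintype (Gam N ρ (Nat.card N)) := Fintype.ofFinite _
      -- e > 1
      have he : 1 < Module.finrank ℂ (Fin e → ℂ) := by
        rw [Module.finrank_fintype_fun_eq_card, Fintype.card_fin]
        by_contra hle
        push Not at hle
        have h1 := hτeq 1
        rw [map_one, hatChar_one] at h1
        simp only [Representation.char_one, Module.finrank_fintype_fun_eq_card,
          Fintype.card_fin] at h1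
        have he0 : e ≠ 0 := by
          rintro rfl
          rw [Nat.cast_zero, zero_mul] at h1
          exact IsIrrCharacter.apply_one_ne_zero χ.2 h1
        have he1 : e = 1 := by omega
        rw [he1, Nat.cast_one, one_mul] at h1
        apply hred
        have hχNchar : Cfsg.IsCharacter N (fun n : N => (χ : G → ℂ) n) :=
          IsCharacter.restrict N (IsIrrCharacter.isCharacter χ.2)
        have h2 : (ϑ : N → ℂ) 1 = (d : ℂ) := by
          rw [← hρ]; simp
        have := IsCharacter.eq_of_constituent_of_apply_one_eq hχNchar ϑ.2 hϑ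
          (by simp only [Subgroup.coe_one]; rw [h1, h2])
        rw [this]
        exact ϑ.2
      obtain ⟨γ₀, hγ₀⟩ := Cfsg.Agent.S0191.result τ he
      refine ⟨pr1 N ρ (Nat.card N) γ₀, fun n => ?_⟩
      have h1 := hτeq (incl N ρ n * γ₀)
      rw [map_mul, pr1_incl] at h1
      rw [h1]
      have h2 : τ.character (incl N ρ n * γ₀) = τ.character γ₀ := by
        unfold Representation.character
        rw [map_mul, hτN n]
        rfl
      rw [h2, hγ₀, zero_mul]
    · -- χ is induced from the proper subgroup T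
      obtain ⟨ψ, -, hψ⟩ := exists_indFun_eq_of_stab N hN T hNT ϑ (fun g h => h) χ hϑ
      have hex : ∃ y : G, ∀ c : G, c⁻¹ * y * c ∉ T := by
        by_contra hno
        push Not at hno
        exact hTtop (eq_top_of_conj_cover T hno)
      obtain ⟨y, hy⟩ := hex
      refine ⟨y, fun n => ?_⟩
      rw [← hψ]
      apply indFun_eq_zero_of_forall_conj_not_mem
      intro c hc
      apply hy c
      have h1 : c⁻¹ * (n : G)⁻¹ * c ∈ T := by
        apply hNT
        have := hN.conj_mem _ (N.inv_mem n.2) c⁻¹
        rwa [inv_inv] at this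
      have h2 := T.mul_mem h1 hc
      have h3 : c⁻¹ * (n : G)⁻¹ * c * (c⁻¹ * ((n : G) * y) * c) = c⁻¹ * y * c := by group
      rwa [h3] at h2
  · rintro ⟨x, hx⟩ hirr
    exact not_vanish_of_irr N (χ : G → ℂ) χ.2 hirr x hx





/-- Let N be a normal subgroup of the finite group G and χ an irreducible complex character of G. Then the restriction of χ to N is not irreducible if and only if χ vanishes on some whole coset Nx of N in G. -/
theorem result {G : Type*} [Group G] [Finite G] (N : Subgroup G) [N.Normal] (χ : Cfsg.IrrCharacter G) : ¬ Cfsg.IsIrrCharacter ↥N (fun n : ↥N => (χ : G → ℂ) n) ↔ ∃ x : G, ∀ n : ↥N, (χ : G → ℂ) ((n : G) * x) = 0 := by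
  exact result' N χ

end Cfsg.Agent.S4996
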