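import Cfsg.Statements.S5001
import Mathlib
import Cfsg.Agent.Lib.Helper6.HtZeroCentral

set_option autoImplicit false
open Cfsg

namespace Cfsg.Agent.S5001

open Cfsg.Agent.Lib.Helper6

/-- Let p be a prime, G a finite group and B a p-block of G (relative to a maximal ideal M of the algebraic integers containing p) with defect group D. Let Z be a central p-subgroup of G contained in D and λ a linear character of Z (a homomorphism to the nonzero complex numbers). Say an irreducible character χ of G lies over λ when χ(z) = χ(1)λ(z) for all z ∈ Z. If some irreducible character in B lying over λ has height zero, then λ extends to a linear character of D. -/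
theorem result {G : Type*} [Group G] [Finite G] (p : ℕ) [Fact p.Prime] (M : Ideal Cfsg.AlgInt) (hM : Cfsg.IsPModular p M) (B : Set (Cfsg.IrrCharacter G)) (hB : Cfsg.IsPBlock M B) (D : Subgroup G) (hD : Cfsg.IsDefectGroup p M B D) (Z : Subgroup G) (hZc : Z ≤ Subgroup.center G) (hZp : IsPGroup p ↥Z) (hZD : Z ≤ D) (lam : ↥Z →* ℂˣ) (χ : Cfsg.IrrCharacter G) (hχ : χ ∈ B) (hover : (∀ z : ↥Z, (χ : G → ℂ) z = (χ : G → ℂ) 1 * (lam z : ℂ))) (h0 : Cfsg.blockHeight p B (χ : G → ℂ) = 0) : (∃ μ : ↥D →* ℂˣ, ∀ z : ↥Z, μ ⟨(z : G), hZD z.2⟩ = lam z) := by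
  classical
  haveI : Fintype G := Fintype.ofFinite G
  have hpp : p.Prime := Fact.out
  have hD' := hD
  obtain ⟨g, hg, P, rfl⟩ := hD
  obtain ⟨hloc, hnot, hcls⟩ := hg
  have hχirr := χ.2
  have hχch := IsIrrCharacter.isCharacter hχirr
  have hχ1 := IsIrrCharacter.apply_one_ne_zero hχirr
  -- step 1: χ g is a unit mod M
  have hstep1 : ¬ Cfsg.MemLocalIdeal M ((χ : G → ℂ) g) := by
    intro hmem
    apply hcls χ hχ
    unfold Cfsg.centralChar
    have hG0 : Nat.card G ≠ 0 := Nat.card_pos.ne'
    have hdeg := factorization_eq_sInf_add_height (p := p) B χ hχ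
    rw [h0, add_zero] at hdeg
    have hdvd := IsIrrCharacter.charDegree_dvd_card hχirr
    have hd0 : Cfsg.charDegree (χ : G → ℂ) ≠ 0 := by
      intro h
      rw [h, zero_dvd_iff] at hdvd
      exact hG0 hdvd
    have hsle : (Cfsg.charDegree (χ : G → ℂ)).factorization p ≤ (Nat.card G).factorization p :=
      (Nat.factorization_le_iff_dvd hd0 hG0).mpr hdvd p
    have hcardD := Cfsg.Agent.S0908.result p M hM B hB _ hD'
    rw [Subgroup.card_map_of_injective (Subgroup.subtype_injective _),
      Sylow.card_eq_multiplicity] at hcardD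
    have hexp := Nat.pow_right_injective hpp.two_le hcardD
    have hdef : Cfsg.blockDefect p B
        = (Nat.card G).factorization p - (Cfsg.charDegree (χ : G → ℂ)).factorization p := by
      unfold Cfsg.blockDefect
      rw [hdeg]
    have hidx := Subgroup.card_mul_index (Subgroup.centralizer ({g} : Set G))
    have hC0 : Nat.card (Subgroup.centralizer ({g} : Set G)) ≠ 0 := Nat.card_pos.ne'
    have hI0 : (Subgroup.centralizer ({g} : Set G)).index ≠ 0 := by
      intro h
      rw [h, mul_zero] at hidx
      exact hG0 hidx.symm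
    have hfac : (Nat.card G).factorization p
        = (Nat.card (Subgroup.centralizer ({g} : Set G))).factorization p
          + ((Subgroup.centralizer ({g} : Set G)).index).factorization p := by
      rw [← hidx, Nat.factorization_mul hC0 hI0]
      rfl
    have hIfac : ((Subgroup.centralizer ({g} : Set G)).index).factorization p
        = (Cfsg.charDegree (χ : G → ℂ)).factorization p := by
      omega
    have e1 := Nat.ordProj_mul_ordCompl_eq_self ((Subgroup.centralizer ({g} : Set G)).index) p
    have e2 := Nat.ordProj_mul_ordCompl_eq_self (Cfsg.charDegree (χ : G → ℂ)) p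
    have n1 := Nat.not_dvd_ordCompl hpp hI0
    have n2 := Nat.not_dvd_ordCompl hpp hd0
    rw [hIfac] at e1
    rw [IsCharacter.apply_one_eq_charDegree hχch]
    obtain ⟨u, hu⟩ : ∃ u : ℕ, u = (Subgroup.centralizer ({g} : Set G)).index
        / p ^ (Cfsg.charDegree (χ : G → ℂ)).factorization p := ⟨_, rfl⟩
    obtain ⟨v, hv⟩ : ∃ v : ℕ, v = Cfsg.charDegree (χ : G → ℂ)
        / p ^ (Cfsg.charDegree (χ : G → ℂ)).factorization p := ⟨_, rfl⟩
    rw [hIfac] at n1
    rw [← hu] at e1 n1
    rw [← hv] at e2 n2
    obtain ⟨s, hs⟩ : ∃ s : ℕ, s = (Cfsg.charDegree (χ : G → ℂ)).factorization p := ⟨_, rfl⟩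
    rw [← hs] at e1 e2
    have hps : ((p : ℂ) ^ s) ≠ 0 := pow_ne_zero _ (by exact_mod_cast hpp.ne_zero)
    have hv0 : (v : ℂ) ≠ 0 := by
      intro h
      have : v = 0 := by exact_mod_cast h
      rw [this] at n2
      exact n2 (dvd_zero p)
    have hrw : (((Subgroup.centralizer ({g} : Set G)).index : ℕ) : ℂ) * (χ : G → ℂ) g
          / ((Cfsg.charDegree (χ : G → ℂ) : ℕ) : ℂ)
        = ((u : ℂ) * (v : ℂ)⁻¹) * (χ : G → ℂ) g := by
      rw [← e1, ← e2]
      push_cast
      field_simp
    rw [hrw]
    exact MemLocalIdeal.mul_left hM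
      (MemLocalRing.mul hM (memLocalRing_natCast hM u) (memLocalRing_inv_natCast hM n2)) hmem
  -- step 2: a linear constituent
  have hcen : ∀ h : Subgroup.centralizer ({g} : Set G),
      (⟨g, Subgroup.mem_centralizer_iff.mpr (fun x hx => by
        rw [Set.mem_singleton_iff.mp hx])⟩ : Subgroup.centralizer ({g} : Set G)) * h
        = h * ⟨g, Subgroup.mem_centralizer_iff.mpr (fun x hx => by
        rw [Set.mem_singleton_iff.mp hx])⟩ := by
    intro h
    apply Subtype.ext
    have := Subgroup.mem_centralizer_iff.mp h.2 g (Set.mem_singleton g)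
    simpa using this
  haveI : Fintype (Subgroup.centralizer ({g} : Set G)) := Fintype.ofFinite _
  haveI : Fintype (P : Subgroup (Subgroup.centralizer ({g} : Set G))) := Fintype.ofFinite _
  obtain ⟨μ, hμirr, hμ1, hne⟩ := exists_linear_of_not_memLocalIdeal hM
    (IsCharacter.restrict (Subgroup.centralizer ({g} : Set G)) hχch) hcen
    (P : Subgroup (Subgroup.centralizer ({g} : Set G))) P.isPGroup' hstep1
  have hμch := IsIrrCharacter.isCharacter hμirr
  -- step 3: the homomorphism
  let e := Subgroup.equivMapOfInjective (P : Subgroup (Subgroup.centralizer ({g} : Set G)))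
    (Subgroup.centralizer ({g} : Set G)).subtype (Subgroup.subtype_injective _)
  refine ⟨(linearCharHom hμch hμ1).comp e.symm.toMonoidHom, ?_⟩
  intro z
  apply Units.ext
  rw [MonoidHom.comp_apply, linearCharHom_apply]
  obtain ⟨w, hw⟩ : ∃ w, w = e.symm ⟨(z : G), hZD z.2⟩ := ⟨_, rfl⟩
  have hwz : ((w : Subgroup.centralizer ({g} : Set G)) : G) = (z : G) := by
    have h1 : e w = ⟨(z : G), hZD z.2⟩ := by rw [hw, MulEquiv.apply_symm_apply]
    have h2 := congrArg (fun t : ((P : Subgroup (Subgroup.centralizer ({g} : Set G))).map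
      (Subgroup.centralizer ({g} : Set G)).subtype) => (t : G)) h1
    simpa [e] using h2
  change μ (e.symm ⟨(z : G), hZD z.2⟩) = _
  rw [← hw]
  apply linear_eq_of_shift_scalar (X := Subgroup.centralizer ({g} : Set G))
    (ψ := fun x => (χ : G → ℂ) (g * (x : G))) (P : Subgroup (Subgroup.centralizer ({g} : Set G)))
    hμch hμ1 hne w
  intro y
  have hzc : ∀ h : G, (z : G) * h = h * (z : G) := fun h =>
    (Subgroup.mem_center_iff.mp (hZc z.2) h).symm
  simp only [Subgroup.coe_mul, hwz]
  rw [← mul_assoc, ← hzc g, mul_assoc, IsIrrCharacter.apply_central_mul hχirr hzc, hover z]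
  field_simp


end Cfsg.Agent.S5001
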