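import Cfsg.Statements.S5005
import Cfsg.Agent.Lib.Helper7.M22Glue
import Cfsg.Agent.Lib.Helper2.M22S4
import Cfsg.Agent.Lib.Helper5.M22HC
import Cfsg.Agent.Lib.Helper5.M22C2

set_option autoImplicit false
open Cfsg

namespace Cfsg.Agent.S5005

/-- All irreducible complex characters of the Mathieu group `M₂₂` lie in a single 2-block: any two of them lie in the same block relative to every maximal ideal of the algebraic integers containing 2. -/
theorem result (M : Ideal Cfsg.AlgInt) (hM : Cfsg.IsPModular 2 M)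
    (χ ψ : Cfsg.IrrCharacter ↥Cfsg.Spor.M22) : Cfsg.SameBlock M (χ : ↥Cfsg.Spor.M22 → ℂ) (ψ : ↥Cfsg.Spor.M22 → ℂ) := by
  classical
  have : Fact (Nat.Prime 5) := ⟨by norm_num⟩
  have : Fact (Nat.Prime 7) := ⟨by norm_num⟩
  have : Fact (Nat.Prime 11) := ⟨by norm_num⟩
  have hG : Nat.card ↥Cfsg.Spor.M22 = 443520 := by
    rw [Cfsg.Agent.Lib.Helper5.M22HC.h5_card_G]; norm_num
  have : Finite ↥Cfsg.Spor.M22 := Nat.finite_of_card_ne_zero (by rw [hG]; norm_num)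
  let _ : Fintype ↥Cfsg.Spor.M22 := Fintype.ofFinite _
  have H5 := fun P : Sylow 5 ↥Cfsg.Spor.M22 =>
    Cfsg.Agent.Lib.Helper5.M22C2.sylow_self_centralizing 5 (Or.inl rfl) P
  have H7 := fun P : Sylow 7 ↥Cfsg.Spor.M22 =>
    Cfsg.Agent.Lib.Helper5.M22C2.sylow_self_centralizing 7 (Or.inr (Or.inl rfl)) P
  have H11 := fun P : Sylow 11 ↥Cfsg.Spor.M22 =>
    Cfsg.Agent.Lib.Helper5.M22C2.sylow_self_centralizing 11 (Or.inr (Or.inr rfl)) P
  obtain ⟨P5⟩ : Nonempty (Sylow 5 ↥Cfsg.Spor.M22) := inferInstance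
  obtain ⟨P7⟩ : Nonempty (Sylow 7 ↥Cfsg.Spor.M22) := inferInstance
  obtain ⟨P11⟩ : Nonempty (Sylow 11 ↥Cfsg.Spor.M22) := inferInstance
  exact Cfsg.Agent.Lib.Helper7.M22Glue.h7_abstract_main hG H5 H7 H11
    Cfsg.Agent.Lib.Helper5.M22HC.hC
    (fun θ => Cfsg.Agent.Lib.Helper2.M22S4.no_deg_160 hG P5 (H5 P5) P7 (H7 P7) P11 (H11 P11) θ)
    M hM χ ψ

end Cfsg.Agent.S5005
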