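import Cfsg.Statements.S5006
import Cfsg.Agent.Lib.Helper2.M24BA6
import Cfsg.Agent.Lib.Helper8.M24LocF
import Cfsg.Agent.Lib.Helper1.M24C3
import Cfsg.Agent.Lib.Helper4.M24C5
import Cfsg.Agent.Lib.Helper9.M24Rad3
import Cfsg.Agent.Lib.Helper9.M24A3d
import Cfsg.Agent.Lib.Helper3.M24A1
import Cfsg.Agent.Lib.Helper7.M24A3a

set_option autoImplicit false
set_option linter.style.haveILetI false
open Cfsg

namespace Cfsg.Agent.S5006

/-- All irreducible complex characters of the Mathieu group `M₂₄` lie in a single 2-block: any two of them lie in the same block relative to every maximal ideal of the algebraic integers containing 2. -/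
theorem result (M : Ideal Cfsg.AlgInt) (hM : Cfsg.IsPModular 2 M)
    (χ ψ : Cfsg.IrrCharacter ↥Cfsg.M24) : Cfsg.SameBlock M (χ : ↥Cfsg.M24 → ℂ) (ψ : ↥Cfsg.M24 → ℂ) := by
  classical
  haveI : Fact (Nat.Prime 2) := ⟨Nat.prime_two⟩
  have hG : Nat.card ↥Cfsg.M24 = 244823040 := Cfsg.Agent.Lib.Helper9.M24T4.card_M24
  have hA3 : Cfsg.Agent.Lib.Helper2.M24B.A3Shape ↥Cfsg.M24 := by
    intro q k _ hq ζ hdef hqd hC
    have h := Cfsg.Agent.Lib.Helper9.M24A3c.a3c_of_a3a 2 q k ζ hqd (fun g hg =>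
      Cfsg.Agent.Lib.Helper7.M24A3a.a3a_mult 2 q k hq ζ hdef g hg (hC g hg))
    convert h using 3
  have K7 : ∀ g : ↥Cfsg.M24, orderOf g = 7 →
      2 ^ 1 ∣ Nat.card (Subgroup.centralizer ({g} : Set ↥Cfsg.M24)) := by
    intro g hg
    have h := Cfsg.Agent.Lib.Helper1.M24C3.two_dvd_centralizer_seven g hg
    simpa using h
  have N7 : 11658240 ≤ Nat.card {x : ↥Cfsg.M24 // orderOf x = 7} :=
    le_of_eq Cfsg.Agent.Lib.Helper1.M24C3.card_orderOf_seven.symm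
  have H2 : ∀ D : Subgroup ↥Cfsg.M24, D ≠ ⊥ → IsPGroup 2 D →
      (Cfsg.pCore 2 (Subgroup.normalizer (D : Set ↥Cfsg.M24))).map
        (Subgroup.normalizer (D : Set ↥Cfsg.M24)).subtype = D →
      ∀ x : ↥Cfsg.M24, x ∈ Subgroup.centralizer (D : Set ↥Cfsg.M24) → ¬ 2 ∣ orderOf x → x = 1 := by
    intro D hD hD2 hrad x hx hx2
    exact Cfsg.Agent.Lib.Helper9.M24Rad.h2_M24 D hD2 hD
      (fun H R hDH hCH _ hRn hR2 y hy hy2 =>
        Cfsg.Agent.Lib.Helper3.M24A.a1_rad_centralizes D hD2 hrad y hy hy2 H R hDH hCH hRn hR2)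
      x hx hx2
  exact Cfsg.Agent.Lib.Helper2.M24B.a6_abstract_main hA3 hG
    Cfsg.Agent.Lib.Helper8.M24Loc.c1_H23 Cfsg.Agent.Lib.Helper8.M24Loc.c2_K5
    Cfsg.Agent.Lib.Helper8.M24Loc.c2_N5 K7 N7 Cfsg.Agent.Lib.Helper8.M24Loc.c4_N11
    Cfsg.Agent.Lib.Helper4.M24C5.c5_H1 H2 M hM χ ψ

end Cfsg.Agent.S5006
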