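import Cfsg.Statements.S5011
import Mathlib

set_option autoImplicit false
open Cfsg

namespace Cfsg.Agent.S5011

/-- Let G be a finite non-abelian simple group and ρ an irreducible complex representation of G on a space of dimension greater than one (irreducible in the sense that the only subspaces invariant under every ρ(x) are 0 and the whole space). Then for every non-identity element g of G, the centralizer of g does not act irreducibly: there is a non-zero proper subspace invariant under ρ(c) for every c commuting with g. -/
theorem result {G : Type*} [Group G] [Finite G] [IsSimpleGroup G]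
    (hG : ¬ IsMulCommutative G) {V : Type*} [AddCommGroup V] [Module ℂ V] [FiniteDimensional ℂ V]
    (ρ : Representation ℂ G V)
    (hirr : ∀ W : Submodule ℂ V, (∀ x : G, ∀ v ∈ W, ρ x v ∈ W) → W = ⊥ ∨ W = ⊤)
    (hdim : 1 < Module.finrank ℂ V) (g : G) (hg : g ≠ 1) :
    ∃ W : Submodule ℂ V, W ≠ ⊥ ∧ W ≠ ⊤ ∧ ∀ c ∈ Subgroup.centralizer ({g} : Set G), ∀ v ∈ W, ρ c v ∈ W := by
  classical
  have _ := hG
  have hnt : Nontrivial V := Module.nontrivial_of_finrank_pos (R := ℂ) (by omega)
  -- an eigenvalue of `ρ g`
  obtain ⟨μ, hμ⟩ := Module.End.exists_eigenvalue (ρ g)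
  refine ⟨Module.End.eigenspace (ρ g) μ, hμ, ?_, ?_⟩
  · -- the eigenspace is proper
    intro htop
    have hscal : ρ g = μ • LinearMap.id := by
      ext v
      have hv : v ∈ Module.End.eigenspace (ρ g) μ := by rw [htop]; exact Submodule.mem_top
      rw [Module.End.mem_eigenspace_iff] at hv
      simpa using hv
    -- the subgroup of elements acting by scalars
    let Z : Subgroup G :=
      { carrier := {x | ∃ c : ℂ, ρ x = c • LinearMap.id}
        mul_mem' := by
          rintro a b ⟨ca, ha⟩ ⟨cb, hb⟩
          refine ⟨ca * cb, ?_⟩
          rw [map_mul, ha, hb, smul_mul_smul_comm]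
          rfl
        one_mem' := ⟨1, by rw [map_one, one_smul]; rfl⟩
        inv_mem' := by
          rintro a ⟨ca, ha⟩
          refine ⟨ca⁻¹, ?_⟩
          have h1 : ρ a * ρ a⁻¹ = 1 := by rw [← map_mul, mul_inv_cancel, map_one]
          rw [ha] at h1
          have hca : ca ≠ 0 := by
            intro h0
            rw [h0, zero_smul, zero_mul] at h1
            obtain ⟨v, hv⟩ := exists_ne (0 : V)
            have := congrArg (fun T : Module.End ℂ V => T v) h1
            simp at this
            exact hv this.symm
          ext v
          have h2 := congrArg (fun T : Module.End ℂ V => T v) h1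
          simp only [Module.End.mul_apply, LinearMap.smul_apply, LinearMap.id_coe, id_eq,
            Module.End.one_apply] at h2
          simp only [LinearMap.smul_apply, LinearMap.id_coe, id_eq]
          calc ρ a⁻¹ v = ca⁻¹ • (ca • ρ a⁻¹ v) := by
                rw [smul_smul, inv_mul_cancel₀ hca, one_smul]
            _ = ca⁻¹ • v := by rw [h2] }
    have hZn : Z.Normal := by
      constructor
      rintro a ⟨ca, ha⟩ y
      refine ⟨ca, ?_⟩
      rw [map_mul, map_mul, ha]
      ext v
      simp only [Module.End.mul_apply, LinearMap.smul_apply, LinearMap.id_coe, id_eq, map_smul]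
      congr 1
      have : ρ y (ρ y⁻¹ v) = (ρ y * ρ y⁻¹) v := rfl
      rw [this, ← map_mul, mul_inv_cancel, map_one]
      rfl
    have hgZ : g ∈ Z := ⟨μ, hscal⟩
    have hZtop : Z = ⊤ := by
      rcases hZn.eq_bot_or_eq_top with h | h
      · exfalso
        rw [h, Subgroup.mem_bot] at hgZ
        exact hg hgZ
      · exact h
    -- every line is invariant
    obtain ⟨v, hv⟩ := exists_ne (0 : V)
    have hline : ∀ y : G, ∀ w ∈ Submodule.span ℂ {v}, ρ y w ∈ Submodule.span ℂ {v} := by
      intro y w hw
      have hy : y ∈ Z := by rw [hZtop]; exact Subgroup.mem_top y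
      obtain ⟨cy, hcy⟩ := hy
      rw [hcy]
      simp only [LinearMap.smul_apply, LinearMap.id_coe, id_eq]
      exact Submodule.smul_mem _ _ hw
    rcases hirr _ hline with h | h
    · rw [Submodule.span_singleton_eq_bot] at h
      exact hv h
    · have h1 : Module.finrank ℂ (Submodule.span ℂ {v}) = 1 := finrank_span_singleton hv
      rw [h, finrank_top] at h1
      omega
  · -- invariance under the centralizer
    intro c hc v hv
    rw [Module.End.mem_eigenspace_iff] at hv ⊢
    have hcg : c * g = g * c := by
      have := Subgroup.mem_centralizer_iff.mp hc g (Set.mem_singleton g)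
      exact this.symm
    have h1 : ρ g (ρ c v) = (ρ (g * c)) v := by rw [map_mul]; rfl
    rw [h1, ← hcg, map_mul]
    change ρ c (ρ g v) = μ • ρ c v
    rw [hv, map_smul]


end Cfsg.Agent.S5011
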