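import Cfsg.Statements.S5015
import Cfsg.Agent.Lib.Helper4.RankOneGrp

set_option autoImplicit false
open Cfsg

namespace Cfsg.Agent.S5015

open Cfsg.Agent.Lib.Helper4.RankOneGrp

variable {Y Ω : Type*} [Group Y] [MulAction Y Ω]

/-- the local configuration at a point -/
structure Setup (A : Subgroup Y) (α : Ω) : Prop where
  le : A ≤ MulAction.stabilizer Y α
  norm : ∀ y ∈ MulAction.stabilizer Y α, conjBy A y = A
  reg : ∀ β γ : Ω, β ≠ α → γ ≠ α → ∃! a : Y, a ∈ A ∧ a • β = γ

theorem Setup.conj_eq {A : Subgroup Y} {α : Ω} (h : Setup A α) {g₁ g₂ : Y}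
    (hg : g₁ • α = g₂ • α) : conjBy A g₁ = conjBy A g₂ := by
  have h1 : g₂⁻¹ * g₁ ∈ MulAction.stabilizer Y α := by
    rw [MulAction.mem_stabilizer_iff, mul_smul, hg, inv_smul_smul]
  have h2 : g₁ = g₂ * (g₂⁻¹ * g₁) := by group
  rw [h2, ← conjBy_conjBy, h.norm _ h1]

theorem Setup.eq_one {A : Subgroup Y} {α : Ω} (h : Setup A α) {a : Y} (ha : a ∈ A) {β : Ω}
    (hβ : β ≠ α) (hfix : a • β = β) : a = 1 := by
  obtain ⟨a', -, huniq⟩ := h.reg β β hβ hβ
  rw [huniq a ⟨ha, hfix⟩, huniq 1 ⟨one_mem _, one_smul _ _⟩]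

theorem Setup.conj {A : Subgroup Y} {α : Ω} (h : Setup A α) (y : Y) :
    Setup (conjBy A y) (y • α) where
  le := by
    intro b hb
    rw [mem_conjBy] at hb
    have := h.le hb
    rw [MulAction.mem_stabilizer_iff] at this ⊢
    rw [mul_smul, mul_smul, inv_smul_eq_iff] at this
    exact this
  norm := by
    intro g hg
    rw [conjBy_conjBy]
    apply h.conj_eq
    rw [mul_smul]
    exact hg
  reg := by
    intro β γ hβ hγ
    have hβ' : y⁻¹ • β ≠ α := fun he => hβ (by rw [← he, smul_inv_smul])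
    have hγ' : y⁻¹ • γ ≠ α := fun he => hγ (by rw [← he, smul_inv_smul])
    obtain ⟨a, ⟨ha, hab⟩, huniq⟩ := h.reg _ _ hβ' hγ'
    refine ⟨y * a * y⁻¹, ⟨conj_mem_conjBy ha, ?_⟩, ?_⟩
    · rw [mul_smul, mul_smul, hab, smul_inv_smul]
    · rintro b ⟨hb, hbβ⟩
      rw [mem_conjBy] at hb
      have := huniq _ ⟨hb, by rw [mul_smul, mul_smul, smul_inv_smul, hbβ]⟩
      rw [← this]
      group

theorem Setup.cond {A : Subgroup Y} {α : Ω} (h : Setup A α) (y : Y) (hy : y • α ≠ α) :
    RankOneCondition A (conjBy A y) := by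
  intro a ha ha1
  have hδβ : a⁻¹ • y • α ≠ y • α := by
    intro he
    apply ha1
    have : a • y • α = y • α := by
      rw [← he, smul_inv_smul, he]
    exact h.eq_one ha hy this
  have hδα : a⁻¹ • y • α ≠ α := by
    intro he
    apply hy
    have haα : a • α = α := h.le ha
    rw [inv_smul_eq_iff, haα] at he
    exact he
  have hαβ : α ≠ y • α := fun he => hy he.symm
  obtain ⟨b, ⟨hb, hbδ⟩, -⟩ := (h.conj y).reg _ _ hδβ hαβ
  refine ⟨b, hb, ?_, ?_⟩
  · rintro rfl
    rw [one_smul] at hbδ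
    exact hδα hbδ
  · rw [conjBy_conjBy]
    apply h.conj_eq
    rw [inv_smul_eq_iff, mul_smul, hbδ]

theorem Setup.ne {A : Subgroup Y} {α : Ω} (h : Setup A α) (hΩ : 3 ≤ ENat.card Ω) (y : Y)
    (hy : y • α ≠ α) : A ≠ conjBy A y := by
  intro he
  -- a third point
  obtain ⟨γ, hγα, hγβ⟩ : ∃ γ : Ω, γ ≠ α ∧ γ ≠ y • α := by
    by_contra hcon
    push Not at hcon
    have hsub : (Set.univ : Set Ω) ⊆ {α, y • α} := by
      intro γ _
      by_cases hγ : γ = α
      · exact Or.inl hγ
      · exact Or.inr (hcon γ hγ)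
    have h1 : ENat.card Ω ≤ 2 := by
      rw [← Set.encard_univ]
      refine (Set.encard_le_encard hsub).trans ?_
      refine (Set.encard_insert_le _ _).trans ?_
      rw [Set.encard_singleton]
      norm_num
    have h3 : (3 : ℕ∞) ≤ 2 := hΩ.trans h1
    exact absurd h3 (by decide)
  obtain ⟨a, ⟨ha, haγ⟩, -⟩ := h.reg (y • α) γ hy hγα
  have ha' : a ∈ conjBy A y := he ▸ ha
  have hfix : a • y • α = y • α := (h.conj y).le ha'
  rw [hfix] at haγ
  exact hγβ haγ.symm

/-- Let a group Y act doubly transitively on a set Ω with at least three points, and suppose that the stabilizer of a point α contains a nilpotent subgroup A, normalized by that stabilizer, which acts regularly on the points other than α. Then for any y in Y moving α, the subgroups A and y A y⁻¹ are the unipotent subgroups of a rank one group, and the normal closure of A in Y (the subgroup generated by all conjugates of A) is generated by A and y A y⁻¹ alone. -/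
theorem result {Y Ω : Type*} [Group Y] [MulAction Y Ω]
    (h2 : MulAction.IsMultiplyPretransitive Y Ω 2) (hΩ : 3 ≤ ENat.card Ω) (α : Ω) (A : Subgroup Y)
    (hA : A ≤ MulAction.stabilizer Y α) (hAn : ∀ y ∈ MulAction.stabilizer Y α, Cfsg.conjBy A y = A)
    (hnil : Group.IsNilpotent A) (hreg : ∀ β γ : Ω, β ≠ α → γ ≠ α → ∃! a : Y, a ∈ A ∧ a • β = γ)
    (y : Y) (hy : y ∉ MulAction.stabilizer Y α) :
    Cfsg.IsRankOnePair A (Cfsg.conjBy A y) ∧ Subgroup.normalClosure (A : Set Y) = A ⊔ Cfsg.conjBy A y := by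
  have hS : Setup A α := ⟨hA, hAn, hreg⟩
  have hy' : y • α ≠ α := hy
  have hS' := hS.conj y
  have hback : conjBy (conjBy A y) y⁻¹ = A := by
    rw [conjBy_conjBy, inv_mul_cancel, conjBy_one]
  refine ⟨⟨hS.ne hΩ y hy', hnil, ?_, hS.cond y hy', ?_⟩, ?_⟩
  · -- nilpotent
    have hsurj : Function.Surjective ((MulAut.conj y).toMonoidHom.subgroupMap A) :=
      MonoidHom.subgroupMap_surjective _ _
    exact Group.nilpotent_of_surjective _ hsurj
  · have hy'' : y⁻¹ • y • α ≠ y • α := by
      rw [inv_smul_smul]; exact fun he => hy' he.symm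
    have := hS'.cond y⁻¹ hy''
    rwa [hback] at this
  · have hconj : ∀ g : Y, conjBy A g ≤ A ⊔ conjBy A y := by
      intro g
      by_cases hgα : g • α = α
      · rw [hS.norm g hgα]; exact le_sup_left
      by_cases hgβ : g • α = y • α
      · rw [hS.conj_eq hgβ]; exact le_sup_right
      obtain ⟨a, ⟨ha, hag⟩, -⟩ := hS.reg (y • α) (g • α) hy' hgα
      have h3 : g • α = (a * y) • α := by rw [mul_smul, hag]
      rw [hS.conj_eq h3, ← conjBy_conjBy]
      exact conjBy_le_sup (N := A) (A := conjBy A y) ha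
    apply le_antisymm
    · refine (Subgroup.closure_le (K := A ⊔ conjBy A y)).mpr ?_
      intro x hx
      rw [Group.mem_conjugatesOfSet_iff] at hx
      obtain ⟨a, ha, hax⟩ := hx
      rw [isConj_iff] at hax
      obtain ⟨c, rfl⟩ := hax
      exact hconj c (conj_mem_conjBy ha)
    · rw [sup_le_iff]
      refine ⟨Subgroup.le_normalClosure, ?_⟩
      intro x hx
      rw [mem_conjBy] at hx
      have h4 : x = y * (y⁻¹ * x * y) * y⁻¹ := by group
      rw [h4]
      exact (Subgroup.normalClosure_normal (s := (A : Set Y))).conj_mem _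
        (Subgroup.le_normalClosure hx) y

end Cfsg.Agent.S5015
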