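import Cfsg.Statements.S5017
import Cfsg.Agent.Lib.Helper4.RankOneGrp2

set_option autoImplicit false
open Cfsg

namespace Cfsg.Agent.S5017

open Cfsg.Agent.Lib.Helper4.RankOneGrp Cfsg.Agent.Lib.Helper4.RankOneGrp2

/-- Let X be a rank one group with unipotent subgroups A and B and N a normal subgroup of X. Then either X = N A or N lies in the centre of X. Consequently a perfect rank one group is quasisimple. -/
theorem result {X : Type*} [Group X] {A B : Subgroup X} (h : Cfsg.IsRankOneGroup X A B) :
    (∀ N : Subgroup X, N.Normal → N ⊔ A = ⊤ ∨ N ≤ Subgroup.center X) ∧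
    (Group.IsPerfect X → Cfsg.IsQuasisimple X) := by
  obtain ⟨htop, hp⟩ := h
  refine ⟨fun N hN => dichotomy htop hp N, fun hperf => ⟨hperf, ?_⟩⟩
  have : Nontrivial (X ⧸ Subgroup.center X) := by
    by_contra hnt
    rw [not_nontrivial_iff_subsingleton] at hnt
    apply not_comm hp
    intro x y
    have hx : x ∈ Subgroup.center X := by
      rw [← QuotientGroup.eq_one_iff]
      exact Subsingleton.elim _ _
    exact ((Subgroup.mem_center_iff.mp hx) y).symm
  refine ⟨fun K hK => ?_⟩
  set N := K.comap (QuotientGroup.mk' (Subgroup.center X)) with hNdef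
  have : N.Normal := hK.comap _
  have hK' : K = N.map (QuotientGroup.mk' (Subgroup.center X)) := by
    rw [hNdef, Subgroup.map_comap_eq_self_of_surjective (QuotientGroup.mk'_surjective _)]
  rcases dichotomy htop hp N with hNA | hNZ
  · right
    -- X ⧸ N is nilpotent and perfect
    have hsurj : Function.Surjective ((QuotientGroup.mk' N).comp A.subtype) := by
      intro q
      obtain ⟨x, rfl⟩ := QuotientGroup.mk'_surjective N q
      have hx : x ∈ N ⊔ A := by rw [hNA]; exact Subgroup.mem_top x
      obtain ⟨n, hn, a, ha, rfl⟩ := Subgroup.mem_sup_of_normal_left.mp hx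
      refine ⟨⟨a, ha⟩, ?_⟩
      simp only [MonoidHom.coe_comp, Function.comp_apply, Subgroup.subtype_apply,
        QuotientGroup.mk'_apply, QuotientGroup.mk_mul]
      rw [(QuotientGroup.eq_one_iff n).mpr hn, one_mul]
    have := hp.nilpotent_left
    have hnil : Group.IsNilpotent (X ⧸ N) := Group.nilpotent_of_surjective _ hsurj
    have : Group.IsPerfect (X ⧸ N) := inferInstance
    have hsub : Subsingleton (X ⧸ N) := by
      by_contra hns
      rw [not_subsingleton_iff_nontrivial] at hns
      exact Group.IsPerfect.not_isNilpotent (X ⧸ N) hnil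
    have hNtop : N = ⊤ := by
      rw [eq_top_iff]
      intro x _
      rw [← QuotientGroup.eq_one_iff]
      exact Subsingleton.elim _ _
    rw [hK', hNtop, ← MonoidHom.range_eq_map, MonoidHom.range_eq_top]
    exact QuotientGroup.mk'_surjective _
  · left
    rw [hK', eq_bot_iff]
    rintro _ ⟨n, hn, rfl⟩
    rw [Subgroup.mem_bot, QuotientGroup.mk'_apply, QuotientGroup.eq_one_iff]
    exact hNZ hn

end Cfsg.Agent.S5017
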