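import Mathlib
import Cfsg.Statements.S5021
import Cfsg.Agent.Lib.Lead.SpecialRankOne

set_option autoImplicit false

open Cfsg

namespace Cfsg.Agent.S5021

theorem result {X : Type*} [Group X] {A B : Subgroup X} (h : Cfsg.IsRankOneGroup X A B)
    (hs : Cfsg.IsSpecialRankOnePair A B) (hab : Cfsg.HasAbelianUnipotents A B) :
    (∃ p : ℕ, p.Prime ∧ Cfsg.IsElementaryAbelian p A) ∨
    ((∀ a ∈ A, a ≠ 1 → ¬ IsOfFinOrder a) ∧ ∀ a ∈ A, ∀ n : ℕ, 0 < n → ∃ c ∈ A, c ^ n = a) := by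
  have hSP : Cfsg.Agent.Lib.Lead.SpecialRankOne.SP A B :=
    ⟨h.1, h.2, hs.2,
      fun a ha a' ha' => congrArg Subtype.val (hab.1.is_comm.comm ⟨a, ha⟩ ⟨a', ha'⟩),
      fun b hb b' hb' => congrArg Subtype.val (hab.2.is_comm.comm ⟨b, hb⟩ ⟨b', hb'⟩)⟩
  rcases Cfsg.Agent.Lib.Lead.SpecialRankOne.main hSP with ⟨p, hp, hA⟩ | ⟨h1, h2⟩
  · exact Or.inl ⟨p, hp, hab.1, hA⟩
  · exact Or.inr ⟨h1, h2⟩

end Cfsg.Agent.S5021
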