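import Mathlib
import Cfsg.Statements.S5022
import Cfsg.Agent.Lib.Lead.St2F

set_option autoImplicit false

open Cfsg

namespace Cfsg.Agent.S5022

theorem result {X : Type*} [Group X] {A B : Subgroup X} (h : Cfsg.IsRankOneGroup X A B)
    (hs : Cfsg.IsSpecialRankOnePair A B) (hab : Cfsg.HasAbelianUnipotents A B)
    {p : ℕ} [Fact p.Prime] (hA : Cfsg.IsElementaryAbelian p A)
    {a b : X} (ha : a ∈ A) (ha1 : a ≠ 1) (hb : b ∈ B) (hb1 : b ≠ 1) (hab' : Cfsg.conjBy A b⁻¹ = Cfsg.conjBy B a⁻¹) :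
    Nonempty (↥(Subgroup.closure ({a, b} : Set X)) ≃* Matrix.SpecialLinearGroup (Fin 2) (ZMod p)) ∨
    Nonempty (↥(Subgroup.closure ({a, b} : Set X)) ≃* Matrix.ProjectiveSpecialLinearGroup (Fin 2) (ZMod p)) := by
  have hSP : Cfsg.Agent.Lib.Lead.SpecialRankOne.SP A B :=
    ⟨h.1, h.2, hs.2,
      fun a ha a' ha' => congrArg Subtype.val (hab.1.is_comm.comm ⟨a, ha⟩ ⟨a', ha'⟩),
      fun b hb b' hb' => congrArg Subtype.val (hab.2.is_comm.comm ⟨b, hb⟩ ⟨b', hb'⟩)⟩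
  have hap : a ^ p = 1 := hA.2 a ha
  have hbeta : b = Cfsg.Agent.Lib.Lead.SpecialRankOne.beta A B a := by
    have h1 : b⁻¹ = Cfsg.Agent.Lib.Lead.SpecialRankOne.beta A B a⁻¹ :=
      Cfsg.Agent.Lib.Lead.SpecialRankOne.beta_unique h.2 (inv_mem ha) (inv_ne_one.mpr ha1)
        (inv_mem hb) hab'
    rw [Cfsg.Agent.Lib.Lead.SpecialRankOne.beta_inv hSP ha ha1] at h1
    exact inv_injective h1
  rw [hbeta]
  exact Cfsg.Agent.Lib.Lead.St2F.main_sl2 hSP ha ha1 hap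

end Cfsg.Agent.S5022
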