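import Cfsg.Statements.S5023
import Cfsg.Agent.Lib.Helper4.RankOneGrp2

set_option autoImplicit false
open Cfsg

namespace Cfsg.Agent.S5023

open Cfsg.Agent.Lib.Helper4.RankOneGrp Cfsg.Agent.Lib.Helper4.RankOneGrp2

section
variable {X : Type*} [Group X] {V : Type*} [AddCommGroup V] [DistribMulAction X V]

/-- the subgroup of elements fixing the `p`-torsion and acting trivially modulo `pV` -/
def Msub (X : Type*) [Group X] (V : Type*) [AddCommGroup V] [DistribMulAction X V] (p : ℕ) :
    Subgroup X where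
  carrier := {x | (∀ u : V, p • u = 0 → x • u = u) ∧ ∀ v : V, ∃ w : V, x • v - v = p • w}
  one_mem' := ⟨fun u _ => one_smul _ _, fun v => ⟨0, by simp⟩⟩
  mul_mem' := by
    rintro x y ⟨hx1, hx2⟩ ⟨hy1, hy2⟩
    refine ⟨fun u hu => by rw [mul_smul, hy1 u hu, hx1 u hu], fun v => ?_⟩
    obtain ⟨w₁, hw₁⟩ := hy2 v
    obtain ⟨w₂, hw₂⟩ := hx2 v
    refine ⟨x • w₁ + w₂, ?_⟩
    have : (x * y) • v - v = x • (y • v - v) + (x • v - v) := by
      rw [mul_smul, smul_sub]; abel
    rw [this, hw₁, hw₂, smul_comm x p w₁, smul_add]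
  inv_mem' := by
    rintro x ⟨hx1, hx2⟩
    refine ⟨fun u hu => by rw [inv_smul_eq_iff, hx1 u hu], fun v => ?_⟩
    obtain ⟨w, hw⟩ := hx2 v
    refine ⟨-(x⁻¹ • w), ?_⟩
    have : x⁻¹ • v - v = -(x⁻¹ • (x • v - v)) := by
      rw [smul_sub, inv_smul_smul]; abel
    rw [this, hw, smul_comm x⁻¹ p w, smul_neg]

theorem Msub_normal (p : ℕ) : (Msub X V p).Normal := by
  constructor
  rintro x ⟨hx1, hx2⟩ g
  refine ⟨fun u hu => ?_, fun v => ?_⟩
  · have h1 : p • (g⁻¹ • u) = 0 := by rw [← smul_comm g⁻¹ p u, hu, smul_zero]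
    rw [mul_smul, mul_smul, hx1 _ h1, smul_inv_smul]
  · obtain ⟨w, hw⟩ := hx2 (g⁻¹ • v)
    refine ⟨g • w, ?_⟩
    have : (g * x * g⁻¹) • v - v = g • (x • (g⁻¹ • v) - g⁻¹ • v) := by
      rw [mul_smul, mul_smul, smul_sub, smul_inv_smul]
    rw [this, hw, smul_comm g p w]

end

/-- Let X be a rank one group with unipotent subgroups A and B that acts faithfully on an abelian group V (written additively) with A acting quadratically: a' • (a • v − v) = a • v − v for all a, a' in A and v in V. Then A is either torsion-free or an elementary abelian p-group for some prime p. -/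
theorem result {X : Type*} [Group X] {A B : Subgroup X} (h : Cfsg.IsRankOneGroup X A B)
    {V : Type*} [AddCommGroup V] [DistribMulAction X V] (hf : ∀ x : X, (∀ v : V, x • v = v) → x = 1)
    (hq : ∀ a ∈ A, ∀ a' ∈ A, ∀ v : V, a' • (a • v - v) = a • v - v) :
    (∀ a ∈ A, a ≠ 1 → ¬ IsOfFinOrder a) ∨ ∃ p : ℕ, p.Prime ∧ Cfsg.IsElementaryAbelian p A := by
  obtain ⟨htop, hp⟩ := h
  -- faithful extensionality
  have hext : ∀ x y : X, (∀ v : V, x • v = y • v) → x = y := by
    intro x y hxy
    have : y⁻¹ * x = 1 := hf _ (fun v => by rw [mul_smul, hxy v, inv_smul_smul])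
    exact (inv_mul_eq_one.mp this).symm
  -- `A` is commutative
  have hcomm : ∀ a ∈ A, ∀ a' ∈ A, a * a' = a' * a := by
    intro a ha a' ha'
    apply hext
    intro v
    have h1 := hq a' ha' a ha v
    have h2 := hq a ha a' ha' v
    have e1 : (a * a') • v = a • (a' • v - v) + a • v := by
      rw [mul_smul, smul_sub]; abel
    have e2 : (a' * a) • v = a' • (a • v - v) + a' • v := by
      rw [mul_smul, smul_sub]; abel
    rw [e1, e2, h1, h2]; abel
  -- power formula
  have hpow : ∀ a ∈ A, ∀ (n : ℕ) (v : V), a ^ n • v = v + n • (a • v - v) := by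
    intro a ha n v
    induction n with
    | zero => simp
    | succ n ih =>
      rw [pow_succ', mul_smul, ih, smul_add, smul_comm a n, hq a ha a ha v, succ_nsmul]
      abel
  by_cases htf : ∀ a ∈ A, a ≠ 1 → ¬ IsOfFinOrder a
  · exact Or.inl htf
  right
  push Not at htf
  obtain ⟨a₀, ha₀, ha₀1, hfin⟩ := htf
  have hn0 : orderOf a₀ ≠ 0 := (orderOf_pos_iff.mpr hfin).ne'
  have hn1 : orderOf a₀ ≠ 1 := fun h => ha₀1 (orderOf_eq_one_iff.mp h)
  set p := (orderOf a₀).minFac with hp_def
  have hpp : p.Prime := Nat.minFac_prime hn1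
  have hpdvd : p ∣ orderOf a₀ := Nat.minFac_dvd _
  set a := a₀ ^ (orderOf a₀ / p) with ha_def
  have haA : a ∈ A := pow_mem ha₀ _
  have hord : orderOf a = p := orderOf_pow_orderOf_div hn0 hpdvd
  have ha1 : a ≠ 1 := by
    intro h
    rw [h, orderOf_one] at hord
    exact hpp.one_lt.ne hord
  have hap : a ^ p = 1 := by rw [← hord]; exact pow_orderOf_eq_one a
  refine ⟨p, hpp, ⟨⟨fun x y => Subtype.ext (hcomm x.1 x.2 y.1 y.2)⟩⟩, ?_⟩
  intro a' ha'
  by_contra hne
  -- `a'' = a' ^ p` lies in `M`
  have hM : a' ^ p ∈ Msub X V p := by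
    refine ⟨fun u hu => ?_, fun v => ⟨a' • v - v, ?_⟩⟩
    · rw [hpow a' ha', smul_sub, ← smul_comm a' p u, hu, smul_zero, sub_zero, add_zero]
    · rw [hpow a' ha']; abel
  have hMn : (Msub X V p).Normal := Msub_normal p
  -- some element of `M` moves `A`
  have hex : ∃ x ∈ Msub X V p, conjBy A x ≠ A := by
    by_contra hcon
    push Not at hcon
    have hcen := le_center_of_normalizes htop hp (Msub X V p) hcon hM
    have hN : a' ^ p ∈ Subgroup.normalizer (B : Set X) :=
      Subgroup.center_le_normalizer _ hcen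
    exact hne (eq_one_of_mem_normalizer hp (pow_mem ha' p) hN)
  obtain ⟨x, ⟨hx1, hx2⟩, hxA⟩ := hex
  -- `a` commutes with `x`
  have hax : a * x = x * a := by
    apply hext
    intro v
    obtain ⟨w, hw⟩ := hx2 v
    -- `a` fixes `p • w`
    have h1 : a • (p • w) = p • w := by
      have := hpow a haA p w
      rw [hap, one_smul] at this
      have h2 : p • (a • w - w) = 0 := by
        have h3 : w + p • (a • w - w) = w + 0 := by rw [add_zero]; exact this.symm
        exact add_left_cancel h3
      rw [smul_comm a p w]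
      have h4 : p • (a • w) = p • (a • w - w) + p • w := by rw [smul_sub]; abel
      rw [h4, h2, zero_add]
    -- `x` fixes `a • v - v`
    have h5 : x • (a • v - v) = a • v - v := by
      apply hx1
      have := hpow a haA p v
      rw [hap, one_smul] at this
      have h3 : v + p • (a • v - v) = v + 0 := by rw [add_zero]; exact this.symm
      exact add_left_cancel h3
    have e1 : (a * x) • v = a • (x • v - v) + a • v := by
      rw [mul_smul, smul_sub]; abel
    have e2 : (x * a) • v = x • (a • v - v) + x • v := by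
      rw [mul_smul, smul_sub]; abel
    rw [e1, e2, hw, h1, h5]
    have : x • v = p • w + v := by rw [← hw]; abel
    rw [this]; abel
  -- `a` fixes the point `conjBy A x`
  have hfix : conjBy (conjBy A x) a = conjBy A x := by
    rw [conjBy_conjBy, hax, ← conjBy_conjBy, conjBy_of_mem haA]
  have hC : conjBy A x ∈ unipotentSubgroups A B :=
    conjBy_mem_unipotent left_mem_unipotent (by rw [htop]; exact Subgroup.mem_top x)
  obtain ⟨a₁, -, huniq⟩ := regular hp hC hC hxA hxA
  have h6 := huniq a ⟨haA, hfix⟩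
  have h7 := huniq 1 ⟨one_mem _, conjBy_one _⟩
  exact ha1 (h6.trans h7.symm)

end Cfsg.Agent.S5023
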