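import Cfsg.Statements.S5024
import Cfsg.Agent.Lib.Helper4.RootSub2
import Cfsg.Agent.S5025

set_option autoImplicit false
open Cfsg

namespace Cfsg.Agent.S5024

open Cfsg.Agent.Lib.Helper4.RankOneGrp Cfsg.Agent.Lib.Helper4.RootSub
  Cfsg.Agent.Lib.Helper4.RootSub2
open scoped commutatorElement

variable {G : Type*} [Group G]

theorem mem_of_rankOnePair {C D A' E : Subgroup G} (hE : E ∈ unipotentSubgroups C D)
    (hA'le : A' ≤ C ⊔ D) (hEne : E ≠ ⊥) (h : IsRankOnePair A' E) :
    A' ∈ unipotentSubgroups C D := by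
  obtain ⟨e, he, he1⟩ := exists_ne_one_of_ne_bot hEne
  obtain ⟨a, ha, -, hEA⟩ := h.cond_right e he he1
  have : A' = conjBy (conjBy E a⁻¹) e := by
    rw [hEA, conjBy_conjBy, mul_inv_cancel, conjBy_one]
  rw [this]
  exact conjBy_mem_unipotent (conjBy_mem_unipotent hE (inv_mem (hA'le ha))) (unipotent_le hE he)

theorem not_commute_of_pair {A B : Subgroup G} (h : IsRankOnePair A B)
    (hc : ∀ a ∈ A, ∀ b ∈ B, a * b = b * a) : False := by
  obtain ⟨a, ha, ha1⟩ := exists_ne_one_left h
  exact ha1 (eq_one_of_mem_normalizer h ha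
    (mem_normalizer_of_commutes (fun x hx => hc a ha x hx)))

theorem L3 {S : Set (Subgroup G)} (hS : IsRootSubgroupSet S) {C D A' B' : Subgroup G}
    (hC : C ∈ S) (hCD : IsRankOnePair C D) (hA' : A' ∈ S)
    (hAB' : IsRankOnePair A' B') (hle : A' ⊔ B' ≤ C ⊔ D) : A' ∈ unipotentSubgroups C D := by
  by_contra hnot
  have hA'le : A' ≤ C ⊔ D := le_sup_left.trans hle
  have hB'le : B' ≤ C ⊔ D := le_sup_right.trans hle
  have hγ : ∀ E ∈ unipotentSubgroups C D, ¬ IsRankOnePair A' E := by
    intro E hE h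
    exact hnot (mem_of_rankOnePair hE hA'le (hS.ne_bot E (unipotent_mem_S hS hC hE)) h)
  have hβ : ∀ E ∈ unipotentSubgroups C D, ¬ RootCommutatorCase S A' E := by
    intro E hE hcase
    obtain ⟨hN, hNcent, hNcl, -⟩ := hcase
    have hES : E ∈ S := unipotent_mem_S hS hC hE
    have hEle : E ≤ C ⊔ D := unipotent_le hE
    have hNle : ⁅A', E⁆ ≤ C ⊔ D := by
      rw [Subgroup.commutator_le]
      intro a ha e he
      rw [commutatorElement_def]
      exact mul_mem (mul_mem (mul_mem (hA'le ha) (hEle he)) (inv_mem (hA'le ha)))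
        (inv_mem (hEle he))
    obtain ⟨E', hE', hE'ne⟩ := exists_other (E := E) hCD
    have hE'S : E' ∈ S := unipotent_mem_S hS hC hE'
    obtain ⟨hEE', -⟩ := pair_of_distinct hCD hE hE' hE'ne.symm
    have hNE : ∀ n ∈ ⁅A', E⁆, ∀ e ∈ E, n * e = e * n :=
      fun n hn e he => hNcent n hn e (Subgroup.mem_sup_right he)
    have hNA : ∀ n ∈ ⁅A', E⁆, ∀ a ∈ A', n * a = a * n :=
      fun n hn a ha => hNcent n hn a (Subgroup.mem_sup_left ha)
    rcases hS.pair _ hN E' hE'S with h | h | h
    · -- `N` commutes with `E'`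
      have hNE' := commutator_eq_bot_iff'.mp h
      obtain ⟨a₀, ha₀, ha₀1⟩ := exists_ne_one_of_ne_bot (hS.ne_bot A' hA')
      have hcl := hNcl a₀ ha₀ ha₀1
      have hex : ∃ e ∈ E, a₀ * e * a₀⁻¹ * e⁻¹ ≠ 1 := by
        by_contra hall
        push Not at hall
        apply hS.ne_bot _ hN
        rw [← hcl, eq_bot_iff]
        have h2 : ((fun b : G => a₀ * b * a₀⁻¹ * b⁻¹) '' (E : Set G)) ⊆ {1} := by
          rintro _ ⟨y, hy, rfl⟩
          exact hall y hy
        exact (Subgroup.closure_mono h2).trans (by rw [Subgroup.closure_singleton_one])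
      obtain ⟨e, he, hne⟩ := hex
      have hn₁ : a₀ * e * a₀⁻¹ * e⁻¹ ∈ ⁅A', E⁆ := by
        have := Subgroup.commutator_mem_commutator ha₀ he
        rwa [commutatorElement_def] at this
      have he1 : e ≠ 1 := by
        rintro rfl
        apply hne
        group
      have hprod : a₀ * e * a₀⁻¹ * e⁻¹ * e = a₀ * e * a₀⁻¹ := by group
      have hroot : a₀ * e * a₀⁻¹ * e⁻¹ * e ∈ rootElements S := by
        rw [hprod]
        refine ⟨?_, conjBy E a₀, hS.conj_mem E hES a₀, conj_mem_conjBy he⟩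
        intro h1
        apply he1
        have : e = a₀⁻¹ * (a₀ * e * a₀⁻¹) * a₀ := by group
        rw [this, h1]; group
      exact Cfsg.Agent.S5025.no_translate hS hES hE'S hEE' (hNE _ hn₁) (hNE' _ hn₁) hne he he1
        hroot
    · -- `N` is a member of `Ω`
      have hNΩ := mem_of_rankOnePair hE' hNle (hS.ne_bot E' hE'S) h
      by_cases hNeq : ⁅A', E⁆ = E
      · apply hS.ne_bot _ hN
        rw [commutator_eq_bot_iff']
        intro a ha e he
        have he' : e ∈ ⁅A', E⁆ := by rw [hNeq]; exact he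
        exact (hNA e he' a ha).symm
      · obtain ⟨hpair, -⟩ := pair_of_distinct hCD hNΩ hE hNeq
        exact not_commute_of_pair hpair hNE
    · obtain ⟨hM, hMcent, -, -⟩ := h
      have hE'comm : ∀ x ∈ E', ∀ y ∈ E', x * y = y * x := by
        intro x hx y hy
        have := (hS.commutative E' hE'S).is_comm.comm ⟨x, hx⟩ ⟨y, hy⟩
        exact congrArg Subtype.val this
      -- Step 1
      have hnorm : ∀ n ∈ ⁅A', E⁆, conjBy E' n = E' := by
        intro n hn
        by_contra hne
        have hE'' : conjBy E' n ∈ unipotentSubgroups C D :=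
          conjBy_mem_unipotent hE' (hNle hn)
        obtain ⟨hpair, -⟩ := pair_of_distinct hCD hE' hE'' (Ne.symm hne)
        apply not_commute_of_pair hpair
        intro x hx y hy
        rw [mem_conjBy] at hy
        have hm : ⁅n, n⁻¹ * y * n⁆ ∈ ⁅⁅A', E⁆, E'⁆ := Subgroup.commutator_mem_commutator hn hy
        have hmx := hMcent _ hm x (Subgroup.mem_sup_right hx)
        have hmy : y = ⁅n, n⁻¹ * y * n⁆ * (n⁻¹ * y * n) := by
          rw [commutatorElement_def]; group
        generalize ⁅n, n⁻¹ * y * n⁆ = m at hm hmx hmy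
        generalize n⁻¹ * y * n = e' at hy hmy
        rw [hmy, ← mul_assoc, ← hmx, mul_assoc, hE'comm x hx _ hy, mul_assoc]
      -- Step 2
      have hMle : ⁅⁅A', E⁆, E'⁆ ≤ E' := by
        rw [Subgroup.commutator_le]
        intro n hn e' he'
        rw [commutatorElement_def]
        have h1 : n * e' * n⁻¹ ∈ conjBy E' n := conj_mem_conjBy he'
        rw [hnorm n hn] at h1
        exact mul_mem h1 (inv_mem he')
      -- Step 3
      obtain ⟨m, hm, hm1⟩ := exists_ne_one_of_ne_bot (hS.ne_bot _ hM)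
      have hME' : ⁅⁅A', E⁆, E'⁆ = E' :=
        core hS hE'S hES hM (RankOnePair_symm hEE') (a := m) (z := 1) (hMle hm) hm1
          (by intro x _; simp) (by intro x _; simp) (by simpa using hm) (by simpa using hm1)
      -- Step 4
      apply hS.ne_bot _ hM
      rw [commutator_eq_bot_iff']
      intro n hn e' he'
      have he'' : e' ∈ ⁅⁅A', E⁆, E'⁆ := by rw [hME']; exact he'
      exact (hMcent e' he'' n (Subgroup.mem_sup_left hn)).symm
  -- (α)
  have hα : ∀ E ∈ unipotentSubgroups C D, ∀ a ∈ A', ∀ e ∈ E, a * e = e * a := by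
    intro E hE
    rcases hS.pair A' hA' E (unipotent_mem_S hS hC hE) with h | h | h
    · exact commutator_eq_bot_iff'.mp h
    · exact absurd h (hγ E hE)
    · exact absurd h (hβ E hE)
  apply not_commute_of_pair hAB'
  intro a ha b hb
  have h1 : C ≤ Subgroup.centralizer {a} := by
    intro c hc
    rw [Subgroup.mem_centralizer_singleton_iff]
    exact (hα C left_mem_unipotent a ha c hc).symm
  have h2 : D ≤ Subgroup.centralizer {a} := by
    intro d hd
    rw [Subgroup.mem_centralizer_singleton_iff]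
    exact (hα D (right_mem_unipotent hCD) a ha d hd).symm
  have h3 := (sup_le h1 h2) (hB'le hb)
  rw [Subgroup.mem_centralizer_singleton_iff] at h3
  exact h3.symm

/-- Let S be a set of abstract root subgroups of G, A and C members of S, B a rank one partner of A in S and D a rank one partner of C in S. If the rank one group ⟨A, B⟩ is contained in ⟨C, D⟩ then the two coincide, and C and D are conjugates of A inside ⟨A, B⟩. -/
theorem result {G : Type*} [Group G] {S : Set (Subgroup G)} (hS : Cfsg.IsRootSubgroupSet S)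
    {A B C D : Subgroup G} (hA : A ∈ S) (hC : C ∈ S) (hB : B ∈ Cfsg.rankOnePartners S A) (hD : D ∈ Cfsg.rankOnePartners S C)
    (hle : A ⊔ B ≤ C ⊔ D) : A ⊔ B = C ⊔ D ∧ C ∈ Cfsg.unipotentSubgroups A B ∧ D ∈ Cfsg.unipotentSubgroups A B := by
  obtain ⟨hBS, hAB⟩ := hB
  obtain ⟨hDS, hCD⟩ := hD
  have hAΩ := L3 hS hC hCD hA hAB hle
  have hBΩ := L3 hS hC hCD hBS (RankOnePair_symm hAB) (by rwa [sup_comm])
  obtain ⟨-, hsup⟩ := pair_of_distinct hCD hAΩ hBΩ hAB.ne
  obtain ⟨y, hy, hAy⟩ := hAΩ
  have hCmem : C ∈ unipotentSubgroups A B := by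
    refine ⟨y⁻¹, by rw [hsup]; exact inv_mem hy, ?_⟩
    rw [hAy, conjBy_conjBy, inv_mul_cancel, conjBy_one]
  refine ⟨hsup, hCmem, ?_⟩
  obtain ⟨d, hd, hDd⟩ := right_mem_unipotent hCD
  rw [hDd]
  exact conjBy_mem_unipotent hCmem (by rw [hsup]; exact hd)

end Cfsg.Agent.S5024
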