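import Cfsg.Statements.S5026
import Cfsg.Agent.Lib.Helper4.RootSub

set_option autoImplicit false
open Cfsg

namespace Cfsg.Agent.S5026

open Cfsg.Agent.Lib.Helper4.RankOneGrp Cfsg.Agent.Lib.Helper4.RootSub

theorem le_centralizer_zpowers_iff {G : Type*} [Group G] {E : Subgroup G} {g : G} :
    E ≤ Subgroup.centralizer (Subgroup.zpowers g : Set G) ↔ ∀ x ∈ E, x * g = g * x := by
  constructor
  · intro h x hx
    exact ((Subgroup.mem_centralizer_iff.mp (h hx)) g (Subgroup.mem_zpowers g)).symm
  · intro h x hx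
    rw [Subgroup.mem_centralizer_iff]
    rintro _ ⟨n, rfl⟩
    have : Commute x g := h x hx
    exact ((this.zpow_right n).eq).symm

/-- the key step: a member centralizing `a * b` centralizes `a` -/
theorem key {G : Type*} [Group G] {S : Set (Subgroup G)} (hS : Cfsg.IsRootSubgroupSet S)
    (hdeg : Cfsg.IsDegenerateRootSet S) {A B E : Subgroup G} (hA : A ∈ S) (hB : B ∈ S) (hE : E ∈ S)
    {a b : G} (ha : a ∈ A) (ha1 : a ≠ 1) (hb : b ∈ B) (hb1 : b ≠ 1) (hab : a * b = b * a)
    (hab1 : a * b ≠ 1) (hcent : ∀ x ∈ E, x * (a * b) = (a * b) * x) : ∀ x ∈ E, x * a = a * x := by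
  rcases hS.pair A hA E hE with h | h | h
  · intro x hx
    exact ((commutator_eq_bot_iff'.mp h) a ha x hx).symm
  · exfalso
    have h' := RankOnePair_symm h
    obtain ⟨e, he, -, hAe⟩ := h.cond_left a ha ha1
    -- `conjBy E a⁻¹ = conjBy E b`
    have habN : (a * b)⁻¹ ∈ Subgroup.normalizer (E : Set G) :=
      inv_mem (mem_normalizer_of_commutes (fun x hx => (hcent x hx).symm))
    have hEa : conjBy E a⁻¹ = conjBy E b := by
      have : a⁻¹ = b * (a * b)⁻¹ := by group
      rw [this, ← conjBy_conjBy, conjBy_eq_self_iff.mpr habN]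
    rw [hEa] at hAe
    have hcase1 : A ≠ B := by
      rintro rfl
      exact hab1 (eq_one_of_mem_normalizer h (mul_mem ha hb)
        (mem_normalizer_of_commutes (fun x hx => (hcent x hx).symm)))
    rcases hS.pair B hB E hE with hBE | hBE | hBE
    · have h1 := commutator_eq_bot_iff'.mp hBE
      have hbN : b ∈ Subgroup.normalizer (E : Set G) := mem_normalizer_of_commutes (h1 b hb)
      rw [conjBy_eq_self_iff.mpr hbN, conjBy_eq_iff, inv_inv, conjBy_of_mem he] at hAe
      exact h.ne hAe
    · have hb1' : b⁻¹ ≠ 1 := fun h => hb1 (inv_eq_one.mp h)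
      obtain ⟨e', he', -, hBe'⟩ := hBE.cond_left b⁻¹ (inv_mem hb) hb1'
      rw [inv_inv, ← hAe, conjBy_eq_iff, inv_inv, conjBy_conjBy] at hBe'
      -- `B = conjBy A (e' * e⁻¹)`
      rcases Delta_conjA_right h (mul_mem he' (inv_mem he)) with h5 | ⟨a₁, ha₁, h5⟩
      · exact hcase1 (hBe'.trans h5).symm
      · rw [← hBe'] at h5
        -- `a ∈ A ⊓ conjBy A b`
        have haAb : a ∈ conjBy A b := by
          have : a = b * a * b⁻¹ := by rw [← hab]; group
          rw [this]; exact conj_mem_conjBy ha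
        have hEq : conjBy A b = A :=
          core hS hA hE (hS.conj_mem A hA b) h (a := a) (z := 1) ha ha1 (fun x _ => by simp)
            (fun x _ => by simp) (by rwa [one_mul]) (by rwa [one_mul])
        have hbN : b ∈ Subgroup.normalizer (A : Set G) := conjBy_eq_self_iff.mp hEq
        rw [h5, mem_conjBy] at hb
        have he1N : a₁⁻¹ * b * a₁ ∈ Subgroup.normalizer (A : Set G) :=
          mul_mem (mul_mem (inv_mem (Subgroup.le_normalizer ha₁)) hbN) (Subgroup.le_normalizer ha₁)
        have := eq_one_of_mem_normalizer h' hb he1N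
        apply hb1
        have h6 : b = a₁ * (a₁⁻¹ * b * a₁) * a₁⁻¹ := by group
        rw [h6, this]; group
    · exact hdeg B hB E hE hBE
  · exact absurd h (hdeg A hA E hE)

/-- Let S be a degenerate set of abstract root subgroups of G (a set of abstract transvection groups) and let a, b be commuting non-identity elements of members of S with a b ≠ 1. Then the members of S centralizing a b are exactly those centralizing both a and b. -/
theorem result {G : Type*} [Group G] {S : Set (Subgroup G)} (hS : Cfsg.IsRootSubgroupSet S) (hdeg : Cfsg.IsDegenerateRootSet S)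
    {a b : G} (ha : a ∈ Cfsg.rootElements S) (hb : b ∈ Cfsg.rootElements S) (hab : a * b = b * a) (hab1 : a * b ≠ 1) :
    Cfsg.centralizingMembers S (Subgroup.zpowers (a * b)) =
      Cfsg.centralizingMembers S (Subgroup.zpowers a) ∩ Cfsg.centralizingMembers S (Subgroup.zpowers b) := by
  obtain ⟨ha1, A, hA, haA⟩ := ha
  obtain ⟨hb1, B, hB, hbB⟩ := hb
  ext E
  unfold centralizingMembers
  simp only [Set.mem_ofPred_eq, Set.mem_inter_iff, le_centralizer_zpowers_iff]
  constructor
  · rintro ⟨hE, hcent⟩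
    have h1 := key hS hdeg hA hB hE haA ha1 hbB hb1 hab hab1 hcent
    refine ⟨⟨hE, h1⟩, hE, ?_⟩
    intro x hx
    have h2 := hcent x hx
    have h3 := h1 x hx
    calc x * b = a⁻¹ * (a * x) * b := by group
      _ = a⁻¹ * (x * a) * b := by rw [h3]
      _ = a⁻¹ * (x * (a * b)) := by group
      _ = a⁻¹ * ((a * b) * x) := by rw [h2]
      _ = b * x := by group
  · rintro ⟨⟨hE, h1⟩, -, h2⟩
    refine ⟨hE, fun x hx => ?_⟩
    rw [← mul_assoc, h1 x hx, mul_assoc, h2 x hx, mul_assoc]

end Cfsg.Agent.S5026
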