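import Cfsg.Statements.S5027
import Cfsg.Agent.S5025
import Cfsg.Agent.S5028

set_option autoImplicit false
open Cfsg

namespace Cfsg.Agent.S5027

open Cfsg.Agent.Lib.Helper4.RankOneGrp Cfsg.Agent.Lib.Helper4.RootSub
open scoped commutatorElement

/-- Let S be a set of abstract root subgroups of G such that every member of S has a rank one partner in S (the graph of rank one pairs on S has no isolated vertex). Then the second centre of G equals its centre. -/
theorem result {G : Type*} [Group G] {S : Set (Subgroup G)} (hS : Cfsg.IsRootSubgroupSet S)
    (hF : ∀ A ∈ S, ¬ Cfsg.IsIsolatedIn (Cfsg.FAdj S) S A) : Subgroup.upperCentralSeries G 2 = Subgroup.center G := by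
  apply le_antisymm
  · intro z hz
    have hzc : ∀ y : G, z * y * z⁻¹ * y⁻¹ ∈ Subgroup.center G := by
      intro y
      have := Subgroup.mem_upperCentralSeries_succ_iff.mp hz y
      rwa [Subgroup.upperCentralSeries_one, commutatorElement_def] at this
    have hcomm : ∀ A ∈ S, ∀ a ∈ A, z * a = a * z := by
      intro A hA a ha
      by_cases ha1 : a = 1
      · rw [ha1, mul_one, one_mul]
      obtain ⟨C, hC, hAC⟩ := Cfsg.Agent.S5028.exists_partner (hF A hA) hA
      set t := z * a * z⁻¹ * a⁻¹ with ht
      have htc : t ∈ Subgroup.center G := hzc a
      have htall : ∀ x : G, t * x = x * t := fun x => ((Subgroup.mem_center_iff.mp htc) x).symm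
      by_cases ht1 : t = 1
      · have : z * a = t * (a * z) := by rw [ht]; group
        rw [this, ht1, one_mul]
      · exfalso
        have h1 := Cfsg.Agent.S5025.no_translate hS hA hC hAC (fun x _ => htall x)
          (fun x _ => htall x) ht1 ha ha1
        apply h1
        have h2 : t * a = z * a * z⁻¹ := by rw [ht]; group
        refine ⟨?_, conjBy A z, hS.conj_mem A hA z, ?_⟩
        · rw [h2]
          intro h3
          apply ha1
          have : a = z⁻¹ * (z * a * z⁻¹) * z := by group
          rw [this, h3]; group
        · rw [h2]
          exact conj_mem_conjBy ha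
    have hle : ∀ A ∈ S, A ≤ Subgroup.centralizer {z} := by
      intro A hA a ha
      rw [Subgroup.mem_centralizer_singleton_iff]
      exact (hcomm A hA a ha).symm
    have htop : (⊤ : Subgroup G) ≤ Subgroup.centralizer {z} := by
      rw [← hS.generates]
      exact iSup₂_le hle
    rw [Subgroup.mem_center_iff]
    intro g
    have := htop (Subgroup.mem_top g)
    rw [Subgroup.mem_centralizer_singleton_iff] at this
    exact this
  · rw [← Subgroup.upperCentralSeries_one]
    exact Subgroup.upperCentralSeries_mono G (by norm_num)

end Cfsg.Agent.S5027
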