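import Cfsg.Statements.S5033
import Cfsg.Agent.Lib.Helper1.Rb3
import Cfsg.Agent.S5032
import Cfsg.Agent.Lib.Helper4.RootLine2

set_option autoImplicit false
open Cfsg

namespace Cfsg.Agent.S5033

/-- Quasisimplicity criterion for groups generated by abstract root subgroups. Let S be a set of abstract root subgroups of G with more than one member such that: the graph of rank one pairs on S is connected; no two different members of S have the same set of commuting members of S; if S is degenerate then every member of S has more than three elements; and every rank one pair in S is special. Then for every A ∈ S one has G = G' A with A ∩ G' ≠ 1, and the commutator subgroup G' is quasisimple. Moreover G is perfect if S is non-degenerate, or if some rank one pair A, B in S generates a perfect group. -/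
theorem result {G : Type*} [Group G] {S : Set (Subgroup G)} (hS : Cfsg.IsRootSubgroupSet S) (h2 : ∃ A ∈ S, ∃ B ∈ S, A ≠ B)
    (h1 : Cfsg.IsConnectedFamily (Cfsg.FAdj S) S)
    (h2' : ∀ A ∈ S, ∀ C ∈ S, A ≠ C → Cfsg.centralizingMembers S A ≠ Cfsg.centralizingMembers S C)
    (h3 : Cfsg.IsDegenerateRootSet S → ∀ A ∈ S, 3 < ENat.card A)
    (h4 : ∀ A ∈ S, ∀ B ∈ Cfsg.rankOnePartners S A, Cfsg.IsSpecialRankOnePair A B) :
    (∀ A ∈ S, commutator G ⊔ A = ⊤ ∧ A ⊓ commutator G ≠ ⊥) ∧ Cfsg.IsQuasisimple ↥(commutator G) ∧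
    (Cfsg.IsNondegenerateRootSet S → commutator G = ⊤) ∧
    ((∃ A ∈ S, ∃ B ∈ Cfsg.rankOnePartners S A, Group.IsPerfect ↥(A ⊔ B)) → commutator G = ⊤) := by
  have hclass := (Cfsg.Agent.S5032.result hS h2).mp h1
  have hcl : Cfsg.IsRootSubgroupClass S := ⟨hS, hclass.1⟩
  have hall : ∀ A ∈ S, ∃ D ∈ S, Cfsg.IsRankOnePair A D := by
    apply Cfsg.Agent.Lib.Helper4.RootLine2.hall_of_class hcl
    obtain ⟨A, hA, hiso⟩ := hclass.2
    have hex : ∃ B, Cfsg.FAdj S A B ∨ Cfsg.FAdj S B A := by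
      by_contra hcon
      push Not at hcon
      exact hiso ⟨hA, hcon⟩
    obtain ⟨B, hB | hB⟩ := hex
    · exact ⟨A, hB.1, B, hB.2.1, hB.2.2⟩
    · exact ⟨B, hB.1, A, hB.2.1, hB.2.2⟩
  obtain ⟨A₀, hA₀, -⟩ := h2
  by_cases hdeg : Cfsg.IsDegenerateRootSet S
  · -- the degenerate case
    have hyp : Cfsg.Agent.Lib.Helper1.Rb.Hyp S := by
      refine ⟨hS, hall, h1, h2', ?_, hdeg⟩
      intro A hA B hB hp
      exact ⟨hp, (h4 A hA B ⟨hB, hp⟩).2,
        fun a ha a' ha' => congrArg Subtype.val ((hS.commutative A hA).is_comm.comm ⟨a, ha⟩ ⟨a', ha'⟩),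
        fun b hb b' hb' => congrArg Subtype.val ((hS.commutative B hB).is_comm.comm ⟨b, hb⟩ ⟨b', hb'⟩),
        h3 hdeg A hA⟩
    refine ⟨fun A hA => ⟨Cfsg.Agent.Lib.Helper1.Rb.comm_sup hyp hA, ?_⟩,
      Cfsg.Agent.Lib.Helper1.Rb.deg_quasisimple hyp hA₀, ?_, ?_⟩
    · obtain ⟨a, ha, haG, ha1⟩ := Cfsg.Agent.Lib.Helper1.Rb.exists_in_comm hyp hA
      intro e
      have hmem : a ∈ A ⊓ commutator G := Subgroup.mem_inf.mpr ⟨ha, haG⟩
      rw [e, Subgroup.mem_bot] at hmem
      exact ha1 hmem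
    · intro hnd
      obtain ⟨A, hA, B, hB, hc⟩ := hnd.2.2
      exact absurd hc (hdeg A hA B hB)
    · rintro ⟨A, hA, B, hB, hperf⟩
      have hX : ⁅A ⊔ B, A ⊔ B⁆ = A ⊔ B := Subgroup.isPerfect_iff.mp hperf
      have hle : A ≤ commutator G := by
        calc A ≤ A ⊔ B := le_sup_left
          _ = ⁅A ⊔ B, A ⊔ B⁆ := hX.symm
          _ ≤ commutator G := Cfsg.Agent.Lib.Helper1.Rb.comm_pair_le
      have := Cfsg.Agent.Lib.Helper1.Rb.comm_sup hyp hA
      rwa [sup_eq_left.mpr hle] at this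
  · -- the non-degenerate case
    unfold Cfsg.IsDegenerateRootSet at hdeg
    push Not at hdeg
    obtain ⟨A, hA, B, hB, hc⟩ := hdeg
    have hnd : Cfsg.IsNondegenerateRootSet S := by
      refine ⟨⟨A, hA, ⁅A, B⁆, hc.1,
        (Cfsg.Agent.Lib.Helper4.RootSub3.commutator_ne_left hS hc).symm, ?_⟩, ?_, ⟨A, hA, B, hB, hc⟩⟩
      · rw [Cfsg.Agent.Lib.Helper4.RootSub.commutator_eq_bot_iff']
        intro a ha c hcm
        exact (hc.2.1 c hcm a (Subgroup.mem_sup_left ha)).symm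
      · obtain ⟨D, hD, hp⟩ := hall A hA
        exact ⟨A, hA, D, hD, hp⟩
    have htop := Cfsg.Agent.Lib.Helper1.Rb.nd_perfect hcl hnd hall
    refine ⟨fun A' hA' => ⟨?_, ?_⟩, Cfsg.Agent.Lib.Helper1.Rb.nd_quasisimple hcl hnd hall h2',
      fun _ => htop, fun _ => htop⟩
    · rw [htop]; exact top_sup_eq _
    · rw [htop, inf_top_eq]; exact hS.ne_bot A' hA'

end Cfsg.Agent.S5033
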