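import Cfsg.Statements.S5035
import Cfsg.Agent.S5032

set_option autoImplicit false
open Cfsg

namespace Cfsg.Agent.S5035

open Cfsg.Agent.Lib.Helper4.RankOneGrp Cfsg.Agent.Lib.Helper4.RootSub
  Cfsg.Agent.Lib.Helper4.RootSub2 Cfsg.Agent.Lib.Helper4.RootSub3
open scoped commutatorElement

variable {G H : Type*} [Group G] [Group H]

theorem map_conjBy (f : G →* H) (A : Subgroup G) (g : G) :
    (conjBy A g).map f = conjBy (A.map f) (f g) := by
  ext y
  constructor
  · rintro ⟨x, hx, rfl⟩
    rw [SetLike.mem_coe, mem_conjBy] at hx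
    rw [mem_conjBy]
    refine ⟨g⁻¹ * x * g, hx, ?_⟩
    simp
  · intro hy
    rw [mem_conjBy] at hy
    obtain ⟨a, ha, hay⟩ := hy
    refine ⟨g * a * g⁻¹, conj_mem_conjBy ha, ?_⟩
    rw [map_mul, map_mul, map_inv, hay]
    group

/-- the image of a rank one pair with different images is a rank one pair -/
theorem rankOne_map (f : G →* H) {A B : Subgroup G} (h : IsRankOnePair A B)
    (hne : A.map f ≠ B.map f) : IsRankOnePair (A.map f) (B.map f) := by
  have key : ∀ {A B : Subgroup G}, IsRankOnePair A B → A.map f ≠ B.map f →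
      RankOneCondition (A.map f) (B.map f) := by
    intro A B h hne y hy hy1
    obtain ⟨a, ha, rfl⟩ := hy
    have ha1 : a ≠ 1 := by
      rintro rfl
      exact hy1 (map_one f)
    obtain ⟨b, hb, -, hrel⟩ := h.cond_left a ha ha1
    have hrel' := congrArg (Subgroup.map f) hrel
    rw [map_conjBy, map_conjBy, map_inv, map_inv] at hrel'
    refine ⟨f b, ⟨b, hb, rfl⟩, ?_, hrel'⟩
    intro hb1
    apply hne
    rw [hb1, inv_one, conjBy_one] at hrel'
    have h1 : conjBy (A.map f) (f a) = A.map f := conjBy_of_mem ⟨a, ha, rfl⟩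
    have h2 : conjBy (A.map f) (f a) = B.map f := by
      rw [hrel', conjBy_conjBy, mul_inv_cancel, conjBy_one]
    exact h1.symm.trans h2
  refine ⟨hne, ?_, ?_, key h hne, key (RankOnePair_symm h) hne.symm⟩
  · have := h.nilpotent_left
    exact Group.nilpotent_of_surjective _ (MonoidHom.subgroupMap_surjective f A)
  · have := h.nilpotent_right
    exact Group.nilpotent_of_surjective _ (MonoidHom.subgroupMap_surjective f B)


/-- the image of a pair in the commutator case -/
theorem commCase_map (f : G →* H) {S : Set (Subgroup G)} {A B : Subgroup G}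
    (h : RootCommutatorCase S A B) :
    RootCommutatorCase ((fun A : Subgroup G => A.map f) '' S) (A.map f) (B.map f) := by
  obtain ⟨hC, hcent, hclA, hclB⟩ := h
  have hmap : ⁅A.map f, B.map f⁆ = (⁅A, B⁆).map f := (Subgroup.map_commutator A B f).symm
  refine ⟨?_, ?_, ?_, ?_⟩
  · rw [hmap]
    exact ⟨_, hC, rfl⟩
  · rw [hmap, ← Subgroup.map_sup]
    rintro _ ⟨c, hc, rfl⟩ _ ⟨x, hx, rfl⟩
    rw [← map_mul, ← map_mul, hcent c hc x hx]
  · rintro _ ⟨a, ha, rfl⟩ ha1
    have ha1' : a ≠ 1 := by
      rintro rfl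
      exact ha1 (map_one f)
    rw [hmap, ← hclA a ha ha1', MonoidHom.map_closure]
    congr 1
    ext y
    constructor
    · rintro ⟨_, ⟨b, hb, rfl⟩, rfl⟩
      exact ⟨a * b * a⁻¹ * b⁻¹, ⟨b, hb, rfl⟩, by simp⟩
    · rintro ⟨_, ⟨b, hb, rfl⟩, rfl⟩
      exact ⟨f b, ⟨b, hb, rfl⟩, by simp⟩
  · rintro _ ⟨b, hb, rfl⟩ hb1
    have hb1' : b ≠ 1 := by
      rintro rfl
      exact hb1 (map_one f)
    rw [hmap, ← hclB b hb hb1', MonoidHom.map_closure]
    congr 1
    ext y
    constructor
    · rintro ⟨_, ⟨a, ha, rfl⟩, rfl⟩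
      exact ⟨a * b * a⁻¹ * b⁻¹, ⟨a, ha, rfl⟩, by simp⟩
    · rintro ⟨_, ⟨a, ha, rfl⟩, rfl⟩
      exact ⟨f a, ⟨a, ha, rfl⟩, by simp⟩

/-- images of paths are paths -/
theorem path_map (f : G →* H) {S : Set (Subgroup G)} {A B : Subgroup G}
    (h : Relation.ReflTransGen (FAdj S) A B) :
    Relation.ReflTransGen (FAdj ((fun A : Subgroup G => A.map f) '' S)) (A.map f) (B.map f) := by
  induction h with
  | refl => exact Relation.ReflTransGen.refl
  | @tail C D _ hcd ih =>
    by_cases he : C.map f = D.map f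
    · rw [← he]
      exact ih
    · exact ih.tail ⟨⟨C, hcd.1, rfl⟩, ⟨D, hcd.2.1, rfl⟩, rankOne_map f hcd.2.2 he⟩

/-- Let S be a set of abstract root subgroups of G whose graph of rank one pairs is connected, and f a homomorphism from G onto a group H. Then either the images of the members of S form a set of abstract root subgroups of H whose graph of rank one pairs is again connected, or H equals the image of a member of S. -/
theorem result {G H : Type*} [Group G] [Group H] {S : Set (Subgroup G)} (hS : Cfsg.IsRootSubgroupSet S)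
    (hc : Cfsg.IsConnectedFamily (Cfsg.FAdj S) S) (f : G →* H) (hf : Function.Surjective f) :
    (Cfsg.IsRootSubgroupSet ((fun A : Subgroup G => A.map f) '' S) ∧
      Cfsg.IsConnectedFamily (Cfsg.FAdj ((fun A : Subgroup G => A.map f) '' S)) ((fun A : Subgroup G => A.map f) '' S)) ∨
    ∃ A ∈ S, A.map f = ⊤ := by
  have hgen : (⨆ A ∈ S, A.map f) = ⊤ := by
    have h1 : (⨆ A ∈ S, A.map f) = (⨆ A ∈ S, A).map f := by
      rw [Subgroup.map_iSup]
      congr 1
      funext A
      rw [Subgroup.map_iSup]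
    rw [h1, hS.generates, Subgroup.map_top_of_surjective f hf]
  by_cases hbot : ∃ A ∈ S, A.map f = ⊥
  · right
    obtain ⟨A₀, hA₀, hA₀bot⟩ := hbot
    refine ⟨A₀, hA₀, ?_⟩
    rw [hA₀bot, ← hgen]
    symm
    rw [eq_bot_iff]
    apply iSup₂_le
    intro B hB
    obtain ⟨g, rfl⟩ := Cfsg.Agent.S5032.conj_of_path (hc A₀ hA₀ B hB)
    rw [map_conjBy, hA₀bot]
    intro x hx
    rw [mem_conjBy, Subgroup.mem_bot] at hx
    rw [Subgroup.mem_bot]
    have : x = f g * (((f g)⁻¹ * x * f g)) * (f g)⁻¹ := by group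
    rw [this, hx]; group
  · left
    push Not at hbot
    have hroot : IsRootSubgroupSet ((fun A : Subgroup G => A.map f) '' S) := by
      refine ⟨?_, ?_, ?_, ?_, ?_⟩
      · rintro _ ⟨A, hA, rfl⟩
        have := hS.commutative A hA
        refine ⟨⟨?_⟩⟩
        rintro ⟨_, ⟨x, hx, rfl⟩⟩ ⟨_, ⟨y, hy, rfl⟩⟩
        apply Subtype.ext
        show f x * f y = f y * f x
        rw [← map_mul, ← map_mul, comm_of_mem hS hA hx hy]
      · rintro _ ⟨A, hA, rfl⟩
        exact hbot A hA
      · rw [← hgen]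
        apply le_antisymm
        · apply iSup₂_le
          rintro _ ⟨A, hA, rfl⟩
          exact le_iSup₂ (f := fun (A : Subgroup G) (_ : A ∈ S) => A.map f) A hA
        · apply iSup₂_le
          intro A hA
          exact le_iSup₂ (f := fun (B : Subgroup H)
            (_ : B ∈ (fun A : Subgroup G => A.map f) '' S) => B) (A.map f) ⟨A, hA, rfl⟩
      · rintro _ ⟨A, hA, rfl⟩ h
        obtain ⟨g, rfl⟩ := hf h
        exact ⟨conjBy A g, hS.conj_mem A hA g, map_conjBy f A g⟩
      · rintro _ ⟨A, hA, rfl⟩ _ ⟨B, hB, rfl⟩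
        rcases hS.pair A hA B hB with h | h | h
        · left
          show ⁅A.map f, B.map f⁆ = ⊥
          rw [← Subgroup.map_commutator, h, Subgroup.map_bot]
        · by_cases he : A.map f = B.map f
          · left
            show ⁅A.map f, B.map f⁆ = ⊥
            rw [← he, ← Subgroup.map_commutator]
            have : ⁅A, A⁆ = ⊥ := by
              rw [commutator_eq_bot_iff']
              exact fun x hx y hy => comm_of_mem hS hA hx hy
            rw [this, Subgroup.map_bot]
          · right; left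
            exact rankOne_map f h he
        · right; right
          exact commCase_map f h
    refine ⟨hroot, ?_⟩
    rintro _ ⟨A, hA, rfl⟩ _ ⟨B, hB, rfl⟩
    exact path_map f (hc A hA B hB)

end Cfsg.Agent.S5035
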