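import Cfsg.Statements.S5036
import Cfsg.Agent.S5030

set_option autoImplicit false
open Cfsg

namespace Cfsg.Agent.S5036

open Cfsg.Agent.Lib.Helper4.RankOneGrp Cfsg.Agent.Lib.Helper4.RootSub
  Cfsg.Agent.Lib.Helper4.RootSub2 Cfsg.Agent.Lib.Helper4.RootSub3
open scoped commutatorElement

variable {G : Type*} [Group G]

/-- commuting is preserved by simultaneous conjugation -/
theorem comm_conj {H K : Subgroup G} (h : ∀ x ∈ H, ∀ y ∈ K, x * y = y * x) (g : G) :
    ∀ x ∈ conjBy H g, ∀ y ∈ conjBy K g, x * y = y * x := by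
  intro x hx y hy
  rw [mem_conjBy] at hx hy
  have h1 := h _ hx _ hy
  have e : x * y = g * ((g⁻¹ * x * g) * (g⁻¹ * y * g)) * g⁻¹ := by group
  rw [e, h1]; group

/-- a loop `A ≤ ⁅D, ⁅A, B⁆⁆` inside a nilpotent group forces `A = ⊥` -/
theorem eq_bot_of_nilpotent_loop {R A B D : Subgroup G} (hA : A ≤ R) (hB : B ≤ R) (hD : D ≤ R)
    (hnil : Group.IsNilpotent ↥R) (hloop : A ≤ ⁅D, ⁅A, B⁆⁆) : A = ⊥ := by
  obtain ⟨n, hn⟩ := (Subgroup.isNilpotent_iff_lowerCentralSeries R).mp hnil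
  have hall : ∀ k, A ≤ R.lowerCentralSeries k := by
    intro k
    induction k with
    | zero => exact hA
    | succ k ih =>
      have h1 : ⁅A, B⁆ ≤ R.lowerCentralSeries (k + 1) := by
        rw [Subgroup.lowerCentralSeries_succ]
        exact Subgroup.commutator_mono ih hB
      have h2 : ⁅D, ⁅A, B⁆⁆ ≤ R.lowerCentralSeries (k + 2) := by
        rw [Subgroup.lowerCentralSeries_succ, Subgroup.commutator_comm]
        exact Subgroup.commutator_mono h1 hD
      exact (hloop.trans h2).trans (Subgroup.lowerCentralSeries_antitone R (Nat.le_succ _))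
  rw [eq_bot_iff, ← hn]
  exact hall n

/-- `B` and `D` form a rank one pair -/
theorem rankOne_BD {S : Set (Subgroup G)} (hS : IsRootSubgroupSet S) {A B D : Subgroup G}
    (hA : A ∈ S) (hB : B ∈ S) (hC : ⁅A, B⁆ ∈ S) (hD : D ∈ S) (hDC : ⁅D, ⁅A, B⁆⁆ = A) :
    IsRankOnePair B D := by
  have hAS' : ⁅D, ⁅A, B⁆⁆ ∈ S := by rw [hDC]; exact hA
  have hcaseDC := commutatorCase_of_mem hS hD hC hAS'
  have hAD : ∀ a ∈ A, ∀ d ∈ D, a * d = d * a := by
    intro a ha d hd
    have ha' : a ∈ ⁅D, ⁅A, B⁆⁆ := by rw [hDC]; exact ha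
    exact hcaseDC.2.1 a ha' d (Subgroup.mem_sup_left hd)
  rcases hS.pair B hB D hD with h | h | h
  · exfalso
    have h1 : ⁅⁅B, D⁆, A⁆ = ⊥ := by rw [h, Subgroup.commutator_bot_left]
    have h2 : ⁅⁅D, A⁆, B⁆ = ⊥ := by
      have : ⁅D, A⁆ = ⊥ := by
        rw [commutator_eq_bot_iff']
        intro d hd a ha
        exact (hAD a ha d hd).symm
      rw [this, Subgroup.commutator_bot_left]
    have h3 := Subgroup.commutator_commutator_eq_bot_of_rotate h1 h2
    rw [Subgroup.commutator_comm, hDC] at h3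
    exact hS.ne_bot A hA h3
  · exact h
  · exfalso
    have hDA : D ≠ A := by
      intro he
      apply hS.ne_bot A hA
      rw [← hDC, he, commutator_eq_bot_iff']
      intro a ha c hc
      exact ((commutatorCase_of_mem hS hA hB hC).2.1 c hc a (Subgroup.mem_sup_left ha)).symm
    have hDcp : D ∈ commutingPartners S A :=
      ⟨hD, hDA, commutator_eq_bot_iff'.mpr hAD⟩
    obtain ⟨b, hb, hb1⟩ := exists_ne_one_of_ne_bot (hS.ne_bot B hB)
    have hnil := (Cfsg.Agent.S5030.result hS hA hB hD hC h.1 hDcp hb hb1).2.2.2.2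
    apply hS.ne_bot A hA
    exact eq_bot_of_nilpotent_loop (R := A ⊔ B ⊔ D) (le_sup_left.trans le_sup_left)
      (le_sup_right.trans le_sup_left) le_sup_right hnil (le_of_eq hDC.symm)


section structure_

variable {S : Set (Subgroup G)} (hS : IsRootSubgroupSet S) {A B D : Subgroup G}
  (hA : A ∈ S) (hB : B ∈ S) (hC : ⁅A, B⁆ ∈ S) (hD : D ∈ S) (hDC : ⁅D, ⁅A, B⁆⁆ = A)
  (hcaseAB : RootCommutatorCase S A B) (hcaseDC : RootCommutatorCase S D ⁅A, B⁆)
  (hBD : IsRankOnePair B D)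

include hcaseAB in
theorem hCA : ∀ c ∈ ⁅A, B⁆, ∀ a ∈ A, c * a = a * c :=
  fun c hc a ha => hcaseAB.2.1 c hc a (Subgroup.mem_sup_left ha)

include hcaseAB in
theorem hCB : ∀ c ∈ ⁅A, B⁆, ∀ b ∈ B, c * b = b * c :=
  fun c hc b hb => hcaseAB.2.1 c hc b (Subgroup.mem_sup_right hb)

include hDC hcaseDC in
theorem hAD : ∀ a ∈ A, ∀ d ∈ D, a * d = d * a := by
  intro a ha d hd
  have ha' : a ∈ ⁅D, ⁅A, B⁆⁆ := by rw [hDC]; exact ha
  exact hcaseDC.2.1 a ha' d (Subgroup.mem_sup_left hd)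

include hS hB hD hBD hcaseAB in
theorem hnc1 : ∀ a ∈ A, a ≠ 1 → ∀ b ∈ B, b ≠ 1 → a * b ≠ b * a :=
  fun _ ha ha1 _ hb hb1 => not_comm_of_right hS hB hcaseAB hD hBD ha ha1 hb hb1

include hS hB hD hBD hcaseDC in
theorem hnc2 : ∀ d ∈ D, d ≠ 1 → ∀ c ∈ ⁅A, B⁆, c ≠ 1 → d * c ≠ c * d :=
  fun _ hd hd1 _ hc hc1 =>
    not_comm_of_left hS hD hcaseDC hB (RankOnePair_symm hBD) hd hd1 hc hc1

include hS hB hD hBD hcaseAB in
/-- elements of `A ⊔ C` commuting with a non-identity element of `B` lie in `C` -/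
theorem cent_b {b : G} (hb : b ∈ B) (hb1 : b ≠ 1) {x : G} (hx : x ∈ A ⊔ ⁅A, B⁆)
    (hbx : b * x = x * b) : x ∈ ⁅A, B⁆ := by
  rw [mem_sup_iff_of_comm (hCA hcaseAB)] at hx
  obtain ⟨a, ha, c, hc, rfl⟩ := hx
  have h1 : a = 1 := by
    by_contra ha1
    apply hnc1 hS hB hD hcaseAB hBD a ha ha1 b hb hb1
    have h2 := hCB hcaseAB c hc b hb
    have e : a * b = (a * c) * b * c⁻¹ := by
      rw [mul_assoc a c b, h2]; group
    rw [e, ← hbx]; group
  rw [h1, one_mul]; exact hc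

include hS hB hD hBD hDC hcaseAB hcaseDC in
/-- elements of `A ⊔ C` commuting with a non-identity element of `D` lie in `A` -/
theorem cent_d {d : G} (hd : d ∈ D) (hd1 : d ≠ 1) {x : G} (hx : x ∈ A ⊔ ⁅A, B⁆)
    (hdx : d * x = x * d) : x ∈ A := by
  rw [mem_sup_iff_of_comm (hCA hcaseAB)] at hx
  obtain ⟨a, ha, c, hc, rfl⟩ := hx
  have h1 : c = 1 := by
    by_contra hc1
    apply hnc2 hS hB hD hcaseDC hBD d hd hd1 c hc hc1
    have h2 := hAD hDC hcaseDC a ha d hd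
    have e : d * c = a⁻¹ * (d * (a * c)) := by
      rw [← mul_assoc d a c, ← h2]; group
    rw [e, hdx]; group
  rw [h1, mul_one]; exact ha

include hcaseAB in
theorem hBN {b : G} (hb : b ∈ B) : conjBy (A ⊔ ⁅A, B⁆) b ≤ A ⊔ ⁅A, B⁆ := by
  rw [conjBy_sup]
  apply sup_le (Cfsg.Agent.S5030.conj_left_le b hb)
  have : conjBy ⁅A, B⁆ b = ⁅A, B⁆ := conjBy_eq_self_iff.mpr
    (mem_normalizer_of_commutes (fun c hc => (hCB hcaseAB c hc b hb).symm))
  rw [this]; exact le_sup_right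

include hDC hcaseDC in
theorem hDN {d : G} (hd : d ∈ D) : conjBy (A ⊔ ⁅A, B⁆) d ≤ A ⊔ ⁅A, B⁆ := by
  rw [conjBy_sup]
  apply sup_le
  · have : conjBy A d = A := conjBy_eq_self_iff.mpr
      (mem_normalizer_of_commutes (fun a ha => (hAD hDC hcaseDC a ha d hd).symm))
    rw [this]; exact le_sup_left
  · have := Cfsg.Agent.S5030.conj_right_le (B := D) (C := ⁅A, B⁆) d hd
    rw [hDC, sup_comm] at this
    exact this

include hS hB hD hBD hDC hcaseAB hcaseDC in
/-- The key relation. -/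
theorem key {b d : G} (hb : b ∈ B) (hb1 : b ≠ 1) (hd : d ∈ D) (hd1 : d ≠ 1)
    (hrel : conjBy B d⁻¹ = conjBy D b⁻¹) : conjBy A (d * b⁻¹) = ⁅A, B⁆ := by
  have hbi : b⁻¹ ∈ B := inv_mem hb
  have hdi : d⁻¹ ∈ D := inv_mem hd
  -- (a)
  have ha : conjBy A (d * b⁻¹) ≤ ⁅A, B⁆ := by
    have h1 : ∀ x ∈ D, ∀ y ∈ A, x * y = y * x := fun x hx y hy => (hAD hDC hcaseDC y hy x hx).symm
    have h2 := comm_conj h1 b⁻¹
    rw [← hrel] at h2
    have h3 := comm_conj h2 d
    rw [conjBy_conjBy, conjBy_conjBy, mul_inv_cancel, conjBy_one] at h3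
    have hN : conjBy A (d * b⁻¹) ≤ A ⊔ ⁅A, B⁆ := by
      rw [← conjBy_conjBy]
      exact (conjBy_mono ((Cfsg.Agent.S5030.conj_left_le b⁻¹ hbi).trans le_rfl) d).trans
        (hDN hDC hcaseDC hd)
    intro y hy
    exact cent_b hS hB hD hcaseAB hBD hb hb1 (hN hy) (h3 b hb y hy)
  -- (b)
  have hb' : conjBy ⁅A, B⁆ (b * d⁻¹) ≤ A := by
    have h1 : ∀ x ∈ B, ∀ y ∈ ⁅A, B⁆, x * y = y * x := fun x hx y hy => (hCB hcaseAB y hy x hx).symm
    have h2 := comm_conj h1 d⁻¹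
    rw [hrel] at h2
    have h3 := comm_conj h2 b
    rw [conjBy_conjBy, conjBy_conjBy, mul_inv_cancel, conjBy_one] at h3
    have hN : conjBy ⁅A, B⁆ (b * d⁻¹) ≤ A ⊔ ⁅A, B⁆ := by
      rw [← conjBy_conjBy]
      have h4 : conjBy ⁅A, B⁆ d⁻¹ ≤ A ⊔ ⁅A, B⁆ :=
        (conjBy_mono le_sup_right d⁻¹).trans (hDN hDC hcaseDC hdi)
      exact (conjBy_mono h4 b).trans (hBN hcaseAB hb)
    intro y hy
    exact cent_d hS hB hD hDC hcaseAB hcaseDC hBD hd hd1 (hN hy) (h3 d hd y hy)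
  apply le_antisymm ha
  have h5 := conjBy_mono hb' (d * b⁻¹)
  rw [conjBy_conjBy] at h5
  have e : d * b⁻¹ * (b * d⁻¹) = 1 := by group
  rwa [e, conjBy_one] at h5

end structure_


/-- Let S be a set of abstract root subgroups of G, A, B ∈ S with C = ⁅A, B⁆ ∈ S, and D ∈ S with ⁅D, C⁆ = A. Put X = ⟨B, D⟩ and N = AC. Then B, D form a rank one pair; the conjugates of A under X are the conjugates of C under X, namely the conjugates of A by elements of B together with C, equally the conjugates of C by elements of D together with A, and they partition N; and the centralizer of N in X is central in X. -/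
theorem result {G : Type*} [Group G] {S : Set (Subgroup G)} (hS : Cfsg.IsRootSubgroupSet S)
    {A B D : Subgroup G} (hA : A ∈ S) (hB : B ∈ S) (hC : ⁅A, B⁆ ∈ S) (hD : D ∈ S) (hDC : ⁅D, ⁅A, B⁆⁆ = A) :
    Cfsg.IsRankOnePair B D ∧
    {E | ∃ x ∈ B ⊔ D, E = Cfsg.conjBy A x} = {E | ∃ x ∈ B ⊔ D, E = Cfsg.conjBy ⁅A, B⁆ x} ∧
    {E | ∃ x ∈ B ⊔ D, E = Cfsg.conjBy A x} = (fun b : G => Cfsg.conjBy A b) '' (B : Set G) ∪ {⁅A, B⁆} ∧
    {E | ∃ x ∈ B ⊔ D, E = Cfsg.conjBy A x} = (fun d : G => Cfsg.conjBy ⁅A, B⁆ d) '' (D : Set G) ∪ {A} ∧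
    Cfsg.IsSubgroupPartition (A ⊔ ⁅A, B⁆) {E | ∃ x ∈ B ⊔ D, E = Cfsg.conjBy A x} ∧
    ∀ x ∈ (B ⊔ D) ⊓ Subgroup.centralizer ((A ⊔ ⁅A, B⁆ : Subgroup G) : Set G), ∀ y ∈ B ⊔ D, x * y = y * x := by
  have hBD := rankOne_BD hS hA hB hC hD hDC
  have hcaseAB := commutatorCase_of_mem hS hA hB hC
  have hAS' : ⁅D, ⁅A, B⁆⁆ ∈ S := by rw [hDC]; exact hA
  have hcaseDC := commutatorCase_of_mem hS hD hC hAS'
  have hca := hCA hcaseAB
  have hcb := hCB hcaseAB
  have had := hAD hDC hcaseDC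
  have hn1 := hnc1 hS hB hD hcaseAB hBD
  have hn2 := hnc2 hS hB hD hcaseDC hBD
  have hkey := fun {b d : G} hb hb1 hd hd1 hrel =>
    key hS hB hD hDC hcaseAB hcaseDC hBD (b := b) (d := d) hb hb1 hd hd1 hrel
  have hmemsup := fun x => mem_sup_iff_of_comm (A := A) (C := ⁅A, B⁆) hca (x := x)
  -- `A ⊓ C = ⊥`
  obtain ⟨b₀, hb₀, hb₀1⟩ := exists_ne_one_of_ne_bot (hS.ne_bot B hB)
  have hinf : ∀ x ∈ A, x ∈ ⁅A, B⁆ → x = 1 := by
    intro x hxA hxC
    by_contra hx1
    exact hn1 x hxA hx1 b₀ hb₀ hb₀1 (hcb x hxC b₀ hb₀)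
  -- conjugates of `A` by `B`
  have hconjC : ∀ b ∈ B, conjBy ⁅A, B⁆ b = ⁅A, B⁆ := fun b hb => conjBy_eq_self_iff.mpr
    (mem_normalizer_of_commutes (fun c hc => (hcb c hc b hb).symm))
  have hconjA : ∀ d ∈ D, conjBy A d = A := fun d hd => conjBy_eq_self_iff.mpr
    (mem_normalizer_of_commutes (fun a ha => (had a ha d hd).symm))
  -- related pairs
  have hrelB : ∀ b ∈ B, b ≠ 1 → ∃ d ∈ D, conjBy A (d * b⁻¹) = ⁅A, B⁆ := by
    intro b hb hb1
    obtain ⟨d, hd, hd1, hrel⟩ := hBD.cond_left b hb hb1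
    exact ⟨d, hd, hkey hb hb1 hd hd1 hrel⟩
  have hrelD : ∀ d ∈ D, d ≠ 1 → ∃ b ∈ B, conjBy A (d * b⁻¹) = ⁅A, B⁆ := by
    intro d hd hd1
    obtain ⟨b, hb, hb1, hrel⟩ := hBD.cond_right d hd hd1
    exact ⟨b, hb, hkey hb hb1 hd hd1 hrel.symm⟩
  -- `conjBy A b = conjBy C d'` for `b ≠ 1`
  have hAb : ∀ b ∈ B, b ≠ 1 → ∃ d ∈ D, conjBy A b = conjBy ⁅A, B⁆ d := by
    intro b hb hb1
    have hbi1 : b⁻¹ ≠ 1 := fun h => hb1 (inv_eq_one.mp h)
    obtain ⟨d, hd, hrel⟩ := hrelB b⁻¹ (inv_mem hb) hbi1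
    refine ⟨d⁻¹, inv_mem hd, ?_⟩
    rw [← hrel, conjBy_conjBy, inv_inv, inv_mul_cancel_left]
  have hCd : ∀ d ∈ D, d ≠ 1 → ∃ b ∈ B, conjBy ⁅A, B⁆ d = conjBy A b := by
    intro d hd hd1
    have hdi1 : d⁻¹ ≠ 1 := fun h => hd1 (inv_eq_one.mp h)
    obtain ⟨b, hb, hrel⟩ := hrelD d⁻¹ (inv_mem hd) hdi1
    refine ⟨b⁻¹, inv_mem hb, ?_⟩
    rw [← hrel, conjBy_conjBy, mul_inv_cancel_left]
  -- the set `Δ₀`
  have hΔ₀D : ∀ d ∈ D, conjBy ⁅A, B⁆ d ∈ (fun b : G => conjBy A b) '' (B : Set G) ∪ {⁅A, B⁆} := by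
    intro d hd
    by_cases hd1 : d = 1
    · right; rw [hd1, conjBy_one]; rfl
    · left
      obtain ⟨b, hb, h⟩ := hCd d hd hd1
      exact ⟨b, hb, h.symm⟩
  -- stabilizer
  let Stab : Subgroup G :=
    { carrier := {x | ∀ E ∈ (fun b : G => conjBy A b) '' (B : Set G) ∪ {⁅A, B⁆},
        conjBy E x ∈ (fun b : G => conjBy A b) '' (B : Set G) ∪ {⁅A, B⁆} ∧
        conjBy E x⁻¹ ∈ (fun b : G => conjBy A b) '' (B : Set G) ∪ {⁅A, B⁆}}
      one_mem' := by
        intro E hE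
        rw [inv_one, conjBy_one]
        exact ⟨hE, hE⟩
      mul_mem' := by
        intro x y hx hy E hE
        constructor
        · rw [← conjBy_conjBy]
          exact (hx _ (hy E hE).1).1
        · rw [mul_inv_rev, ← conjBy_conjBy]
          exact (hy _ (hx E hE).2).2
      inv_mem' := by
        intro x hx E hE
        rw [inv_inv]
        exact ⟨(hx E hE).2, (hx E hE).1⟩ }
  have hBstab : ∀ b' ∈ B, ∀ E ∈ (fun b : G => conjBy A b) '' (B : Set G) ∪ {⁅A, B⁆},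
      conjBy E b' ∈ (fun b : G => conjBy A b) '' (B : Set G) ∪ {⁅A, B⁆} := by
    rintro b' hb' E (⟨b, hb, rfl⟩ | hE)
    · left
      exact ⟨b' * b, mul_mem hb' hb, (conjBy_conjBy A b b').symm⟩
    · right
      rw [Set.mem_singleton_iff] at hE
      rw [hE, hconjC b' hb']; rfl
  have hDstab : ∀ d' ∈ D, ∀ E ∈ (fun b : G => conjBy A b) '' (B : Set G) ∪ {⁅A, B⁆},
      conjBy E d' ∈ (fun b : G => conjBy A b) '' (B : Set G) ∪ {⁅A, B⁆} := by
    rintro d' hd' E (⟨b, hb, rfl⟩ | hE)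
    · by_cases hb1 : b = 1
      · left
        refine ⟨1, one_mem _, ?_⟩
        show conjBy A 1 = conjBy (conjBy A b) d'
        rw [hb1, conjBy_one, hconjA d' hd']
      · obtain ⟨d, hd, h⟩ := hAb b hb hb1
        show conjBy (conjBy A b) d' ∈ _
        rw [h, conjBy_conjBy]
        exact hΔ₀D _ (mul_mem hd' hd)
    · rw [Set.mem_singleton_iff] at hE
      rw [hE]
      exact hΔ₀D d' hd'
  have hXstab : B ⊔ D ≤ Stab := by
    apply sup_le
    · intro b hb E hE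
      exact ⟨hBstab b hb E hE, hBstab _ (inv_mem hb) E hE⟩
    · intro d hd E hE
      exact ⟨hDstab d hd E hE, hDstab _ (inv_mem hd) E hE⟩
  have hset : {E | ∃ x ∈ B ⊔ D, E = Cfsg.conjBy A x} =
      (fun b : G => Cfsg.conjBy A b) '' (B : Set G) ∪ {⁅A, B⁆} := by
    ext E
    constructor
    · rintro ⟨x, hx, rfl⟩
      have hA0 : A ∈ (fun b : G => conjBy A b) '' (B : Set G) ∪ {⁅A, B⁆} :=
        Or.inl ⟨1, one_mem _, conjBy_one A⟩
      exact (hXstab hx A hA0).1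
    · rintro (⟨b, hb, rfl⟩ | hE)
      · exact ⟨b, Subgroup.mem_sup_left hb, rfl⟩
      · rw [Set.mem_singleton_iff] at hE
        obtain ⟨d, hd, hrel⟩ := hrelB b₀ hb₀ hb₀1
        exact ⟨d * b₀⁻¹, mul_mem (Subgroup.mem_sup_right hd) (Subgroup.mem_sup_left (inv_mem hb₀)),
          by rw [hE, hrel]⟩
  have hset4 : (fun b : G => Cfsg.conjBy A b) '' (B : Set G) ∪ {⁅A, B⁆} =
      (fun d : G => Cfsg.conjBy ⁅A, B⁆ d) '' (D : Set G) ∪ {A} := by
    ext E
    constructor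
    · rintro (⟨b, hb, rfl⟩ | hE)
      · by_cases hb1 : b = 1
        · right
          show conjBy A b = A
          rw [hb1, conjBy_one]
        · left
          obtain ⟨d, hd, h⟩ := hAb b hb hb1
          exact ⟨d, hd, h.symm⟩
      · left
        rw [Set.mem_singleton_iff] at hE
        exact ⟨1, one_mem _, by rw [hE]; exact conjBy_one _⟩
    · rintro (⟨d, hd, rfl⟩ | hE)
      · exact hΔ₀D d hd
      · left
        rw [Set.mem_singleton_iff] at hE
        exact ⟨1, one_mem _, by rw [hE]; exact conjBy_one _⟩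
  refine ⟨hBD, ?_, hset, hset.trans hset4, ?_, ?_⟩
  · -- (2)
    obtain ⟨d, hd, hrel⟩ := hrelB b₀ hb₀ hb₀1
    have hx₀ : d * b₀⁻¹ ∈ B ⊔ D :=
      mul_mem (Subgroup.mem_sup_right hd) (Subgroup.mem_sup_left (inv_mem hb₀))
    ext E
    constructor
    · rintro ⟨x, hx, rfl⟩
      refine ⟨x * (d * b₀⁻¹)⁻¹, mul_mem hx (inv_mem hx₀), ?_⟩
      rw [← hrel, conjBy_conjBy, inv_mul_cancel_right]
    · rintro ⟨x, hx, rfl⟩
      refine ⟨x * (d * b₀⁻¹), mul_mem hx hx₀, ?_⟩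
      rw [← hrel, conjBy_conjBy]
  · -- (5)
    rw [hset]
    refine ⟨?_, ?_, ?_⟩
    · rintro E (⟨b, hb, rfl⟩ | hE)
      · exact Cfsg.Agent.S5030.conj_left_le b hb
      · rw [Set.mem_singleton_iff] at hE
        rw [hE]; exact le_sup_right
    · intro x hx hx1
      rw [hmemsup] at hx
      obtain ⟨a, ha, c, hc, rfl⟩ := hx
      by_cases ha1 : a = 1
      · refine ⟨⁅A, B⁆, Or.inr rfl, ?_⟩
        rw [ha1, one_mul]; exact hc
      · obtain ⟨b, hb, rfl⟩ := kap_surj_right hcaseAB ha ha1 hc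
        refine ⟨conjBy A b⁻¹, Or.inl ⟨b⁻¹, inv_mem hb, rfl⟩, ?_⟩
        have e : a * kap a b = b⁻¹ * a * b⁻¹⁻¹ := by unfold kap; group
        rw [e]
        exact conj_mem_conjBy ha
    · -- disjointness
      have hAbC : ∀ b ∈ B, ∀ x ∈ conjBy A b, x ∈ ⁅A, B⁆ → x = 1 := by
        intro b hb x hx hxC
        rw [mem_conjBy] at hx
        have e : x = (b⁻¹ * x * b) * kap (b⁻¹ * x * b) b⁻¹ := by unfold kap; group
        have h1 : b⁻¹ * x * b ∈ ⁅A, B⁆ := by
          have : b⁻¹ * x * b = x * (kap (b⁻¹ * x * b) b⁻¹)⁻¹ := by unfold kap; group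
          rw [this]
          exact mul_mem hxC (inv_mem (kap_mem hx (inv_mem hb)))
        have h2 := hinf _ hx h1
        rw [e, h2]
        unfold kap; group
      have hAbb : ∀ b ∈ B, ∀ b' ∈ B, conjBy A b ≠ conjBy A b' →
          ∀ x ∈ conjBy A b, x ∈ conjBy A b' → x = 1 := by
        intro b hb b' hb' hne x hx hx'
        rw [mem_conjBy] at hx hx'
        -- decompositions
        have e1 : x = (b⁻¹ * x * b) * kap (b⁻¹ * x * b) b⁻¹ := by unfold kap; group
        have e2 : x = (b'⁻¹ * x * b') * kap (b'⁻¹ * x * b') b'⁻¹ := by unfold kap; group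
        have hk1 := kap_mem (B := B) hx (inv_mem hb)
        have hk2 := kap_mem (B := B) hx' (inv_mem hb')
        -- the `A`-components agree
        have h3 : (b'⁻¹ * x * b')⁻¹ * (b⁻¹ * x * b) ∈ ⁅A, B⁆ := by
          have : (b'⁻¹ * x * b')⁻¹ * (b⁻¹ * x * b) =
              kap (b'⁻¹ * x * b') b'⁻¹ * (kap (b⁻¹ * x * b) b⁻¹)⁻¹ := by
            have e3 : (b'⁻¹ * x * b')⁻¹ * x = kap (b'⁻¹ * x * b') b'⁻¹ := by unfold kap; group
            have e4 : x⁻¹ * (b⁻¹ * x * b) = (kap (b⁻¹ * x * b) b⁻¹)⁻¹ := by unfold kap; group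
            calc (b'⁻¹ * x * b')⁻¹ * (b⁻¹ * x * b)
                = ((b'⁻¹ * x * b')⁻¹ * x) * (x⁻¹ * (b⁻¹ * x * b)) := by group
              _ = _ := by rw [e3, e4]
          rw [this]
          exact mul_mem hk2 (inv_mem hk1)
        have h4 := hinf _ (mul_mem (inv_mem hx') hx) h3
        have h5 : b⁻¹ * x * b = b'⁻¹ * x * b' := by
          rw [inv_mul_eq_one] at h4
          exact h4.symm
        -- hence `b'⁻¹ b` commutes with the `A`-component
        by_contra hx1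
        have ha1 : b⁻¹ * x * b ≠ 1 := by
          intro h
          apply hx1
          have : x = b * (b⁻¹ * x * b) * b⁻¹ := by group
          rw [this, h]; group
        have hbb : b'⁻¹ * b ≠ 1 := by
          intro h
          apply hne
          have : b = b' := by
            have := inv_mul_eq_one.mp h
            exact this.symm
          rw [this]
        apply hn1 _ hx ha1 _ (mul_mem (inv_mem hb') hb) hbb
        have h6 : (b'⁻¹ * b) * (b⁻¹ * x * b) = (b⁻¹ * x * b) * (b'⁻¹ * b) := by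
          calc (b'⁻¹ * b) * (b⁻¹ * x * b) = (b'⁻¹ * x * b') * (b'⁻¹ * b) := by group
            _ = (b⁻¹ * x * b) * (b'⁻¹ * b) := by rw [← h5]
        exact h6.symm
      rintro E (⟨b, hb, rfl⟩ | hE) E' (⟨b', hb', rfl⟩ | hE') hne
      · rw [eq_bot_iff]
        rintro x ⟨hx, hx'⟩
        exact hAbb b hb b' hb' hne x hx hx'
      · rw [Set.mem_singleton_iff] at hE'
        rw [hE', eq_bot_iff]
        rintro x ⟨hx, hx'⟩
        exact hAbC b hb x hx hx'
      · rw [Set.mem_singleton_iff] at hE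
        rw [hE, eq_bot_iff]
        rintro x ⟨hx, hx'⟩
        exact hAbC b' hb' x hx' hx
      · rw [Set.mem_singleton_iff] at hE hE'
        exact absurd (hE.trans hE'.symm) hne
  · -- (6)
    intro x hx
    obtain ⟨hxX, hxN⟩ := Subgroup.mem_inf.mp hx
    rw [Subgroup.mem_centralizer_iff] at hxN
    have hxN' : ∀ n ∈ A ⊔ ⁅A, B⁆, x * n = n * x := fun n hn => (hxN n hn).symm
    have hxiN : ∀ n ∈ A ⊔ ⁅A, B⁆, x⁻¹ * n = n * x⁻¹ := by
      intro n hn
      have := hxN' n hn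
      calc x⁻¹ * n = x⁻¹ * (n * x) * x⁻¹ := by group
        _ = x⁻¹ * (x * n) * x⁻¹ := by rw [this]
        _ = n * x⁻¹ := by group
    obtain ⟨a₀, ha₀, ha₀1⟩ := exists_ne_one_of_ne_bot (hS.ne_bot A hA)
    obtain ⟨c₀, hc₀, hc₀1⟩ := exists_ne_one_of_ne_bot (hS.ne_bot _ hC)
    -- `x` normalizes `B`
    have hxB : conjBy B x = B := by
      have hB' : conjBy B x ∈ unipotentSubgroups B D :=
        conjBy_mem_unipotent left_mem_unipotent hxX
      rcases unipotent_cases hBD hB' with h | ⟨b₁, hb₁, h⟩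
      · exact h
      · exfalso
        -- `conjBy B x` commutes with `C`
        have h1 : ∀ y ∈ conjBy B x, ∀ c ∈ ⁅A, B⁆, y * c = c * y := by
          intro y hy c hc
          rw [mem_conjBy] at hy
          have h2 := hcb c hc _ hy
          have h3 := hxN' c (Subgroup.mem_sup_right hc)
          have h4 := hxiN c (Subgroup.mem_sup_right hc)
          calc y * c = x * (x⁻¹ * y * x) * (x⁻¹ * c) := by group
            _ = x * (x⁻¹ * y * x) * (c * x⁻¹) := by rw [h4]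
            _ = x * ((x⁻¹ * y * x) * c) * x⁻¹ := by group
            _ = x * (c * (x⁻¹ * y * x)) * x⁻¹ := by rw [h2]
            _ = (x * c) * (x⁻¹ * y * x) * x⁻¹ := by group
            _ = (c * x) * (x⁻¹ * y * x) * x⁻¹ := by rw [h3]
            _ = c * y := by group
        rw [h] at h1
        -- so `D` commutes with `C`
        have h5 := comm_conj h1 b₁⁻¹
        rw [conjBy_conjBy, inv_mul_cancel, conjBy_one, hconjC _ (inv_mem hb₁)] at h5
        apply hS.ne_bot A hA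
        rw [← hDC, commutator_eq_bot_iff']
        exact h5
    have hxD : conjBy D x = D := by
      have hD' : conjBy D x ∈ unipotentSubgroups D B :=
        conjBy_mem_unipotent left_mem_unipotent (by rw [sup_comm]; exact hxX)
      rcases unipotent_cases (RankOnePair_symm hBD) hD' with h | ⟨d₁, hd₁, h⟩
      · exact h
      · exfalso
        have h1 : ∀ y ∈ conjBy D x, ∀ a ∈ A, y * a = a * y := by
          intro y hy a ha
          rw [mem_conjBy] at hy
          have h2 := had a ha _ hy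
          have h3 := hxN' a (Subgroup.mem_sup_left ha)
          have h4 := hxiN a (Subgroup.mem_sup_left ha)
          calc y * a = x * (x⁻¹ * y * x) * (x⁻¹ * a) := by group
            _ = x * (x⁻¹ * y * x) * (a * x⁻¹) := by rw [h4]
            _ = x * ((x⁻¹ * y * x) * a) * x⁻¹ := by group
            _ = x * (a * (x⁻¹ * y * x)) * x⁻¹ := by rw [h2]
            _ = (x * a) * (x⁻¹ * y * x) * x⁻¹ := by group
            _ = (a * x) * (x⁻¹ * y * x) * x⁻¹ := by rw [h3]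
            _ = a * y := by group
        rw [h] at h1
        have h5 := comm_conj h1 d₁⁻¹
        rw [conjBy_conjBy, inv_mul_cancel, conjBy_one, hconjA _ (inv_mem hd₁)] at h5
        exact hn1 a₀ ha₀ ha₀1 b₀ hb₀ hb₀1 (h5 b₀ hb₀ a₀ ha₀).symm
    -- `x` commutes with `B`
    have hxb : ∀ b ∈ B, x * b = b * x := by
      intro b hb
      have hb' : x * b * x⁻¹ ∈ B := by
        have := conj_mem_conjBy (g := x) hb
        rwa [hxB] at this
      have h1 : b * a₀ * b⁻¹ ∈ A ⊔ ⁅A, B⁆ :=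
        Cfsg.Agent.S5030.conj_left_le (A := A) (B := B) b hb (conj_mem_conjBy ha₀)
      have h2 := hxN' _ h1
      have h3 := hxiN a₀ (Subgroup.mem_sup_left ha₀)
      have e1 : (x * b * x⁻¹) * a₀ = (b * a₀ * b⁻¹) * (x * b * x⁻¹) := by
        calc (x * b * x⁻¹) * a₀ = x * b * (x⁻¹ * a₀) := by group
          _ = x * b * (a₀ * x⁻¹) := by rw [h3]
          _ = x * (b * a₀ * b⁻¹) * b * x⁻¹ := by group
          _ = (b * a₀ * b⁻¹) * x * b * x⁻¹ := by rw [h2]
          _ = _ := by group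
      have e2 : (b⁻¹ * (x * b * x⁻¹)) * a₀ = a₀ * (b⁻¹ * (x * b * x⁻¹)) := by
        rw [mul_assoc, e1]; group
      by_contra hne
      have hu1 : b⁻¹ * (x * b * x⁻¹) ≠ 1 := by
        intro h
        apply hne
        have h5 : x * b * x⁻¹ = b := by
          rw [inv_mul_eq_one] at h
          exact h.symm
        calc x * b = (x * b * x⁻¹) * x := by group
          _ = b * x := by rw [h5]
      exact hn1 a₀ ha₀ ha₀1 _ (mul_mem (inv_mem hb) hb') hu1 e2.symm
    have hxd : ∀ d ∈ D, x * d = d * x := by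
      intro d hd
      have hd' : x * d * x⁻¹ ∈ D := by
        have := conj_mem_conjBy (g := x) hd
        rwa [hxD] at this
      have h1 : d * c₀ * d⁻¹ ∈ A ⊔ ⁅A, B⁆ :=
        hDN hDC hcaseDC hd (conj_mem_conjBy (Subgroup.mem_sup_right hc₀))
      have h2 := hxN' _ h1
      have h3 := hxiN c₀ (Subgroup.mem_sup_right hc₀)
      have e1 : (x * d * x⁻¹) * c₀ = (d * c₀ * d⁻¹) * (x * d * x⁻¹) := by
        calc (x * d * x⁻¹) * c₀ = x * d * (x⁻¹ * c₀) := by group
          _ = x * d * (c₀ * x⁻¹) := by rw [h3]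
          _ = x * (d * c₀ * d⁻¹) * d * x⁻¹ := by group
          _ = (d * c₀ * d⁻¹) * x * d * x⁻¹ := by rw [h2]
          _ = _ := by group
      have e2 : (d⁻¹ * (x * d * x⁻¹)) * c₀ = c₀ * (d⁻¹ * (x * d * x⁻¹)) := by
        rw [mul_assoc, e1]; group
      by_contra hne
      have hu1 : d⁻¹ * (x * d * x⁻¹) ≠ 1 := by
        intro h
        apply hne
        have h5 : x * d * x⁻¹ = d := by
          rw [inv_mul_eq_one] at h
          exact h.symm
        calc x * d = (x * d * x⁻¹) * x := by group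
          _ = d * x := by rw [h5]
      exact hn2 _ (mul_mem (inv_mem hd) hd') hu1 c₀ hc₀ hc₀1 e2
    have hle : B ⊔ D ≤ Subgroup.centralizer {x} := by
      apply sup_le
      · intro b hb
        rw [Subgroup.mem_centralizer_singleton_iff]
        exact (hxb b hb).symm
      · intro d hd
        rw [Subgroup.mem_centralizer_singleton_iff]
        exact (hxd d hd).symm
    intro y hy
    have := hle hy
    rw [Subgroup.mem_centralizer_singleton_iff] at this
    exact this.symm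

end Cfsg.Agent.S5036
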