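import Cfsg.Statements.S5037
import Cfsg.Agent.Lib.Helper4.RootLine2

set_option autoImplicit false
open Cfsg

namespace Cfsg.Agent.S5037

open Cfsg.Agent.Lib.Helper4.RankOneGrp Cfsg.Agent.Lib.Helper4.RootSub
  Cfsg.Agent.Lib.Helper4.RootSub2 Cfsg.Agent.Lib.Helper4.RootSub3
  Cfsg.Agent.Lib.Helper4.RootLine Cfsg.Agent.Lib.Helper4.RootLine2
open scoped commutatorElement

variable {G : Type*} [Group G] {S : Set (Subgroup G)}

/-- Two commuting subgroups with a common rank one partner are interchanged by some element. -/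
theorem swap {A C E : Subgroup G} (hAC : ∀ x ∈ A, ∀ y ∈ C, x * y = y * x)
    (hAE : IsRankOnePair A E) (hCE : IsRankOnePair C E) :
    ∃ h : G, conjBy A h = C ∧ conjBy C h = A := by
  obtain ⟨e, he, he1⟩ := exists_ne_one_left (RankOnePair_symm hAE)
  obtain ⟨a, ha, ha1, hrelA⟩ := hAE.cond_right e he he1
  obtain ⟨c, hc, hc1, hrelC⟩ := hCE.cond_right e he he1
  -- hrelA : conjBy E a⁻¹ = conjBy A e⁻¹, hrelC : conjBy E c⁻¹ = conjBy C e⁻¹
  have hac : a * c = c * a := hAC a ha c hc
  -- first map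
  have g1C : conjBy C (c * e⁻¹) = E := by
    rw [← conjBy_conjBy, ← hrelC, conjBy_conjBy, mul_inv_cancel, conjBy_one]
  have g1A : conjBy A (c * e⁻¹) = conjBy E (c * a⁻¹) := by
    rw [← conjBy_conjBy, ← hrelA, conjBy_conjBy]
  -- `conjBy E (c * a⁻¹)` commutes with `E`
  have hcomm1 : ∀ x ∈ conjBy E (c * a⁻¹), ∀ y ∈ E, x * y = y * x := by
    have := Cfsg.Agent.S5036.comm_conj hAC (c * e⁻¹)
    rwa [g1A, g1C] at this
  -- second pair of relations
  have hai1 : a⁻¹ ≠ 1 := fun h => ha1 (inv_eq_one.mp h)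
  have hci1 : c⁻¹ ≠ 1 := fun h => hc1 (inv_eq_one.mp h)
  obtain ⟨e₁, he₁, he₁1, hrelA'⟩ := hAE.cond_left a⁻¹ (inv_mem ha) hai1
  obtain ⟨e₂, he₂, he₂1, hrelC'⟩ := hCE.cond_left c⁻¹ (inv_mem hc) hci1
  rw [inv_inv] at hrelA' hrelC'
  -- hrelA' : conjBy A e₁⁻¹ = conjBy E a, hrelC' : conjBy C e₂⁻¹ = conjBy E c
  have hee : e₂ * e₁⁻¹ = 1 := by
    by_contra hne
    -- `conjBy E a` commutes with `conjBy E c`
    have h1 : ∀ x ∈ conjBy E a, ∀ y ∈ conjBy E c, x * y = y * x := by
      have h2 := Cfsg.Agent.S5036.comm_conj hcomm1 (a * c⁻¹)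
      rw [conjBy_conjBy] at h2
      have e1 : a * c⁻¹ * (c * a⁻¹) = 1 := by group
      rw [e1, conjBy_one] at h2
      -- h2 : E commutes with conjBy E (a * c⁻¹)
      have h3 := Cfsg.Agent.S5036.comm_conj h2 c
      rw [conjBy_conjBy] at h3
      have e2 : c * (a * c⁻¹) = a := by
        rw [← mul_assoc, ← hac, mul_assoc, mul_inv_cancel, mul_one]
      rw [e2] at h3
      exact fun x hx y hy => (h3 y hy x hx).symm
    rw [← hrelA', ← hrelC'] at h1
    have h4 := Cfsg.Agent.S5036.comm_conj h1 e₂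
    rw [conjBy_conjBy, conjBy_conjBy, mul_inv_cancel, conjBy_one] at h4
    -- h4 : conjBy A (e₂ * e₁⁻¹) commutes with C
    have hmem : e₂ * e₁⁻¹ ∈ E := mul_mem he₂ (inv_mem he₁)
    have hneA : A ≠ conjBy A (e₂ * e₁⁻¹) := by
      intro heq
      exact hne (eq_one_of_mem_normalizer (RankOnePair_symm hAE) hmem
        (conjBy_eq_self_iff.mp heq.symm))
    have hsup := (pair_of_distinct hAE left_mem_unipotent
      (conjBy_mem_unipotent left_mem_unipotent (Subgroup.mem_sup_right hmem)) hneA).2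
    have hall : ∀ y ∈ C, ∀ x ∈ A ⊔ conjBy A (e₂ * e₁⁻¹), y * x = x * y :=
      Cfsg.Agent.S5030.forall_sup_comm' (fun y hy x hx => (hAC x hx y hy).symm)
        (fun y hy x hx => (h4 x hx y hy).symm)
    apply not_commute_of_pair hCE
    intro y hy x hx
    apply hall y hy
    rw [hsup]
    exact Subgroup.mem_sup_right hx
  have he12 : e₂ = e₁ := by
    have := mul_inv_eq_one.mp hee
    exact this
  subst he12
  -- second map
  have g2C : conjBy C (c⁻¹ * e₂⁻¹) = E := by
    rw [← conjBy_conjBy, hrelC', conjBy_conjBy, inv_mul_cancel, conjBy_one]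
  have g2A : conjBy A (c⁻¹ * e₂⁻¹) = conjBy E (c⁻¹ * a) := by
    rw [← conjBy_conjBy, hrelA', conjBy_conjBy]
  have eya : c * a⁻¹ * (c⁻¹ * a) = 1 := by
    have : c⁻¹ * a = a * c⁻¹ := by
      have h := hAC a ha c⁻¹ (inv_mem hc)
      exact h.symm
    rw [this]; group
  have split : ∀ U : Subgroup G, conjBy U ((c * e⁻¹)⁻¹ * (c * a⁻¹) * (c⁻¹ * e₂⁻¹)) =
      conjBy (conjBy (conjBy U (c⁻¹ * e₂⁻¹)) (c * a⁻¹)) (c * e⁻¹)⁻¹ := by
    intro U
    rw [conjBy_conjBy, conjBy_conjBy]
  refine ⟨(c * e⁻¹)⁻¹ * (c * a⁻¹) * (c⁻¹ * e₂⁻¹), ?_, ?_⟩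
  · rw [split, g2A, conjBy_conjBy E (c⁻¹ * a) (c * a⁻¹), eya, conjBy_one]
    rw [conjBy_eq_iff] at g1C
    exact g1C.symm
  · rw [split, g2C]
    rw [conjBy_eq_iff] at g1A
    exact g1A.symm

/-- membership in the centralizing members, elementwise -/
theorem mem_centralizing {T U : Subgroup G} :
    T ∈ centralizingMembers S U ↔ T ∈ S ∧ ∀ x ∈ T, ∀ y ∈ U, x * y = y * x := by
  constructor
  · rintro ⟨hT, hle⟩
    refine ⟨hT, fun x hx y hy => ?_⟩
    have := Subgroup.mem_centralizer_iff.mp (hle hx) y hy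
    exact this.symm
  · rintro ⟨hT, h⟩
    refine ⟨hT, fun x hx => ?_⟩
    rw [Subgroup.mem_centralizer_iff]
    intro y hy
    exact (h x hx y hy).symm

/-- conjugating back a commuting relation -/
theorem comm_of_conj {H K : Subgroup G} {g : G}
    (h : ∀ x ∈ conjBy H g, ∀ y ∈ conjBy K g, x * y = y * x) : ∀ x ∈ H, ∀ y ∈ K, x * y = y * x := by
  have := Cfsg.Agent.S5036.comm_conj h g⁻¹
  rwa [conjBy_conjBy, conjBy_conjBy, inv_mul_cancel, conjBy_one, conjBy_one] at this

/-- conjugating back a rank one pair -/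
theorem pair_of_conj {H K : Subgroup G} {g : G} (h : IsRankOnePair (conjBy H g) (conjBy K g)) :
    IsRankOnePair H K := by
  have := rankOnePair_conj h g⁻¹
  rwa [conjBy_conjBy, conjBy_conjBy, inv_mul_cancel, conjBy_one, conjBy_one] at this

/-- the first part, for a non-isolated `C` -/
theorem part_one (hS : IsRootSubgroupSet S) {A C : Subgroup G} (hA : A ∈ S) (hC : C ∈ S)
    (hpC : ∃ E ∈ S, IsRankOnePair C E)
    (hsub : centralizingMembers S A ⊆ centralizingMembers S C) :
    centralizingMembers S A = centralizingMembers S C := by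
  have hAA : A ∈ centralizingMembers S A :=
    mem_centralizing.mpr ⟨hA, fun x hx y hy => comm_of_mem hS hA hx hy⟩
  have hAC : ∀ x ∈ A, ∀ y ∈ C, x * y = y * x := (mem_centralizing.mp (hsub hAA)).2
  obtain ⟨E, hE, hCE⟩ := hpC
  have hAE : IsRankOnePair A E := by
    rcases hS.pair A hA E hE with h | h | h
    · exfalso
      rw [commutator_eq_bot_iff'] at h
      have h1 : E ∈ centralizingMembers S A :=
        mem_centralizing.mpr ⟨hE, fun x hx y hy => (h y hy x hx).symm⟩
      have h2 := (mem_centralizing.mp (hsub h1)).2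
      exact not_commute_of_pair hCE (fun x hx y hy => (h2 y hy x hx).symm)
    · exact h
    · exfalso
      have hF : ⁅A, E⁆ ∈ S := h.1
      have h1 : ⁅A, E⁆ ∈ centralizingMembers S A :=
        mem_centralizing.mpr ⟨hF, fun x hx y hy => h.2.1 x hx y (Subgroup.mem_sup_left hy)⟩
      have h2 := (mem_centralizing.mp (hsub h1)).2
      have h3 := commCase_FT hS hC hA hE (fun x hx y hy => (hAC y hy x hx).symm) hCE h
      apply hS.ne_bot _ h3.1
      rw [commutator_eq_bot_iff']
      exact h2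
  obtain ⟨h, hhA, hhC⟩ := swap hAC hAE hCE
  apply Set.Subset.antisymm hsub
  intro T hT
  obtain ⟨hTS, hTC⟩ := mem_centralizing.mp hT
  -- conjBy T h commutes with conjBy C h = A
  have h1 : conjBy T h ∈ centralizingMembers S A := by
    refine mem_centralizing.mpr ⟨hS.conj_mem T hTS h, ?_⟩
    have := Cfsg.Agent.S5036.comm_conj hTC h
    rwa [hhC] at this
  have h2 := (mem_centralizing.mp (hsub h1)).2
  rw [← hhA] at h2
  exact mem_centralizing.mpr ⟨hTS, comm_of_conj h2⟩

/-- the second part, when every member has a rank one partner -/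
theorem part_two (hS : IsRootSubgroupSet S) (hall : ∀ A ∈ S, ∃ D ∈ S, IsRankOnePair A D)
    {A C : Subgroup G} (hA : A ∈ S) (hC : C ∈ S)
    (hsub : rankOnePartners S A ⊆ rankOnePartners S C) :
    ⁅A, C⁆ = ⊥ ∧ rankOnePartners S A = rankOnePartners S C := by
  have hcomm : ⁅A, C⁆ = ⊥ := by
    rcases hS.pair A hA C hC with h | h | h
    · exact h
    · exact absurd rfl (hsub ⟨hC, h⟩).2.ne
    · exfalso
      have hF' : ⁅C, A⁆ ∈ S := by rw [Subgroup.commutator_comm]; exact h.1
      have hcaseCA : RootCommutatorCase S C A := commutatorCase_of_mem hS hC hA hF'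
      have hnoniso : ∀ T ∈ S, ¬ IsIsolatedIn (FAdj S) S T := by
        intro T hT
        obtain ⟨D, hD, hTD⟩ := hall T hT
        exact Cfsg.Agent.S5032.not_isolated hT hD hTD
      obtain ⟨hmem, -, hline, -⟩ := Cfsg.Agent.S5029.result hS (hnoniso C hC) hC hA hF'
      obtain ⟨E', hE', hFE'⟩ := hall _ hF'
      obtain ⟨Q', hQ', hQ'F, hcaseQ, hQ, -⟩ := line_point hS hall hF' hline hE' hFE'
      rw [sup_comm, hmem] at hQ'
      rcases hQ' with ⟨a, ha, rfl⟩ | hQ'
      · -- `Q' = conjBy C a`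
        have hFa : conjBy ⁅C, A⁆ a = ⁅C, A⁆ :=
          conjBy_of_commutes (fun x hx => (hcaseCA.2.1 x hx a (Subgroup.mem_sup_right ha)).symm)
        have hQA : ⁅conjBy C a, A⁆ = ⁅C, A⁆ := by
          have h1 : conjBy ⁅C, A⁆ a = ⁅conjBy C a, conjBy A a⁆ := Subgroup.map_commutator _ _ _
          rw [conjBy_of_mem ha, hFa] at h1
          exact h1.symm
        have hD' : ⁅conjBy C a, E'⁆ ∈ S := hcaseQ.1
        have hpair : IsRankOnePair A ⁅conjBy C a, E'⁆ := by
          apply Cfsg.Agent.S5036.rankOne_BD hS (hS.conj_mem C hC a) hA _ hD'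
          · rw [hQA]; exact hQ
          · rw [hQA]; exact hF'
        -- conjugate by a⁻¹
        have hpair' : IsRankOnePair A (conjBy ⁅conjBy C a, E'⁆ a⁻¹) := by
          have := rankOnePair_conj hpair a⁻¹
          rwa [conjBy_of_mem (inv_mem ha)] at this
        have hCD := (hsub ⟨hS.conj_mem _ hD' a⁻¹, hpair'⟩).2
        apply not_commute_of_pair hCD
        have h1 : ∀ x ∈ conjBy C a, ∀ y ∈ ⁅conjBy C a, E'⁆, x * y = y * x :=
          fun x hx y hy => (hcaseQ.2.1 y hy x (Subgroup.mem_sup_left hx)).symm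
        have h2 := Cfsg.Agent.S5036.comm_conj h1 a⁻¹
        rwa [conjBy_conjBy, inv_mul_cancel, conjBy_one] at h2
      · exact hQ'F hQ'
  refine ⟨hcomm, ?_⟩
  rw [commutator_eq_bot_iff'] at hcomm
  obtain ⟨E, hE, hAE⟩ := hall A hA
  have hCE := (hsub ⟨hE, hAE⟩).2
  obtain ⟨h, hhA, hhC⟩ := swap hcomm hAE hCE
  apply Set.Subset.antisymm hsub
  rintro D ⟨hD, hCD⟩
  have h1 : IsRankOnePair A (conjBy D h) := by
    have := rankOnePair_conj hCD h
    rwa [hhC] at this
  have h2 := (hsub ⟨hS.conj_mem D hD h, h1⟩).2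
  rw [← hhA] at h2
  exact ⟨hD, pair_of_conj h2⟩

/-- Let S be a class of abstract root subgroups of G that is either degenerate or non-degenerate (so either the commutator case never occurs, or all three cases occur), and A ≠ C members of S. If every member of S commuting with A commutes with C, then A and C have the same commuting members of S; and if every rank one partner of A is a rank one partner of C, then A and C commute and have the same rank one partners. -/
theorem result {G : Type*} [Group G] {S : Set (Subgroup G)} (hS : Cfsg.IsRootSubgroupClass S)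
    (hdn : Cfsg.IsDegenerateRootSet S ∨ Cfsg.IsNondegenerateRootSet S)
    {A C : Subgroup G} (hA : A ∈ S) (hC : C ∈ S) (hAC : A ≠ C) :
    (Cfsg.centralizingMembers S A ⊆ Cfsg.centralizingMembers S C →
      Cfsg.centralizingMembers S A = Cfsg.centralizingMembers S C) ∧
    (Cfsg.rankOnePartners S A ⊆ Cfsg.rankOnePartners S C →
      ⁅A, C⁆ = ⊥ ∧ Cfsg.rankOnePartners S A = Cfsg.rankOnePartners S C) := by
  by_cases hr : ∃ A ∈ S, ∃ B ∈ S, IsRankOnePair A B
  · have hall := hall_of_class hS hr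
    exact ⟨part_one hS.1 hA hC (hall C hC), part_two hS.1 hall hA hC⟩
  · -- no rank one pairs: all members commute
    have hdeg : IsDegenerateRootSet S := by
      rcases hdn with h | h
      · exact h
      · exact absurd h.2.1 hr
    have hcomm : ∀ T ∈ S, ∀ U ∈ S, ⁅T, U⁆ = ⊥ := by
      intro T hT U hU
      rcases hS.1.pair T hT U hU with h | h | h
      · exact h
      · exact absurd ⟨T, hT, U, hU, h⟩ hr
      · exact absurd h (hdeg T hT U hU)
    constructor
    · intro _
      ext T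
      rw [mem_centralizing, mem_centralizing]
      constructor
      · rintro ⟨hT, -⟩
        exact ⟨hT, commutator_eq_bot_iff'.mp (hcomm T hT C hC)⟩
      · rintro ⟨hT, -⟩
        exact ⟨hT, commutator_eq_bot_iff'.mp (hcomm T hT A hA)⟩
    · intro _
      refine ⟨hcomm A hA C hC, ?_⟩
      ext T
      constructor
      · rintro ⟨hT, h⟩
        exact absurd ⟨A, hA, T, hT, h⟩ hr
      · rintro ⟨hT, h⟩
        exact absurd ⟨C, hC, T, hT, h⟩ hr

end Cfsg.Agent.S5037
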