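import Cfsg.Statements.S5041
import Cfsg.Agent.Lib.Helper4.RootLine2

set_option autoImplicit false
open Cfsg

namespace Cfsg.Agent.S5041

open Cfsg.Agent.Lib.Helper4.RankOneGrp Cfsg.Agent.Lib.Helper4.RootSub
  Cfsg.Agent.Lib.Helper4.RootSub2 Cfsg.Agent.Lib.Helper4.RootSub3
  Cfsg.Agent.Lib.Helper4.RootLine Cfsg.Agent.Lib.Helper4.RootLine2
open scoped commutatorElement

variable {G : Type*} [Group G] {S : Set (Subgroup G)}

/-- an edge of the graph of rank one pairs gives a path of length three in the line graph -/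
theorem path_of_pair (hS : IsRootSubgroupClass S) (hnd : IsNondegenerateRootSet S)
    {A B : Subgroup G} (hA : A ∈ S) (hB : B ∈ S) (hAB : IsRankOnePair A B) :
    Relation.ReflTransGen (EAdj S S) A B := by
  obtain ⟨-, hr, hc⟩ := hnd
  have hall := hall_of_class hS hr
  obtain ⟨C', hC'⟩ := exists_linePartner hS hr hc hA
  obtain ⟨Q, hQ, hQA, hcase, hFAQ, hsup⟩ := line_point hS.1 hall hA hC' hB hAB
  have hC'' := hC'
  obtain ⟨⟨hC'S, hC'A, hcomm⟩, hpart⟩ := hC''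
  rw [commutator_eq_bot_iff'] at hcomm
  have hNab : ∀ x ∈ A ⊔ C', ∀ y ∈ A ⊔ C', x * y = y * x :=
    Cfsg.Agent.S5030.sup_abelian (fun x hx y hy => comm_of_mem hS.1 hA hx hy)
      (fun x hx y hy => comm_of_mem hS.1 hC'S hx hy) hcomm
  have hAQ : ∀ x ∈ A, ∀ y ∈ Q, x * y = y * x :=
    fun x hx y hy => hNab x (Subgroup.mem_sup_left hx) y (hQ.2 hy)
  have hQl : Q ∈ linePartners S A := by
    refine ⟨⟨hQ.1, hQA, ?_⟩, ?_⟩
    · rw [commutator_eq_bot_iff']; exact hAQ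
    · rw [hsup]; exact hpart
  have hF : ⁅Q, B⁆ ∈ S := hcase.1
  have hnoniso : ∀ T ∈ S, ¬ IsIsolatedIn (FAdj S) S T := by
    intro T hT
    obtain ⟨D, hD, hTD⟩ := hall T hT
    exact Cfsg.Agent.S5032.not_isolated hT hD hTD
  have h1 : ⁅Q, B⁆ ∈ linePartners S Q :=
    linePartners_symm hF (Cfsg.Agent.S5029.result hS.1 (hnoniso Q hQ.1) hQ.1 hB hF).2.2.1
  have hF' : ⁅B, Q⁆ ∈ S := by rw [Subgroup.commutator_comm]; exact hF
  have h2 : B ∈ linePartners S ⁅Q, B⁆ := by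
    have := (Cfsg.Agent.S5029.result hS.1 (hnoniso B hB) hB hQ.1 hF').2.2.1
    rwa [Subgroup.commutator_comm] at this
  exact ((Relation.ReflTransGen.single ⟨hA, hQ.1, hQl⟩).tail ⟨hQ.1, hF, h1⟩).tail ⟨hF, hB, h2⟩

/-- Let S be a non-degenerate class of abstract root subgroups of G. Then the line graph on S and the commuting graph on S are connected. -/
theorem result {G : Type*} [Group G] {S : Set (Subgroup G)} (hS : Cfsg.IsRootSubgroupClass S) (hnd : Cfsg.IsNondegenerateRootSet S) :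
    Cfsg.IsConnectedFamily (Cfsg.EAdj S S) S ∧ Cfsg.IsConnectedFamily (Cfsg.DAdj S) S := by
  have hnd' := hnd
  obtain ⟨-, ⟨A₁, hA₁, B₁, hB₁, hp⟩, -⟩ := hnd'
  have hconn : IsConnectedFamily (FAdj S) S :=
    (Cfsg.Agent.S5032.result hS.1 ⟨A₁, hA₁, B₁, hB₁, hp.ne⟩).mpr
      ⟨hS.2, A₁, hA₁, Cfsg.Agent.S5032.not_isolated hA₁ hB₁ hp⟩
  have hE : IsConnectedFamily (EAdj S S) S := by
    intro A hA B hB
    have hpath := hconn A hA B hB
    induction hpath with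
    | refl => exact Relation.ReflTransGen.refl
    | tail _ hcd ih => exact (ih hcd.1).trans (path_of_pair hS hnd hcd.1 hcd.2.1 hcd.2.2)
  refine ⟨hE, ?_⟩
  intro A hA B hB
  have hmono : ∀ C D : Subgroup G, EAdj S S C D → DAdj S C D := by
    rintro C D ⟨hC, hD, ⟨⟨-, hDC, hcomm⟩, -⟩⟩
    exact ⟨hC, hD, hDC.symm, hcomm⟩
  exact Relation.ReflTransGen.mono hmono _ _ (hE A hA B hB)

end Cfsg.Agent.S5041
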