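import Cfsg.Statements.S5042
import Cfsg.Agent.Lib.Helper4.RootLine3
import Cfsg.Agent.S5041

set_option autoImplicit false
open Cfsg

namespace Cfsg.Agent.S5042

open Cfsg.Agent.Lib.Helper4.RankOneGrp Cfsg.Agent.Lib.Helper4.RootSub
  Cfsg.Agent.Lib.Helper4.RootSub2 Cfsg.Agent.Lib.Helper4.RootSub3
  Cfsg.Agent.Lib.Helper4.RootLine Cfsg.Agent.Lib.Helper4.RootLine2
  Cfsg.Agent.Lib.Helper4.RootLine3
open scoped commutatorElement

variable {G : Type*} [Group G] {S : Set (Subgroup G)}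

/-- a subgroup containing the line partners of `A` and a rank one partner `B` contains `A` -/
theorem left_le (hS : IsRootSubgroupSet S) (hall : ∀ A ∈ S, ∃ D ∈ S, IsRankOnePair A D)
    {A B C' H : Subgroup G} (hA : A ∈ S) (hBS : B ∈ S) (hAB : IsRankOnePair A B)
    (hC' : C' ∈ linePartners S A) (hΛH : ∀ C ∈ linePartners S A, C ≤ H) (hBH : B ≤ H) :
    A ≤ H := by
  obtain ⟨Q, hQ, hQA, hcase, hFAQ, hsup, hmem⟩ := line_desc hS hall hA hC' hBS hAB
  have hQl := mem_linePartners_of_mem hS hall hA hC' hQ hQA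
  have hAm : A ∈ membersIn S (A ⊔ C') := ⟨hA, le_sup_left⟩
  obtain ⟨T₃, hT₃, hT₃A, hT₃Q⟩ := exists_third hS hC'.2 hAm hQ hQA.symm
  have hT₃l := mem_linePartners_of_mem hS hall hA hC' hT₃ hT₃A
  have hT₃' := hT₃
  rw [hmem] at hT₃'
  rcases hT₃' with ⟨f, hf, hfe⟩ | h
  · have hfH : f ∈ H := (commutator_le_sup' Q B).trans (sup_le (hΛH Q hQl) hBH) hf
    have hfe' : conjBy A f = T₃ := hfe
    have : A = conjBy T₃ f⁻¹ := by
      rw [← hfe', conjBy_conjBy, inv_mul_cancel, conjBy_one]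
    rw [this]
    exact conjBy_le_of_mem (hΛH _ hT₃l) (inv_mem hfH)
  · exact absurd h hT₃Q

/-- every line partner of `A` is conjugate to `A` under a subgroup containing the line partners of
`A` and a rank one partner `B` -/
theorem key (hS : IsRootSubgroupSet S) (hall : ∀ A ∈ S, ∃ D ∈ S, IsRankOnePair A D)
    {A B H : Subgroup G} (hA : A ∈ S) (hBS : B ∈ S) (hAB : IsRankOnePair A B)
    (hΛH : ∀ C ∈ linePartners S A, C ≤ H) (hBH : B ≤ H) (hAH : A ≤ H) :
    ∀ C ∈ linePartners S A, ∃ h ∈ H, C = conjBy A h := by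
  intro C hC
  have hCS : C ∈ S := hC.1.1
  have hCA : C ≠ A := hC.1.2.1
  have hab := line_abelian hS hA hC
  have hAC : ∀ x ∈ A, ∀ y ∈ C, x * y = y * x :=
    fun x hx y hy => hab x (Subgroup.mem_sup_left hx) y (Subgroup.mem_sup_right hy)
  have hroot := line_root hA hC
  have hnoniso := noniso_of_hall hall
  rcases hS.pair C hCS B hBS with h | h | h
  · exfalso
    obtain ⟨a, ha, ha1⟩ := exists_ne_one_left hAB
    obtain ⟨c, hc, hc1⟩ := exists_ne_one_of_ne_bot (hS.ne_bot C hCS)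
    exact not_comm_of_translate hS hA hBS hAB (fun x hx y hy => (hAC y hy x hx).symm) ha ha1 hc hc1
      (hroot a ha ha1 c hc hc1) (commutator_eq_bot_iff'.mp h)
  · obtain ⟨x, hx, hxe⟩ := right_mem_unipotent hAB
    obtain ⟨y, hy, hye⟩ := right_mem_unipotent (RankOnePair_symm h)
    refine ⟨y * x, mul_mem (sup_le hBH (hΛH C hC) hy) (sup_le hAH hBH hx), ?_⟩
    rw [← conjBy_conjBy, ← hxe, ← hye]
  · have hFAC : ⁅⁅C, B⁆, A⁆ = C :=
      comm_FT_eq hS hA hCS hBS hAC hAB h (hall C hCS) hroot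
    have hF : ⁅C, B⁆ ∈ S := h.1
    have hFH : ⁅C, B⁆ ≤ H := (commutator_le_sup' C B).trans (sup_le (hΛH C hC) hBH)
    have hcommFA : ⁅A, ⁅C, B⁆⁆ = C := by rw [Subgroup.commutator_comm]; exact hFAC
    have hC2 : ⁅A, ⁅C, B⁆⁆ ∈ S := by rw [hcommFA]; exact hCS
    obtain ⟨hmem, -, -, -⟩ := Cfsg.Agent.S5029.result hS (hnoniso A hA) hA hF hC2
    rw [hcommFA] at hmem
    obtain ⟨E₀, hE₀, hCE₀⟩ := hall C hCS
    have hAl : A ∈ linePartners S C := linePartners_symm hA hC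
    obtain ⟨Q₀, hQ₀, hQ₀C, hcase₀, -, -, hmem₀⟩ := line_desc hS hall hCS hAl hE₀ hCE₀
    have hQ₀' : Q₀ ∈ membersIn S (A ⊔ C) := by rwa [sup_comm] at hQ₀
    have hQ₀'' := hQ₀'
    rw [hmem] at hQ₀''
    rcases hQ₀'' with ⟨f₀, hf₀, hf₀e⟩ | h0
    · have hf₀e' : conjBy A f₀ = Q₀ := hf₀e
      have hF₀ : ⁅Q₀, E₀⁆ ∈ S := hcase₀.1
      have hF₀l : ⁅Q₀, E₀⁆ ∈ linePartners S Q₀ :=
        linePartners_symm hF₀
          (Cfsg.Agent.S5029.result hS (hnoniso Q₀ hQ₀.1) hQ₀.1 hE₀ hF₀).2.2.1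
      have hF₀l' : conjBy ⁅Q₀, E₀⁆ f₀⁻¹ ∈ linePartners S A := by
        have h1 := linePartners_conj hS hF₀l f₀⁻¹
        have e : conjBy Q₀ f₀⁻¹ = A := by
          rw [← hf₀e', conjBy_conjBy, inv_mul_cancel, conjBy_one]
        rwa [e] at h1
      have hF₀H : ⁅Q₀, E₀⁆ ≤ H := by
        have h1 := hΛH _ hF₀l'
        have h2 := conjBy_le_of_mem h1 (hFH hf₀)
        rwa [conjBy_conjBy, mul_inv_cancel, conjBy_one] at h2
      have hCm' : C ∈ membersIn S (C ⊔ A) := ⟨hCS, le_sup_left⟩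
      obtain ⟨T₃, hT₃, hT₃C, hT₃Q⟩ := exists_third hS hAl.2 hCm' hQ₀ hQ₀C.symm
      have h3 := hT₃
      rw [hmem₀] at h3
      rcases h3 with ⟨f', hf', hf'e⟩ | h3
      · have hf'e' : conjBy C f' = T₃ := hf'e
        have h4 : T₃ ∈ membersIn S (A ⊔ C) := by rwa [sup_comm] at hT₃
        rw [hmem] at h4
        rcases h4 with ⟨f, hf, hfe⟩ | h4
        · have hfe' : conjBy A f = T₃ := hfe
          refine ⟨f'⁻¹ * f, mul_mem (inv_mem (hF₀H hf')) (hFH hf), ?_⟩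
          rw [← conjBy_conjBy, hfe', ← hf'e', conjBy_conjBy, inv_mul_cancel, conjBy_one]
        · exact absurd h4 hT₃C
      · exact absurd h3 hT₃Q
    · exact absurd h0 hQ₀C

/-- Let S be a non-degenerate class of abstract root subgroups of G, A ∈ S and B a rank one partner of A. Then G is generated by the line partners of A together with B. -/
theorem result {G : Type*} [Group G] {S : Set (Subgroup G)} (hS : Cfsg.IsRootSubgroupClass S) (hnd : Cfsg.IsNondegenerateRootSet S)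
    {A B : Subgroup G} (hA : A ∈ S) (hB : B ∈ Cfsg.rankOnePartners S A) :
    (⨆ C ∈ Cfsg.linePartners S A, C) ⊔ B = ⊤ := by
  have hnd' := hnd
  obtain ⟨-, hr, hc⟩ := hnd'
  have hall := hall_of_class hS hr
  obtain ⟨hBS, hAB⟩ := hB
  obtain ⟨H, hH⟩ : ∃ H : Subgroup G, H = (⨆ C ∈ linePartners S A, C) ⊔ B := ⟨_, rfl⟩
  rw [← hH]
  have hΛH : ∀ C ∈ linePartners S A, C ≤ H := by
    intro C hC
    rw [hH]
    exact le_trans
      (le_iSup₂ (f := fun (C : Subgroup G) (_ : C ∈ linePartners S A) => C) C hC) le_sup_left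
  have hBH : B ≤ H := by rw [hH]; exact le_sup_right
  obtain ⟨C', hC'⟩ := exists_linePartner hS hr hc hA
  have hAH : A ≤ H := left_le hS.1 hall hA hBS hAB hC' hΛH hBH
  have hkey := key hS.1 hall hA hBS hAB hΛH hBH hAH
  have hclosed : ∀ T T' : Subgroup G, (∃ h ∈ H, T = conjBy A h) → EAdj S S T T' →
      ∃ h ∈ H, T' = conjBy A h := by
    rintro T T' ⟨h, hh, rfl⟩ ⟨-, -, hT'⟩
    have h1 := linePartners_conj hS.1 hT' h⁻¹
    rw [conjBy_conjBy, inv_mul_cancel, conjBy_one] at h1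
    obtain ⟨h', hh', he⟩ := hkey _ h1
    refine ⟨h * h', mul_mem hh hh', ?_⟩
    rw [← conjBy_conjBy, ← he, conjBy_conjBy, mul_inv_cancel, conjBy_one]
  have hE := (Cfsg.Agent.S5041.result hS hnd).1
  have hall' : ∀ T ∈ S, ∃ h ∈ H, T = conjBy A h := by
    intro T hT
    have hpath := hE A hA T hT
    clear hT
    induction hpath with
    | refl => exact ⟨1, one_mem _, (conjBy_one A).symm⟩
    | tail _ hcd ih => exact hclosed _ _ ih hcd
  rw [eq_top_iff, ← hS.1.generates]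
  apply iSup₂_le
  intro T hT
  obtain ⟨h, hh, rfl⟩ := hall' T hT
  exact conjBy_le_of_mem hAH hh

end Cfsg.Agent.S5042
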