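import Cfsg.Statements.S5040
import Cfsg.Agent.S5042

set_option autoImplicit false
open Cfsg

namespace Cfsg.Agent.S5040

open Cfsg.Agent.Lib.Helper4.RankOneGrp Cfsg.Agent.Lib.Helper4.RootSub
  Cfsg.Agent.Lib.Helper4.RootSub2 Cfsg.Agent.Lib.Helper4.RootSub3
  Cfsg.Agent.Lib.Helper4.RootLine Cfsg.Agent.Lib.Helper4.RootLine2
  Cfsg.Agent.Lib.Helper4.RootLine3
open scoped commutatorElement

variable {G : Type*} [Group G] {S : Set (Subgroup G)}

/-- for a pair `(A, C)` in the commutator case there is a member opposite `A` commuting with `C` -/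
theorem exists_opp_comm (hS : IsRootSubgroupSet S) (hall : ∀ A ∈ S, ∃ D ∈ S, IsRankOnePair A D)
    {A C : Subgroup G} (hA : A ∈ S) (hC : C ∈ S) (h : RootCommutatorCase S A C) :
    ∃ D ∈ S, IsRankOnePair A D ∧ ∀ x ∈ C, ∀ y ∈ D, x * y = y * x := by
  have hF' : ⁅C, A⁆ ∈ S := by rw [Subgroup.commutator_comm]; exact h.1
  have hcaseCA : RootCommutatorCase S C A := commutatorCase_of_mem hS hC hA hF'
  have hnoniso := noniso_of_hall hall
  obtain ⟨hmem, -, hline, -⟩ := Cfsg.Agent.S5029.result hS (hnoniso C hC) hC hA hF'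
  obtain ⟨E', hE', hFE'⟩ := hall _ hF'
  obtain ⟨Q', hQ', hQ'F, hcaseQ, hQ, -⟩ := line_point hS hall hF' hline hE' hFE'
  rw [sup_comm, hmem] at hQ'
  rcases hQ' with ⟨a, ha, rfl⟩ | hQ'
  · have hFa : conjBy ⁅C, A⁆ a = ⁅C, A⁆ :=
      conjBy_of_commutes (fun x hx => (hcaseCA.2.1 x hx a (Subgroup.mem_sup_right ha)).symm)
    have hQA : ⁅conjBy C a, A⁆ = ⁅C, A⁆ := by
      have h1 : conjBy ⁅C, A⁆ a = ⁅conjBy C a, conjBy A a⁆ := Subgroup.map_commutator _ _ _
      rw [conjBy_of_mem ha, hFa] at h1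
      exact h1.symm
    have hD' : ⁅conjBy C a, E'⁆ ∈ S := hcaseQ.1
    have hpair : IsRankOnePair A ⁅conjBy C a, E'⁆ := by
      apply Cfsg.Agent.S5036.rankOne_BD hS (hS.conj_mem C hC a) hA _ hD'
      · rw [hQA]; exact hQ
      · rw [hQA]; exact hF'
    have hpair' : IsRankOnePair A (conjBy ⁅conjBy C a, E'⁆ a⁻¹) := by
      have := rankOnePair_conj hpair a⁻¹
      rwa [conjBy_of_mem (inv_mem ha)] at this
    refine ⟨_, hS.conj_mem _ hD' a⁻¹, hpair', ?_⟩
    have h1 : ∀ x ∈ conjBy C a, ∀ y ∈ ⁅conjBy C a, E'⁆, x * y = y * x :=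
      fun x hx y hy => (hcaseQ.2.1 y hy x (Subgroup.mem_sup_left hx)).symm
    have h2 := Cfsg.Agent.S5036.comm_conj h1 a⁻¹
    rwa [conjBy_conjBy, inv_mul_cancel, conjBy_one] at h2
  · exact absurd hQ' hQ'F

/-- the stabilizer of a family of subgroups under conjugation -/
def stab (Δ : Set (Subgroup G)) : Subgroup G where
  carrier := {g | ∀ T ∈ Δ, conjBy T g ∈ Δ ∧ conjBy T g⁻¹ ∈ Δ}
  one_mem' := by
    intro T hT
    rw [inv_one, conjBy_one]
    exact ⟨hT, hT⟩
  mul_mem' := by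
    intro g h hg hh T hT
    constructor
    · rw [← conjBy_conjBy]
      exact (hg _ (hh T hT).1).1
    · rw [mul_inv_rev, ← conjBy_conjBy]
      exact (hh _ (hg T hT).2).2
  inv_mem' := by
    intro g hg T hT
    rw [inv_inv]
    exact ⟨(hg T hT).2, (hg T hT).1⟩

theorem mem_stab {Δ : Set (Subgroup G)} {g : G} :
    g ∈ stab Δ ↔ ∀ T ∈ Δ, conjBy T g ∈ Δ ∧ conjBy T g⁻¹ ∈ Δ := Iff.rfl

/-- a member of `S` commuting with a member of a weak TI-subset stabilizes it -/
theorem le_stab (hS : IsRootSubgroupSet S) {Δ : Set (Subgroup G)} (hΔ : IsWeakTISubset S Δ)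
    {T T₀ : Subgroup G} (hT : T ∈ S) (hT₀ : T₀ ∈ Δ) (hc : ∀ x ∈ T, ∀ y ∈ T₀, x * y = y * x) :
    T ≤ stab Δ := by
  intro d hd
  by_cases hd1 : d = 1
  · rw [hd1]; exact one_mem _
  have hfix : conjBy T₀ d = T₀ := conjBy_of_commutes (fun x hx => hc d hd x hx)
  rcases hΔ.2.2.2 d ⟨hd1, T, hT, hd⟩ with h | h
  · rw [mem_stab]
    intro U hU
    constructor
    · rw [← h]; exact ⟨U, hU, rfl⟩
    · have hU' := hU
      rw [← h] at hU'
      obtain ⟨U', hU'Δ, hU'e⟩ := hU'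
      have hU'e' : conjBy U' d = U := hU'e
      rw [conjBy_eq_iff] at hU'e'
      rw [← hU'e']; exact hU'Δ
  · exfalso
    have h1 : T₀ ∈ (fun A => conjBy A d) '' Δ := ⟨T₀, hT₀, hfix⟩
    exact Set.disjoint_left.mp h h1 hT₀

/-- Let S be a non-degenerate class of abstract root subgroups of G and Δ a weak TI-subset of S. Then the members of Δ commute with one another elementwise. -/
theorem result {G : Type*} [Group G] {S : Set (Subgroup G)} (hS : Cfsg.IsRootSubgroupClass S) (hnd : Cfsg.IsNondegenerateRootSet S)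
    {Δ : Set (Subgroup G)} (hΔ : Cfsg.IsWeakTISubset S Δ) : Cfsg.IsAbelianFamily Δ := by
  have hnd' := hnd
  obtain ⟨-, hr, hc⟩ := hnd'
  have hall := hall_of_class hS hr
  -- no rank one pair inside Δ
  have hnopair : ∀ A ∈ Δ, ∀ B ∈ Δ, ¬ IsRankOnePair A B := by
    intro A hA B hB hAB
    have hAS := hΔ.1 hA
    have hBS := hΔ.1 hB
    have htop := Cfsg.Agent.S5042.result hS hnd hAS ⟨hBS, hAB⟩
    have hle : (⨆ C ∈ linePartners S A, C) ⊔ B ≤ stab Δ := by
      apply sup_le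
      · apply iSup₂_le
        intro C hC
        have hcomm := hC.1.2.2
        rw [commutator_eq_bot_iff'] at hcomm
        exact le_stab hS.1 hΔ hC.1.1 hA (fun x hx y hy => (hcomm y hy x hx).symm)
      · exact le_stab hS.1 hΔ hBS hB (fun x hx y hy => comm_of_mem hS.1 hBS hx hy)
    rw [htop] at hle
    apply hΔ.2.2.1
    apply Set.Subset.antisymm hΔ.1
    intro T hT
    obtain ⟨g, rfl⟩ := hS.2.2 A hAS T hT
    exact ((mem_stab.mp (hle (Subgroup.mem_top g))) A hA).1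
  intro A hA B hB
  have hAS := hΔ.1 hA
  have hBS := hΔ.1 hB
  rcases hS.1.pair A hAS B hBS with h | h | h
  · exact commutator_eq_bot_iff'.mp h
  · exact absurd h (hnopair A hA B hB)
  · exfalso
    obtain ⟨D, hD, hAD, hBD⟩ := exists_opp_comm hS.1 hall hAS hBS h
    have hDle : D ≤ stab Δ := le_stab hS.1 hΔ hD hB (fun x hx y hy => (hBD y hy x hx).symm)
    obtain ⟨d, hd, hd1⟩ := exists_ne_one_left (RankOnePair_symm hAD)
    have hAd : conjBy A d ∈ Δ := ((mem_stab.mp (hDle hd)) A hA).1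
    have hne : A ≠ conjBy A d := by
      intro heq
      exact hd1 (eq_one_of_mem_normalizer (RankOnePair_symm hAD) hd
        (conjBy_eq_self_iff.mp heq.symm))
    have hpair := (pair_of_distinct hAD left_mem_unipotent
      (conjBy_mem_unipotent left_mem_unipotent (Subgroup.mem_sup_right hd)) hne).1
    exact hnopair A hA _ hAd hpair

end Cfsg.Agent.S5040
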