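import Cfsg.Statements.S5045
import Mathlib
import Cfsg.Agent.Lib.Helper8.RI2

set_option autoImplicit false
open Cfsg

namespace Cfsg.Agent.S5045

/-- Let G be a finite group generated by a set D of root involutions, and W the set of members of D whose product with every other member of D has even order or is trivial (the isolated vertices of the odd-order-product graph on D). Then W is conjugation-invariant and generates a normal 2-subgroup of G meeting D in exactly W; the commutator of two members of D lying in different connected components of that graph, each with more than one member, lies in the subgroup generated by W; and for a in such a component, every member of D commuting with a, different from a and with product with a in D, lies in that component or in W. -/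
theorem result {G : Type*} [Group G] [Finite G] {D : Set G} (hD : Cfsg.IsRootInvolutionSet D) :
    (∀ w ∈ {w | Cfsg.IsIsolatedElem (Cfsg.OddAdj D) D w}, ∀ g : G, g * w * g⁻¹ ∈ {w | Cfsg.IsIsolatedElem (Cfsg.OddAdj D) D w}) ∧
    (Subgroup.closure {w | Cfsg.IsIsolatedElem (Cfsg.OddAdj D) D w}).Normal ∧
    IsPGroup 2 ↥(Subgroup.closure {w | Cfsg.IsIsolatedElem (Cfsg.OddAdj D) D w}) ∧
    (Subgroup.closure {w | Cfsg.IsIsolatedElem (Cfsg.OddAdj D) D w} : Set G) ∩ D = {w | Cfsg.IsIsolatedElem (Cfsg.OddAdj D) D w} ∧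
    (∀ a ∈ D, ∀ b ∈ D, (∃ a' ∈ Cfsg.elemComponentOf (Cfsg.OddAdj D) D a, a' ≠ a) →
      (∃ b' ∈ Cfsg.elemComponentOf (Cfsg.OddAdj D) D b, b' ≠ b) →
      Cfsg.elemComponentOf (Cfsg.OddAdj D) D a ≠ Cfsg.elemComponentOf (Cfsg.OddAdj D) D b →
        a * b * a⁻¹ * b⁻¹ ∈ Subgroup.closure {w | Cfsg.IsIsolatedElem (Cfsg.OddAdj D) D w}) ∧
    (∀ a ∈ D, (∃ a' ∈ Cfsg.elemComponentOf (Cfsg.OddAdj D) D a, a' ≠ a) →
      Cfsg.productPartners D a ⊆ Cfsg.elemComponentOf (Cfsg.OddAdj D) D a ∪ {w | Cfsg.IsIsolatedElem (Cfsg.OddAdj D) D w}) := by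
  classical
  have : Fact (Nat.Prime 2) := ⟨Nat.prime_two⟩
  obtain ⟨W, hW⟩ : ∃ W : Set G, W = {w | Cfsg.IsIsolatedElem (Cfsg.OddAdj D) D w} := ⟨_, rfl⟩
  rw [← hW]
  have hnotiso : ∀ z ∈ D, ¬ Cfsg.IsIsolatedElem (Cfsg.OddAdj D) D z → ∃ c, Cfsg.OddAdj D z c := by
    intro z hzD hniso
    by_contra hno
    rw [not_exists] at hno
    exact hniso ⟨hzD, fun b' => ⟨hno b', fun h => hno b' (Cfsg.Agent.Lib.Helper8.RI.oddAdj_symm h)⟩⟩
  have hconj : ∀ w ∈ W, ∀ g : G, g * w * g⁻¹ ∈ W := by
    intro w hw g
    rw [hW] at hw ⊢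
    obtain ⟨hwD, hiso⟩ := hw
    have h1 : g⁻¹ * (g * w * g⁻¹) * g⁻¹⁻¹ = w := by group
    refine ⟨hD.conj_mem w hwD g, fun b => ⟨?_, ?_⟩⟩
    · intro hadj
      have h := Cfsg.Agent.Lib.Helper8.RI.oddAdj_conj hD g⁻¹ hadj
      rw [h1] at h
      exact (hiso _).1 h
    · intro hadj
      have h := Cfsg.Agent.Lib.Helper8.RI.oddAdj_conj hD g⁻¹ hadj
      rw [h1] at h
      exact (hiso _).2 h
  have hnormal : (Subgroup.closure W).Normal := by
    constructor
    intro n hn g
    induction hn using Subgroup.closure_induction with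
    | mem x hx => exact Subgroup.subset_closure (hconj x hx g)
    | one => simp
    | mul x y _ _ ihx ihy =>
      have h : g * (x * y) * g⁻¹ = (g * x * g⁻¹) * (g * y * g⁻¹) := by group
      rw [h]; exact Subgroup.mul_mem _ ihx ihy
    | inv x _ ih =>
      have h : g * x⁻¹ * g⁻¹ = (g * x * g⁻¹)⁻¹ := by group
      rw [h]; exact Subgroup.inv_mem _ ih
  have hle : Subgroup.closure W ≤ Cfsg.pCore 2 G := by
    rw [Subgroup.closure_le]
    intro w hw
    rw [hW] at hw
    exact Cfsg.Agent.Lib.Helper8.RI.isolated_mem_pCore hD hw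
  have hP : IsPGroup 2 ↥(Subgroup.closure W) :=
    (Cfsg.Agent.Lib.Helper1.pCore_isPGroup 2).to_le hle
  refine ⟨hconj, hnormal, hP, ?_, ?_, ?_⟩
  · ext d
    constructor
    · rintro ⟨hdN, hdD⟩
      rw [hW]
      have key : ∀ b, ¬ Cfsg.OddAdj D d b := by
        intro b hadj
        obtain ⟨-, hb, hne, hodd⟩ := hadj
        have hbinv := Cfsg.Agent.Lib.Helper8.RI.inv_eq_of_mem hD hb
        have h1 : (d * b) ^ 2 ∈ Subgroup.closure W := by
          have h2 : (d * b) ^ 2 = d * (b * d * b⁻¹) := by rw [pow_two, hbinv]; group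
          rw [h2]
          exact Subgroup.mul_mem _ hdN (hnormal.conj_mem d hdN b)
        obtain ⟨k, hk⟩ := hP ⟨(d * b) ^ 2, h1⟩
        have hk' : ((d * b) ^ 2) ^ (2 ^ k) = 1 := by
          have := congrArg Subtype.val hk
          simpa using this
        rw [← pow_mul, ← pow_succ'] at hk'
        have hdvd : orderOf (d * b) ∣ 2 ^ (k + 1) := orderOf_dvd_of_pow_eq_one hk'
        have hcop : Nat.Coprime (orderOf (d * b)) (2 ^ (k + 1)) :=
          Nat.Coprime.pow_right _ hodd.coprime_two_right
        have h3 : orderOf (d * b) = 1 := Nat.Coprime.eq_one_of_dvd hcop hdvd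
        have h4 : d * b = 1 := orderOf_eq_one_iff.mp h3
        apply hne
        calc d = b⁻¹ := eq_inv_of_mul_eq_one_left h4
          _ = b := hbinv
      exact ⟨hdD, fun b => ⟨key b, fun h => key b (Cfsg.Agent.Lib.Helper8.RI.oddAdj_symm h)⟩⟩
    · intro hd
      refine ⟨Subgroup.subset_closure hd, ?_⟩
      rw [hW] at hd
      exact hd.1
  · intro a ha b hb _ _ hne
    have hainv := Cfsg.Agent.Lib.Helper8.RI.inv_eq_of_mem hD ha
    have hbinv := Cfsg.Agent.Lib.Helper8.RI.inv_eq_of_mem hD hb
    have haa := Cfsg.Agent.Lib.Helper8.RI.mul_self_of_mem hD ha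
    have hbb := Cfsg.Agent.Lib.Helper8.RI.mul_self_of_mem hD hb
    have hnreach : ¬ Relation.ReflTransGen (Cfsg.OddAdj D) a b :=
      fun h => hne (Cfsg.Agent.Lib.Helper8.RI.comp_eq_of_reach h)
    rw [hainv, hbinv]
    rcases hD.pair a ha b hb with hc | ho | ⟨h4, hzD⟩
    · have h1 : a * b * a * b = 1 := by
        calc a * b * a * b = a * (b * a) * b := by group
          _ = a * (a * b) * b := by rw [hc]
          _ = (a * a) * (b * b) := by group
          _ = 1 := by rw [haa, hbb, one_mul]
      rw [h1]; exact Subgroup.one_mem _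
    · by_cases hab : a = b
      · exact absurd (hab ▸ Relation.ReflTransGen.refl) hnreach
      · exact absurd (Relation.ReflTransGen.single ⟨ha, hb, hab, ho⟩) hnreach
    · obtain ⟨z, hz⟩ : ∃ z, z = (a * b) ^ 2 := ⟨_, rfl⟩
      rw [← hz] at hzD
      have hz' : z = a * b * a * b := by rw [hz, pow_two]; group
      rw [← hz']
      apply Subgroup.subset_closure
      rw [hW]
      by_contra hniso
      obtain ⟨c, hzc⟩ := hnotiso z hzD hniso
      have h44 : a * b * a * b * a * b * a * b = 1 := by
        have h := pow_orderOf_eq_one (a * b)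
        rw [h4] at h
        rw [← h]
        simp only [pow_succ, pow_zero, one_mul, mul_assoc]
      have h44' : b * a * b * a * b * a * b * a = 1 := by
        calc b * a * b * a * b * a * b * a = a⁻¹ * (a * b * a * b * a * b * a * b) * a := by group
          _ = 1 := by rw [h44]; group
      -- a z = b a b
      have haz1 : a * z = b * a * b⁻¹ := by
        rw [hz', hbinv]
        calc a * (a * b * a * b) = (a * a) * b * a * b := by group
          _ = b * a * b := by rw [haa, one_mul]
      have hza : z * a = b * a * b⁻¹ := by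
        calc z * a = (a * b * a * b * a * b * a * b) * (b⁻¹ * a⁻¹ * b⁻¹) := by rw [hz']; group
          _ = b⁻¹ * a⁻¹ * b⁻¹ := by rw [h44, one_mul]
          _ = b * a * b⁻¹ := by rw [hainv, hbinv]
      have hbz1 : b * z = a * b * a⁻¹ := by
        calc b * z = (b * a * b * a * b * a * b * a) * (a⁻¹ * b⁻¹ * a⁻¹) := by rw [hz']; group
          _ = a⁻¹ * b⁻¹ * a⁻¹ := by rw [h44', one_mul]
          _ = a * b * a⁻¹ := by rw [hainv, hbinv]
      have hzb : z * b = a * b * a⁻¹ := by
        rw [hz', hainv]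
        calc a * b * a * b * b = a * b * a * (b * b) := by group
          _ = a * b * a := by rw [hbb, mul_one]
      have hazc : a * z = z * a := by rw [haz1, hza]
      have hbzc : b * z = z * b := by rw [hbz1, hzb]
      have hazD : a * z ∈ D := by rw [haz1]; exact hD.conj_mem a ha b
      have hbzD : b * z ∈ D := by rw [hbz1]; exact hD.conj_mem b hb a
      have hra : Relation.ReflTransGen (Cfsg.OddAdj D) z a := by
        rcases Cfsg.Agent.Lib.Helper8.RI.key_lemma hD ha hzD hazc hazD hzc with h | h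
        · exact h
        · have h1 := Cfsg.Agent.Lib.Helper8.RI.reach_conj hD b⁻¹ h
          have h2 : b⁻¹ * z * b⁻¹⁻¹ = z := by
            rw [inv_inv]
            calc b⁻¹ * z * b = b⁻¹ * (z * b) := by group
              _ = b⁻¹ * (b * z) := by rw [hbzc]
              _ = z := by group
          have h3 : b⁻¹ * (a * z) * b⁻¹⁻¹ = a := by rw [haz1]; group
          rwa [h2, h3] at h1
      have hrb : Relation.ReflTransGen (Cfsg.OddAdj D) z b := by
        rcases Cfsg.Agent.Lib.Helper8.RI.key_lemma hD hb hzD hbzc hbzD hzc with h | h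
        · exact h
        · have h1 := Cfsg.Agent.Lib.Helper8.RI.reach_conj hD a⁻¹ h
          have h2 : a⁻¹ * z * a⁻¹⁻¹ = z := by
            rw [inv_inv]
            calc a⁻¹ * z * a = a⁻¹ * (z * a) := by group
              _ = a⁻¹ * (a * z) := by rw [hazc]
              _ = z := by group
          have h3 : a⁻¹ * (b * z) * a⁻¹⁻¹ = b := by rw [hbz1]; group
          rwa [h2, h3] at h1
      exact hnreach ((Cfsg.Agent.Lib.Helper8.RI.reach_symm hra).trans hrb)
  · intro a ha hnontriv e he
    obtain ⟨⟨heD, hcomm, hea⟩, heaD⟩ := he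
    by_cases hiso : Cfsg.IsIsolatedElem (Cfsg.OddAdj D) D e
    · refine Or.inr ?_
      rw [hW]; exact hiso
    · refine Or.inl ⟨heD, ?_⟩
      obtain ⟨c, hec⟩ := hnotiso e heD hiso
      obtain ⟨a', ⟨ha'D, hreach⟩, hne⟩ := hnontriv
      have hex : ∃ a'', Cfsg.OddAdj D a a'' := by
        rcases Relation.ReflTransGen.cases_head hreach with h | ⟨c', hc', -⟩
        · exact absurd h.symm hne
        · exact ⟨c', hc'⟩
      obtain ⟨a'', haa''⟩ := hex
      have haeD : a * e ∈ D := by rw [← hcomm]; exact heaD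
      have h1 := Cfsg.Agent.Lib.Helper8.RI.key_lemma hD ha heD hcomm.symm haeD hec
      have h2 := Cfsg.Agent.Lib.Helper8.RI.key_lemma hD heD ha hcomm heaD haa''
      rcases h2 with h2 | h2
      · exact h2
      · rcases h1 with h1 | h1
        · exact Cfsg.Agent.Lib.Helper8.RI.reach_symm h1
        · rw [← hcomm] at h1
          exact h2.trans (Cfsg.Agent.Lib.Helper8.RI.reach_symm h1)

end Cfsg.Agent.S5045
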