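import Cfsg.Statements.S5048
import Mathlib
import Cfsg.Agent.Lib.Helper8.RI4

set_option autoImplicit false
open Cfsg

namespace Cfsg.Agent.S5048

/-- Let G be a finite group generated by a set D of root involutions whose odd-order-product graph is connected, with some product of two different commuting members of D again in D. Then the largest solvable normal subgroup of G is the preimage of the centre of G/O₂(G), and the quotient of G by it is a simple group. -/
theorem result {G : Type*} [Group G] [Finite G] {D : Set G} (hD : Cfsg.IsRootInvolutionSet D)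
    (hc : Cfsg.IsConnectedSet (Cfsg.OddAdj D) D) (hDD : (D ∩ Cfsg.commutingProducts D).Nonempty) :
    Cfsg.solvableRadical G = Cfsg.twoZCore G ∧ IsSimpleGroup (G ⧸ Cfsg.twoZCore G) := by
  obtain ⟨x, hxD, a, ha, b, hb, hab, hab1, rfl⟩ := hDD
  have hne : a ≠ b := by
    intro h; apply hab1; rw [h]; exact Cfsg.Agent.Lib.Helper8.RI.mul_self_of_mem hD hb
  have hT := Cfsg.Agent.Lib.Helper8.RI.not_mem_twoZCore hD hc ha hb hne
  have hK : ∀ (N : Subgroup G) [N.Normal], (∀ d ∈ D, d ∉ N) → N ≤ Cfsg.twoZCore G :=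
    fun N _ h => Cfsg.Agent.Lib.Helper8.RI.le_twoZCore hD hc ha hb hab hxD N h
  haveI : Nontrivial G := ⟨⟨a, b, hne⟩⟩
  constructor
  · apply le_antisymm
    · apply sSup_le
      rintro N ⟨hNn, hNs⟩
      by_cases hex : ∃ d ∈ D, d ∈ N
      · exfalso
        obtain ⟨d, hd, hdN⟩ := hex
        have hNtop := Cfsg.Agent.Lib.Helper8.RI.eq_top_of_mem hD hc hd hdN
        subst hNtop
        haveI : Group.IsSolvable G :=
          Group.isSolvable_of_surjective (f := (⊤ : Subgroup G).subtype)
            (fun g => ⟨⟨g, Subgroup.mem_top g⟩, rfl⟩)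
        have hlt : commutator G < ⊤ := Group.IsSolvable.commutator_lt_top_of_nontrivial G
        obtain ⟨g, hg⟩ := Cfsg.Agent.Lib.Helper8.RI.conj_of_reach hD (hc a ha b hb)
        have hab' : a * b ∈ commutator G := by
          have h1 : a * b = g * a * g⁻¹ * a⁻¹ := by
            rw [hab, hg, Cfsg.Agent.Lib.Helper8.RI.inv_eq_of_mem hD ha]
          rw [h1]
          exact Cfsg.Agent.Lib.Helper8.RI.conj_mul_inv_mem_commutator g a
        have htop := Cfsg.Agent.Lib.Helper8.RI.eq_top_of_mem hD hc hxD hab'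
        exact ne_of_lt hlt htop
      · simp only [not_exists, not_and] at hex
        exact hK N hex
    · apply le_sSup
      exact ⟨Cfsg.twoZCore_normal G, Cfsg.Agent.Lib.Helper8.RI.isSolvable_twoZCore⟩
  · haveI : Nontrivial (G ⧸ Cfsg.twoZCore G) := by
      refine ⟨⟨(QuotientGroup.mk a : G ⧸ Cfsg.twoZCore G), 1, ?_⟩⟩
      intro h
      exact hT a ha ((QuotientGroup.eq_one_iff a).mp h)
    refine ⟨?_⟩
    intro Hb hHb
    obtain ⟨N, hN⟩ : ∃ N : Subgroup G, N = Hb.comap (QuotientGroup.mk' (Cfsg.twoZCore G)) :=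
      ⟨_, rfl⟩
    haveI hNn : N.Normal := by rw [hN]; exact Subgroup.Normal.comap hHb _
    by_cases hex : ∃ d ∈ D, d ∈ N
    · right
      obtain ⟨d, hd, hdN⟩ := hex
      have hNtop := Cfsg.Agent.Lib.Helper8.RI.eq_top_of_mem hD hc hd hdN
      rw [eq_top_iff]
      intro q _
      obtain ⟨g, rfl⟩ := QuotientGroup.mk'_surjective (Cfsg.twoZCore G) q
      have hg : g ∈ N := by rw [hNtop]; exact Subgroup.mem_top g
      rw [hN] at hg
      exact hg
    · left
      simp only [not_exists, not_and] at hex
      have hle := hK N hex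
      rw [eq_bot_iff]
      intro q hq
      obtain ⟨g, rfl⟩ := QuotientGroup.mk'_surjective (Cfsg.twoZCore G) q
      have hg : g ∈ N := by rw [hN]; exact hq
      rw [Subgroup.mem_bot]
      exact (QuotientGroup.eq_one_iff g).mpr (hle hg)

end Cfsg.Agent.S5048
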