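import Cfsg.Statements.S5049
import Cfsg.Agent.Lib.Helper1.PCore

set_option autoImplicit false
set_option linter.unusedSectionVars false
open Cfsg

namespace Cfsg.Agent.S5049

open scoped commutatorElement

section
variable {G : Type*} [Group G] [Finite G] {D : Set G}

theorem mul_self (hD : IsRootInvolutionSet D) {a : G} (ha : a ∈ D) : a * a = 1 := by
  have h := hD.orderOf_eq a ha
  have h2 : a ^ 2 = 1 := by rw [← h]; exact pow_orderOf_eq_one a
  rwa [pow_two] at h2

theorem inv_eq_self (hD : IsRootInvolutionSet D) {a : G} (ha : a ∈ D) : a⁻¹ = a :=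
  inv_eq_of_mul_eq_one_left (mul_self hD ha)

/-- an element of `O₂(G)` of odd order is trivial -/
theorem eq_one_of_odd {x : G} (hx : x ∈ pCore 2 G) (hodd : Odd (orderOf x)) : x = 1 := by
  have : Fact (Nat.Prime 2) := ⟨Nat.prime_two⟩
  have hp := Cfsg.Agent.Lib.Helper1.pCore_isPGroup (G := G) 2
  obtain ⟨k, hk⟩ := hp ⟨x, hx⟩
  have hk' : x ^ 2 ^ k = 1 := by
    have := congrArg Subtype.val hk
    simpa using this
  have hdvd : orderOf x ∣ 2 ^ k := orderOf_dvd_of_pow_eq_one hk'
  have hcop : Nat.Coprime (orderOf x) (2 ^ k) :=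
    Nat.Coprime.pow_right k hodd.coprime_two_right
  exact orderOf_eq_one_iff.mp (Nat.Coprime.eq_one_of_dvd hcop hdvd)

/-- conjugating a member of `D` by an element of `O₂(G)` -/
theorem conj_facts (hD : IsOddTranspositionSet D) {a x : G} (ha : a ∈ D) (hx : x ∈ pCore 2 G) :
    x * a * x⁻¹ ∈ D ∧ x * a * x⁻¹ * a ∈ pCore 2 G ∧ (x * a * x⁻¹) * a = a * (x * a * x⁻¹) := by
  have hn := Cfsg.Agent.Lib.Helper1.pCore_normal (G := G) 2
  have ha' : x * a * x⁻¹ ∈ D := hD.1.conj_mem a ha x
  have hQ : x * a * x⁻¹ * a ∈ pCore 2 G := by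
    have h1 : a * x⁻¹ * a⁻¹ ∈ pCore 2 G := hn.conj_mem _ (inv_mem hx) a
    rw [inv_eq_self hD.1 ha] at h1
    have h2 : x * a * x⁻¹ * a = x * (a * x⁻¹ * a) := by group
    rw [h2]
    exact mul_mem hx h1
  refine ⟨ha', hQ, ?_⟩
  rcases hD.1.pair _ ha' a ha with h | h | h
  · exact h
  · have h1 := eq_one_of_odd hQ h
    have h2 : x * a * x⁻¹ = a⁻¹ := eq_inv_of_mul_eq_one_left h1
    rw [h2, inv_eq_self hD.1 ha]
  · exact absurd h.1 (hD.2 _ ha' a ha)

theorem part1_aux (hD : IsOddTranspositionSet D) {a e a' : G} (ha : a ∈ D) (he : e ∈ D)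
    (hea : e * a = a * e) (ha' : a' ∈ D) (hQ : a' * a ∈ pCore 2 G) :
    e * (a' * a) = (a' * a) * e := by
  have hn := Cfsg.Agent.Lib.Helper1.pCore_normal (G := G) 2
  have ha't : a' = (a' * a) * a := by
    rw [mul_assoc, mul_self hD.1 ha, mul_one]
  rcases hD.1.pair e he a' ha' with h | h | h
  · -- `e` commutes with `a'` and with `a`
    rw [← mul_assoc, h, mul_assoc, hea, mul_assoc]
  · -- odd order: then `e * a' ∈ Q`, so `e = a'`
    have hsq : (e * a') ^ 2 ∈ pCore 2 G := by
      have e1 : (e * a') ^ 2 = (e * (a' * a) * e⁻¹) * (a * (a' * a) * a⁻¹) := by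
        rw [pow_two, inv_eq_self hD.1 he, inv_eq_self hD.1 ha]
        calc e * a' * (e * a') = e * ((a' * a) * a) * (e * ((a' * a) * a)) := by rw [← ha't]
          _ = e * (a' * a) * (a * e) * (a' * a) * a := by group
          _ = e * (a' * a) * (e * a) * (a' * a) * a := by rw [hea]
          _ = e * (a' * a) * e * (a * (a' * a) * a) := by group
      rw [e1]
      exact mul_mem (hn.conj_mem _ hQ e) (hn.conj_mem _ hQ a)
    obtain ⟨m, hm⟩ := h
    have hpow : (e * a') = ((e * a') ^ 2) ^ (m + 1) := by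
      rw [← pow_mul]
      have : 2 * (m + 1) = orderOf (e * a') + 1 := by omega
      rw [this, pow_succ, pow_orderOf_eq_one, one_mul]
    have hmem : e * a' ∈ pCore 2 G := by
      rw [hpow]; exact pow_mem hsq _
    have h1 := eq_one_of_odd hmem ⟨m, hm⟩
    have h2 : e = a'⁻¹ := eq_inv_of_mul_eq_one_left h1
    rw [inv_eq_self hD.1 ha'] at h2
    rw [← h2, ← mul_assoc, mul_self hD.1 he, one_mul, hea, mul_assoc, mul_self hD.1 he,
      mul_one]
  · exact absurd h.1 (hD.2 _ he _ ha')

theorem part1 (hD : IsOddTranspositionSet D) {a e x : G} (ha : a ∈ D) (he : e ∈ D)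
    (hea : e * a = a * e) (hx : x ∈ pCore 2 G) :
    e * (x * a * x⁻¹ * a) = (x * a * x⁻¹ * a) * e := by
  obtain ⟨ha', hQ, -⟩ := conj_facts hD ha hx
  exact part1_aux hD ha he hea ha' hQ

theorem part2 (hD : IsOddTranspositionSet D) {a b x : G} (ha : a ∈ D) (hb : b ∈ D) (hba : b ≠ a)
    (hodd : Odd (orderOf (a * b))) (hx : x ∈ pCore 2 G) (hxu : Commute x (a * b)) :
    Commute x a := by
  obtain ⟨ha', hQ, hcomm⟩ := conj_facts hD ha hx
  have hai := inv_eq_self hD.1 ha
  have hbi := inv_eq_self hD.1 hb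
  -- `t = a' * a` is an involution or trivial
  have htt : (x * a * x⁻¹ * a) * (x * a * x⁻¹ * a) = 1 := by
    calc (x * a * x⁻¹ * a) * (x * a * x⁻¹ * a)
        = (x * a * x⁻¹) * (a * (x * a * x⁻¹)) * a := by group
      _ = (x * a * x⁻¹) * ((x * a * x⁻¹) * a) * a := by rw [← hcomm]
      _ = ((x * a * x⁻¹) * (x * a * x⁻¹)) * (a * a) := by group
      _ = 1 := by rw [mul_self hD.1 ha', mul_self hD.1 ha, mul_one]
  by_cases ht1 : x * a * x⁻¹ * a = 1
  · have h2 : x * a * x⁻¹ = a⁻¹ := eq_inv_of_mul_eq_one_left ht1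
    rw [hai] at h2
    show x * a = a * x
    calc x * a = (x * a * x⁻¹) * x := by group
      _ = a * x := by rw [h2]
  · exfalso
    -- `a` inverts `u = a * b`
    have hau : SemiconjBy a (a * b) (a * b)⁻¹ := by
      show a * (a * b) = (a * b)⁻¹ * a
      rw [mul_inv_rev, hai, hbi, ← mul_assoc, mul_self hD.1 ha, one_mul, mul_assoc,
        mul_self hD.1 ha, mul_one]
    have hxu' : SemiconjBy x⁻¹ (a * b) (a * b) := hxu.inv_left
    have hxui : SemiconjBy x (a * b)⁻¹ (a * b)⁻¹ := hxu.inv_right
    have ha'u : SemiconjBy (x * a * x⁻¹) (a * b) (a * b)⁻¹ := (hxui.mul_left hau).mul_left hxu'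
    have ha'ui : SemiconjBy (x * a * x⁻¹) (a * b)⁻¹ (a * b) := by
      have := ha'u.inv_right
      rwa [inv_inv] at this
    have htu : Commute (x * a * x⁻¹ * a) (a * b) := ha'ui.mul_left hau
    -- orders
    have hot : orderOf (x * a * x⁻¹ * a) = 2 := by
      apply orderOf_eq_prime
      · rw [pow_two]; exact htt
      · exact ht1
    have hcop : Nat.Coprime (orderOf (x * a * x⁻¹ * a)) (orderOf (a * b)) := by
      rw [hot]; exact Nat.coprime_two_left.mpr hodd
    have hord := htu.orderOf_mul_eq_mul_orderOf_of_coprime hcop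
    rw [hot] at hord
    -- `a' * b = t * u`
    have hprod : (x * a * x⁻¹) * b = (x * a * x⁻¹ * a) * (a * b) := by
      rw [mul_assoc (x * a * x⁻¹) a, ← mul_assoc a a b, mul_self hD.1 ha, one_mul]
    rcases hD.1.pair _ ha' b hb with h | h | h
    · -- commuting involutions: product has order dividing 2
      have hsq : ((x * a * x⁻¹) * b) ^ 2 = 1 := by
        rw [pow_two]
        calc (x * a * x⁻¹) * b * ((x * a * x⁻¹) * b)
            = (x * a * x⁻¹) * (b * (x * a * x⁻¹)) * b := by group
          _ = (x * a * x⁻¹) * ((x * a * x⁻¹) * b) * b := by rw [← h]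
          _ = ((x * a * x⁻¹) * (x * a * x⁻¹)) * (b * b) := by group
          _ = 1 := by rw [mul_self hD.1 ha', mul_self hD.1 hb, mul_one]
      have hdvd : orderOf ((x * a * x⁻¹) * b) ∣ 2 := orderOf_dvd_of_pow_eq_one hsq
      rw [hprod, hord] at hdvd
      have hm1 : orderOf (a * b) = 1 := by
        have hpos : 0 < orderOf (a * b) := Nat.pos_of_ne_zero (fun h0 => by
          rw [h0] at hodd; exact absurd hodd (by decide))
        have := Nat.le_of_dvd (by norm_num) hdvd
        omega
      have hab1 : a * b = 1 := orderOf_eq_one_iff.mp hm1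
      apply hba
      have : b = a⁻¹ := (eq_inv_of_mul_eq_one_right hab1)
      rw [this, hai]
    · rw [hprod, hord] at h
      exact (Nat.not_odd_iff_even.mpr (even_two_mul _)) h
    · exact absurd h.1 (hD.2 _ ha' b hb)

end

/-- Let G be a finite group generated by a set D of odd transpositions (root involutions with no product of order 4), Q = O₂(G), and for a ∈ D let Q_a be the commutator subgroup of Q with a. Then every member of D commuting with a centralizes Q_a; and for b ∈ D with ab of odd order greater than 1, the centralizer of ab in Q is the intersection of the centralizers of a and b in Q. -/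
theorem result {G : Type*} [Group G] [Finite G] {D : Set G} (hD : Cfsg.IsOddTranspositionSet D) {a : G} (ha : a ∈ D) :
    (∀ e ∈ Cfsg.commutingMembers D a, ∀ q ∈ ⁅Cfsg.pCore 2 G, Subgroup.zpowers a⁆, e * q = q * e) ∧
    (∀ b ∈ Cfsg.oddPartners D a,
      Cfsg.pCore 2 G ⊓ Subgroup.centralizer {a * b} = Cfsg.pCore 2 G ⊓ Subgroup.centralizer {a} ⊓ Subgroup.centralizer {b}) := by
  constructor
  · rintro e ⟨he, hea⟩ q hq
    have hle : ⁅Cfsg.pCore 2 G, Subgroup.zpowers a⁆ ≤ Subgroup.centralizer {e} := by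
      rw [Subgroup.commutator_le]
      intro x hx y hy
      rw [Subgroup.mem_centralizer_singleton_iff]
      obtain ⟨n, rfl⟩ := hy
      rcases Int.even_or_odd n with ⟨k, hk⟩ | ⟨k, hk⟩
      · have : a ^ n = 1 := by
          rw [hk, ← two_mul, zpow_mul, zpow_ofNat, pow_two, mul_self hD.1 ha, one_zpow]
        simp only [this]
        rw [commutatorElement_one_right, mul_one, one_mul]
      · have : a ^ n = a := by
          rw [hk, zpow_add, zpow_mul, zpow_ofNat, pow_two, mul_self hD.1 ha, one_zpow, one_mul,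
            zpow_one]
        simp only [this]
        rw [commutatorElement_def, inv_eq_self hD.1 ha]
        exact (part1 hD ha he hea hx).symm
    have := hle hq
    rw [Subgroup.mem_centralizer_singleton_iff] at this
    exact this.symm
  · rintro b ⟨hb, hba, hodd⟩
    ext x
    simp only [Subgroup.mem_inf, Subgroup.mem_centralizer_singleton_iff]
    constructor
    · rintro ⟨hx, hxu⟩
      have hxu' : Commute x (a * b) := hxu
      have hxa : Commute x a := part2 hD ha hb hba hodd hx hxu'
      refine ⟨⟨hx, hxa.eq⟩, ?_⟩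
      have h1 : b = a⁻¹ * (a * b) := by group
      have hxb : Commute x b := by
        rw [h1]; exact hxa.inv_right.mul_right hxu'
      exact hxb.eq
    · rintro ⟨⟨hx, hxa⟩, hxb⟩
      refine ⟨hx, ?_⟩
      have h1 : Commute x a := hxa
      have h2 : Commute x b := hxb
      exact (h1.mul_right h2).eq

end Cfsg.Agent.S5049
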