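import Cfsg.Statements.S5057
import Mathlib.Tactic

set_option autoImplicit false
open Cfsg

namespace Cfsg.Agent.S5057

open Equiv

set_option maxRecDepth 100000 in
lemma pow_cases : ∀ g : Equiv.Perm (Fin 6), Equiv.Perm.sign g = 1 →
    g^2 = 1 ∨ g^3 = 1 ∨ g^4 = 1 ∨ g^5 = 1 := by
  decide +kernel

set_option maxRecDepth 100000 in
lemma conj_cases : ∀ a : Equiv.Perm (Fin 6), Equiv.Perm.sign a = 1 → a^2 = 1 → a ≠ 1 →
    ∃ g : Equiv.Perm (Fin 6), Equiv.Perm.sign g = 1 ∧ g * (swap 0 1 * swap 2 3) * g⁻¹ = a := by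
  decide +kernel

abbrev A6 := ↥(alternatingGroup (Fin 6))

lemma order_cases (g : A6) : orderOf g = 1 ∨ orderOf g = 2 ∨ orderOf g = 3 ∨ orderOf g = 4 ∨
    orderOf g = 5 := by
  have hs : Equiv.Perm.sign (g : Equiv.Perm (Fin 6)) = 1 := Equiv.Perm.mem_alternatingGroup.1 g.2
  have key : ∀ n : ℕ, (g : Equiv.Perm (Fin 6)) ^ n = 1 → orderOf g ∣ n := by
    intro n hn
    apply orderOf_dvd_of_pow_eq_one
    apply Subtype.ext
    rw [Subgroup.coe_pow]; exact hn
  rcases pow_cases g hs with h | h | h | h
  · have := key 2 h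
    rcases (Nat.dvd_prime Nat.prime_two).1 this with h | h <;> simp [h]
  · have := key 3 h
    rcases (Nat.dvd_prime Nat.prime_three).1 this with h | h <;> simp [h]
  · have h4 := key 4 h
    have : orderOf g ∈ Nat.divisors 4 := Nat.mem_divisors.2 ⟨h4, by norm_num⟩
    have hd : Nat.divisors 4 = {1, 2, 4} := by decide
    rw [hd] at this
    simp only [Finset.mem_insert, Finset.mem_singleton] at this
    rcases this with h | h | h <;> simp [h]
  · have := key 5 h
    rcases (Nat.dvd_prime Nat.prime_five).1 this with h | h <;> simp [h]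

/-- base involution -/
def a0 : A6 := ⟨swap 0 1 * swap 2 3, by rw [Equiv.Perm.mem_alternatingGroup]; decide⟩

lemma conj_a0 (a : A6) (ha : orderOf a = 2) : ∃ g : A6, a = g * a0 * g⁻¹ := by
  have hs : Equiv.Perm.sign (a : Equiv.Perm (Fin 6)) = 1 := Equiv.Perm.mem_alternatingGroup.1 a.2
  have h2 : (a : Equiv.Perm (Fin 6)) ^ 2 = 1 := by
    have : a ^ 2 = 1 := by rw [← ha]; exact pow_orderOf_eq_one a
    have := congrArg Subtype.val this
    simpa using this
  have h1 : (a : Equiv.Perm (Fin 6)) ≠ 1 := by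
    intro h
    have : a = 1 := Subtype.ext h
    rw [this, orderOf_one] at ha
    omega
  obtain ⟨g, hg, hga⟩ := conj_cases a hs h2 h1
  refine ⟨⟨g, Equiv.Perm.mem_alternatingGroup.2 hg⟩, ?_⟩
  apply Subtype.ext
  exact hga.symm

lemma a0_order : orderOf a0 = 2 := by
  apply orderOf_eq_prime
  · apply Subtype.ext
    show (swap (0 : Fin 6) 1 * swap 2 3) ^ 2 = 1
    decide
  · intro h
    have := congrArg Subtype.val h
    revert this
    show (swap (0 : Fin 6) 1 * swap 2 3) ≠ 1
    decide

theorem result :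
    Cfsg.IsRootInvolutionClass {g : ↥(alternatingGroup (Fin 6)) | orderOf g = 2} ∧
    ∀ d ∈ {g : ↥(alternatingGroup (Fin 6)) | orderOf g = 2}, ∀ e ∈ {g : ↥(alternatingGroup (Fin 6)) | orderOf g = 2},
      orderOf (d * e) ≤ 5 := by
  set D : Set A6 := {g : ↥(alternatingGroup (Fin 6)) | orderOf g = 2} with hD
  have hconj : ∀ d ∈ D, ∀ g : A6, g * d * g⁻¹ ∈ D := by
    intro d hd g
    show orderOf (g * d * g⁻¹) = 2
    have := (MulAut.conj g).orderOf_eq d
    rw [MulAut.conj_apply] at this
    rw [this]; exact hd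
  refine ⟨⟨⟨fun d hd => hd, ?_, hconj, ?_⟩, ⟨a0, a0_order⟩, ?_⟩, ?_⟩
  · -- generates
    haveI : IsSimpleGroup A6 := alternatingGroup.isSimpleGroup (by simp)
    have hle : Subgroup.normalClosure D ≤ Subgroup.closure D := by
      unfold Subgroup.normalClosure
      apply Subgroup.closure_mono
      intro x hx
      rw [Group.mem_conjugatesOfSet_iff] at hx
      obtain ⟨b, hb, hbx⟩ := hx
      rw [isConj_iff] at hbx
      obtain ⟨c, hc⟩ := hbx
      rw [← hc]
      exact hconj b hb c
    rcases (Subgroup.normalClosure_normal (s := D)).eq_bot_or_eq_top with h | h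
    · exfalso
      have : a0 ∈ Subgroup.normalClosure D := Subgroup.subset_normalClosure a0_order
      rw [h, Subgroup.mem_bot] at this
      have h2 := a0_order
      rw [this, orderOf_one] at h2
      omega
    · rw [eq_top_iff, ← h]; exact hle
  · -- pair
    intro a ha b hb
    have ha2 : a * a = 1 := by
      have : a ^ 2 = 1 := by rw [← ha]; exact pow_orderOf_eq_one a
      rwa [pow_two] at this
    have hb2 : b * b = 1 := by
      have : b ^ 2 = 1 := by rw [← hb]; exact pow_orderOf_eq_one b
      rwa [pow_two] at this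
    rcases order_cases (a * b) with h | h | h | h | h
    · right; left; rw [h]; decide
    · left
      have : (a * b) ^ 2 = 1 := by rw [← h]; exact pow_orderOf_eq_one _
      rw [pow_two] at this
      -- a b a b = 1
      calc a * b = a * b * (a * b * (b * a)) := by
              rw [show a * b * (b * a) = a * (b * b) * a by group, hb2, mul_one, ha2, mul_one]
        _ = (a * b * (a * b)) * (b * a) := by group
        _ = b * a := by rw [this, one_mul]
    · right; left; rw [h]; decide
    · right; right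
      refine ⟨h, ?_⟩
      show orderOf ((a * b) ^ 2) = 2
      rw [orderOf_pow' _ (by norm_num), h]; rfl
    · right; left; rw [h]; decide
  · -- single class
    intro a ha b hb
    obtain ⟨g, hg⟩ := conj_a0 a ha
    obtain ⟨g', hg'⟩ := conj_a0 b hb
    refine ⟨g' * g⁻¹, ?_⟩
    rw [hg', hg]
    group
  · intro d _ e _
    rcases order_cases (d * e) with h | h | h | h | h <;> omega

end Cfsg.Agent.S5057
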