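import Cfsg.Statements.S5058
import Mathlib
import Cfsg.Agent.Lib.Helper8.Tv3

set_option autoImplicit false
open Matrix
open Cfsg

namespace Cfsg.Agent.S5058

open Cfsg.Agent.Lib.Helper8.Tv Cfsg.Agent.Lib.Helper5.TvGL

theorem h01 (n : ℕ) : (0 : Fin (n + 3)) ≠ 1 := by simp

theorem h02 (n : ℕ) : (0 : Fin (n + 3)) ≠ 2 := by
  intro h
  have := congrArg Fin.val h
  rw [Fin.val_two] at this
  simp at this

theorem h12 (n : ℕ) : (1 : Fin (n + 3)) ≠ 2 := by
  intro h
  have := congrArg Fin.val h
  rw [Fin.val_two, Fin.val_one] at this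
  omega

theorem rootSet (F : Type*) [Field F] [Fintype F] [CharP F 2] (n : ℕ) :
    Cfsg.IsRootInvolutionSet (Dset (F := F) (0 : Fin (n + 3)) 1) := by
  refine ⟨?_, ?_, ?_, ?_⟩
  · intro d hd
    obtain ⟨u, φ, hu, hφ, h, ht⟩ := exists_of_mem (h01 n) d hd
    exact orderOf_eq_two d u φ hu hφ h ht
  · rw [eq_top_iff]
    intro A _
    refine Cfsg.Agent.Lib.Helper4.transvection_induction_gen
      (fun A => A ∈ Subgroup.closure (Dset (F := F) (0 : Fin (n + 3)) 1)) ?_
      (fun A B hA hB => mul_mem hA hB) A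
    intro i j hij c
    by_cases hc : c = 0
    · rw [hc, Matrix.SpecialLinearGroup.transvection_coeff_zero]
      exact one_mem _
    · apply Subgroup.subset_closure
      refine mem_of_tvMat (h01 n) (h02 n) (h12 n) _ (Pi.single i c) (Pi.single j 1) ?_ ?_ ?_ ?_
      · intro h0
        have := congrFun h0 i
        rw [Pi.single_eq_same] at this
        exact hc this
      · intro h0
        have := congrFun h0 j
        rw [Pi.single_eq_same] at this
        exact one_ne_zero this
      · rw [dotProduct_single, Pi.single_eq_of_ne hij, zero_mul]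
      · rw [← transvection_eq_tvMat]
        rfl
  · rintro d ⟨c, hc, g0, hg0⟩ g
    refine ⟨c, hc, g * g0, ?_⟩
    have e : (g * g0)⁻¹ * (g * d * g⁻¹) * (g * g0) = g0⁻¹ * d * g0 := by group
    rw [e]
    exact hg0
  · intro a ha b hb
    rcases pair_cases (h01 n) (h02 n) (h12 n) a b ha hb with h | h | ⟨γ, hγ, h⟩
    · exact Or.inl h
    · exact Or.inr (Or.inr h)
    · exact Or.inr (Or.inl (odd_of_cubic (a * b) γ hγ h))

/-- Let F be a finite field of characteristic 2 and n a natural number. Then the transvections of SL_{n+3}(F) (so in every dimension at least 3) (the conjugates of the elementary matrices 1 + c E₁₂, c ≠ 0) form a class of root involutions of SL_{n+3}(F); when F has two elements they form a class of {3,4}⁺-transpositions (every product of odd order has order 1 or 3). -/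
theorem result (F : Type*) [Field F] [Fintype F] [CharP F 2] (n : ℕ) :
    Cfsg.IsRootInvolutionClass {t : Matrix.SpecialLinearGroup (Fin (n + 3)) F | ∃ c : F, c ≠ 0 ∧
        ∃ g : Matrix.SpecialLinearGroup (Fin (n + 3)) F, ((g⁻¹ * t * g : Matrix.SpecialLinearGroup (Fin (n + 3)) F) :
          Matrix (Fin (n + 3)) (Fin (n + 3)) F) = Matrix.transvection 0 1 c} ∧
    (Fintype.card F = 2 → Cfsg.IsThreeFourPlusTranspositionSet {t : Matrix.SpecialLinearGroup (Fin (n + 3)) F | ∃ c : F, c ≠ 0 ∧
        ∃ g : Matrix.SpecialLinearGroup (Fin (n + 3)) F, ((g⁻¹ * t * g : Matrix.SpecialLinearGroup (Fin (n + 3)) F) :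
          Matrix (Fin (n + 3)) (Fin (n + 3)) F) = Matrix.transvection 0 1 c}) := by
  have hR := rootSet F n
  refine ⟨⟨hR, ?_, ?_⟩, ?_⟩
  · refine ⟨Matrix.SpecialLinearGroup.transvection (h01 n) 1, 1, one_ne_zero, 1, ?_⟩
    rw [inv_one, one_mul, mul_one]
    rfl
  · intro a ha b hb
    obtain ⟨u, φ, hu, hφ, h, ht⟩ := exists_of_mem (h01 n) a ha
    obtain ⟨w, ψ, hw, hψ, h', ht'⟩ := exists_of_mem (h01 n) b hb
    obtain ⟨ga, hga⟩ := conj_std (h01 n) (h02 n) (h12 n) a u φ hu hφ h ht
    obtain ⟨gb, hgb⟩ := conj_std (h01 n) (h02 n) (h12 n) b w ψ hw hψ h' ht'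
    refine ⟨gb * ga⁻¹, ?_⟩
    have e1 : b = gb * (gb⁻¹ * b * gb) * gb⁻¹ := by group
    rw [e1, hgb, ← hga]
    group
  · intro hF
    refine ⟨hR, ?_⟩
    intro a ha b hb hodd
    rcases pair_cases (h01 n) (h02 n) (h12 n) a b ha hb with h | h | ⟨γ, hγ, h⟩
    · left
      have ha2 : a ^ 2 = 1 := by rw [← hR.orderOf_eq a ha]; exact pow_orderOf_eq_one a
      have hb2 : b ^ 2 = 1 := by rw [← hR.orderOf_eq b hb]; exact pow_orderOf_eq_one b
      have hab : (a * b) ^ 2 = 1 := by
        rw [(show Commute a b from h).mul_pow, ha2, hb2, one_mul]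
      have hd := orderOf_dvd_of_pow_eq_one hab
      rcases (Nat.dvd_prime Nat.prime_two).1 hd with h1 | h1
      · exact h1
      · rw [h1] at hodd
        exact absurd hodd (by decide)
    · rw [h.1] at hodd
      exact absurd hodd (by decide)
    · have hγ1 : γ = 1 := by
        have := FiniteField.pow_card_sub_one_eq_one γ hγ
        rwa [hF, pow_one] at this
      rw [hγ1] at h
      have h3 := cube_of_cubic_one (a * b) h
      have hd := orderOf_dvd_of_pow_eq_one h3
      rcases (Nat.dvd_prime Nat.prime_three).1 hd with h1 | h1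
      · exact Or.inl h1
      · exact Or.inr h1

end Cfsg.Agent.S5058
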