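import Cfsg.Statements.S5059
import Mathlib.Tactic

set_option autoImplicit false
universe u
open Cfsg

namespace Cfsg.Agent.S5059

variable {k : Type u} [Field k] {M : Type u} [AddCommGroup M] [Module k M]

/-- the endomorphism `τ - 1` -/
def am (τ : LinearMap.GeneralLinearGroup k M) : M →ₗ[k] M := (τ : M →ₗ[k] M) - 1

lemma val_eq (τ : LinearMap.GeneralLinearGroup k M) : (τ : M →ₗ[k] M) = 1 + am τ := by
  unfold am; abel

/-- unit from a square-zero endomorphism -/
def mkU (a : M →ₗ[k] M) (ha : a * a = 0) : LinearMap.GeneralLinearGroup k M :=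
  ⟨1 + a, 1 - a, by
    have : (1 + a) * (1 - a) = 1 - a * a := by noncomm_ring
    rw [this, ha, sub_zero], by
    have : (1 - a) * (1 + a) = 1 - a * a := by noncomm_ring
    rw [this, ha, sub_zero]⟩

lemma mkU_val (a : M →ₗ[k] M) (ha : a * a = 0) : ((mkU a ha : LinearMap.GeneralLinearGroup k M) : M →ₗ[k] M) = 1 + a := rfl

lemma range_le_ker {a b : M →ₗ[k] M} (h : a * b = 0) : LinearMap.range b ≤ LinearMap.ker a := by
  rintro x ⟨y, rfl⟩
  rw [LinearMap.mem_ker]
  have := LinearMap.congr_fun h y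
  simpa using this

lemma mul_eq_zero_of_range_le_ker {a b : M →ₗ[k] M} (h : LinearMap.range b ≤ LinearMap.ker a) :
    a * b = 0 := by
  ext x
  have : b x ∈ LinearMap.ker a := h ⟨x, rfl⟩
  simpa using this

variable [FiniteDimensional k M]

section
variable {G : Subgroup (LinearMap.GeneralLinearGroup k M)} {σ : LinearMap.GeneralLinearGroup k M}

lemma class_facts {τ : LinearMap.GeneralLinearGroup k M} (hτ : τ ∈ sameActionClass G σ) :
    τ ∈ G ∧ am τ * am τ = 0 ∧ am τ ≠ 0 ∧ scalarFamily τ ⊆ (G : Set (LinearMap.GeneralLinearGroup k M)) ∧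
    (∀ ρ ∈ quadraticElements G, commutatorRank τ ≤ commutatorRank ρ) ∧
    LinearMap.ker (am τ) = LinearMap.ker (am σ) ∧ LinearMap.range (am τ) = LinearMap.range (am σ) := by
  obtain ⟨⟨⟨h1, ⟨h2, h3⟩, h4⟩, h5⟩, h6, h7⟩ := hτ
  exact ⟨h1, h2, h3, h4, h5, h6, h7⟩

lemma am_mul_am {τ τ' : LinearMap.GeneralLinearGroup k M} (hτ : τ ∈ sameActionClass G σ)
    (hτ' : τ' ∈ sameActionClass G σ) : am τ * am τ' = 0 := by
  obtain ⟨-, h2, -, -, -, h6, h7⟩ := class_facts hτ
  obtain ⟨-, h2', -, -, -, h6', h7'⟩ := class_facts hτ'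
  apply mul_eq_zero_of_range_le_ker
  rw [h7', ← h7]
  exact range_le_ker h2

lemma mul_val {τ τ' : LinearMap.GeneralLinearGroup k M} (hτ : τ ∈ sameActionClass G σ)
    (hτ' : τ' ∈ sameActionClass G σ) :
    ((τ * τ' : LinearMap.GeneralLinearGroup k M) : M →ₗ[k] M) = 1 + (am τ + am τ') := by
  rw [Units.val_mul, val_eq τ, val_eq τ']
  have : (1 + am τ) * (1 + am τ') = 1 + (am τ + am τ') + am τ * am τ' := by noncomm_ring
  rw [this, am_mul_am hτ hτ', add_zero]

lemma comm_of_class {τ τ' : LinearMap.GeneralLinearGroup k M} (hτ : τ ∈ sameActionClass G σ)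
    (hτ' : τ' ∈ sameActionClass G σ) : τ * τ' = τ' * τ := by
  apply Units.ext
  rw [mul_val hτ hτ', mul_val hτ' hτ, add_comm (am τ)]

lemma mul_mem_class {τ τ' : LinearMap.GeneralLinearGroup k M} (hτ : τ ∈ sameActionClass G σ)
    (hτ' : τ' ∈ sameActionClass G σ) : τ * τ' ∈ sameActionClass G σ ∨ τ * τ' = 1 := by
  obtain ⟨h1, h2, h3, h4, h5, h6, h7⟩ := class_facts hτ
  obtain ⟨h1', h2', h3', h4', h5', h6', h7'⟩ := class_facts hτ'
  set a := am τ with ha
  set a' := am τ' with ha'
  set b := a + a' with hb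
  have hval : ((τ * τ' : LinearMap.GeneralLinearGroup k M) : M →ₗ[k] M) = 1 + b := mul_val hτ hτ'
  have hamb : am (τ * τ') = b := by
    unfold am; rw [hval]; abel
  by_cases hb0 : b = 0
  · right
    apply Units.ext
    rw [hval, hb0, add_zero]; rfl
  left
  have haa' : a * a' = 0 := am_mul_am hτ hτ'
  have ha'a : a' * a = 0 := am_mul_am hτ' hτ
  have hbb : b * b = 0 := by
    have : b * b = a * a + a * a' + a' * a + a' * a' := by rw [hb]; noncomm_ring
    rw [this, h2, h2', haa', ha'a]; simp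
  have hrange_le : LinearMap.range b ≤ LinearMap.range a := by
    rintro x ⟨y, rfl⟩
    have h1 : a' y ∈ LinearMap.range a := by rw [h7, ← h7']; exact ⟨y, rfl⟩
    rw [hb, LinearMap.add_apply]
    exact Submodule.add_mem _ ⟨y, rfl⟩ h1
  have hker_le : LinearMap.ker a ≤ LinearMap.ker b := by
    intro x hx
    have hx' : x ∈ LinearMap.ker a' := by rw [h6', ← h6]; exact hx
    rw [LinearMap.mem_ker] at hx hx' ⊢
    rw [hb, LinearMap.add_apply, hx, hx', add_zero]
  have hquad : τ * τ' ∈ quadraticElements G := by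
    refine ⟨mul_mem h1 h1', ⟨?_, ?_⟩, ?_⟩
    · show am (τ * τ') * am (τ * τ') = 0
      rw [hamb]; exact hbb
    · show am (τ * τ') ≠ 0
      rw [hamb]; exact hb0
    · rintro ρ ⟨c, hc⟩
      have hca : (c • a) * (c • a) = 0 := by
        rw [smul_mul_smul_comm, h2, smul_zero]
      have hca' : (c • a') * (c • a') = 0 := by
        rw [smul_mul_smul_comm, h2', smul_zero]
      have hu : mkU (c • a) hca ∈ G := h4 ⟨c, rfl⟩
      have hu' : mkU (c • a') hca' ∈ G := h4' ⟨c, rfl⟩
      have : ρ = mkU (c • a) hca * mkU (c • a') hca' := by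
        apply Units.ext
        rw [hc]
        change 1 + c • am (τ * τ') = _
        rw [hamb, Units.val_mul, mkU_val, mkU_val]
        have e1 : (1 + c • a) * (1 + c • a') = 1 + c • a + c • a' + (c • a) * (c • a') := by
          rw [mul_add, mul_one, add_mul (1 : M →ₗ[k] M) (c • a) (c • a'), one_mul]
          abel
        rw [e1, smul_mul_smul_comm, haa', smul_zero, add_zero, hb, smul_add, add_assoc]
      rw [this]
      exact mul_mem hu hu'
  have hrank_le : commutatorRank (τ * τ') ≤ commutatorRank τ := by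
    unfold commutatorRank
    change Module.finrank k (LinearMap.range (am (τ * τ'))) ≤ Module.finrank k (LinearMap.range a)
    rw [hamb]
    exact Submodule.finrank_mono hrange_le
  have hrank_eq : Module.finrank k (LinearMap.range b) = Module.finrank k (LinearMap.range a) := by
    apply le_antisymm (Submodule.finrank_mono hrange_le)
    have := h5 _ hquad
    unfold commutatorRank at this
    change Module.finrank k (LinearMap.range a) ≤ Module.finrank k (LinearMap.range (am (τ * τ'))) at this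
    rwa [hamb] at this
  refine ⟨⟨hquad, fun ρ hρ => hrank_le.trans (h5 ρ hρ)⟩, ?_, ?_⟩
  · change LinearMap.ker (am (τ * τ')) = LinearMap.ker (am σ)
    rw [hamb, ← h6]
    symm
    apply Submodule.eq_of_le_of_finrank_eq hker_le
    have e1 := LinearMap.finrank_range_add_finrank_ker a
    have e2 := LinearMap.finrank_range_add_finrank_ker b
    omega
  · change LinearMap.range (am (τ * τ')) = LinearMap.range (am σ)
    rw [hamb, ← h7]
    exact Submodule.eq_of_le_of_finrank_eq hrange_le hrank_eq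

lemma inv_val {τ : LinearMap.GeneralLinearGroup k M} (h2 : am τ * am τ = 0) :
    ((τ⁻¹ : LinearMap.GeneralLinearGroup k M) : M →ₗ[k] M) = 1 - am τ := by
  have : τ⁻¹ = (mkU (am τ) h2)⁻¹ := by
    congr 1
    apply Units.ext
    rw [mkU_val]; exact val_eq τ
  rw [this]
  rfl

lemma inv_mem_class {τ : LinearMap.GeneralLinearGroup k M} (hτ : τ ∈ sameActionClass G σ) :
    τ⁻¹ ∈ sameActionClass G σ := by
  obtain ⟨h1, h2, h3, h4, h5, h6, h7⟩ := class_facts hτ
  have hami : am τ⁻¹ = - am τ := by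
    unfold am
    rw [inv_val h2]
    unfold am
    abel
  have hrank : commutatorRank τ⁻¹ = commutatorRank τ := by
    unfold commutatorRank
    change Module.finrank k (LinearMap.range (am τ⁻¹)) = Module.finrank k (LinearMap.range (am τ))
    rw [hami, LinearMap.range_neg]
  refine ⟨⟨⟨inv_mem h1, ⟨?_, ?_⟩, ?_⟩, ?_⟩, ?_, ?_⟩
  · show am τ⁻¹ * am τ⁻¹ = 0
    rw [hami, neg_mul_neg, h2]
  · show am τ⁻¹ ≠ 0
    rw [hami]; exact neg_ne_zero.2 h3
  · rintro ρ ⟨c, hc⟩
    apply h4
    refine ⟨-c, ?_⟩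
    rw [hc]
    change 1 + c • am τ⁻¹ = 1 + (-c) • am τ
    rw [hami, smul_neg, neg_smul]
  · intro ρ hρ
    rw [hrank]; exact h5 ρ hρ
  · change LinearMap.ker (am τ⁻¹) = LinearMap.ker (am σ)
    rw [hami, LinearMap.ker_neg, h6]
  · change LinearMap.range (am τ⁻¹) = LinearMap.range (am σ)
    rw [hami, LinearMap.range_neg, h7]

/-- the subgroup `E_σ ∪ {1}` -/
def Esub (G : Subgroup (LinearMap.GeneralLinearGroup k M)) (σ : LinearMap.GeneralLinearGroup k M) :
    Subgroup (LinearMap.GeneralLinearGroup k M) where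
  carrier := sameActionClass G σ ∪ {1}
  one_mem' := Or.inr rfl
  mul_mem' := by
    rintro x y (hx | hx) (hy | hy)
    · rcases mul_mem_class hx hy with h | h
      · exact Or.inl h
      · exact Or.inr h
    · rw [Set.mem_singleton_iff] at hy; rw [hy, mul_one]; exact Or.inl hx
    · rw [Set.mem_singleton_iff] at hx; rw [hx, one_mul]; exact Or.inl hy
    · rw [Set.mem_singleton_iff] at hx hy; rw [hx, hy, mul_one]; exact Or.inr rfl
  inv_mem' := by
    rintro x (hx | hx)
    · exact Or.inl (inv_mem_class hx)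
    · rw [Set.mem_singleton_iff] at hx; rw [hx, inv_one]; exact Or.inr rfl

lemma closure_eq_Esub : sameActionSubgroup G σ = Esub G σ := by
  apply le_antisymm
  · unfold sameActionSubgroup
    rw [Subgroup.closure_le]
    intro x hx
    exact Or.inl hx
  · rintro x (hx | hx)
    · exact Subgroup.subset_closure hx
    · rw [Set.mem_singleton_iff] at hx; rw [hx]; exact one_mem _

lemma pow_val {τ : LinearMap.GeneralLinearGroup k M} (h2 : am τ * am τ = 0) (n : ℕ) :
    ((τ ^ n : LinearMap.GeneralLinearGroup k M) : M →ₗ[k] M) = 1 + (n : k) • am τ := by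
  induction n with
  | zero => simp
  | succ n ih =>
    rw [pow_succ, Units.val_mul, ih, val_eq τ]
    have : (1 + (n : k) • am τ) * (1 + am τ) = 1 + (n : k) • am τ + am τ + (n : k) • (am τ * am τ) := by
      rw [mul_add, add_mul, add_mul, one_mul, one_mul, mul_one, smul_mul_assoc]
      abel
    rw [this, h2, smul_zero, add_zero, Nat.cast_succ, add_smul, one_smul, add_assoc]

end

theorem result {k : Type u} [Field k] (hk2 : ringChar k ≠ 2) (hk3 : Nat.card k ≠ 3)
    {M : Type u} [AddCommGroup M] [Module k M] [FiniteDimensional k M]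
    {G : Subgroup (LinearMap.GeneralLinearGroup k M)} (hG : Cfsg.IsQuadraticPair G)
    {σ : LinearMap.GeneralLinearGroup k M} (hσ : σ ∈ Cfsg.minimalQuadraticElements G) :
    (Cfsg.sameActionSubgroup G σ : Set (LinearMap.GeneralLinearGroup k M)) = Cfsg.sameActionClass G σ ∪ {1} ∧
    IsMulCommutative ↥(Cfsg.sameActionSubgroup G σ) ∧
    (∀ p : ℕ, p.Prime → ringChar k = p → ∀ x ∈ Cfsg.sameActionSubgroup G σ, x ^ p = 1) := by
  refine ⟨?_, ?_, ?_⟩
  · rw [closure_eq_Esub]; rfl
  · refine ⟨⟨?_⟩⟩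
    rintro ⟨x, hx⟩ ⟨y, hy⟩
    apply Subtype.ext
    show x * y = y * x
    rw [closure_eq_Esub] at hx hy
    rcases hx with hx | hx
    · rcases hy with hy | hy
      · exact comm_of_class hx hy
      · rw [Set.mem_singleton_iff] at hy; rw [hy, mul_one, one_mul]
    · rw [Set.mem_singleton_iff] at hx; rw [hx, mul_one, one_mul]
  · intro p hp hchar x hx
    rw [closure_eq_Esub] at hx
    rcases hx with hx | hx
    · obtain ⟨-, h2, -, -, -, -, -⟩ := class_facts hx
      apply Units.ext
      rw [pow_val h2]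
      haveI : CharP k p := by rw [← hchar]; exact ringChar.charP k
      rw [CharP.cast_eq_zero, zero_smul, add_zero]; rfl
    · rw [Set.mem_singleton_iff] at hx; rw [hx, one_pow]

end Cfsg.Agent.S5059
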