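import Cfsg.Statements.S5060
import Cfsg.Agent.Lib.Helper8.Slk6

set_option autoImplicit false
open Cfsg

namespace Cfsg.Agent.S5060

open Cfsg.Agent.Lib.Helper8.Slk Cfsg.Agent.Lib.Helper1.SL2Three Cfsg.Agent.Lib.Helper1.Dickson

/-- Let k ⊆ K be fields with the characteristic of k not 2 and k not of order 3, and let α ∈ K be a non-zero element algebraic over k. Then the subgroup of SL₂(K) generated by the upper unitriangular matrices with entry c and the lower unitriangular matrices with entry cα, c ranging over k, is exactly the group of matrices of SL₂(K) with all entries in k(α). -/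
theorem result {k K : Type*} [Field k] [Field K] [Algebra k K] (hk2 : ringChar k ≠ 2) (hk3 : Nat.card k ≠ 3)
    (α : K) (hα : IsAlgebraic k α) (hα0 : α ≠ 0) :
    (Subgroup.closure ({g : Matrix.SpecialLinearGroup (Fin 2) K | ∃ c : k, (g : Matrix (Fin 2) (Fin 2) K) = !![1, algebraMap k K c; 0, 1]} ∪
        {g : Matrix.SpecialLinearGroup (Fin 2) K | ∃ c : k, (g : Matrix (Fin 2) (Fin 2) K) = !![1, 0; algebraMap k K c * α, 1]}) :
      Set (Matrix.SpecialLinearGroup (Fin 2) K)) =
    {g : Matrix.SpecialLinearGroup (Fin 2) K | ∀ i j : Fin 2, (g : Matrix (Fin 2) (Fin 2) K) i j ∈ IntermediateField.adjoin k ({α} : Set K)} := by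
  have h2 : (2 : k) ≠ 0 := Ring.two_ne_zero hk2
  have hk : ∃ l : k, l ≠ 0 ∧ l ^ 2 ≠ 1 := by
    by_contra hcon
    push Not at hcon
    apply hk3
    rw [← Set.ncard_univ, Set.ncard_eq_three]
    refine ⟨0, 1, -1, zero_ne_one, ?_, ?_, ?_⟩
    · intro h
      have : (1 : k) = 0 := by linear_combination h
      exact one_ne_zero this
    · intro h
      apply h2
      linear_combination h
    · ext l
      simp only [Set.mem_univ, Set.mem_insert_iff, Set.mem_singleton_iff, true_iff]
      by_cases hl : l = 0
      · exact Or.inl hl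
      · right
        have h1 := hcon l hl
        have h3 : (l - 1) * (l + 1) = 0 := by linear_combination h1
        rcases mul_eq_zero.mp h3 with h | h
        · left
          linear_combination h
        · right
          linear_combination h
  have hS : ({g : Matrix.SpecialLinearGroup (Fin 2) K | ∃ c : k, (g : Matrix (Fin 2) (Fin 2) K) = !![1, algebraMap k K c; 0, 1]} ∪
        {g : Matrix.SpecialLinearGroup (Fin 2) K | ∃ c : k, (g : Matrix (Fin 2) (Fin 2) K) = !![1, 0; algebraMap k K c * α, 1]}) =
      gens k α := by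
    unfold gens
    congr 1
    · ext g
      exact ⟨fun ⟨c, hc⟩ => ⟨c, Subtype.ext hc⟩, fun ⟨c, hc⟩ => ⟨c, by rw [hc]; rfl⟩⟩
    · ext g
      exact ⟨fun ⟨c, hc⟩ => ⟨c, Subtype.ext hc⟩, fun ⟨c, hc⟩ => ⟨c, by rw [hc]; rfl⟩⟩
  rw [hS]
  have hex : ∃ g ∈ XX k α, ∃ d : k, d ≠ 0 ∧ ec g ^ 2 = algebraMap k K d := by
    cases finite_or_infinite k with
    | inl h => exact exists_of_finite h2 α hα hα0
    | inr h => exact exists_of_infinite α hα hα0
  exact main_of_exists h2 hk α hα hα0 hex

end Cfsg.Agent.S5060
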