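import Cfsg.Statements.S5064
import Cfsg.Agent.Lib.Helper2.Qp11

set_option autoImplicit false
universe u
open Cfsg

namespace Cfsg.Agent.S5064

open Cfsg.Agent.Lib.Helper2.Qp

/-- Let k be a field of characteristic not 2 with k not of order 3, M a finite-dimensional k-vector space and G ≤ GL(M) such that (G, M) is a quadratic pair (M irreducible for G, and G generated by its quadratically acting elements σ whose scalar family 1 + c(σ − 1), c ∈ k, lies in G). Write 𝒬_d for the quadratic elements of G of minimal commutator rank, E(σ) for the subgroup generated by the members of 𝒬_d with the same fixed space and commutator space as σ, and Σ for the set of these subgroups. If σ, τ ∈ 𝒬_d and the subgroup H generated by their two scalar families does not act unipotently on M, then H is isomorphic to SL₂ over a simple algebraic extension k(λ) of k. -/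
theorem result {k : Type u} [Field k] (hk2 : ringChar k ≠ 2) (hk3 : Nat.card k ≠ 3)
    {M : Type u} [AddCommGroup M] [Module k M] [FiniteDimensional k M]
    {G : Subgroup (LinearMap.GeneralLinearGroup k M)} (hG : Cfsg.IsQuadraticPair G)
    {σ τ : LinearMap.GeneralLinearGroup k M} (hσ : σ ∈ Cfsg.minimalQuadraticElements G) (hτ : τ ∈ Cfsg.minimalQuadraticElements G)
    (hH : ¬ Cfsg.IsUnipotentOn (Subgroup.closure (Cfsg.scalarFamily σ ∪ Cfsg.scalarFamily τ))) :
    ∃ (K : Type u) (_ : Field K) (_ : Algebra k K) (lam : K), IsAlgebraic k lam ∧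
      IntermediateField.adjoin k ({lam} : Set K) = ⊤ ∧
      Nonempty (↥(Subgroup.closure (Cfsg.scalarFamily σ ∪ Cfsg.scalarFamily τ)) ≃* Matrix.SpecialLinearGroup (Fin 2) K) := by
  have h2 : (2 : k) ≠ 0 := Ring.two_ne_zero hk2
  have hk : ∃ l : k, l ≠ 0 ∧ l ^ 2 ≠ 1 := by
    by_contra hcon
    push Not at hcon
    apply hk3
    rw [← Set.ncard_univ, Set.ncard_eq_three]
    refine ⟨0, 1, -1, zero_ne_one, ?_, ?_, ?_⟩
    · intro h
      have : (1 : k) = 0 := by linear_combination h
      exact one_ne_zero this
    · intro h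
      apply h2
      linear_combination h
    · ext l
      simp only [Set.mem_univ, Set.mem_insert_iff, Set.mem_singleton_iff, true_iff]
      by_cases hl : l = 0
      · exact Or.inl hl
      · right
        have h1 := hcon l hl
        have h3 : (l - 1) * (l + 1) = 0 := by linear_combination h1
        rcases mul_eq_zero.mp h3 with h | h
        · left
          linear_combination h
        · right
          linear_combination h
  obtain ⟨haQ, -⟩ := sub_one_mem_QSet hσ.1
  obtain ⟨hbQ, -⟩ := sub_one_mem_QSet hτ.1
  have hmin := isMinRank_of_minimal hσ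
  have hrb : rk ((τ : Module.End k M) - 1) = rk ((σ : Module.End k M) - 1) :=
    le_antisymm (hτ.2 σ hσ.1) (hσ.2 τ hτ.1)
  have hH' : Subgroup.closure (Cfsg.scalarFamily σ ∪ Cfsg.scalarFamily τ) =
      XG ((σ : Module.End k M) - 1) ((τ : Module.End k M) - 1) := by
    rw [scalarFamily_eq haQ.1, scalarFamily_eq hbQ.1]
    rfl
  have hnn : ¬ IsNilpotent (th ((σ : Module.End k M) - 1) ((τ : Module.End k M) - 1)) := by
    intro h
    apply hH
    rw [hH']
    exact unipotent_of_nilpotent haQ.1 hbQ.1 h
  obtain ⟨π, hπ, ⟨e⟩⟩ := exists_sl2_equiv h2 hk hmin haQ hbQ rfl hrb hnn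
  haveI := hπ
  obtain ⟨halg, hadj⟩ := adjoin_root_eq_top (π := π)
  exact ⟨AdjoinRoot π, inferInstance, inferInstance, AdjoinRoot.root π, halg, hadj,
    ⟨(MulEquiv.subgroupCongr hH').trans e⟩⟩

end Cfsg.Agent.S5064
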