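import Cfsg.Statements.S5066
import Cfsg.Agent.Lib.Helper2.Qp23

set_option autoImplicit false
universe u
open Cfsg

namespace Cfsg.Agent.S5066

open Cfsg.Agent.Lib.Helper2.Qp

/-- Let k be a field of characteristic not 2 with k not of order 3, M a finite-dimensional k-vector space and G ≤ GL(M) such that (G, M) is a quadratic pair (M irreducible for G, and G generated by its quadratically acting elements σ whose scalar family 1 + c(σ − 1), c ∈ k, lies in G). Write 𝒬_d for the quadratic elements of G of minimal commutator rank, E(σ) for the subgroup generated by the members of 𝒬_d with the same fixed space and commutator space as σ, and Σ for the set of these subgroups. Let E, F ∈ Σ generate a subgroup that is nilpotent of class exactly two. Then D = ⁅E, F⁆ belongs to Σ, equals the subgroup generated by the commutators of e with F, and also of E with f, for every non-identity e ∈ E, f ∈ F, and ⟨E, F⟩ lies in U(D), the set of elements g of G normalizing D with (g − 1)M inside the fixed space of D, (g − 1) mapping that fixed space into the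 commutator space of D, and g acting trivially on the commutator space of D. -/
theorem result {k : Type u} [Field k] (hk2 : ringChar k ≠ 2) (hk3 : Nat.card k ≠ 3)
    {M : Type u} [AddCommGroup M] [Module k M] [FiniteDimensional k M]
    {G : Subgroup (LinearMap.GeneralLinearGroup k M)} (hG : Cfsg.IsQuadraticPair G)
    {E F : Subgroup (LinearMap.GeneralLinearGroup k M)} (hE : E ∈ Cfsg.quadraticRootSubgroups G) (hF : F ∈ Cfsg.quadraticRootSubgroups G)
    (h2 : ⁅E ⊔ F, E ⊔ F⁆ ≠ ⊥ ∧ ⁅⁅E ⊔ F, E ⊔ F⁆, E ⊔ F⁆ = ⊥) :
    ⁅E, F⁆ ∈ Cfsg.quadraticRootSubgroups G ∧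
    (∀ e ∈ E, e ≠ 1 → Subgroup.closure ((fun f : LinearMap.GeneralLinearGroup k M => e * f * e⁻¹ * f⁻¹) '' (F : Set (LinearMap.GeneralLinearGroup k M))) = ⁅E, F⁆) ∧
    (∀ f ∈ F, f ≠ 1 → Subgroup.closure ((fun e : LinearMap.GeneralLinearGroup k M => e * f * e⁻¹ * f⁻¹) '' (E : Set (LinearMap.GeneralLinearGroup k M))) = ⁅E, F⁆) ∧
    ((E ⊔ F : Subgroup (LinearMap.GeneralLinearGroup k M)) : Set (LinearMap.GeneralLinearGroup k M)) ⊆ Cfsg.quadraticUnipotentCore G ⁅E, F⁆ := by
  have h2' : (2 : k) ≠ 0 := Ring.two_ne_zero hk2
  have hk : ∃ l : k, l ≠ 0 ∧ l ^ 2 ≠ 1 := by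
    by_contra hcon
    push Not at hcon
    apply hk3
    rw [← Set.ncard_univ, Set.ncard_eq_three]
    refine ⟨0, 1, -1, zero_ne_one, ?_, ?_, ?_⟩
    · intro h
      have : (1 : k) = 0 := by linear_combination h
      exact one_ne_zero this
    · intro h
      apply h2'
      linear_combination h
    · ext l
      simp only [Set.mem_univ, Set.mem_insert_iff, Set.mem_singleton_iff, true_iff]
      by_cases hl : l = 0
      · exact Or.inl hl
      · right
        have h1 := hcon l hl
        have h3 : (l - 1) * (l + 1) = 0 := by linear_combination h1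
        rcases mul_eq_zero.mp h3 with h | h
        · left
          linear_combination h
        · right
          linear_combination h
  obtain ⟨σ, hσ, rfl⟩ := hE
  obtain ⟨τ, hτ, rfl⟩ := hF
  obtain ⟨hne, hnnd⟩ := class_two_pair_core h2' hk hσ hτ h2
  obtain ⟨c1, c2, c3, -, -, c6⟩ := class_two_core hG.1 h2' hk hσ hτ hnnd hne
  exact ⟨c1, c2, c3, c6⟩

end Cfsg.Agent.S5066
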