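import Cfsg.Statements.S5067
import Mathlib

set_option autoImplicit false
open Cfsg

namespace Cfsg.Agent.S5067

open scoped commutatorElement

/-- the normal closure of an abelian subgroup of a non-abelian nilpotent group has smaller class -/
theorem class_lt {P : Type*} [Group P] [Group.IsNilpotent P] (hna : ¬ IsMulCommutative P)
    {E : Subgroup P} (hE : IsMulCommutative ↥E) :
    Group.nilpotencyClass ↥(Subgroup.normalClosure (E : Set P)) < Group.nilpotencyClass P := by
  set c := Group.nilpotencyClass P with hc
  have hc2 : 2 ≤ c := by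
    by_contra hlt
    push Not at hlt
    exact hna (Group.IsNilpotent.nilpotencyClass_le_one_iff.mp (by omega))
  set P' := (⊤ : Subgroup P).lowerCentralSeries 1 with hP'
  set Γ := (⊤ : Subgroup P).lowerCentralSeries 2 with hΓ
  set M := E ⊔ P' with hM
  -- `M` is normal
  have hMn : M.Normal := by
    rw [← Subgroup.commutator_top_left_le_iff]
    have : ⁅(⊤ : Subgroup P), M⁆ ≤ ⁅(⊤ : Subgroup P), ⊤⁆ := Subgroup.commutator_mono le_rfl le_top
    exact this.trans le_sup_right
  have hNM : Subgroup.normalClosure (E : Set P) ≤ M :=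
    Subgroup.normalClosure_le_normal (fun x hx => Subgroup.mem_sup_left hx)
  -- commutators of `M` lie in `Γ`
  have hMM : ⁅M, M⁆ ≤ Γ := by
    rw [Subgroup.commutator_le]
    intro g₁ hg₁ g₂ hg₂
    obtain ⟨e₁, he₁, x₁, hx₁, rfl⟩ := Subgroup.mem_sup_of_normal_right.mp hg₁
    obtain ⟨e₂, he₂, x₂, hx₂, rfl⟩ := Subgroup.mem_sup_of_normal_right.mp hg₂
    rw [← QuotientGroup.eq_one_iff, ← QuotientGroup.mk'_apply, map_commutatorElement,
      commutatorElement_eq_one_iff_commute]
    have hcentral : ∀ x ∈ P', ∀ y : P, Commute (QuotientGroup.mk' Γ x) (QuotientGroup.mk' Γ y) := by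
      intro x hx y
      rw [← commutatorElement_eq_one_iff_commute, ← map_commutatorElement, QuotientGroup.mk'_apply,
        QuotientGroup.eq_one_iff]
      exact Subgroup.commutator_mem_commutator hx (Subgroup.mem_top y)
    have hee : Commute (QuotientGroup.mk' Γ e₁) (QuotientGroup.mk' Γ e₂) := by
      have : e₁ * e₂ = e₂ * e₁ := by
        have := hE.is_comm.comm ⟨e₁, he₁⟩ ⟨e₂, he₂⟩
        exact congrArg Subtype.val this
      show _ * _ = _ * _
      rw [← map_mul, ← map_mul, this]
    rw [map_mul, map_mul]
    exact (hee.mul_right (hcentral x₂ hx₂ e₁).symm).mul_left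
      ((hcentral x₁ hx₁ e₂).mul_right (hcentral x₁ hx₁ x₂))
  -- the lower central series of `N` drops one step faster
  have hstep : ∀ k : ℕ, (Subgroup.normalClosure (E : Set P)).lowerCentralSeries (k + 1) ≤
      (⊤ : Subgroup P).lowerCentralSeries (k + 2) := by
    intro k
    induction k with
    | zero =>
      rw [Subgroup.lowerCentralSeries_succ, Subgroup.lowerCentralSeries_zero]
      exact (Subgroup.commutator_mono hNM hNM).trans hMM
    | succ k ih =>
      rw [Subgroup.lowerCentralSeries_succ, Subgroup.lowerCentralSeries_succ _ (k + 2)]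
      exact Subgroup.commutator_mono ih le_top
  have hbot : (Subgroup.normalClosure (E : Set P)).lowerCentralSeries (c - 1) = ⊥ := by
    rw [eq_bot_iff]
    have h1 := hstep (c - 2)
    have e1 : c - 2 + 1 = c - 1 := by omega
    have e2 : c - 2 + 2 = c := by omega
    rw [e1, e2, hc, Subgroup.lowerCentralSeries_nilpotencyClass] at h1
    exact h1
  have hle : Group.nilpotencyClass ↥(Subgroup.normalClosure (E : Set P)) ≤ c - 1 := by
    rw [← Subgroup.lowerCentralSeries_eq_bot_iff_nilpotencyClass_le, ← Subgroup.map_subtype_inj,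
      Subgroup.map_bot, Subgroup.top_subtype_lowerCentralSeries]
    exact hbot
  omega

/-- Let P be a non-abelian nilpotent p-group (every element of p-power order; P possibly infinite) generated by two abelian subgroups E and F. Then the normal closure of E in P, and likewise that of F, has nilpotency class strictly smaller than that of P. -/
theorem result {P : Type*} [Group P] {p : ℕ} [Fact p.Prime] (hP : IsPGroup p P) [Group.IsNilpotent P]
    (hna : ¬ IsMulCommutative P) {E F : Subgroup P} (hE : IsMulCommutative ↥E) (hF : IsMulCommutative ↥F) (hgen : E ⊔ F = ⊤) :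
    Group.nilpotencyClass ↥(Subgroup.normalClosure (E : Set P)) < Group.nilpotencyClass P ∧
    Group.nilpotencyClass ↥(Subgroup.normalClosure (F : Set P)) < Group.nilpotencyClass P := by
  exact ⟨class_lt hna hE, class_lt hna hF⟩

end Cfsg.Agent.S5067
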