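import Cfsg.Statements.S5094
import Cfsg.Agent.Lib.Helper2.ZS12
import Cfsg.Agent.Lib.Helper2.Cores
import Cfsg.Agent.Lib.Helper9.CentralCrit
import Cfsg.Agent.Lib.Helper9.FusionCenter
import Cfsg.Agent.Lib.Helper9.GroupFusionSat

set_option autoImplicit false
open Cfsg

namespace Cfsg.Agent.S5094

/-- Glauberman's Z*-Theorem in fusion language: for a finite group G with Sylow 2-subgroup S, the centre of the fusion system of G on S is the set of elements of S whose image in G/O(G) is central, O(G) being the largest normal subgroup of odd order. -/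
theorem result {G : Type*} [Group G] [Finite G] (S : Sylow 2 G) : (Cfsg.groupFusionSystem (S : Subgroup G)).center = (S : Subgroup G) ⊓ (Subgroup.center (G ⧸ Cfsg.oddCore G)).comap (QuotientGroup.mk' (Cfsg.oddCore G)) := by
  classical
  haveI : Fact (Nat.Prime 2) := ⟨Nat.prime_two⟩
  obtain ⟨F, hF⟩ : ∃ F : Cfsg.FusionSystem (S : Subgroup G),
      F = Cfsg.groupFusionSystem (S : Subgroup G) := ⟨_, rfl⟩
  rw [← hF]
  have hHom : ∀ (P : Subgroup G) (φ : P →* G), φ ∈ F.Hom P ↔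
      (P ≤ (S : Subgroup G) ∧ (∀ x : P, φ x ∈ (S : Subgroup G)) ∧
        ∃ g : G, ∀ x : P, φ x = g * (x : G) * g⁻¹) := by
    intro P φ
    rw [hF]; rfl
  have hcen := Cfsg.Agent.Lib.Helper9.isCentral_center F
  apply le_antisymm
  · intro d hd
    have hdS : d ∈ (S : Subgroup G) := hcen.1 hd
    rw [Subgroup.mem_inf]
    refine ⟨hdS, ?_⟩
    rw [Subgroup.mem_comap, Subgroup.mem_center_iff]
    intro q
    obtain ⟨g, rfl⟩ := QuotientGroup.mk'_surjective _ q
    have hfix : ∀ d' ∈ F.center, ∀ g : G, g * d' * g⁻¹ ∈ (S : Subgroup G) →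
        g * d' * g⁻¹ = d' := by
      intro d' hd' g hg
      have hd'S := hcen.1 hd'
      have hle : Subgroup.zpowers d' ≤ (S : Subgroup G) := (Subgroup.zpowers_le).mpr hd'S
      have hφ : Cfsg.conjHom (Subgroup.zpowers d') g ∈ F.Hom (Subgroup.zpowers d') := by
        rw [hHom]
        refine ⟨hle, ?_, g, fun x => rfl⟩
        intro x
        obtain ⟨i, hi⟩ := Subgroup.mem_zpowers_iff.mp x.2
        show g * (x : G) * g⁻¹ ∈ (S : Subgroup G)
        rw [← hi]
        have : g * d' ^ i * g⁻¹ = (g * d' * g⁻¹) ^ i := by rw [conj_zpow]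
        rw [this]; exact zpow_mem hg i
      have := Cfsg.Agent.Lib.Helper9.map_eq_of_isCentral F hcen hφ
        ⟨d', Subgroup.mem_zpowers d'⟩ hd'
      exact this
    have h := Cfsg.Agent.Lib.Helper2.ZS.gz S F.center hcen.1 hfix d hd g
    have h2 : (QuotientGroup.mk' (Cfsg.oddCore G)) (g * d * g⁻¹ * d⁻¹) = 1 :=
      (QuotientGroup.eq_one_iff _).mpr h
    simp only [map_mul, map_inv] at h2
    obtain ⟨a, ha⟩ : ∃ a, a = (QuotientGroup.mk' (Cfsg.oddCore G)) g := ⟨_, rfl⟩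
    obtain ⟨b, hb⟩ : ∃ b, b = (QuotientGroup.mk' (Cfsg.oddCore G)) d := ⟨_, rfl⟩
    rw [← ha, ← hb] at h2 ⊢
    calc a * b = (a * b * a⁻¹ * b⁻¹) * b * a := by group
      _ = b * a := by rw [h2, one_mul]
  · apply le_sSup
    show F.IsCentral _
    rw [Cfsg.Agent.Lib.Helper9.central_iff_singleton_classes 2 S.isPGroup' F
      (by rw [hF]; exact Cfsg.Agent.Lib.Helper9.groupFusion_saturated S)]
    refine ⟨inf_le_left, ?_⟩
    intro x hx y hconj
    rw [Subgroup.mem_inf, Subgroup.mem_comap, Subgroup.mem_center_iff] at hx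
    obtain ⟨hxS, hxc⟩ := hx
    obtain ⟨φ, hφ, hφx⟩ := hconj
    rw [hHom] at hφ
    obtain ⟨-, hφS, g, hg⟩ := hφ
    have hyS : y ∈ (S : Subgroup G) := by rw [← hφx]; exact hφS _
    have hyg : y = g * x * g⁻¹ := by rw [← hφx, hg]
    -- `y x⁻¹ ∈ S ⊓ O(G) = ⊥`
    have hmemO : y * x⁻¹ ∈ Cfsg.oddCore G := by
      rw [← QuotientGroup.eq_one_iff]
      have h1 := hxc ((QuotientGroup.mk' (Cfsg.oddCore G)) g)
      show (QuotientGroup.mk' (Cfsg.oddCore G)) (y * x⁻¹) = 1
      rw [hyg]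
      simp only [map_mul, map_inv]
      rw [h1, mul_inv_cancel_right, mul_inv_cancel]
    have hmemS : y * x⁻¹ ∈ (S : Subgroup G) := mul_mem hyS (inv_mem hxS)
    have hdisj : (S : Subgroup G) ⊓ Cfsg.oddCore G = ⊥ := by
      apply (Subgroup.disjoint_of_coprime_natCard _).eq_bot
      obtain ⟨k, hk⟩ := IsPGroup.iff_card.mp S.isPGroup'
      rw [hk]
      exact Nat.Coprime.pow_left k
        (Cfsg.Agent.Lib.Helper2.pPrimeCore_card_coprime (G := G) 2).symm
    have h1 : y * x⁻¹ ∈ (S : Subgroup G) ⊓ Cfsg.oddCore G := Subgroup.mem_inf.mpr ⟨hmemS, hmemO⟩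
    rw [hdisj, Subgroup.mem_bot] at h1
    exact mul_inv_eq_one.mp h1

end Cfsg.Agent.S5094
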