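import Mathlib
import Cfsg.Statements.S5105
import Cfsg.Agent.Lib.Lead.Fus10

set_option autoImplicit false

open Cfsg

namespace Cfsg.Agent.S5105

theorem result {Ω : Type*} [Group Ω] {S : Subgroup Ω} [Finite S] (p : ℕ) [Fact p.Prime] (hS : IsPGroup p S) (F : Cfsg.FusionSystem S) (hF : F.IsConstrained p) {G : Type*} [Group G] (ι : S →* G) (hG : F.IsModel p G ι) (ψ : G ≃* G) (hψ : ∀ x : S, ψ (ι x) = ι x) : ∃ z : S, z ∈ Subgroup.center S ∧ ∀ g : G, ψ g = ι z * g * (ι z)⁻¹ := by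
  obtain ⟨hfin, hreal, ⟨T, hT⟩, hcent⟩ := hG
  haveI := hfin
  have hinj : Function.Injective ι := hreal.1
  have hψT : ∀ t ∈ (T : Subgroup G), ψ t = t := by
    intro t ht
    rw [hT] at ht
    obtain ⟨x, rfl⟩ := ht
    exact hψ x
  obtain ⟨u, hu, hconj⟩ := Cfsg.Agent.Lib.Lead.Fus.aut_fix_sylow_inner p T hcent ψ hψT
  rw [hT] at hu
  obtain ⟨z, rfl⟩ := hu
  refine ⟨z, ?_, hconj⟩
  rw [Subgroup.mem_center_iff]
  intro s
  apply hinj
  have h1 := hconj (ι s)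
  rw [hψ s] at h1
  rw [map_mul, map_mul]
  calc ι s * ι z = (ι z * ι s * (ι z)⁻¹) * ι z := by rw [← h1]
    _ = ι z * ι s := by group

end Cfsg.Agent.S5105
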