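import Cfsg.Statements.S5112
import Mathlib
import Cfsg.Agent.Lib.Helper8.DQ
import Cfsg.Agent.S5111
import Cfsg.Agent.Lib.Helper9.Alperin1

set_option autoImplicit false
open Cfsg

namespace Cfsg.Agent.S5112

/-- If S is a dihedral or generalized quaternion 2-group of order at least 16, then in every saturated fusion system over S (at the prime 2) the automorphism group Aut_F(S) consists of the inner automorphisms of S. -/
theorem result {Ω : Type*} [Group Ω] {S : Subgroup Ω} [Finite S] (n : ℕ) (hn : 4 ≤ n) (hshape : Nonempty (S ≃* DihedralGroup (2 ^ (n - 1))) ∨ Nonempty (S ≃* QuaternionGroup (2 ^ (n - 2)))) (F : Cfsg.FusionSystem S) (hF : F.IsSaturated 2) : F.autGroup S = Cfsg.Inn S := by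
  have hn1 : 3 ≤ n - 1 := by omega
  have hshape' : Cfsg.Agent.Lib.Helper8.DQ.HasShape S (n - 1) := by
    rcases hshape with ⟨⟨f⟩⟩ | ⟨⟨f⟩⟩
    · exact (Cfsg.Agent.Lib.Helper8.DQ.hasShape_dihedral (n - 1) hn1).of_mulEquiv f
    · have h := Cfsg.Agent.Lib.Helper8.DQ.hasShape_quaternion (n - 2) (by omega)
      have h2 : n - 2 + 1 = n - 1 := by omega
      rw [h2] at h
      exact h.of_mulEquiv f
  have hcard : Nat.card S = 2 ^ n := by
    rcases hshape with ⟨⟨f⟩⟩ | ⟨⟨f⟩⟩
    · rw [Nat.card_congr f.toEquiv, DihedralGroup.nat_card, ← pow_succ']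
      congr 1; omega
    · rw [Nat.card_congr f.toEquiv, Nat.card_eq_fintype_card, QuaternionGroup.card]
      have : (4 : ℕ) = 2 ^ 2 := by norm_num
      rw [this, ← pow_add]
      congr 1; omega
  have hS2 : IsPGroup 2 S := IsPGroup.of_card hcard
  have hP : IsPGroup 2 (MulAut S) :=
    Cfsg.Agent.Lib.Helper8.DQ.isPGroup_mulAut_of_hasShape hn1 hshape'
  have hFA := ((Cfsg.Agent.S5111.result 2 hS2 F).mp hF).1
  obtain ⟨-, R, hR⟩ := hFA
  have hPA : IsPGroup 2 (F.autGroup S) := hP.to_subgroup _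
  have hRtop : (⊤ : Subgroup (F.autGroup S)) = R :=
    R.is_maximal' (hPA.to_subgroup ⊤) le_top
  have hle : F.autGroup S ≤ Cfsg.autInducedBy S S := by
    rw [← Subgroup.subgroupOf_eq_top, ← hR, hRtop]
  have hge : Cfsg.autInducedBy S S ≤ F.autGroup S :=
    Cfsg.Agent.Lib.Helper9.autInducedBy_le_autGroup F le_rfl
  rw [le_antisymm hle hge]
  apply le_antisymm
  · intro α hα
    obtain ⟨g, hg, hgα⟩ := (Cfsg.Agent.Lib.Helper9.mem_autInducedBy_iff S S α).mp hα
    refine ⟨⟨g, hg⟩, ?_⟩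
    ext x
    rw [hgα x]
    simp [MulAut.conj_apply]
  · exact Cfsg.Agent.Lib.Helper9.inn_le_autInducedBy le_rfl

end Cfsg.Agent.S5112
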