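import Cfsg.Statements.S5120
import Cfsg.Agent.Lib.Helper2.PPow3

set_option autoImplicit false
open Cfsg

namespace Cfsg.Agent.S5120

/-- Let F be a saturated fusion system over a finite p-group S and T a subgroup of S containing the hyperfocal subgroup of F and normal in S. Then every saturated subsystem of F over T of p-power index is a normal subsystem of F. -/
theorem result {Ω : Type*} [Group Ω] {S : Subgroup Ω} [Finite S] (p : ℕ) [Fact p.Prime] (hS : IsPGroup p S) (F : Cfsg.FusionSystem S) (hF : F.IsSaturated p) (T : Subgroup Ω) (hTS : T ≤ S) (hTn : (T.subgroupOf S).Normal) (hT : F.hyperfocalSubgroup p ≤ T) (E : Cfsg.FusionSystem T) (hEs : E.IsSaturated p) (hEi : E.HasPPowerIndexIn F p) : E.IsNormalIn F p := by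
  have hTn' : ∀ s ∈ S, ∀ h ∈ T, s * h * s⁻¹ ∈ T := by
    intro s hs h hh
    have h1 := hTn.conj_mem ⟨h, hTS hh⟩ (Subgroup.mem_subgroupOf.mpr hh) ⟨s, hs⟩
    exact Subgroup.mem_subgroupOf.mp h1
  have hTsc := Cfsg.Agent.Lib.Helper2.PPow.stronglyClosed_of_hyperfocal_le p hS F hF hTS hTn' hT
  have hInv := Cfsg.Agent.Lib.Helper2.PPow.inv_of_ppower hS hTS hEs hEi
  refine ⟨⟨hEs, hF, hEi.1, hTsc, ?_, ?_⟩, ?_⟩
  · intro P hPT φ hφ α hα
    have hiff : ∀ y : Ω, y ∈ (P.subgroupOf T).map (T.subtype.comp α.toMonoidHom) ↔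
        ∃ (x : Ω) (hx : x ∈ P), ((α ⟨x, hPT hx⟩ : T) : Ω) = y := by
      intro y
      constructor
      · rintro ⟨x, hx, rfl⟩
        exact ⟨x.1, Subgroup.mem_subgroupOf.mp hx, rfl⟩
      · rintro ⟨x, hx, rfl⟩
        exact ⟨⟨x, hPT hx⟩, Subgroup.mem_subgroupOf.mpr hx, rfl⟩
    obtain ⟨χ, hχ, hχe⟩ := hInv P _ hPT φ hφ α hα hiff
    exact ⟨χ, hχ, fun x hφx hαx => hχe x hαx hφx⟩
  · intro P hPT φ hφ
    exact Cfsg.Agent.Lib.Helper2.PPow.frattini_of_ppower hS hF hTsc hInv hEi P hPT φ hφ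
  · intro α hα
    exact Cfsg.Agent.Lib.Helper2.PPow.extOK_of_mem hS hF hTsc hT hEs hEi.1 α hα

end Cfsg.Agent.S5120
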