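import Cfsg.Statements.S5130
import Cfsg.Agent.Lib.Helper2.DirFac2
import Cfsg.Agent.Lib.Helper1.KN7
import Cfsg.Agent.Lib.Helper9.FusionCentralizer
import Cfsg.Agent.S5119

set_option autoImplicit false
open Cfsg

namespace Cfsg.Agent.S5130

/-- Let F be a saturated fusion system over a finite p-group S that is the direct product of two subgroups S₁ and S₂, each strongly closed in F. Let R be the full subsystem of F over S₁ (all maps of F between subgroups of S₁) and R′ the subsystem over S₁ of those maps that extend to the subgroup generated with S₂ fixing S₂ elementwise. Then R and R′ are saturated, R′ is normal in F and in R, and R is weakly normal in F. -/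
theorem result {Ω : Type*} [Group Ω] {S : Subgroup Ω} [Finite S] (p : ℕ) [Fact p.Prime] (hS : IsPGroup p S) (F : Cfsg.FusionSystem S) (hF : F.IsSaturated p) (S₁ S₂ : Subgroup Ω) (hprod : Cfsg.IsInternalDirectProduct S₁ S₂ S) (h₁ : F.StronglyClosed S₁) (h₂ : F.StronglyClosed S₂) (R R' : Cfsg.FusionSystem S₁) (hR : ∀ P : Subgroup Ω, P ≤ S₁ → R.Hom P = F.Hom P) (hR' : ∀ P : Subgroup Ω, P ≤ S₁ → R'.Hom P = F.centralizerHom S₂ P) : R.IsSaturated p ∧ R'.IsSaturated p ∧ R'.IsNormalIn F p ∧ R'.IsNormalIn R p ∧ R.IsWeaklyNormalIn F p := by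
  obtain ⟨hS₁S, hS₂S, hcomm, hinf, hsup⟩ := hprod
  haveI : Finite S₁ := Cfsg.Agent.Lib.Helper9.finite_of_le hS₁S
  have hS₁p : IsPGroup p S₁ := Cfsg.Agent.Lib.Helper9.isPGroup_of_le hS hS₁S
  have hS₁c : S₁ ≤ Cfsg.FusionSystem.centralizerIn S S₂ :=
    Cfsg.Agent.Lib.Helper2.DirFac.le_centralizerIn_of_comm hS₁S hcomm
  have hS₂c : S₂ ≤ Cfsg.FusionSystem.centralizerIn S S₁ :=
    Cfsg.Agent.Lib.Helper2.DirFac.le_centralizerIn_of_comm' hS₂S hcomm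
  have hdec : ∀ g ∈ S, ∃ a ∈ S₁, ∃ b ∈ Subgroup.centralizer (S₁ : Set Ω), g = a * b := by
    intro g hg
    rw [← hsup] at hg
    obtain ⟨a, ha, b, hb, rfl⟩ := Cfsg.Agent.Lib.Helper2.DirFac.exists_mul_of_mem_sup hcomm hg
    exact ⟨a, ha, b, (hS₂c hb).2, rfl⟩
  have hRsat : R.IsSaturated p := Cfsg.Agent.Lib.Helper2.DirFac.full_saturated F hF h₁ hdec R hR
  have hfc : F.IsFullyCentralized S₂ :=
    Cfsg.Agent.Lib.Helper2.DirFac.fullyCentralized_of_stronglyClosed F h₂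
  have hC := Cfsg.Agent.Lib.Helper9.isCentralizerSystem_centralizerSystem F S₂ hS₂S
  have hCsat := Cfsg.Agent.Lib.Helper1.KN.centralizerSystem_saturated hS F hF hfc
    (Cfsg.Agent.Lib.Helper9.centralizerSystem F S₂ hS₂S) hC
  haveI : Finite ↥(Cfsg.FusionSystem.centralizerIn S S₂) :=
    Cfsg.Agent.Lib.Helper9.finite_centralizerIn S₂
  have h₁C : (Cfsg.Agent.Lib.Helper9.centralizerSystem F S₂ hS₂S).StronglyClosed S₁ := by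
    refine ⟨hS₁c, ?_⟩
    intro R₀ hR₀ φ hφ x
    rw [hC R₀] at hφ
    exact h₁.2 R₀ hR₀ φ hφ.1 x
  have hdecC : ∀ g ∈ Cfsg.FusionSystem.centralizerIn S S₂, ∃ a ∈ S₁,
      ∃ b ∈ Subgroup.centralizer (S₁ : Set Ω), g = a * b := fun g hg => hdec g hg.1
  have hR'sat : R'.IsSaturated p :=
    Cfsg.Agent.Lib.Helper2.DirFac.full_saturated (Cfsg.Agent.Lib.Helper9.centralizerSystem F S₂ hS₂S)
      hCsat h₁C hdecC R' (fun P hP => by rw [hR' P hP, hC P])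
  have hR'F : R'.IsSubsystemOf F := by
    intro P φ hφ
    have hP : P ≤ S₁ := (R'.le_of_mem hφ).1
    rw [hR' P hP] at hφ
    exact hφ.1
  have hRF : R.IsSubsystemOf F := by
    intro P φ hφ
    have hP : P ≤ S₁ := (R.le_of_mem hφ).1
    rw [hR P hP] at hφ
    exact hφ
  have hR'R : R'.IsSubsystemOf R := by
    intro P φ hφ
    have hP : P ≤ S₁ := (R'.le_of_mem hφ).1
    rw [hR P hP]
    exact hR'F P hφ
  have hscR : R.StronglyClosed S₁ := ⟨le_rfl, fun R₀ _ φ hφ x => (R.le_of_mem hφ).2 x⟩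
  have hSI_R'F : ∀ (P Q : Subgroup Ω) (hPQ : P ≤ Q) (_ : Q ≤ S₁) (φ : P →* Ω) (_ : φ ∈ R'.Hom P)
      (hφQ : ∀ x : P, φ x ∈ Q) (ψ : Q →* Ω) (_ : ψ ∈ F.Hom Q),
      ∃ χ ∈ R'.Hom ((P.subgroupOf Q).map ψ),
        ∀ (x : P) (hx : ψ (Subgroup.inclusion hPQ x) ∈ (P.subgroupOf Q).map ψ),
          χ ⟨ψ (Subgroup.inclusion hPQ x), hx⟩ = ψ ⟨φ x, hφQ x⟩ := by
    intro P Q hPQ hQ φ hφ hφQ ψ hψ
    rw [hR' P (hPQ.trans hQ)] at hφ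
    obtain ⟨χ, hχ, hχe⟩ :=
      Cfsg.Agent.Lib.Helper2.DirFac.si_cent hS F hF h₁ h₂ hcomm hPQ hQ hφ hφQ hψ
    have hP' : (P.subgroupOf Q).map ψ ≤ S₁ := by
      rintro _ ⟨z, -, rfl⟩
      exact h₁.2 Q hQ ψ hψ z
    refine ⟨χ, ?_, hχe⟩
    rw [hR' _ hP']
    exact hχ
  have hSI_RF : ∀ (P Q : Subgroup Ω) (hPQ : P ≤ Q) (_ : Q ≤ S₁) (φ : P →* Ω) (_ : φ ∈ R.Hom P)
      (hφQ : ∀ x : P, φ x ∈ Q) (ψ : Q →* Ω) (_ : ψ ∈ F.Hom Q),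
      ∃ χ ∈ R.Hom ((P.subgroupOf Q).map ψ),
        ∀ (x : P) (hx : ψ (Subgroup.inclusion hPQ x) ∈ (P.subgroupOf Q).map ψ),
          χ ⟨ψ (Subgroup.inclusion hPQ x), hx⟩ = ψ ⟨φ x, hφQ x⟩ := by
    intro P Q hPQ hQ φ hφ hφQ ψ hψ
    rw [hR P (hPQ.trans hQ)] at hφ
    obtain ⟨χ, hχ, hχe⟩ := Cfsg.Agent.Lib.Helper2.DirFac.si_self F hPQ hφ hφQ hψ
    have hP' : (P.subgroupOf Q).map ψ ≤ S₁ := by
      rintro _ ⟨z, -, rfl⟩
      exact h₁.2 Q hQ ψ hψ z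
    refine ⟨χ, ?_, hχe⟩
    rw [hR _ hP']
    exact hχ
  have hInvR'F : R'.IsInvariantIn F :=
    (Cfsg.Agent.S5119.result p hS F hF R' hR'F h₁).mpr hSI_R'F
  have hInvRF : R.IsInvariantIn F :=
    (Cfsg.Agent.S5119.result p hS F hF R hRF h₁).mpr hSI_RF
  have hInvR'R : R'.IsInvariantIn R :=
    (Cfsg.Agent.S5119.result p hS₁p R hRsat R' hR'R hscR).mpr
      (fun P Q hPQ hQ φ hφ hφQ ψ hψ => hSI_R'F P Q hPQ hQ φ hφ hφQ ψ
        (by rw [← hR Q hQ]; exact hψ))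
  have hextF : ∀ α ∈ R'.autGroup S₁, ∃ β ∈ F.autGroup (S₁ ⊔ Cfsg.FusionSystem.centralizerIn S S₁),
      (∀ x : S₁, ((β (Subgroup.inclusion le_sup_left x) :
        ↥(S₁ ⊔ Cfsg.FusionSystem.centralizerIn S S₁)) : Ω) = ((α x : S₁) : Ω)) ∧
      ∀ c : ↥(S₁ ⊔ Cfsg.FusionSystem.centralizerIn S S₁),
        (c : Ω) ∈ Cfsg.FusionSystem.centralizerIn S S₁ →
        (c : Ω)⁻¹ * ((β c : ↥(S₁ ⊔ Cfsg.FusionSystem.centralizerIn S S₁)) : Ω) ∈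
          S₁ ⊓ Subgroup.centralizer (S₁ : Set Ω) := by
    intro α hα
    have hα' : S₁.subtype.comp α.toMonoidHom ∈ R'.Hom S₁ :=
      Cfsg.Agent.Lib.Helper9.hom_of_mem_autGroup R' le_rfl hα
    rw [hR' S₁ le_rfl] at hα'
    obtain ⟨-, -, -, ψ, hψ, hψe, hψS₂⟩ := hα'
    have hD : S₁ ⊔ S₂ = S₁ ⊔ Cfsg.FusionSystem.centralizerIn S S₁ :=
      le_antisymm (sup_le_sup_left hS₂c S₁) (by rw [hsup]; exact sup_le hS₁S inf_le_left)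
    obtain ⟨ψ₂, hψ₂, hψ₂e⟩ := Cfsg.Agent.Lib.Helper2.StrongInv.transport_hom F hD hψ
    have hDS : S ≤ S₁ ⊔ Cfsg.FusionSystem.centralizerIn S S₁ := by rw [← hD, hsup]
    have hr : ψ₂.range = S₁ ⊔ Cfsg.FusionSystem.centralizerIn S S₁ :=
      Cfsg.Agent.Lib.Helper2.DirFac.range_eq_self F hψ₂
        (fun x => hDS (Cfsg.Agent.Lib.Helper9.hom_mem F hψ₂ x))
    obtain ⟨β, hβ, hβe⟩ := Cfsg.Agent.Lib.Helper9.exists_aut_of_hom F hψ₂ hr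
    have hl12 : S₁ ≤ S₁ ⊔ S₂ := le_sup_left
    have hl1c : S₁ ≤ S₁ ⊔ Cfsg.FusionSystem.centralizerIn S S₁ := le_sup_left
    refine ⟨β, hβ, ?_, ?_⟩
    · intro x
      rw [hβe]
      have h3 := hψ₂e (x : Ω) (hl12 x.2) (hl1c x.2)
      exact h3.trans (hψe x)
    · intro c hc
      have hcS : (c : Ω) ∈ S₁ ⊔ S₂ := by rw [hsup]; exact hc.1
      obtain ⟨a, ha, b, hb, hab⟩ := Cfsg.Agent.Lib.Helper2.DirFac.exists_mul_of_mem_sup hcomm hcS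
      have hbc : b ∈ Subgroup.centralizer (S₁ : Set Ω) := (hS₂c hb).2
      have hac : a ∈ Subgroup.centralizer (S₁ : Set Ω) := by
        have e : a = (c : Ω) * b⁻¹ := by rw [hab]; group
        rw [e]
        exact Subgroup.mul_mem _ hc.2 (Subgroup.inv_mem _ hbc)
      have hβc : ((β c : ↥(S₁ ⊔ Cfsg.FusionSystem.centralizerIn S S₁)) : Ω) =
          ((α ⟨a, ha⟩ : S₁) : Ω) * b := by
        rw [hβe]
        have h1 : ψ₂ c = ψ ⟨(c : Ω), hcS⟩ := hψ₂e (c : Ω) hcS c.2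
        have h2 : (⟨(c : Ω), hcS⟩ : ↥(S₁ ⊔ S₂)) =
            Subgroup.inclusion le_sup_left ⟨a, ha⟩ * Subgroup.inclusion le_sup_right ⟨b, hb⟩ :=
          Subtype.ext hab
        rw [h1, h2, map_mul, hψe, hψS₂]
        rfl
      rw [hβc]
      have hαa := Cfsg.Agent.Lib.Helper2.DirFac.aut_centralizer_mem α (a := ⟨a, ha⟩) hac
      have hfin : (c : Ω)⁻¹ * (((α ⟨a, ha⟩ : S₁) : Ω) * b) = a⁻¹ * ((α ⟨a, ha⟩ : S₁) : Ω) := by
        have hcomm' : ((α ⟨a, ha⟩ : S₁) : Ω) * b = b * ((α ⟨a, ha⟩ : S₁) : Ω) :=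
          hcomm _ (α ⟨a, ha⟩).2 b hb
        rw [hab, hcomm a ha b hb, hcomm']
        group
      rw [hfin]
      exact Subgroup.mem_inf.mpr ⟨S₁.mul_mem (S₁.inv_mem ha) (α ⟨a, ha⟩).2,
        Subgroup.mul_mem _ (Subgroup.inv_mem _ hac) hαa⟩
  have hextR : ∀ α ∈ R'.autGroup S₁, ∃ β ∈ R.autGroup (S₁ ⊔ Cfsg.FusionSystem.centralizerIn S₁ S₁),
      (∀ x : S₁, ((β (Subgroup.inclusion le_sup_left x) :
        ↥(S₁ ⊔ Cfsg.FusionSystem.centralizerIn S₁ S₁)) : Ω) = ((α x : S₁) : Ω)) ∧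
      ∀ c : ↥(S₁ ⊔ Cfsg.FusionSystem.centralizerIn S₁ S₁),
        (c : Ω) ∈ Cfsg.FusionSystem.centralizerIn S₁ S₁ →
        (c : Ω)⁻¹ * ((β c : ↥(S₁ ⊔ Cfsg.FusionSystem.centralizerIn S₁ S₁)) : Ω) ∈
          S₁ ⊓ Subgroup.centralizer (S₁ : Set Ω) := by
    intro α hα
    have hα' : S₁.subtype.comp α.toMonoidHom ∈ R'.Hom S₁ :=
      Cfsg.Agent.Lib.Helper9.hom_of_mem_autGroup R' le_rfl hα
    have hαR : S₁.subtype.comp α.toMonoidHom ∈ R.Hom S₁ := hR'R S₁ hα'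
    have hD : S₁ = S₁ ⊔ Cfsg.FusionSystem.centralizerIn S₁ S₁ :=
      (sup_eq_left.mpr inf_le_left).symm
    obtain ⟨ψ₂, hψ₂, hψ₂e⟩ := Cfsg.Agent.Lib.Helper2.StrongInv.transport_hom R hD hαR
    have hr : ψ₂.range = S₁ ⊔ Cfsg.FusionSystem.centralizerIn S₁ S₁ :=
      Cfsg.Agent.Lib.Helper2.DirFac.range_eq_self R hψ₂
        (fun x => hD.le (Cfsg.Agent.Lib.Helper9.hom_mem R hψ₂ x))
    obtain ⟨β, hβ, hβe⟩ := Cfsg.Agent.Lib.Helper9.exists_aut_of_hom R hψ₂ hr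
    refine ⟨β, hβ, ?_, ?_⟩
    · intro x
      rw [hβe]
      exact hψ₂e (x : Ω) x.2 (hD.le x.2)
    · intro c hc
      have hcS₁ : (c : Ω) ∈ S₁ := hc.1
      have h1 : ψ₂ c = ((α ⟨(c : Ω), hcS₁⟩ : S₁) : Ω) := hψ₂e (c : Ω) hcS₁ c.2
      rw [hβe, h1]
      have hαc := Cfsg.Agent.Lib.Helper2.DirFac.aut_centralizer_mem α (a := ⟨(c : Ω), hcS₁⟩) hc.2
      exact Subgroup.mem_inf.mpr ⟨S₁.mul_mem (S₁.inv_mem hcS₁) (α ⟨_, hcS₁⟩).2,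
        Subgroup.mul_mem _ (Subgroup.inv_mem _ hc.2) hαc⟩
  exact ⟨hRsat, hR'sat, ⟨⟨hR'sat, hF, hInvR'F⟩, hextF⟩, ⟨⟨hR'sat, hRsat, hInvR'R⟩, hextR⟩,
    ⟨hRsat, hF, hInvRF⟩⟩

end Cfsg.Agent.S5130
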