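import Cfsg.Statements.S5144
import Cfsg.Agent.Lib.Helper9.FusionBasic

set_option autoImplicit false
open Cfsg

namespace Cfsg.Agent.S5144

open Cfsg.FusionSystem Cfsg.Agent.Lib.Helper9

theorem isCentral_bot {Ω : Type*} [Group Ω] {S : Subgroup Ω} (F : Cfsg.FusionSystem S) :
    F.IsCentral ⊥ := by
  refine ⟨bot_le, ?_⟩
  intro P φ hφ
  have hle : P ⊔ ⊥ ≤ P := by simp
  refine ⟨φ.comp (Subgroup.inclusion hle), restrict_mem F hφ hle, ?_, ?_⟩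
  · intro x; rfl
  · intro x
    have hx1 : (x : Ω) = 1 := Subgroup.mem_bot.mp x.2
    have : Subgroup.inclusion (le_sup_right : (⊥ : Subgroup Ω) ≤ P ⊔ ⊥) x = 1 := Subtype.ext hx1
    rw [this, map_one, hx1]

theorem isCentral_sup {Ω : Type*} [Group Ω] {S : Subgroup Ω} (F : Cfsg.FusionSystem S)
    (Q₁ Q₂ : Subgroup Ω) (h₁ : F.IsCentral Q₁) (h₂ : F.IsCentral Q₂) : F.IsCentral (Q₁ ⊔ Q₂) := by
  obtain ⟨hQ₁S, hext₁⟩ := h₁
  obtain ⟨hQ₂S, hext₂⟩ := h₂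
  refine ⟨sup_le hQ₁S hQ₂S, ?_⟩
  intro P φ hφ
  obtain ⟨ψ₁, hψ₁, hψ₁φ, hψ₁Q⟩ := hext₁ P φ hφ
  obtain ⟨ψ₂, hψ₂, hψ₂ψ₁, hψ₂Q⟩ := hext₂ (P ⊔ Q₁) ψ₁ hψ₁
  have hle : P ⊔ (Q₁ ⊔ Q₂) ≤ (P ⊔ Q₁) ⊔ Q₂ := by rw [sup_assoc]
  refine ⟨ψ₂.comp (Subgroup.inclusion hle), restrict_mem F hψ₂ hle, ?_, ?_⟩
  · intro x
    rw [← hψ₁φ x, ← hψ₂ψ₁]
    rfl
  · -- fixed points form a subgroup
    have hQ₁le : Q₁ ≤ (P ⊔ Q₁) ⊔ Q₂ := le_sup_right.trans le_sup_left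
    have hQ₂le : Q₂ ≤ (P ⊔ Q₁) ⊔ Q₂ := le_sup_right
    let D : Subgroup Ω := (P ⊔ Q₁) ⊔ Q₂
    let Fix : Subgroup Ω :=
      { carrier := {z | ∃ hz : z ∈ D, ψ₂ ⟨z, hz⟩ = z}
        mul_mem' := by
          rintro a b ⟨ha, ha'⟩ ⟨hb, hb'⟩
          refine ⟨D.mul_mem ha hb, ?_⟩
          have : (⟨a * b, D.mul_mem ha hb⟩ : D) = ⟨a, ha⟩ * ⟨b, hb⟩ := rfl
          rw [this, map_mul, ha', hb']
        one_mem' := ⟨D.one_mem, map_one ψ₂⟩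
        inv_mem' := by
          rintro a ⟨ha, ha'⟩
          refine ⟨D.inv_mem ha, ?_⟩
          have : (⟨a⁻¹, D.inv_mem ha⟩ : D) = ⟨a, ha⟩⁻¹ := rfl
          rw [this, map_inv, ha'] }
    have hF1 : Q₁ ≤ Fix := by
      intro z hz
      refine ⟨hQ₁le hz, ?_⟩
      have := hψ₁Q ⟨z, hz⟩
      rw [← hψ₂ψ₁] at this
      exact this
    have hF2 : Q₂ ≤ Fix := by
      intro z hz
      exact ⟨hQ₂le hz, hψ₂Q ⟨z, hz⟩⟩
    intro x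
    obtain ⟨hz, hz'⟩ := (sup_le hF1 hF2) x.2
    exact hz'

/-- For a fusion system over a finite subgroup S, the centre of the system (the join of all subgroups central in it) is itself central in the system, hence its largest central subgroup. -/
theorem result {Ω : Type*} [Group Ω] {S : Subgroup Ω} [Finite S] (F : Cfsg.FusionSystem S) : F.IsCentral F.center := by
  exact sSup_induction_of_finite S (fun Q => F.IsCentral Q) (fun Q hQ => hQ.1) (isCentral_bot F)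
    (fun Q₁ Q₂ h₁ h₂ => isCentral_sup F Q₁ Q₂ h₁ h₂)

end Cfsg.Agent.S5144
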