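import Mathlib
import Cfsg.Statements.S5185
import Cfsg.Agent.Lib.Lead.Fus9

set_option autoImplicit false
universe u

open Cfsg

namespace Cfsg.Agent.S5185

theorem result {Ω : Type u} [Group Ω] {S : Subgroup Ω} [Finite S] (p : ℕ) [Fact p.Prime] (hS : IsPGroup p S)
    (F : Cfsg.FusionSystem S) (hF : F.IsSaturated p) (H : Subgroup Ω) (hH : F.IsEssential p H) (hcard : Nat.card H = p ^ 2) :
    Cfsg.IsElementaryAbelian p H ∧
      ∃ K : Subgroup ↥(F.autGroup H), Nonempty (↥K ≃* Matrix.SpecialLinearGroup (Fin 2) (ZMod p)) := by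
  exact Cfsg.Agent.Lib.Lead.Fus.essential_order_p_sq p hS F hF H hH hcard

end Cfsg.Agent.S5185
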