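import Mathlib
import Cfsg.Statements.S5186
import Cfsg.Agent.Lib.Lead.Fus13

set_option autoImplicit false
universe u

open Cfsg

namespace Cfsg.Agent.S5186

theorem result {Ω : Type u} [Group Ω] {S : Subgroup Ω} [Finite S] (p : ℕ) [Fact p.Prime] (hS : IsPGroup p S)
    (F : Cfsg.FusionSystem S) (hF : F.IsSaturated p) (H : Subgroup Ω) (hH : F.IsEssential p H) (hcard : Nat.card H = p ^ 3) :
    Cfsg.IsElementaryAbelian p H ∨ (Odd p ∧ Cfsg.IsExtraspecial p ↥H ∧ ∀ x ∈ H, x ^ p = 1) ∨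
      (p = 2 ∧ Nonempty (↥H ≃* QuaternionGroup 2)) := by
  exact Cfsg.Agent.Lib.Lead.Fus.essential_card_cube p hS F hF H hH hcard

end Cfsg.Agent.S5186
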