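import Mathlib
import Cfsg.Statements.S5187
import Cfsg.Agent.Lib.Lead.Fus12

set_option autoImplicit false
universe u

open Cfsg

namespace Cfsg.Agent.S5187

theorem result {Ω : Type u} [Group Ω] {S : Subgroup Ω} [Finite S] (p : ℕ) [Fact p.Prime] (hS : IsPGroup p S)
    (F : Cfsg.FusionSystem S) (hF : F.IsSaturated p) (H : Subgroup Ω) (hH : F.IsEssential p H) (hab : IsMulCommutative ↥H) (hrk : (frattini ↥H).index ≤ p ^ 2) :
    (Cfsg.IsElementaryAbelian p H ∧ Nat.card H = p ^ 2) ∨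
      (p ≤ 3 ∧ ∃ k : ℕ, Nonempty (↥H ≃* Multiplicative (ZMod (p ^ k) × ZMod (p ^ k)))) := by
  exact Cfsg.Agent.Lib.Lead.Fus.essential_abelian_rank_two p hS F hF H hH hab hrk

end Cfsg.Agent.S5187
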