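import Cfsg.Statements.S5203
import Cfsg.Agent.Lib.Helper3.FocRL3

set_option autoImplicit false
open Cfsg

namespace Cfsg.Agent.S5203

/-- Let F be a saturated fusion system over a finite p-group S and E a normal subsystem of F over T that has p-power index in F. Then every residual limit of E has the same maps as every residual limit of F (the residual limit is reached by alternately passing to the p-residual and the p'-residual subsystem until nothing changes). -/
theorem result {Ω : Type*} [Group Ω] {S : Subgroup Ω} [Finite S] (p : ℕ) [Fact p.Prime] (hS : IsPGroup p S) (F : Cfsg.FusionSystem S) (hF : F.IsSaturated p) {T : Subgroup Ω} (E : Cfsg.FusionSystem T) (hE : E.IsNormalIn F p) (hidx : E.HasPPowerIndexIn F p) {U V : Subgroup Ω} (Finf : Cfsg.FusionSystem U) (hFinf : Finf.IsResidualLimitOf F p) (Einf : Cfsg.FusionSystem V) (hEinf : Einf.IsResidualLimitOf E p) : ∀ P : Subgroup Ω, Finf.Hom P = Einf.Hom P := by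
  classical
  have hsc : F.StronglyClosed T := hE.1.2.2.2.1
  have hTS : T ≤ S := hsc.1
  haveI : Finite T := Cfsg.Agent.Lib.Helper3.FocRL.finite_of_le hTS
  have hT : IsPGroup p T := hS.to_le hTS
  have hEs : E.IsSaturated p := hE.1.1
  have hhyp := Cfsg.Agent.Lib.Helper3.FocRL.hyperfocal_eq_of_pPowerIndex hS F E hsc hidx
  cases hFinf with
  | stable _ _ hstF hresF =>
    have hTS' : T = S := le_antisymm hTS (by rw [← hstF]; exact hidx.2.1)
    have h1 := Cfsg.Agent.Lib.Helper9.hom_eq_of_hasPPowerIndexIn p hS F hTS' E F hEs hF hidx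
      (Cfsg.Agent.Lib.Helper3.FocRL.hasPPowerIndexIn_self F p)
    intro P
    exact (Cfsg.Agent.Lib.Helper3.FocRL.limit_hom_eq hT E F h1 Einf F hEinf
      (Cfsg.FusionSystem.IsResidualLimitOf.stable F p hstF hresF) P).symm
  | step _ _ D D' hD hD' hlim =>
    have hle : F.hyperfocalSubgroup p ≤ S := Cfsg.Agent.Lib.Helper3.FocRL.hyperfocal_le_base F p
    haveI : Finite ↥(F.hyperfocalSubgroup p) := Cfsg.Agent.Lib.Helper3.FocRL.finite_of_le hle
    have hH : IsPGroup p ↥(F.hyperfocalSubgroup p) := hS.to_le hle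
    cases hEinf with
    | stable _ _ hstE hresE =>
      have hTT : F.hyperfocalSubgroup p = T := by rw [← hhyp]; exact hstE
      have h1 := Cfsg.Agent.Lib.Helper9.hom_eq_of_hasPPowerIndexIn p hS F hTT D E hD.1 hEs hD.2 hidx
      have h2 := Cfsg.Agent.Lib.Helper3.FocRL.pPrimeResidual_hom_eq D E h1 D' E hD' hresE
      obtain ⟨h3, h4⟩ := Cfsg.Agent.Lib.Helper3.FocRL.stable_of_hom_eq E D'
        (fun P => (h2 P).symm) hstE hresE
      intro P
      rw [Cfsg.Agent.Lib.Helper3.FocRL.limit_of_stable hlim hH h3 h4 P, h2 P]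
    | step _ _ DE DE' hDE hDE' hlimE =>
      have hle' : E.hyperfocalSubgroup p ≤ T := Cfsg.Agent.Lib.Helper3.FocRL.hyperfocal_le_base E p
      haveI : Finite ↥(E.hyperfocalSubgroup p) := Cfsg.Agent.Lib.Helper3.FocRL.finite_of_le hle'
      have hH' : IsPGroup p ↥(E.hyperfocalSubgroup p) := hT.to_le hle'
      have h0 := Cfsg.Agent.Lib.Helper3.FocRL.hasPPowerIndexIn_trans hS F E DE hsc hidx hDE.2
      have h1 := Cfsg.Agent.Lib.Helper9.hom_eq_of_hasPPowerIndexIn p hS F hhyp DE D hDE.1 hD.1 h0 hD.2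
      have h2 := Cfsg.Agent.Lib.Helper3.FocRL.pPrimeResidual_hom_eq DE D h1 DE' D' hDE' hD'
      intro P
      exact (Cfsg.Agent.Lib.Helper3.FocRL.limit_hom_eq hH' DE' D' h2 Einf Finf hlimE hlim P).symm

end Cfsg.Agent.S5203
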