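import Cfsg.Statements.S5214
import Cfsg.Agent.Lib.Helper1.Hg9

set_option autoImplicit false
open Cfsg

namespace Cfsg.Agent.S5214

/-- Let S be a Suzuki 2-group (a finite nonabelian 2-group with more than one involution admitting a cyclic group of automorphisms permuting its involutions regularly). Then S is normal in every saturated fusion system over S (such a group is resistant). -/
theorem result {Ω : Type*} [Group Ω] {S : Subgroup Ω} [Finite S] (hS : IsPGroup 2 S) (F : Cfsg.FusionSystem S) (hF : F.IsSaturated 2) (hsz : Cfsg.IsSuzukiTwoGroup ↥S) : F.IsNormal S := by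
  obtain ⟨K, h⟩ := Cfsg.Agent.Lib.Lead.Sz2D.suzuki_SD hsz
  have hna : ∃ x y : ↥S, x * y ≠ y * x := hsz.2.2.1
  apply Cfsg.Agent.Lib.Helper1.Hg.normal_of_class_two hS F hF
  · intro x hx hx2 y hy
    have h1 : (⟨x, hx⟩ : S) ∈ Cfsg.Agent.Lib.Lead.Sz2D.Om S := h.mem_Om_iff.mpr (Subtype.ext hx2)
    have h2 := Cfsg.Agent.Lib.Helper1.Hg.Om_comm h1 (⟨y, hy⟩ : S)
    exact congrArg Subtype.val h2
  · intro x hx y hy
    have h1 := Cfsg.Agent.Lib.Helper1.Hg.higman_cm h hna (⟨x, hx⟩ : S)⁻¹ (⟨y, hy⟩ : S)⁻¹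
    have h2 := h.mem_Om_iff.mp h1
    have h3 := congrArg Subtype.val h2
    have e : ((Cfsg.Agent.Lib.Lead.Sz2D.cm (⟨x, hx⟩ : S)⁻¹ (⟨y, hy⟩ : S)⁻¹ : S) : Ω) =
        x * y * x⁻¹ * y⁻¹ := by
      unfold Cfsg.Agent.Lib.Lead.Sz2D.cm
      simp only [Subgroup.coe_mul, Subgroup.coe_inv, mul_inv_rev, inv_inv]
      group
    rw [Subgroup.coe_mul, e, Subgroup.coe_one] at h3
    exact h3

end Cfsg.Agent.S5214
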