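import Cfsg.Statements.S5221
import Cfsg.Agent.Lib.Helper1.TH2
import Cfsg.Agent.Lib.Helper9.AlperinCor

set_option autoImplicit false
open Cfsg

namespace Cfsg.Agent.S5221

/-- Let F be a sparse fusion system over a finite p-group S: a saturated fusion system, not the inner fusion system of S, whose only saturated fusion systems over S contained in it are F itself and the inner one. If p is odd, or F is S₄-free (the symmetric group of degree 4 is not involved in any model of the normalizer system of a fully normalized F-centric subgroup), then F is constrained. -/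
theorem result {Ω : Type*} [Group Ω] {S : Subgroup Ω} [Finite S] (p : ℕ) [Fact p.Prime] (hS : IsPGroup p S) (F : Cfsg.FusionSystem S) (hF : F.IsSaturated p) (hsp : ¬ (∀ P : Subgroup Ω, F.Hom P = (Cfsg.innerFusionSystem S).Hom P) ∧ ∀ E : Cfsg.FusionSystem S, E.IsSaturated p → E.IsSubsystemOf F → (∀ P : Subgroup Ω, E.Hom P = F.Hom P) ∨ (∀ P : Subgroup Ω, E.Hom P = (Cfsg.innerFusionSystem S).Hom P)) (hp : p ≠ 2 ∨ F.IsSectionFree p (Equiv.Perm (Fin 4))) : F.IsConstrained p := by
  obtain ⟨hni, hsparse⟩ := hsp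
  have hni' : ¬ Cfsg.Agent.Lib.Helper1.KL.InnerOn F := hni
  obtain ⟨R, E, hRN, hE, hEsat, hniE, hcon, hfreeE⟩ :=
    Cfsg.Agent.Lib.Helper1.TH.reduction_th hS F hF hp (Cfsg.Agent.Lib.Helper1.TH.thompson_all _) hni'
  obtain ⟨E', hE'Hom, hE'con, hinn⟩ := Cfsg.Agent.Lib.Helper1.KL.exists_transport hRN E p
  have hcon' := hE'con hcon
  have hsub : E'.IsSubsystemOf F := by
    intro P φ hφ
    rw [hE'Hom P] at hφ
    exact Cfsg.Agent.Lib.Helper1.KL.hom_of_normalizerSystem F E hE hφ
  rcases hsparse E' hcon'.1 hsub with h | h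
  · have hEF : E' = F := Cfsg.Agent.Lib.Helper9.fusionSystem_ext h
    rw [← hEF]
    exact hcon'
  · exfalso
    apply hniE
    intro P
    rw [← hE'Hom P, h P, hinn P]

end Cfsg.Agent.S5221
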