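import Mathlib
import Cfsg.Statements.S5236
import Cfsg.Agent.Lib.Lead.Fus7

set_option autoImplicit false

open Cfsg

namespace Cfsg.Agent.S5236

theorem result {Ω : Type*} [Group Ω] {S : Subgroup Ω} [Finite S] (p : ℕ) [Fact p.Prime] (hS : IsPGroup p S) (F : Cfsg.FusionSystem S) (hF : F.IsSaturated p) (hp : p ≠ 2) (P : Subgroup Ω) (hP : F.StronglyClosed P) : F.IsNormal P ↔ ∃ (n : ℕ) (Q : Fin (n + 1) → Subgroup Ω), Q 0 = ⊥ ∧ Q (Fin.last n) = Cfsg.omegaOne p P ∧ Monotone Q ∧ (∀ i : Fin (n + 1), F.StronglyClosed (Q i)) ∧ ∀ i : Fin n, ⁅Q i.succ, P⁆ ≤ Q i.castSucc := by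
  exact Cfsg.Agent.Lib.Lead.Fus.normal_iff_omega_series p hS F hF hp P hP

end Cfsg.Agent.S5236
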