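import Cfsg.Statements.S5243
import Cfsg.Agent.Lib.Helper3.NK9

set_option autoImplicit false
open Cfsg

namespace Cfsg.Agent.S5243

/-- Let F be a saturated fusion system over a finite p-group S, E a normal subsystem of F over T ≤ S, and χ a surjective homomorphism from Aut_F(T) onto a nontrivial finite group Δ of order prime to p whose kernel contains Aut_E(T). Then there is a proper normal subsystem F₀ of F over S containing E such that Aut_{F₀}(S) consists of those α ∈ Aut_F(S) whose restriction to T is an element of Aut_F(T) in the kernel of χ; moreover every p'-residual subsystem O^{p'}(F) of F is contained in F₀. -/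
theorem result {Ω : Type*} [Group Ω] {S : Subgroup Ω} [Finite S] (p : ℕ) [Fact p.Prime] (hS : IsPGroup p S) (F : Cfsg.FusionSystem S) (hF : F.IsSaturated p) {T : Subgroup Ω} (hTS : T ≤ S) (E : Cfsg.FusionSystem T) (hE : E.IsNormalIn F p) {Δ : Type*} [Group Δ] [Finite Δ] [Nontrivial Δ] (hΔ : (Nat.card Δ).Coprime p) (χ : ↥(F.autGroup T) →* Δ) (hχ : Function.Surjective χ) (hker : (E.autGroup T).subgroupOf (F.autGroup T) ≤ χ.ker) : ∃ F₀ : Cfsg.FusionSystem S, F₀.IsNormalIn F p ∧ ¬ (∀ P : Subgroup Ω, F₀.Hom P = F.Hom P) ∧ E.IsSubsystemOf F₀ ∧ (∀ α : MulAut ↥S, α ∈ F₀.autGroup S ↔ α ∈ F.autGroup S ∧ ∃ β : ↥(F.autGroup T), χ β = 1 ∧ ∀ t : ↥T, (((β : MulAut ↥T) t : ↥T) : Ω) = ((α ⟨(t : Ω), hTS t.2⟩ : ↥S) : Ω)) ∧ ∀ R : Cfsg.FusionSystem S, F.IsPPrimeResidual p R → R.IsSubsystemOf F₀ := by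
  classical
  obtain ⟨⟨hEs, -, hinv⟩, -⟩ := hE
  obtain ⟨hEF, hT, hI, hFr⟩ := id hinv
  haveI : Finite ↥T := Cfsg.Agent.Lib.Helper9.finite_of_le hTS
  have hst : Cfsg.Agent.Lib.Helper3.NK.Setup p F E ((χ.ker).map (F.autGroup T).subtype) := by
    refine ⟨hS, hF, hEs, hEF, hT, Cfsg.Agent.Lib.Helper2.StrongInv.inv_of_invariant hinv, hFr,
      ?_, ?_, ?_, ?_⟩
    · rintro _ ⟨k, -, rfl⟩
      exact k.2
    · rintro α hα _ ⟨k, hk, rfl⟩
      refine ⟨⟨α, hα⟩ * k * ⟨α, hα⟩⁻¹, ?_, rfl⟩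
      have hk' : χ k = 1 := MonoidHom.mem_ker.mp hk
      show _ ∈ χ.ker
      rw [MonoidHom.mem_ker, map_mul, map_mul, hk', mul_one, map_inv, mul_inv_cancel]
    · intro ε hε
      have hεF : ε ∈ F.autGroup T :=
        (Subgroup.closure_mono (fun _ hα => hEF T hα) : E.autGroup T ≤ F.autGroup T) hε
      exact ⟨⟨ε, hεF⟩, hker (Subgroup.mem_subgroupOf.mpr hε), rfl⟩
    · intro α hα k hk
      refine ⟨⟨α, hα⟩, ?_, rfl⟩
      show _ ∈ χ.ker
      rw [MonoidHom.mem_ker]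
      have h1 : (χ ⟨α, hα⟩) ^ (p ^ k) = 1 := by
        rw [← map_pow]
        have h2 : (⟨α, hα⟩ : ↥(F.autGroup T)) ^ (p ^ k) = 1 := Subtype.ext hk
        rw [h2, map_one]
      have h3 : orderOf (χ ⟨α, hα⟩) ∣ p ^ k := orderOf_dvd_of_pow_eq_one h1
      have h4 : orderOf (χ ⟨α, hα⟩) ∣ Nat.card Δ := orderOf_dvd_natCard _
      have h5 : Nat.Coprime (Nat.card Δ) (p ^ k) := Nat.Coprime.pow_right k hΔ
      have h6 : orderOf (χ ⟨α, hα⟩) = 1 := Nat.eq_one_of_dvd_coprimes h5 h4 h3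
      exact orderOf_eq_one_iff.mp h6
  refine ⟨hst.F0, hst.F0_normal, ?_, hst.E_le_F0, ?_, ?_⟩
  · obtain ⟨δ, hδ⟩ := exists_ne (1 : Δ)
    obtain ⟨a, ha⟩ := hχ δ
    apply hst.F0_ne a.2
    rintro ⟨k, hk, hka⟩
    have h1 : k = a := Subtype.ext hka
    have hk' : χ k = 1 := MonoidHom.mem_ker.mp hk
    rw [h1, ha] at hk'
    exact hδ hk'
  · intro α
    rw [hst.mem_autGroup_F0_iff α]
    constructor
    · rintro ⟨hα, ν, ⟨k, hk, rfl⟩, hν⟩
      exact ⟨hα, k, MonoidHom.mem_ker.mp hk, hν⟩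
    · rintro ⟨hα, β, hβ, hβe⟩
      exact ⟨hα, β, ⟨β, MonoidHom.mem_ker.mpr hβ, rfl⟩, hβe⟩
  · intro R hR
    exact hR.2.2 hst.F0 hst.F0_saturated hst.F0_index

end Cfsg.Agent.S5243
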