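import Cfsg.Statements.S5245
import Cfsg.Agent.Lib.Helper2.AutSys2

set_option autoImplicit false
open Cfsg

namespace Cfsg.Agent.S5245

/-- Let F be an extremely sparse fusion system over a finite p-group S (saturated, not the inner system, and every saturated fusion system over any subgroup T of S contained in F is F itself or the inner system of T). Then S is normal in F, the focal and hyperfocal subgroups of F are both S, and Aut_F(S) is generated by the inner automorphisms of S together with a single automorphism of prime order q ≠ p (F is the fusion system of the semidirect product of S by a cyclic group of prime order). -/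
theorem result {Ω : Type*} [Group Ω] {S : Subgroup Ω} [Finite S] (p : ℕ) [Fact p.Prime] (hS : IsPGroup p S) (F : Cfsg.FusionSystem S) (hF : F.IsSaturated p) (hxs : ¬ (∀ P : Subgroup Ω, F.Hom P = (Cfsg.innerFusionSystem S).Hom P) ∧ ∀ (T : Subgroup Ω) (E : Cfsg.FusionSystem T), E.IsSaturated p → E.IsSubsystemOf F → (T = S ∧ ∀ P : Subgroup Ω, E.Hom P = F.Hom P) ∨ (∀ P : Subgroup Ω, E.Hom P = (Cfsg.innerFusionSystem T).Hom P)) : F.IsNormal S ∧ F.focalSubgroup = S ∧ F.hyperfocalSubgroup p = S ∧ ∃ (q : ℕ) (β : MulAut ↥S), q.Prime ∧ q ≠ p ∧ β ∈ F.autGroup S ∧ orderOf β = q ∧ (F.autGroup S : Subgroup (MulAut ↥S)) = Cfsg.Inn ↥S ⊔ Subgroup.zpowers β := by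
  obtain ⟨hni, hsp⟩ := hxs
  have h1 : ∃ P : Subgroup Ω, P ≤ S ∧ ¬ IsPGroup p (F.autGroup P) := by
    by_contra hcon
    have hall : ∀ P : Subgroup Ω, P ≤ S → IsPGroup p (F.autGroup P) := by
      intro P hP
      by_contra h
      exact hcon ⟨P, hP, h⟩
    have h2 := Cfsg.Agent.Lib.Helper9.eq_inner_of_autGroups_pGroups p hS F hF hall
    exact hni (fun P => by rw [h2])
  obtain ⟨P, hPS, hPnp⟩ := h1
  haveI : Finite P := Cfsg.Agent.Lib.Helper9.finite_of_le hPS
  obtain ⟨q, hq, hqp, b, hb⟩ : ∃ q : ℕ, q.Prime ∧ q ≠ p ∧ ∃ b : F.autGroup P, orderOf b = q := by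
    by_contra hcon
    apply hPnp
    have hcard : Nat.card (F.autGroup P) ≠ 0 := Nat.card_pos.ne'
    have h3 := Nat.eq_prime_pow_of_unique_prime_dvd (p := p) hcard (fun {d} hd hdvd => by
      by_contra hne
      haveI : Fact d.Prime := ⟨hd⟩
      obtain ⟨x, hx⟩ := exists_prime_orderOf_dvd_card' d hdvd
      exact hcon ⟨d, hd, hne, x, hx⟩)
    exact IsPGroup.of_card h3
  have hcop : Nat.Coprime q p := (Nat.coprime_primes hq (Fact.out : p.Prime)).mpr hqp
  have hbo : orderOf (b : MulAut P) = q := by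
    rw [Subgroup.orderOf_coe]
    exact hb
  have hbq : (b : MulAut P) ^ q = 1 := by
    rw [← hbo]
    exact pow_orderOf_eq_one _
  rcases hsp P _ (Cfsg.Agent.Lib.Helper2.AutSys.cyc_saturated hS hPS hcop hbq)
      (Cfsg.Agent.Lib.Helper2.AutSys.cyc_subsystem F hPS b.2) with ⟨hPeq, hEF⟩ | hinner
  · subst hPeq
    have hmain := Cfsg.Agent.Lib.Helper2.AutSys.sparse_main p hS F hF hsp q hq hqp (b : MulAut ↥P) b.2
    have hmain2 := hmain hbo
    have hmain3 := hmain2 hEF
    exact hmain3
  · exfalso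
    have hbinn : (b : MulAut P) ∈ Inn ↥P :=
      Cfsg.Agent.Lib.Helper2.AutSys.le_inn_of_autSys_inner hinner
        (Subgroup.mem_sup_right (Subgroup.mem_zpowers _))
    have hone := Cfsg.Agent.Lib.Helper2.AutSys.eq_one_of_mem_inn hcop
      (Cfsg.Agent.Lib.Helper9.isPGroup_of_le hS hPS) hbinn hbq
    rw [hone, orderOf_one] at hbo
    exact hq.one_lt.ne hbo

end Cfsg.Agent.S5245
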