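import Cfsg.Statements.S5272
import Cfsg.Agent.Lib.Helper3.FAx5

set_option autoImplicit false
open Cfsg

namespace Cfsg.Agent.S5272

/-- An axiomatic Glauberman–Thompson nilpotency criterion for fusion systems. Let p be an odd prime, F a saturated fusion system over a finite p-group S, and 𝒜 a nonempty family of abelian subgroups of S. For Q ≤ S write I(Q) for the intersection of the members of 𝒜 contained in Q. Assume (invariance) that for every Q ≤ S containing a member of 𝒜, every F-automorphism of Q maps I(Q) into itself, and (replacement) that for every subgroup B of S of nilpotency class at most 2, if some member of 𝒜 contains [B,B] but not B, then B normalizes some member of 𝒜 that contains [B,B] but not B. Then F is the inner fusion system of S if and only if the normalizer fusion system of I(S) in F is the inner fusion system of N_S(I(S)). -/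
theorem result {Ω : Type*} [Group Ω] {S : Subgroup Ω} [Finite S] (p : ℕ) [Fact p.Prime] (hS : IsPGroup p ↥S) (F : Cfsg.FusionSystem S) (hF : F.IsSaturated p) (hp : p ≠ 2) (𝒜 : Set (Subgroup Ω)) (h𝒜 : ∀ A ∈ 𝒜, A ≤ S ∧ IsMulCommutative ↥A) (hne : 𝒜.Nonempty) (hinv : ∀ Q : Subgroup Ω, Q ≤ S → (∃ A ∈ 𝒜, A ≤ Q) → ∀ α ∈ F.autGroup Q, ∀ x : ↥Q, (x : Ω) ∈ (⨅ A ∈ {A : Subgroup Ω | A ∈ 𝒜 ∧ A ≤ Q}, A) → (((α : MulAut ↥Q) x : ↥Q) : Ω) ∈ (⨅ A ∈ {A : Subgroup Ω | A ∈ 𝒜 ∧ A ≤ Q}, A)) (hrep : ∀ B : Subgroup Ω, B ≤ S → ⁅⁅B, B⁆, B⁆ = ⊥ → (∃ A ∈ 𝒜, ⁅B, B⁆ ≤ A ∧ ¬ B ≤ A) → ∃ A ∈ 𝒜, ⁅B, B⁆ ≤ A ∧ ¬ B ≤ A ∧ B ≤ Subgroup.normalizer (A : Set Ω)) : (∀ P : Subgroup Ω, F.Hom P = (Cfsg.innerFusionSystem S).Hom P) ↔ ∀ N : Cfsg.FusionSystem (Cfsg.FusionSystem.normalizerIn S (⨅ A ∈ 𝒜, A)), F.IsNormalizerSystem (⨅ A ∈ 𝒜, A) N → ∀ P : Subgroup Ω, N.Hom P = (Cfsg.innerFusionSystem (Cfsg.FusionSystem.normalizerIn S (⨅ A ∈ 𝒜,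 A))).Hom P := by
  classical
  have h𝒜le : ∀ A ∈ 𝒜, A ≤ S := fun A hA => (h𝒜 A hA).1
  have hI := Cfsg.Agent.Lib.Helper3.FAx.Ifam_eq_iInf h𝒜le
  obtain ⟨A₀, hA₀⟩ := hne
  have hIS : (⨅ A ∈ 𝒜, A) ≤ S := by
    rw [← hI]
    intro x hx
    exact h𝒜le A₀ hA₀ (Cfsg.Agent.Lib.Helper3.FAx.mem_Ifam.mp hx A₀ hA₀ (h𝒜le A₀ hA₀))
  constructor
  · -- an inner system has inner normalizer systems
    intro hin N hN P
    apply Set.Subset.antisymm
    · intro φ hφ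
      rw [hN P] at hφ
      obtain ⟨hφF, hPN, hφN, ψ, hψ, hext, hmap⟩ := hφ
      rw [hin] at hψ
      obtain ⟨-, g, hg, hψg⟩ := hψ
      have hgN : g ∈ Subgroup.normalizer (((⨅ A ∈ 𝒜, A : Subgroup Ω)) : Set Ω) := by
        rw [Subgroup.mem_normalizer_iff]
        intro x
        constructor
        · intro hx
          have h1 : ψ (Subgroup.inclusion le_sup_right ⟨x, hx⟩) ∈
              ((⨅ A ∈ 𝒜, A : Subgroup Ω).subgroupOf (P ⊔ ⨅ A ∈ 𝒜, A)).map ψ :=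
            ⟨_, Subgroup.mem_subgroupOf.mpr hx, rfl⟩
          rw [hmap, hψg] at h1
          exact h1
        · intro hx
          rw [← hmap] at hx
          obtain ⟨y, hy, hyx⟩ := hx
          rw [hψg] at hyx
          have h2 : (y : Ω) = x := by
            have h3 : g⁻¹ * (g * (y : Ω) * g⁻¹) * g = g⁻¹ * (g * x * g⁻¹) * g := by rw [hyx]
            have e1 : g⁻¹ * (g * (y : Ω) * g⁻¹) * g = (y : Ω) := by group
            have e2 : g⁻¹ * (g * x * g⁻¹) * g = x := by group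
            rw [e1, e2] at h3
            exact h3
          rw [← h2]
          exact Subgroup.mem_subgroupOf.mp hy
      refine ⟨hPN, g, ⟨hg, hgN⟩, fun x => ?_⟩
      rw [← hext x, hψg]
      rfl
    · exact Cfsg.Agent.Lib.Helper9.innerFusionSystem_le N P
  · -- the main direction
    intro hNsys
    have hN₀ := hNsys (Cfsg.Agent.Lib.Helper9.normalizerSystem F (⨅ A ∈ 𝒜, A) hIS)
      (Cfsg.Agent.Lib.Helper9.isNormalizerSystem_normalizerSystem F (⨅ A ∈ 𝒜, A) hIS)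
    have hN : ∀ (P : Subgroup Ω) (φ : P →* Ω),
        φ ∈ F.normalizerHom (Cfsg.Agent.Lib.Helper3.FAx.Ifam 𝒜 S) P →
        ∃ t ∈ S, ∀ x : P, φ x = t * x * t⁻¹ := by
      intro P φ hφ
      rw [hI] at hφ
      have h1 : φ ∈ (Cfsg.Agent.Lib.Helper9.normalizerSystem F (⨅ A ∈ 𝒜, A) hIS).Hom P := by
        rw [Cfsg.Agent.Lib.Helper9.isNormalizerSystem_normalizerSystem F (⨅ A ∈ 𝒜, A) hIS P]
        exact hφ
      rw [hN₀ P] at h1
      obtain ⟨-, g, hg, hφg⟩ := h1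
      exact ⟨g, hg.1, hφg⟩
    exact Cfsg.Agent.Lib.Helper3.FAx.inner_of_axiomatic p hS F hF hp 𝒜 h𝒜 ⟨A₀, hA₀⟩ hinv hrep hN

end Cfsg.Agent.S5272
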