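import Cfsg.Statements.S5284
import Cfsg.Agent.S5283
import Cfsg.Agent.Lib.Helper2.AbInv2

set_option autoImplicit false
open Cfsg

namespace Cfsg.Agent.S5284

/-- Let S be a finite abelian p-group. Every saturated fusion system over S is supersoluble (S has a chain of F-strongly closed subgroups from 1 to S with cyclic steps) if and only if the invariants of S are pairwise distinct, that is, S is not isomorphic to a direct product (Z/p^n × Z/p^n) × H with n ≥ 1. -/
theorem result {Ω : Type*} [Group Ω] {S : Subgroup Ω} [Finite S] (p : ℕ) [Fact p.Prime] (hS : IsPGroup p ↥S) (hab : IsMulCommutative ↥S) : (∀ F : Cfsg.FusionSystem S, F.IsSaturated p → (∃ (m : ℕ) (c : Fin (m + 1) → Subgroup Ω), c 0 = ⊥ ∧ c (Fin.last m) = S ∧ (∀ i : Fin (m + 1), F.StronglyClosed (c i)) ∧ ∀ i : Fin m, c i.castSucc ≤ c i.succ ∧ ∃ x ∈ S, c i.succ = c i.castSucc ⊔ Subgroup.zpowers x)) ↔ ¬ ∃ (n : ℕ) (H : Type) (_ : CommGroup H), 0 < n ∧ Nonempty (↥S ≃* (Multiplicative (ZMod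 (p ^ n)) × Multiplicative (ZMod (p ^ n))) × H) := by
  have habc : ∀ a b : ↥S, a * b = b * a := fun a b => hab.is_comm.comm a b
  constructor
  · intro hall
    rintro ⟨n, H, hH, hn, ⟨ψ⟩⟩
    have hpp := ((Cfsg.Agent.S5283.result p hS).mp hall).2
    obtain ⟨K, hK, hbad⟩ := Cfsg.Agent.Lib.Helper2.AbInv.exists_bad p n hn H ψ
    obtain ⟨hc, he⟩ := hpp K hK
    apply hbad
    refine ⟨fun α hα β hβ => ?_, he⟩
    have := hc.is_comm.comm ⟨α, hα⟩ ⟨β, hβ⟩
    exact congrArg Subtype.val this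
  · intro hno
    refine (Cfsg.Agent.S5283.result p hS).mpr ⟨fun F hF => ?_, fun K hK => ?_⟩
    · exact Cfsg.Agent.Lib.Helper2.AbInv.abelian_resistant p hS (fun a ha b hb => by
        have := habc ⟨a, ha⟩ ⟨b, hb⟩
        exact congrArg Subtype.val this) F hF
    · letI : CommGroup ↥S := { (inferInstance : Group ↥S) with mul_comm := habc }
      have h := Cfsg.Agent.Lib.Helper2.AbInv.pprime_of_no_rep p hS hno K hK
      exact ⟨⟨⟨fun a b => Subtype.ext (h.1 a.1 a.2 b.1 b.2)⟩⟩, h.2⟩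

end Cfsg.Agent.S5284
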