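import Cfsg.Statements.S5292
import Cfsg.Agent.Lib.Helper1.PSolvExt
import Cfsg.Agent.Lib.Helper1.Model7
import Cfsg.Agent.Lib.Helper1.PLengthOne
import Cfsg.Agent.Lib.Helper2.NSys3
import Cfsg.Agent.Lib.Helper2.Cores
import Cfsg.Agent.Lib.Helper9.CentricAgree
import Cfsg.Agent.S5145
import Cfsg.Agent.S5103

set_option autoImplicit false
universe u
open Cfsg

namespace Cfsg.Agent.S5292

/-- Let F be a saturated fusion system over a finite p-group S. Then F is the fusion system of some finite p-solvable group on a Sylow p-subgroup if and only if F is constrained (some subgroup normal in F is centric in F) and the group of automorphisms that F induces on its largest normal subgroup O_p(F) is p-solvable. -/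
theorem result {Ω : Type u} [Group Ω] {S : Subgroup Ω} [Finite S] (p : ℕ) [Fact p.Prime] (hS : IsPGroup p S)
    (F : Cfsg.FusionSystem S) (hF : F.IsSaturated p) :
    (∃ (G : Type u) (_ : Group G) (_ : Finite G) (ι : S →* G), Cfsg.IsPSolvable p G ∧ F.IsRealizedBy ι ∧
        ∃ T : Sylow p G, (T : Subgroup G) = ι.range) ↔
      (F.IsConstrained p ∧ Cfsg.IsPSolvable p ↥(F.autGroup F.core)) := by
  constructor
  · rintro ⟨G, hG, hfin, ι, hsol, hreal, T, hT⟩
    have hNbot : Cfsg.FusionSystem.preimageAlong ι (Cfsg.pPrimeCore p G) = ⊥ := by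
      rw [eq_bot_iff]
      intro x hx
      obtain ⟨hxS, hxN⟩ := (Cfsg.Agent.Lib.Helper9.mem_preimageAlong ι _ x).mp hx
      obtain ⟨k, hk⟩ := hS ⟨x, hxS⟩
      have h1 : (ι ⟨x, hxS⟩) ^ (p ^ k) = 1 := by rw [← map_pow, hk, map_one]
      have h2 : orderOf (ι ⟨x, hxS⟩) ∣ p ^ k := orderOf_dvd_of_pow_eq_one h1
      have h3 : orderOf (ι ⟨x, hxS⟩) ∣ Nat.card (Cfsg.pPrimeCore p G) :=
        Subgroup.orderOf_dvd_natCard _ hxN
      have hcop : (Nat.card (Cfsg.pPrimeCore p G)).Coprime p :=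
        Cfsg.Agent.Lib.Helper2.pPrimeCore_card_coprime p
      have h4 : (orderOf (ι ⟨x, hxS⟩)).Coprime (Nat.card (Cfsg.pPrimeCore p G)) :=
        Nat.Coprime.coprime_dvd_left h2 (Nat.Coprime.pow_left k hcop.symm)
      have h5 : orderOf (ι ⟨x, hxS⟩) = 1 := Nat.Coprime.eq_one_of_dvd h4 h3
      rw [orderOf_eq_one_iff] at h5
      have h6 : (⟨x, hxS⟩ : S) = 1 := hreal.1 (by rw [h5, map_one])
      rw [Subgroup.mem_bot]
      exact congrArg (fun s : S => (s : Ω)) h6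
    obtain ⟨hreal', T', hT'⟩ :=
      Cfsg.Agent.Lib.Helper2.NSys.quotient_realized p F ι hreal T hT (Cfsg.pPrimeCore p G) hNbot
    have hsol' : Cfsg.IsPSolvable p (G ⧸ Cfsg.pPrimeCore p G) :=
      Cfsg.Agent.Lib.Helper1.isPSolvable_of_surjective p (QuotientGroup.mk' (Cfsg.pPrimeCore p G))
        (QuotientGroup.mk'_surjective _) hsol
    have hbot : Cfsg.pPrimeCore p (G ⧸ Cfsg.pPrimeCore p G) = ⊥ :=
      Cfsg.Agent.Lib.Helper1.pPrimeCore_quotient_eq_bot p
    have hcent := Cfsg.Agent.Lib.Helper1.centralizer_pCore_le_of_isPSolvable hbot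
      (Cfsg.Agent.Lib.Helper1.PSolvSub.isPSolvable_subgroup hsol' _)
    have hmodel : F.IsModel p (G ⧸ Cfsg.pPrimeCore p G)
        ((QuotientGroup.mk' (Cfsg.pPrimeCore p G)).comp ι) :=
      ⟨inferInstance, hreal', ⟨T', hT'⟩, hcent⟩
    refine ⟨Cfsg.Agent.S5103.result p hS F _ hmodel, ?_⟩
    exact Cfsg.Agent.Lib.Helper1.PSolvExt.isPSolvable_autGroup_of_realized F p ι hreal hsol
      (Cfsg.Agent.S5145.result F).1
  · rintro ⟨hcon, hsolA⟩
    obtain ⟨hsat, Q, hQn, hQc⟩ := hcon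
    have hcn : F.IsNormal F.core := Cfsg.Agent.S5145.result F
    have hQle : Q ≤ F.core := le_sSup hQn
    have hcc : F.IsCentric F.core := Cfsg.Agent.Lib.Helper9.centric_of_le F hQc hQle hcn.1
    obtain ⟨G, hG, ι, hmodel, θ, hθs, hθι, hker⟩ :=
      Cfsg.Agent.Lib.Helper1.Model.exists_model_aux F hcn hS hsat hcc
    obtain ⟨hfin, hreal, hSyl, -⟩ := hmodel
    refine ⟨G, hG, hfin, ι, ?_, hreal, hSyl⟩
    apply Cfsg.Agent.Lib.Helper1.PSolvExt.isPSolvable_of_ker p θ hθs hsolA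
    rintro ⟨g, hg⟩
    obtain ⟨z, rfl⟩ := hker g hg
    obtain ⟨k, hk⟩ := hS (Cfsg.Agent.Lib.Helper1.Model.jHom hcn.1 z)
    refine ⟨k, Subtype.ext ?_⟩
    show (ι (Cfsg.Agent.Lib.Helper1.Model.jHom hcn.1 z)) ^ (p ^ k) = 1
    rw [← map_pow, hk, map_one]

end Cfsg.Agent.S5292
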