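import Mathlib
import Cfsg.Statements.S5299
import Cfsg.Agent.Lib.Lead.Fus11

set_option autoImplicit false
universe u

open Cfsg

namespace Cfsg.Agent.S5299

theorem result {Ω : Type u} [Group Ω] {S : Subgroup Ω} [Finite S] (p : ℕ) [Fact p.Prime] (hS : IsPGroup p S)
    (F : Cfsg.FusionSystem S) (hF : F.IsSaturated p) (H : Type*) [Group H] [Finite H] (Q : Subgroup H) (hQ : IsPGroup p Q)
    (hfree : ¬ Cfsg.Involves (↥Q) (↥S)) : F.IsSectionFree p H := by
  exact Cfsg.Agent.Lib.Lead.Fus.sectionFree_of_not_involved p F H Q hQ hfree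

end Cfsg.Agent.S5299
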