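import Mathlib
import Cfsg.Statements.S5300
import Cfsg.Agent.Lib.Lead.Fus6

set_option autoImplicit false
universe u

open Cfsg

namespace Cfsg.Agent.S5300

theorem result {Ω : Type u} [Group Ω] {S : Subgroup Ω} [Finite S] (p : ℕ) [Fact p.Prime] (hS : IsPGroup p S)
    (F : Cfsg.FusionSystem S) (hF : F.IsSaturated p)
    (hnorm : ∀ x ∈ F.focalSubgroup, (x ^ p = 1 ∨ (p = 2 ∧ x ^ 4 = 1)) → ∀ s ∈ S, s * x * s⁻¹ ∈ Subgroup.zpowers x) :
    F.IsNormal S := by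
  exact Cfsg.Agent.Lib.Lead.Fus.top_normal_of_small_normal p hS F hF hnorm

end Cfsg.Agent.S5300
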