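import Cfsg.Statements.S5317
import Cfsg.Agent.Lib.Helper2.FusSimp3

set_option autoImplicit false
open Cfsg

namespace Cfsg.Agent.S5317

/-- Let F be a finite field of odd order q with q² ≡ 1 mod 16 (so that a Sylow 2-subgroup of PSL(2,q), dihedral of order the 2-part of (q²−1)/2, has order at least 8). Then the 2-fusion system of PSL(2,F) on a Sylow 2-subgroup is simple: saturated, over a nontrivial 2-group, with no normal subsystem other than the trivial one and itself. -/
theorem result {F : Type*} [Field F] [Fintype F] (hodd : Fintype.card F % 2 = 1) (h16 : 16 ∣ Fintype.card F ^ 2 - 1)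
    (S : Sylow 2 (Matrix.ProjectiveSpecialLinearGroup (Fin 2) F)) :
    (Cfsg.groupFusionSystem (S : Subgroup (Matrix.ProjectiveSpecialLinearGroup (Fin 2) F))).IsSimple 2 := by
  obtain ⟨a, ha, ⟨e⟩⟩ := Cfsg.Agent.Lib.Helper2.FusSimp.psl2_sylow_dihedral hodd h16 S
  have hAut : IsPGroup 2 (MulAut (S : Subgroup (Matrix.ProjectiveSpecialLinearGroup (Fin 2) F))) :=
    (Cfsg.Agent.Lib.Helper2.FusSimp.isPGroup_mulAut_dihedral a ha).of_equiv (MulAut.congr e).symm
  have hgen := Cfsg.Agent.Lib.Helper2.FusSimp.le_closure_involutions _ e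
  have hS1 : (S : Subgroup (Matrix.ProjectiveSpecialLinearGroup (Fin 2) F)) ≠ ⊥ := by
    intro hb
    have h1 := Nat.card_congr e.toEquiv
    rw [DihedralGroup.nat_card, hb, Subgroup.card_bot] at h1
    have : 0 < 2 ^ a := pow_pos (by norm_num) a
    omega
  exact Cfsg.Agent.S5160.result 2 S hS1
    (Cfsg.Agent.Lib.Helper2.FusSimp.stronglyClosed_eq_of_involutions S
      (Cfsg.Agent.Lib.Helper2.FusSimp.psl2_involutions_conj hodd) hgen)
    (Cfsg.Agent.Lib.Helper2.FusSimp.hb_of_aut_pgroup S hAut)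

end Cfsg.Agent.S5317
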