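import Cfsg.Statements.S5327
import Cfsg.Agent.Lib.Helper2.EssGen2

set_option autoImplicit false
open Cfsg Cfsg.FusionSystem Cfsg.Agent.Lib.Helper9 Cfsg.Agent.Lib.Helper2.EssGen

namespace Cfsg.Agent.S5327

/-- Let F be a saturated fusion system over a finite p-group S. Call a family of subgroups of S generating when every fusion system over S whose automorphism group of each member R contains Aut_F(R) contains every map of F. If two families are each closed under F-conjugacy and each generating, then their intersection is generating. -/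
theorem result {Ω : Type*} [Group Ω] {S : Subgroup Ω} [Finite S] (p : ℕ) [Fact p.Prime] (hS : IsPGroup p S) (F : Cfsg.FusionSystem S) (hF : F.IsSaturated p) (𝒬₁ 𝒬₂ : Set (Subgroup Ω)) (h₁ : ∀ R ∈ 𝒬₁, ∀ R' : Subgroup Ω, F.IsConj R R' → R' ∈ 𝒬₁) (h₂ : ∀ R ∈ 𝒬₂, ∀ R' : Subgroup Ω, F.IsConj R R' → R' ∈ 𝒬₂) (hg₁ : ∀ E : Cfsg.FusionSystem S, (∀ R ∈ 𝒬₁, F.autGroup R ≤ E.autGroup R) → F ≤ E) (hg₂ : ∀ E : Cfsg.FusionSystem S, (∀ R ∈ 𝒬₂, F.autGroup R ≤ E.autGroup R) → F ≤ E) (E : Cfsg.FusionSystem S) (hE : ∀ R ∈ 𝒬₁ ∩ 𝒬₂, F.autGroup R ≤ E.autGroup R) : F ≤ E := by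
  -- a conjugacy-closed generating family contains every essential subgroup
  have key : ∀ 𝒬 : Set (Subgroup Ω), (∀ R ∈ 𝒬, ∀ R' : Subgroup Ω, F.IsConj R R' → R' ∈ 𝒬) →
      (∀ E : Cfsg.FusionSystem S, (∀ R ∈ 𝒬, F.autGroup R ≤ E.autGroup R) → F ≤ E) →
      ∀ P : Subgroup Ω, F.IsEssential p P → P ∈ 𝒬 := by
    intro 𝒬 hcl hg P hess
    by_contra hP
    obtain ⟨E', hE'1, hE'2⟩ := main p hS F hF P hess
    apply hE'2
    apply hg
    intro R hR
    by_cases hRS : R ≤ S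
    · apply hE'1 R hRS
      intro hc
      exact hP (hcl R hR P (isConj_symm F hc))
    · apply Subgroup.closure_mono
      intro α hα
      exact absurd (hom_le F hα) hRS
  -- a generating family not containing S forces Aut_F(S) to be inner
  have keyS : ∀ 𝒬 : Set (Subgroup Ω),
      (∀ E : Cfsg.FusionSystem S, (∀ R ∈ 𝒬, F.autGroup R ≤ E.autGroup R) → F ≤ E) →
      S ∉ 𝒬 → F.autGroup S ≤ E.autGroup S := by
    intro 𝒬 hg hSQ
    obtain ⟨E', hE'⟩ := exists_topSys F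
    have hle : F ≤ E' := by
      apply hg
      intro R hR
      apply Subgroup.closure_mono
      intro α hα
      show R.subtype.comp α.toMonoidHom ∈ E'.Hom R
      rw [hE']
      refine ⟨hα, ?_⟩
      intro hRS
      exact absurd (hRS ▸ hR) hSQ
    apply Subgroup.closure_mono
    intro α hα
    have h1 := hle S hα
    rw [hE'] at h1
    exact innerFusionSystem_le E S (h1.2 rfl)
  apply alperin p hS F hF E
  rintro P (rfl | hess)
  · by_cases h1 : P ∈ 𝒬₁
    · by_cases h2 : P ∈ 𝒬₂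
      · exact hE P ⟨h1, h2⟩
      · exact keyS 𝒬₂ hg₂ h2
    · exact keyS 𝒬₁ hg₁ h1
  · exact hE P ⟨key 𝒬₁ h₁ hg₁ P hess, key 𝒬₂ h₂ hg₂ P hess⟩

end Cfsg.Agent.S5327
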