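import Mathlib
import Cfsg.Statements.S5331
import Cfsg.Agent.Lib.Lead.Fus8

set_option autoImplicit false

open Cfsg

namespace Cfsg.Agent.S5331

theorem result {Ω : Type*} [Group Ω] {S : Subgroup Ω} [Finite S] (n : ℕ) (a : Fin n → ℕ) (ha : StrictMono a) (ha1 : ∀ i, 1 ≤ a i) (e : ↥S ≃* Multiplicative ((i : Fin n) → ZMod (2 ^ a i))) (F : Cfsg.FusionSystem S) (hF : F.IsSaturated 2) (P : Subgroup Ω) : F.Hom P = (Cfsg.innerFusionSystem S).Hom P := by
  exact Cfsg.Agent.Lib.Lead.Fus.inner_of_distinct_cyclic n a ha ha1 e F hF P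

end Cfsg.Agent.S5331
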