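import Cfsg.Statements.S5340
import Cfsg.Agent.Lib.Helper9.FusionSimple

set_option autoImplicit false
open Cfsg

namespace Cfsg.Agent.S5340

/-- Let F be a saturated fusion system over a nontrivial finite p-group S such that S is generated by its elements of order p, any two subgroups of S of order p are F-conjugate, and Aut_F(S) consists of inner automorphisms only. Then F is simple. -/
theorem result {Ω : Type*} [Group Ω] {S : Subgroup Ω} [Finite S] (p : ℕ) [Fact p.Prime] (hS : IsPGroup p S) (F : Cfsg.FusionSystem S) (hF : F.IsSaturated p) (hS1 : S ≠ ⊥) (hgen : Subgroup.closure {x : Ω | x ∈ S ∧ orderOf x = p} = S) (htr : ∀ A B : Subgroup Ω, A ≤ S → B ≤ S → Nat.card A = p → Nat.card B = p → F.IsConj A B) (htop : F.autGroup S = Cfsg.Inn ↥S) : F.IsSimple p := by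
  apply Cfsg.Agent.Lib.Helper9.simple_of_inner_top p F hF hS1 htop
  intro T hT
  by_cases hTb : T = ⊥
  · exact Or.inl hTb
  · right
    have hTS : T ≤ S := hT.1
    have hfinT : Finite T := Cfsg.Agent.Lib.Helper9.finite_of_le hTS
    have hTp : IsPGroup p T := Cfsg.Agent.Lib.Helper9.isPGroup_of_le hS hTS
    have hcard : Nat.card T ≠ 1 := fun h1 => hTb (Subgroup.card_eq_one.mp h1)
    have hdvd : p ∣ Nat.card T := (hTp.card_eq_or_dvd).resolve_left hcard
    obtain ⟨t, ht⟩ := exists_prime_orderOf_dvd_card' p hdvd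
    have ht' : orderOf (t : Ω) = p := by rw [Subgroup.orderOf_coe]; exact ht
    have hAT : Subgroup.zpowers (t : Ω) ≤ T := by
      rw [Subgroup.zpowers_le]; exact t.2
    apply le_antisymm hTS
    rw [← hgen, Subgroup.closure_le]
    rintro x ⟨hxS, hxp⟩
    have hconj := htr (Subgroup.zpowers (t : Ω)) (Subgroup.zpowers x) (hAT.trans hTS)
      (by rw [Subgroup.zpowers_le]; exact hxS)
      (by rw [Nat.card_zpowers, ht']) (by rw [Nat.card_zpowers, hxp])
    obtain ⟨φ, hφ, hφr⟩ := hconj
    have hx : x ∈ φ.range := by rw [hφr]; exact Subgroup.mem_zpowers x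
    obtain ⟨a, rfl⟩ := hx
    exact hT.2 _ hAT φ hφ a

end Cfsg.Agent.S5340
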