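import Cfsg.Statements.S5343
import Cfsg.Agent.Lib.Helper2.NSys3

set_option autoImplicit false
universe u
open Cfsg

namespace Cfsg.Agent.S5343

/-- Let F be a simple saturated fusion system over a finite p-group S that is realized by some finite group on a Sylow p-subgroup. Then F is realized by a finite simple group on a Sylow p-subgroup. -/
theorem result {Ω : Type u} [Group Ω] {S : Subgroup Ω} [Finite S] (p : ℕ) [Fact p.Prime] (hS : IsPGroup p S) (F : Cfsg.FusionSystem S) (hsimple : F.IsSimple p) (hreal : F.IsRealizable p) : ∃ (G : Type u) (_ : Group G) (_ : Finite G) (_ : IsSimpleGroup G) (ι : ↥S →* G), F.IsRealizedBy ι ∧ ∃ T : Sylow p G, (T : Subgroup G) = ι.range := by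
  have hex : ∃ n : ℕ, ∃ (G : Type u) (_ : Group G) (_ : Finite G) (ι : ↥S →* G),
      F.IsRealizedBy ι ∧ (∃ T : Sylow p G, (T : Subgroup G) = ι.range) ∧ Nat.card G = n := by
    obtain ⟨G, hG, hfin, ι, hι, hT⟩ := hreal
    exact ⟨Nat.card G, G, hG, hfin, ι, hι, hT, rfl⟩
  classical
  obtain ⟨G, hG, hfin, ι, hι, ⟨Sy, hSy⟩, hcard⟩ := Nat.find_spec hex
  have hmin : ∀ (G' : Type u) [Group G'] [Finite G'] (ι' : ↥S →* G'), F.IsRealizedBy ι' →
      (∃ T : Sylow p G', (T : Subgroup G') = ι'.range) → Nat.card G ≤ Nat.card G' := by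
    intro G' hG' hfin' ι' h1 h2
    rw [hcard]
    exact Nat.find_min' hex ⟨G', hG', hfin', ι', h1, h2, rfl⟩
  refine ⟨G, hG, hfin, ?_, ι, hι, Sy, hSy⟩
  exact Cfsg.Agent.Lib.Helper2.NSys.simple_of_minimal p hS F hsimple ι hι Sy hSy hmin

end Cfsg.Agent.S5343
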