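import Cfsg.Statements.S5344
import Cfsg.Agent.Lib.Helper3.S4Cox

set_option autoImplicit false
open Cfsg

namespace Cfsg.Agent.S5344

/-- In a set of 3-transpositions, let a, b, c be members with a and c different and commuting, while neither a nor c commutes with b (a 3-string). Then there is an injective homomorphism from the symmetric group of degree 4 into the ambient group sending the transpositions (0 1), (1 2), (2 3) to a, b, c; so a, b, c generate a copy of the symmetric group of degree 4 in which they are transpositions. -/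
theorem result {G : Type*} [Group G] {D : Set G} (hD : Cfsg.IsThreeTranspositionSet D) {a b c : G} (ha : a ∈ D) (hb : b ∈ D) (hc : c ∈ D) (hac : a ≠ c) (hac' : Commute a c) (hab : ¬ Commute a b) (hbc : ¬ Commute b c) : ∃ φ : Equiv.Perm (Fin 4) →* G, Function.Injective φ ∧ φ (Equiv.swap 0 1) = a ∧ φ (Equiv.swap 1 2) = b ∧ φ (Equiv.swap 2 3) = c := by
  have hsq : ∀ d ∈ D, d * d = 1 := by
    intro d hd
    have := hD.1 d hd
    rw [← pow_two, ← this]; exact pow_orderOf_eq_one d
  have ha2 := hsq a ha
  have hb2 := hsq b hb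
  have hc2 := hsq c hc
  have hab3 : (a * b) ^ 3 = 1 := by
    rcases hD.2 a ha b hb with h | h
    · exact absurd (Cfsg.Agent.Lib.Helper3.S4C.comm_of_sq ha2 hb2 h) hab
    · exact h
  have hbc3 : (b * c) ^ 3 = 1 := by
    rcases hD.2 b hb c hc with h | h
    · exact absurd (Cfsg.Agent.Lib.Helper3.S4C.comm_of_sq hb2 hc2 h) hbc
    · exact h
  exact Cfsg.Agent.Lib.Helper3.S4C.exists_hom_of_relations ha2 hb2 hc2 hab3 hbc3 hac'.eq hac

end Cfsg.Agent.S5344
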