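import Cfsg.Statements.S5346
import Cfsg.Agent.Lib.Helper3.TT1
import Cfsg.Agent.Lib.Helper1.PCore

set_option autoImplicit false
open Cfsg

namespace Cfsg.Agent.S5346

/-- Let D be a conjugation-invariant generating set of 3-transpositions of a finite group G and d a member of D. Then D has width 1 (no two different members of D commute) if and only if G is the product of the subgroup generated by d with the largest normal 3-subgroup of G. -/
theorem result {G : Type*} [Group G] [Finite G] {D : Set G} (hD : Cfsg.IsThreeTranspositionGroup D) {d : G} (hd : d ∈ D) : Cfsg.commutingWidth D = 1 ↔ Subgroup.zpowers d ⊔ Cfsg.pCore 3 G = ⊤ := by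
  classical
  have hT := Cfsg.Agent.Lib.Helper3.TT.TSet.of_group hD
  have hgen : Subgroup.closure D = ⊤ := hD.2.2
  have h3 : Fact (Nat.Prime 3) := ⟨by norm_num⟩
  have hn := Cfsg.Agent.Lib.Helper1.pCore_normal (G := G) 3
  rw [Cfsg.Agent.Lib.Helper3.TT.width_eq_one_iff ⟨d, hd⟩]
  constructor
  · intro hw
    obtain ⟨T, hTn, hTp, hTd⟩ :=
      Cfsg.Agent.Lib.Helper3.TT.exists_normal_three hT hgen hw hd
    have hTle : T ≤ Cfsg.pCore 3 G := Cfsg.Agent.Lib.Helper1.le_pCore hTn hTp
    rw [eq_top_iff, ← hgen, Subgroup.closure_le]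
    intro e he
    have h1 : e * d ∈ Cfsg.pCore 3 G := hTle (hTd e he)
    have h2 : d ∈ Subgroup.zpowers d := Subgroup.mem_zpowers d
    have h3' : e = (e * d) * d := by rw [mul_assoc, hT.sq d hd, mul_one]
    rw [h3', sup_comm]
    exact Subgroup.mul_mem_sup h1 h2
  · intro htop a ha b hb hab
    by_contra hne
    -- Q is a 3-group: no involutions
    have hQ : IsPGroup 3 (Cfsg.pCore 3 G) := Cfsg.Agent.Lib.Helper1.pCore_isPGroup 3
    have noinv : ∀ x : G, x ∈ Cfsg.pCore 3 G → x * x = 1 → x = 1 := by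
      intro x hx hxx
      obtain ⟨k, hk⟩ := hQ ⟨x, hx⟩
      have hk' : x ^ 3 ^ k = 1 := by
        have := congrArg Subtype.val hk
        simpa using this
      have h2 : x ^ 2 = 1 := by rw [pow_two]; exact hxx
      have hcop : Nat.Coprime (3 ^ k) 2 := by
        apply Nat.Coprime.pow_left; norm_num
      have := orderOf_dvd_of_pow_eq_one hk'
      have h2' := orderOf_dvd_of_pow_eq_one h2
      have h1 : orderOf x ∣ 1 := by
        have := Nat.dvd_gcd this h2'
        rwa [hcop.gcd_eq_one] at this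
      exact orderOf_eq_one_iff.mp (Nat.dvd_one.mp h1)
    -- every x is in Q or d*x is in Q
    have hdich : ∀ x : G, x ∈ Cfsg.pCore 3 G ∨ d * x ∈ Cfsg.pCore 3 G := by
      intro x
      have hx : x ∈ Subgroup.zpowers d ⊔ Cfsg.pCore 3 G := by rw [htop]; trivial
      have hx' : x ∈ ((Subgroup.zpowers d ⊔ Cfsg.pCore 3 G : Subgroup G) : Set G) := hx
      rw [Subgroup.mul_normal] at hx'
      obtain ⟨z, hz, q, hq, rfl⟩ := Set.mem_mul.mp hx'
      have hz : z ∈ Subgroup.zpowers d := hz
      have hq : q ∈ Cfsg.pCore 3 G := hq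
      rw [Subgroup.mem_zpowers_iff] at hz
      obtain ⟨k, rfl⟩ := hz
      have hd2 : d ^ (2 : ℤ) = 1 := by
        rw [zpow_ofNat, pow_two]; exact hT.sq d hd
      rcases Int.even_or_odd k with ⟨m, hm⟩ | ⟨m, hm⟩
      · left
        have : d ^ k = 1 := by
          rw [hm, ← two_mul, zpow_mul, hd2, one_zpow]
        rw [this, one_mul]; exact hq
      · right
        have : d ^ k = d := by
          rw [hm, zpow_add, zpow_mul, hd2, one_zpow, one_mul, zpow_one]
        rw [this, ← mul_assoc, hT.sq d hd, one_mul]; exact hq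
    -- members of D are not in Q
    have hDnot : ∀ e ∈ D, e ∉ Cfsg.pCore 3 G := by
      intro e he heQ
      exact hT.ne_one e he (noinv e heQ (hT.sq e he))
    have hda : d * a ∈ Cfsg.pCore 3 G := (hdich a).resolve_left (hDnot a ha)
    have hdb : d * b ∈ Cfsg.pCore 3 G := (hdich b).resolve_left (hDnot b hb)
    have hab' : a * b ∈ Cfsg.pCore 3 G := by
      have h1 : (d * a)⁻¹ * (d * b) ∈ Cfsg.pCore 3 G := mul_mem (inv_mem hda) hdb
      have e1 : (d * a)⁻¹ * (d * b) = a⁻¹ * b := by group
      rw [e1, hT.inv ha] at h1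
      exact h1
    have hsq : (a * b) * (a * b) = 1 := by
      calc (a * b) * (a * b) = a * (b * a) * b := by simp [mul_assoc]
        _ = a * (a * b) * b := by rw [hab]
        _ = (a * a) * (b * b) := by simp [mul_assoc]
        _ = 1 := by rw [hT.sq a ha, hT.sq b hb, one_mul]
    have h1 := noinv _ hab' hsq
    apply hne
    have : a = b⁻¹ := eq_inv_of_mul_eq_one_left h1
    rw [this, hT.inv hb]

end Cfsg.Agent.S5346
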