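import Cfsg.Statements.S5354
import Cfsg.Agent.Lib.Helper3.TT14
import Cfsg.Agent.S5353

set_option autoImplicit false
open Cfsg

namespace Cfsg.Agent.S5354

/-- Let D be a conjugation-invariant generating set of 3-transpositions of the finite group G on which G acts primitively by conjugation, and suppose two different members of D commute (width at least 2). Then G has a quasisimple normal subgroup L of index at most 2 with the generalized Fitting subgroup of G equal to L times the centre, the commuting graph of D is connected, and for d in D the subgroup generated by the members of D commuting with d is a maximal D-subgroup: it is proper, and every subgroup generated by members of D that contains it is either it or G. -/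
theorem result {G : Type*} [Group G] [Finite G] {D : Set G} (hD : Cfsg.IsThreeTranspositionGroup D) (hprim : Cfsg.IsPrimitiveUnderConj D) (hw : ∃ a ∈ D, ∃ b ∈ D, a ≠ b ∧ Commute a b) : (∃ L : Subgroup G, L.Normal ∧ Cfsg.IsQuasisimple L ∧ L.index ≤ 2 ∧ Cfsg.generalizedFittingSubgroup G = L ⊔ Subgroup.center G) ∧ (Cfsg.commutingGraph D).Connected ∧ ∀ d ∈ D, Subgroup.closure {y : G | y ∈ D ∧ Commute d y} ≠ ⊤ ∧ ∀ H : Subgroup G, Cfsg.IsDSubgroup D H → Subgroup.closure {y : G | y ∈ D ∧ Commute d y} ≤ H → H = Subgroup.closure {y : G | y ∈ D ∧ Commute d y} ∨ H = ⊤ := by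
  obtain ⟨hDc, h2, h3, hconn⟩ := Cfsg.Agent.Lib.Helper3.TT.primitive_structure hD hprim hw
  have hD2 : ∃ a ∈ D, ∃ b ∈ D, a ≠ b := by
    obtain ⟨a, ha, b, hb, hab, _⟩ := hw
    exact ⟨a, ha, b, hb, hab⟩
  refine ⟨?_, hconn, ?_⟩
  · obtain ⟨L, hLc, hLn, hlay, hfit⟩ :=
      Cfsg.Agent.Lib.Helper3.TT.central_cores_structure hDc hD2 h2 h3
    have hF : Cfsg.generalizedFittingSubgroup G = L ⊔ Subgroup.center G := by
      unfold Cfsg.generalizedFittingSubgroup
      rw [hlay, hfit]
    haveI : L.Normal := hLn
    exact ⟨L, hLn, hLc.2, (Cfsg.Agent.S5353.result hDc hD2 h2 h3 L hLc.2 hF).2 hconn, hF⟩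
  · intro d hd
    exact Cfsg.Agent.Lib.Helper3.TT.centralizer_maximal hD hprim hw hd

end Cfsg.Agent.S5354
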