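import Cfsg.Statements.S5355
import Cfsg.Agent.Lib.Helper3.TT9
import Cfsg.Agent.Lib.Helper3.S4Cox

set_option autoImplicit false
open Cfsg

namespace Cfsg.Agent.S5355

/-- Let D be a conjugacy class of 3-transpositions generating the finite group G, with at least two members, and d a member of D. Suppose that every member of D commuting with d commutes with exactly the same members of D as d does, and that exactly one member of D other than d commutes with d. Then G is isomorphic to the symmetric group of degree 4. -/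
theorem result {G : Type*} [Group G] [Finite G] {D : Set G} (hD : Cfsg.IsThreeTranspositionClass D) (hD2 : ∃ a ∈ D, ∃ b ∈ D, a ≠ b) {d : G} (hd : d ∈ D) (hV : {y : G | y ∈ D ∧ Commute d y} = {v : G | v ∈ D ∧ ∀ e ∈ D, Commute v e ↔ Commute d e}) (hm : {y : G | y ∈ D ∧ Commute d y}.ncard = 2) : Nonempty (G ≃* Equiv.Perm (Fin 4)) := by
  classical
  have hT := Cfsg.Agent.Lib.Helper3.TT.TSet.of_class hD
  have hV' : ∀ y ∈ D, d * y = y * d → Cfsg.Agent.Lib.Helper3.TT.SameP D d y := by
    intro y hy hc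
    have h1 : y ∈ {y : G | y ∈ D ∧ Commute d y} := ⟨hy, hc⟩
    rw [hV] at h1
    exact h1.2
  obtain ⟨e, d', he, hd', hne, hdd', hed, hed', hcl⟩ :=
    Cfsg.Agent.Lib.Helper3.TT.perp_two_closure hD hD2 hd hV' hm
  have hde3 : (d * e) ^ 3 = 1 := hT.cube hd he (fun hh => hed hh.symm)
  have hed3 : (e * d') ^ 3 = 1 := hT.cube he hd' hed'
  obtain ⟨φ, hinj, h0, h1, h2⟩ := Cfsg.Agent.Lib.Helper3.S4C.exists_hom_of_relations
    (hT.sq d hd) (hT.sq e he) (hT.sq d' hd') hde3 hed3 hdd' hne
  have hsub : D ⊆ φ.range :=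
    hcl φ.range ⟨_, h0⟩ ⟨_, h1⟩ ⟨_, h2⟩
  have hsurj : Function.Surjective φ := by
    rw [← MonoidHom.range_eq_top, eq_top_iff, ← hD.2.2, Subgroup.closure_le]
    exact hsub
  exact ⟨(MulEquiv.ofBijective φ ⟨hinj, hsurj⟩).symm⟩

end Cfsg.Agent.S5355
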