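import Cfsg.Statements.S5361
import Cfsg.Agent.Lib.Helper3.TT12
import Cfsg.Agent.S5353

set_option autoImplicit false
open Cfsg

namespace Cfsg.Agent.S5361

/-- Let D be a conjugacy class of 3-transpositions generating the finite group G, and suppose the centre of G is trivial and some two different members of D commute. Then the following are equivalent: (1) the commutator subgroup of G is simple (possibly of prime order); (2) G acts primitively on D by conjugation; (3) the largest normal 2-subgroup and the largest normal 3-subgroup of G are trivial and the commuting graph of D is connected. -/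
theorem result {G : Type*} [Group G] [Finite G] {D : Set G} (hD : Cfsg.IsThreeTranspositionClass D) (hZ : Subgroup.center G = ⊥) (hw : ∃ a ∈ D, ∃ b ∈ D, a ≠ b ∧ Commute a b) : (IsSimpleGroup (commutator G) ↔ Cfsg.IsPrimitiveUnderConj D) ∧ (Cfsg.IsPrimitiveUnderConj D ↔ (Cfsg.pCore 2 G = ⊥ ∧ Cfsg.pCore 3 G = ⊥ ∧ (Cfsg.commutingGraph D).Connected)) := by
  classical
  have hT := Cfsg.Agent.Lib.Helper3.TT.TSet.of_class hD
  have hG : Cfsg.IsThreeTranspositionGroup D := ⟨hD.1, hT.conj, hD.2.2⟩
  have hD2 : ∃ a ∈ D, ∃ b ∈ D, a ≠ b := by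
    obtain ⟨a, ha, b, hb, hab, -⟩ := hw
    exact ⟨a, ha, b, hb, hab⟩
  obtain ⟨d, hd, -⟩ := hD.2.1
  -- all members of `D` are congruent modulo the commutator subgroup
  have hcommD : ∀ b ∈ D, d * b ∈ commutator G := by
    intro b hb
    obtain ⟨g, hg⟩ := Cfsg.Agent.Lib.Helper3.TT.class_conj hD hd hb
    have e : d * b = d * g * d⁻¹ * g⁻¹ := by
      rw [← hg, hT.inv hd]; group
    rw [e]
    exact Subgroup.commutator_mem_commutator (Subgroup.mem_top d) (Subgroup.mem_top g)
  have hidx : ∀ N : Subgroup G, N.Normal → (∀ b ∈ D, d * b ∈ N) → N.index ≤ 2 := by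
    intro N hN hall
    have htop : Subgroup.zpowers d ⊔ N = ⊤ := by
      rw [eq_top_iff, ← hD.2.2, Subgroup.closure_le]
      intro b hb
      have e : b = d * (d * b) := by rw [← mul_assoc, hT.sq d hd, one_mul]
      rw [e]
      exact Subgroup.mul_mem_sup (Subgroup.mem_zpowers d) (hall b hb)
    have h1 : N.index = N.relIndex (Subgroup.zpowers d) := by
      rw [← Subgroup.relIndex_top_right, ← htop, Subgroup.relIndex_sup_right]
    have h2' : N.relIndex (Subgroup.zpowers d) ∣ Nat.card (Subgroup.zpowers d) :=
      Subgroup.relIndex_dvd_card _ _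
    rw [Nat.card_zpowers, hT.orderOf_eq hd] at h2'
    rw [h1]
    exact Nat.le_of_dvd (by norm_num) h2'
  -- from central cores and a connected graph to primitivity
  have key32 : Cfsg.pCore 2 G ≤ Subgroup.center G → Cfsg.pCore 3 G ≤ Subgroup.center G →
      (Cfsg.commutingGraph D).Connected →
      Cfsg.IsPrimitiveUnderConj D ∧ ∃ L : Subgroup G, Cfsg.IsComponent L ∧ L.index ≤ 2 := by
    intro h2 h3 hconn
    obtain ⟨L, hL, hLn, hlayer, hF⟩ :=
      Cfsg.Agent.Lib.Helper3.TT.central_cores_structure hD hD2 h2 h3
    have hFs : Cfsg.generalizedFittingSubgroup G = L ⊔ Subgroup.center G := by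
      unfold Cfsg.generalizedFittingSubgroup
      rw [hlayer, hF]
    have := Cfsg.Agent.S5353.result hD hD2 h2 h3 L hL.2 hFs
    exact ⟨this.1 (this.2 hconn), L, hL, this.2 hconn⟩
  have key2 : Cfsg.IsPrimitiveUnderConj D →
      Cfsg.pCore 2 G = ⊥ ∧ Cfsg.pCore 3 G = ⊥ ∧ (Cfsg.commutingGraph D).Connected := by
    intro hprim
    obtain ⟨-, h2, h3, hconn⟩ := Cfsg.Agent.Lib.Helper3.TT.primitive_structure hG hprim hw
    rw [hZ] at h2 h3
    exact ⟨le_bot_iff.mp h2, le_bot_iff.mp h3, hconn⟩
  refine ⟨⟨?_, ?_⟩, ⟨key2, ?_⟩⟩
  · -- simple commutator subgroup ⟹ primitive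
    intro hsimple
    by_cases hna : ∀ a b : ↥(commutator G), a * b = b * a
    · exfalso
      obtain ⟨a, ha, b, hb, hab, hc⟩ := hw
      have hc' : a * b = b * a := hc
      obtain ⟨g, hg⟩ := Cfsg.Agent.Lib.Helper3.TT.class_conj hD hb ha
      have hx : a * b ∈ commutator G := by
        have e : a * b = g * b * g⁻¹ * b⁻¹ := by
          rw [← hg, hT.inv hb]
        rw [e]
        exact Subgroup.commutator_mem_commutator (Subgroup.mem_top g) (Subgroup.mem_top b)
      have hx1 : a * b ≠ 1 := by
        intro hh
        apply hab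
        have := eq_inv_of_mul_eq_one_left hh
        rw [this, hT.inv hb]
      have hxx : (a * b) * (a * b) = 1 := by
        calc a * b * (a * b) = a * (b * a) * b := by group
          _ = a * (a * b) * b := by rw [hc']
          _ = (a * a) * (b * b) := by group
          _ = 1 := by rw [hT.sq a ha, hT.sq b hb, one_mul]
      -- the subgroup generated by `a b` in the commutator subgroup is everything
      let x : ↥(commutator G) := ⟨a * b, hx⟩
      have hZn : (Subgroup.zpowers x).Normal := by
        constructor
        intro n hn g'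
        have : g' * n * g'⁻¹ = n := by rw [hna g' n]; group
        rw [this]; exact hn
      have hZtop : Subgroup.zpowers x = ⊤ := by
        rcases hZn.eq_bot_or_eq_top with h | h
        · exfalso
          apply hx1
          have : x ∈ Subgroup.zpowers x := Subgroup.mem_zpowers x
          rw [h, Subgroup.mem_bot] at this
          exact congrArg Subtype.val this
        · exact h
      have hcomm2 : ∀ y ∈ commutator G, y = 1 ∨ y = a * b := by
        intro y hy
        have : (⟨y, hy⟩ : ↥(commutator G)) ∈ Subgroup.zpowers x := by rw [hZtop]; trivial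
        obtain ⟨k, hk⟩ := Subgroup.mem_zpowers_iff.mp this
        have hk' : (a * b) ^ k = y := by
          have := congrArg Subtype.val hk
          simpa [x] using this
        have hx2 : (a * b) ^ (2 : ℤ) = 1 := by
          rw [zpow_ofNat, pow_two]; exact hxx
        rcases Int.even_or_odd k with ⟨m, hm⟩ | ⟨m, hm⟩
        · left
          rw [← hk', hm, ← two_mul, zpow_mul, hx2, one_zpow]
        · right
          rw [← hk', hm, zpow_add, zpow_mul, hx2, one_zpow, one_mul, zpow_one]
      have hcen : a * b ∈ Subgroup.center G := by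
        rw [Subgroup.mem_center_iff]
        intro g'
        have hn : (commutator G).Normal := inferInstance
        have hmem : g' * (a * b) * g'⁻¹ ∈ commutator G := hn.conj_mem _ hx g'
        rcases hcomm2 _ hmem with h1 | h1
        · exfalso
          apply hx1
          have : a * b = g'⁻¹ * (g' * (a * b) * g'⁻¹) * g' := by group
          rw [this, h1]; group
        · calc g' * (a * b) = (g' * (a * b) * g'⁻¹) * g' := by group
            _ = (a * b) * g' := by rw [h1]
      rw [hZ, Subgroup.mem_bot] at hcen
      exact hx1 hcen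
    · -- nonabelian simple: a component
      have hq : Cfsg.IsQuasisimple ↥(commutator G) :=
        Cfsg.Agent.Lib.Helper2.isQuasisimple_of_simple hna
      have hn : (commutator G).Normal := inferInstance
      have hLc : Cfsg.IsComponent (commutator G) := ⟨hn.isSubnormal, hq⟩
      have h2 : Cfsg.pCore 2 G ≤ Subgroup.center G := by
        by_contra hnc
        exact Cfsg.Agent.Lib.Helper3.TT.no_component_of_pCore_not_central hD (Or.inl rfl) hnc hLc
      have h3 : Cfsg.pCore 3 G ≤ Subgroup.center G := by
        by_contra hnc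
        exact Cfsg.Agent.Lib.Helper3.TT.no_component_of_pCore_not_central hD (Or.inr rfl) hnc hLc
      have hi := hidx (commutator G) hn hcommD
      refine ⟨fun a ha b hb => Cfsg.Agent.Lib.Helper3.TT.class_conj hD ha hb, hD2, ?_⟩
      intro B hBD hblk
      by_cases hs : B.Subsingleton
      · left; exact hs
      · right
        exact Cfsg.Agent.Lib.Helper3.TT.block_eq_of_index_le_two hD hD2 h2 h3 hLc hi hBD hblk hs
  · -- primitive ⟹ simple commutator subgroup
    intro hprim
    obtain ⟨h2b, h3b, hconn⟩ := key2 hprim
    have h2 : Cfsg.pCore 2 G ≤ Subgroup.center G := by rw [h2b]; exact bot_le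
    have h3 : Cfsg.pCore 3 G ≤ Subgroup.center G := by rw [h3b]; exact bot_le
    obtain ⟨-, L, hL, hLi⟩ := key32 h2 h3 hconn
    have hLn : L.Normal := Cfsg.Agent.Lib.Helper3.TT.comp_normal hD hL
    -- `commutator G = L`
    have hle1 : commutator G ≤ L := by
      rw [commutator_def, Subgroup.commutator_le]
      intro x _ y _
      -- `G ⧸ L` is commutative since it has at most 2 elements
      have hc : (QuotientGroup.mk x : G ⧸ L) * QuotientGroup.mk y =
          QuotientGroup.mk y * QuotientGroup.mk x := by
        have hcard : Nat.card (G ⧸ L) ≤ 2 := hLi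
        have hcyc : IsCyclic (G ⧸ L) := by
          have hpos : 0 < Nat.card (G ⧸ L) := Nat.card_pos
          have : Nat.card (G ⧸ L) = 1 ∨ Nat.card (G ⧸ L) = 2 := by omega
          rcases this with h1 | h1
          · have : Subsingleton (G ⧸ L) := (Nat.card_eq_one_iff_unique.mp h1).1
            exact isCyclic_of_subsingleton
          · have : Fact (Nat.Prime 2) := ⟨Nat.prime_two⟩
            exact isCyclic_of_prime_card h1
        have hmc : IsMulCommutative (G ⧸ L) := IsCyclic.isMulCommutative
        exact hmc.is_comm.comm _ _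
      have : (QuotientGroup.mk (x * y * x⁻¹ * y⁻¹) : G ⧸ L) = 1 := by
        rw [QuotientGroup.mk_mul, QuotientGroup.mk_mul,
          QuotientGroup.mk_mul, QuotientGroup.mk_inv, QuotientGroup.mk_inv, hc]
        group
      exact (QuotientGroup.eq_one_iff _).mp this
    have hle2 : L ≤ commutator G := by
      have hperf := Cfsg.Agent.Lib.Helper2.isComponent_perfect hL
      rw [← hperf, commutator_def]
      exact Subgroup.commutator_mono le_top le_top
    have hcomm : commutator G = L := le_antisymm hle1 hle2
    rw [hcomm]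
    apply Cfsg.Agent.Lib.Helper2.isSimpleGroup_of_isQuasisimple hL.2
    rw [eq_bot_iff]
    intro z hz
    rw [Subgroup.mem_bot]
    have hzG : (z : G) ∈ Subgroup.center G := by
      apply Cfsg.Agent.Lib.Helper3.TT.centralizer_comp_le_center hD hD2 h2 h3 hL
      rw [Subgroup.mem_centralizer_iff]
      intro y hy
      have := Subgroup.mem_center_iff.mp hz ⟨y, hy⟩
      exact congrArg Subtype.val this
    rw [hZ, Subgroup.mem_bot] at hzG
    exact Subtype.ext hzG
  · rintro ⟨h2b, h3b, hconn⟩
    have h2 : Cfsg.pCore 2 G ≤ Subgroup.center G := by rw [h2b]; exact bot_le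
    have h3 : Cfsg.pCore 3 G ≤ Subgroup.center G := by rw [h3b]; exact bot_le
    exact (key32 h2 h3 hconn).1

end Cfsg.Agent.S5361
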