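import Cfsg.Statements.S5392
import Cfsg.Agent.Lib.Helper9.LeechQ2

set_option autoImplicit false
open Cfsg

namespace Cfsg.Agent.S5392

/-- The Leech lattice modulo twice itself is a faithful irreducible module for the first Conway group: an automorphism of the rank-24 lattice built from the length-24 code that moves every lattice vector only by twice a lattice vector lies in the centre of the automorphism group (the centre consists of ±1, which act trivially there, so the kernel is exactly the centre), and an additive subgroup lying between twice the lattice and the lattice that is invariant under all lattice automorphisms is one of the two. -/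
theorem result : (∀ g : ↥Cfsg.Co0, (∀ v : ↥Cfsg.leechLattice, ∃ w : ↥Cfsg.leechLattice, ((g • v : ↥Cfsg.leechLattice) : Cfsg.GolayPt → ℤ) - (v : Cfsg.GolayPt → ℤ) = 2 • (w : Cfsg.GolayPt → ℤ)) → g ∈ Subgroup.center ↥Cfsg.Co0) ∧ ∀ M : AddSubgroup (Cfsg.GolayPt → ℤ), (∀ v ∈ Cfsg.leechLattice, (2 : ℤ) • v ∈ M) → M ≤ Cfsg.leechLattice → (∀ g : ↥Cfsg.Co0, ∀ v : ↥Cfsg.leechLattice, (v : Cfsg.GolayPt → ℤ) ∈ M → ((g • v : ↥Cfsg.leechLattice) : Cfsg.GolayPt → ℤ) ∈ M) → (∀ x ∈ M, ∃ w ∈ Cfsg.leechLattice, x = (2 : ℤ) • w) ∨ M = Cfsg.leechLattice := by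
  constructor
  · intro g hcg
    have hc : ∀ v : ↥Cfsg.leechLattice, ∃ w : ↥Cfsg.leechLattice,
        ((g.1 v : ↥Cfsg.leechLattice) : Cfsg.GolayPt → ℤ) - (v : Cfsg.GolayPt → ℤ)
          = 2 • (w : Cfsg.GolayPt → ℤ) := hcg
    rw [Subgroup.mem_center_iff]
    intro h
    apply Subtype.ext
    apply Equiv.ext
    intro v
    show h.1 (g.1 v) = g.1 (h.1 v)
    rcases Cfsg.Agent.Lib.Helper9.LeechQ1.pm_all g.1 g.2 hc with hp | hn
    · rw [hp, hp]
    · rw [hn, hn]
      have h1 := h.2.1 v (-v)
      rw [add_neg_cancel] at h1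
      have h0 : h.1 0 = 0 := by
        have := h.2.1 0 0
        rw [add_zero] at this
        exact left_eq_add.mp this
      rw [h0] at h1
      exact (neg_eq_of_add_eq_zero_right h1.symm).symm
  · intro M h2 hle hinv
    exact Cfsg.Agent.Lib.Helper9.LeechQ2.main M h2 hle (fun g hg v hv => hinv ⟨g, hg⟩ v hv)

end Cfsg.Agent.S5392
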