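import Cfsg.Statements.S5408
import Cfsg.Agent.Lib.Helper9.MTb

set_option autoImplicit false
open Cfsg

namespace Cfsg.Agent.S5408

/-- Let G be a finite group of Monster type at the involution z with Q the extraspecial normal subgroup of order 2^25 of C = C_G(z) (so C/Q is identified with the first Conway group with Q modulo its centre the Leech lattice modulo 2, and z is not weakly closed in Q). Then Q is of plus type: it contains an elementary abelian subgroup of order 2^13. -/
theorem result {G : Type*} [Group G] [Finite G] (z : G) (Q : Subgroup (Subgroup.centralizer ({z} : Set G))) [Q.Normal] (hM : Cfsg.IsOfMonsterType z Q) : ∃ E : Subgroup Q, Cfsg.IsElementaryAbelian 2 E ∧ Nat.card E = 2 ^ 13 := by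
  classical
  obtain ⟨⟨hz, hF, hQ, hcard, hfus⟩, e, ψ, hψ⟩ := hM
  have hc25 : Nat.card Q = 2 ^ 25 := by rw [hcard]
  have hc2 : 2 < Nat.card Q := by rw [hc25]; norm_num
  obtain ⟨z0, hD, _⟩ := Cfsg.Agent.Lib.Helper4.ES2.data_top hQ
  obtain ⟨A, hAle, hA2, hAidx, hA32⟩ := Cfsg.Agent.S5553.result
  -- the homomorphism
  let ψm : Multiplicative ↥Cfsg.leechLattice →* Q ⧸ Subgroup.center Q :=
    { toFun := fun v => ψ (Multiplicative.toAdd v)
      map_one' := Cfsg.Agent.Lib.Helper9.MTb.psi_zero hψ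
      map_mul' := fun a b => hψ.1 _ _ }
  have hψm : Function.Surjective ψm := fun y => by
    obtain ⟨v, hv⟩ := hψ.2.1 y
    exact ⟨Multiplicative.ofAdd v, hv⟩
  let A'' : Subgroup (Multiplicative ↥Cfsg.leechLattice) :=
    AddSubgroup.toSubgroup (A.addSubgroupOf Cfsg.leechLattice)
  have hker : ψm.ker ≤ A'' := by
    intro v hv
    have h1 : ψ (Multiplicative.toAdd v) = 1 := hv
    obtain ⟨w, hw⟩ := (hψ.2.2.1 _).mp h1
    show Multiplicative.toAdd v ∈ A.addSubgroupOf Cfsg.leechLattice
    rw [AddSubgroup.mem_addSubgroupOf, hw]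
    have := hA2 (w : Cfsg.GolayPt → ℤ) w.2
    rw [two_smul] at this
    exact this
  let E' : Subgroup (Q ⧸ Subgroup.center Q) := A''.map ψm
  let E : Subgroup Q := E'.comap (QuotientGroup.mk' (Subgroup.center Q))
  have hidx : E.index = 2 ^ 12 := by
    have h1 : E.index = E'.index :=
      Subgroup.index_comap_of_surjective E' (QuotientGroup.mk'_surjective _)
    have h2 : (E'.comap ψm).index = E'.index := Subgroup.index_comap_of_surjective E' hψm
    have h3 : E'.comap ψm = A'' := by
      rw [Subgroup.comap_map_eq, sup_eq_left]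
      exact hker
    rw [h1, ← h2, h3, AddSubgroup.index_toSubgroup, hAidx]
  have hsq : ∀ x ∈ E, x * x = 1 := by
    intro x hx
    obtain ⟨v, hv, hvx⟩ := hx
    have hv' : ((Multiplicative.toAdd v : ↥Cfsg.leechLattice) : Cfsg.GolayPt → ℤ) ∈ A := hv
    have hvx' : ψ (Multiplicative.toAdd v) = QuotientGroup.mk x := hvx
    rw [Cfsg.Agent.Lib.Helper9.MTb.sq_eq_one_iff hQ hc2 hD hψ _ x hvx']
    obtain ⟨k, hk⟩ := hA32 _ hv'
    rw [hk]
    have : (32 * k / 16 : ℤ) = 2 * k := by omega
    rw [this]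
    push_cast
    have h2 : (2 : ZMod 2) = 0 := by decide
    rw [h2, zero_mul]
  have hcomm := Cfsg.Agent.Lib.Helper9.MTa.comm_of_sq hsq
  refine ⟨E, ⟨⟨⟨fun a b => Subtype.ext (hcomm a.1 a.2 b.1 b.2)⟩⟩, ?_⟩, ?_⟩
  · intro a ha
    rw [pow_two]
    exact hsq a ha
  · have h1 := Subgroup.card_mul_index E
    rw [hidx, hc25] at h1
    have : (2 : ℕ) ^ 25 = 2 ^ 13 * 2 ^ 12 := by norm_num
    rw [this] at h1
    exact Nat.eq_of_mul_eq_mul_right (by norm_num) h1

end Cfsg.Agent.S5408
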