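import Cfsg.Statements.S5411
import Cfsg.Agent.Lib.Helper9.MTh

set_option autoImplicit false
open Cfsg

namespace Cfsg.Agent.S5411

/-- Let G be a finite group of Monster type at the involution z with Q the extraspecial normal subgroup of order 2^25 of C = C_G(z) (so C/Q is identified with the first Conway group with Q modulo its centre the Leech lattice modulo 2, and z is not weakly closed in Q). Then C acts transitively by conjugation on the involutions of Q that are not conjugate to z in G. -/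
theorem result {G : Type*} [Group G] [Finite G] (z : G) (Q : Subgroup (Subgroup.centralizer ({z} : Set G))) [Q.Normal] (hM : Cfsg.IsOfMonsterType z Q) (s t : G) (hsQ : ∃ hsc : s ∈ Subgroup.centralizer ({z} : Set G), (⟨s, hsc⟩ : Subgroup.centralizer ({z} : Set G)) ∈ Q) (htQ : ∃ htc : t ∈ Subgroup.centralizer ({z} : Set G), (⟨t, htc⟩ : Subgroup.centralizer ({z} : Set G)) ∈ Q) (hs2 : orderOf s = 2) (ht2 : orderOf t = 2) (hs : ¬ IsConj z s) (ht : ¬ IsConj z t) : ∃ h ∈ Subgroup.centralizer ({z} : Set G), h * s * h⁻¹ = t := by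
  obtain ⟨e, ψ, h, hfus⟩ := Cfsg.Agent.Lib.Helper9.MTc.MT.of_type hM
  obtain ⟨hsc, hsQ'⟩ := hsQ
  obtain ⟨htc, htQ'⟩ := htQ
  have key : ∀ (u : G) (huc : u ∈ Subgroup.centralizer ({z} : Set G))
      (huQ : (⟨u, huc⟩ : Subgroup.centralizer ({z} : Set G)) ∈ Q), orderOf u = 2 → ¬ IsConj z u →
      ∃ v : Cfsg.leechLattice, Cfsg.sqNorm (v : Cfsg.GolayPt → ℤ) = 32 ∧
        ψ v = QuotientGroup.mk (⟨⟨u, huc⟩, huQ⟩ : Q) := by
    intro u huc huQ hu2 hu
    have hu1 : u ≠ 1 := Cfsg.Agent.Lib.Helper9.MTc.z_ne_one_of hu2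
    have huu : u * u = 1 := Cfsg.Agent.Lib.Helper9.MTc.z_sq_of hu2
    have huz : u ≠ z := by
      intro h1
      apply hu
      rw [h1]
    obtain ⟨v, hv, hvx⟩ := h.inv_type ⟨⟨u, huc⟩, huQ⟩
      (fun h1 => hu1 (congrArg Subtype.val h1))
      (fun h1 => huz (congrArg Subtype.val h1))
      (Subtype.ext (Subtype.ext huu))
    rcases hv with hv | hv
    · exact ⟨v, hv, hvx⟩
    · exfalso
      exact hu (h.type4_conj hfus _ v hv hvx).1
  obtain ⟨vs, hvs, hxs⟩ := key s hsc hsQ' hs2 hs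
  obtain ⟨vt, hvt, hxt⟩ := key t htc htQ' ht2 ht
  obtain ⟨c, hc⟩ := h.trans2 vs vt _ _ hxs hxt hvs hvt
  refine ⟨(c : G), c.2, ?_⟩
  have h1 := congrArg (fun u : Subgroup.centralizer ({z} : Set G) => (u : G)) hc
  simpa using h1

end Cfsg.Agent.S5411
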