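import Cfsg.Statements.S5412
import Cfsg.Agent.Lib.Helper8.BMTtw
import Cfsg.Agent.Lib.Helper2.BMh
import Cfsg.Agent.Lib.Helper9.BMTu3

set_option autoImplicit false
open Cfsg

namespace Cfsg.Agent.S5412

open Cfsg.Agent.Lib.Helper2.BM Cfsg.Agent.Lib.Helper9.MTc

/-- the image of `z` in `C_G(t) ⧸ ⟨t⟩` is an involution -/
theorem orderOf_z' {G : Type*} [Group G] [Finite G] {z : G}
    {Q : Subgroup (Subgroup.centralizer ({z} : Set G))} [Q.Normal]
    {e : (Subgroup.centralizer ({z} : Set G)) ⧸ Q ≃* Spor.Co1}
    {ψ : leechLattice → Q ⧸ Subgroup.center Q} {t : G}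
    [hn : ((Subgroup.zpowers t).subgroupOf (Subgroup.centralizer ({t} : Set G))).Normal]
    (S : BMS z Q e ψ t) : orderOf S.z' = 2 := by
  haveI : Fact (Nat.Prime 2) := ⟨Nat.prime_two⟩
  apply orderOf_eq_prime
  · have h1 := S.dataQ'.z_sq
    have h2 := congrArg (fun x : ↥S.Q' => ((x : ↥(Subgroup.centralizer ({S.z'} :
      Set (↥(Subgroup.centralizer ({t} : Set G)) ⧸
      (Subgroup.zpowers t).subgroupOf (Subgroup.centralizer ({t} : Set G)))))) :
      ↥(Subgroup.centralizer ({t} : Set G)) ⧸
      (Subgroup.zpowers t).subgroupOf (Subgroup.centralizer ({t} : Set G)))) h1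
    rw [pow_two]
    exact h2
  · intro h1
    apply S.dataQ'.z_ne
    apply Subtype.ext
    apply Subtype.ext
    exact h1

/-- Let G be a finite group of Monster type at the involution z with Q the extraspecial normal subgroup of order 2^25 of C = C_G(z) (so C/Q is identified with the first Conway group with Q modulo its centre the Leech lattice modulo 2, and z is not weakly closed in Q). Let t be an involution of Q not conjugate to z in G. Then the centralizer of t modulo the subgroup generated by t is a group of Baby Monster type (an involution whose centralizer D has generalized Fitting subgroup R extraspecial of order 2^23 with D/R identified with the second Conway group acting on R modulo its centre as on the vectors of the Leech lattice modulo 2 orthogonal to a short vector, modulo that vector; the involution not weakly closed in R). -/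
theorem result {G : Type*} [Group G] [Finite G] (z : G) (Q : Subgroup (Subgroup.centralizer ({z} : Set G))) [Q.Normal] (hM : Cfsg.IsOfMonsterType z Q) (t : G) (htQ : ∃ htc : t ∈ Subgroup.centralizer ({z} : Set G), (⟨t, htc⟩ : Subgroup.centralizer ({z} : Set G)) ∈ Q) (ht2 : orderOf t = 2) (ht : ¬ IsConj z t) [hn : ((Subgroup.zpowers t).subgroupOf (Subgroup.centralizer ({t} : Set G))).Normal] : Cfsg.IsOfBabyMonsterType (↥(Subgroup.centralizer ({t} : Set G)) ⧸ (Subgroup.zpowers t).subgroupOf (Subgroup.centralizer ({t} : Set G))) := by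
  obtain ⟨htC, htQ'⟩ := htQ
  obtain ⟨e0, ψ0, hmt0, hfus⟩ := MT.of_type hM
  obtain ⟨e, ψ, hmt, hψt⟩ :=
    Cfsg.Agent.Lib.Helper8.BMTtw.exists_twist_of_involution hmt0 hfus t htC htQ' ht2 ht
  have S : BMS z Q e ψ t := ⟨hmt, htC, htQ', hψt⟩
  refine ⟨S.z', S.Q', inferInstance, ⟨orderOf_z' S, S.gfs_eq, S.extraspecial_Q', ?_,
    Cfsg.Agent.Lib.Helper9.BMTu3.not_weakly_closed S hfus⟩, S.e', S.psi', S.psi'_add, S.psi'_surjective, S.psi'_eq_one_iff, ?_⟩
  · rw [S.card_Q']
  · intro h g hg x y hxy q hq
    exact S.clause4 h g hg x y hxy q hq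

end Cfsg.Agent.S5412
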