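import Cfsg.Statements.S5421
import Cfsg.Agent.Lib.Helper2.ExtraSp
-- import your own Cfsg.Agent.* helpers here

set_option autoImplicit false
open Cfsg

namespace Cfsg.Agent.S5421

/-- Let Q be an extraspecial 2-subgroup of the finite group G whose centralizer in G is its centre Z and which is normal in the centralizer of Z. If some involution b of Q outside Z has Z inside the largest normal 2-subgroup of the centralizer of b, then Q is a large extraspecial 2-subgroup of G. -/
theorem result {G : Type*} [Group G] [Finite G] (Q : Subgroup G) (hL1 : Cfsg.IsExtraspecial 2 ↥Q) (hL2 : Subgroup.centralizer (Q : Set G) = ((Subgroup.center ↥Q).map Q.subtype)) (hL3 : Subgroup.centralizer (((Subgroup.center ↥Q).map Q.subtype) : Set G) ≤ Subgroup.normalizer (Q : Set G)) (b : G) (hbQ : b ∈ Q) (hbZ : b ∉ ((Subgroup.center ↥Q).map Q.subtype)) (hb : orderOf b = 2) (hZ : ((Subgroup.center ↥Q).map Q.subtype) ≤ (Cfsg.pCore 2 ↥(Subgroup.centralizer ({b} : Set G))).map (Subgroup.centralizer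 ({b} : Set G)).subtype) : Cfsg.IsLargeExtraspecial Q := by
  obtain ⟨z, hES, hmem⟩ := Cfsg.Agent.Lib.Helper2.ExtraSp.esdata_of_extraspecial hL1
  have hC : Subgroup.centralizer (Q : Set G) ≤ Q := by
    rw [hL2]; exact Subgroup.map_subtype_le _
  have hN : Subgroup.centralizer ({z} : Set G) ≤ Subgroup.normalizer (Q : Set G) := by
    intro c hc
    apply hL3
    rw [Subgroup.mem_centralizer_iff]
    intro y hy
    rcases (hmem y).mp hy with h | h
    · rw [h]; simp
    · rw [h]; exact Cfsg.Agent.Lib.Helper2.ExtraSp.mem_cent_single.mp hc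
  refine ⟨hL1, hL2, hL3, ?_⟩
  intro K hK hQK
  have hb2 : b * b = 1 := by rw [← pow_two, ← hb, pow_orderOf_eq_one]
  have hb1 : b ≠ 1 := fun h => hbZ ((hmem b).mpr (Or.inl h))
  have hbz : b ≠ z := fun h => hbZ ((hmem b).mpr (Or.inr h))
  have hzR : z ∈ Cfsg.Agent.Lib.Helper2.ExtraSp.QQ b := hZ ((hmem z).mpr (Or.inr rfl))
  exact Cfsg.Agent.Lib.Helper2.ExtraSp.large_of_normal2 hES hC hN hbQ hb1 hbz hb2
    (Cfsg.Agent.Lib.Helper2.ExtraSp.QQ_two b)
    (fun c hc r hr => Cfsg.Agent.Lib.Helper2.ExtraSp.QQ_conj_mem b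
      (Cfsg.Agent.Lib.Helper2.ExtraSp.mem_cent_single.mpr hc.symm) hr) hzR hK hQK


end Cfsg.Agent.S5421
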