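import Cfsg.Statements.S5423
import Cfsg.Agent.Lib.Helper7.TvAff3
import Cfsg.Agent.S5420

set_option autoImplicit false
open Cfsg

namespace Cfsg.Agent.S5423

open Cfsg.Agent.Lib.Helper7

/-- Let G be a finite group that is the split extension of an elementary abelian normal subgroup U of order 2^(n+1), n ≥ 1, by its full automorphism group: U has a complement M in G whose conjugation action on U is faithful and realizes every automorphism of U. Let Z be a subgroup of U of order 2 and Q the largest normal 2-subgroup of the centralizer C of Z. Then Q is extraspecial of order 2^(2n+1) with an elementary abelian subgroup of order 2^(n+1) (plus type), Q is a large extraspecial 2-subgroup of G, and C is the split extension of Q by the general linear group of degree n over the field with two elements. -/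
theorem result {G : Type*} [Group G] [Finite G] (n : ℕ) (hn : 1 ≤ n) (U M : Subgroup G) [U.Normal] (hU : Cfsg.IsElementaryAbelian 2 U) (hUcard : Nat.card ↥U = 2 ^ (n + 1)) (hUM : U ⊓ M = ⊥) (hUM' : U ⊔ M = ⊤) (hfaith : ∀ m ∈ M, (∀ u ∈ U, m * u * m⁻¹ = u) → m = 1) (hfull : ∀ φ : ↥U ≃* ↥U, ∃ m ∈ M, ∀ u : ↥U, ((φ u : ↥U) : G) = m * u * m⁻¹) (Z : Subgroup G) (hZU : Z ≤ U) (hZ : Nat.card ↥Z = 2) (Q : Subgroup G) (hQ : Q = (Cfsg.pCore 2 ↥(Subgroup.centralizer (Z : Set G))).map (Subgroup.centralizer (Z : Set G)).subtype) : Cfsg.IsExtraspecial 2 ↥Q ∧ Nat.card ↥Q = 2 ^ (2 * n + 1) ∧ (∃ E : Subgroup G, E ≤ Q ∧ Cfsg.IsElementaryAbelian 2 E ∧ Nat.card ↥E = 2 ^ (n + 1)) ∧ Cfsg.IsLargeExtraspecial Q ∧ ∃ K : Subgroup G, K ≤ Subgroup.centralizer (Z : Set G) ∧ Q ⊓ K = ⊥ ∧ Q ⊔ K = Subgroup.centralizer (Z : Set G) ∧ Nonempty (↥K ≃* Matrix.GeneralLinearGroup (Fin n) (ZMod 2)) := by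
  classical
  obtain ⟨zz, hzz1, huniq⟩ := (Nat.card_eq_two_iff' (1 : ↥Z)).mp hZ
  have hZmem : ∀ y ∈ Z, y = 1 ∨ y = zz.1 := by
    intro y hy
    by_cases h : (⟨y, hy⟩ : ↥Z) = 1
    · left
      exact congrArg Subtype.val h
    · right
      exact congrArg Subtype.val (huniq ⟨y, hy⟩ h)
  have hzU : zz.1 ∈ U := hZU zz.2
  have hz1 : (⟨zz.1, hzU⟩ : ↥U) ≠ 1 := by
    intro h
    have h' : zz.1 = 1 := congrArg Subtype.val h
    exact hzz1 (Subtype.ext h')
  obtain ⟨f, hf⟩ := TvAff.exists_coord n U hU hUcard ⟨zz.1, hzU⟩ hz1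
  have htz : TvAff.tau f (Pi.single 0 1) = zz.1 := by
    rw [← hf]
    exact TvAff.tau_f f _
  have hinj : Function.Injective (TvAff.Psi f hfull hfaith) :=
    TvAff.Psi_injective f hfull hfaith hUM
  have hcent : Subgroup.centralizer (Z : Set G) = Subgroup.centralizer {zz.1} := by
    apply le_antisymm
    · apply Subgroup.centralizer_le
      intro x hx
      rw [Set.mem_singleton_iff] at hx
      rw [hx]
      exact zz.2
    · intro g hg
      rw [Subgroup.mem_centralizer_iff] at hg ⊢
      intro y hy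
      rcases hZmem y hy with rfl | rfl
      · simp
      · exact hg _ (Set.mem_singleton _)
  have hrange : (TvAff.Psi f hfull hfaith).range = Subgroup.centralizer (Z : Set G) := by
    rw [hcent, ← htz]
    exact TvAff.range_Psi f hfull hfaith hUM'
  have hQ' : Q = (TvCent.piS n).ker.map (TvAff.Psi f hfull hfaith) := by
    rw [hQ]
    exact TvAff.pCore_range_map _ hinj hrange
  subst hQ'
  have hzq : zz.1 = TvAff.qG (TvAff.Psi f hfull hfaith) 0 0 1 := by
    rw [← htz]
    exact (TvAff.Psi_zS f hfull hfaith).symm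
  have h1q : (1 : G) = TvAff.qG (TvAff.Psi f hfull hfaith) 0 0 0 := by
    unfold TvAff.qG
    have : (⟨TvCent.hS n 0 0 0, TvCent.hS_mem_CS n 0 0 0⟩ : ↥(TvCent.CS n)) = 1 :=
      Subtype.ext (TvCent.hS_one n)
    rw [this, map_one]
  have hZQ : Z ≤ (TvCent.piS n).ker.map (TvAff.Psi f hfull hfaith) := by
    intro y hy
    rcases hZmem y hy with rfl | rfl
    · exact Subgroup.one_mem _
    · rw [hzq]
      exact (TvAff.mem_map_ker_iff _ _).mpr ⟨_, _, _, rfl⟩
  have hcentQ : Subgroup.centralizer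
      (((TvCent.piS n).ker.map (TvAff.Psi f hfull hfaith) : Subgroup G) : Set G) = Z := by
    apply le_antisymm
    · intro g hg
      rw [Subgroup.mem_centralizer_iff] at hg
      have hgr : g ∈ (TvAff.Psi f hfull hfaith).range := by
        rw [hrange, hcent, Subgroup.mem_centralizer_iff]
        intro h hh
        rw [Set.mem_singleton_iff] at hh
        subst hh
        exact hg _ (hZQ zz.2)
      obtain ⟨t, ht⟩ := TvAff.centralizer_image _ hinj hgr hg
      rcases TvCent.zmod_two_cases t with rfl | rfl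
      · rw [ht, ← h1q]
        exact Z.one_mem
      · rw [ht, ← hzq]
        exact zz.2
    · intro y hy
      rw [Subgroup.mem_centralizer_iff]
      rcases hZmem y hy with rfl | rfl
      · intro h _
        simp
      · rw [hzq]
        exact TvAff.qG_central _ 1
  have hcen := TvAff.center_map_eq_of_centralizer hZQ hcentQ
  have hES := TvAff.extraspecial_image _ hinj hn
  have hL2 : Subgroup.centralizer
      (((TvCent.piS n).ker.map (TvAff.Psi f hfull hfaith) : Subgroup G) : Set G) =
      (Subgroup.center ↥((TvCent.piS n).ker.map (TvAff.Psi f hfull hfaith))).map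
        ((TvCent.piS n).ker.map (TvAff.Psi f hfull hfaith)).subtype := by
    rw [hcentQ, hcen]
  have hL3 : Subgroup.centralizer
      (((Subgroup.center ↥((TvCent.piS n).ker.map (TvAff.Psi f hfull hfaith))).map
        ((TvCent.piS n).ker.map (TvAff.Psi f hfull hfaith)).subtype : Subgroup G) : Set G) ≤
      Subgroup.normalizer
        (((TvCent.piS n).ker.map (TvAff.Psi f hfull hfaith) : Subgroup G) : Set G) := by
    rw [hcen, ← hrange]
    exact TvAff.range_le_normalizer _
  have hZp : (Subgroup.center ↥((TvCent.piS n).ker.map (TvAff.Psi f hfull hfaith))).map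
        ((TvCent.piS n).ker.map (TvAff.Psi f hfull hfaith)).subtype ≤ Cfsg.pCore 2 G := by
    rw [hcen]
    exact le_trans hZU (Cfsg.Agent.Lib.Helper7.le_pCore inferInstance (IsPGroup.of_card hUcard))
  have hUQ : U ≤ (TvCent.piS n).ker.map (TvAff.Psi f hfull hfaith) := by
    intro u hu
    obtain ⟨v, rfl⟩ := TvAff.exists_tau f hu
    rw [TvAff.mem_map_ker_iff]
    refine ⟨0, Fin.tail v, v 0, ?_⟩
    unfold TvAff.qG
    rw [TvAff.Psi_hS_zero f hfull hfaith, Fin.cons_self_tail]
  refine ⟨hES, TvAff.card_image _ hinj, ⟨U, hUQ, hU, hUcard⟩,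
    Cfsg.Agent.S5420.result _ hES hL2 hL3 hZp,
    ⟨((TvAff.Psi f hfull hfaith).comp (TvAff.sigma' n)).range, ?_,
      TvAff.image_inf_comp_range _ hinj, ?_, ⟨TvAff.equivK _ hinj⟩⟩⟩
  · rw [← hrange]
    exact TvAff.comp_range_le _
  · rw [← hrange]
    exact TvAff.image_sup_comp_range _

end Cfsg.Agent.S5423
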