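import Cfsg.Statements.S5424
import Cfsg.Agent.Lib.Helper7.TvCent4
import Cfsg.Agent.S5422

set_option autoImplicit false
open Cfsg

namespace Cfsg.Agent.S5424

open Cfsg.Agent.Lib.Helper7

/-- Let G be the special linear group of degree n + 2 over the field with two elements, n ≥ 2, let z be a transvection, and let Q be the largest normal 2-subgroup of the centralizer C of z. Then Q is extraspecial of order 2^(2n+1) with an elementary abelian subgroup of order 2^(n+1) (plus type), Q is a large extraspecial 2-subgroup of G, and C is the split extension of Q by the special linear group of degree n over the field with two elements. -/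
theorem result (n : ℕ) (hn : 2 ≤ n) (z : Matrix.SpecialLinearGroup (Fin (n + 2)) (ZMod 2)) (hz : (z : Matrix (Fin (n + 2)) (Fin (n + 2)) (ZMod 2)) = Matrix.transvection 0 1 1) (Q : Subgroup (Matrix.SpecialLinearGroup (Fin (n + 2)) (ZMod 2))) (hQ : Q = (Cfsg.pCore 2 ↥(Subgroup.centralizer ({z} : Set (Matrix.SpecialLinearGroup (Fin (n + 2)) (ZMod 2))))).map (Subgroup.centralizer ({z} : Set (Matrix.SpecialLinearGroup (Fin (n + 2)) (ZMod 2)))).subtype) : Cfsg.IsExtraspecial 2 ↥Q ∧ Nat.card ↥Q = 2 ^ (2 * n + 1) ∧ (∃ E : Subgroup (Matrix.SpecialLinearGroup (Fin (n + 2)) (ZMod 2)), E ≤ Q ∧ Cfsg.IsElementaryAbelian 2 E ∧ Nat.card ↥E = 2 ^ (n + 1)) ∧ Cfsg.IsLargeExtraspecial Q ∧ ∃ K : Subgroup (Matrix.SpecialLinearGroup (Fin (n + 2)) (ZMod 2)), K ≤ Subgroup.centralizer ({z} : Set (Matrix.SpecialLinearGroup (Fin (n + 2)) (ZMod 2))) ∧ Q ⊓ K = ⊥ ∧ Q ⊔ K = Subgroup.centralizer ({z} : Set (Matrix.SpecialLinearGroup (Fin (n + 2)) (ZMod 2))) ∧ Nonempty (↥K ≃* Matrix.SpecialLinearGroup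 (Fin n) (ZMod 2)) := by
  have hzS : z = TvCent.zS n := Subtype.ext (hz.trans (TvCent.zS_val n).symm)
  subst hzS
  have hQ' : Q = TvCent.Qs n := by
    rw [hQ]
    exact TvCent.pCore_map n
  subst hQ'
  have hn1 : 1 ≤ n := by omega
  have hES := TvCent.extraspecial_Qs n hn1
  have hL2 : Subgroup.centralizer (TvCent.Qs n : Set (TvCent.SLbig n)) =
      (Subgroup.center ↥(TvCent.Qs n)).map (TvCent.Qs n).subtype := by
    rw [TvCent.centralizer_Qs, TvCent.center_map_Qs]
  have hL3 : Subgroup.centralizer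
      (((Subgroup.center ↥(TvCent.Qs n)).map (TvCent.Qs n).subtype : Subgroup (TvCent.SLbig n)) :
        Set (TvCent.SLbig n)) ≤ Subgroup.normalizer (TvCent.Qs n : Set (TvCent.SLbig n)) := by
    rw [TvCent.center_map_Qs]
    exact TvCent.centralizer_Zs_le n
  refine ⟨hES, TvCent.card_Qs n, ⟨TvCent.Es n, TvCent.Es_le_Qs n, TvCent.Es_elementary n,
    TvCent.card_Es n⟩, ?_, ⟨(TvCent.sHom n).range, TvCent.range_le_CS n, TvCent.Qs_inf_range n,
    TvCent.Qs_sup_range n, ⟨(MonoidHom.ofInjective (TvCent.sHom_injective n)).symm⟩⟩⟩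
  have k0 : Fin n := ⟨0, by omega⟩
  exact (Cfsg.Agent.S5422.result (TvCent.Qs n) hES hL2 hL3 n hn (TvCent.card_Qs n)
    (TvCent.tS n k0) (by rw [TvCent.center_map_Qs]; exact TvCent.tS_not_mem n k0)
    (by rw [TvCent.center_map_Qs]; exact TvCent.tS_map_le n k0)).2.2

end Cfsg.Agent.S5424
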