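import Cfsg.Statements.S5427
import Cfsg.Agent.Lib.Helper2.ExtraSp3
import Cfsg.Agent.Lib.Helper8.FStar
-- import your own Cfsg.Agent.* helpers here

set_option autoImplicit false
open Cfsg
open Cfsg.Agent.Lib.Helper2.ExtraSp

namespace Cfsg.Agent.S5427

/-- Let z be an involution of the finite group G whose centralizer C has generalized Fitting subgroup Q, an extraspecial 2-group of width at least 2 (order 2^(2w+1), w ≥ 2). Let K be a subgroup of G such that the subgroup U generated by the K-conjugates of z is abelian and C is generated by the C-conjugates of U. Suppose that either some K-conjugate of z other than z lies in Q, or some element u of U ∩ Q outside the subgroup generated by z has z in the largest normal 2-subgroup of its centralizer. Then G is simple and Q is a large extraspecial 2-subgroup of G. -/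
theorem result {G : Type*} [Group G] [Finite G] (z : G) (hz : orderOf z = 2) (Q : Subgroup G) (hQC : Q ≤ Subgroup.centralizer ({z} : Set G)) (hF : (Cfsg.generalizedFittingSubgroup ↥(Subgroup.centralizer ({z} : Set G))).map (Subgroup.centralizer ({z} : Set G)).subtype = Q) (hQ : Cfsg.IsExtraspecial 2 ↥Q) (w : ℕ) (hw : 2 ≤ w) (hcard : Nat.card ↥Q = 2 ^ (2 * w + 1)) (K U : Subgroup G) (hU : U = Subgroup.closure {x : G | ∃ k ∈ K, x = k * z * k⁻¹}) (hUab : IsMulCommutative ↥U) (hgen : Subgroup.closure {x : G | ∃ c ∈ Subgroup.centralizer ({z} : Set G), ∃ u ∈ U, x = c * u * c⁻¹} = Subgroup.centralizer ({z} : Set G)) (h3 : (∃ k ∈ K, k * z * k⁻¹ ∈ Q ∧ k * z * k⁻¹ ≠ z) ∨ ∃ u ∈ U ⊓ Q, u ∉ Subgroup.zpowers z ∧ (∃ hz' : z ∈ Subgroup.centralizer ({u} : Set G), (⟨z, hz'⟩ : ↥(Subgroup.centralizer ({u} : Set G))) ∈ Cfsg.pCore 2 ↥(Subgroup.centralizer ({u} : Set G)))) : IsSimpleGroup G ∧ Cfsg.IsLargeExtraspecial Q := by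
  subst hU
  have z2 : z * z = 1 := by rw [← pow_two, ← hz, pow_orderOf_eq_one]
  have hz1 : z ≠ 1 := by intro h; rw [h, orderOf_one] at hz; norm_num at hz
  have hzH : z ∈ Subgroup.centralizer ({z} : Set G) := mem_cent_single.mpr rfl
  obtain ⟨F, hFdef⟩ : ∃ F : Subgroup ↥(Subgroup.centralizer ({z} : Set G)),
      F = Cfsg.generalizedFittingSubgroup ↥(Subgroup.centralizer ({z} : Set G)) := ⟨_, rfl⟩
  rw [← hFdef] at hF
  have hFn : F.Normal := by
    rw [hFdef]; exact Cfsg.Agent.Lib.Helper8.generalizedFittingSubgroup_normal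
  have hCF : Subgroup.centralizer (F : Set ↥(Subgroup.centralizer ({z} : Set G))) ≤ F := by
    rw [hFdef]; exact Cfsg.Agent.Lib.Helper8.centralizer_generalizedFittingSubgroup_le
  have hQmem : ∀ q : G, q ∈ Q ↔ ∃ hq : q ∈ Subgroup.centralizer ({z} : Set G),
      (⟨q, hq⟩ : ↥(Subgroup.centralizer ({z} : Set G))) ∈ F := by
    intro q
    rw [← hF, Subgroup.mem_map]
    constructor
    · rintro ⟨q', hq', rfl⟩; exact ⟨q'.2, hq'⟩
    · rintro ⟨hq, hq'⟩; exact ⟨⟨q, hq⟩, hq', rfl⟩
  have hzQ : z ∈ Q := by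
    rw [hQmem]
    refine ⟨hzH, hCF ?_⟩
    rw [Subgroup.mem_centralizer_iff]
    intro f _
    exact Subtype.ext (mem_cent_single.mp f.2).symm
  have hUsq : ∀ u ∈ Subgroup.closure {x : G | ∃ k ∈ K, x = k * z * k⁻¹}, u * u = 1 := by
    intro u hu
    induction hu using Subgroup.closure_induction with
    | mem x hx =>
      obtain ⟨k, _, rfl⟩ := hx
      calc k * z * k⁻¹ * (k * z * k⁻¹) = k * (z * z) * k⁻¹ := by group
        _ = 1 := by rw [z2]; group
    | one => simp
    | mul x y hx hy ihx ihy =>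
      have hcomm : x * y = y * x := by
        have h1 := hUab.is_comm.comm (⟨x, hx⟩ : ↥(Subgroup.closure {x : G | ∃ k ∈ K, x = k * z * k⁻¹}))
          ⟨y, hy⟩
        exact congrArg Subtype.val h1
      calc (x * y) * (x * y) = x * (y * x) * y := by group
        _ = x * (x * y) * y := by rw [hcomm]
        _ = (x * x) * (y * y) := by group
        _ = 1 := by rw [ihx, ihy, one_mul]
    | inv x hx ih =>
      calc x⁻¹ * x⁻¹ = (x * x)⁻¹ := by group
        _ = 1 := by rw [ih, inv_one]
  obtain ⟨z0, hES, hmem⟩ := esdata_of_extraspecial hQ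
  have hz0 : z0 = z := by
    rcases hES.center_sub z hzQ (fun q hq => (mem_cent_single.mp (hQC hq)).symm) with h | h
    · exact absurd h hz1
    · exact h.symm
  subst hz0
  have hC : Subgroup.centralizer (Q : Set G) ≤ Q := by
    intro c hc
    have hcz : c ∈ Subgroup.centralizer ({z0} : Set G) :=
      mem_cent_single.mpr (Subgroup.mem_centralizer_iff.mp hc z0 hES.zQ)
    rw [hQmem]
    refine ⟨hcz, hCF ?_⟩
    rw [Subgroup.mem_centralizer_iff]
    intro f hf
    apply Subtype.ext
    exact Subgroup.mem_centralizer_iff.mp hc f.1 ((hQmem f.1).mpr ⟨f.2, hf⟩)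
  have hN : Subgroup.centralizer ({z0} : Set G) ≤ Subgroup.normalizer (Q : Set G) := by
    intro c hc
    apply mem_normalizer_of_conj_le
    intro v hv
    obtain ⟨hvH, hvF⟩ := (hQmem v).mp hv
    rw [hQmem]
    exact ⟨Subgroup.mul_mem _ (Subgroup.mul_mem _ hc hvH) (Subgroup.inv_mem _ hc),
      hFn.conj_mem ⟨v, hvH⟩ hvF ⟨c, hc⟩⟩
  have hlarge : ∀ K' : Subgroup G, Odd (Nat.card K') →
      Q ≤ Subgroup.normalizer (K' : Set G) → K' = ⊥ := by
    intro K' hK' hQK'
    rcases h3 with ⟨k, _, hkQ, hkz⟩ | ⟨u, hu, hunot, hz', hzu⟩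
    · exact large_of_conj hES hC hN k hkQ hkz hK' hQK'
    · obtain ⟨huU, huQ⟩ := Subgroup.mem_inf.mp hu
      have hu2 : u * u = 1 := hUsq u huU
      have hu1 : u ≠ 1 := fun h => hunot (h ▸ Subgroup.one_mem _)
      have huz : u ≠ z0 := fun h => hunot (h ▸ Subgroup.mem_zpowers z0)
      have hzR : z0 ∈ QQ u := Subgroup.mem_map.mpr ⟨⟨z0, hz'⟩, hzu, rfl⟩
      exact large_of_normal2 hES hC hN huQ hu1 huz hu2 (QQ_two u)
        (fun c hc r hr => QQ_conj_mem u (mem_cent_single.mpr hc.symm) hr) hzR hK' hQK'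
  have hL2 : Subgroup.centralizer (Q : Set G) = (Subgroup.center ↥Q).map Q.subtype := by
    ext c
    constructor
    · intro hc
      rw [hmem]
      exact hES.center_sub c (hC hc) (Subgroup.mem_centralizer_iff.mp hc)
    · intro hc
      rw [Subgroup.mem_centralizer_iff]
      intro q hq
      rcases (hmem c).mp hc with h | h
      · rw [h]; simp
      · rw [h]; exact hES.z_comm q hq
  have hL3 : Subgroup.centralizer (((Subgroup.center ↥Q).map Q.subtype : Subgroup G) : Set G) ≤
      Subgroup.normalizer (Q : Set G) := by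
    intro c hc
    apply hN
    rw [mem_cent_single]
    exact Subgroup.mem_centralizer_iff.mp hc z0 ((hmem z0).mpr (Or.inr rfl))
  refine ⟨?_, hQ, hL2, hL3, hlarge⟩
  refine { exists_pair_ne := ⟨z0, 1, hz1⟩, eq_bot_or_eq_top_of_normal := ?_ }
  intro N hNn
  haveI := hNn
  by_cases hzN : z0 ∈ N
  · right
    apply eq_top_of_centralizer_le hES hC
    rw [← hgen, Subgroup.closure_le]
    rintro x ⟨c, _, u, hu, rfl⟩
    apply hNn.conj_mem
    have hUN : Subgroup.closure {x : G | ∃ k ∈ K, x = k * z0 * k⁻¹} ≤ N := by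
      rw [Subgroup.closure_le]
      rintro x ⟨k, _, rfl⟩
      exact hNn.conj_mem z0 hzN k
    exact hUN hu
  · left
    have hNQ : ∀ q ∈ N, q ∈ Q → q = 1 := by
      intro q hqN hqQ
      by_contra hq1
      by_cases hcen : ∀ q' ∈ Q, q' * q = q * q'
      · rcases hES.center_sub q hqQ hcen with h | h
        · exact hq1 h
        · exact hzN (h ▸ hqN)
      · push Not at hcen
        obtain ⟨q', hq'Q, hne⟩ := hcen
        rcases hES.comm_mem q' hq'Q q hqQ with h | h
        · apply hne
          apply comm_of_cj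
          calc q' * q * q'⁻¹ = (q' * q * q'⁻¹ * q⁻¹) * q := by group
            _ = q := by rw [h, one_mul]
        · apply hzN
          rw [← h]
          exact N.mul_mem (hNn.conj_mem q hqN q') (N.inv_mem hqN)
    have hfpf : ∀ k ∈ N, z0 * k * z0⁻¹ = k → k = 1 := by
      intro k hk hzk
      have hkH : k ∈ Subgroup.centralizer ({z0} : Set G) := mem_cent_single.mpr (comm_of_cj hzk)
      have hkN : k ∈ Subgroup.normalizer (Q : Set G) := hN hkH
      apply hNQ k hk
      apply hC
      rw [Subgroup.mem_centralizer_iff]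
      intro q hq
      have h1 : q * k * q⁻¹ * k⁻¹ ∈ N := N.mul_mem (hNn.conj_mem k hk q) (N.inv_mem hk)
      have h2 : q * k * q⁻¹ * k⁻¹ ∈ Q := by
        have h3 : k * q⁻¹ * k⁻¹ ∈ Q := (Subgroup.mem_normalizer_iff.mp hkN q⁻¹).mp (Q.inv_mem hq)
        have h4 : q * k * q⁻¹ * k⁻¹ = q * (k * q⁻¹ * k⁻¹) := by group
        rw [h4]; exact Q.mul_mem hq h3
      have h5 := hNQ _ h1 h2
      apply comm_of_cj
      calc q * k * q⁻¹ = (q * k * q⁻¹ * k⁻¹) * k := by group
        _ = k := by rw [h5, one_mul]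
    have hinv := inverts_of_fpf N z0 z2 (fun k hk => hNn.conj_mem k hk z0) hfpf
    have hodd := odd_of_inverts hinv hfpf
    exact hlarge N hodd (fun q _ => by
      rw [Subgroup.normalizer_eq_top_iff.mpr hNn]; exact Subgroup.mem_top q)


end Cfsg.Agent.S5427
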