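import Cfsg.Statements.S5428
import Cfsg.Agent.Lib.Helper7.LZ2
import Cfsg.Agent.Lib.Helper4.CentProd1

set_option linter.style.haveILetI false
set_option linter.unusedSectionVars false
set_option linter.unusedVariables false

set_option autoImplicit false
open Cfsg

namespace Cfsg.Agent.S5428

/-- Let z be an involution of the finite group G whose centralizer C has generalized Fitting subgroup Q extraspecial (as a 2-group), let A be a subgroup of C of odd order, and let R be the centralizer of A in Q; suppose R has order at least 32, the largest normal subgroup of odd order of the centralizer of the subgroup generated by A and R lies in A, the order of that centralizer is not divisible by 4, and g is an element of G with g z g⁻¹ in R but outside the centre Z of Q. Let M be the subgroup generated by A and the centralizer of A (A is normal in it). Then: the centralizer in M of the subgroup generated by R and A, joined with A, equals the subgroup generated by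 A and Z; the image of R in M/A is a large extraspecial 2-subgroup of M/A; and g z g⁻¹ is conjugate to z inside the subgroup generated by R and the centralizer of A in g Q g⁻¹. -/
theorem result {G : Type*} [Group G] [Finite G] (z : G) (hz : orderOf z = 2) (Q : Subgroup G) (hQC : Q ≤ Subgroup.centralizer ({z} : Set G)) (hF : (Cfsg.generalizedFittingSubgroup ↥(Subgroup.centralizer ({z} : Set G))).map (Subgroup.centralizer ({z} : Set G)).subtype = Q) (hQ : Cfsg.IsExtraspecial 2 ↥Q) (A : Subgroup G) (hA : A ≤ Subgroup.centralizer ({z} : Set G)) (hAodd : Odd (Nat.card ↥A)) (R : Subgroup G) (hR : R = Q ⊓ Subgroup.centralizer (A : Set G)) (hR32 : 32 ≤ Nat.card ↥R) (hO : (Cfsg.oddCore ↥(Subgroup.centralizer ((A ⊔ R : Subgroup G) : Set G))).map (Subgroup.centralizer ((A ⊔ R : Subgroup G) : Set G)).subtype ≤ A) (h4 : ¬ 4 ∣ Nat.card ↥(Subgroup.centralizer ((A ⊔ R : Subgroup G) : Set G))) (g : G) (hgR : g * z * g⁻¹ ∈ R) (hgZ : g * z * g⁻¹ ∉ ((Subgroup.center ↥Q).map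 Q.subtype)) (M : Subgroup G) (hM : M = Subgroup.centralizer (A : Set G) ⊔ A) [hn : (A.subgroupOf M).Normal] : (M ⊓ Subgroup.centralizer ((R ⊔ A : Subgroup G) : Set G)) ⊔ A = A ⊔ ((Subgroup.center ↥Q).map Q.subtype) ∧ Cfsg.IsLargeExtraspecial ((R.subgroupOf M).map (QuotientGroup.mk' (A.subgroupOf M))) ∧ ∃ x ∈ R ⊔ ((Q).map (MulAut.conj g).toMonoidHom ⊓ Subgroup.centralizer (A : Set G)), x * (g * z * g⁻¹) * x⁻¹ = z := by
  classical
  haveI : Fact (Nat.Prime 2) := ⟨Nat.prime_two⟩
  have hE : Cfsg.Agent.Lib.Helper7.LY.ES Q z := Cfsg.Agent.Lib.Helper7.LY.ES.of hz hQC hF hQ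
  have hEa := hE.conj g
  -- the centre of Q
  have hZ : ∀ c : G, c ∈ (Subgroup.center ↥Q).map Q.subtype ↔ c = 1 ∨ c = z := by
    intro c
    constructor
    · intro hc
      obtain ⟨c', hc', rfl⟩ := Subgroup.mem_map.1 hc
      apply hE.cent
      intro q hq
      have h1 := Subgroup.mem_center_iff.1 hc' ⟨q, hq⟩
      exact (congrArg Subtype.val h1).symm
    · rintro (h | h)
      · rw [h]
        exact Subgroup.one_mem _
      · rw [h]
        refine Subgroup.mem_map.2 ⟨⟨z, hE.zQ⟩, ?_, rfl⟩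
        rw [Subgroup.mem_center_iff]
        intro q
        exact Subtype.ext (hE.z_comm q q.2)
  have hzZ : z ∈ (Subgroup.center ↥Q).map Q.subtype := (hZ z).2 (Or.inr rfl)
  have hAz : ∀ α ∈ A, α * z = z * α := fun α hα =>
    ((Subgroup.mem_centralizer_iff.1 (hA hα)) z rfl).symm
  have hRmem : ∀ r : G, r ∈ R ↔ r ∈ Q ∧ ∀ α ∈ A, α * r = r * α := by
    intro r
    rw [hR, Subgroup.mem_inf, Subgroup.mem_centralizer_iff]
    exact Iff.rfl
  have hRQ : R ≤ Q := fun r hr => ((hRmem r).1 hr).1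
  have haQ : g * z * g⁻¹ ∈ Q := hRQ hgR
  have haA : ∀ α ∈ A, α * (g * z * g⁻¹) = (g * z * g⁻¹) * α := ((hRmem _).1 hgR).2
  have haz : g * z * g⁻¹ ≠ z := fun e => hgZ ((hZ _).2 (Or.inr e))
  have ha1 : g * z * g⁻¹ ≠ 1 := fun e => hgZ ((hZ _).2 (Or.inl e))
  have hzR : z ∈ R := (hRmem z).2 ⟨hE.zQ, hAz⟩
  -- z lies in the conjugate of Q, via S5422
  obtain ⟨n, hn1, hcardQ⟩ := Cfsg.Agent.Lib.Helper1.card_extraspecial hQ
  have hn2 : 2 ≤ n := by
    by_contra hlt
    have h1 : n = 1 := by omega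
    rw [h1] at hcardQ
    have h2 := Subgroup.card_le_of_le hRQ
    rw [hcardQ] at h2
    have h3 := le_trans hR32 h2
    norm_num at h3
  have hcentQ : Subgroup.centralizer (Q : Set G) ≤ Q := by
    intro c hc
    rcases hE.cent c (fun q hq => (Subgroup.mem_centralizer_iff.1 hc q hq).symm) with h | h
    · rw [h]
      exact Q.one_mem
    · rw [h]
      exact hE.zQ
  have hL2 := Cfsg.Agent.Lib.Helper7.LY.centralizer_eq_map_center Q hcentQ
  have hL3 : Subgroup.centralizer (((Subgroup.center ↥Q).map Q.subtype : Subgroup G) : Set G) ≤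
      Subgroup.normalizer (Q : Set G) := by
    intro c hc
    have h1 : z * c = c * z := Subgroup.mem_centralizer_iff.1 hc z hzZ
    exact Cfsg.Agent.Lib.Helper2.ExtraSp.mem_normalizer_of_conj_le
      (fun q hq => hE.norm c h1.symm q hq)
  have hgn : g ∉ Subgroup.normalizer
      (((Subgroup.center ↥Q).map Q.subtype : Subgroup G) : Set G) := by
    intro h
    exact hgZ ((Subgroup.mem_normalizer_iff.1 h z).1 hzZ)
  have hZg : ((Subgroup.center ↥Q).map Q.subtype).map (MulAut.conj g).toMonoidHom ≤ Q := by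
    intro y hy
    obtain ⟨c, hc, rfl⟩ := Subgroup.mem_map.1 hy
    rcases (hZ c).1 hc with h | h
    · rw [h, map_one]
      exact Q.one_mem
    · rw [h]
      exact haQ
  have h22 := Cfsg.Agent.S5422.result Q hQ hL2 hL3 n hn2 hcardQ g hgn hZg
  have hzQa : z ∈ Cfsg.Agent.Lib.Helper7.LX.cj g Q := h22.1 hzZ
  -- the two twisting elements
  obtain ⟨x₁, hx₁Q, hx₁A, hx₁⟩ := hE.exists_twist_fixed A hAz hAodd haQ haA ha1 haz
  obtain ⟨y, hyQa, hyA, hy⟩ :=
    hEa.exists_twist_fixed A haA hAodd hzQa hAz hE.z_ne (fun e => haz e.symm)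
  have hx₁R : x₁ ∈ R := (hRmem x₁).2 ⟨hx₁Q, hx₁A⟩
  have hyCA : y ∈ Subgroup.centralizer (A : Set G) := Subgroup.mem_centralizer_iff.2 hyA
  have hx₁CA : x₁ ∈ Subgroup.centralizer (A : Set G) := Subgroup.mem_centralizer_iff.2 hx₁A
  have hkey : (y * x₁) * (g * z * g⁻¹) * (y * x₁)⁻¹ = z := by
    calc y * x₁ * (g * z * g⁻¹) * (y * x₁)⁻¹
        = y * ((x₁ * (g * z * g⁻¹)) * x₁⁻¹) * y⁻¹ := by group
      _ = y * ((z * ((g * z * g⁻¹) * x₁)) * x₁⁻¹) * y⁻¹ := by rw [hx₁]
      _ = (y * z) * ((g * z * g⁻¹) * y⁻¹) := by group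
      _ = ((g * z * g⁻¹) * (z * y)) * ((g * z * g⁻¹) * y⁻¹) := by rw [hy]
      _ = (g * z * g⁻¹) * z * ((y * (g * z * g⁻¹)) * y⁻¹) := by group
      _ = (g * z * g⁻¹) * z * (((g * z * g⁻¹) * y) * y⁻¹) := by rw [hEa.z_comm y hyQa]
      _ = (g * z * g⁻¹) * (z * (g * z * g⁻¹)) := by group
      _ = (g * z * g⁻¹) * ((g * z * g⁻¹) * z) := by rw [← hE.z_comm _ haQ]
      _ = ((g * z * g⁻¹) * (g * z * g⁻¹)) * z := by group
      _ = z := by rw [hEa.z_sq, one_mul]
  -- the centralizer of A ⊔ R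
  have hXmem : ∀ c : G, (∀ α ∈ A, α * c = c * α) → (∀ r ∈ R, r * c = c * r) →
      c ∈ Subgroup.centralizer ((A ⊔ R : Subgroup G) : Set G) := by
    intro c h1 h2
    have hle : A ⊔ R ≤ Subgroup.centralizer ({c} : Set G) := by
      apply sup_le
      · intro α hα
        exact Cfsg.Agent.Lib.Helper2.ExtraSp.mem_cent_single.2 (h1 α hα).symm
      · intro r hr
        exact Cfsg.Agent.Lib.Helper2.ExtraSp.mem_cent_single.2 (h2 r hr).symm
    rw [Subgroup.mem_centralizer_iff]
    intro u hu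
    exact (Cfsg.Agent.Lib.Helper2.ExtraSp.mem_cent_single.1 (hle hu)).symm
  have hzX : z ∈ Subgroup.centralizer ((A ⊔ R : Subgroup G) : Set G) :=
    hXmem z hAz (fun r hr => hE.z_comm r (hRQ hr))
  have hzc : ∀ x ∈ Subgroup.centralizer ((A ⊔ R : Subgroup G) : Set G), x * z = z * x := by
    intro x hx
    exact (Subgroup.mem_centralizer_iff.1 hx z (Subgroup.mem_sup_right hzR)).symm
  have ikey : ∀ c ∈ Subgroup.centralizer ((A ⊔ R : Subgroup G) : Set G),
      ∃ k ∈ A, c = k ∨ c = z * k := by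
    intro c hc
    obtain ⟨k, hk, h⟩ := Cfsg.Agent.Lib.Helper7.LY.exists_oddCore_mul _ z hzX hE.z_ne hE.z_sq
      hzc h4 c hc
    exact ⟨k, hO hk, h⟩
  -- decomposition of M
  have hMdec : ∀ c ∈ M, ∃ n ∈ Subgroup.centralizer (A : Set G), ∃ α ∈ A, c = n * α := by
    intro c hc
    rw [hM] at hc
    exact Cfsg.Agent.Lib.Helper4.CentProd.exists_mul_of_mem_sup _ _
      (fun a ha b hb => (Subgroup.mem_centralizer_iff.1 ha b hb).symm) hc
  have hCAM : Subgroup.centralizer (A : Set G) ≤ M := by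
    rw [hM]
    exact le_sup_left
  have hAM : A ≤ M := by
    rw [hM]
    exact le_sup_right
  have hRCA : R ≤ Subgroup.centralizer (A : Set G) := by
    rw [hR]
    exact inf_le_right
  have hRM : R ≤ M := le_trans hRCA hCAM
  -- the commutator reduction
  have hred : ∀ n ∈ Subgroup.centralizer (A : Set G), ∀ α ∈ A, ∀ r ∈ R,
      (n * α) * r * (n * α)⁻¹ * r⁻¹ ∈ A → n * r = r * n := by
    intro n hn α hα r hr hmem
    have hαr : α * r = r * α := ((hRmem r).1 hr).2 α hα
    have e : (n * α) * r * (n * α)⁻¹ * r⁻¹ = n * r * n⁻¹ * r⁻¹ := by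
      calc (n * α) * r * (n * α)⁻¹ * r⁻¹ = n * (α * r * α⁻¹) * n⁻¹ * r⁻¹ := by group
        _ = n * r * n⁻¹ * r⁻¹ := by rw [Cfsg.Agent.Lib.Helper2.ExtraSp.cj_of_comm hαr]
    rw [e] at hmem
    have h1 := Cfsg.Agent.Lib.Helper7.LY.eq_one_of_commutator_mem_odd hAodd
      (hE.pow_four (hRQ hr)) ((hRmem r).1 hr).2 hmem
    have h2 := mul_inv_eq_one.1 h1
    exact mul_inv_eq_iff_eq_mul.1 h2
  have hzM : z ∈ M := hRM hzR
  refine ⟨?_, ?_, ?_⟩
  · -- part (i)
    apply le_antisymm
    · apply sup_le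
      · intro c hc
        have hc2 : c ∈ Subgroup.centralizer ((A ⊔ R : Subgroup G) : Set G) := by
          have h1 := (Subgroup.mem_inf.1 hc).2
          have e : (R ⊔ A : Subgroup G) = A ⊔ R := sup_comm _ _
          rw [e] at h1
          exact h1
        obtain ⟨k, hk, h | h⟩ := ikey c hc2
        · rw [h]
          exact Subgroup.mem_sup_left hk
        · rw [h, sup_comm]
          exact Subgroup.mul_mem_sup hzZ hk
      · exact le_sup_left
    · apply sup_le
      · exact le_sup_right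
      · intro c hc
        apply Subgroup.mem_sup_left
        have hzmem : z ∈ M ⊓ Subgroup.centralizer ((R ⊔ A : Subgroup G) : Set G) := by
          refine Subgroup.mem_inf.2 ⟨hzM, ?_⟩
          have e : (R ⊔ A : Subgroup G) = A ⊔ R := sup_comm _ _
          rw [e]
          exact hzX
        rcases (hZ c).1 hc with h | h
        · rw [h]
          exact Subgroup.one_mem _
        · rw [h]
          exact hzmem
  · -- part (ii)
    apply Cfsg.Agent.Lib.Helper7.LY.isLargeExtraspecial_quotient_odd (A.subgroupOf M)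
      (⟨z, hzM⟩ : ↥M) (R.subgroupOf M)
    · rw [Nat.card_congr (Subgroup.subgroupOfEquivOfLe hAM).toEquiv]
      exact hAodd
    · exact Subgroup.mem_subgroupOf.2 hzR
    · exact (hE.pg.to_le hRQ).comap_subtype
    · intro e
      exact hE.z_ne (congrArg Subtype.val e)
    · exact Subtype.ext hE.z_sq
    · intro p hp
      exact Subtype.ext (hE.z_comm p (hRQ (Subgroup.mem_subgroupOf.1 hp)))
    · intro a ha b hb
      rcases hE.comm a (hRQ (Subgroup.mem_subgroupOf.1 ha)) b
        (hRQ (Subgroup.mem_subgroupOf.1 hb)) with h | h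
      · left
        exact Subtype.ext h
      · right
        exact Subtype.ext h
    · intro a ha
      rcases hE.sq a (hRQ (Subgroup.mem_subgroupOf.1 ha)) with h | h
      · left
        exact Subtype.ext h
      · right
        exact Subtype.ext h
    · -- p4
      intro u hu huc
      have huR : (u : G) ∈ R := Subgroup.mem_subgroupOf.1 hu
      by_contra hcon
      have hu1 : (u : G) ≠ 1 := fun e => hcon (Or.inl (Subtype.ext e))
      have huz : (u : G) ≠ z := fun e => hcon (Or.inr (Subtype.ext e))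
      obtain ⟨x, hxQ, hxA, hx⟩ := hE.exists_twist_fixed A hAz hAodd (hRQ huR)
        ((hRmem _).1 huR).2 hu1 huz
      have hxR : x ∈ R := (hRmem x).2 ⟨hxQ, hxA⟩
      have h1 := congrArg Subtype.val (huc ⟨x, hRM hxR⟩ (Subgroup.mem_subgroupOf.2 hxR))
      exact hE.ne_of_twist hx h1.symm
    · -- p5
      refine ⟨⟨x₁, hRM hx₁R⟩, Subgroup.mem_subgroupOf.2 hx₁R, ⟨g * z * g⁻¹, hRM hgR⟩,
        Subgroup.mem_subgroupOf.2 hgR, ?_⟩
      intro e
      exact hE.ne_of_twist hx₁ (congrArg Subtype.val e)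
    · -- p6
      intro c hc
      obtain ⟨n, hn, α, hα, hcn⟩ := hMdec (c : G) c.2
      have hnR : ∀ r ∈ R, r * n = n * r := by
        intro r hr
        have h1 : (c : G) * r * (c : G)⁻¹ * r⁻¹ ∈ A :=
          Subgroup.mem_subgroupOf.1 (hc ⟨r, hRM hr⟩ (Subgroup.mem_subgroupOf.2 hr))
        rw [hcn] at h1
        exact (hred n hn α hα r hr h1).symm
      have hnX := hXmem n (Subgroup.mem_centralizer_iff.1 hn) hnR
      obtain ⟨k, hk, h | h⟩ := ikey n hnX
      · refine ⟨1, Subgroup.one_mem _, ⟨k * α, hAM (A.mul_mem hk hα)⟩,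
          Subgroup.mem_subgroupOf.2 (A.mul_mem hk hα), ?_⟩
        apply Subtype.ext
        show (c : G) = 1 * (k * α)
        rw [hcn, h, one_mul]
      · refine ⟨⟨z, hzM⟩, Subgroup.mem_subgroupOf.2 hzR, ⟨k * α, hAM (A.mul_mem hk hα)⟩,
          Subgroup.mem_subgroupOf.2 (A.mul_mem hk hα), ?_⟩
        apply Subtype.ext
        show (c : G) = z * (k * α)
        rw [hcn, h, mul_assoc]
    · -- p7
      intro c hc p hp
      obtain ⟨n, hn, α, hα, hcn⟩ := hMdec (c : G) c.2
      have h1 : (c : G) * z * (c : G)⁻¹ * z⁻¹ ∈ A := Subgroup.mem_subgroupOf.1 hc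
      rw [hcn] at h1
      have hnz : n * z = z * n := hred n hn α hα z hzR h1
      have hpR : (p : G) ∈ R := Subgroup.mem_subgroupOf.1 hp
      have hαp : α * (p : G) = (p : G) * α := ((hRmem _).1 hpR).2 α hα
      have e : (c : G) * (p : G) * (c : G)⁻¹ = n * (p : G) * n⁻¹ := by
        rw [hcn]
        calc (n * α) * (p : G) * (n * α)⁻¹ = n * (α * (p : G) * α⁻¹) * n⁻¹ := by group
          _ = n * (p : G) * n⁻¹ := by rw [Cfsg.Agent.Lib.Helper2.ExtraSp.cj_of_comm hαp]
      have hR' : n * (p : G) * n⁻¹ ∈ R := by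
        rw [hR]
        refine Subgroup.mem_inf.2 ⟨hE.norm n hnz p (hRQ hpR), ?_⟩
        exact Subgroup.mul_mem _ (Subgroup.mul_mem _ hn (hRCA hpR)) (Subgroup.inv_mem _ hn)
      refine ⟨⟨n * (p : G) * n⁻¹, hRM hR'⟩, Subgroup.mem_subgroupOf.2 hR', 1,
        Subgroup.one_mem _, ?_⟩
      apply Subtype.ext
      show (c : G) * (p : G) * (c : G)⁻¹ = n * (p : G) * n⁻¹ * 1
      rw [e, mul_one]
    · -- p9
      rw [Nat.card_congr (Subgroup.subgroupOfEquivOfLe hRM).toEquiv]
      exact hR32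
    · -- p10
      have hyx : (y * x₁)⁻¹ ∈ M :=
        hCAM (Subgroup.inv_mem _ (Subgroup.mul_mem _ hyCA hx₁CA))
      have e : (y * x₁)⁻¹ * z * (y * x₁)⁻¹⁻¹ = g * z * g⁻¹ := by
        calc (y * x₁)⁻¹ * z * (y * x₁)⁻¹⁻¹
            = (y * x₁)⁻¹ * z * (y * x₁) := by group
          _ = (y * x₁)⁻¹ * ((y * x₁) * (g * z * g⁻¹) * (y * x₁)⁻¹) * (y * x₁) := by rw [hkey]
          _ = g * z * g⁻¹ := by group
      refine ⟨⟨(y * x₁)⁻¹, hyx⟩, ?_, ?_⟩
      · apply Subgroup.mem_subgroupOf.2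
        show (y * x₁)⁻¹ * z * (y * x₁)⁻¹⁻¹ ∈ R
        rw [e]
        exact hgR
      · intro e'
        have h1 : (y * x₁)⁻¹ * z * (y * x₁)⁻¹⁻¹ = z := congrArg Subtype.val e'
        rw [e] at h1
        exact haz h1
  · -- part (iii)
    refine ⟨y * x₁, ?_, hkey⟩
    rw [sup_comm]
    exact Subgroup.mul_mem_sup (Subgroup.mem_inf.2 ⟨hyQa, hyCA⟩) hx₁R

end Cfsg.Agent.S5428
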