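import Cfsg.Statements.S5429
import Cfsg.Agent.Lib.Helper7.LY3
import Cfsg.Agent.Lib.Helper7.LY4

set_option linter.style.haveILetI false
set_option linter.unusedSectionVars false
set_option linter.unusedVariables false

set_option autoImplicit false
open Cfsg

namespace Cfsg.Agent.S5429

/-- Let z be an involution of the finite group G with centralizer C whose generalized Fitting subgroup Q is extraspecial of width at least 3 (order 2^(2w+1), w ≥ 3); let g be an element of G with g z g⁻¹ in Q but outside the centre Z of Q, and t an involution lying in both Q and g Q g⁻¹ that is not conjugate to z; write P for the centralizer of t in Q and suppose that the elements of C acting trivially by conjugation on P modulo the subgroup generated by t and z are exactly the elements of Q. Then the image of P in the centralizer of t modulo the subgroup generated by t is a large extraspecial 2-subgroup there, and g z g⁻¹ is conjugate to z inside the subgroup generated by P and the centralizer of t in g Q g⁻¹. -/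
theorem result {G : Type*} [Group G] [Finite G] (z : G) (hz : orderOf z = 2) (Q : Subgroup G) (hQC : Q ≤ Subgroup.centralizer ({z} : Set G)) (hF : (Cfsg.generalizedFittingSubgroup ↥(Subgroup.centralizer ({z} : Set G))).map (Subgroup.centralizer ({z} : Set G)).subtype = Q) (hQ : Cfsg.IsExtraspecial 2 ↥Q) (w : ℕ) (hw : 3 ≤ w) (hcard : Nat.card ↥Q = 2 ^ (2 * w + 1)) (g : G) (hgQ : g * z * g⁻¹ ∈ Q) (hgZ : g * z * g⁻¹ ∉ ((Subgroup.center ↥Q).map Q.subtype)) (t : G) (ht : orderOf t = 2) (htQ : t ∈ Q ⊓ (Q).map (MulAut.conj g).toMonoidHom) (htz : ¬ IsConj z t) (P : Subgroup G) (hP : P = Q ⊓ Subgroup.centralizer ({t} : Set G)) (hCP : ∀ c ∈ Subgroup.centralizer ({z} : Set G), (∀ x ∈ P, ∃ y ∈ Subgroup.closure ({t, z} : Set G), c * x * c⁻¹ = x * y) ↔ c ∈ Q) [hn : ((Subgroup.zpowers t).subgroupOf (Subgroup.centralizer ({t} : Set G))).Normal] : Cfsg.IsLargeExtraspecial ((P.subgroupOf (Subgroup.centralizer ({t} : Set G))).map (QuotientGroup.mk' ((Subgroup.zpowers t).subgroupOf (Subgroup.centralizer ({t} : Set G))))) ∧ ∃ x ∈ P ⊔ ((Q).map (MulAut.conj g).toMonoidHom ⊓ Subgroup.centralizer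 ({t} : Set G)), x * (g * z * g⁻¹) * x⁻¹ = z := by
  classical
  have hE : Cfsg.Agent.Lib.Helper7.LY.ES Q z := Cfsg.Agent.Lib.Helper7.LY.ES.of hz hQC hF hQ
  have ht1 : t ≠ 1 := by
    intro h
    rw [h, orderOf_one] at ht
    omega
  have htt : t * t = 1 := by
    have h1 := pow_orderOf_eq_one t
    rw [ht, pow_two] at h1
    exact h1
  have hnc : ∀ c : G, c * z * c⁻¹ ≠ t := fun c hc => htz (isConj_iff.2 ⟨c, hc⟩)
  have haz : g * z * g⁻¹ ≠ z := by
    intro e
    apply hgZ
    rw [e]
    refine Subgroup.mem_map.2 ⟨⟨z, hE.zQ⟩, ?_, rfl⟩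
    rw [Subgroup.mem_center_iff]
    intro q
    apply Subtype.ext
    exact hE.z_comm q q.2
  have hMS : Cfsg.Agent.Lib.Helper7.LY.MS Q z g t P :=
    { es := hE
      aQ := hgQ
      a_ne_z := haz
      t_ne := ht1
      t_sq := htt
      tQ := (Subgroup.mem_inf.1 htQ).1
      tQa := (Subgroup.mem_inf.1 htQ).2
      nconj := hnc
      hP := hP
      hCP := by
        intro c hcz hx
        have hcC : c ∈ Subgroup.centralizer ({z} : Set G) := by
          rw [Subgroup.mem_centralizer_iff]
          intro u hu
          rw [Set.mem_singleton_iff.1 hu]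
          exact hcz.symm
        apply (hCP c hcC).1
        intro x hxP
        rcases hx x hxP with h1 | h1
        · exact ⟨1, Subgroup.one_mem _, by rw [h1, mul_one]⟩
        · exact ⟨t, Subgroup.subset_closure (Set.mem_insert t _), h1⟩ }
  constructor
  · have htCt : t ∈ Subgroup.centralizer ({t} : Set G) := by
      rw [Subgroup.mem_centralizer_iff]
      intro u hu
      rw [Set.mem_singleton_iff.1 hu]
    have hzCt : z ∈ Subgroup.centralizer ({t} : Set G) := by
      rw [Subgroup.mem_centralizer_iff]
      intro u hu
      rw [Set.mem_singleton_iff.1 hu]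
      exact hE.z_comm t hMS.tQ
    have hcomm_t : ∀ x : ↥(Subgroup.centralizer ({t} : Set G)), (x : G) * t = t * (x : G) := by
      intro x
      exact ((Subgroup.mem_centralizer_iff.1 x.2) t rfl).symm
    have hPCt : ∀ p ∈ P, p ∈ Subgroup.centralizer ({t} : Set G) := by
      intro p hp
      rw [hP] at hp
      exact (Subgroup.mem_inf.1 hp).2
    apply Cfsg.Agent.Lib.Helper7.LY.isLargeExtraspecial_quotient
      ((Subgroup.zpowers t).subgroupOf (Subgroup.centralizer ({t} : Set G)))
      (⟨t, htCt⟩ : ↥(Subgroup.centralizer ({t} : Set G))) ⟨z, hzCt⟩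
      (P.subgroupOf (Subgroup.centralizer ({t} : Set G)))
    · intro e
      exact ht1 (congrArg Subtype.val e)
    · exact Subtype.ext htt
    · intro x
      exact Subtype.ext (hcomm_t x)
    · intro x
      rw [Subgroup.mem_subgroupOf]
      constructor
      · intro hx
        rcases Cfsg.Agent.Lib.Helper7.LX.mem_zpowers_of_order_two htt hx with h | h
        · left
          exact Subtype.ext h
        · right
          exact Subtype.ext h
      · rintro (h | h)
        · rw [h]
          exact Subgroup.one_mem _
        · rw [h]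
          exact Subgroup.mem_zpowers t
    · exact Subgroup.mem_subgroupOf.2 hMS.zP
    · exact (hE.pg.to_le (fun p hp => hMS.P_le hp)).comap_subtype
    · intro e
      exact hE.z_ne (congrArg Subtype.val e)
    · intro e
      exact hMS.t_ne_z (congrArg Subtype.val e).symm
    · exact Subtype.ext hE.z_sq
    · intro p hp
      exact Subtype.ext (hE.z_comm p (hMS.P_le (Subgroup.mem_subgroupOf.1 hp)))
    · intro a ha b hb
      rcases hE.comm a (hMS.P_le (Subgroup.mem_subgroupOf.1 ha)) b
        (hMS.P_le (Subgroup.mem_subgroupOf.1 hb)) with h | h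
      · left
        exact Subtype.ext h
      · right
        exact Subtype.ext h
    · intro a ha
      rcases hE.sq a (hMS.P_le (Subgroup.mem_subgroupOf.1 ha)) with h | h
      · left
        exact Subtype.ext h
      · right
        exact Subtype.ext h
    · intro y hy hyc
      have h1 := hMS.center_P (Subgroup.mem_subgroupOf.1 hy) (by
        intro p hp
        exact congrArg Subtype.val (hyc ⟨p, hPCt p hp⟩ (Subgroup.mem_subgroupOf.2 hp)))
      rcases h1 with h | h | h | h
      · left
        exact Subtype.ext h
      · right; left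
        exact Subtype.ext h
      · right; right; left
        exact Subtype.ext h
      · right; right; right
        exact Subtype.ext h
    · obtain ⟨a, ha, b, hb, hab⟩ := hMS.nonab
      refine ⟨⟨a, hPCt a ha⟩, Subgroup.mem_subgroupOf.2 ha, ⟨b, hPCt b hb⟩,
        Subgroup.mem_subgroupOf.2 hb, ?_⟩
      intro e
      exact hab (congrArg Subtype.val e)
    · intro c hc
      apply Subgroup.mem_subgroupOf.2
      apply hMS.KL (hcomm_t c)
      intro p hp
      rcases hc ⟨p, hPCt p hp⟩ (Subgroup.mem_subgroupOf.2 hp) with h | h
      · left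
        exact congrArg Subtype.val h
      · right
        exact congrArg Subtype.val h
    · intro c hc p hp
      apply Subgroup.mem_subgroupOf.2
      have hcz : (c : G) * z = z * (c : G) := by
        apply hMS.comm_z
        rcases hc with h | h
        · left
          exact congrArg Subtype.val h
        · right
          exact congrArg Subtype.val h
      exact hMS.norm_P (hcomm_t c) hcz p (Subgroup.mem_subgroupOf.1 hp)
    · intro K hK hPK
      have h1 : K.map (Subgroup.centralizer ({t} : Set G)).subtype = ⊥ := by
        apply hMS.odd_trivial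
        · rw [Subgroup.card_map_of_injective (Subgroup.subtype_injective _)]
          exact hK
        · intro p hp k hk
          obtain ⟨k₀, hk₀, rfl⟩ := Subgroup.mem_map.1 hk
          exact Subgroup.mem_map.2
            ⟨_, hPK ⟨p, hPCt p hp⟩ (Subgroup.mem_subgroupOf.2 hp) k₀ hk₀, rfl⟩
      exact (Subgroup.map_eq_bot_iff_of_injective K (Subgroup.subtype_injective _)).1 h1
  · obtain ⟨x, hx, y, hy, hxy⟩ := hMS.part2
    refine ⟨y * x, ?_, hxy⟩
    rw [sup_comm]
    exact Subgroup.mul_mem_sup hy hx

end Cfsg.Agent.S5429
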