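import Cfsg.Statements.S5430
import Cfsg.Agent.Lib.Helper2.Pair2
-- import your own Cfsg.Agent.* helpers here

set_option autoImplicit false
open Cfsg
open Cfsg.Agent.Lib.Helper2.ExtraSp Cfsg.Agent.Lib.Helper2.D8Syl Cfsg.Agent.Lib.Helper2.Sing Cfsg.Agent.Lib.Helper2.LEP Cfsg.Agent.Lib.Helper9

namespace Cfsg.Agent.S5430

/-- Let Q be a large extraspecial 2-subgroup of the finite group G (extraspecial; centralizer equal to its centre; normal in the centralizer of its centre; normalizing no non-trivial subgroup of odd order) with centre generated by z, an involution, of width w ≥ 2 (order 2^(2w+1)); let g be an element outside the centralizer H of z with g z g⁻¹ in Q; write V for the subgroup generated by z and g z g⁻¹, X for the subgroup generated by Q and g Q g⁻¹, R for the subgroup generated by the centralizer of z in g Q g⁻¹ and the centralizer of g z g⁻¹ in Q, and E for the intersection of Q and g Q g⁻¹. Then R is the centralizer of V in X and is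 the largest normal 2-subgroup of X, and X/R is isomorphic to the symmetric group of degree 3; moreover the normalizer of V is the product of X and the centralizer of V in H, X is normal in it, and modulo R it is the direct product of X/R and of the centralizer of V in H modulo R. -/
theorem result {G : Type*} [Group G] [Finite G] (Q : Subgroup G) (hQ : Cfsg.IsLargeExtraspecial Q) (z : G) (hz : ((Subgroup.center ↥Q).map Q.subtype) = Subgroup.zpowers z) (hz2 : orderOf z = 2) (w : ℕ) (hw : 2 ≤ w) (hcard : Nat.card ↥Q = 2 ^ (2 * w + 1)) (g : G) (hgH : g ∉ Subgroup.centralizer ({z} : Set G)) (hgQ : g * z * g⁻¹ ∈ Q) (V X R E : Subgroup G) (hV : V = Subgroup.closure ({z, g * z * g⁻¹} : Set G)) (hX : X = Q ⊔ (Q).map (MulAut.conj g).toMonoidHom) (hR : R = ((Q).map (MulAut.conj g).toMonoidHom ⊓ Subgroup.centralizer ({z} : Set G)) ⊔ (Q ⊓ Subgroup.centralizer ({g * z * g⁻¹} : Set G))) (hE : E = Q ⊓ (Q).map (MulAut.conj g).toMonoidHom) : R = X ⊓ Subgroup.centralizer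 (V : Set G) ∧ R = (Cfsg.pCore 2 ↥X).map X.subtype ∧ (∃ h : (R.subgroupOf X).Normal, Nonempty (↥X ⧸ R.subgroupOf X ≃* Equiv.Perm (Fin 3))) ∧ Subgroup.normalizer (V : Set G) = X ⊔ (Subgroup.centralizer ({z} : Set G) ⊓ Subgroup.centralizer (V : Set G)) ∧ (∀ y ∈ Subgroup.normalizer (V : Set G), ∀ x ∈ X, y * x * y⁻¹ ∈ X) ∧ R ≤ Subgroup.centralizer ({z} : Set G) ⊓ Subgroup.centralizer (V : Set G) ∧ (∀ x ∈ X, ∀ c ∈ Subgroup.centralizer ({z} : Set G) ⊓ Subgroup.centralizer (V : Set G), x * c * x⁻¹ * c⁻¹ ∈ R) ∧ X ⊓ (Subgroup.centralizer ({z} : Set G) ⊓ Subgroup.centralizer (V : Set G)) = R := by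
  have hP := pair_of_large hQ hz hz2 hgH hgQ
  obtain ⟨x, hxdef⟩ : ∃ x, x = g * z * g⁻¹ := ⟨_, rfl⟩
  obtain ⟨Q₂, hQ₂def⟩ : ∃ Q₂, Q₂ = Q.map (MulAut.conj g).toMonoidHom := ⟨_, rfl⟩
  rw [← hxdef] at hV hR hP
  rw [← hQ₂def] at hX hR hE hP
  have hR' : R = AA Q₂ z ⊔ AA Q x := hR
  have hc : x * z = z * x := hP.zz.symm
  have hVmem : ∀ v, v ∈ V ↔ v = 1 ∨ v = z ∨ v = x ∨ v = x * z := by
    intro v
    rw [hV, closure_pair_eq hP.es₁.z_sq hP.es₂.z_sq hc]
    exact mem_fourSub _ _ _ v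
  have hzV : z ∈ V := (hVmem z).mpr (Or.inr (Or.inl rfl))
  have hxV : x ∈ V := (hVmem x).mpr (Or.inr (Or.inr (Or.inl rfl)))
  have hVQ : V ≤ Q := by
    intro v hv
    rcases (hVmem v).mp hv with h | h | h | h
    · rw [h]; exact Subgroup.one_mem _
    · rw [h]; exact hP.es₁.zQ
    · rw [h]; exact hP.m₁
    · rw [h]; exact Q.mul_mem hP.m₁ hP.es₁.zQ
  have hVQ₂ : V ≤ Q₂ := by
    intro v hv
    rcases (hVmem v).mp hv with h | h | h | h
    · rw [h]; exact Subgroup.one_mem _
    · rw [h]; exact hP.m₂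
    · rw [h]; exact hP.es₂.zQ
    · rw [h]; exact Q₂.mul_mem hP.es₂.zQ hP.m₂
  haveI : Finite ↥V := inferInstance
  have hQNV : Q ≤ Subgroup.normalizer (V : Set G) := by
    intro q hq
    apply mem_normalizer_of_conj_le
    intro v hv
    have e : q * v * q⁻¹ = (q * v * q⁻¹ * v⁻¹) * v := by group
    rw [e]
    rcases hP.es₁.comm_mem q hq v (hVQ hv) with h | h
    · rw [h, one_mul]; exact hv
    · rw [h]; exact V.mul_mem hzV hv
  have hQ₂NV : Q₂ ≤ Subgroup.normalizer (V : Set G) := by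
    intro q hq
    apply mem_normalizer_of_conj_le
    intro v hv
    have e : q * v * q⁻¹ = (q * v * q⁻¹ * v⁻¹) * v := by group
    rw [e]
    rcases hP.es₂.comm_mem q hq v (hVQ₂ hv) with h | h
    · rw [h, one_mul]; exact hv
    · rw [h]; exact V.mul_mem hxV hv
  have hXNV : X ≤ Subgroup.normalizer (V : Set G) := by rw [hX]; exact sup_le hQNV hQ₂NV
  have hQX : Q ≤ X := by rw [hX]; exact le_sup_left
  have hQ₂X : Q₂ ≤ X := by rw [hX]; exact le_sup_right
  have hRX : R ≤ X := by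
    rw [hR', hX, sup_comm]
    exact sup_le_sup (fun a ha => (mem_AA.mp ha).1) (fun a ha => (mem_AA.mp ha).1)
  have hVcen : ∀ v ∈ V, ∀ r ∈ R, r * v = v * r := by
    intro v hv r hr
    rw [hR'] at hr
    have h1 : r * z = z * r := hP.z_central_R hr
    have h2 : r * x = x * r := by
      have hr' : r ∈ AA Q x ⊔ AA Q₂ z := by rw [sup_comm]; exact hr
      exact hP.symm.z_central_R hr'
    rcases (hVmem v).mp hv with h | h | h | h
    · rw [h, mul_one, one_mul]
    · rw [h]; exact h1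
    · rw [h]; exact h2
    · rw [h]
      calc r * (x * z) = (r * x) * z := by group
        _ = x * (r * z) := by rw [h2]; group
        _ = x * z * r := by rw [h1]; group
  have hVR : V ≤ R := by
    intro v hv
    rw [hR']
    have hzR : z ∈ AA Q₂ z ⊔ AA Q x := hP.z₁_mem_R
    have hxR : x ∈ AA Q₂ z ⊔ AA Q x := Subgroup.mem_sup_right (mem_AA.mpr ⟨hP.m₁, rfl⟩)
    rcases (hVmem v).mp hv with h | h | h | h
    · rw [h]; exact Subgroup.one_mem _
    · rw [h]; exact hzR
    · rw [h]; exact hxR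
    · rw [h]; exact Subgroup.mul_mem _ hxR hzR
  have hRcV : R ≤ Subgroup.centralizer (V : Set G) := by
    intro r hr
    rw [Subgroup.mem_centralizer_iff]
    intro v hv
    exact (hVcen v hv r hr).symm
  have hRcz : R ≤ Subgroup.centralizer ({z} : Set G) := by rw [hR']; exact hP.R_le_cent
  haveI : Finite ↥R := inferInstance
  have hQNR : Q ≤ Subgroup.normalizer (R : Set G) := by
    intro q hq
    apply mem_normalizer_of_conj_le
    intro r hr
    rw [hR'] at hr ⊢
    exact hP.Q₁_norm_R hq hr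
  have hQ₂NR : Q₂ ≤ Subgroup.normalizer (R : Set G) := by
    intro q hq
    apply mem_normalizer_of_conj_le
    intro r hr
    rw [hR'] at hr ⊢
    have hr' : r ∈ AA Q x ⊔ AA Q₂ z := by rw [sup_comm]; exact hr
    have h1 := hP.symm.Q₁_norm_R hq hr'
    rw [sup_comm] at h1
    exact h1
  have hXNR : X ≤ Subgroup.normalizer (R : Set G) := by rw [hX]; exact sup_le hQNR hQ₂NR
  have hnorm : (R.subgroupOf X).Normal := by
    refine ⟨fun n hn y => ?_⟩
    rw [Subgroup.mem_subgroupOf] at hn ⊢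
    have h1 := (Subgroup.mem_normalizer_iff.mp (hXNR y.2) (n : G)).mp hn
    show (y : G) * (n : G) * (y : G)⁻¹ ∈ R
    exact h1
  haveI := hnorm
  -- the swapping elements
  obtain ⟨q₀, hq₀Q, hq₀x⟩ := exists_swap hP.es₁ hP.m₁ hP.es₂.z_ne hP.ne.symm
  obtain ⟨s₀, hs₀Q, hs₀z⟩ := exists_swap hP.es₂ hP.m₂ hP.es₁.z_ne hP.ne
  have hq₀n : ¬ x * q₀ = q₀ * x := by
    intro h
    have h1 : q₀ * x * q₀⁻¹ = x := cj_of_comm h.symm
    rw [hq₀x] at h1
    exact hP.es₁.z_ne (mul_left_cancel (h1.trans (mul_one x).symm))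
  have hs₀n : ¬ z * s₀ = s₀ * z := by
    intro h
    have h1 : s₀ * z * s₀⁻¹ = z := cj_of_comm h.symm
    rw [hs₀z] at h1
    exact hP.es₂.z_ne (mul_left_cancel (h1.trans (mul_one z).symm))
  obtain ⟨hq_z, hq_x, hq_y⟩ := hP.act hq₀Q hq₀n
  obtain ⟨hs_x, hs_z, hs_y⟩ := hP.symm.act hs₀Q hs₀n
  have hzx : z * x = x * z := hP.zz
  rw [hzx] at hs_z hs_y
  have hy_ne_x : x * z ≠ x := fun h => hP.es₁.z_ne (mul_left_cancel (h.trans (mul_one x).symm))
  have hy_ne_z : x * z ≠ z := fun h => hP.es₂.z_ne (mul_right_cancel (h.trans (one_mul z).symm))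
  have hx_ne_z : x ≠ z := hP.ne.symm
  obtain ⟨q₁, hq₁⟩ : ∃ q₁ : ↥X, (q₁ : G) = q₀ := ⟨⟨q₀, hQX hq₀Q⟩, rfl⟩
  obtain ⟨s₁, hs₁⟩ : ∃ s₁ : ↥X, (s₁ : G) = s₀ := ⟨⟨s₀, hQ₂X hs₀Q⟩, rfl⟩
  have hgen : Q.subgroupOf X ⊔ Q₂.subgroupOf X = ⊤ := by
    rw [← Subgroup.subgroupOf_sup hQX hQ₂X, ← hX]
    exact Subgroup.subgroupOf_self X
  have hNC : R.subgroupOf X ≤ (Subgroup.centralizer (V : Set G)).subgroupOf X := by
    intro y hy
    rw [Subgroup.mem_subgroupOf] at hy ⊢
    exact hRcV hy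
  have hq₀sq : q₁ * q₁ ∈ R.subgroupOf X := by
    rw [Subgroup.mem_subgroupOf, Subgroup.coe_mul, hq₁]
    rcases hP.es₁.sq_mem q₀ hq₀Q with h | h
    · rw [h]; exact R.one_mem
    · rw [h]; exact hVR hzV
  have hs₀sq : s₁ * s₁ ∈ R.subgroupOf X := by
    rw [Subgroup.mem_subgroupOf, Subgroup.coe_mul, hs₁]
    rcases hP.es₂.sq_mem s₀ hs₀Q with h | h
    · rw [h]; exact R.one_mem
    · rw [h]; exact hVR hxV
  have hbraid : (q₁ * s₁ * q₁⁻¹)⁻¹ * (s₁ * q₁ * s₁⁻¹) ∈ R.subgroupOf X := by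
    simp only [Subgroup.mem_subgroupOf, Subgroup.coe_mul, Subgroup.coe_inv, hq₁, hs₁]
    rw [hR']
    exact key_rel hP hQ₂def hxdef hq₀Q hs₀Q hq₀n hs₀n
  have hP₁ : ∀ q ∈ Q.subgroupOf X, q ∈ R.subgroupOf X ∨ q₁⁻¹ * q ∈ R.subgroupOf X := by
    intro q hq
    rw [Subgroup.mem_subgroupOf] at hq
    by_cases hqc : x * (q : G) = (q : G) * x
    · left
      rw [Subgroup.mem_subgroupOf, hR']
      exact Subgroup.mem_sup_right (mem_AA.mpr ⟨hq, hqc⟩)
    · right
      rw [Subgroup.mem_subgroupOf, Subgroup.coe_mul, Subgroup.coe_inv, hq₁, hR']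
      exact Subgroup.mem_sup_right (hP.coset hq₀Q hq hq₀n hqc)
  have hP₂ : ∀ s ∈ Q₂.subgroupOf X, s ∈ R.subgroupOf X ∨ s₁⁻¹ * s ∈ R.subgroupOf X := by
    intro s hs
    rw [Subgroup.mem_subgroupOf] at hs
    by_cases hsc : z * (s : G) = (s : G) * z
    · left
      rw [Subgroup.mem_subgroupOf, hR']
      exact Subgroup.mem_sup_left (mem_AA.mpr ⟨hs, hsc⟩)
    · right
      rw [Subgroup.mem_subgroupOf, Subgroup.coe_mul, Subgroup.coe_inv, hs₁, hR']
      exact Subgroup.mem_sup_left (hP.symm.coset hs₀Q hs hs₀n hsc)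
  have h1 : q₁ ∉ (Subgroup.centralizer (V : Set G)).subgroupOf X := by
    rw [Subgroup.mem_subgroupOf, hq₁]
    exact not_mem_centralizer_of_cj hxV hq_x hy_ne_x
  have h2 : s₁ ∉ (Subgroup.centralizer (V : Set G)).subgroupOf X := by
    rw [Subgroup.mem_subgroupOf, hs₁]
    exact not_mem_centralizer_of_cj hzV hs_z hy_ne_z
  have h3 : q₁ * s₁ ∉ (Subgroup.centralizer (V : Set G)).subgroupOf X := by
    rw [Subgroup.mem_subgroupOf, Subgroup.coe_mul, hq₁, hs₁]
    exact not_mem_centralizer_of_cj hzV (cj_mul hs_z hq_y) hx_ne_z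
  have h4 : s₁ * q₁ ∉ (Subgroup.centralizer (V : Set G)).subgroupOf X := by
    rw [Subgroup.mem_subgroupOf, Subgroup.coe_mul, hq₁, hs₁]
    exact not_mem_centralizer_of_cj hxV (cj_mul hq_x hs_y) hx_ne_z.symm
  have h5 : q₁ * s₁ * q₁ ∉ (Subgroup.centralizer (V : Set G)).subgroupOf X := by
    rw [Subgroup.mem_subgroupOf, Subgroup.coe_mul, Subgroup.coe_mul, hq₁, hs₁]
    exact not_mem_centralizer_of_cj hzV (cj_mul hq_z (cj_mul hs_z hq_y)) hx_ne_z
  obtain ⟨hCN, hiso, hcore⟩ := s3_quotient (R.subgroupOf X)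
    ((Subgroup.centralizer (V : Set G)).subgroupOf X) hNC (Q.subgroupOf X) (Q₂.subgroupOf X) hgen
    q₁ s₁ hq₀sq hs₀sq hbraid hP₁ hP₂ h1 h2 h3 h4 h5
  -- (1)
  have hRXC : R = X ⊓ Subgroup.centralizer (V : Set G) := by
    apply le_antisymm (le_inf hRX hRcV)
    intro y hy
    obtain ⟨hyX, hyC⟩ := Subgroup.mem_inf.mp hy
    have h : (⟨y, hyX⟩ : ↥X) ∈ (Subgroup.centralizer (V : Set G)).subgroupOf X :=
      Subgroup.mem_subgroupOf.mpr hyC
    rw [hCN] at h
    exact Subgroup.mem_subgroupOf.mp h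
  -- (2)
  have hR2 : IsPGroup 2 ↥R := by rw [hR']; exact hP.R_two
  have hpc : Cfsg.pCore 2 ↥X = R.subgroupOf X :=
    le_antisymm (hcore _ (pCore_normal' 2 ↥X) (pCore_isPGroup' 2 ↥X))
      (le_pCore' hnorm hR2.comap_subtype)
  -- (4)
  have hNV : Subgroup.normalizer (V : Set G) =
      X ⊔ (Subgroup.centralizer ({z} : Set G) ⊓ Subgroup.centralizer (V : Set G)) := by
    apply le_antisymm
    · intro n hn
      have hnz : n * z * n⁻¹ ∈ V := (Subgroup.mem_normalizer_iff.mp hn z).mp hzV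
      have ht : ∃ t ∈ X, (t * n) * z * (t * n)⁻¹ = z := by
        rcases (hVmem _).mp hnz with h | h | h | h
        · exfalso
          apply hP.es₁.z_ne
          calc z = n⁻¹ * (n * z * n⁻¹) * n := by group
            _ = 1 := by rw [h]; group
        · exact ⟨1, X.one_mem, by rw [one_mul]; exact h⟩
        · exact ⟨s₀ * q₀, X.mul_mem (hQ₂X hs₀Q) (hQX hq₀Q), cj_mul h (cj_mul hq_x hs_y)⟩
        · exact ⟨s₀, hQ₂X hs₀Q, cj_mul h hs_y⟩
      obtain ⟨t, htX, htz⟩ := ht
      have hmN : t * n ∈ Subgroup.normalizer (V : Set G) := Subgroup.mul_mem _ (hXNV htX) hn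
      have hmx : (t * n) * x * (t * n)⁻¹ ∈ V := (Subgroup.mem_normalizer_iff.mp hmN x).mp hxV
      have hu : ∃ u ∈ X, (u * (t * n)) * z * (u * (t * n))⁻¹ = z ∧
          (u * (t * n)) * x * (u * (t * n))⁻¹ = x := by
        rcases (hVmem _).mp hmx with h | h | h | h
        · exfalso
          apply hP.es₂.z_ne
          calc x = (t * n)⁻¹ * ((t * n) * x * (t * n)⁻¹) * (t * n) := by group
            _ = 1 := by rw [h]; group
        · exfalso
          apply hP.ne
          have h' : (t * n) * z * (t * n)⁻¹ = (t * n) * x * (t * n)⁻¹ := by rw [htz, h]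
          calc z = (t * n)⁻¹ * ((t * n) * z * (t * n)⁻¹) * (t * n) := by group
            _ = (t * n)⁻¹ * ((t * n) * x * (t * n)⁻¹) * (t * n) := by rw [h']
            _ = x := by group
        · exact ⟨1, X.one_mem, by rw [one_mul]; exact htz, by rw [one_mul]; exact h⟩
        · exact ⟨q₀, hQX hq₀Q, cj_mul htz hq_z, cj_mul h hq_y⟩
      obtain ⟨u, huX, huz, hux⟩ := hu
      have c1 : z * (u * (t * n)) = (u * (t * n)) * z := (comm_of_cj huz).symm
      have c2 : x * (u * (t * n)) = (u * (t * n)) * x := (comm_of_cj hux).symm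
      have hcz : u * (t * n) ∈ Subgroup.centralizer ({z} : Set G) := by
        rw [mem_cent_single]; exact c1
      have hcV : u * (t * n) ∈ Subgroup.centralizer (V : Set G) := by
        rw [Subgroup.mem_centralizer_iff]
        intro v hv
        rcases (hVmem v).mp hv with h | h | h | h
        · rw [h, one_mul, mul_one]
        · rw [h]; exact c1
        · rw [h]; exact c2
        · rw [h]
          calc x * z * (u * (t * n)) = x * (z * (u * (t * n))) := by group
            _ = x * ((u * (t * n)) * z) := by rw [c1]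
            _ = (x * (u * (t * n))) * z := by group
            _ = ((u * (t * n)) * x) * z := by rw [c2]
            _ = u * (t * n) * (x * z) := by group
      have e : n = (u * t)⁻¹ * (u * (t * n)) := by group
      rw [e]
      exact Subgroup.mul_mem_sup (X.inv_mem (X.mul_mem huX htX)) (Subgroup.mem_inf.mpr ⟨hcz, hcV⟩)
    · apply sup_le hXNV
      exact le_trans inf_le_right (Subgroup.centralizer_le_normalizer _)
  -- (5)
  haveI : Finite ↥X := inferInstance
  have hCle : Subgroup.centralizer ({z} : Set G) ⊓ Subgroup.centralizer (V : Set G) ≤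
      Subgroup.normalizer (X : Set G) := by
    intro c hc
    obtain ⟨hcz, hcV⟩ := Subgroup.mem_inf.mp hc
    have hcx : c ∈ Subgroup.centralizer ({x} : Set G) := by
      rw [mem_cent_single]
      exact Subgroup.mem_centralizer_iff.mp hcV x hxV
    have n1 := hP.n₁ hcz
    have n2 := hP.n₂ hcx
    apply mem_normalizer_of_conj_le
    have hle : X ≤ X.comap (MulAut.conj c).toMonoidHom := by
      rw [hX]
      apply sup_le
      · intro q hq
        rw [Subgroup.mem_comap, MulEquiv.coe_toMonoidHom, MulAut.conj_apply]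
        exact Subgroup.mem_sup_left ((Subgroup.mem_normalizer_iff.mp n1 q).mp hq)
      · intro q hq
        rw [Subgroup.mem_comap, MulEquiv.coe_toMonoidHom, MulAut.conj_apply]
        exact Subgroup.mem_sup_right ((Subgroup.mem_normalizer_iff.mp n2 q).mp hq)
    intro y hy
    have h := hle hy
    rwa [Subgroup.mem_comap, MulEquiv.coe_toMonoidHom, MulAut.conj_apply] at h
  have hNX : Subgroup.normalizer (V : Set G) ≤ Subgroup.normalizer (X : Set G) := by
    rw [hNV]; exact sup_le Subgroup.le_normalizer hCle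
  refine ⟨hRXC, ?_, ⟨hnorm, hiso⟩, hNV, ?_, le_inf hRcz hRcV, ?_, ?_⟩
  · rw [hpc]; exact (Subgroup.map_subgroupOf_eq_of_le hRX).symm
  · intro y hy x' hx'
    exact (Subgroup.mem_normalizer_iff.mp (hNX hy) x').mp hx'
  · intro x' hx' c hc
    rw [hRXC, Subgroup.mem_inf]
    constructor
    · have h1 : c * x'⁻¹ * c⁻¹ ∈ X :=
        (Subgroup.mem_normalizer_iff.mp (hCle hc) x'⁻¹).mp (X.inv_mem hx')
      have e : x' * c * x'⁻¹ * c⁻¹ = x' * (c * x'⁻¹ * c⁻¹) := by group
      rw [e]; exact X.mul_mem hx' h1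
    · have hcV := (Subgroup.mem_inf.mp hc).2
      have h2 : x' * c * x'⁻¹ ∈ Subgroup.centralizer (V : Set G) := by
        rw [Subgroup.mem_centralizer_iff]
        intro v hv
        have hv' : x'⁻¹ * v * x' ∈ V := by
          have h3 := (Subgroup.mem_normalizer_iff.mp (Subgroup.inv_mem _ (hXNV hx')) v).mp hv
          rwa [inv_inv] at h3
        have hcv := Subgroup.mem_centralizer_iff.mp hcV _ hv'
        calc v * (x' * c * x'⁻¹) = x' * ((x'⁻¹ * v * x') * c) * x'⁻¹ := by group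
          _ = x' * (c * (x'⁻¹ * v * x')) * x'⁻¹ := by rw [hcv]
          _ = x' * c * x'⁻¹ * v := by group
      exact Subgroup.mul_mem _ h2 (Subgroup.inv_mem _ hcV)
  · have hle : Subgroup.centralizer (V : Set G) ≤ Subgroup.centralizer ({z} : Set G) :=
      Subgroup.centralizer_le (Set.singleton_subset_iff.mpr hzV)
    rw [inf_eq_right.mpr hle]
    exact hRXC.symm

end Cfsg.Agent.S5430
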