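import Cfsg.Statements.S5431
import Cfsg.Agent.Lib.Helper2.Pair
-- import your own Cfsg.Agent.* helpers here

set_option autoImplicit false
open Cfsg
open Cfsg.Agent.Lib.Helper2.ExtraSp Cfsg.Agent.Lib.Helper2.D8Syl Cfsg.Agent.Lib.Helper2.Sing Cfsg.Agent.Lib.Helper2.LEP
open scoped commutatorElement

namespace Cfsg.Agent.S5431

/-- Let Q be a large extraspecial 2-subgroup of the finite group G (extraspecial; centralizer equal to its centre; normal in the centralizer of its centre; normalizing no non-trivial subgroup of odd order) with centre generated by z, an involution, of width w ≥ 2 (order 2^(2w+1)); let g be an element outside the centralizer H of z with g z g⁻¹ in Q; write V for the subgroup generated by z and g z g⁻¹, X for the subgroup generated by Q and g Q g⁻¹, R for the subgroup generated by the centralizer of z in g Q g⁻¹ and the centralizer of g z g⁻¹ in Q, and E for the intersection of Q and g Q g⁻¹. Then V is the centre of R, E lies in the second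 centre of R, R is nilpotent of class at most 3, E and R/E are elementary abelian, R/E is the direct product of the images of the centralizer of g z g⁻¹ in Q and of the centralizer of z in g Q g⁻¹ (R is their product and they meet in E), and the commutator subgroup of X and E lies in V. -/
theorem result {G : Type*} [Group G] [Finite G] (Q : Subgroup G) (hQ : Cfsg.IsLargeExtraspecial Q) (z : G) (hz : ((Subgroup.center ↥Q).map Q.subtype) = Subgroup.zpowers z) (hz2 : orderOf z = 2) (w : ℕ) (hw : 2 ≤ w) (hcard : Nat.card ↥Q = 2 ^ (2 * w + 1)) (g : G) (hgH : g ∉ Subgroup.centralizer ({z} : Set G)) (hgQ : g * z * g⁻¹ ∈ Q) (V X R E : Subgroup G) (hV : V = Subgroup.closure ({z, g * z * g⁻¹} : Set G)) (hX : X = Q ⊔ (Q).map (MulAut.conj g).toMonoidHom) (hR : R = ((Q).map (MulAut.conj g).toMonoidHom ⊓ Subgroup.centralizer ({z} : Set G)) ⊔ (Q ⊓ Subgroup.centralizer ({g * z * g⁻¹} : Set G))) (hE : E = Q ⊓ (Q).map (MulAut.conj g).toMonoidHom) : (Subgroup.center ↥R).map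 R.subtype = V ∧ E ≤ (Subgroup.upperCentralSeries ↥R 2).map R.subtype ∧ Subgroup.upperCentralSeries ↥R 3 = ⊤ ∧ Cfsg.IsElementaryAbelian 2 E ∧ (∀ x ∈ R, ∀ y ∈ R, x * y * x⁻¹ * y⁻¹ ∈ E ∧ x ^ 2 ∈ E) ∧ ((Q).map (MulAut.conj g).toMonoidHom ⊓ Subgroup.centralizer ({z} : Set G)) ⊓ (Q ⊓ Subgroup.centralizer ({g * z * g⁻¹} : Set G)) = E ∧ ⁅X, E⁆ ≤ V := by
  have hP := pair_of_large hQ hz hz2 hgH hgQ
  obtain ⟨x, hxdef⟩ : ∃ x, x = g * z * g⁻¹ := ⟨_, rfl⟩
  obtain ⟨Q₂, hQ₂def⟩ : ∃ Q₂, Q₂ = Q.map (MulAut.conj g).toMonoidHom := ⟨_, rfl⟩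
  rw [← hxdef] at hV hR hP ⊢
  rw [← hQ₂def] at hX hR hE hP ⊢
  have hR' : R = AA Q₂ z ⊔ AA Q x := hR
  have hc : x * z = z * x := hP.zz.symm
  have hVmem : ∀ v, v ∈ V ↔ v = 1 ∨ v = z ∨ v = x ∨ v = x * z := by
    intro v
    rw [hV, closure_pair_eq hP.es₁.z_sq hP.es₂.z_sq hc]
    exact mem_fourSub _ _ _ v
  have hzV : z ∈ V := (hVmem z).mpr (Or.inr (Or.inl rfl))
  have hxV : x ∈ V := (hVmem x).mpr (Or.inr (Or.inr (Or.inl rfl)))
  have hEQ : E ≤ Q := by rw [hE]; exact inf_le_left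
  have hEQ₂ : E ≤ Q₂ := by rw [hE]; exact inf_le_right
  have hzE : z ∈ E := by rw [hE]; exact hP.z₁_mem_E
  have hxE : x ∈ E := by rw [hE]; exact hP.z₂_mem_E
  have hVQ : V ≤ Q := by
    intro v hv
    rcases (hVmem v).mp hv with h | h | h | h
    · rw [h]; exact Subgroup.one_mem _
    · rw [h]; exact hP.es₁.zQ
    · rw [h]; exact hP.m₁
    · rw [h]; exact Q.mul_mem hP.m₁ hP.es₁.zQ
  have hVQ₂ : V ≤ Q₂ := by
    intro v hv
    rcases (hVmem v).mp hv with h | h | h | h
    · rw [h]; exact Subgroup.one_mem _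
    · rw [h]; exact hP.m₂
    · rw [h]; exact hP.es₂.zQ
    · rw [h]; exact Q₂.mul_mem hP.es₂.zQ hP.m₂
  haveI : Finite ↥V := inferInstance
  -- Q and Q₂ lie in commInto E V
  have hQle : Q ≤ commInto E V := by
    intro q hq
    rw [mem_commInto]
    constructor
    · apply mem_normalizer_of_conj_le
      intro v hv
      have e : q * v * q⁻¹ = (q * v * q⁻¹ * v⁻¹) * v := by group
      rw [e]
      rcases hP.es₁.comm_mem q hq v (hVQ hv) with h | h
      · rw [h, one_mul]; exact hv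
      · rw [h]; exact V.mul_mem hzV hv
    · intro e he
      rcases hP.es₁.comm_mem q hq e (hEQ he) with h | h
      · rw [h]; exact V.one_mem
      · rw [h]; exact hzV
  have hQ₂le : Q₂ ≤ commInto E V := by
    intro q hq
    rw [mem_commInto]
    constructor
    · apply mem_normalizer_of_conj_le
      intro v hv
      have e : q * v * q⁻¹ = (q * v * q⁻¹ * v⁻¹) * v := by group
      rw [e]
      rcases hP.es₂.comm_mem q hq v (hVQ₂ hv) with h | h
      · rw [h, one_mul]; exact hv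
      · rw [h]; exact V.mul_mem hxV hv
    · intro e he
      rcases hP.es₂.comm_mem q hq e (hEQ₂ he) with h | h
      · rw [h]; exact V.one_mem
      · rw [h]; exact hxV
  have hXle : X ≤ commInto E V := by rw [hX]; exact sup_le hQle hQ₂le
  have hRX : R ≤ X := by
    rw [hR', hX, sup_comm]
    exact sup_le_sup (fun a ha => (mem_AA.mp ha).1) (fun a ha => (mem_AA.mp ha).1)
  -- V is central in R
  have hVcen : ∀ v ∈ V, ∀ r ∈ R, r * v = v * r := by
    intro v hv r hr
    rw [hR'] at hr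
    have h1 : r * z = z * r := hP.z_central_R hr
    have h2 : r * x = x * r := by
      have hr' : r ∈ AA Q x ⊔ AA Q₂ z := by rw [sup_comm]; exact hr
      exact hP.symm.z_central_R hr'
    rcases (hVmem v).mp hv with h | h | h | h
    · rw [h, mul_one, one_mul]
    · rw [h]; exact h1
    · rw [h]; exact h2
    · rw [h]
      calc r * (x * z) = (r * x) * z := by group
        _ = x * (r * z) := by rw [h2]; group
        _ = x * z * r := by rw [h1]; group
  have hVR : V ≤ R := by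
    intro v hv
    rw [hR']
    have hzR : z ∈ AA Q₂ z ⊔ AA Q x := hP.z₁_mem_R
    have hxR : x ∈ AA Q₂ z ⊔ AA Q x := Subgroup.mem_sup_right (mem_AA.mpr ⟨hP.m₁, rfl⟩)
    rcases (hVmem v).mp hv with h | h | h | h
    · rw [h]; exact Subgroup.one_mem _
    · rw [h]; exact hzR
    · rw [h]; exact hxR
    · rw [h]; exact Subgroup.mul_mem _ hxR hzR
  have hER : E ≤ R := by
    rw [hE, hR']
    exact le_trans hP.E_le_AA le_sup_right
  -- E lies in the second centre
  have hE2 : ∀ c : ↥R, (c : G) ∈ E → c ∈ Subgroup.upperCentralSeries ↥R 2 := by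
    intro c hcE
    rw [show (2 : ℕ) = 1 + 1 from rfl, Subgroup.mem_upperCentralSeries_succ_iff]
    intro y
    rw [Subgroup.upperCentralSeries_one, Subgroup.mem_center_iff]
    intro r
    have h1 : ((⁅c, y⁆ : ↥R) : G) = (c : G) * (y : G) * (c : G)⁻¹ * (y : G)⁻¹ := by
      simp [commutatorElement_def]
    have h2 : (y : G) * (c : G) * (y : G)⁻¹ * (c : G)⁻¹ ∈ V :=
      (mem_commInto.mp (hXle (hRX y.2))).2 _ hcE
    have h3 : (c : G) * (y : G) * (c : G)⁻¹ * (y : G)⁻¹ ∈ V := by
      have e : (c : G) * (y : G) * (c : G)⁻¹ * (y : G)⁻¹ =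
          ((y : G) * (c : G) * (y : G)⁻¹ * (c : G)⁻¹)⁻¹ := by group
      rw [e]; exact V.inv_mem h2
    apply Subtype.ext
    rw [Subgroup.coe_mul, Subgroup.coe_mul, h1]
    exact hVcen _ h3 r.1 r.2
  refine ⟨?_, ?_, ?_, ?_, ?_, ?_, ?_⟩
  · -- centre of R
    apply le_antisymm
    · intro v hv
      obtain ⟨c, hcc, rfl⟩ := Subgroup.mem_map.mp hv
      have hcR : (c : G) ∈ AA Q₂ z ⊔ AA Q x := by rw [← hR']; exact c.2
      have hcen : ∀ r ∈ AA Q₂ z ⊔ AA Q x, r * (c : G) = (c : G) * r := by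
        intro r hr
        have hrR : r ∈ R := by rw [hR']; exact hr
        exact congrArg Subtype.val (Subgroup.mem_center_iff.mp hcc ⟨r, hrR⟩)
      exact (hVmem _).mpr (hP.center_R hcR hcen)
    · intro v hv
      refine Subgroup.mem_map.mpr ⟨⟨v, hVR hv⟩, ?_, rfl⟩
      rw [Subgroup.mem_center_iff]
      intro r
      exact Subtype.ext (hVcen v hv r.1 r.2)
  · intro e he
    exact Subgroup.mem_map.mpr ⟨⟨e, hER he⟩, hE2 ⟨e, hER he⟩ he, rfl⟩
  · rw [eq_top_iff]
    intro r _
    rw [show (3 : ℕ) = 2 + 1 from rfl, Subgroup.mem_upperCentralSeries_succ_iff]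
    intro y
    apply hE2
    have h1 : ((⁅r, y⁆ : ↥R) : G) = (r : G) * (y : G) * (r : G)⁻¹ * (y : G)⁻¹ := by
      simp [commutatorElement_def]
    rw [h1, hE]
    have hr : (r : G) ∈ AA Q₂ z ⊔ AA Q x := by rw [← hR']; exact r.2
    have hy : (y : G) ∈ AA Q₂ z ⊔ AA Q x := by rw [← hR']; exact y.2
    exact hP.R_comm hr hy
  · refine ⟨⟨⟨fun a b => ?_⟩⟩, ?_⟩
    · apply Subtype.ext
      exact hP.E_comm (hEQ a.2) (hEQ₂ a.2) (hEQ b.2) (hEQ₂ b.2)
    · intro a ha
      rw [pow_two]
      exact hP.E_sq (hEQ ha) (hEQ₂ ha)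
  · intro a ha b hb
    rw [hR'] at ha hb
    rw [hE, pow_two]
    exact ⟨hP.R_comm ha hb, hP.R_sq ha⟩
  · rw [hE]
    apply le_antisymm
    · intro a ha
      obtain ⟨h1, h2⟩ := Subgroup.mem_inf.mp ha
      exact Subgroup.mem_inf.mpr ⟨(Subgroup.mem_inf.mp h2).1, (Subgroup.mem_inf.mp h1).1⟩
    · apply le_inf
      · have h1 := hP.symm.E_le_AA
        rw [inf_comm] at h1
        exact h1
      · exact hP.E_le_AA
  · rw [Subgroup.commutator_le]
    intro a ha e he
    rw [commutatorElement_def]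
    exact (mem_commInto.mp (hXle ha)).2 e he

end Cfsg.Agent.S5431
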