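import Cfsg.Statements.S5434
import Cfsg.Agent.Lib.Helper2.ExtraSp4
import Cfsg.Agent.Lib.Helper1.Coprime
-- import your own Cfsg.Agent.* helpers here

set_option autoImplicit false
open Cfsg
open Cfsg.Agent.Lib.Helper2.ExtraSp
open scoped commutatorElement

namespace Cfsg.Agent.S5434

/-- Let Q be a large extraspecial 2-subgroup of the finite group G (extraspecial; centralizer equal to its centre; normal in the centralizer of its centre; normalizing no non-trivial subgroup of odd order), and A a non-trivial subgroup of odd order of the normalizer of Q. Then Q is the central product of the centralizer of A in Q and the commutator subgroup [Q, A] (they generate Q and commute elementwise), [Q, A] is extraspecial, and the centralizer of A in Q is either the centre of Q or extraspecial. -/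
theorem result {G : Type*} [Group G] [Finite G] (Q : Subgroup G) (hQ : Cfsg.IsLargeExtraspecial Q) (A : Subgroup G) (hA : A ≤ Subgroup.normalizer (Q : Set G)) (hAodd : Odd (Nat.card ↥A)) (hA1 : A ≠ ⊥) : (Q ⊓ Subgroup.centralizer (A : Set G)) ⊔ ⁅Q, A⁆ = Q ∧ (∀ x ∈ Q ⊓ Subgroup.centralizer (A : Set G), ∀ y ∈ ⁅Q, A⁆, x * y = y * x) ∧ Cfsg.IsExtraspecial 2 ↥⁅Q, A⁆ ∧ (Q ⊓ Subgroup.centralizer (A : Set G) = ((Subgroup.center ↥Q).map Q.subtype) ∨ Cfsg.IsExtraspecial 2 ↥(Q ⊓ Subgroup.centralizer (A : Set G))) := by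
  obtain ⟨hES, hCQ, hN, hK⟩ := hQ
  obtain ⟨z, hE, hZ⟩ := esdata_of_extraspecial hES
  -- A centralizes z
  have hAz : ∀ a ∈ A, a * z * a⁻¹ = z := by
    intro a ha
    have hn := Subgroup.mem_normalizer_iff.mp (hA ha)
    have h1 : a * z * a⁻¹ ∈ Q := (hn z).mp hE.zQ
    have h2 : ∀ q ∈ Q, q * (a * z * a⁻¹) = (a * z * a⁻¹) * q := by
      intro q hq
      have h3 : a⁻¹ * q * a ∈ Q := by
        apply (hn (a⁻¹ * q * a)).mpr
        have h : a * (a⁻¹ * q * a) * a⁻¹ = q := by group
        rw [h]; exact hq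
      have h4 := hE.z_comm _ h3
      calc q * (a * z * a⁻¹) = a * ((a⁻¹ * q * a) * z) * a⁻¹ := by group
        _ = a * (z * (a⁻¹ * q * a)) * a⁻¹ := by rw [h4]
        _ = a * z * a⁻¹ * q := by group
    rcases hE.center_sub _ h1 h2 with h5 | h5
    · exfalso
      apply hE.z_ne
      have h : z = a⁻¹ * (a * z * a⁻¹) * a := by group
      rw [h, h5]; group
    · exact h5
  have hAz' : ∀ a ∈ A, a * z = z * a := by
    intro a ha
    have h := hAz a ha
    calc a * z = (a * z * a⁻¹) * a := by group
      _ = z * a := by rw [h]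
  obtain ⟨C, hC⟩ : ∃ C, C = Q ⊓ Subgroup.centralizer (A : Set G) := ⟨_, rfl⟩
  obtain ⟨D, hD⟩ : ∃ D, D = ⁅Q, A⁆ := ⟨_, rfl⟩
  rw [← hC, ← hD]
  have hDQ : D ≤ Q := by
    rw [hD]; exact Subgroup.le_normalizer_iff_commutator_le_left.mp hA
  have hCQ' : C ≤ Q := by rw [hC]; exact inf_le_left
  have hCA : C ≤ Subgroup.centralizer (A : Set G) := by rw [hC]; exact inf_le_right
  have hcop : (Nat.card A).Coprime (Nat.card Q) := by
    obtain ⟨n, hn⟩ := IsPGroup.iff_card.mp hE.two
    rw [hn]
    exact Nat.Coprime.pow_right n hAodd.coprime_two_right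
  haveI : Group.IsNilpotent ↥Q := hE.two.isNilpotent
  have hsup : D ⊔ C = Q := by
    rw [hD, hC]
    exact Cfsg.Agent.Lib.Helper1.coprime_commutator_sup_centralizer A Q hA hcop (Or.inr inferInstance)
  have hDD : ⁅D, A⁆ = D := by
    rw [hD]
    exact Cfsg.Agent.Lib.Helper1.coprime_commutator_commutator A Q hA hcop (Or.inr inferInstance)
  -- ⁅zpowers z, A⁆ = ⊥
  have hzA : ⁅Subgroup.zpowers z, A⁆ = ⊥ := by
    rw [Subgroup.commutator_eq_bot_iff_le_centralizer, Subgroup.zpowers_le,
      Subgroup.mem_centralizer_iff]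
    intro a ha
    exact hAz' a ha
  have hcomz : ∀ a ∈ Q, ∀ b ∈ Q, ⁅a, b⁆ ∈ Subgroup.zpowers z := by
    intro a ha b hb
    rw [commutatorElement_def]
    rcases hE.comm_mem a ha b hb with h | h
    · rw [h]; exact Subgroup.one_mem _
    · rw [h]; exact Subgroup.mem_zpowers z
  have hDC : ⁅D, C⁆ = ⊥ := by
    rw [hD]
    apply Subgroup.commutator_commutator_eq_bot_of_rotate
    · have h1 : ⁅A, C⁆ = ⊥ := by
        rw [Subgroup.commutator_comm, Subgroup.commutator_eq_bot_iff_le_centralizer]
        exact hCA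
      rw [h1, Subgroup.commutator_bot_left]
    · rw [eq_bot_iff, ← hzA]
      apply Subgroup.commutator_mono _ le_rfl
      rw [Subgroup.commutator_le]
      intro c hc q hq
      exact hcomz c (hCQ' hc) q hq
  have hDCc : ∀ d ∈ D, ∀ c ∈ C, c * d = d * c := by
    intro d hd c hc
    have h1 := Subgroup.commutator_eq_bot_iff_le_centralizer.mp hDC hd
    exact Subgroup.mem_centralizer_iff.mp h1 c hc
  have hcenQ : ∀ g : G, (∀ c ∈ C, c * g = g * c) → (∀ d ∈ D, d * g = g * d) →
      ∀ q ∈ Q, q * g = g * q := by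
    intro g h1 h2 q hq
    have h3 : D ⊔ C ≤ Subgroup.centralizer ({g} : Set G) := by
      apply sup_le
      · intro d hd; exact mem_cent_single.mpr (h2 d hd).symm
      · intro c hc; exact mem_cent_single.mpr (h1 c hc).symm
    rw [← hsup] at hq
    exact (mem_cent_single.mp (h3 hq)).symm
  -- restriction of the extraspecial data to a subgroup whose self-central elements are central
  have hrestr : ∀ E : Subgroup G, E ≤ Q → z ∈ E →
      (∀ c ∈ E, (∀ q ∈ E, q * c = c * q) → ∀ q ∈ Q, q * c = c * q) → ESData E z := by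
    intro E hEQ hzE hcen
    exact
      { two := hE.two.to_le hEQ
        zQ := hzE
        z_ne := hE.z_ne
        z_sq := hE.z_sq
        z_comm := fun q hq => hE.z_comm q (hEQ hq)
        center_sub := fun c hc h => hE.center_sub c (hEQ hc) (hcen c hc h)
        comm_mem := fun a ha b hb => hE.comm_mem a (hEQ ha) b (hEQ hb)
        sq_mem := fun a ha => hE.sq_mem a (hEQ ha) }
  -- D is nonabelian
  have hDna : ∃ a ∈ D, ∃ b ∈ D, a * b * a⁻¹ * b⁻¹ = z := by
    by_contra hcon
    push Not at hcon
    have hab : ∀ a ∈ D, ∀ b ∈ D, a * b = b * a := by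
      intro a ha b hb
      rcases hE.comm_mem a (hDQ ha) b (hDQ hb) with h | h
      · calc a * b = (a * b * a⁻¹ * b⁻¹) * (b * a) := by group
          _ = b * a := by rw [h, one_mul]
      · exact absurd h (hcon a ha b hb)
    have hDz : D ≤ Subgroup.zpowers z := by
      intro d hd
      have h1 : ∀ q ∈ Q, q * d = d * q :=
        hcenQ d (fun c hc => hDCc d hd c hc) (fun d' hd' => hab d' hd' d hd)
      rcases hE.center_sub d (hDQ hd) h1 with h | h
      · rw [h]; exact Subgroup.one_mem _
      · rw [h]; exact Subgroup.mem_zpowers z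
    have hD0 : D = ⊥ := by
      rw [eq_bot_iff, ← hzA, ← hDD]
      exact Subgroup.commutator_mono hDz le_rfl
    have hQA : Q ≤ Subgroup.centralizer (A : Set G) := by
      rw [← Subgroup.commutator_eq_bot_iff_le_centralizer, ← hD, hD0]
    apply hA1
    rw [Subgroup.eq_bot_iff_forall]
    intro a ha
    have h1 : a ∈ Subgroup.centralizer (Q : Set G) := by
      rw [Subgroup.mem_centralizer_iff]
      intro q hq
      exact (Subgroup.mem_centralizer_iff.mp (hQA hq) a ha).symm
    rw [hCQ] at h1
    have h2 : a ∈ Q := by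
      rcases (hZ a).mp h1 with h | h
      · rw [h]; exact Subgroup.one_mem _
      · rw [h]; exact hE.zQ
    exact eq_one_of_mem_odd_of_mem_two hAodd hE.two ha h2
  have hzD : z ∈ D := by
    obtain ⟨a, ha, b, hb, hab⟩ := hDna
    rw [← hab]
    exact D.mul_mem (D.mul_mem (D.mul_mem ha hb) (D.inv_mem ha)) (D.inv_mem hb)
  have hzC : z ∈ C := by
    rw [hC]
    have h1 : z ∈ Subgroup.centralizer (A : Set G) := by
      rw [Subgroup.mem_centralizer_iff]
      intro a ha
      exact hAz' a ha
    exact ⟨hE.zQ, h1⟩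
  have hED : ESData D z := by
    apply hrestr D hDQ hzD
    intro c hc h
    exact hcenQ c (fun c' hc' => hDCc c hc c' hc') h
  have hCcen : ∀ c ∈ C, (∀ q ∈ C, q * c = c * q) → ∀ q ∈ Q, q * c = c * q := by
    intro c hc h
    exact hcenQ c h (fun d hd => (hDCc d hd c hc).symm)
  refine ⟨?_, ?_, ?_, ?_⟩
  · rw [sup_comm]; exact hsup
  · intro x hx y hy
    exact hDCc y hy x hx
  · exact extraspecial_of_esdata hED hDna
  · by_cases hCna : ∃ a ∈ C, ∃ b ∈ C, a * b * a⁻¹ * b⁻¹ = z
    · right
      exact extraspecial_of_esdata (hrestr C hCQ' hzC hCcen) hCna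
    · left
      push Not at hCna
      have hab : ∀ a ∈ C, ∀ b ∈ C, a * b = b * a := by
        intro a ha b hb
        rcases hE.comm_mem a (hCQ' ha) b (hCQ' hb) with h | h
        · calc a * b = (a * b * a⁻¹ * b⁻¹) * (b * a) := by group
            _ = b * a := by rw [h, one_mul]
        · exact absurd h (hCna a ha b hb)
      apply le_antisymm
      · intro c hc
        rw [hZ]
        exact hE.center_sub c (hCQ' hc) (hCcen c hc (fun q hq => hab q hq c hc))
      · intro c hc
        rcases (hZ c).mp hc with h | h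
        · rw [h]; exact Subgroup.one_mem _
        · rw [h]; exact hzC

end Cfsg.Agent.S5434
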