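import Cfsg.Statements.S5436
import Cfsg.Agent.Lib.Helper2.ExtraSp3
import Cfsg.Agent.Lib.Helper8.FStar
-- import your own Cfsg.Agent.* helpers here

set_option autoImplicit false
open Cfsg
open Cfsg.Agent.Lib.Helper2.ExtraSp

namespace Cfsg.Agent.S5436

/-- Let z be an involution of the finite group G with centralizer H whose generalized Fitting subgroup Q is extraspecial of width at least 2 (order 2^(2w+1), w ≥ 2); suppose some conjugate of z other than z lies in Q, H/Q is a non-abelian simple group, H acts irreducibly by conjugation on Q modulo the subgroup generated by z (the only H-invariant subgroups of Q containing z are that subgroup and Q), and Q is not the subgroup generated by the conjugates of z lying in H. Then G is simple. -/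
theorem result {G : Type*} [Group G] [Finite G] (z : G) (hz : orderOf z = 2) (Q : Subgroup (Subgroup.centralizer ({z} : Set G))) [Q.Normal] (hF : Cfsg.generalizedFittingSubgroup ↥(Subgroup.centralizer ({z} : Set G)) = Q) (hQ : Cfsg.IsExtraspecial 2 ↥Q) (w : ℕ) (hw : 2 ≤ w) (hcard : Nat.card ↥Q = 2 ^ (2 * w + 1)) (hnwc : ∃ g : G, (∃ hq : g * z * g⁻¹ ∈ Subgroup.centralizer ({z} : Set G), (⟨g * z * g⁻¹, hq⟩ : Subgroup.centralizer ({z} : Set G)) ∈ Q) ∧ g * z * g⁻¹ ≠ z) (hsimp : IsSimpleGroup (↥(Subgroup.centralizer ({z} : Set G)) ⧸ Q)) (hna : ¬ IsMulCommutative (↥(Subgroup.centralizer ({z} : Set G)) ⧸ Q)) (hirr : ∀ W : Subgroup (Subgroup.centralizer ({z} : Set G)), W.Normal → W ≤ Q → (W = Q ∨ ∀ x ∈ W, (x : G) ∈ Subgroup.zpowers z)) (hwcl : Subgroup.closure {x : Subgroup.centralizer ({z} : Set G) | IsConj z (x : G)} ≠ Q) : IsSimpleGroup G := by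
  have z2 : z * z = 1 := by rw [← pow_two, ← hz, pow_orderOf_eq_one]
  have hz1 : z ≠ 1 := by intro h; rw [h, orderOf_one] at hz; norm_num at hz
  have hzH : z ∈ Subgroup.centralizer ({z} : Set G) := mem_cent_single.mpr rfl
  have hCH : Subgroup.centralizer
      ((Q : Subgroup ↥(Subgroup.centralizer ({z} : Set G))) : Set ↥(Subgroup.centralizer ({z} : Set G))) ≤ Q := by
    have h := Cfsg.Agent.Lib.Helper8.centralizer_generalizedFittingSubgroup_le
      (G := ↥(Subgroup.centralizer ({z} : Set G)))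
    rw [hF] at h
    exact h
  have hzQ : (⟨z, hzH⟩ : ↥(Subgroup.centralizer ({z} : Set G))) ∈ Q := by
    apply hCH
    rw [Subgroup.mem_centralizer_iff]
    intro q _
    apply Subtype.ext
    exact (mem_cent_single.mp q.2).symm
  obtain ⟨z0, hES0, hmem0⟩ := esdata_of_extraspecial hQ
  have hz0 : z0 = ⟨z, hzH⟩ := by
    rcases hES0.center_sub ⟨z, hzH⟩ hzQ
      (fun q hq => Subtype.ext (mem_cent_single.mp q.2).symm) with h | h
    · exfalso; exact hz1 (congrArg Subtype.val h)
    · exact h.symm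
  subst hz0
  have hES1 : ESData (Q.map (Subgroup.centralizer ({z} : Set G)).subtype) z := hES0.map_subtype
  obtain ⟨QG, hQG⟩ : ∃ QG : Subgroup G,
      QG = Q.map (Subgroup.centralizer ({z} : Set G)).subtype := ⟨_, rfl⟩
  have hES : ESData QG z := by rw [hQG]; exact hES1
  have hQGmem : ∀ q : G, q ∈ QG ↔ ∃ hq : q ∈ Subgroup.centralizer ({z} : Set G),
      (⟨q, hq⟩ : ↥(Subgroup.centralizer ({z} : Set G))) ∈ Q := by
    intro q
    rw [hQG, Subgroup.mem_map]
    constructor
    · rintro ⟨q', hq', rfl⟩; exact ⟨q'.2, hq'⟩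
    · rintro ⟨hq, hq'⟩; exact ⟨⟨q, hq⟩, hq', rfl⟩
  have hC : Subgroup.centralizer (QG : Set G) ≤ QG := by
    intro c hc
    have hcz : c ∈ Subgroup.centralizer ({z} : Set G) := by
      rw [mem_cent_single]
      exact Subgroup.mem_centralizer_iff.mp hc z hES.zQ
    rw [hQGmem]
    refine ⟨hcz, hCH ?_⟩
    rw [Subgroup.mem_centralizer_iff]
    intro q hq
    apply Subtype.ext
    exact Subgroup.mem_centralizer_iff.mp hc q.1 ((hQGmem q.1).mpr ⟨q.2, hq⟩)
  have hN : Subgroup.centralizer ({z} : Set G) ≤ Subgroup.normalizer (QG : Set G) := by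
    intro c hc
    apply mem_normalizer_of_conj_le
    intro v hv
    obtain ⟨hvH, hvQ⟩ := (hQGmem v).mp hv
    rw [hQGmem]
    refine ⟨Subgroup.mul_mem _ (Subgroup.mul_mem _ hc hvH) (Subgroup.inv_mem _ hc), ?_⟩
    exact (inferInstance : Q.Normal).conj_mem ⟨v, hvH⟩ hvQ ⟨c, hc⟩
  obtain ⟨g, ⟨hq, hxQ'⟩, hxz⟩ := hnwc
  have hxQ : g * z * g⁻¹ ∈ QG := (hQGmem _).mpr ⟨hq, hxQ'⟩
  have hx1 : g * z * g⁻¹ ≠ 1 := by
    intro h
    apply hz1
    calc z = g⁻¹ * (g * z * g⁻¹) * g := by group
      _ = 1 := by rw [h]; group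
  have hxnot : g * z * g⁻¹ ∉ Subgroup.zpowers z := by
    intro h
    rcases mem_zpowers_two hz h with h | h
    · exact hx1 h
    · exact hxz h
  refine { exists_pair_ne := ⟨z, 1, hz1⟩, eq_bot_or_eq_top_of_normal := ?_ }
  intro N hNn
  haveI := hNn
  have hW := hirr (N.subgroupOf (Subgroup.centralizer ({z} : Set G)) ⊓ Q) inferInstance inf_le_right
  by_cases hzN : z ∈ N
  · right
    apply eq_top_of_centralizer_le hES hC
    have hxN : g * z * g⁻¹ ∈ N := hNn.conj_mem z hzN g
    have hQN : Q ≤ N.subgroupOf (Subgroup.centralizer ({z} : Set G)) := by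
      rcases hW with h | h
      · intro q hq
        have h1 : q ∈ N.subgroupOf (Subgroup.centralizer ({z} : Set G)) ⊓ Q := by rw [h]; exact hq
        exact (Subgroup.mem_inf.mp h1).1
      · exfalso
        apply hxnot
        exact h ⟨g * z * g⁻¹, hq⟩
          (Subgroup.mem_inf.mpr ⟨Subgroup.mem_subgroupOf.mpr hxN, hxQ'⟩)
    obtain ⟨S, hS⟩ : ∃ S : Set ↥(Subgroup.centralizer ({z} : Set G)),
        S = {x : ↥(Subgroup.centralizer ({z} : Set G)) | IsConj z (x : G)} := ⟨_, rfl⟩
    rw [← hS] at hwcl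
    have hSN : Subgroup.closure S ≤ N.subgroupOf (Subgroup.centralizer ({z} : Set G)) := by
      rw [Subgroup.closure_le]
      intro x hx
      rw [hS] at hx
      obtain ⟨c, hc⟩ := isConj_iff.mp hx
      rw [SetLike.mem_coe, Subgroup.mem_subgroupOf, ← hc]
      exact hNn.conj_mem z hzN c
    have hSconj : Group.conjugatesOfSet S = S := by
      apply Set.Subset.antisymm
      · intro a ha
        obtain ⟨b, hb, hba⟩ := Group.mem_conjugatesOfSet_iff.mp ha
        rw [hS] at hb ⊢
        have h1 : IsConj (b : G) (a : G) := by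
          obtain ⟨c, hc⟩ := isConj_iff.mp hba
          exact isConj_iff.mpr ⟨c, by have := congrArg Subtype.val hc; simpa using this⟩
        exact hb.trans h1
      · exact Group.subset_conjugatesOfSet
    have hDn : (Subgroup.closure S).Normal := by
      have h1 : Subgroup.normalClosure S = Subgroup.closure S := by
        rw [Subgroup.normalClosure, hSconj]
      rw [← h1]; exact Subgroup.normalClosure_normal
    have hxS : (⟨g * z * g⁻¹, hq⟩ : ↥(Subgroup.centralizer ({z} : Set G))) ∈ S := by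
      rw [hS]; exact isConj_iff.mpr ⟨g, rfl⟩
    have hmapn : ((N.subgroupOf (Subgroup.centralizer ({z} : Set G))).map
        (QuotientGroup.mk' Q)).Normal :=
      Subgroup.Normal.map inferInstance _ (QuotientGroup.mk'_surjective Q)
    rcases hsimp.eq_bot_or_eq_top_of_normal _ hmapn with h | h
    · exfalso
      have hNQ : N.subgroupOf (Subgroup.centralizer ({z} : Set G)) ≤ Q := by
        have h1 := (Subgroup.map_eq_bot_iff _).mp h
        rwa [QuotientGroup.ker_mk'] at h1
      have hDQ : Subgroup.closure S ≤ Q := hSN.trans hNQ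
      rcases hirr _ hDn hDQ with h' | h'
      · exact hwcl h'
      · exact hxnot (h' _ (Subgroup.subset_closure hxS))
    · intro c hc
      have h1 : (QuotientGroup.mk' Q) ⟨c, hc⟩ ∈
          (N.subgroupOf (Subgroup.centralizer ({z} : Set G))).map (QuotientGroup.mk' Q) := by
        rw [h]; exact Subgroup.mem_top _
      obtain ⟨n, hn, hnc⟩ := Subgroup.mem_map.mp h1
      have h2 : n⁻¹ * ⟨c, hc⟩ ∈ Q := QuotientGroup.eq.mp hnc
      have h3 := hQN h2
      have h4 : n * (n⁻¹ * ⟨c, hc⟩) ∈ N.subgroupOf (Subgroup.centralizer ({z} : Set G)) :=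
        Subgroup.mul_mem _ hn h3
      rw [mul_inv_cancel_left] at h4
      exact Subgroup.mem_subgroupOf.mp h4
  · left
    have hWbot : ∀ w ∈ N.subgroupOf (Subgroup.centralizer ({z} : Set G)) ⊓ Q, w = 1 := by
      intro w hw
      rcases hW with h | h
      · exfalso
        apply hzN
        have h1 : (⟨z, hzH⟩ : ↥(Subgroup.centralizer ({z} : Set G))) ∈
            N.subgroupOf (Subgroup.centralizer ({z} : Set G)) ⊓ Q := by rw [h]; exact hzQ
        exact Subgroup.mem_subgroupOf.mp (Subgroup.mem_inf.mp h1).1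
      · rcases mem_zpowers_two hz (h w hw) with h1 | h1
        · exact Subtype.ext h1
        · exfalso
          apply hzN
          rw [← h1]
          exact Subgroup.mem_subgroupOf.mp (Subgroup.mem_inf.mp hw).1
    have hNH : ∀ n ∈ N.subgroupOf (Subgroup.centralizer ({z} : Set G)), n = 1 := by
      intro n hn
      apply hWbot
      refine Subgroup.mem_inf.mpr ⟨hn, hCH ?_⟩
      rw [Subgroup.mem_centralizer_iff]
      intro q hq
      have h1 : q * n * q⁻¹ * n⁻¹ ∈ N.subgroupOf (Subgroup.centralizer ({z} : Set G)) :=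
        Subgroup.mul_mem _ ((inferInstance :
          (N.subgroupOf (Subgroup.centralizer ({z} : Set G))).Normal).conj_mem n hn q)
          (Subgroup.inv_mem _ hn)
      have h2 : q * n * q⁻¹ * n⁻¹ ∈ Q := by
        have h3 : n * q⁻¹ * n⁻¹ ∈ Q :=
          (inferInstance : Q.Normal).conj_mem _ (Subgroup.inv_mem _ hq) n
        have h4 : q * n * q⁻¹ * n⁻¹ = q * (n * q⁻¹ * n⁻¹) := by group
        rw [h4]; exact Subgroup.mul_mem _ hq h3
      have h5 := hWbot _ (Subgroup.mem_inf.mpr ⟨h1, h2⟩)
      apply comm_of_cj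
      calc q * n * q⁻¹ = (q * n * q⁻¹ * n⁻¹) * n := by group
        _ = n := by rw [h5, one_mul]
    have hfpf : ∀ k ∈ N, z * k * z⁻¹ = k → k = 1 := by
      intro k hk hzk
      have hkH : k ∈ Subgroup.centralizer ({z} : Set G) := mem_cent_single.mpr (comm_of_cj hzk)
      have h1 := hNH ⟨k, hkH⟩ (Subgroup.mem_subgroupOf.mpr hk)
      exact congrArg Subtype.val h1
    have hinv := inverts_of_fpf N z z2 (fun k hk => hNn.conj_mem k hk z) hfpf
    have hodd := odd_of_inverts hinv hfpf
    exact large_of_conj hES hC hN g hxQ hxz hodd (fun q _ => by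
      rw [Subgroup.normalizer_eq_top_iff.mpr hNn]; exact Subgroup.mem_top q)


end Cfsg.Agent.S5436
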