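import Cfsg.Statements.S5559
import Cfsg.Agent.Lib.Helper3.TTS8
import Cfsg.Agent.Lib.Helper3.TTS9

set_option autoImplicit false
open Cfsg

namespace Cfsg.Agent.S5559

/-- Let H be a finite group generated by a conjugacy class E of 3-transpositions with at least two members, with F*(H) = O₂(H), and such that H/O₂(H) has a normal Sylow 3-subgroup of 2-power index (that is, H = O_{2,3,2}(H)). Then H/O₂(H) is isomorphic to the symmetric group of degree 3 or to the derived group of SU₃(2) (of order 54). -/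
theorem result {H : Type*} [Group H] [Finite H] {E : Set H} (hE : Cfsg.IsThreeTranspositionClass E)
    (hE2 : ∃ a ∈ E, ∃ b ∈ E, a ≠ b) (hF : Cfsg.generalizedFittingSubgroup H = Cfsg.pCore 2 H)
    (h232 : ∃ P : Sylow 3 (H ⧸ Cfsg.pCore 2 H), (P : Subgroup (H ⧸ Cfsg.pCore 2 H)).Normal ∧
      ∃ k : ℕ, (P : Subgroup (H ⧸ Cfsg.pCore 2 H)).index = 2 ^ k) :
    Nonempty (H ⧸ Cfsg.pCore 2 H ≃* Equiv.Perm (Fin 3)) ∨
      ∃ (F : Type) (_ : Field F) (_ : Fintype F), Fintype.card F = 4 ∧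
        Nonempty (H ⧸ Cfsg.pCore 2 H ≃* ↥(commutator ↥(Cfsg.SU 3 F 2))) := by
  classical
  obtain ⟨C⟩ := Cfsg.Agent.Lib.Helper3.TTS.exists_ctx H hE hE2 hF h232
  rcases C.structure_thm with ⟨a, b, hab, hne, hcl⟩ | ⟨a, b, c, h, hnc, h3, hcl⟩
  · left
    exact Cfsg.Agent.Lib.Helper3.TTS.iso_S3 a b hab hne hcl
  · right
    haveI : Fact (Nat.Prime 2) := ⟨Nat.prime_two⟩
    letI : Fintype (GaloisField 2 2) := Fintype.ofFinite _
    have hcard : Fintype.card (GaloisField 2 2) = 2 ^ 2 := by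
      rw [← Nat.card_eq_fintype_card, GaloisField.card 2 2 (by norm_num)]
    refine ⟨GaloisField 2 2, inferInstance, inferInstance, ?_, ?_⟩
    · rw [hcard]; norm_num
    · obtain ⟨a', b', c', h', hnc', h3', hcl'⟩ :=
        Cfsg.Agent.Lib.Helper3.TTS.su_model (F := GaloisField 2 2) hcard
      obtain ⟨φ⟩ := Cfsg.Agent.Lib.Helper3.TTS.iso_54 a b c h hnc h3 hcl a' b' c' h' hnc' h3'
      exact ⟨φ.trans (MulEquiv.subgroupCongr hcl')⟩

end Cfsg.Agent.S5559
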