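import Cfsg.Statements.S5595
import Cfsg.Agent.Lib.Helper2.ExtraSp
-- import your own Cfsg.Agent.* helpers here

set_option autoImplicit false
open Cfsg

namespace Cfsg.Agent.S5595

/-- Setting: `z` is an involution of the finite group `G`; for each element `x`, `Q x` denotes the largest normal 2-subgroup of the centralizer of `x`; `Q z` is extraspecial and contains its own centralizer in `G` (a large extraspecial 2-subgroup in this sense). Call the conjugates of `z` singular, and say that singular `x` is orthogonal to singular `y` when `x ∈ Q y`. Then orthogonality is symmetric: if a conjugate `x` of `z` lies in `Q z`, then `z` lies in `Q x`. -/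
theorem result {G : Type*} [Group G] [Finite G]
    (Q : G → Subgroup G)
    (hQ : ∀ x : G, Q x = (Cfsg.pCore 2 ↥(Subgroup.centralizer ({x} : Set G))).map (Subgroup.centralizer ({x} : Set G)).subtype)
    (z : G) (hz : orderOf z = 2) (hE : Cfsg.IsExtraspecial 2 ↥(Q z))
    (hC : Subgroup.centralizer ((Q z : Subgroup G) : Set G) ≤ Q z)
    (g : G) (hx : g * z * g⁻¹ ∈ Q z) : z ∈ Q (g * z * g⁻¹) := by
  have hQQ : Q = Cfsg.Agent.Lib.Helper2.ExtraSp.QQ := funext hQ
  subst hQQ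
  by_cases hxz : g * z * g⁻¹ = z
  · rw [hxz]; rw [hxz] at hx; exact hx
  obtain ⟨z0, hES, hmem⟩ := Cfsg.Agent.Lib.Helper2.ExtraSp.esdata_of_extraspecial hE
  have z2 : z * z = 1 := by rw [← pow_two, ← hz, pow_orderOf_eq_one]
  have hz1 : z ≠ 1 := by intro h; rw [h, orderOf_one] at hz; norm_num at hz
  have hzQ : z ∈ Cfsg.Agent.Lib.Helper2.ExtraSp.QQ z := by
    have hle : Subgroup.zpowers z ≤ Cfsg.Agent.Lib.Helper2.ExtraSp.QQ z := by
      apply Cfsg.Agent.Lib.Helper2.ExtraSp.le_QQ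
      · rw [Subgroup.zpowers_le, Cfsg.Agent.Lib.Helper2.ExtraSp.mem_cent_single]
      · apply IsPGroup.of_card (n := 1)
        rw [Nat.card_zpowers, hz]; rfl
      · intro c hc n hn
        obtain ⟨k, rfl⟩ := Subgroup.mem_zpowers_iff.mp hn
        have hcz : c * z = z * c := (Cfsg.Agent.Lib.Helper2.ExtraSp.mem_cent_single.mp hc).symm
        have hcomm : c * z ^ k = z ^ k * c := (Commute.zpow_right (show Commute c z from hcz) k).eq
        rw [Cfsg.Agent.Lib.Helper2.ExtraSp.cj_of_comm hcomm]; exact hn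
    exact hle (Subgroup.mem_zpowers z)
  have hzc : ∀ q ∈ Cfsg.Agent.Lib.Helper2.ExtraSp.QQ z, q * z = z * q := fun q hq =>
    (Cfsg.Agent.Lib.Helper2.ExtraSp.mem_cent_single.mp (Cfsg.Agent.Lib.Helper2.ExtraSp.QQ_le z hq)).symm
  have hz0 : z0 = z := by
    rcases hES.center_sub z hzQ hzc with h | h
    · exact absurd h hz1
    · exact h.symm
  subst hz0
  have hN : Subgroup.centralizer ({z0} : Set G) ≤
      Subgroup.normalizer ((Cfsg.Agent.Lib.Helper2.ExtraSp.QQ z0 : Subgroup G) : Set G) := by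
    intro c hc
    rw [Subgroup.mem_normalizer_iff]
    intro q
    constructor
    · exact fun hq => Cfsg.Agent.Lib.Helper2.ExtraSp.QQ_conj_mem z0 hc hq
    · intro hq
      have h4 := Cfsg.Agent.Lib.Helper2.ExtraSp.QQ_conj_mem z0 (Subgroup.inv_mem _ hc) hq
      have h5 : c⁻¹ * (c * q * c⁻¹) * c⁻¹⁻¹ = q := by group
      rwa [h5] at h4
  obtain ⟨ρ, hρz, hρx⟩ := Cfsg.Agent.Lib.Helper2.ExtraSp.key_rho hES hC hN g hx hxz
  have h1 : ρ * (g * z0 * g⁻¹) * ρ⁻¹ ∈ Cfsg.Agent.Lib.Helper2.ExtraSp.QQ (ρ * z0 * ρ⁻¹) :=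
    Cfsg.Agent.Lib.Helper2.ExtraSp.QQ_conj z0 ρ hx
  rw [hρz, hρx] at h1
  have h2 : g * z0 * g⁻¹ ∈ Cfsg.Agent.Lib.Helper2.ExtraSp.QQ (g * z0 * g⁻¹) :=
    Cfsg.Agent.Lib.Helper2.ExtraSp.QQ_conj z0 g hzQ
  have h3 : (g * z0 * g⁻¹)⁻¹ * (g * z0 * g⁻¹ * z0) ∈ Cfsg.Agent.Lib.Helper2.ExtraSp.QQ (g * z0 * g⁻¹) :=
    Subgroup.mul_mem _ (Subgroup.inv_mem _ h2) h1
  have h4 : (g * z0 * g⁻¹)⁻¹ * (g * z0 * g⁻¹ * z0) = z0 := by group
  rwa [h4] at h3


end Cfsg.Agent.S5595
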