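import Cfsg.Statements.S5596
import Cfsg.Agent.Lib.Helper2.Sing
-- import your own Cfsg.Agent.* helpers here

set_option autoImplicit false
open Cfsg
open Cfsg.Agent.Lib.Helper2.ExtraSp Cfsg.Agent.Lib.Helper2.D8Syl Cfsg.Agent.Lib.Helper2.Sing

namespace Cfsg.Agent.S5596

/-- Setting: `z` is an involution of the finite group `G`; for each element `x`, `Q x` is the largest normal 2-subgroup of the centralizer of `x`; `Q z` is extraspecial and contains its own centralizer in `G`. A subgroup `U` is singular when it is elementary abelian, every non-identity element of `U` is conjugate to `z`, and any two non-identity elements `u`, `v` of `U` are orthogonal (`v ∈ Q u`). Write `QU` for the intersection of the `Q u` and `LU` for the join of the `Q u` over the non-identity `u` in `U`. If `U` is singular of order `2 ^ n` with `n ≥ 2`, then `U ≤ QU ≤ LU`, `LU` normalizes `U`, and `LU` induces on `U` its full automorphism group (the general linear group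 of dimension `n` over the field with two elements): every automorphism of `U` is conjugation by some element of `LU`. -/
theorem result {G : Type*} [Group G] [Finite G]
    (Q : G → Subgroup G)
    (hQ : ∀ x : G, Q x = (Cfsg.pCore 2 ↥(Subgroup.centralizer ({x} : Set G))).map (Subgroup.centralizer ({x} : Set G)).subtype)
    (z : G) (hz : orderOf z = 2) (hE : Cfsg.IsExtraspecial 2 ↥(Q z))
    (hC : Subgroup.centralizer ((Q z : Subgroup G) : Set G) ≤ Q z)
    (U : Subgroup G) (hU2 : ∀ u ∈ U, u * u = 1)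
    (hS : ∀ u ∈ U, u ≠ 1 → ∃ g : G, g * z * g⁻¹ = u)
    (hO : ∀ u ∈ U, ∀ v ∈ U, u ≠ 1 → v ≠ 1 → v ∈ Q u)
    (QU LU : Subgroup G) (hQU : QU = ⨅ u ∈ ((U : Set G) \ {1}), Q u) (hLU : LU = ⨆ u ∈ ((U : Set G) \ {1}), Q u)
    (n : ℕ) (hn : 2 ≤ n) (hcard : Nat.card ↥U = 2 ^ n) :
    U ≤ QU ∧ QU ≤ LU ∧ LU ≤ Subgroup.normalizer (U : Set G) ∧
      ∀ φ : ↥U ≃* ↥U, ∃ g ∈ LU, ∀ u : ↥U, g * (u : G) * g⁻¹ = ((φ u : ↥U) : G) := by
  have hQQ : Q = QQ := funext hQ
  subst hQQ
  have hset : Setting z U := ⟨esdata_QQ hz hE, hU2, hS, hO⟩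
  have hQUmem : ∀ x, x ∈ QU ↔ ∀ u ∈ U, u ≠ 1 → x ∈ QQ u := by
    intro x
    rw [hQU]
    simp only [Subgroup.mem_iInf]
    constructor
    · intro h u hu hu1
      exact h u ⟨hu, hu1⟩
    · intro h u hu
      exact h u hu.1 hu.2
  have hLUle : ∀ u ∈ U, u ≠ 1 → QQ u ≤ LU := by
    intro u hu hu1
    rw [hLU]
    exact le_iSup₂ (f := fun (u : G) (_ : u ∈ (U : Set G) \ {1}) => QQ u) u ⟨hu, hu1⟩
  have hLUN : LU ≤ Subgroup.normalizer (U : Set G) := by
    rw [hLU]
    exact iSup₂_le (fun u hu => hset.normalizes hu.1 hu.2)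
  have hne : ∃ u ∈ U, u ≠ 1 := by
    by_contra hno
    push Not at hno
    have hbot : U = ⊥ := by
      rw [Subgroup.eq_bot_iff_forall]
      exact hno
    rw [hbot, Subgroup.card_bot] at hcard
    have h1 : 2 ^ n ≥ 2 ^ 2 := Nat.pow_le_pow_right (by norm_num) hn
    omega
  obtain ⟨u₀, hu₀, hu₀1⟩ := hne
  refine ⟨?_, ?_, hLUN, ?_⟩
  · intro v hv
    rw [hQUmem]
    intro u hu hu1
    exact hset.le hu hu1 hv
  · intro x hx
    exact hLUle u₀ hu₀ hu₀1 ((hQUmem x).mp hx u₀ hu₀ hu₀1)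
  · intro φ
    obtain ⟨g, hg, hgφ⟩ := induce_all hset LU hLUle hLUN φ _ 1 LU.one_mem rfl
    refine ⟨g⁻¹, LU.inv_mem hg, ?_⟩
    intro u
    have h1 := hgφ u
    calc g⁻¹ * (u : G) * g⁻¹⁻¹ = g⁻¹ * (g * ((φ u : ↥U) : G) * g⁻¹) * g⁻¹⁻¹ := by rw [h1]
      _ = ((φ u : ↥U) : G) := by group

end Cfsg.Agent.S5596
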