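import Cfsg.Statements.S5597
import Cfsg.Agent.Lib.Helper2.Sing
-- import your own Cfsg.Agent.* helpers here

set_option autoImplicit false
open Cfsg
open Cfsg.Agent.Lib.Helper2.ExtraSp Cfsg.Agent.Lib.Helper2.D8Syl Cfsg.Agent.Lib.Helper2.Sing

namespace Cfsg.Agent.S5597

/-- Setting: `z` is an involution of the finite group `G`; for each element `x`, `Q x` is the largest normal 2-subgroup of the centralizer of `x`; `Q z` is extraspecial and contains its own centralizer in `G`. A subgroup `U` is singular when it is elementary abelian, every non-identity element of `U` is conjugate to `z`, and any two non-identity elements `u`, `v` of `U` are orthogonal (`v ∈ Q u`). Write `QU` for the intersection of the `Q u` and `LU` for the join of the `Q u` over the non-identity `u` in `U`. If `U` is a non-trivial singular subgroup, then `LU` acts trivially on `QU / U` (every commutator of an element of `LU` with an element of `QU` lies in `U`), and for every `x` in `QU` outside `U` the centralizer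 of `U` in `LU` permutes the coset `x U` transitively: each `x u` with `u ∈ U` is a conjugate of `x` by an element of `LU` centralizing `U`. -/
theorem result {G : Type*} [Group G] [Finite G]
    (Q : G → Subgroup G)
    (hQ : ∀ x : G, Q x = (Cfsg.pCore 2 ↥(Subgroup.centralizer ({x} : Set G))).map (Subgroup.centralizer ({x} : Set G)).subtype)
    (z : G) (hz : orderOf z = 2) (hE : Cfsg.IsExtraspecial 2 ↥(Q z))
    (hC : Subgroup.centralizer ((Q z : Subgroup G) : Set G) ≤ Q z)
    (U : Subgroup G) (hU2 : ∀ u ∈ U, u * u = 1)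
    (hS : ∀ u ∈ U, u ≠ 1 → ∃ g : G, g * z * g⁻¹ = u)
    (hO : ∀ u ∈ U, ∀ v ∈ U, u ≠ 1 → v ≠ 1 → v ∈ Q u)
    (QU LU : Subgroup G) (hQU : QU = ⨅ u ∈ ((U : Set G) \ {1}), Q u) (hLU : LU = ⨆ u ∈ ((U : Set G) \ {1}), Q u)
    (hU : U ≠ ⊥) :
    (∀ g ∈ LU, ∀ x ∈ QU, g * x * g⁻¹ * x⁻¹ ∈ U) ∧
      ∀ x ∈ QU, x ∉ U → ∀ u ∈ U, ∃ g ∈ LU ⊓ Subgroup.centralizer (U : Set G), g * x * g⁻¹ = x * u := by
  have hQQ : Q = QQ := funext hQ
  subst hQQ
  have hset : Setting z U := ⟨esdata_QQ hz hE, hU2, hS, hO⟩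
  have hQUmem : ∀ x, x ∈ QU ↔ ∀ u ∈ U, u ≠ 1 → x ∈ QQ u := by
    intro x
    rw [hQU]
    simp only [Subgroup.mem_iInf]
    constructor
    · intro h u hu hu1
      exact h u ⟨hu, hu1⟩
    · intro h u hu
      exact h u hu.1 hu.2
  have hLUle : ∀ u ∈ U, u ≠ 1 → QQ u ≤ LU := by
    intro u hu hu1
    rw [hLU]
    exact le_iSup₂ (f := fun (u : G) (_ : u ∈ (U : Set G) \ {1}) => QQ u) u ⟨hu, hu1⟩
  have hLUN : LU ≤ Subgroup.normalizer (U : Set G) := by
    rw [hLU]
    exact iSup₂_le (fun u hu => hset.normalizes hu.1 hu.2)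
  refine ⟨?_, ?_⟩
  · have hle : LU ≤ commInto QU U := by
      rw [hLU]
      apply iSup₂_le
      intro u hu q hq
      rw [mem_commInto]
      refine ⟨hset.normalizes hu.1 hu.2 hq, ?_⟩
      intro x hx
      have hxu : x ∈ QQ u := (hQUmem x).mp hx u hu.1 hu.2
      rcases (hset.es hu.1 hu.2).comm_mem q hq x hxu with h | h
      · rw [h]; exact U.one_mem
      · rw [h]; exact hu.1
    intro g hg x hx
    exact (mem_commInto.mp (hle hg)).2 x hx
  · intro x hx hxU u hu
    by_cases hu1 : u = 1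
    · refine ⟨1, Subgroup.one_mem _, ?_⟩
      rw [hu1]; group
    · have hxu : x ∈ QQ u := (hQUmem x).mp hx u hu hu1
      obtain ⟨g, hgQ, hgc, hgx⟩ := exists_centralizing_swap (hset.es hu hu1) U (hset.le hu hu1) hu x hxu hxU
      refine ⟨g, Subgroup.mem_inf.mpr ⟨hLUle u hu hu1 hgQ, ?_⟩, hgx⟩
      rw [Subgroup.mem_centralizer_iff]
      intro b hb
      exact (hgc b hb).symm

end Cfsg.Agent.S5597
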