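import Cfsg.Statements.S5598
import Cfsg.Agent.Lib.Helper2.Sing
-- import your own Cfsg.Agent.* helpers here

set_option autoImplicit false
open Cfsg
open Cfsg.Agent.Lib.Helper2.ExtraSp Cfsg.Agent.Lib.Helper2.D8Syl Cfsg.Agent.Lib.Helper2.Sing

namespace Cfsg.Agent.S5598

/-- Setting: `z` is an involution of the finite group `G`; for each element `x`, `Q x` is the largest normal 2-subgroup of the centralizer of `x`; `Q z` is extraspecial and contains its own centralizer in `G`. A subgroup `U` is singular when it is elementary abelian, every non-identity element of `U` is conjugate to `z`, and any two non-identity elements `u`, `v` of `U` are orthogonal (`v ∈ Q u`). Write `QU` for the intersection of the `Q u` and `LU` for the join of the `Q u` over the non-identity `u` in `U`. If the singular subgroup `U` is generated by a set `T` of non-identity elements, then `QU` is already the intersection of the `Q t` over `t ∈ T`. -/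
theorem result {G : Type*} [Group G] [Finite G]
    (Q : G → Subgroup G)
    (hQ : ∀ x : G, Q x = (Cfsg.pCore 2 ↥(Subgroup.centralizer ({x} : Set G))).map (Subgroup.centralizer ({x} : Set G)).subtype)
    (z : G) (hz : orderOf z = 2) (hE : Cfsg.IsExtraspecial 2 ↥(Q z))
    (hC : Subgroup.centralizer ((Q z : Subgroup G) : Set G) ≤ Q z)
    (U : Subgroup G) (hU2 : ∀ u ∈ U, u * u = 1)
    (hS : ∀ u ∈ U, u ≠ 1 → ∃ g : G, g * z * g⁻¹ = u)
    (hO : ∀ u ∈ U, ∀ v ∈ U, u ≠ 1 → v ≠ 1 → v ∈ Q u)
    (QU LU : Subgroup G) (hQU : QU = ⨅ u ∈ ((U : Set G) \ {1}), Q u) (hLU : LU = ⨆ u ∈ ((U : Set G) \ {1}), Q u)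
    (T : Set G) (hT : Subgroup.closure T = U) (hT1 : (1 : G) ∉ T) :
    QU = ⨅ t ∈ T, Q t := by
  have hQQ : Q = QQ := funext hQ
  subst hQQ
  have hset : Setting z U := ⟨esdata_QQ hz hE, hU2, hS, hO⟩
  have hQUmem : ∀ x, x ∈ QU ↔ ∀ u ∈ U, u ≠ 1 → x ∈ QQ u := by
    intro x
    rw [hQU]
    simp only [Subgroup.mem_iInf]
    constructor
    · intro h u hu hu1
      exact h u ⟨hu, hu1⟩
    · intro h u hu
      exact h u hu.1 hu.2
  have hLUle : ∀ u ∈ U, u ≠ 1 → QQ u ≤ LU := by
    intro u hu hu1
    rw [hLU]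
    exact le_iSup₂ (f := fun (u : G) (_ : u ∈ (U : Set G) \ {1}) => QQ u) u ⟨hu, hu1⟩
  have hLUN : LU ≤ Subgroup.normalizer (U : Set G) := by
    rw [hLU]
    exact iSup₂_le (fun u hu => hset.normalizes hu.1 hu.2)
  apply le_antisymm
  · rw [hQU]
    apply le_iInf₂
    intro t ht
    have htU : t ∈ U := by rw [← hT]; exact Subgroup.subset_closure ht
    have ht1 : t ≠ 1 := fun h => hT1 (h ▸ ht)
    exact iInf₂_le (f := fun (u : G) (_ : u ∈ (U : Set G) \ {1}) => QQ u) t ⟨htU, ht1⟩
  · intro x hx
    rw [hQUmem]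
    have key : ∀ u ∈ Subgroup.closure T, u ∈ U ∧ (u ≠ 1 → x ∈ QQ u) := by
      intro u hu
      refine Subgroup.closure_induction (p := fun u _ => u ∈ U ∧ (u ≠ 1 → x ∈ QQ u))
        ?_ ?_ ?_ ?_ hu
      · intro t ht
        refine ⟨by rw [← hT]; exact Subgroup.subset_closure ht, fun _ => ?_⟩
        exact (Subgroup.mem_iInf.mp ((Subgroup.mem_iInf.mp hx) t)) ht
      · exact ⟨U.one_mem, fun h => absurd rfl h⟩
      · rintro a b _ _ ⟨haU, ha⟩ ⟨hbU, hb⟩
        refine ⟨U.mul_mem haU hbU, ?_⟩
        intro hab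
        by_cases ha1 : a = 1
        · rw [ha1, one_mul]
          apply hb
          intro hb1
          apply hab
          rw [ha1, hb1, one_mul]
        by_cases hb1 : b = 1
        · rw [hb1, mul_one]
          exact ha ha1
        have hne : a ≠ b := by
          intro h
          apply hab
          rw [h]; exact hU2 b hbU
        exact hset.line haU hbU ha1 hb1 hne (Subgroup.mem_inf.mpr ⟨ha ha1, hb hb1⟩)
      · rintro a _ ⟨haU, ha⟩
        rw [hset.inv_eq haU]
        exact ⟨haU, ha⟩
    intro u hu hu1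
    rw [← hT] at hu
    exact (key u hu).2 hu1

end Cfsg.Agent.S5598
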