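import Cfsg.Statements.S5627
import Cfsg.Agent.Lib.Helper2.Plane4D

set_option autoImplicit false
open Cfsg

namespace Cfsg.Agent.S5627

/-- In a projective plane of order 4 (a Steiner system S(2, 5, 21)), call a set of points independent when no line meets it in more than two points. There are exactly 2520 independent 4-sets and exactly 168 independent 6-sets (hyperovals), and every independent 4-set lies in exactly one hyperoval. -/
theorem result {α : Type*} [Fintype α] [DecidableEq α] (hα : Fintype.card α = 21) (L : Set (Finset α)) (hL : Cfsg.IsSteinerSystem 2 5 L) : {S : Finset α | (S.card = 4 ∧ ∀ l ∈ L, (l ∩ S).card ≤ 2)}.ncard = 2520 ∧ {H : Finset α | (H.card = 6 ∧ ∀ l ∈ L, (l ∩ H).card ≤ 2)}.ncard = 168 ∧ ∀ S : Finset α, (S.card = 4 ∧ ∀ l ∈ L, (l ∩ S).card ≤ 2) → ∃! H : Finset α, (H.card = 6 ∧ ∀ l ∈ L, (l ∩ H).card ≤ 2) ∧ S ⊆ H := by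
  obtain ⟨Lf, rfl⟩ := Cfsg.Agent.Lib.Helper9.Steiner5.exists_finset L
  have hP := Cfsg.Agent.Lib.Helper2.Plane4.IsPlane4.of_steiner hα Lf hL
  have hset : ∀ k, {S : Finset α | S.card = k ∧ ∀ l ∈ (Lf : Set (Finset α)), (l ∩ S).card ≤ 2}
      = ↑(Cfsg.Agent.Lib.Helper2.Plane4.arcs Lf k) := by
    intro k
    ext S
    simp only [Set.mem_ofPred_eq, Finset.mem_coe, Cfsg.Agent.Lib.Helper2.Plane4.mem_arcs,
      Cfsg.Agent.Lib.Helper2.Plane4.IsArc]
  obtain ⟨h4, h6⟩ := Cfsg.Agent.Lib.Helper2.Plane4.card_arcs hP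
  refine ⟨?_, ?_, ?_⟩
  · rw [hset 4, Set.ncard_coe_finset, h4]
  · rw [hset 6, Set.ncard_coe_finset, h6]
  · intro S hS
    obtain ⟨H, ⟨⟨hH6, hHarc⟩, hSH⟩, huniq⟩ :=
      Cfsg.Agent.Lib.Helper2.Plane4.unique_hyperoval hP S hS.1
        (fun l hl => hS.2 l (Finset.mem_coe.mpr hl))
    exact ⟨H, ⟨⟨hH6, fun l hl => hHarc l (Finset.mem_coe.mp hl)⟩, hSH⟩,
      fun T hT => huniq T ⟨⟨hT.1.1, fun l hl => hT.1.2 l (Finset.mem_coe.mpr hl)⟩, hT.2⟩⟩

end Cfsg.Agent.S5627
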