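import Cfsg.Statements.S5628
import Cfsg.Agent.Lib.Helper2.Plane4D

set_option autoImplicit false
open Cfsg

namespace Cfsg.Agent.S5628

/-- In a projective plane of order 4 (a Steiner system S(2, 5, 21)), every permutation of the six points of a hyperoval (a 6-set met by no line in more than two points) is the restriction of exactly one automorphism of the plane. In particular the stabiliser of a hyperoval in the automorphism group is isomorphic to the symmetric group of degree 6 acting faithfully on the hyperoval. -/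
theorem result {α : Type*} [Fintype α] [DecidableEq α] (hα : Fintype.card α = 21) (L : Set (Finset α)) (hL : Cfsg.IsSteinerSystem 2 5 L) (H : Finset α) (hH : (H.card = 6 ∧ ∀ l ∈ L, (l ∩ H).card ≤ 2)) (σ : Equiv.Perm ↥H) : ∃! g : Equiv.Perm α, g ∈ Cfsg.setSystemAut L ∧ ∀ p : ↥H, g p = σ p := by
  obtain ⟨Lf, rfl⟩ := Cfsg.Agent.Lib.Helper9.Steiner5.exists_finset L
  have hP := Cfsg.Agent.Lib.Helper2.Plane4.IsPlane4.of_steiner hα Lf hL
  have hHarc : Cfsg.Agent.Lib.Helper2.Plane4.IsArc Lf H :=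
    fun l hl => hH.2 l (Finset.mem_coe.mpr hl)
  obtain ⟨ε, -⟩ : ∃ ε : Fin 6 ≃ ↥H, True := ⟨(Finset.equivFinOfCardEq hH.1).symm, trivial⟩
  have hF := Cfsg.Agent.Lib.Helper2.Plane4.Frame.of_hyperoval hHarc ε
  have hF' := Cfsg.Agent.Lib.Helper2.Plane4.Frame.of_hyperoval hHarc (ε.trans σ)
  obtain ⟨e, he1, he2⟩ := Cfsg.Agent.Lib.Helper2.Plane4.iso_of_frames hP hF hP hF'
  have hmem : ∀ g : Equiv.Perm α, g ∈ Cfsg.setSystemAut (Lf : Set (Finset α)) ↔
      (fun b : Finset α => b.image g) '' (Lf : Set (Finset α)) = Lf :=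
    fun g => Cfsg.Agent.Lib.Helper2.Plane4.mem_aut_iff _ g
  refine ⟨e, ⟨(hmem e).mpr he2, ?_⟩, ?_⟩
  · intro p
    have h := he1 (ε.symm p)
    simp only [Equiv.apply_symm_apply, Equiv.trans_apply] at h
    exact h
  · rintro g ⟨hg1, hg2⟩
    apply Cfsg.Agent.Lib.Helper2.Plane4.aut_eq_of_frame hP hF g e ((hmem g).mp hg1) he2
    intro i
    rw [he1 i]
    exact hg2 (ε i)

end Cfsg.Agent.S5628
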