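import Mathlib
import Cfsg.Statements.S5632
import Cfsg.Agent.Lib.Helper5.TvGL

set_option autoImplicit false
open Cfsg

namespace Cfsg.Agent.S5632

/-- For a finite field F and subspaces 0 < W < U of F^n with dim W + dim U = n, the elements of SL_n(F) stabilising both W and U form a subgroup that is not maximal in SL_n(F): some subgroup lies strictly between it and SL_n(F). -/
theorem result {F : Type*} [Field F] [Fintype F] (n : ℕ) (W U : Submodule F (Fin n → F)) (hW0 : W ≠ ⊥) (hWU : W < U) (hdim : Module.finrank F W + Module.finrank F U = n) : ∃ K : Subgroup (Matrix.GeneralLinearGroup (Fin n) F), Cfsg.Geo.subspaceStabilizer W ⊓ Cfsg.Geo.subspaceStabilizer U ⊓ Cfsg.Geo.specialLinear (Fin n) F < K ∧ K < Cfsg.Geo.specialLinear (Fin n) F := by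
  classical
  have hWtop : W ≠ ⊤ := fun h => by
    rw [h] at hWU
    exact not_top_lt hWU
  have hUtop : U ≠ ⊤ := by
    intro h
    rw [h, finrank_top, Module.finrank_fin_fun] at hdim
    have : Module.finrank F W = 0 := by omega
    exact hW0 (Submodule.finrank_eq_zero.1 this)
  refine ⟨Cfsg.Geo.subspaceStabilizer W ⊓ Cfsg.Geo.specialLinear (Fin n) F, ?_, ?_⟩
  · refine lt_of_le_of_ne ?_ ?_
    · intro g hg
      exact ⟨hg.1.1, hg.2⟩
    · intro heq
      obtain ⟨u, huU, huW⟩ := Set.exists_of_ssubset hWU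
      obtain ⟨v, hv⟩ : ∃ v, v ∉ U := by
        by_contra hcon
        push Not at hcon
        exact hUtop (eq_top_iff.2 fun x _ => hcon x)
      have huS : u ∉ W ⊔ Submodule.span F {v} := by
        intro hmem
        obtain ⟨w, hw, z, hz, hwz⟩ := Submodule.mem_sup.1 hmem
        obtain ⟨c, rfl⟩ := Submodule.mem_span_singleton.1 hz
        have hcv : c • v ∈ U := by
          have : c • v = u - w := by rw [← hwz]; abel
          rw [this]
          exact U.sub_mem huU (hWU.le hw)
        have hc0 : c = 0 := by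
          by_contra hc
          apply hv
          have : v = c⁻¹ • (c • v) := by rw [smul_smul, inv_mul_cancel₀ hc, one_smul]
          rw [this]
          exact U.smul_mem _ hcv
        rw [hc0, zero_smul, add_zero] at hwz
        exact huW (hwz ▸ hw)
      obtain ⟨g, hg1, hg2, hg3⟩ := Cfsg.Agent.Lib.Helper5.TvGL.exists_tv (W ⊔ Submodule.span F {v}) u v huS
        (Submodule.mem_sup_right (Submodule.mem_span_singleton_self v))
      have hgW : g ∈ Cfsg.Geo.subspaceStabilizer W :=
        Cfsg.Agent.Lib.Helper5.TvGL.mem_stab_of_fix W g fun x hx => hg2 x (Submodule.mem_sup_left hx)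
      have hgK : g ∈ Cfsg.Geo.subspaceStabilizer W ⊓ Cfsg.Geo.specialLinear (Fin n) F := ⟨hgW, hg1⟩
      rw [← heq] at hgK
      exact Cfsg.Agent.Lib.Helper5.TvGL.not_mem_stab U g u v huU hv hg3 hgK.1.2
  · refine lt_of_le_of_ne inf_le_right ?_
    intro heq
    obtain ⟨g, hg1, hg2⟩ := Cfsg.Agent.Lib.Helper5.TvGL.exists_sl_not_stab W hW0 hWtop
    rw [← heq] at hg1
    exact hg2 hg1.1

end Cfsg.Agent.S5632
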