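import Mathlib
import Cfsg.Statements.S5633
import Cfsg.Agent.Lib.Helper5.TvGL

set_option autoImplicit false
open Cfsg

namespace Cfsg.Agent.S5633

/-- For a finite field F and complementary non-zero subspaces W ⊕ U = F^n with dim W < dim U, the elements of SL_n(F) stabilising both W and U form a subgroup that is not maximal in SL_n(F): some subgroup lies strictly between it and SL_n(F). -/
theorem result {F : Type*} [Field F] [Fintype F] (n : ℕ) (W U : Submodule F (Fin n → F)) (hW0 : W ≠ ⊥) (hWU : W ⊓ U = ⊥) (hWU' : W ⊔ U = ⊤) (hdim : Module.finrank F W < Module.finrank F U) : ∃ K : Subgroup (Matrix.GeneralLinearGroup (Fin n) F), Cfsg.Geo.subspaceStabilizer W ⊓ Cfsg.Geo.subspaceStabilizer U ⊓ Cfsg.Geo.specialLinear (Fin n) F < K ∧ K < Cfsg.Geo.specialLinear (Fin n) F := by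
  classical
  have hU0 : U ≠ ⊥ := by
    intro h
    rw [h, finrank_bot] at hdim
    omega
  have hWtop : W ≠ ⊤ := fun h => by
    rw [h, top_inf_eq] at hWU
    exact hU0 hWU
  refine ⟨Cfsg.Geo.subspaceStabilizer W ⊓ Cfsg.Geo.specialLinear (Fin n) F, ?_, ?_⟩
  · refine lt_of_le_of_ne ?_ ?_
    · intro g hg
      exact ⟨hg.1.1, hg.2⟩
    · intro heq
      obtain ⟨u, huU, hu0⟩ := (Submodule.ne_bot_iff U).1 hU0
      obtain ⟨v, hvW, hv0⟩ := (Submodule.ne_bot_iff W).1 hW0
      have hvU : v ∉ U := by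
        intro hv
        have : v ∈ W ⊓ U := ⟨hvW, hv⟩
        rw [hWU] at this
        exact hv0 ((Submodule.mem_bot F).1 this)
      have huW : u ∉ W := by
        intro hu
        have : u ∈ W ⊓ U := ⟨hu, huU⟩
        rw [hWU] at this
        exact hu0 ((Submodule.mem_bot F).1 this)
      obtain ⟨g, hg1, hg2, hg3⟩ := Cfsg.Agent.Lib.Helper5.TvGL.exists_tv W u v huW hvW
      have hgW : g ∈ Cfsg.Geo.subspaceStabilizer W :=
        Cfsg.Agent.Lib.Helper5.TvGL.mem_stab_of_fix W g hg2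
      have hgK : g ∈ Cfsg.Geo.subspaceStabilizer W ⊓ Cfsg.Geo.specialLinear (Fin n) F := ⟨hgW, hg1⟩
      rw [← heq] at hgK
      exact Cfsg.Agent.Lib.Helper5.TvGL.not_mem_stab U g u v huU hvU hg3 hgK.1.2
  · refine lt_of_le_of_ne inf_le_right ?_
    intro heq
    obtain ⟨g, hg1, hg2⟩ := Cfsg.Agent.Lib.Helper5.TvGL.exists_sl_not_stab W hW0 hWtop
    rw [← heq] at hg1
    exact hg2 hg1.1

end Cfsg.Agent.S5633
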