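import Cfsg.Statements.S5664
import Cfsg.Agent.Lib.Helper3.XSMain

set_option autoImplicit false
open Cfsg

namespace Cfsg.Agent.S5664

/-- For a finite field F and m ≥ 7, let K be a subfield of the algebra of 2m × 2m matrices over F containing the scalars, of prime degree r over F, whose elements k are self-adjoint for the standard alternating form f on F^(2m) (f(k u, v) = f(u, k v)) and satisfy f(k v, v) = 0 for all v. Then the elements of Sp_2m(F) normalising K form a maximal subgroup of Sp_2m(F). -/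
theorem result {F : Type*} [Field F] [Fintype F] (m : ℕ) (hm : 7 ≤ m) (r : ℕ) (hr : r.Prime) (K : Subalgebra F (Matrix (Fin m ⊕ Fin m) (Fin m ⊕ Fin m) F)) (hK : Cfsg.Geo.IsFieldSubalgebra r K) (hsa : Cfsg.Geo.IsSelfAdjointFor (Cfsg.sympForm m F) K) (halt : ∀ k ∈ K, ∀ v : (Fin m ⊕ Fin m → F), Cfsg.sympForm m F (Matrix.mulVec k v) v = 0) : Cfsg.Geo.IsMaximalIn (Cfsg.spGL m F) (Cfsg.Geo.subalgebraNormalizer K ⊓ Cfsg.spGL m F) := by
  classical
  have hfld : IsField ↥K := by
    refine ⟨?_, ?_, ?_⟩
    · haveI : Nontrivial ↥K := by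
        apply (Module.finrank_pos_iff (R := F)).mp
        rw [hK.finrank_eq]
        exact hr.pos
      exact exists_pair_ne ↥K
    · intro x y
      exact Subtype.ext (hK.comm x.1 x.2 y.1 y.2)
    · intro a ha
      have ha' : a.1 ≠ 0 := fun h => ha (Subtype.ext h)
      obtain ⟨y, hy, hay⟩ := hK.inv a.1 a.2 ha'
      exact ⟨⟨y, hy⟩, Subtype.ext hay⟩
  letI : Field ↥K := hfld.toField
  have hfr : Module.finrank F ↥K = r := hK.finrank_eq
  have hrange : (K.val).range = K := Subalgebra.range_val K
  have h := Cfsg.Agent.Lib.Helper3.XS.bridgeSp (F := F) (L := ↥K) m (by omega) K.val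
    (by rw [hfr]; exact hr) (by rw [hrange]; exact hsa) (by rw [hrange]; exact halt)
    (fun _ => by omega)
  rwa [hrange] at h

end Cfsg.Agent.S5664
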