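import Mathlib
import Cfsg.Statements.S5674
import Cfsg.Agent.Lib.Helper5.OrthSingularMax
import Cfsg.Agent.Lib.Helper5.OrthBridge
import Cfsg.Agent.Lib.Helper5.SpinorHyp2

set_option autoImplicit false
open Cfsg

namespace Cfsg.Agent.S5674

/-- Let F be a finite field of odd order, m ≥ 6, Q the standard quadratic form x₀² + Σ x_i y_i on F^(2m+1) and Ω the commutator subgroup of its isometry group inside GL_(2m+1)(F). The elements of Ω stabilising a non-zero subspace on which Q vanishes form a maximal subgroup of Ω. -/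
theorem result {F : Type*} [Field F] [Fintype F] (hodd : Odd (Fintype.card F)) (m : ℕ) (hm : 6 ≤ m) (W : Submodule F (Unit ⊕ (Fin m ⊕ Fin m) → F)) (hW0 : W ≠ ⊥) (hW : Cfsg.Geo.IsTotallySingularQuad (Cfsg.quadFormOdd m F) W) : Cfsg.Geo.IsMaximalIn (Cfsg.Geo.omegaGL (Cfsg.quadFormOdd m F)) (Cfsg.Geo.subspaceStabilizer W ⊓ Cfsg.Geo.omegaGL (Cfsg.quadFormOdd m F)) := by
  have h2 : (2 : F) ≠ 0 := by
    intro h
    have hchar : ringChar F = 2 := by
      have := ringChar.dvd (R := F) (show ((2 : ℕ) : F) = 0 by exact_mod_cast h)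
      have hp := CharP.char_is_prime F (ringChar F)
      exact ((Nat.prime_dvd_prime_iff_eq hp Nat.prime_two).mp this)
    have h0 := FiniteField.even_card_of_char_two hchar
    have h1 := Nat.odd_iff.mp hodd
    omega
  have hnd := Cfsg.Agent.Lib.Helper5.SpinorHyp2.oddForm_nondegenerate h2 m
  have H : Cfsg.Agent.Lib.Helper5.OmegaSimple.Hyp (Cfsg.Agent.Lib.Helper5.SpinorHyp2.oddForm m F) :=
    Cfsg.Agent.Lib.Helper5.OrthBridge.hyp_of_nondeg hnd (by
      rw [Fintype.card_sum, Fintype.card_sum, Fintype.card_fin, Fintype.card_unit]; omega)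
  have hW' : ∀ w ∈ W, Cfsg.Agent.Lib.Helper5.SpinorHyp2.oddForm m F w = 0 := by
    intro w hw
    rw [Cfsg.Agent.Lib.Helper5.SpinorHyp2.oddForm_apply]
    exact hW w hw
  have key := Cfsg.Agent.Lib.Helper5.OrthSingularMax.isMaximalIn H W hW0 hW' (by
    rintro ⟨h1, -⟩
    rw [Fintype.card_sum, Fintype.card_sum, Fintype.card_fin, Fintype.card_unit] at h1
    omega)
  rw [Cfsg.Agent.Lib.Helper5.SpinorHyp2.coe_oddForm] at key
  exact key

end Cfsg.Agent.S5674
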