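import Mathlib
import Cfsg.Statements.S5675
import Cfsg.Agent.Lib.Helper5.OrthNondegSub
import Cfsg.Agent.Lib.Helper5.OrthBridge
import Cfsg.Agent.Lib.Helper5.SpinorHyp2

set_option autoImplicit false
open Cfsg

namespace Cfsg.Agent.S5675

/-- Let F be a finite field of odd order q, m ≥ 6, Q the standard quadratic form on F^(2m+1) and Ω the commutator subgroup of its isometry group. Let W be a non-zero subspace of even dimension on which the polar form of Q is non-degenerate; exclude the case q = 3, dim W = 2 with Q vanishing on some line of W (a plus-type plane). Then the elements of Ω stabilising W (equivalently, stabilising its orthogonal complement, of odd dimension) form a maximal subgroup of Ω. -/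
theorem result {F : Type*} [Field F] [Fintype F] (hodd : Odd (Fintype.card F)) (m : ℕ) (hm : 6 ≤ m) (W : Submodule F (Unit ⊕ (Fin m ⊕ Fin m) → F)) (hW0 : W ≠ ⊥) (hev : Even (Module.finrank F W)) (hW : Cfsg.Geo.IsNondegenerateOn (QuadraticMap.polar (Cfsg.quadFormOdd m F)) W) (hex : ¬ (Fintype.card F = 3 ∧ Module.finrank F W = 2 ∧ Cfsg.Geo.IsPlusTypeOn (Cfsg.quadFormOdd m F) W)) : Cfsg.Geo.IsMaximalIn (Cfsg.Geo.omegaGL (Cfsg.quadFormOdd m F)) (Cfsg.Geo.subspaceStabilizer W ⊓ Cfsg.Geo.omegaGL (Cfsg.quadFormOdd m F)) := by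
  have h2 : (2 : F) ≠ 0 := by
    intro h
    have hchar : ringChar F = 2 := by
      have := ringChar.dvd (R := F) (show ((2 : ℕ) : F) = 0 by exact_mod_cast h)
      have hp := CharP.char_is_prime F (ringChar F)
      exact ((Nat.prime_dvd_prime_iff_eq hp Nat.prime_two).mp this)
    have h0 := FiniteField.even_card_of_char_two hchar
    obtain ⟨r, hr⟩ := hodd
    omega
  have hnd := Cfsg.Agent.Lib.Helper5.SpinorHyp2.oddForm_nondegenerate h2 m
  have hcard : Fintype.card (Unit ⊕ (Fin m ⊕ Fin m)) = 2 * m + 1 := by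
    rw [Fintype.card_sum, Fintype.card_sum, Fintype.card_fin, Fintype.card_unit]; omega
  have H : Cfsg.Agent.Lib.Helper5.OmegaSimple.Hyp (Cfsg.Agent.Lib.Helper5.SpinorHyp2.oddForm m F) :=
    Cfsg.Agent.Lib.Helper5.OrthBridge.hyp_of_nondeg hnd (by rw [hcard]; omega)
  have key := Cfsg.Agent.Lib.Helper5.OrthNondegSub.main_odd H (by rw [hcard]; omega)
    (by rw [hcard]; exact ⟨m, rfl⟩) hodd W hW0 hev (by
      rw [Cfsg.Agent.Lib.Helper5.SpinorHyp2.coe_oddForm]; exact hW) (by
      rw [Cfsg.Agent.Lib.Helper5.SpinorHyp2.coe_oddForm]; exact hex)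
  rw [Cfsg.Agent.Lib.Helper5.SpinorHyp2.coe_oddForm] at key
  exact key

end Cfsg.Agent.S5675
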