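import Mathlib
import Cfsg.Statements.S5676
import Cfsg.Agent.Lib.Helper5.OrthPlusPlane
import Cfsg.Agent.Lib.Helper5.OrthBridge
import Cfsg.Agent.Lib.Helper5.SpinorHyp2

set_option autoImplicit false
open Cfsg

namespace Cfsg.Agent.S5676

/-- Let F be the field with 3 elements, m ≥ 6, Q the standard quadratic form on F^(2m+1) and Ω the commutator subgroup of its isometry group. Let W be a 2-dimensional subspace on which the polar form is non-degenerate and which contains a line on which Q vanishes. Then the elements of Ω stabilising W form a subgroup that is not maximal: some subgroup lies strictly between it and Ω. -/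
theorem result {F : Type*} [Field F] [Fintype F] (hq : Fintype.card F = 3) (m : ℕ) (hm : 6 ≤ m) (W : Submodule F (Unit ⊕ (Fin m ⊕ Fin m) → F)) (hdim : Module.finrank F W = 2) (hW : Cfsg.Geo.IsNondegenerateOn (QuadraticMap.polar (Cfsg.quadFormOdd m F)) W) (hplus : Cfsg.Geo.IsPlusTypeOn (Cfsg.quadFormOdd m F) W) : ∃ K : Subgroup (Matrix.GeneralLinearGroup (Unit ⊕ (Fin m ⊕ Fin m)) F), Cfsg.Geo.subspaceStabilizer W ⊓ Cfsg.Geo.omegaGL (Cfsg.quadFormOdd m F) < K ∧ K < Cfsg.Geo.omegaGL (Cfsg.quadFormOdd m F) := by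
  have h2 : (2 : F) ≠ 0 := by
    intro h
    have hchar : ringChar F = 2 := by
      have := ringChar.dvd (R := F) (show ((2 : ℕ) : F) = 0 by exact_mod_cast h)
      have hp := CharP.char_is_prime F (ringChar F)
      exact ((Nat.prime_dvd_prime_iff_eq hp Nat.prime_two).mp this)
    have h0 := FiniteField.even_card_of_char_two hchar
    omega
  have hnd := Cfsg.Agent.Lib.Helper5.SpinorHyp2.oddForm_nondegenerate h2 m
  have hcard : Fintype.card (Unit ⊕ (Fin m ⊕ Fin m)) = 2 * m + 1 := by
    rw [Fintype.card_sum, Fintype.card_sum, Fintype.card_fin, Fintype.card_unit]; omega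
  have H : Cfsg.Agent.Lib.Helper5.OmegaSimple.Hyp (Cfsg.Agent.Lib.Helper5.SpinorHyp2.oddForm m F) :=
    Cfsg.Agent.Lib.Helper5.OrthBridge.hyp_of_nondeg hnd (by rw [hcard]; omega)
  have key := Cfsg.Agent.Lib.Helper5.OrthPlusPlane.not_maximal H (by rw [hcard]; omega)
    (by rw [hq]) W hdim (by
      rw [Cfsg.Agent.Lib.Helper5.SpinorHyp2.coe_oddForm]; exact hW) (by
      rw [Cfsg.Agent.Lib.Helper5.SpinorHyp2.coe_oddForm]; exact hplus)
  rw [Cfsg.Agent.Lib.Helper5.SpinorHyp2.coe_oddForm] at key
  exact key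

end Cfsg.Agent.S5676
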