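import Mathlib
import Cfsg.Statements.S5677
import Cfsg.Agent.Lib.Helper5.OddWr.Main
import Cfsg.Agent.Lib.Helper5.OrthFrameThree
import Cfsg.Agent.Lib.Helper5.OrthBridge
import Cfsg.Agent.Lib.Helper5.SpinorHyp2

set_option autoImplicit false
open Cfsg

namespace Cfsg.Agent.S5677

/-- Let F be a finite field of odd order q, m ≥ 6, Q the standard quadratic form on F^(2m+1) and Ω the commutator subgroup of its isometry group. Let D be a decomposition of F^(2m+1) into t ≥ 2 pairwise orthogonal, pairwise Q-isometric subspaces of equal dimension k > 1 on which the polar form is non-degenerate. Unless q = 3 and k = 3, the elements of Ω permuting the members of D form a maximal subgroup of Ω. -/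
theorem result {F : Type*} [Field F] [Fintype F] (hodd : Odd (Fintype.card F)) (m : ℕ) (hm : 6 ≤ m) {t : ℕ} (k : ℕ) (hk : 1 < k) (D : Fin t → Submodule F (Unit ⊕ (Fin m ⊕ Fin m) → F)) (hD : Cfsg.Geo.IsOrthogonalMDecomposition (Cfsg.quadFormOdd m F) k D) (hex : ¬ (Fintype.card F = 3 ∧ k = 3)) : Cfsg.Geo.IsMaximalIn (Cfsg.Geo.omegaGL (Cfsg.quadFormOdd m F)) (Cfsg.Geo.decompositionStabilizer D ⊓ Cfsg.Geo.omegaGL (Cfsg.quadFormOdd m F)) := by
  have h2 : (2 : F) ≠ 0 := by
    intro h
    have hchar : ringChar F = 2 := by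
      have := ringChar.dvd (R := F) (show ((2 : ℕ) : F) = 0 by exact_mod_cast h)
      have hp := CharP.char_is_prime F (ringChar F)
      exact ((Nat.prime_dvd_prime_iff_eq hp Nat.prime_two).mp this)
    have h0 := FiniteField.even_card_of_char_two hchar
    obtain ⟨r, hr⟩ := hodd
    omega
  have hnd := Cfsg.Agent.Lib.Helper5.SpinorHyp2.oddForm_nondegenerate h2 m
  have hcard : Fintype.card (Unit ⊕ (Fin m ⊕ Fin m)) = 2 * m + 1 := by
    rw [Fintype.card_sum, Fintype.card_sum, Fintype.card_fin, Fintype.card_unit]; omega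
  have H : Cfsg.Agent.Lib.Helper5.OmegaSimple.Hyp (Cfsg.Agent.Lib.Helper5.SpinorHyp2.oddForm m F) :=
    Cfsg.Agent.Lib.Helper5.OrthBridge.hyp_of_nondeg hnd (by rw [hcard]; omega)
  have htk := Cfsg.Agent.Lib.Helper5.OrthFrameThree.card_blocks' hD.decomp.decomp
  rw [hcard] at htk
  have hk3' : 3 ≤ k := by
    rcases Nat.even_or_odd k with he | ho
    · exfalso
      have : Even (t * k) := he.mul_left t
      rw [htk] at this
      obtain ⟨r, hr⟩ := this
      omega
    · obtain ⟨r, hr⟩ := ho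
      omega
  have hq3 : k = 3 → 3 < Fintype.card F := by
    intro hk3
    have h1 : Fintype.card F ≠ 3 := fun h => hex ⟨h, hk3⟩
    have h3 : 1 < Fintype.card F := Fintype.one_lt_card
    obtain ⟨r, hr⟩ := hodd
    omega
  have key := Cfsg.Agent.Lib.Helper5.OddWr.wr_isMaximalIn H h2 (D := D) (k := k) (by
    rw [Cfsg.Agent.Lib.Helper5.SpinorHyp2.coe_oddForm]; exact hD) hk3' hq3
  rw [Cfsg.Agent.Lib.Helper5.SpinorHyp2.coe_oddForm] at key
  exact key

end Cfsg.Agent.S5677
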