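import Mathlib
import Cfsg.Statements.S5678
import Cfsg.Agent.Lib.Helper5.OrthFrameThree
import Cfsg.Agent.Lib.Helper5.OrthBridge
import Cfsg.Agent.Lib.Helper5.SpinorHyp2

set_option autoImplicit false
open Cfsg

namespace Cfsg.Agent.S5678

/-- Let F be the field with 3 elements, m ≥ 6, Q the standard quadratic form on F^(2m+1) and Ω the commutator subgroup of its isometry group. Let D be a decomposition of F^(2m+1) into t pairwise orthogonal, pairwise Q-isometric 3-dimensional subspaces on which the polar form is non-degenerate. Then the elements of Ω permuting the members of D form a subgroup that is not maximal: some subgroup lies strictly between it and Ω. -/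
theorem result {F : Type*} [Field F] [Fintype F] (hq : Fintype.card F = 3) (m : ℕ) (hm : 6 ≤ m) {t : ℕ} (D : Fin t → Submodule F (Unit ⊕ (Fin m ⊕ Fin m) → F)) (hD : Cfsg.Geo.IsOrthogonalMDecomposition (Cfsg.quadFormOdd m F) 3 D) : ∃ K : Subgroup (Matrix.GeneralLinearGroup (Unit ⊕ (Fin m ⊕ Fin m)) F), Cfsg.Geo.decompositionStabilizer D ⊓ Cfsg.Geo.omegaGL (Cfsg.quadFormOdd m F) < K ∧ K < Cfsg.Geo.omegaGL (Cfsg.quadFormOdd m F) := by
  have h2 : (2 : F) ≠ 0 := Cfsg.Agent.Lib.Helper5.OrthFrameThree.two_ne_zero' hq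
  have hnd := Cfsg.Agent.Lib.Helper5.SpinorHyp2.oddForm_nondegenerate h2 m
  have hcard : Fintype.card (Unit ⊕ (Fin m ⊕ Fin m)) = 2 * m + 1 := by
    rw [Fintype.card_sum, Fintype.card_sum, Fintype.card_fin, Fintype.card_unit]; omega
  have H : Cfsg.Agent.Lib.Helper5.OmegaSimple.Hyp (Cfsg.Agent.Lib.Helper5.SpinorHyp2.oddForm m F) :=
    Cfsg.Agent.Lib.Helper5.OrthBridge.hyp_of_nondeg hnd (by rw [hcard]; omega)
  have hD' : Cfsg.Geo.IsOrthogonalMDecomposition
      (⇑(Cfsg.Agent.Lib.Helper5.SpinorHyp2.oddForm m F)) 3 D := by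
    rw [Cfsg.Agent.Lib.Helper5.SpinorHyp2.coe_oddForm]; exact hD
  have ht := Cfsg.Agent.Lib.Helper5.OrthFrameThree.card_blocks' hD.decomp.decomp
  rw [hcard] at ht
  have ht4 : 4 ≤ t := by omega
  obtain ⟨c, hc, hgood⟩ := Cfsg.Agent.Lib.Helper5.OrthFrameThree.good_three
    (Q := Cfsg.Agent.Lib.Helper5.SpinorHyp2.oddForm m F) hq (D ⟨0, by omega⟩)
    (hD.decomp.decomp.finrank_eq _) (hD'.decomp.nondegenerate _)
  have key := Cfsg.Agent.Lib.Helper5.OrthFrameThree.not_maximal_main H hq hD' ht4 hc hgood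
  rw [Cfsg.Agent.Lib.Helper5.SpinorHyp2.coe_oddForm] at key
  exact key

end Cfsg.Agent.S5678
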