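import Mathlib
import Cfsg.Statements.S5693
import Cfsg.Agent.Lib.Helper5.OrthDecompQuad
import Cfsg.Agent.Lib.Helper5.OrthDecompFour
import Cfsg.Agent.Lib.Helper5.OrthDecompFive
import Cfsg.Agent.Lib.Helper5.OrthBridge

set_option autoImplicit false
open Cfsg

namespace Cfsg.Agent.S5693

/-- Let F be a finite field with q elements, n ≥ 13 even, Q a non-degenerate quadratic form on F^n of plus type (some subspace of dimension n/2 is totally singular), and Ω the commutator subgroup of the isometry group of Q, viewed inside GL_n(F). Let D be a decomposition of F^n into t ≥ 2 pairwise orthogonal, pairwise Q-isometric subspaces of equal dimension k on which the polar form is non-degenerate (with, for even k, all members of plus type or t even; for odd k, q odd and square discriminant), in one of the cases: k = 2 with q = 3; k = 2 with plus-type members and q ∈ {2, 4, 5}; k = 3 with q = 3; k = 4 with plus-type members and q = 2. Then the elements of Ω permuting the members of D form a subgroup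 that is not maximal: some subgroup lies strictly between it and Ω. -/
theorem result {F : Type*} [Field F] [Fintype F] {n : ℕ} (hn : 13 ≤ n) (heven : Even n) (Q : (Fin n → F) → F) (hQ : Cfsg.Geo.IsNondegenerateQuadraticForm Q) (hplus : Cfsg.Geo.IsPlusTypeOn Q ⊤) {t : ℕ} (k : ℕ) (D : Fin t → Submodule F (Fin n → F)) (hD : Cfsg.Geo.IsOrthogonalMDecomposition Q k D) (hke : Even k → ((∀ i, Cfsg.Geo.IsPlusTypeOn Q (D i)) ∨ Even t)) (hko : Odd k → (Odd (Fintype.card F) ∧ Cfsg.Geo.HasSquareDiscriminant Q)) (hcase : ((k = 2 ∧ (Fintype.card F = 3 ∨ ((∀ i, Cfsg.Geo.IsPlusTypeOn Q (D i)) ∧ (Fintype.card F = 2 ∨ Fintype.card F = 4 ∨ Fintype.card F = 5)))) ∨ (k = 3 ∧ Fintype.card F = 3) ∨ (k = 4 ∧ Fintype.card F = 2 ∧ ∀ i, Cfsg.Geo.IsPlusTypeOn Q (D i)))) : ∃ K : Subgroup (Matrix.GeneralLinearGroup (Fin n) F), Cfsg.Geo.decompositionStabilizer D ⊓ Cfsg.Geo.omegaGL Q < K ∧ K < Cfsg.Geo.omegaGL Q := by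
  have hcard : Fintype.card (Fin n) = n := Fintype.card_fin n
  have H : Cfsg.Agent.Lib.Helper5.OmegaSimple.Hyp (Cfsg.Agent.Lib.Helper5.OrthBridge.toQF Q hQ) :=
    Cfsg.Agent.Lib.Helper5.OrthBridge.hyp_toQF Q hQ (by rw [hcard]; omega)
  have hD' : Cfsg.Geo.IsOrthogonalMDecomposition
      (⇑(Cfsg.Agent.Lib.Helper5.OrthBridge.toQF Q hQ)) k D := hD
  have ht := Cfsg.Agent.Lib.Helper5.OrthFrameThree.card_blocks' hD.decomp.decomp
  rw [hcard] at ht
  -- singular vectors in blocks of plus type
  have hsing_of_plus : k = 2 → (∀ i, Cfsg.Geo.IsPlusTypeOn Q (D i)) →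
      ∀ i, ∃ e ∈ D i, e ≠ 0 ∧ (Cfsg.Agent.Lib.Helper5.OrthBridge.toQF Q hQ) e = 0 := by
    intro hk hpl i
    obtain ⟨U, hUW, hUts, hUdim⟩ := hpl i
    rw [hD.decomp.decomp.finrank_eq, hk] at hUdim
    have hU1 : Module.finrank F U = 1 := by omega
    have hU0 : U ≠ ⊥ := by
      intro h
      rw [h, finrank_bot] at hU1
      omega
    obtain ⟨e, heU, he0⟩ := (Submodule.ne_bot_iff U).1 hU0
    exact ⟨e, hUW heU, he0, hUts e heU⟩
  rcases hcase with ⟨rfl, hc⟩ | ⟨rfl, hq⟩ | ⟨rfl, hq, hpl⟩
  · have ht7 : 7 ≤ t := by omega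
    rcases hc with hq | ⟨hpl, hq | hq | hq⟩
    · -- three elements
      by_cases hp : ∃ e ∈ D ⟨0, by omega⟩, e ≠ 0 ∧
          (Cfsg.Agent.Lib.Helper5.OrthBridge.toQF Q hQ) e = 0
      · have hsing : ∀ i, ∃ e ∈ D i, e ≠ 0 ∧
            (Cfsg.Agent.Lib.Helper5.OrthBridge.toQF Q hQ) e = 0 := by
          intro i
          obtain ⟨e, he, he0, hQe⟩ := hp
          obtain ⟨φ, hφ⟩ := hD.isometric ⟨0, by omega⟩ i
          refine ⟨(φ ⟨e, he⟩ : D i), (φ ⟨e, he⟩).2, ?_, ?_⟩
          · intro h0
            apply he0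
            have h1 : φ ⟨e, he⟩ = 0 := Subtype.ext h0
            have h2 := φ.injective (h1.trans (map_zero φ).symm)
            exact congrArg Subtype.val h2
          · have := hφ ⟨e, he⟩
            exact this.trans hQe
        have key := Cfsg.Agent.Lib.Helper5.OrthDecompPlanes.not_maximal_plane_le3 H
          (by omega : Fintype.card F ≤ 3) hD'.decomp ht7 hsing
        exact key
      · have hgood := Cfsg.Agent.Lib.Helper5.OrthFrameThree.good_two
          (Q := Cfsg.Agent.Lib.Helper5.OrthBridge.toQF Q hQ) hq (D ⟨0, by omega⟩)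
          (hD.decomp.decomp.finrank_eq _) (hD'.decomp.nondegenerate _) (by
            intro w hw hQw
            by_contra hw0
            exact hp ⟨w, hw, hw0, hQw⟩)
        obtain ⟨c, hc, hgood⟩ := hgood
        have key := Cfsg.Agent.Lib.Helper5.OrthFrameThree.not_maximal_main H hq hD'
          (by omega : 4 ≤ t) hc hgood
        exact key
    · have key := Cfsg.Agent.Lib.Helper5.OrthDecompPlanes.not_maximal_plane_le3 H
        (by omega : Fintype.card F ≤ 3) hD'.decomp ht7 (hsing_of_plus rfl hpl)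
      exact key
    · have key := Cfsg.Agent.Lib.Helper5.OrthDecompFour.not_maximal_plane_four hq H
        hD'.decomp (by omega : 4 ≤ t) (hsing_of_plus rfl hpl)
      exact key
    · have key := Cfsg.Agent.Lib.Helper5.OrthDecompFive.not_maximal_plane_five hq H
        hD' (by omega : 4 ≤ t) (hsing_of_plus rfl hpl _)
      exact key
  · have ht4 : 4 ≤ t := by omega
    have hgood := Cfsg.Agent.Lib.Helper5.OrthFrameThree.good_three
      (Q := Cfsg.Agent.Lib.Helper5.OrthBridge.toQF Q hQ) hq (D ⟨0, by omega⟩)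
      (hD.decomp.decomp.finrank_eq _) (hD'.decomp.nondegenerate _)
    obtain ⟨c, hc, hgood⟩ := hgood
    have key := Cfsg.Agent.Lib.Helper5.OrthFrameThree.not_maximal_main H hq hD' ht4 hc hgood
    exact key
  · have key := Cfsg.Agent.Lib.Helper5.OrthDecompQuad.not_maximal_quad hq H hD'.decomp
      (by omega : 2 ≤ t) hpl
    exact key

end Cfsg.Agent.S5693
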