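import Mathlib
import Cfsg.Statements.S5695
import Cfsg.Agent.Lib.Helper5.OrthFrameThree
import Cfsg.Agent.Lib.Helper5.OrthBridge

set_option autoImplicit false
open Cfsg

namespace Cfsg.Agent.S5695

/-- Let F be a finite field with q elements, n ≥ 13 even, Q a non-degenerate quadratic form on F^n of minus type (no subspace of dimension n/2 is totally singular), and Ω the commutator subgroup of the isometry group of Q, viewed inside GL_n(F). Suppose q = 3 and let D be a decomposition of F^n into t ≥ 2 pairwise orthogonal, pairwise Q-isometric subspaces of equal dimension k ∈ {2, 3} on which the polar form is non-degenerate (for k = 3 the discriminant of Q is a square; for k = 2, t is odd and no member is of plus type). Then the elements of Ω permuting the members of D form a subgroup that is not maximal: some subgroup lies strictly between it and Ω. -/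
theorem result {F : Type*} [Field F] [Fintype F] {n : ℕ} (hn : 13 ≤ n) (heven : Even n) (Q : (Fin n → F) → F) (hQ : Cfsg.Geo.IsNondegenerateQuadraticForm Q) (hminus : ¬ Cfsg.Geo.IsPlusTypeOn Q ⊤) (hq : Fintype.card F = 3) {t : ℕ} (k : ℕ) (hk : k = 2 ∨ k = 3) (D : Fin t → Submodule F (Fin n → F)) (hD : Cfsg.Geo.IsOrthogonalMDecomposition Q k D) (hko : Odd k → Cfsg.Geo.HasSquareDiscriminant Q) (hke : Even k → (Odd t ∧ ∀ i, ¬ Cfsg.Geo.IsPlusTypeOn Q (D i))) : ∃ K : Subgroup (Matrix.GeneralLinearGroup (Fin n) F), Cfsg.Geo.decompositionStabilizer D ⊓ Cfsg.Geo.omegaGL Q < K ∧ K < Cfsg.Geo.omegaGL Q := by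
  have hcard : Fintype.card (Fin n) = n := Fintype.card_fin n
  have H : Cfsg.Agent.Lib.Helper5.OmegaSimple.Hyp (Cfsg.Agent.Lib.Helper5.OrthBridge.toQF Q hQ) :=
    Cfsg.Agent.Lib.Helper5.OrthBridge.hyp_toQF Q hQ (by rw [hcard]; omega)
  have hD' : Cfsg.Geo.IsOrthogonalMDecomposition
      (⇑(Cfsg.Agent.Lib.Helper5.OrthBridge.toQF Q hQ)) k D := hD
  have ht := Cfsg.Agent.Lib.Helper5.OrthFrameThree.card_blocks' hD.decomp.decomp
  rw [hcard] at ht
  have ht4 : 4 ≤ t := by
    rcases hk with rfl | rfl
    · omega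
    · omega
  have hgood : ∃ c, c ≠ 0 ∧ Cfsg.Agent.Lib.Helper5.OrthFrameThree.Good
      (Cfsg.Agent.Lib.Helper5.OrthBridge.toQF Q hQ) (D ⟨0, by omega⟩) c := by
    rcases hk with rfl | rfl
    · refine Cfsg.Agent.Lib.Helper5.OrthFrameThree.good_two
        (Q := Cfsg.Agent.Lib.Helper5.OrthBridge.toQF Q hQ) hq (D ⟨0, by omega⟩)
        (hD.decomp.decomp.finrank_eq _) (hD'.decomp.nondegenerate _) ?_
      intro w hw hQw
      by_contra hw0
      apply (hke ⟨1, rfl⟩).2 ⟨0, by omega⟩
      refine ⟨Submodule.span F {w}, ?_, ?_, ?_⟩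
      · rw [Submodule.span_le]
        intro x hx
        rw [Set.mem_singleton_iff] at hx
        rw [hx]; exact hw
      · intro x hx
        obtain ⟨a, rfl⟩ := Submodule.mem_span_singleton.mp hx
        have := QuadraticMap.map_smul (Cfsg.Agent.Lib.Helper5.OrthBridge.toQF Q hQ) a w
        rw [hQw, smul_zero] at this
        exact this
      · rw [finrank_span_singleton hw0, hD.decomp.decomp.finrank_eq]
    · exact Cfsg.Agent.Lib.Helper5.OrthFrameThree.good_three
        (Q := Cfsg.Agent.Lib.Helper5.OrthBridge.toQF Q hQ) hq (D ⟨0, by omega⟩)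
        (hD.decomp.decomp.finrank_eq _) (hD'.decomp.nondegenerate _)
  obtain ⟨c, hc, hgood⟩ := hgood
  have key := Cfsg.Agent.Lib.Helper5.OrthFrameThree.not_maximal_main H hq hD' ht4 hc hgood
  exact key

end Cfsg.Agent.S5695
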