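import Cfsg.Statements.S5702
import Cfsg.Agent.Lib.Helper6.OqsJ
import Cfsg.Agent.Lib.Helper8.Osq11
import Cfsg.Agent.Lib.Helper5.OrthBridge

set_option autoImplicit false
open Cfsg

namespace Cfsg.Agent.S5702

/-- Let F be a finite field with q elements, n ≥ 13 even, Q a non-degenerate quadratic form on F^n (of either type), and Ω the commutator subgroup of the isometry group of Q, viewed inside GL_n(F). Let F₀ be a subfield with |F| = |F₀| ^ r for a prime r, ζ a non-zero scalar and P an invertible matrix such that ζ·Q takes values in F₀ on the F₀-span of the columns of P. Then the elements of Ω lying in the subfield group of P (the conjugate by P of the product of GL_n(F₀) with the scalars) form a maximal subgroup of Ω. -/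
theorem result {F : Type*} [Field F] [Fintype F] {n : ℕ} (hn : 13 ≤ n) (heven : Even n) (Q : (Fin n → F) → F) (hQ : Cfsg.Geo.IsNondegenerateQuadraticForm Q) (F₀ : Subfield F) (r : ℕ) (hr : r.Prime) (hcard : Fintype.card F = Nat.card F₀ ^ r) (P : Matrix.GeneralLinearGroup (Fin n) F) (ζ : F) (hζ : ζ ≠ 0) (hP : Cfsg.Geo.IsQuadFormRationalStructure (fun v : Fin n → F => ζ * Q v) F₀ P) : Cfsg.Geo.IsMaximalIn (Cfsg.Geo.omegaGL Q) (Cfsg.Geo.subfieldSubgroup F₀ P ⊓ Cfsg.Geo.omegaGL Q) := by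
  classical
  obtain ⟨Q1, hQ1⟩ : ∃ Q1 : QuadraticForm F (Fin n → F),
      Q1 = Cfsg.Agent.Lib.Helper5.OrthBridge.toQF Q hQ := ⟨_, rfl⟩
  have hnd1 : (QuadraticMap.polarBilin Q1).Nondegenerate := by
    rw [hQ1]; exact Cfsg.Agent.Lib.Helper5.OrthBridge.toQF_nondegenerate Q hQ
  have hcoe1 : ⇑Q1 = Q := by rw [hQ1]; rfl
  have hnd2 := Cfsg.Agent.Lib.Helper6.Oqs.nondeg_smul Q1 hnd1 hζ
  have hcoe2 : ⇑(ζ • Q1) = fun v => ζ * Q v := by
    funext v
    rw [_root_.smul_apply, hcoe1, smul_eq_mul]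
  have hΩ : Cfsg.Geo.omegaGL ⇑(ζ • Q1) = Cfsg.Geo.omegaGL Q := by
    rw [hcoe2]; exact Cfsg.Agent.Lib.Helper6.Oqs.omegaGL_smul' Q hζ
  rw [← hΩ]
  by_cases h2 : (2 : F) = 0
  · apply Cfsg.Agent.Lib.Helper6.Oqs.isMaximalIn_even_P h2 hnd2 hn P _ r hr hcard
    intro u hu
    rw [hcoe2]
    exact hP u hu
  · have R : Cfsg.Agent.Lib.Helper8.Osq.RatStr (ζ • Q1) F₀ P := by
      refine ⟨h2, fun v hv => hnd2.1 v (fun w => hv w), ?_⟩
      intro v hv
      obtain ⟨u, hu, rfl⟩ := hv.exists_eq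
      rw [hcoe2]
      exact hP u hu
    have Hy := Cfsg.Agent.Lib.Helper5.OrthBridge.hyp_of_nondeg hnd2
      (by rw [Fintype.card_fin]; omega)
    exact Cfsg.Agent.Lib.Helper8.Osq.isMaximalIn_subfield R Hy
      (by rw [Fintype.card_fin]; omega) r hr hcard

end Cfsg.Agent.S5702
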