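import Cfsg.Statements.S5713
import Cfsg.Agent.S3681
import Cfsg.Agent.Lib.Helper7.Bochert1

set_option autoImplicit false
open Cfsg

namespace Cfsg.Agent.S5713

open Cfsg.Agent.Lib.Helper7

/-- A classification-free minimal-degree bound. Let G be a finite group acting faithfully and primitively on a finite set Ω with n elements, and suppose that the image of G in the symmetric group on Ω does not contain the alternating group on Ω. Then every non-identity element of G moves at least (√n − 1)/2 points of Ω, that is, it fixes at most n − (√n − 1)/2 points. -/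
theorem result {G Ω : Type*} [Group G] [Finite G] [MulAction G Ω] [FaithfulSMul G Ω] [Fintype Ω] [DecidableEq Ω]
    (hprim : MulAction.IsPreprimitive G Ω)
    (hA : ¬ alternatingGroup Ω ≤ (MulAction.toPermHom G Ω).range)
    (g : G) (hg : g ≠ 1) :
    (Real.sqrt (Fintype.card Ω) - 1) / 2 ≤ (Fintype.card Ω : ℝ) - Nat.card (MulAction.fixedBy Ω g) := by
  have hprimH : MulAction.IsPreprimitive (MulAction.toPermHom G Ω).range Ω := by
    have := hprim
    let φ : G → (MulAction.toPermHom G Ω).range :=
      fun g => ⟨MulAction.toPermHom G Ω g, ⟨g, rfl⟩⟩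
    let f : Ω →ₑ[φ] Ω := { toFun := id, map_smul' := fun g a => rfl }
    exact MulAction.IsPreprimitive.of_surjective (f := f) Function.surjective_id
  obtain ⟨α, hα⟩ : ∃ α : Ω, g • α ≠ α := by
    by_contra hcon
    apply hg
    apply eq_of_smul_eq_smul (α := Ω)
    intro a
    rw [one_smul]
    by_contra h
    exact hcon ⟨a, h⟩
  refine bb_min_degree_real hprim ?_ g hα
  intro x y hcard
  obtain ⟨ω, hω⟩ := Finset.card_eq_one.mp hcard
  obtain ⟨hωmem, huniq⟩ := Finset.eq_singleton_iff_unique_mem.mp hω
  rw [mem_boMv_inter] at hωmem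
  have hdisj : ∀ a, a ≠ ω →
      (MulAction.toPerm x : Equiv.Perm Ω) a = a ∨ (MulAction.toPerm y : Equiv.Perm Ω) a = a := by
    intro a ha
    by_contra hcon
    obtain ⟨h1, h2⟩ := not_or.mp hcon
    exact ha (huniq a (mem_boMv_inter.mpr ⟨h1, h2⟩))
  have h3 := Cfsg.Agent.S3681.isThreeCycle_comm (MulAction.toPerm x : Equiv.Perm Ω)
    (MulAction.toPerm y) ω hωmem.1 hωmem.2 hdisj
  have hmem : (MulAction.toPerm x : Equiv.Perm Ω) * MulAction.toPerm y * (MulAction.toPerm x)⁻¹
      * (MulAction.toPerm y)⁻¹ ∈ (MulAction.toPermHom G Ω).range := by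
    refine ⟨x * y * x⁻¹ * y⁻¹, ?_⟩
    simp only [map_mul, map_inv, MulAction.toPermHom_apply]
  exact hA (Equiv.Perm.alternatingGroup_le_of_isPreprimitive_of_isThreeCycle_mem hprimH h3 hmem)

end Cfsg.Agent.S5713
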