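import Mathlib
import Cfsg.Statements.S5726

set_option autoImplicit false
open Cfsg

namespace Cfsg.Agent.S5726

open MulAction

/-- A Sylow `p`-subgroup is transitive on a transitive `G`-set of `p`-power size. -/
theorem sylow_orbit_eq_univ {G Ω : Type*} [Group G] [Finite G] [MulAction G Ω] [Fintype Ω]
    (htr : MulAction.IsPretransitive G Ω) (p k : ℕ) [hp : Fact p.Prime]
    (hΩ : Fintype.card Ω = p ^ k) (P : Sylow p G) (ω : Ω) :
    orbit (P : Subgroup G) ω = Set.univ := by
  classical
  have hpp := hp.out
  -- |G| = |S| * p^k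
  have hidx : (stabilizer G ω).index = p ^ k := by
    rw [index_stabilizer_of_transitive, Nat.card_eq_fintype_card, hΩ]
  have hG : Nat.card (stabilizer G ω) * p ^ k = Nat.card G := by
    rw [← hidx]; exact Subgroup.card_mul_index _
  have hSpos : Nat.card (stabilizer G ω) ≠ 0 := Nat.card_pos.ne'
  have hfact : (Nat.card G).factorization p = (Nat.card (stabilizer G ω)).factorization p + k := by
    rw [← hG, Nat.factorization_mul hSpos (pow_pos hpp.pos k).ne', Finsupp.add_apply,
      Nat.Prime.factorization_pow hpp, Finsupp.single_eq_same]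
  -- stabiliser in P
  have hPωp : IsPGroup p (stabilizer (P : Subgroup G) ω) := P.2.to_subgroup _
  obtain ⟨b, hb⟩ := IsPGroup.iff_card.mp hPωp
  -- Pω embeds in the stabiliser
  let f : stabilizer (P : Subgroup G) ω →* stabilizer G ω :=
    { toFun := fun x => ⟨((x : (P : Subgroup G)) : G), by
        rw [mem_stabilizer_iff]
        exact mem_stabilizer_iff.mp x.2⟩
      map_one' := rfl
      map_mul' := fun _ _ => rfl }
  have hf : Function.Injective f := by
    intro x y h
    have := congrArg (fun t : stabilizer G ω => (t : G)) h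
    exact Subtype.ext (Subtype.ext this)
  have hdvd : p ^ b ∣ Nat.card (stabilizer G ω) := by
    rw [← hb]
    exact Subgroup.card_dvd_of_injective f hf
  have hble : b ≤ (Nat.card (stabilizer G ω)).factorization p :=
    (Nat.Prime.pow_dvd_iff_le_factorization hpp hSpos).mp hdvd
  -- |P| = p^a
  have hPcard : Nat.card (P : Subgroup G) = p ^ ((Nat.card G).factorization p) :=
    Sylow.card_eq_multiplicity P
  -- orbit size
  have horb : (stabilizer (P : Subgroup G) ω).index = (orbit (P : Subgroup G) ω).ncard :=
    index_stabilizer _ ω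
  have hmul : Nat.card (stabilizer (P : Subgroup G) ω) * (stabilizer (P : Subgroup G) ω).index
      = Nat.card (P : Subgroup G) := Subgroup.card_mul_index _
  rw [hb, hPcard, hfact] at hmul
  have hidx2 : p ^ k ≤ (stabilizer (P : Subgroup G) ω).index := by
    have h1 : p ^ b * (stabilizer (P : Subgroup G) ω).index
        = p ^ b * (p ^ ((Nat.card (stabilizer G ω)).factorization p - b) * p ^ k) := by
      rw [hmul, ← mul_assoc, ← pow_add, ← pow_add]
      congr 1
      omega
    have h2 := Nat.eq_of_mul_eq_mul_left (pow_pos hpp.pos b) h1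
    rw [h2]
    exact Nat.le_mul_of_pos_left _ (pow_pos hpp.pos _)
  rw [horb] at hidx2
  -- orbit is everything
  rw [Set.eq_univ_iff_ncard, Nat.card_eq_fintype_card, hΩ]
  have := Set.ncard_le_card (orbit (P : Subgroup G) ω)
  rw [Nat.card_eq_fintype_card, hΩ] at this
  omega

/-- If a finite group acts faithfully and transitively on a set with p^k elements, p a prime and k ≥ 1, then some element of order p fixes no point. -/
theorem result {G Ω : Type*} [Group G] [Finite G] [MulAction G Ω] [FaithfulSMul G Ω] [Fintype Ω] (htr : MulAction.IsPretransitive G Ω)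
    (p k : ℕ) (hp : p.Prime) (hk : 1 ≤ k) (hΩ : Fintype.card Ω = p ^ k) :
    ∃ g : G, orderOf g = p ∧ ∀ ω : Ω, g • ω ≠ ω := by
  have : Fact p.Prime := ⟨hp⟩
  obtain ⟨P⟩ : Nonempty (Sylow p G) := inferInstance
  -- Ω nonempty
  have hΩpos : 0 < Fintype.card Ω := by rw [hΩ]; exact pow_pos hp.pos k
  obtain ⟨ω₀⟩ : Nonempty Ω := Fintype.card_pos_iff.mp hΩpos
  -- p divides |G|
  have hdvdG : p ∣ Nat.card G := by
    have hidx : (stabilizer G ω₀).index = p ^ k := by
      rw [index_stabilizer_of_transitive, Nat.card_eq_fintype_card, hΩ]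
    have h1 : (stabilizer G ω₀).index ∣ Nat.card G := Subgroup.index_dvd_card _
    rw [hidx] at h1
    exact (dvd_pow_self p (by omega)).trans h1
  have hPnt : Nontrivial (P : Subgroup G) := by
    have hcard := Sylow.card_eq_multiplicity P
    have hpos : 0 < (Nat.card G).factorization p :=
      Nat.Prime.factorization_pos_of_dvd hp Nat.card_pos.ne' hdvdG
    have : 1 < Nat.card (P : Subgroup G) := by
      rw [hcard]
      exact Nat.one_lt_pow hpos.ne' hp.one_lt
    exact Finite.one_lt_card_iff_nontrivial.mp this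
  have hcn : Nontrivial (Subgroup.center (P : Subgroup G)) := P.2.center_nontrivial
  have hpg : IsPGroup p (Subgroup.center (P : Subgroup G)) := P.2.to_subgroup _
  obtain ⟨m, hm⟩ := IsPGroup.iff_card.mp hpg
  have hm0 : m ≠ 0 := by
    intro h0
    rw [h0, pow_zero] at hm
    have := Finite.one_lt_card_iff_nontrivial.mpr hcn
    omega
  have hdvd : p ∣ Nat.card (Subgroup.center (P : Subgroup G)) := by
    rw [hm]; exact dvd_pow_self p hm0
  obtain ⟨z, hz⟩ := exists_prime_orderOf_dvd_card' p hdvd
  have hzG : orderOf (((z : (P : Subgroup G)) : G)) = p := by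
    rw [Subgroup.orderOf_coe, Subgroup.orderOf_coe]; exact hz
  refine ⟨((z : (P : Subgroup G)) : G), hzG, ?_⟩
  intro ω hfix
  -- z fixes everything
  have hall : ∀ ω' : Ω, ((z : (P : Subgroup G)) : G) • ω' = ω' := by
    intro ω'
    have hmem : ω' ∈ orbit (P : Subgroup G) ω := by
      rw [sylow_orbit_eq_univ htr p k hΩ P ω]; exact Set.mem_univ _
    obtain ⟨y, rfl⟩ := hmem
    have hcomm : (z : (P : Subgroup G)) * y = y * (z : (P : Subgroup G)) :=
      (Subgroup.mem_center_iff.mp z.2 y).symm
    show ((z : (P : Subgroup G)) : G) • ((y : G) • ω) = (y : G) • ω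
    rw [smul_smul]
    have hc' : ((z : (P : Subgroup G)) : G) * (y : G) = (y : G) * ((z : (P : Subgroup G)) : G) :=
      congrArg Subtype.val hcomm
    rw [hc', ← smul_smul, hfix]
  have h1 : ((z : (P : Subgroup G)) : G) = 1 := by
    apply FaithfulSMul.eq_of_smul_eq_smul (α := Ω)
    intro ω'
    rw [hall ω', one_smul]
  rw [h1, orderOf_one] at hzG
  exact hp.one_lt.ne' hzG.symm

end Cfsg.Agent.S5726
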