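import Cfsg.Statements.S5727
import Mathlib.Tactic

set_option autoImplicit false
open Cfsg

namespace Cfsg.Agent.S5727

open MulAction

lemma lemB {Q Ω : Type*} [Group Q] [Finite Q] [MulAction Q Ω] [FaithfulSMul Q Ω]
    [IsPretransitive Q Ω] [Nontrivial Q] (p : ℕ) [hp : Fact p.Prime] (hQ : IsPGroup p Q) :
    ∃ x : Q, orderOf x = p ∧ ∀ ω : Ω, x • ω ≠ ω := by
  haveI := hQ.center_nontrivial
  have hc : p ∣ Nat.card (Subgroup.center Q) := by
    obtain ⟨n, hn⟩ := (IsPGroup.iff_card).mp (hQ.to_subgroup (Subgroup.center Q))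
    have h1 : 1 < Nat.card (Subgroup.center Q) := Finite.one_lt_card
    rw [hn] at h1 ⊢
    cases n with
    | zero => simp at h1
    | succ k => exact dvd_pow_self p (Nat.succ_ne_zero k)
  obtain ⟨z, hz⟩ := exists_prime_orderOf_dvd_card' p hc
  have hzo : orderOf (z : Q) = p := by rw [Subgroup.orderOf_coe]; exact hz
  refine ⟨(z : Q), hzo, ?_⟩
  intro ω hω
  have hall : ∀ ω' : Ω, (z : Q) • ω' = ω' := by
    intro ω'
    obtain ⟨g, rfl⟩ := exists_smul_eq Q ω ω'
    rw [smul_smul, ← Subgroup.mem_center_iff.mp z.2 g, ← smul_smul, hω]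
  have h1 : (z : Q) = 1 := FaithfulSMul.eq_of_smul_eq_smul (α := Ω) (by
    intro a; rw [hall a, one_smul])
  rw [h1, orderOf_one] at hzo
  exact hp.out.one_lt.ne hzo

lemma lemA {Q Ω : Type*} [Group Q] [Finite Q] [MulAction Q Ω] [Fintype Ω]
    (p m : ℕ) [hp : Fact p.Prime] (hQ : IsPGroup p Q)
    (horb : ∀ ω : Ω, Nat.card (orbit Q ω) = p) (hΩ : Fintype.card Ω = (m + 1) * p)
    (hmp : m + 1 ≤ p) :
    ∃ x : Q, (∀ ω : Ω, x • ω ≠ ω) ∧ ∀ ω : Ω, x ^ p • ω = ω := by
  classical
  haveI := Fintype.ofFinite Q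
  have hidx : ∀ ω : Ω, (stabilizer Q ω).index = p := fun ω => by
    rw [index_stabilizer, ← Nat.card_coe_set_eq, horb]
  have hQne : Nat.card Q ≠ 1 := by
    intro h1
    obtain ⟨ω⟩ : Nonempty Ω := by
      rw [← Fintype.card_pos_iff, hΩ]; exact Nat.mul_pos (Nat.succ_pos _) hp.out.pos
    have := (stabilizer Q ω).index_dvd_card
    rw [hidx, h1] at this
    exact hp.out.one_lt.ne' (Nat.eq_one_of_dvd_one this)
  have hminFac : (Nat.card Q).minFac = p := by
    obtain ⟨n, hn⟩ := (IsPGroup.iff_card).mp hQ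
    rw [hn]
    apply hp.out.pow_minFac
    rintro rfl
    exact hQne (by simpa using hn)
  have hnorm : ∀ ω : Ω, (stabilizer Q ω).Normal := fun ω =>
    Subgroup.normal_of_index_eq_minFac_card (by rw [hidx, hminFac])
  have hcard : ∀ ω : Ω, Nat.card (stabilizer Q ω) * p = Nat.card Q := by
    intro ω; rw [← hidx ω]; exact Subgroup.card_mul_index _
  have hpow : ∀ (x : Q) (ω : Ω), x ^ p • ω = ω := by
    intro x ω
    haveI := hnorm ω
    have := Subgroup.pow_index_mem (stabilizer Q ω) x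
    rw [hidx] at this; exact this
  by_contra hcon
  push Not at hcon
  have hfix : ∀ x : Q, ∃ ω : Ω, x • ω = ω := by
    intro x; by_contra h; push Not at h
    obtain ⟨ω, hω⟩ := hcon x h
    exact hω (hpow x ω)
  -- double count
  have hsum : ∑ x : Q, (Finset.univ.filter (fun ω : Ω => x • ω = ω)).card
      = ∑ ω : Ω, (Finset.univ.filter (fun x : Q => x • ω = ω)).card := by
    simp only [Finset.card_filter]
    exact Finset.sum_comm
  obtain ⟨ω₀⟩ : Nonempty Ω := by
    rw [← Fintype.card_pos_iff, hΩ]; exact Nat.mul_pos (Nat.succ_pos _) hp.out.pos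
  set s := Nat.card (stabilizer Q ω₀) with hs
  have hscard : ∀ ω : Ω, Nat.card (stabilizer Q ω) = s := by
    intro ω
    have h1 := hcard ω
    have h2 := hcard ω₀
    exact Nat.eq_of_mul_eq_mul_right hp.out.pos (h1.trans h2.symm)
  have hrhs : ∑ ω : Ω, (Finset.univ.filter (fun x : Q => x • ω = ω)).card = (m + 1) * p * s := by
    have : ∀ ω : Ω, (Finset.univ.filter (fun x : Q => x • ω = ω)).card = s := by
      intro ω
      rw [← hscard ω, Nat.card_eq_fintype_card, Fintype.card_subtype]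
      rfl
    rw [Finset.sum_congr rfl (fun ω _ => this ω), Finset.sum_const, Finset.card_univ, hΩ,
      smul_eq_mul]
  have hlhs : Fintype.card Q * p + m * p
      ≤ ∑ x : Q, (Finset.univ.filter (fun ω : Ω => x • ω = ω)).card := by
    have h1 : ∑ x : Q, (p + if x = 1 then m * p else 0) = Fintype.card Q * p + m * p := by
      rw [Finset.sum_add_distrib, Finset.sum_const, Finset.card_univ, smul_eq_mul,
        Finset.sum_ite_eq' Finset.univ (1 : Q)]
      simp
    rw [← h1]
    apply Finset.sum_le_sum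
    intro x _
    by_cases hx : x = 1
    · subst hx
      simp only [one_smul, Finset.filter_true, Finset.card_univ, if_true, hΩ]
      nlinarith
    · rw [if_neg hx, add_zero]
      obtain ⟨ω, hω⟩ := hfix x
      have hsub : orbit Q ω ⊆ ((Finset.univ.filter (fun ω : Ω => x • ω = ω) : Finset Ω) : Set Ω) := by
        rintro _ ⟨g, rfl⟩
        simp only [Finset.coe_filter, Finset.mem_univ, true_and, Set.mem_ofPred_eq]
        have hmem : g⁻¹ * x * g ∈ stabilizer Q ω := by
          have := (hnorm ω).conj_mem x hω g⁻¹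
          simpa using this
        have : (g⁻¹ * x * g) • ω = ω := hmem
        calc x • g • ω = g • (g⁻¹ * x * g) • ω := by
              simp only [smul_smul]; congr 1; group
          _ = g • ω := by rw [this]
      have := Set.ncard_le_ncard hsub (Finset.finite_toSet _)
      rw [Set.ncard_coe_finset, ← Nat.card_coe_set_eq, horb] at this
      exact this
  rw [hsum, hrhs] at hlhs
  have hQs : Fintype.card Q = s * p := by
    rw [← Nat.card_eq_fintype_card, ← hcard ω₀]
  rw [hQs] at hlhs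
  have hp2 : 2 ≤ p := hp.out.two_le
  have hs1 : 1 ≤ s := Nat.card_pos
  -- s*p*p + m*p ≤ (m+1)*p*s
  have h3 : s * p + m ≤ (m + 1) * s := by
    have : (s * p + m) * p ≤ ((m + 1) * s) * p := by nlinarith
    exact Nat.le_of_mul_le_mul_right this hp.out.pos
  have h4 : (m + 1) * s ≤ p * s := Nat.mul_le_mul_right s hmp
  have hm0 : m = 0 := by nlinarith
  subst hm0
  nlinarith

theorem result {G Ω : Type*} [Group G] [Finite G] [MulAction G Ω] [FaithfulSMul G Ω] [Fintype Ω] (htr : MulAction.IsPretransitive G Ω)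
    (p m : ℕ) (hp : p.Prime) (hm : 1 ≤ m) (hmp : m ≤ p) (hΩ : Fintype.card Ω = m * p) :
    ∃ g : G, orderOf g = p ∧ ∀ ω : Ω, g • ω ≠ ω := by
  classical
  haveI : Fact p.Prime := ⟨hp⟩
  obtain ⟨P⟩ := (inferInstance : Nonempty (Sylow p G))
  obtain ⟨m', rfl⟩ : ∃ m', m = m' + 1 := ⟨m - 1, by omega⟩
  have hP : IsPGroup p (P : Subgroup G) := P.isPGroup'
  -- P fixes no point
  have hnofix : ∀ ω : Ω, ∃ g : (P : Subgroup G), g • ω ≠ ω := by
    intro ω
    by_contra h
    push Not at h
    have hle : (P : Subgroup G) ≤ stabilizer G ω := fun g hg => h ⟨g, hg⟩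
    have h1 := Subgroup.index_dvd_of_le hle
    rw [index_stabilizer_of_transitive, Nat.card_eq_fintype_card, hΩ] at h1
    exact P.not_dvd_index ((dvd_mul_left p _).trans h1)
  -- orbit sizes
  have horb : ∀ ω : Ω, Nat.card (orbit (P : Subgroup G) ω) = p ∨
      orbit (P : Subgroup G) ω = Set.univ := by
    intro ω
    obtain ⟨n, hn⟩ := hP.card_orbit ω
    have hle : Nat.card (orbit (P : Subgroup G) ω) ≤ (m' + 1) * p := by
      rw [← hΩ, ← Nat.card_eq_fintype_card]
      exact Nat.card_le_card_of_injective _ Subtype.val_injective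
    rcases n with _ | _ | n
    · exfalso
      obtain ⟨g, hg⟩ := hnofix ω
      rw [pow_zero] at hn
      haveI : Subsingleton (orbit (P : Subgroup G) ω) := (Nat.card_eq_one_iff_unique.mp hn).1
      have := Subsingleton.elim (⟨g • ω, mem_orbit _ _⟩ : orbit (P : Subgroup G) ω)
        ⟨ω, mem_orbit_self _⟩
      exact hg (Subtype.ext_iff.mp this)
    · left; simpa using hn
    · right
      have hpp : p ^ 2 ≤ p ^ (n + 1 + 1) := Nat.pow_le_pow_right hp.pos (by omega)
      have h2 : (m' + 1) * p ≤ p * p := Nat.mul_le_mul_right p hmp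
      have heq : Nat.card (orbit (P : Subgroup G) ω) = Fintype.card Ω := by
        rw [hΩ]; rw [hn] at hle ⊢; nlinarith
      rw [Nat.card_coe_set_eq, ← Nat.card_eq_fintype_card, ← Set.ncard_univ] at heq
      exact Set.eq_of_subset_of_ncard_le (Set.subset_univ _) heq.ge Set.finite_univ
  by_cases hB : ∃ ω : Ω, orbit (P : Subgroup G) ω = Set.univ
  · obtain ⟨ω, hω⟩ := hB
    haveI : IsPretransitive (P : Subgroup G) Ω := by
      rw [isPretransitive_iff_base ω]  
      intro y
      have : y ∈ orbit (P : Subgroup G) ω := hω ▸ Set.mem_univ y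
      exact this
    haveI : Nontrivial (P : Subgroup G) := by
      obtain ⟨g, hg⟩ := hnofix ω
      exact ⟨⟨g, 1, fun h => hg (by rw [h, one_smul])⟩⟩
    obtain ⟨x, hx, hfpf⟩ := lemB (Q := (P : Subgroup G)) (Ω := Ω) p hP
    exact ⟨(x : G), by rw [Subgroup.orderOf_coe]; exact hx, fun ω => hfpf ω⟩
  · push Not at hB
    have horb' : ∀ ω : Ω, Nat.card (orbit (P : Subgroup G) ω) = p := fun ω =>
      (horb ω).resolve_right (hB ω)
    obtain ⟨x, hfpf, hxp⟩ := lemA (Q := (P : Subgroup G)) (Ω := Ω) p m' hP horb' hΩ hmp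
    refine ⟨(x : G), ?_, fun ω => hfpf ω⟩
    have h1 : x ^ p = 1 := FaithfulSMul.eq_of_smul_eq_smul (α := Ω) (by
      intro a; rw [hxp a, one_smul])
    have hne : x ≠ 1 := by
      rintro rfl
      obtain ⟨ω⟩ : Nonempty Ω := by
        rw [← Fintype.card_pos_iff, hΩ]; exact Nat.mul_pos (Nat.succ_pos _) hp.pos
      exact hfpf ω (one_smul _ _)
    rw [Subgroup.orderOf_coe]
    exact orderOf_eq_prime h1 hne

end Cfsg.Agent.S5727
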