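import Mathlib
import Cfsg.Statements.S5728

set_option autoImplicit false
open Cfsg

namespace Cfsg.Agent.S5728

open Polynomial

/-- Elements fixed by Frobenius lie in the prime field. -/
theorem mem_range_of_pow_eq {p : ℕ} [Fact p.Prime] {K : Type*} [Field K] [Algebra (ZMod p) K]
    (z : K) (hz : z ^ p = z) : ∃ c : ZMod p, algebraMap (ZMod p) K c = z := by
  classical
  have hp : p.Prime := Fact.out
  set f : K[X] := X ^ p - X with hf
  have hf0 : f ≠ 0 := FiniteField.X_pow_card_sub_X_ne_zero K hp.one_lt
  have hdeg : f.natDegree = p := FiniteField.X_pow_card_sub_X_natDegree_eq K hp.one_lt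
  set S : Finset K := Finset.univ.image (algebraMap (ZMod p) K) with hS
  have hScard : S.card = p := by
    rw [hS, Finset.card_image_of_injective _ (algebraMap (ZMod p) K).injective, Finset.card_univ,
      ZMod.card]
  have hsub : S ⊆ f.roots.toFinset := by
    intro y hy
    rw [hS, Finset.mem_image] at hy
    obtain ⟨c, -, rfl⟩ := hy
    rw [Multiset.mem_toFinset, mem_roots hf0, IsRoot, hf, eval_sub, eval_pow, eval_X, ← map_pow,
      ZMod.pow_card, sub_self]
  have hle : f.roots.toFinset.card ≤ S.card := by
    rw [hScard, ← hdeg]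
    exact (Multiset.toFinset_card_le _).trans (card_roots' f)
  have heq := Finset.eq_of_subset_of_card_le hsub hle
  have hzr : z ∈ f.roots.toFinset := by
    rw [Multiset.mem_toFinset, mem_roots hf0, IsRoot, hf, eval_sub, eval_pow, eval_X, hz, sub_self]
  rw [← heq, hS, Finset.mem_image] at hzr
  obtain ⟨c, -, hc⟩ := hzr
  exact ⟨c, hc⟩

/-- An affine permutation. -/
def aff {K : Type*} [Field K] (u : Kˣ) (v : K) : Equiv.Perm K where
  toFun y := u * y + v
  invFun y := (u⁻¹ : Kˣ) * (y - v)
  left_inv y := by simp
  right_inv y := by simp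

theorem aff_mem {K : Type*} [Field K] (u : Kˣ) (v : K) : aff u v ∈ Cfsg.affineGroup K :=
  ⟨u, v, fun _ => rfl⟩

/-- The general statement over a field with `p²` elements. -/
theorem main (p s : ℕ) [Fact p.Prime] (hs : p = 2 ^ s - 1) {K : Type*} [Field K] [Fintype K]
    [Algebra (ZMod p) K] (hcard : Fintype.card K = p ^ 2)
    (g : Equiv.Perm K) (hg : g ∈ Cfsg.affineGroup K) (hord : (orderOf g).Prime) :
    ∃ x ∈ Cfsg.affineGroup K, ∃ a b : ZMod p, a ≠ 0 ∧
      ∀ y : K, (x * g * x⁻¹) y = algebraMap (ZMod p) K a * y + algebraMap (ZMod p) K b := by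
  classical
  have hp : p.Prime := Fact.out
  obtain ⟨a, b, hgab⟩ := hg
  by_cases ha : (a : K) = 1
  · -- translation
    have hb : b ≠ 0 := by
      intro hb
      have : g = 1 := by
        ext y
        rw [hgab, ha, hb]; simp
      rw [this, orderOf_one] at hord
      exact Nat.not_prime_one hord
    refine ⟨aff (Units.mk0 b⁻¹ (inv_ne_zero hb)) 0, aff_mem _ _, 1, 1, one_ne_zero, ?_⟩
    intro y
    have h1 : (aff (Units.mk0 b⁻¹ (inv_ne_zero hb)) 0)⁻¹ y = b * y := by
      change ((Units.mk0 b⁻¹ (inv_ne_zero hb))⁻¹ : Kˣ) * (y - 0) = b * y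
      simp
    rw [Equiv.Perm.mul_apply, Equiv.Perm.mul_apply, h1, hgab, ha]
    change (b⁻¹ : K) * (1 * (b * y) + b) + 0 = _
    rw [map_one]
    field_simp
    ring
  · -- fixed point
    have h1a : (1 : K) - a ≠ 0 := fun h => ha (sub_eq_zero.mp h).symm
    set c : K := b / (1 - a) with hc
    have hcfix : (a : K) * c + b = c := by
      rw [hc]; field_simp; ring
    set x : Equiv.Perm K := aff 1 (-c) with hx
    have hxinv : ∀ y, x⁻¹ y = y + c := by
      intro y
      change ((1 : Kˣ)⁻¹ : Kˣ) * (y - (-c)) = y + c
      simp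
    have hconj : ∀ y, (x * g * x⁻¹) y = a * y := by
      intro y
      rw [Equiv.Perm.mul_apply, Equiv.Perm.mul_apply, hxinv, hgab]
      change ((1 : Kˣ) : K) * ((a : K) * (y + c) + b) + (-c) = a * y
      rw [Units.val_one, one_mul]
      linear_combination hcfix
    -- order of a
    have hpow : ∀ k : ℕ, ∀ y, ((x * g * x⁻¹) ^ k) y = (a : K) ^ k * y := by
      intro k
      induction k with
      | zero => intro y; simp
      | succ k ih =>
        intro y
        rw [pow_succ, Equiv.Perm.mul_apply, hconj, ih, pow_succ]; ring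
    have hconjpow : (x * g * x⁻¹) ^ orderOf g = 1 := by
      rw [conj_pow, pow_orderOf_eq_one]; group
    have har : (a : K) ^ orderOf g = 1 := by
      have := hpow (orderOf g) 1
      rw [hconjpow, mul_one] at this
      exact this.symm
    have ha0 : (a : K) ≠ 0 := a.ne_zero
    have hfull : (a : K) ^ (p ^ 2 - 1) = 1 := by
      rw [← hcard]
      exact FiniteField.pow_card_sub_one_eq_one _ ha0
    have hora : orderOf (a : K) = orderOf g := by
      have : Fact (orderOf g).Prime := ⟨hord⟩
      exact orderOf_eq_prime har ha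
    have hdvd : orderOf g ∣ p ^ 2 - 1 := by
      rw [← hora]; exact orderOf_dvd_of_pow_eq_one hfull
    have hp1 : 1 ≤ p := hp.one_lt.le
    have hfac : p ^ 2 - 1 = (p - 1) * 2 ^ s := by
      have h2s : 2 ^ s = p + 1 := by
        have : 1 ≤ 2 ^ s := Nat.one_le_two_pow
        omega
      rw [h2s]
      zify [hp1, Nat.one_le_pow 2 p hp1]
      ring
    rw [hfac] at hdvd
    -- a lies in the prime field
    have hmem : ∃ c' : ZMod p, algebraMap (ZMod p) K c' = a := by
      rcases (Nat.Prime.dvd_mul hord).mp hdvd with h | h
      · apply mem_range_of_pow_eq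
        obtain ⟨m, hm⟩ := h
        have : (a : K) ^ (p - 1) = 1 := by rw [hm, pow_mul, har, one_pow]
        calc (a : K) ^ p = (a : K) ^ (p - 1) * a := by
              rw [← pow_succ]; congr 1; omega
          _ = a := by rw [this, one_mul]
      · have h2 : orderOf g = 2 := by
          have := (Nat.Prime.dvd_of_dvd_pow hord h)
          exact (Nat.prime_dvd_prime_iff_eq hord Nat.prime_two).mp this
        rw [h2] at har
        have : ((a : K) - 1) * ((a : K) + 1) = 0 := by
          have : ((a : K) - 1) * ((a : K) + 1) = (a : K) ^ 2 - 1 := by ring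
          rw [this, har, sub_self]
        rcases mul_eq_zero.mp this with h' | h'
        · exact absurd (sub_eq_zero.mp h') ha
        · refine ⟨-1, ?_⟩
          rw [map_neg, map_one]
          exact (eq_neg_of_add_eq_zero_left h').symm
    obtain ⟨c', hc'⟩ := hmem
    refine ⟨x, aff_mem _ _, c', 0, ?_, ?_⟩
    · rintro rfl
      rw [map_zero] at hc'
      exact ha0 hc'.symm
    · intro y
      rw [hconj, hc', map_zero, add_zero]

/-- An elusive transitive action. Let p = 2^s − 1 be a prime and let F be the field with p² elements. Inside the group of affine maps x ↦ a·x + b of F (a ≠ 0), consider the subgroup of maps with both coefficients in the prime field. Then every element of prime order of the affine group is conjugate, within the affine group, to an element of that subgroup; equivalently, in the transitive action of the affine group on the cosets of that subgroup (of degree p(p + 1)) every element of prime order fixes a point. -/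
theorem result (p s : ℕ) [Fact p.Prime] (hs : p = 2 ^ s - 1)
    (g : Equiv.Perm (GaloisField p 2)) (hg : g ∈ Cfsg.affineGroup (GaloisField p 2)) (hord : (orderOf g).Prime) :
    ∃ x ∈ Cfsg.affineGroup (GaloisField p 2), ∃ a b : ZMod p, a ≠ 0 ∧
      ∀ y : GaloisField p 2, (x * g * x⁻¹) y = algebraMap (ZMod p) (GaloisField p 2) a * y + algebraMap (ZMod p) (GaloisField p 2) b := by
  have : Fintype (GaloisField p 2) := Fintype.ofFinite _
  have hcard : Fintype.card (GaloisField p 2) = p ^ 2 := by
    rw [← Nat.card_eq_fintype_card]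
    exact GaloisField.card p 2 (by norm_num)
  exact main p s hs hcard g hg hord

end Cfsg.Agent.S5728
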