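import Cfsg.Statements.S5729
import Mathlib.Tactic

set_option autoImplicit false
open Cfsg

namespace Cfsg.Agent.S5729

open MulAction

/-- Let a finite group G act faithfully and transitively on a set with n ≥ 3 points. Then either G is a Frobenius permutation group (Frobenius as a permutation group: transitive, some non-identity element fixes a point, and no non-identity element fixes two points) of order n(n − 1) and exactly |G|/n of its elements are derangements (fix no point), or the number of derangements is greater than |G|/n. -/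
theorem result {G Ω : Type*} [Group G] [Finite G] [MulAction G Ω] [FaithfulSMul G Ω] [Fintype Ω] (htr : MulAction.IsPretransitive G Ω) (hn : 3 ≤ Fintype.card Ω) :
    ((MulAction.IsPretransitive G Ω ∧ (∃ g : G, g ≠ 1 ∧ ∃ ω : Ω, g • ω = ω) ∧ ∀ g : G, g ≠ 1 → Nat.card (MulAction.fixedBy Ω g) ≤ 1) ∧ Nat.card G = Fintype.card Ω * (Fintype.card Ω - 1) ∧ Fintype.card Ω * Nat.card {g : G // ∀ ω : Ω, g • ω ≠ ω} = Nat.card G) ∨
    Nat.card G < Fintype.card Ω * Nat.card {g : G // ∀ ω : Ω, g • ω ≠ ω} := by
  classical
  haveI := Fintype.ofFinite G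
  set n := Fintype.card Ω with hn'
  obtain ⟨ω₀⟩ : Nonempty Ω := by
    rw [← Fintype.card_pos_iff]; omega
  let F : G → ℕ := fun g => Fintype.card (fixedBy Ω g)
  have hFle : ∀ g, F g ≤ n := fun g => Fintype.card_subtype_le _
  have hF1 : F 1 = n := by
    change Fintype.card (fixedBy Ω (1 : G)) = n
    rw [hn']
    apply Fintype.card_congr
    exact { toFun := fun x => x.1, invFun := fun x => ⟨x, one_smul _ _⟩,
            left_inv := fun x => rfl, right_inv := fun x => rfl }
  have hFn : ∀ g, F g = n → g = 1 := by
    intro g hg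
    apply FaithfulSMul.eq_of_smul_eq_smul (α := Ω)
    intro a
    rw [one_smul]
    have : (Finset.univ.filter (fun x : Ω => x ∈ fixedBy Ω g)) = Finset.univ := by
      apply Finset.eq_univ_of_card
      rw [← Fintype.card_subtype]
      exact hg
    have ha : a ∈ Finset.univ.filter (fun x : Ω => x ∈ fixedBy Ω g) := by rw [this]; exact Finset.mem_univ a
    exact (Finset.mem_filter.mp ha).2
  have hF0 : ∀ g, F g = 0 ↔ ∀ ω : Ω, g • ω ≠ ω := by
    intro g
    change Fintype.card (fixedBy Ω g) = 0 ↔ _
    rw [Fintype.card_eq_zero_iff]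
    constructor
    · intro h ω hω; exact h.false ⟨ω, hω⟩
    · intro h; exact ⟨fun x => h x.1 x.2⟩
  -- (B1)
  have hB1 : ∑ g : G, F g = Fintype.card G := by
    have h := sum_card_fixedBy_eq_card_orbits_mul_card_group G Ω
    have h1 : Fintype.card (Quotient (orbitRel G Ω)) = 1 := by
      rw [Fintype.card_eq_one_iff]
      refine ⟨Quotient.mk'' ω₀, fun q => ?_⟩
      induction q using Quotient.inductionOn' with
      | h x =>
        apply Quotient.sound'
        exact MulAction.exists_smul_eq G ω₀ x
    rw [h1, one_mul] at h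
    exact h
  -- (B2)
  have hB2 : 2 * Fintype.card G ≤ ∑ g : G, F g ^ 2 := by
    have h := sum_card_fixedBy_eq_card_orbits_mul_card_group G (Ω × Ω)
    have h1 : 2 ≤ Fintype.card (Quotient (orbitRel G (Ω × Ω))) := by
      obtain ⟨a, b, hab⟩ : ∃ a b : Ω, a ≠ b := Fintype.exists_pair_of_one_lt_card (by omega)
      have : 1 < Fintype.card (Quotient (orbitRel G (Ω × Ω))) := by
        rw [Fintype.one_lt_card_iff]
        refine ⟨Quotient.mk'' (a, a), Quotient.mk'' (a, b), ?_⟩
        intro h
        have h' := Quotient.exact' h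
        obtain ⟨g, hg⟩ := h'
        have h1 := congrArg Prod.fst hg
        have h2 := congrArg Prod.snd hg
        simp only [Prod.smul_fst, Prod.smul_snd] at h1 h2
        exact hab (smul_left_cancel g (h1.trans h2.symm))
      exact this
    have h2 : ∀ g : G, Fintype.card (fixedBy (Ω × Ω) g) = F g ^ 2 := by
      intro g
      rw [sq, ← Fintype.card_prod]
      apply Fintype.card_congr
      exact { toFun := fun x => (⟨x.1.1, congrArg Prod.fst x.2⟩, ⟨x.1.2, congrArg Prod.snd x.2⟩),
              invFun := fun y => ⟨(y.1.1, y.2.1), Prod.ext y.1.2 y.2.2⟩,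
              left_inv := fun x => rfl, right_inv := fun y => rfl }
    rw [Finset.sum_congr rfl (fun g _ => h2 g)] at h
    rw [h]
    exact Nat.mul_le_mul_right _ h1
  -- derangement count
  set D : Finset G := Finset.univ.filter (fun g => F g = 0) with hD
  have hDcard : Nat.card {g : G // ∀ ω : Ω, g • ω ≠ ω} = D.card := by
    rw [Nat.card_eq_fintype_card, Fintype.card_subtype]
    congr 1
    ext g
    simp only [Finset.mem_filter, Finset.mem_univ, true_and, hD, hF0]
  rw [hDcard, Nat.card_eq_fintype_card]
  -- per-element inequality in ℤ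
  have hterm : ∀ g : G, ((F g : ℤ) - 1) * ((F g : ℤ) - n) ≤ if F g = 0 then (n : ℤ) else 0 := by
    intro g
    by_cases h0 : F g = 0
    · rw [if_pos h0, h0]; simp
    · rw [if_neg h0]
      have h1 : (1 : ℤ) ≤ F g := by exact_mod_cast Nat.one_le_iff_ne_zero.mpr h0
      have h2 : (F g : ℤ) ≤ n := by exact_mod_cast hFle g
      nlinarith
  have hsumR : ∑ g : G, (if F g = 0 then (n : ℤ) else 0) = n * D.card := by
    rw [← Finset.sum_filter, Finset.sum_const, nsmul_eq_mul, mul_comm]
  have hsumL : ∑ g : G, ((F g : ℤ) - 1) * ((F g : ℤ) - n)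
      = (∑ g : G, (F g : ℤ) ^ 2) - (n + 1) * (∑ g : G, (F g : ℤ)) + n * Fintype.card G := by
    have : ∀ g : G, ((F g : ℤ) - 1) * ((F g : ℤ) - n) = (F g : ℤ) ^ 2 - (n + 1) * (F g : ℤ) + n := by
      intro g; ring
    rw [Finset.sum_congr rfl (fun g _ => this g), Finset.sum_add_distrib, Finset.sum_sub_distrib,
      ← Finset.mul_sum, Finset.sum_const, Finset.card_univ, nsmul_eq_mul, mul_comm (Fintype.card G : ℤ)]
  have hB1' : ∑ g : G, (F g : ℤ) = Fintype.card G := by exact_mod_cast hB1
  have hB2' : 2 * (Fintype.card G : ℤ) ≤ ∑ g : G, (F g : ℤ) ^ 2 := by exact_mod_cast hB2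
  have hle : ∑ g : G, ((F g : ℤ) - 1) * ((F g : ℤ) - n) ≤ ∑ g : G, (if F g = 0 then (n : ℤ) else 0) :=
    Finset.sum_le_sum (fun g _ => hterm g)
  have hmain : (Fintype.card G : ℤ) ≤ n * D.card := by
    rw [hsumL, hsumR, hB1'] at hle
    nlinarith
  by_cases hlt : Fintype.card G < n * D.card
  · right; exact hlt
  · left
    have heq : (Fintype.card G : ℤ) = n * D.card := by
      apply le_antisymm hmain
      exact_mod_cast Nat.le_of_not_lt hlt
    have hsumeq : ∑ g : G, ((F g : ℤ) - 1) * ((F g : ℤ) - n)
        = ∑ g : G, (if F g = 0 then (n : ℤ) else 0) := by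
      apply le_antisymm hle
      rw [hsumL, hsumR, hB1']
      nlinarith
    have htermeq := (Finset.sum_eq_sum_iff_of_le (fun g _ => hterm g)).mp hsumeq
    have hfix1 : ∀ g : G, g ≠ 1 → F g ≤ 1 := by
      intro g hg
      by_contra h
      push Not at h
      have h0 : F g ≠ 0 := by omega
      have := htermeq g (Finset.mem_univ g)
      rw [if_neg h0] at this
      rcases mul_eq_zero.mp this with h1 | h1
      · have : (F g : ℤ) = 1 := by linarith
        have : F g = 1 := by exact_mod_cast this
        omega
      · have : (F g : ℤ) = n := by linarith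
        have : F g = n := by exact_mod_cast this
        exact hg (hFn g this)
    -- count
    have h1D : (1 : G) ∉ D := by
      simp only [hD, Finset.mem_filter, Finset.mem_univ, true_and, hF1]
      omega
    have hFform : ∀ g : G, (F g : ℤ) = 1 - (if F g = 0 then 1 else 0) + (if g = 1 then ((n : ℤ) - 1) else 0) := by
      intro g
      by_cases hg : g = 1
      · subst hg
        rw [hF1, if_neg (by omega), if_pos rfl]; ring
      · rw [if_neg hg]
        have := hfix1 g hg
        by_cases h0 : F g = 0
        · rw [if_pos h0, h0]; simp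
        · rw [if_neg h0]
          have : F g = 1 := by omega
          rw [this]; simp
    have hcount : (Fintype.card G : ℤ) = Fintype.card G - D.card + (n - 1) := by
      have := hB1'
      rw [Finset.sum_congr rfl (fun g _ => hFform g), Finset.sum_add_distrib, Finset.sum_sub_distrib,
        Finset.sum_ite_eq' Finset.univ (1 : G)] at this
      simp only [Finset.mem_univ, if_true, Finset.sum_const, Finset.card_univ, nsmul_eq_mul, mul_one] at this
      rw [← Finset.sum_filter, Finset.sum_const, nsmul_eq_mul, mul_one] at this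
      linarith
    have hDn : (D.card : ℤ) = n - 1 := by linarith
    have hDn' : D.card = n - 1 := by omega
    have hG : Fintype.card G = n * (n - 1) := by
      have : (Fintype.card G : ℤ) = n * (n - 1) := by rw [heq, hDn]
      have h3 : ((n - 1 : ℕ) : ℤ) = (n : ℤ) - 1 := by
        rw [Nat.cast_sub (by omega)]; simp
      rw [← h3] at this
      exact_mod_cast this
    refine ⟨⟨htr, ?_, ?_⟩, hG, ?_⟩
    · by_contra hcon
      push Not at hcon
      -- all non-identity are derangements
      have : (Finset.univ.erase (1 : G)) ⊆ D := by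
        intro g hg
        have hg1 : g ≠ 1 := (Finset.mem_erase.mp hg).1
        simp only [hD, Finset.mem_filter, Finset.mem_univ, true_and, hF0]
        exact hcon g hg1
      have hc := Finset.card_le_card this
      rw [Finset.card_erase_of_mem (Finset.mem_univ _), Finset.card_univ, hG, hDn'] at hc
      have : 2 * n ≤ n * (n - 1) := by
        rw [mul_comm 2 n]
        exact Nat.mul_le_mul_left n (by omega)
      omega
    · intro g hg
      rw [Nat.card_eq_fintype_card]
      exact hfix1 g hg
    · rw [hG, hDn']

end Cfsg.Agent.S5729
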