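import Mathlib
import Cfsg.Statements.S5738

set_option autoImplicit false
open Cfsg

namespace Cfsg.Agent.S5738

variable {F K : Type*} [Field F] [Field K] [Algebra F K]

/-- The semilinear map `x ↦ c σ(x)` as a unit of `End_F(K)`. -/
noncomputable def semi (c : Kˣ) (σ : K ≃ₐ[F] K) : (Module.End F K)ˣ where
  val := (LinearMap.mulLeft F (c : K)).comp σ.toLinearMap
  inv := σ.symm.toLinearMap.comp (LinearMap.mulLeft F ((c⁻¹ : Kˣ) : K))
  val_inv := by
    apply LinearMap.ext
    intro x
    simp
  inv_val := by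
    apply LinearMap.ext
    intro x
    simp

theorem semi_apply (c : Kˣ) (σ : K ≃ₐ[F] K) (x : K) :
    ((semi c σ : (Module.End F K)ˣ) : Module.End F K) x = c * σ x := rfl

theorem semi_inv_apply (c : Kˣ) (σ : K ≃ₐ[F] K) (x : K) :
    (((semi c σ)⁻¹ : (Module.End F K)ˣ) : Module.End F K) x = σ.symm ((c⁻¹ : Kˣ) * x) := rfl

/-- The multiplication map. -/
abbrev LL (F K : Type*) [Field F] [Field K] [Algebra F K] : K →* Module.End F K :=
  ((Algebra.lmul F K : K →ₐ[F] Module.End F K) : K →* Module.End F K)

theorem LL_apply (a b : K) : LL F K a b = a * b := rfl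

theorem lmul_app (a b : K) : (Algebra.lmul F K a) b = a * b := rfl

theorem semi_injective : Function.Injective (fun p : Kˣ × (K ≃ₐ[F] K) => semi p.1 p.2) := by
  rintro ⟨c, σ⟩ ⟨c', σ'⟩ h
  have h1 : ∀ x : K, (c : K) * σ x = c' * σ' x := by
    intro x
    have := congrArg (fun ψ : (Module.End F K)ˣ => (ψ : Module.End F K) x) h
    exact this
  have hc : c = c' := by
    apply Units.ext
    have := h1 1
    simpa using this
  subst hc
  have hσ : σ = σ' := by
    ext x
    exact mul_left_cancel₀ c.ne_zero (h1 x)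
  rw [hσ]

theorem semi_mem_normalizer (c : Kˣ) (σ : K ≃ₐ[F] K) :
    semi c σ ∈ Subgroup.normalizer (((Units.map (LL F K)).range : Subgroup (Module.End F K)ˣ) : Set (Module.End F K)ˣ) := by
  rw [Subgroup.mem_set_normalizer_iff]
  intro ψ
  constructor
  · rintro ⟨k, rfl⟩
    refine ⟨Units.map σ.toAlgHom.toRingHom.toMonoidHom k, ?_⟩
    apply Units.ext
    apply LinearMap.ext
    intro x
    simp only [Units.val_mul, Module.End.mul_apply, Units.coe_map, semi_apply, semi_inv_apply,
      LL_apply, MonoidHom.coe_coe]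
    simp only [RingHom.toMonoidHom_eq_coe, AlgHom.toRingHom_eq_coe, MonoidHom.coe_coe,
      RingHom.coe_coe, AlgHom.coe_coe, map_mul, AlgEquiv.apply_symm_apply, lmul_app]
    rw [Units.val_inv_eq_inv_val]
    field_simp
    exact mul_comm _ _
  · rintro ⟨k, hk⟩
    refine ⟨Units.map σ.symm.toAlgHom.toRingHom.toMonoidHom k, ?_⟩
    have hψ : ψ = (semi c σ)⁻¹ * Units.map (LL F K) k * semi c σ := by
      rw [hk]; group
    rw [hψ]
    apply Units.ext
    apply LinearMap.ext
    intro x
    simp only [Units.val_mul, Module.End.mul_apply, Units.coe_map, semi_apply, semi_inv_apply,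
      LL_apply, MonoidHom.coe_coe]
    simp only [RingHom.toMonoidHom_eq_coe, AlgHom.toRingHom_eq_coe, MonoidHom.coe_coe,
      RingHom.coe_coe, AlgHom.coe_coe, map_mul, AlgEquiv.symm_apply_apply, lmul_app]
    rw [Units.val_inv_eq_inv_val, map_inv₀]
    have : σ.symm (c : K) ≠ 0 := by
      rw [Ne, map_eq_zero_iff _ σ.symm.injective]; exact c.ne_zero
    field_simp
    exact mul_comm _ _


theorem exists_semi_of_mem_normalizer [Finite K] (φ : (Module.End F K)ˣ)
    (hφ : φ ∈ Subgroup.normalizer (((Units.map (LL F K)).range : Subgroup (Module.End F K)ˣ) : Set (Module.End F K)ˣ)) :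
    ∃ p : Kˣ × (K ≃ₐ[F] K), semi p.1 p.2 = φ := by
  rw [Subgroup.mem_set_normalizer_iff] at hφ
  have hinj : Function.Injective (φ : Module.End F K) := by
    intro x y hxy
    have := congrArg (fun z => ((φ⁻¹ : (Module.End F K)ˣ) : Module.End F K) z) hxy
    change ((φ⁻¹ : (Module.End F K)ˣ) : Module.End F K) ((φ : Module.End F K) x)
      = ((φ⁻¹ : (Module.End F K)ˣ) : Module.End F K) ((φ : Module.End F K) y) at this
    rw [← Module.End.mul_apply, ← Module.End.mul_apply, ← Units.val_mul, inv_mul_cancel] at this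
    exact this
  set c : K := (φ : Module.End F K) 1 with hc
  have hc0 : c ≠ 0 := by
    intro h
    have : (φ : Module.End F K) 1 = (φ : Module.End F K) 0 := by rw [map_zero]; exact h
    exact one_ne_zero (hinj this)
  -- the key relation
  have key : ∀ k x : K, (φ : Module.End F K) (k * x) = (φ : Module.End F K) k * c⁻¹ * (φ : Module.End F K) x := by
    intro k x
    by_cases hk : k = 0
    · rw [hk, zero_mul, map_zero, zero_mul, zero_mul]
    obtain ⟨k', hk'⟩ := (hφ (Units.map (LL F K) (Units.mk0 k hk))).mp ⟨_, rfl⟩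
    have h1 : ∀ y : K, (k' : K) * (φ : Module.End F K) y = (φ : Module.End F K) (k * y) := by
      intro y
      have h2 : Units.map (LL F K) k' * φ = φ * Units.map (LL F K) (Units.mk0 k hk) := by
        rw [hk']; group
      have := congrArg (fun ψ : (Module.End F K)ˣ => (ψ : Module.End F K) y) h2
      exact this
    have h3 := h1 1
    rw [mul_one] at h3
    have h4 : (k' : K) = (φ : Module.End F K) k * c⁻¹ := by
      rw [← h3, mul_assoc, mul_inv_cancel₀ hc0, mul_one]
    rw [← h1 x, h4]
  -- the algebra map σ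
  let σlin : K →ₗ[F] K := (LinearMap.mulLeft F c⁻¹).comp (φ : Module.End F K)
  have hσapp : ∀ x, σlin x = c⁻¹ * (φ : Module.End F K) x := fun x => rfl
  let σhom : K →ₐ[F] K := AlgHom.ofLinearMap σlin
    (by rw [hσapp]; exact inv_mul_cancel₀ hc0)
    (by
      intro x y
      rw [hσapp, hσapp, hσapp, key x y]; ring)
  have hσbij : Function.Bijective σhom := by
    have : Function.Injective σhom := σhom.toRingHom.injective
    exact ⟨this, Finite.surjective_of_injective this⟩
  let σ : K ≃ₐ[F] K := AlgEquiv.ofBijective σhom hσbij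
  refine ⟨(Units.mk0 c hc0, σ), ?_⟩
  apply Units.ext
  apply LinearMap.ext
  intro x
  rw [semi_apply]
  change c * (c⁻¹ * (φ : Module.End F K) x) = _
  rw [← mul_assoc, mul_inv_cancel₀ hc0, one_mul]

/-- Let F ⊆ K be finite fields with |F| = q and [K : F] = n ≥ 2, so |K| = q^n. Regard K as an n-dimensional F-vector space; the multiplications by non-zero elements of K form a cyclic subgroup of GL_F(K) of order q^n − 1 acting regularly on the non-zero vectors (a Singer group). Its normaliser in GL_F(K) has order n·(q^n − 1). -/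
theorem result {F K : Type*} [Field F] [Fintype F] [Field K] [Fintype K] [Algebra F K] (n : ℕ) (hn : 2 ≤ n) (hdim : Module.finrank F K = n) :
    Nat.card (Subgroup.normalizer (((Units.map ((Algebra.lmul F K : K →ₐ[F] Module.End F K) : K →* Module.End F K)).range : Subgroup (Module.End F K)ˣ) : Set (Module.End F K)ˣ)) = n * (Fintype.card K - 1) := by
  let Ψ : Kˣ × (K ≃ₐ[F] K) → Subgroup.normalizer (((Units.map (LL F K)).range : Subgroup (Module.End F K)ˣ) : Set (Module.End F K)ˣ) :=
    fun p => ⟨semi p.1 p.2, semi_mem_normalizer p.1 p.2⟩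
  have hΨ : Function.Bijective Ψ := by
    constructor
    · intro p q h
      exact semi_injective (congrArg Subtype.val h)
    · rintro ⟨φ, hφ⟩
      obtain ⟨p, hp⟩ := exists_semi_of_mem_normalizer φ hφ
      exact ⟨p, Subtype.ext hp⟩
  rw [← Nat.card_congr (Equiv.ofBijective Ψ hΨ), Nat.card_prod, Nat.card_units,
    IsGalois.card_aut_eq_finrank, hdim, Nat.card_eq_fintype_card, mul_comm]

end Cfsg.Agent.S5738
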