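import Cfsg.Statements.S5747
import Mathlib.Tactic
import Mathlib.GroupTheory.Perm.Fin

set_option autoImplicit false
open Cfsg

namespace Cfsg.Agent.S5747

open MulAction

variable {G Ω : Type*} [Group G] [MulAction G Ω]

/-- irredundant base for a subgroup `H`, as a list -/
def IB : Subgroup G → List Ω → Prop
  | H, [] => H = ⊥
  | H, x :: l => (∃ h ∈ H, h • x ≠ x) ∧ IB (H ⊓ stabilizer G x) l

/-- tuple version for a subgroup -/
def IBf (H : Subgroup G) (t : ℕ) (f : Fin t → Ω) : Prop :=
  (∀ g ∈ H, (∀ i, g • f i = f i) → g = 1) ∧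
    ∀ i : Fin t, ∃ g ∈ H, (∀ j : Fin t, j < i → g • f j = f j) ∧ g • f i ≠ f i

lemma IBf_succ (H : Subgroup G) (t : ℕ) (f : Fin (t + 1) → Ω) :
    IBf H (t + 1) f ↔ (∃ h ∈ H, h • f 0 ≠ f 0) ∧
      IBf (H ⊓ stabilizer G (f 0)) t (fun i => f i.succ) := by
  constructor
  · rintro ⟨hb, hirr⟩
    refine ⟨?_, ?_, ?_⟩
    · obtain ⟨g, hg, -, hg0⟩ := hirr 0
      exact ⟨g, hg, hg0⟩
    · intro g hg hfix
      refine hb g hg.1 ?_
      intro i
      refine Fin.cases ?_ (fun k => ?_) i
      · exact hg.2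
      · exact hfix k
    · intro i
      obtain ⟨g, hg, hfix, hmove⟩ := hirr i.succ
      refine ⟨g, ⟨hg, hfix 0 (Fin.succ_pos i)⟩, ?_, hmove⟩
      intro j hj
      exact hfix j.succ (Fin.succ_lt_succ_iff.mpr hj)
  · rintro ⟨⟨h, hh, hh0⟩, hb, hirr⟩
    refine ⟨?_, ?_⟩
    · intro g hg hfix
      exact hb g ⟨hg, hfix 0⟩ (fun i => hfix i.succ)
    · intro i
      refine Fin.cases ?_ (fun k => ?_) i
      · exact ⟨h, hh, fun j hj => absurd hj (Fin.not_lt_zero j), hh0⟩
      · obtain ⟨g, hg, hfix, hmove⟩ := hirr k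
        refine ⟨g, hg.1, ?_, hmove⟩
        intro j
        refine Fin.cases ?_ (fun j' => ?_) j
        · intro _; exact hg.2
        · intro hj; exact hfix j' (Fin.succ_lt_succ_iff.mp hj)

lemma IBf_iff : ∀ (t : ℕ) (H : Subgroup G) (f : Fin t → Ω), IBf H t f ↔ IB H (List.ofFn f) := by
  intro t
  induction t with
  | zero =>
    intro H f
    simp only [List.ofFn_zero, IB, IBf]
    constructor
    · rintro ⟨hb, -⟩
      rw [Subgroup.eq_bot_iff_forall]
      intro g hg
      exact hb g hg (fun i => i.elim0)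
    · intro h
      refine ⟨fun g hg _ => ?_, fun i => i.elim0⟩
      rw [h] at hg
      exact Subgroup.mem_bot.mp hg
  | succ t ih =>
    intro H f
    rw [IBf_succ, List.ofFn_succ, IB, ih]

lemma IB_ofFn_get (H : Subgroup G) (l : List Ω) : IB H l ↔ IBf H l.length l.get := by
  rw [IBf_iff, List.ofFn_get]

/-- base (not necessarily irredundant) -/
def Base (H : Subgroup G) (l : List Ω) : Prop :=
  ∀ g ∈ H, (∀ x ∈ l, g • x = x) → g = 1

lemma Base_cons (H : Subgroup G) (x : Ω) (l : List Ω) :
    Base H (x :: l) ↔ Base (H ⊓ stabilizer G x) l := by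
  constructor
  · intro h g hg hfix
    refine h g hg.1 ?_
    intro y hy
    rcases List.mem_cons.mp hy with rfl | hy
    · exact hg.2
    · exact hfix y hy
  · intro h g hg hfix
    exact h g ⟨hg, hfix x (List.mem_cons_self)⟩ (fun y hy => hfix y (List.mem_cons_of_mem _ hy))

lemma Base_nil (H : Subgroup G) : Base H ([] : List Ω) ↔ H = ⊥ := by
  rw [Subgroup.eq_bot_iff_forall]
  constructor
  · intro h g hg; exact h g hg (by simp)
  · intro h g hg _; exact h g hg

lemma IB.base : ∀ (l : List Ω) (H : Subgroup G), IB H l → Base H l := by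
  intro l
  induction l with
  | nil => intro H h; exact (Base_nil H).mpr h
  | cons x l ih =>
    intro H h
    rw [Base_cons]
    exact ih _ h.2

lemma Base.perm {H : Subgroup G} {l l' : List Ω} (h : Base H l) (hp : l.Perm l') : Base H l' := by
  intro g hg hfix
  exact h g hg (fun x hx => hfix x (hp.mem_iff.mp hx))

lemma shorten : ∀ (l : List Ω) (H : Subgroup G), Base H l →
    IB H l ∨ ∃ l'' : List Ω, IB H l'' ∧ l''.length < l.length := by
  intro l
  induction l with
  | nil => intro H h; left; exact (Base_nil H).mp h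
  | cons x l ih =>
    intro H h
    rw [Base_cons] at h
    by_cases hx : ∃ g ∈ H, g • x ≠ x
    · rcases ih _ h with h1 | ⟨l'', h1, h2⟩
      · left; exact ⟨hx, h1⟩
      · right
        refine ⟨x :: l'', ⟨hx, h1⟩, ?_⟩
        simp only [List.length_cons]; omega
    · push Not at hx
      have hH : H ⊓ stabilizer G x = H := inf_eq_left.mpr (fun g hg => hx g hg)
      rw [hH] at h
      right
      rcases ih _ h with h1 | ⟨l'', h1, h2⟩
      · exact ⟨l, h1, by simp⟩
      · exact ⟨l'', h1, by simp only [List.length_cons]; omega⟩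

lemma exists_IB : ∀ (l : List Ω) (H K : Subgroup G), K ≤ H → IB H l → ∃ l' : List Ω, IB K l' := by
  intro l
  induction l with
  | nil =>
    intro H K hKH h
    refine ⟨[], ?_⟩
    change K = ⊥
    have : H = ⊥ := h
    rw [this] at hKH
    exact le_bot_iff.mp hKH
  | cons x l ih =>
    intro H K hKH h
    by_cases hx : ∃ g ∈ K, g • x ≠ x
    · obtain ⟨l', hl'⟩ := ih (H ⊓ stabilizer G x) (K ⊓ stabilizer G x)
        (inf_le_inf_right _ hKH) h.2
      exact ⟨x :: l', hx, hl'⟩
    · push Not at hx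
      exact ih (H ⊓ stabilizer G x) K (le_inf hKH (fun g hg => hx g hg)) h.2

/-- the reordering property, for a subgroup -/
def BL (H : Subgroup G) : Prop :=
  ∀ (t : ℕ) (f : Fin t → Ω) (σ : Equiv.Perm (Fin t)), IB H (List.ofFn f) → IB H (List.ofFn (f ∘ σ))

lemma BL_stab {H : Subgroup G} (hB : BL (Ω := Ω) H) (x : Ω) (hx : ∃ h ∈ H, h • x ≠ x) :
    BL (Ω := Ω) (H ⊓ stabilizer G x) := by
  intro t f σ h
  have h1 : IB H (List.ofFn (Fin.cons x f : Fin (t + 1) → Ω)) := by
    rw [List.ofFn_succ]
    simp only [Fin.cons_zero, Fin.cons_succ]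
    exact ⟨hx, h⟩
  have h2 := hB (t + 1) (Fin.cons x f) (Equiv.Perm.decomposeFin.symm (0, σ)) h1
  have h3 : (Fin.cons x f : Fin (t + 1) → Ω) ∘ (Equiv.Perm.decomposeFin.symm (0, σ))
      = Fin.cons x (f ∘ σ) := by
    funext i
    refine Fin.cases ?_ (fun k => ?_) i
    · simp [Equiv.Perm.decomposeFin_symm_apply_zero]
    · simp [Equiv.Perm.decomposeFin_symm_apply_succ]
  rw [h3, List.ofFn_succ] at h2
  simp only [Fin.cons_zero, Fin.cons_succ] at h2
  exact h2.2

lemma BL_swap {H : Subgroup G} (hB : BL (Ω := Ω) H) (x y : Ω) (l : List Ω)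
    (h : IB H (x :: y :: l)) : IB H (y :: x :: l) := by
  have e1 : x :: y :: l = List.ofFn (Fin.cons x (Fin.cons y l.get) : Fin (l.length + 2) → Ω) := by
    rw [List.ofFn_succ]
    simp only [Fin.cons_zero, Fin.cons_succ]
    rw [List.ofFn_succ]
    simp only [Fin.cons_zero, Fin.cons_succ, List.ofFn_get]
  have e2 : y :: x :: l = List.ofFn ((Fin.cons x (Fin.cons y l.get) : Fin (l.length + 2) → Ω) ∘
      (Equiv.swap 0 1)) := by
    have : (Fin.cons x (Fin.cons y l.get) : Fin (l.length + 2) → Ω) ∘ (Equiv.swap 0 1)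
        = Fin.cons y (Fin.cons x l.get) := by
      funext i
      refine Fin.cases ?_ (fun k => ?_) i
      · simp
      · refine Fin.cases ?_ (fun k' => ?_) k
        · simp
        · have h1 : (k'.succ.succ : Fin (l.length + 2)) ≠ 0 := Fin.succ_ne_zero _
          have h2 : (k'.succ.succ : Fin (l.length + 2)) ≠ 1 := by
            intro h
            have := congrArg Fin.val h
            simp at this
          simp [Equiv.swap_apply_of_ne_of_ne h1 h2]
    rw [this, List.ofFn_succ]
    simp only [Fin.cons_zero, Fin.cons_succ]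
    rw [List.ofFn_succ]
    simp only [Fin.cons_zero, Fin.cons_succ, List.ofFn_get]
  rw [e2]
  apply hB
  rw [← e1]
  exact h

theorem main [Finite G] : ∀ n : ℕ, ∀ H : Subgroup G, Nat.card H ≤ n → BL (Ω := Ω) H →
    ∀ l l' : List Ω, IB H l → IB H l' → l.length = l'.length := by
  intro n
  induction n with
  | zero =>
    intro H hH
    exfalso
    have := Nat.card_pos (α := H)
    omega
  | succ n ih =>
    intro H hH hB l l' hl hl'
    have hsmall : ∀ x : Ω, (∃ h ∈ H, h • x ≠ x) →
        Nat.card (H ⊓ stabilizer G x : Subgroup G) ≤ n := by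
      intro x ⟨h, hh, hhx⟩
      have hlt : H ⊓ stabilizer G x < H := by
        refine lt_of_le_of_ne inf_le_left ?_
        intro heq
        have : h ∈ H ⊓ stabilizer G x := by rw [heq]; exact hh
        exact hhx this.2
      have := Set.ncard_lt_ncard (SetLike.coe_ssubset_coe.mpr hlt) (Set.toFinite _)
      rw [← Nat.card_coe_set_eq, ← Nat.card_coe_set_eq] at this
      have h3 : Nat.card ((H ⊓ stabilizer G x : Subgroup G) : Set G) < Nat.card (H : Set G) := this
      have h4 : Nat.card (H : Set G) ≤ n + 1 := hH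
      exact Nat.lt_succ_iff.mp (lt_of_lt_of_le h3 h4)
    match l, l', hl, hl' with
    | [], [], _, _ => rfl
    | [], y :: l2, h1, h2 =>
      exfalso
      obtain ⟨h, hh, hhy⟩ := h2.1
      have : H = ⊥ := h1
      rw [this, Subgroup.mem_bot] at hh
      exact hhy (by rw [hh, one_smul])
    | x :: l1, [], h1, h2 =>
      exfalso
      obtain ⟨h, hh, hhy⟩ := h1.1
      have : H = ⊥ := h2
      rw [this, Subgroup.mem_bot] at hh
      exact hhy (by rw [hh, one_smul])
    | x :: l1, y :: l2, h1, h2 =>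
      have hx := h1.1
      have hy := h2.1
      have ihx := ih _ (hsmall x hx) (BL_stab hB x hx)
      have ihy := ih _ (hsmall y hy) (BL_stab hB y hy)
      simp only [List.length_cons, add_left_inj]
      by_cases hyx : ∃ g ∈ H ⊓ stabilizer G x, g • y ≠ y
      · -- y moved by H_x
        obtain ⟨l3, hl3⟩ := exists_IB l2 (H ⊓ stabilizer G y) (H ⊓ stabilizer G x ⊓ stabilizer G y)
          (inf_le_inf_right _ inf_le_left) h2.2
        have hA : IB H (x :: y :: l3) := ⟨hx, hyx, hl3⟩
        have hA' : IB H (y :: x :: l3) := BL_swap hB x y l3 hA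
        have e1 := ihx l1 (y :: l3) h1.2 hA.2
        have e2 := ihy l2 (x :: l3) h2.2 hA'.2
        simp only [List.length_cons] at e1 e2
        omega
      · by_cases hxy : ∃ g ∈ H ⊓ stabilizer G y, g • x ≠ x
        · obtain ⟨l3, hl3⟩ := exists_IB l1 (H ⊓ stabilizer G x)
            (H ⊓ stabilizer G y ⊓ stabilizer G x) (inf_le_inf_right _ inf_le_left) h1.2
          have hA : IB H (y :: x :: l3) := ⟨hy, hxy, hl3⟩
          have hA' : IB H (x :: y :: l3) := BL_swap hB y x l3 hA
          have e1 := ihx l1 (y :: l3) h1.2 hA'.2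
          have e2 := ihy l2 (x :: l3) h2.2 hA.2
          simp only [List.length_cons] at e1 e2
          omega
        · push Not at hyx hxy
          have heq : H ⊓ stabilizer G x = H ⊓ stabilizer G y := by
            apply le_antisymm
            · exact le_inf inf_le_left (fun g hg => hyx g hg)
            · exact le_inf inf_le_left (fun g hg => hxy g hg)
          have h2' := h2.2
          rw [← heq] at h2'
          exact ihx l1 l2 h1.2 h2'

lemma conv (t : ℕ) (f : Fin t → Ω) :
    ((∀ g : G, (∀ i : Fin t, g • f i = f i) → g = 1) ∧ ∀ i : Fin t, ∃ g : G, (∀ j : Fin t, j < i → g • f j = f j) ∧ g • f i ≠ f i)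
    ↔ IBf (⊤ : Subgroup G) t f := by
  simp [IBf]

/-- Let a finite group G act on a finite set Ω. An irredundant base is a sequence of points ω₁, …, ω_t whose pointwise stabiliser is trivial and in which each ω_i is moved by some element fixing ω₁, …, ω_{i−1}. Then all irredundant bases have the same length if and only if every reordering of an irredundant base is again an irredundant base. -/
theorem result {G Ω : Type*} [Group G] [Finite G] [MulAction G Ω] [Fintype Ω] :
    (∀ (t t' : ℕ) (f : Fin t → Ω) (f' : Fin t' → Ω), ((∀ g : G, (∀ i : Fin t, g • f i = f i) → g = 1) ∧ ∀ i : Fin t, ∃ g : G, (∀ j : Fin t, j < i → g • f j = f j) ∧ g • f i ≠ f i) → ((∀ g : G, (∀ i : Fin t', g • f' i = f' i) → g = 1) ∧ ∀ i : Fin t', ∃ g : G, (∀ j : Fin t', j < i → g • f' j = f' j) ∧ g • f' i ≠ f' i) → t = t') ↔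
    (∀ (t : ℕ) (f : Fin t → Ω) (σ : Equiv.Perm (Fin t)), ((∀ g : G, (∀ i : Fin t, g • f i = f i) → g = 1) ∧ ∀ i : Fin t, ∃ g : G, (∀ j : Fin t, j < i → g • f j = f j) ∧ g • f i ≠ f i) → ((∀ g : G, (∀ i : Fin t, g • (f ∘ σ) i = (f ∘ σ) i) → g = 1) ∧ ∀ i : Fin t, ∃ g : G, (∀ j : Fin t, j < i → g • (f ∘ σ) j = (f ∘ σ) j) ∧ g • (f ∘ σ) i ≠ (f ∘ σ) i)) := by
  constructor
  · intro hA t f σ hf
    rw [conv] at hf ⊢
    rw [IBf_iff] at hf ⊢
    have hbase : Base (⊤ : Subgroup G) (List.ofFn (f ∘ σ)) :=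
      (IB.base _ _ hf).perm (Equiv.Perm.ofFn_comp_perm σ f).symm
    rcases shorten _ _ hbase with h | ⟨l'', h1, h2⟩
    · exact h
    · exfalso
      rw [IB_ofFn_get, ← conv] at h1
      rw [← IBf_iff, ← conv] at hf
      have := hA t l''.length f l''.get hf h1
      simp only [List.length_ofFn] at h2
      omega
  · intro hB t t' f f' hf hf'
    rw [conv, IBf_iff] at hf hf'
    have hBL : BL (Ω := Ω) (⊤ : Subgroup G) := by
      intro t f σ h
      rw [← IBf_iff, ← conv] at h ⊢
      exact hB t f σ h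
    have := main (Nat.card (⊤ : Subgroup G)) ⊤ le_rfl hBL _ _ hf hf'
    simpa using this

end Cfsg.Agent.S5747
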