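import Cfsg.Statements.S5754
import Mathlib.Tactic
import Mathlib.LinearAlgebra.Reflection

set_option autoImplicit false
open Cfsg

namespace Cfsg.Agent.S5754

open QuadraticMap

variable {F V : Type*} [Field F] [AddCommGroup V] [Module F V]

/-- the functional `x ↦ polar Q x w / Q w` -/
noncomputable def refF (Q : QuadraticForm F V) (w : V) : Module.Dual F V :=
  (Q w)⁻¹ • (QuadraticMap.polarBilin Q).flip w

lemma refF_apply (Q : QuadraticForm F V) (w x : V) :
    refF Q w x = (Q w)⁻¹ * polar Q x w := by
  simp [refF]

lemma refF_self (Q : QuadraticForm F V) (w : V) (hw : Q w ≠ 0) : refF Q w w = 2 := by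
  rw [refF_apply, polar_self, nsmul_eq_mul]
  field_simp
  norm_num

lemma map_sub_smul (Q : QuadraticForm F V) (x w : V) (c : F) :
    Q (x - c • w) = Q x + c * c * Q w - c * polar Q x w := by
  have : x - c • w = x + (-c) • w := by rw [neg_smul, sub_eq_add_neg]
  rw [this, QuadraticMap.map_add Q, QuadraticMap.map_smul, polar_smul_right]
  simp only [smul_eq_mul]
  ring

/-- reflection along an anisotropic vector -/
noncomputable def rfl' (Q : QuadraticForm F V) (w : V) (hw : Q w ≠ 0) : Q.IsometryEquiv Q :=
  { Module.reflection (refF_self Q w hw) with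
    map_app' := by
      intro x
      change Q (Module.reflection (refF_self Q w hw) x) = Q x
      rw [Module.reflection_apply, map_sub_smul, refF_apply]
      field_simp
      ring }

lemma rfl'_apply (Q : QuadraticForm F V) (w : V) (hw : Q w ≠ 0) (x : V) :
    rfl' Q w hw x = x - ((Q w)⁻¹ * polar Q x w) • w := by
  change Module.reflection (refF_self Q w hw) x = _
  rw [Module.reflection_apply, refF_apply]

lemma map_sub_eq (Q : QuadraticForm F V) (x y : V) :
    Q (x - y) = Q x + Q y - polar Q x y := by
  have := map_sub_smul Q x y 1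
  simpa using this

lemma witt (Q : QuadraticForm F V) (hQ : Q.Anisotropic) {ι : Type*} (v v' : ι → V)
    (h1 : ∀ i, Q (v i) = Q (v' i))
    (h2 : ∀ i j, polar Q (v i) (v j) = polar Q (v' i) (v' j)) (s : Finset ι) :
    ∃ φ : Q.IsometryEquiv Q, ∀ i ∈ s, φ (v i) = v' i := by
  classical
  induction s using Finset.induction_on with
  | empty => exact ⟨QuadraticMap.IsometryEquiv.refl Q, by simp⟩
  | insert a s has ih =>
    obtain ⟨φ, hφ⟩ := ih
    by_cases hxy : φ (v a) = v' a
    · refine ⟨φ, ?_⟩
      intro i hi
      rcases Finset.mem_insert.mp hi with rfl | hi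
      · exact hxy
      · exact hφ i hi
    · set x := φ (v a) with hx
      set y := v' a with hy
      have hw : Q (x - y) ≠ 0 := fun h => hxy (sub_eq_zero.mp (hQ _ h))
      have hQx : Q x = Q y := by rw [hx, IsometryEquiv.map_app, h1 a]
      have hpol : ∀ z z' : V, polar Q (φ z) (φ z') = polar Q z z' := by
        intro z z'
        simp only [polar, ← map_add, IsometryEquiv.map_app]
      refine ⟨φ.trans (rfl' Q (x - y) hw), ?_⟩
      intro i hi
      change rfl' Q (x - y) hw (φ (v i)) = v' i
      rcases Finset.mem_insert.mp hi with rfl | hi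
      · rw [rfl'_apply, ← hx]
        have h3 : polar Q x (x - y) = Q (x - y) := by
          rw [polar_sub_right, polar_self, map_sub_eq, nsmul_eq_mul, hQx]
          push_cast
          ring
        rw [h3, inv_mul_cancel₀ hw, one_smul]
        abel
      · rw [rfl'_apply, hφ i hi]
        have h3 : polar Q (v' i) (x - y) = 0 := by
          rw [polar_sub_right, hx, ← hφ i hi, hpol, hφ i hi, hy, h2 i a, sub_self]
        rw [h3, mul_zero, zero_smul, sub_zero]

/-- Let V be a finite-dimensional vector space over a finite field F carrying an anisotropic quadratic form Q (Q(v) = 0 only for v = 0). Then the group of all maps v ↦ φ(v) + c, with φ an isometry of Q and c ∈ V, acts on V as a binary permutation group: given n ≥ 2 and two n-tuples u, u' of vectors such that every pair of corresponding entries of u is carried to that of u' by such a map, one such map carries u to u'. -/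
theorem result {F V : Type*} [Field F] [Finite F] [AddCommGroup V] [Module F V] [Module.Finite F V]
    (Q : QuadraticForm F V) (hQ : Q.Anisotropic) (n : ℕ) (hn : 2 ≤ n) (u u' : Fin n → V)
    (h2 : ∀ i j : Fin n, i ≠ j → ∃ (φ : Q.IsometryEquiv Q) (c : V), φ (u i) + c = u' i ∧ φ (u j) + c = u' j) :
    ∃ (φ : Q.IsometryEquiv Q) (c : V), ∀ i, φ (u i) + c = u' i := by
  classical
  have hd : ∀ i j : Fin n, Q (u i - u j) = Q (u' i - u' j) := by
    intro i j
    by_cases hij : i = j
    · subst hij; simp
    · obtain ⟨φ, c, hi, hj⟩ := h2 i j hij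
      rw [← hi, ← hj, add_sub_add_right_eq_sub, ← map_sub, IsometryEquiv.map_app]
  let i0 : Fin n := ⟨0, by omega⟩
  have h1 : ∀ i, Q (u i - u i0) = Q (u' i - u' i0) := fun i => hd i i0
  have h2' : ∀ i j, polar Q (u i - u i0) (u j - u i0) = polar Q (u' i - u' i0) (u' j - u' i0) := by
    intro i j
    have e1 := map_sub_eq Q (u i - u i0) (u j - u i0)
    have e2 := map_sub_eq Q (u' i - u' i0) (u' j - u' i0)
    rw [sub_sub_sub_cancel_right] at e1 e2
    rw [hd i j, h1 i, h1 j] at e1
    have : polar Q (u i - u i0) (u j - u i0)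
        = Q (u' i - u' i0) + Q (u' j - u' i0) - Q (u' i - u' j) := by
      rw [e1]; ring
    rw [this, e2]; ring
  obtain ⟨φ, hφ⟩ := witt Q hQ (fun i => u i - u i0) (fun i => u' i - u' i0) h1 h2' Finset.univ
  refine ⟨φ, u' i0 - φ (u i0), fun i => ?_⟩
  have := hφ i (Finset.mem_univ i)
  simp only [map_sub] at this
  rw [sub_eq_sub_iff_add_eq_add] at this
  rw [← add_sub_assoc, sub_eq_iff_eq_add, this]

end Cfsg.Agent.S5754
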