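import Cfsg.Statements.S5763
import Cfsg.Agent.Lib.Helper4.S8Enum2

set_option autoImplicit false
open Cfsg

namespace Cfsg.Agent.S5763

open Equiv Cfsg.Agent.Lib.Helper4.S8Enum

/-- preserving the two block systems `{01|23|45|67}` and `{0123|4567}` -/
def pres1 (g : Perm (Fin 8)) : Prop :=
  ∀ i j : Fin 8, (i.val / 2 = j.val / 2 → (g i).val / 2 = (g j).val / 2) ∧
    (i.val / 4 = j.val / 4 → (g i).val / 4 = (g j).val / 4)

lemma pres1_one : pres1 1 := fun _ _ => ⟨id, id⟩

lemma pres1_mul {g h : Perm (Fin 8)} (hg : pres1 g) (hh : pres1 h) : pres1 (g * h) := by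
  intro i j
  exact ⟨fun e => (hg (h i) (h j)).1 ((hh i j).1 e), fun e => (hg (h i) (h j)).2 ((hh i j).2 e)⟩

lemma pres1_pow {g : Perm (Fin 8)} (hg : pres1 g) (n : ℕ) : pres1 (g ^ n) := by
  induction n with
  | zero => rw [pow_zero]; exact pres1_one
  | succ n ih => rw [pow_succ]; exact pres1_mul ih hg

lemma pres1_inv {g : Perm (Fin 8)} (hg : pres1 g) : pres1 g⁻¹ := by
  have h1 : 0 < orderOf g := orderOf_pos g
  have : g⁻¹ = g ^ (orderOf g - 1) := by
    apply inv_eq_of_mul_eq_one_right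
    rw [← pow_succ', Nat.sub_add_cancel h1, pow_orderOf_eq_one]
  rw [this]
  exact pres1_pow hg _

/-- the standard Sylow `2`-subgroup -/
def H0 : Subgroup (Perm (Fin 8)) where
  carrier := {g | pres1 g}
  one_mem' := pres1_one
  mul_mem' := fun hg hh => pres1_mul hg hh
  inv_mem' := fun hg => pres1_inv hg

lemma mem_H0 (g : Perm (Fin 8)) : g ∈ H0 ↔ pres1 g := Iff.rfl

/-- the cheap criterion -/
def cheapP (g : Perm (Fin 8)) : Prop :=
  (g 0).val / 2 = (g 1).val / 2 ∧ (g 2).val / 2 = (g 3).val / 2 ∧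
  (g 4).val / 2 = (g 5).val / 2 ∧ (g 6).val / 2 = (g 7).val / 2 ∧
  (g 0).val / 4 = (g 2).val / 4 ∧ (g 4).val / 4 = (g 6).val / 4

lemma pres1_of_cheapP {g : Perm (Fin 8)} (h : cheapP g) : pres1 g := by
  obtain ⟨h1, h2, h3, h4, h5, h6⟩ := h
  intro i j
  fin_cases i <;> fin_cases j <;> (constructor <;> intro e <;> simp at e ⊢ <;> omega)

lemma pres_iff {g : Perm (Fin 8)} (hg : g ∈ H0) (i j : Fin 8) :
    (i.val / 2 = j.val / 2 ↔ (g i).val / 2 = (g j).val / 2) ∧
    (i.val / 4 = j.val / 4 ↔ (g i).val / 4 = (g j).val / 4) := by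
  have h1 := hg i j
  have h2 := (H0.inv_mem hg) (g i) (g j)
  have e : ∀ i, g⁻¹ (g i) = i := fun i => Perm.inv_eq_iff_eq.2 rfl
  rw [e, e] at h2
  exact ⟨⟨h1.1, h2.1⟩, ⟨h1.2, h2.2⟩⟩

lemma pow8 {g : Perm (Fin 8)} (hg : g ∈ H0) : g ^ 8 = 1 := by
  -- step A
  have hk : g * g ∈ H0 := H0.mul_mem hg hg
  have hA : ∀ i : Fin 8, ((g * g) i).val / 4 = i.val / 4 := by
    intro i
    have b1 := (g i).isLt
    have b2 := (g (g i)).isLt
    have b3 := i.isLt
    have e1 := (pres_iff hg (g i) i).2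
    rw [Perm.mul_apply]
    by_cases hc : (g i).val / 4 = i.val / 4
    · exact (e1.1 hc).trans hc
    · have : (g (g i)).val / 4 ≠ (g i).val / 4 := fun hh => hc (e1.2 hh)
      omega
  have hm : (g * g) * (g * g) ∈ H0 := H0.mul_mem hk hk
  have hB : ∀ i : Fin 8, (((g * g) * (g * g)) i).val / 2 = i.val / 2 := by
    intro i
    set k := g * g with hkdef
    have b1 := (k i).isLt
    have b2 := (k (k i)).isLt
    have b3 := i.isLt
    have e1 := (pres_iff hk (k i) i).1
    have a1 := hA i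
    have a2 := hA (k i)
    rw [Perm.mul_apply]
    by_cases hc : (k i).val / 2 = i.val / 2
    · exact (e1.1 hc).trans hc
    · have : (k (k i)).val / 2 ≠ (k i).val / 2 := fun hh => hc (e1.2 hh)
      omega
  have hC : ∀ i : Fin 8, (((g * g) * (g * g)) * ((g * g) * (g * g))) i = i := by
    intro i
    set m := (g * g) * (g * g) with hmdef
    have b1 := (m i).isLt
    have b2 := (m (m i)).isLt
    have b3 := i.isLt
    have a1 := hB i
    have a2 := hB (m i)
    rw [Perm.mul_apply]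
    by_cases hc : m i = i
    · rw [hc, hc]
    · have h1 : (m i).val ≠ i.val := fun hh => hc (Fin.ext hh)
      have h2 : (m (m i)).val ≠ (m i).val := fun hh => hc (m.injective (Fin.ext hh))
      apply Fin.ext
      omega
  have : g ^ 8 = ((g * g) * (g * g)) * ((g * g) * (g * g)) := by
    simp only [pow_succ, pow_zero, one_mul, mul_assoc]
  rw [this]
  ext i
  rw [hC i]; rfl

lemma isPGroup_H0 : IsPGroup 2 H0 := by
  intro g
  refine ⟨3, ?_⟩
  apply Subtype.ext
  rw [Subgroup.coe_pow]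
  exact pow8 g.2

/-- the product of the four transpositions -/
def t0 : Perm (Fin 8) := swap 0 1 * swap 2 3 * swap 4 5 * swap 6 7

lemma flt0 (u : Fin 8) : fl u.val = (t0 u).val := by
  fin_cases u <;> rfl

/-- packed form of a permutation -/
def Ax (x : Perm (Fin 8)) : ℕ :=
  packA (x 0).val (x 1).val (x 2).val (x 3).val (x 4).val (x 5).val (x 6).val (x 7).val

/-- packed form of the inverse -/
def Bx (x : Perm (Fin 8)) : ℕ :=
  packB (x 1).val (x 2).val (x 3).val (x 4).val (x 5).val (x 6).val (x 7).val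

lemma dg_pack (f : ℕ → ℕ) (g : Perm (Fin 8)) (hf : ∀ i : Fin 8, f i.val = (g i).val)
    (v : Fin 8) : dg (pack f) v.val = (g v).val := by
  have h0 : f 0 = (g 0).val := hf 0
  have h1 : f 1 = (g 1).val := hf 1
  have h2 : f 2 = (g 2).val := hf 2
  have h3 : f 3 = (g 3).val := hf 3
  have h4 : f 4 = (g 4).val := hf 4
  have h5 : f 5 = (g 5).val := hf 5
  have h6 : f 6 = (g 6).val := hf 6
  have h7 : f 7 = (g 7).val := hf 7
  have b0 := (g 0).isLt
  have b1 := (g 1).isLt
  have b2 := (g 2).isLt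
  have b3 := (g 3).isLt
  have b4 := (g 4).isLt
  have b5 := (g 5).isLt
  have b6 := (g 6).isLt
  have b7 := (g 7).isLt
  rw [dg_eq, pack_eq, h0, h1, h2, h3, h4, h5, h6, h7]
  fin_cases v <;> simp <;> omega

lemma dgA (x : Perm (Fin 8)) (i : Fin 8) : dg (Ax x) i.val = (x i).val := by
  have := dg_pack (fun i => if h : i < 8 then (x ⟨i, h⟩).val else 0) x
    (fun i => by simp [i.isLt]) i
  rw [← this]
  rfl

lemma Bx_eq (x : Perm (Fin 8)) :
    Bx x = pack (fun v => if h : v < 8 then (x⁻¹ ⟨v, h⟩).val else 0) := by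
  have e : ∀ i, x⁻¹ (x i) = i := fun i => Perm.inv_eq_iff_eq.2 rfl
  have key : ∑ i : Fin 8, i.val * 8 ^ (x i).val = ∑ v : Fin 8, (x⁻¹ v).val * 8 ^ v.val := by
    rw [← Equiv.sum_comp x (fun v => (x⁻¹ v).val * 8 ^ v.val)]
    apply Finset.sum_congr rfl
    intro i _
    rw [e]
  rw [Fin.sum_univ_eight, Fin.sum_univ_eight] at key
  unfold Bx
  rw [packB_eq, pack_eq]
  simp at key ⊢
  omega

lemma dgB (x : Perm (Fin 8)) (v : Fin 8) : dg (Bx x) v.val = (x⁻¹ v).val := by
  rw [Bx_eq]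
  exact dg_pack _ x⁻¹ (fun i => by simp [i.isLt]) v

lemma ndiv (a b : ℕ) : Nat.div a b = a / b := rfl

lemma nbeq (a b : ℕ) : (Nat.beq a b = true) ↔ a = b := by
  constructor
  · exact Nat.eq_of_beq_eq_true
  · rintro rfl
    induction a with
    | zero => rfl
    | succ n ih => exact ih

lemma cheapN_imp (f : ℕ → ℕ) (g : Perm (Fin 8)) (hf : ∀ i : Fin 8, f i.val = (g i).val)
    (h : cheapN f = true) : g ∈ H0 := by
  have h0 : f 0 = (g 0).val := hf 0
  have h1 : f 1 = (g 1).val := hf 1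
  have h2 : f 2 = (g 2).val := hf 2
  have h3 : f 3 = (g 3).val := hf 3
  have h4 : f 4 = (g 4).val := hf 4
  have h5 : f 5 = (g 5).val := hf 5
  have h6 : f 6 = (g 6).val := hf 6
  have h7 : f 7 = (g 7).val := hf 7
  unfold cheapN at h
  simp only [Bool.and_eq_true, nbeq, ndiv, h0, h1, h2, h3, h4, h5, h6, h7] at h
  obtain ⟨⟨⟨⟨⟨a1, a2⟩, a3⟩, a4⟩, a5⟩, a6⟩ := h
  exact pres1_of_cheapP ⟨a1, a2, a3, a4, a5, a6⟩

lemma swap_mem {u v : Fin 8} (huv : u.val / 2 = v.val / 2) : swap u v ∈ H0 := by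
  have key : ∀ i : Fin 8, (swap u v i).val / 2 = i.val / 2 := by
    intro i
    rw [Equiv.swap_apply_def]
    split_ifs with h1 h2
    · rw [h1]; exact huv.symm
    · rw [h2]; exact huv
    · rfl
  intro i j
  have k1 := key i
  have k2 := key j
  constructor
  · intro e; omega
  · intro e; omega

/-- the product of the two matching involutions -/
def rhoP (x : Perm (Fin 8)) : Perm (Fin 8) := t0 * (x * t0 * x⁻¹)

lemma rho_eq (x : Perm (Fin 8)) (v : Fin 8) :
    rho (Ax x) (Bx x) v.val = (rhoP x v).val := by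
  unfold rho
  rw [dgB, flt0, dgA, flt0]
  rfl

lemma dgR (x : Perm (Fin 8)) (v : Fin 8) :
    dg (pack (rho (Ax x) (Bx x))) v.val = (rhoP x v).val :=
  dg_pack _ (rhoP x) (rho_eq x) v

lemma exists_witness (x : Perm (Fin 8)) : ∃ h, h ∈ H0 ∧ h ≠ 1 ∧ x⁻¹ * h * x ∈ H0 := by
  have inj : ∀ i j : Fin 8, i ≠ j → (x i).val ≠ (x j).val := by
    intro i j hij e
    exact hij (x.injective (Fin.ext e))
  have hl := leaf_true (x 0).val (x 1).val (x 2).val (x 3).val (x 4).val (x 5).val (x 6).val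
    (x 7).val (x 0).isLt (x 1).isLt (x 2).isLt (x 3).isLt (x 4).isLt (x 5).isLt (x 6).isLt
    (x 7).isLt
    (inj _ _ (by decide))
    (inj _ _ (by decide)) (inj _ _ (by decide))
    (inj _ _ (by decide)) (inj _ _ (by decide)) (inj _ _ (by decide))
    (inj _ _ (by decide)) (inj _ _ (by decide)) (inj _ _ (by decide)) (inj _ _ (by decide))
    (inj _ _ (by decide)) (inj _ _ (by decide)) (inj _ _ (by decide)) (inj _ _ (by decide))
    (inj _ _ (by decide))
    (inj _ _ (by decide)) (inj _ _ (by decide)) (inj _ _ (by decide)) (inj _ _ (by decide))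
    (inj _ _ (by decide)) (inj _ _ (by decide))
    (inj _ _ (by decide)) (inj _ _ (by decide)) (inj _ _ (by decide)) (inj _ _ (by decide))
    (inj _ _ (by decide)) (inj _ _ (by decide)) (inj _ _ (by decide))
  unfold leaf at hl
  simp only [force_eq, Bool.or_eq_true, nbeq, ndiv] at hl
  have hsw : ∀ i j : Fin 8, i ≠ j → i.val / 2 = j.val / 2 → (x i).val / 2 = (x j).val / 2 →
      ∃ h, h ∈ H0 ∧ h ≠ 1 ∧ x⁻¹ * h * x ∈ H0 := by
    intro i j hij h1 h2
    refine ⟨swap (x i) (x j), swap_mem h2, ?_, ?_⟩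
    · intro hh
      rw [Equiv.swap_eq_one_iff] at hh
      exact hij (x.injective hh)
    · rw [Equiv.swap_apply_apply]
      have : x⁻¹ * (x * swap i j * x⁻¹) * x = swap i j := by group
      rw [this]
      exact swap_mem h1
  rcases hl with (((h | h) | h) | h) | h
  · exact hsw 0 1 (by decide) rfl h
  · exact hsw 2 3 (by decide) rfl h
  · exact hsw 4 5 (by decide) rfl h
  · exact hsw 6 7 (by decide) rfl h
  · change goodR (Ax x) (Bx x) (pack (rho (Ax x) (Bx x))) = true at h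
    unfold goodR at h
    simp only [Bool.or_eq_true, Bool.and_eq_true, Bool.not_eq_true', ] at h
    rcases h with ⟨⟨h1, h2⟩, h3⟩ | ⟨⟨h1, h2⟩, h3⟩
    · refine ⟨rhoP x, cheapN_imp _ _ (dgR x) h1, ?_, ?_⟩
      · intro hh
        have := dgR x 0
        rw [hh] at this
        have e0 : dg (pack (rho (Ax x) (Bx x))) 0 = 0 := this
        rw [e0] at h3
        exact absurd h3 (by decide)
      · apply cheapN_imp _ _ _ h2
        intro i
        show dg (Bx x) (dg (pack (rho (Ax x) (Bx x))) (dg (Ax x) i.val)) = _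
        rw [dgA, dgR, dgB]
        rfl
    · refine ⟨rhoP x * rhoP x, ?_, ?_, ?_⟩
      · apply cheapN_imp _ _ _ h1
        intro i
        show dg (pack (rho (Ax x) (Bx x))) (dg (pack (rho (Ax x) (Bx x))) i.val) = _
        rw [dgR, dgR]
        rfl
      · intro hh
        have e1 := dgR x 0
        have e2 := dgR x (rhoP x 0)
        have e0 : dg (pack (rho (Ax x) (Bx x))) (dg (pack (rho (Ax x) (Bx x))) 0) = 0 := by
          have e1' : dg (pack (rho (Ax x) (Bx x))) 0 = (rhoP x 0).val := e1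
          rw [e1', e2, ← Perm.mul_apply, hh]
          rfl
        rw [e0] at h3
        exact absurd h3 (by decide)
      · apply cheapN_imp _ _ _ h2
        intro i
        show dg (Bx x) (dg (pack (rho (Ax x) (Bx x))) (dg (pack (rho (Ax x) (Bx x)))
          (dg (Ax x) i.val))) = _
        rw [dgA, dgR, dgR, dgB]
        rfl

theorem result (H : Sylow 2 (Equiv.Perm (Fin 8))) (x : Equiv.Perm (Fin 8)) :
    (H : Subgroup (Equiv.Perm (Fin 8))) ⊓ (H : Subgroup (Equiv.Perm (Fin 8))).map (MulAut.conj x).toMonoidHom ≠ ⊥ := by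
  haveI : Fact (Nat.Prime 2) := ⟨Nat.prime_two⟩
  obtain ⟨Q, hQ⟩ := isPGroup_H0.exists_le_sylow
  obtain ⟨y, hy⟩ := MulAction.exists_smul_eq (Equiv.Perm (Fin 8)) Q H
  have hH : ∀ g ∈ H0, y * g * y⁻¹ ∈ (H : Subgroup (Equiv.Perm (Fin 8))) := by
    intro g hg
    rw [← hy, Sylow.coe_subgroup_smul, Subgroup.mem_pointwise_smul_iff_inv_smul_mem,
      MulAut.smul_def, ← map_inv, MulAut.conj_apply, inv_inv]
    have : y⁻¹ * (y * g * y⁻¹) * y = g := by group
    rw [this]
    exact hQ hg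
  obtain ⟨h, hh0, hh1, hhx⟩ := exists_witness (y⁻¹ * x * y)
  intro hbot
  have hmem : y * h * y⁻¹ ∈ (H : Subgroup (Equiv.Perm (Fin 8))) ⊓
      (H : Subgroup (Equiv.Perm (Fin 8))).map (MulAut.conj x).toMonoidHom := by
    rw [Subgroup.mem_inf]
    refine ⟨hH h hh0, ?_⟩
    refine ⟨y * ((y⁻¹ * x * y)⁻¹ * h * (y⁻¹ * x * y)) * y⁻¹, hH _ hhx, ?_⟩
    show x * (y * ((y⁻¹ * x * y)⁻¹ * h * (y⁻¹ * x * y)) * y⁻¹) * x⁻¹ = y * h * y⁻¹
    group
  rw [hbot, Subgroup.mem_bot] at hmem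
  apply hh1
  have : h = y⁻¹ * (y * h * y⁻¹) * y := by group
  rw [this, hmem]
  group

end Cfsg.Agent.S5763
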