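import Cfsg.Statements.S5775
import Cfsg.Agent.Lib.Helper3.MaxC6
import Cfsg.Agent.Lib.Helper3.MaxC7
import Cfsg.Agent.Lib.Helper3.MaxC9
import Cfsg.Agent.Lib.Helper3.MaxC12

set_option maxHeartbeats 4000000
set_option maxRecDepth 100000
set_option linter.unusedVariables false


set_option autoImplicit false
open Cfsg

namespace Cfsg.Agent.S5775

/-- Every maximal subgroup of SL_3(q) is of one of the listed geometric types or lies in the residual class. Let F be a finite field with q elements and H a maximal subgroup of SL_3(F) (viewed inside GL_3(F)). Then H is the intersection with SL_3(F) of one of: the stabiliser of a proper non-zero subspace; for q ≥ 5, the stabiliser of a decomposition of F^3 into three independent lines; for q ≠ 4, the normaliser of a degree-3 subfield of the matrix algebra; a subfield group for a subfield F₀ with |F| = |F₀|^r, r prime; for q = p ≡ 1 mod 3 prime, the normaliser of an absolutely irreducible 3-subgroup R of exponent 3 with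 centre of order 3, all of whose characteristic abelian subgroups are cyclic, of order 3^(1+2m) for some m ≥ 1, with F the smallest field of characteristic p containing the cube roots of unity (so R is extraspecial of order 27); for q odd, the similarity group of a non-degenerate quadratic form; the similarity group of a non-degenerate unitary form — or else H lies in the residual class of the linear case (modulo scalars H is almost simple, with absolutely irreducible perfect socle preimage realisable over no proper subfield and fixing no non-degenerate quadratic, symplectic or unitary form). -/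
theorem result {F : Type*} [Field F] [Fintype F] (H : Subgroup (Matrix.GeneralLinearGroup (Fin 3) F)) (hH : Cfsg.Geo.IsMaximalIn (Cfsg.Geo.specialLinear (Fin 3) F) H) :
    (∃ W : Submodule F (Fin 3 → F), W ≠ ⊥ ∧ W ≠ ⊤ ∧ H = Cfsg.Geo.subspaceStabilizer W ⊓ Cfsg.Geo.specialLinear (Fin 3) F) ∨
    (5 ≤ Fintype.card F ∧ ∃ D : Fin 3 → Submodule F (Fin 3 → F), Cfsg.Geo.IsMDecomposition 1 D ∧ H = Cfsg.Geo.decompositionStabilizer D ⊓ Cfsg.Geo.specialLinear (Fin 3) F) ∨
    (Fintype.card F ≠ 4 ∧ ∃ K : Subalgebra F (Matrix (Fin 3) (Fin 3) F), Cfsg.Geo.IsFieldSubalgebra 3 K ∧ H = Cfsg.Geo.subalgebraNormalizer K ⊓ Cfsg.Geo.specialLinear (Fin 3) F) ∨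
    (∃ (F₀ : Subfield F) (r : ℕ) (P : Matrix.GeneralLinearGroup (Fin 3) F), r.Prime ∧ Fintype.card F = Nat.card F₀ ^ r ∧ H = Cfsg.Geo.subfieldSubgroup F₀ P ⊓ Cfsg.Geo.specialLinear (Fin 3) F) ∨
    (∃ (p : ℕ) (R : Subgroup (Matrix.GeneralLinearGroup (Fin 3) F)), p.Prime ∧ Fintype.card F = p ∧ p % 3 = 1 ∧ Cfsg.Geo.IsLinearSymplecticTypeData 3 R ∧ H = Cfsg.Geo.subgroupNormalizer R ⊓ Cfsg.Geo.specialLinear (Fin 3) F) ∨
    (Odd (Fintype.card F) ∧ ∃ Q : (Fin 3 → F) → F, Cfsg.Geo.IsNondegenerateQuadraticForm Q ∧ H = Cfsg.Geo.quadSimilarityGroup Q ⊓ Cfsg.Geo.specialLinear (Fin 3) F) ∨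
    (∃ (σ : F ≃+* F) (f : (Fin 3 → F) → (Fin 3 → F) → F), Cfsg.Geo.IsUnitaryForm σ f ∧ H = Cfsg.Geo.similarityGroup f ⊓ Cfsg.Geo.specialLinear (Fin 3) F) ∨
    Cfsg.Geo.InLinearResidualClass H := by
  classical
  have hq1 : 1 < Fintype.card F := Fintype.one_lt_card
  rcases Cfsg.Agent.Lib.Helper3.MaxC.cases_of_max (by norm_num) H hH with
    ⟨W, h0, h1, hW⟩ | ⟨t, m, D, hD, htm, hs1, hs2, hHD⟩ | ⟨r, K, hr, hrn, hK, hHK⟩ |
    ⟨n₁, n₂, e, P, h1, h2, h12, hs, hHT⟩ | ⟨F₀, r, P, hr, hcard, hHS⟩ |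
    ⟨r, R, hR, ⟨p, e, k, hp, hchar, hcard, hnk, hr, hrp, hcase⟩, hHR⟩ |
    ⟨m, t, e, P, hm, ht, hmt, hHW⟩ | ⟨f, hf, hev, h4, hHf⟩ | ⟨σ, f, hf, hHf⟩ |
    ⟨Q, hQ, hodd, hHQ⟩ | hres
  · exact Or.inl ⟨W, h0, h1, hW⟩
  · -- decomposition
    have ht2 := hD.two_le
    have hm0 := hD.pos
    have htle : t ≤ 3 := Nat.le_of_dvd (by norm_num) ⟨m, htm.symm⟩
    have ht3 : t = 3 := by
      interval_cases t <;> omega
    subst ht3
    have hm1 : m = 1 := by omega
    subst hm1
    have hHle : H ≤ Cfsg.Geo.decompositionStabilizer D := hHD.le.trans inf_le_left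
    by_cases h5 : 5 ≤ Fintype.card F
    · right; left
      exact ⟨h5, D, hD, hHD⟩
    · have hq : Fintype.card F = 2 ∨ Fintype.card F = 3 ∨ Fintype.card F = 4 := by omega
      rcases hq with hq | hq | hq
      · obtain ⟨W, h0, h1, hle⟩ := Cfsg.Agent.Lib.Helper3.MaxC.lines_two hD (by norm_num) hq
        left
        exact ⟨W, h0, h1, Cfsg.Agent.Lib.Helper3.MaxC.eq_inf_of_le hH (hHle.trans hle)
          (Cfsg.Agent.Lib.Helper3.MaxC.not_le_stab W h0 h1)⟩
      · obtain ⟨Q, hQ, hle⟩ := Cfsg.Agent.Lib.Helper3.MaxC.lines_three hD hq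
        iterate 5 right
        left
        refine ⟨by rw [hq]; exact ⟨1, rfl⟩, Q, hQ,
          Cfsg.Agent.Lib.Helper3.MaxC.eq_inf_of_le hH (hHle.trans hle)
          (Cfsg.Agent.Lib.Helper3.MaxC.not_le_quadSimilarity (by norm_num) Q hQ)⟩
      · obtain ⟨σ, f, hf, hle⟩ := Cfsg.Agent.Lib.Helper3.MaxC.lines_four hD hq
        iterate 6 right
        left
        exact ⟨σ, f, hf, Cfsg.Agent.Lib.Helper3.MaxC.eq_inf_of_le hH (hHle.trans hle)
          (Cfsg.Agent.Lib.Helper3.MaxC.not_le_similarity (by norm_num) f hf.add_left hf.smul_left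
            hf.nondegenerate)⟩
  · -- field
    have hr3 : r = 3 := (Nat.prime_dvd_prime_iff_eq hr (by norm_num)).1 hrn
    subst hr3
    by_cases hq4 : Fintype.card F = 4
    · obtain ⟨F₀, P, hc, hle⟩ := Cfsg.Agent.Lib.Helper3.MaxC.field_four hq4 K hK
      right; right; right; left
      exact ⟨F₀, 2, P, Nat.prime_two, hc,
        Cfsg.Agent.Lib.Helper3.MaxC.eq_inf_of_le hH (hHK.le.trans hle)
        (Cfsg.Agent.Lib.Helper3.MaxC.not_le_subfield (by norm_num) F₀
          (Cfsg.Agent.Lib.Helper3.MaxC.subfield_ne_top F₀ Nat.prime_two hc) P)⟩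
    · right; right; left
      exact ⟨hq4, K, hK, hHK⟩
  · -- tensor: impossible
    exfalso
    have h1le : n₁ ≤ 3 := Nat.le_of_dvd (by norm_num) ⟨n₂, h12.symm⟩
    interval_cases n₁ <;> omega
  · right; right; right; left
    exact ⟨F₀, r, P, hr, hcard, hHS⟩
  · -- class 6
    have hr3 : r = 3 := by
      have h3 : (3 : ℕ) ∣ r ^ k := by rw [← hnk]
      exact (Cfsg.Agent.Lib.Helper3.MaxC.prime_eq_of_dvd_pow hr (by norm_num) h3).symm
    subst hr3
    rcases hcase with ⟨-, hoe, hdiv, hd1, hmin⟩ | ⟨h2, -, -⟩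
    · obtain ⟨rfl, hp3⟩ := Cfsg.Agent.Lib.Helper3.MaxC.c6_arith_3 hp hoe hdiv hd1
      rw [pow_one] at hcard
      iterate 4 right
      left
      exact ⟨p, R, hp, hcard, hp3, hR, hHR⟩
    · omega
  · -- wreath: impossible
    exfalso
    have h9 := Cfsg.Agent.Lib.Helper3.MaxC.nine_le_pow hm ht
    omega
  · -- symplectic: impossible
    exfalso
    rcases hev with ⟨j, hj⟩
    omega
  · iterate 6 right
    left
    exact ⟨σ, f, hf, hHf⟩
  · iterate 5 right
    left
    exact ⟨hodd, Q, hQ, hHQ⟩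
  · iterate 7 right
    exact hres

end Cfsg.Agent.S5775
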