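import Cfsg.Statements.S5781
import Cfsg.Agent.Lib.Helper3.MaxC6
import Cfsg.Agent.Lib.Helper3.MaxC7
import Cfsg.Agent.Lib.Helper3.MaxC8
import Cfsg.Agent.Lib.Helper3.MaxC9
import Cfsg.Agent.Lib.Helper3.MaxC13
import Cfsg.Agent.Lib.Helper3.MaxC14

set_option maxHeartbeats 4000000
set_option maxRecDepth 100000
set_option linter.unusedVariables false


set_option autoImplicit false
open Cfsg

namespace Cfsg.Agent.S5781

/-- Every maximal subgroup of SL_4(q) is of one of the listed geometric types or lies in the residual class. Let F be a finite field with q elements and H a maximal subgroup of SL_4(F) (inside GL_4(F)). Then H is the intersection with SL_4(F) of one of: the stabiliser of a proper non-zero subspace; for q ≥ 7, the stabiliser of a decomposition into four independent lines; for q ≥ 4, the stabiliser of a decomposition into two independent planes; the normaliser of a degree-2 subfield of the matrix algebra; a subfield group for a subfield F₀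 with |F| = |F₀|^r, r prime; for q = p ≡ 1 mod 4 prime, the normaliser of an absolutely irreducible 2-subgroup R of exponent 4 with centre of order 4, all of whose characteristic abelian subgroups are cyclic, of order 2^(2+2m) for some m (here |R| = 64), with 4 dividing p − 1; for q odd, the similarity group of a non-degenerate quadratic form; the similarity group of a non-degenerate symplectic form; the similarity group of a non-degenerate unitary form — or else H lies in the residual class of the linear case. -/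
theorem result {F : Type*} [Field F] [Fintype F] (H : Subgroup (Matrix.GeneralLinearGroup (Fin 4) F)) (hH : Cfsg.Geo.IsMaximalIn (Cfsg.Geo.specialLinear (Fin 4) F) H) :
    (∃ W : Submodule F (Fin 4 → F), W ≠ ⊥ ∧ W ≠ ⊤ ∧ H = Cfsg.Geo.subspaceStabilizer W ⊓ Cfsg.Geo.specialLinear (Fin 4) F) ∨
    (7 ≤ Fintype.card F ∧ ∃ D : Fin 4 → Submodule F (Fin 4 → F), Cfsg.Geo.IsMDecomposition 1 D ∧ H = Cfsg.Geo.decompositionStabilizer D ⊓ Cfsg.Geo.specialLinear (Fin 4) F) ∨
    (4 ≤ Fintype.card F ∧ ∃ D : Fin 2 → Submodule F (Fin 4 → F), Cfsg.Geo.IsMDecomposition 2 D ∧ H = Cfsg.Geo.decompositionStabilizer D ⊓ Cfsg.Geo.specialLinear (Fin 4) F) ∨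
    (∃ K : Subalgebra F (Matrix (Fin 4) (Fin 4) F), Cfsg.Geo.IsFieldSubalgebra 2 K ∧ H = Cfsg.Geo.subalgebraNormalizer K ⊓ Cfsg.Geo.specialLinear (Fin 4) F) ∨
    (∃ (F₀ : Subfield F) (r : ℕ) (P : Matrix.GeneralLinearGroup (Fin 4) F), r.Prime ∧ Fintype.card F = Nat.card F₀ ^ r ∧ H = Cfsg.Geo.subfieldSubgroup F₀ P ⊓ Cfsg.Geo.specialLinear (Fin 4) F) ∨
    (∃ (p : ℕ) (R : Subgroup (Matrix.GeneralLinearGroup (Fin 4) F)), p.Prime ∧ Fintype.card F = p ∧ p % 4 = 1 ∧ Cfsg.Geo.IsLinearSymplecticTypeData 2 R ∧ H = Cfsg.Geo.subgroupNormalizer R ⊓ Cfsg.Geo.specialLinear (Fin 4) F) ∨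
    (Odd (Fintype.card F) ∧ ∃ Q : (Fin 4 → F) → F, Cfsg.Geo.IsNondegenerateQuadraticForm Q ∧ H = Cfsg.Geo.quadSimilarityGroup Q ⊓ Cfsg.Geo.specialLinear (Fin 4) F) ∨
    (∃ f : (Fin 4 → F) → (Fin 4 → F) → F, Cfsg.Geo.IsSymplecticForm f ∧ H = Cfsg.Geo.similarityGroup f ⊓ Cfsg.Geo.specialLinear (Fin 4) F) ∨
    (∃ (σ : F ≃+* F) (f : (Fin 4 → F) → (Fin 4 → F) → F), Cfsg.Geo.IsUnitaryForm σ f ∧ H = Cfsg.Geo.similarityGroup f ⊓ Cfsg.Geo.specialLinear (Fin 4) F) ∨
    Cfsg.Geo.InLinearResidualClass H := by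
  classical
  have hq1 : 1 < Fintype.card F := Fintype.one_lt_card
  have hq6 : Fintype.card F ≠ 6 := by
    intro h6
    obtain ⟨p, hchar⟩ := CharP.exists F
    haveI := hchar
    obtain ⟨k, hp, hk⟩ := FiniteField.card F p
    rw [h6] at hk
    exact Cfsg.Agent.Lib.Helper3.MaxC.prime_pow_absurd (k := k) hp Nat.prime_two
      (by norm_num : Nat.Prime 3) (by norm_num) (by rw [← hk]; norm_num) (by rw [← hk]; norm_num)
  rcases Cfsg.Agent.Lib.Helper3.MaxC.cases_of_max (by norm_num) H hH with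
    ⟨W, h0, h1, hW⟩ | ⟨t, m, D, hD, htm, hs1, hs2, hHD⟩ | ⟨r, K, hr, hrn, hK, hHK⟩ |
    ⟨n₁, n₂, e, P, h1, h2, h12, hs, hHT⟩ | ⟨F₀, r, P, hr, hcard, hHS⟩ |
    ⟨r, R, hR, ⟨p, e, k, hp, hchar, hcard, hnk, hr, hrp, hcase⟩, hHR⟩ |
    ⟨m, t, e, P, hm, ht, hmt, hHW⟩ | ⟨f, hf, hev, h4, hHf⟩ | ⟨σ, f, hf, hHf⟩ |
    ⟨Q, hQ, hodd, hHQ⟩ | hres
  · exact Or.inl ⟨W, h0, h1, hW⟩
  · -- decomposition
    have ht2 := hD.two_le
    have hm0 := hD.pos
    have htle : t ≤ 4 := Nat.le_of_dvd (by norm_num) ⟨m, htm.symm⟩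
    have htm' : (t = 4 ∧ m = 1) ∨ (t = 2 ∧ m = 2) := by
      interval_cases t <;> omega
    have hHle : H ≤ Cfsg.Geo.decompositionStabilizer D := hHD.le.trans inf_le_left
    rcases htm' with ⟨rfl, rfl⟩ | ⟨rfl, rfl⟩
    · -- four lines
      have hne2 : Fintype.card F ≠ 2 := fun h => hs1 ⟨rfl, Or.inl ⟨Or.inl h, le_refl 4⟩⟩
      have hne4 : Fintype.card F ≠ 4 := fun h => hs1 ⟨rfl, Or.inl ⟨Or.inr h, le_refl 4⟩⟩
      by_cases h3 : Fintype.card F = 3
      · obtain ⟨Q, hQ, hle⟩ := Cfsg.Agent.Lib.Helper3.MaxC.lines_three hD h3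
        iterate 6 right
        left
        refine ⟨by rw [h3]; exact ⟨1, rfl⟩, Q, hQ,
          Cfsg.Agent.Lib.Helper3.MaxC.eq_inf_of_le hH (hHle.trans hle)
          (Cfsg.Agent.Lib.Helper3.MaxC.not_le_quadSimilarity (by norm_num) Q hQ)⟩
      · by_cases h5 : Fintype.card F = 5
        · exfalso
          exact Cfsg.Agent.Lib.Helper3.MaxC.false_of_between hH hHle
            (Cfsg.Agent.Lib.Helper3.MaxC.lines_five_not_max hD h5)
        · right; left
          exact ⟨by omega, D, hD, hHD⟩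
    · -- two planes
      have hne2 : Fintype.card F ≠ 2 := fun h => hs2 ⟨rfl, h⟩
      by_cases h3 : Fintype.card F = 3
      · obtain ⟨f, hf, hle⟩ := Cfsg.Agent.Lib.Helper3.MaxC.planes_three hD h3
        iterate 7 right
        left
        exact ⟨f, hf, Cfsg.Agent.Lib.Helper3.MaxC.eq_inf_of_le hH (hHD.le.trans hle)
          (Cfsg.Agent.Lib.Helper3.MaxC.not_le_similarity (by norm_num) f hf.bilinear.add_left
            hf.bilinear.smul_left hf.nondegenerate)⟩
      · right; right; left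
        exact ⟨by omega, D, hD, hHD⟩
  · -- field
    have hr2 : r = 2 := by
      have h4 : (4 : ℕ) = 2 ^ 2 := by norm_num
      rw [h4] at hrn
      exact Cfsg.Agent.Lib.Helper3.MaxC.prime_eq_of_dvd_pow Nat.prime_two hr hrn
    subst hr2
    right; right; right; left
    exact ⟨K, hK, hHK⟩
  · -- tensor: impossible
    exfalso
    have h1le : n₁ ≤ 4 := Nat.le_of_dvd (by norm_num) ⟨n₂, h12.symm⟩
    interval_cases n₁ <;> omega
  · iterate 4 right
    left
    exact ⟨F₀, r, P, hr, hcard, hHS⟩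
  · -- class 6
    have hr2 : r = 2 := by
      have h2 : (2 : ℕ) ∣ r ^ k := by
        rw [← hnk]
        norm_num
      exact (Cfsg.Agent.Lib.Helper3.MaxC.prime_eq_of_dvd_pow hr Nat.prime_two h2).symm
    subst hr2
    rcases hcase with ⟨hodd, -⟩ | ⟨-, he1, hp4⟩
    · exfalso
      rcases hodd with ⟨j, hj⟩
      omega
    · subst he1
      rw [pow_one] at hcard
      iterate 5 right
      left
      exact ⟨p, R, hp, hcard, hp4, hR, hHR⟩
  · -- wreath: impossible
    exfalso
    have h9 := Cfsg.Agent.Lib.Helper3.MaxC.nine_le_pow hm ht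
    omega
  · iterate 7 right
    left
    exact ⟨f, hf, hHf⟩
  · iterate 8 right
    left
    exact ⟨σ, f, hf, hHf⟩
  · iterate 6 right
    left
    exact ⟨hodd, Q, hQ, hHQ⟩
  · iterate 9 right
    exact hres

end Cfsg.Agent.S5781
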