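import Cfsg.Statements.S5799
import Cfsg.Agent.Lib.Helper3.MaxC6
import Cfsg.Agent.Lib.Helper3.MaxC7
import Cfsg.Agent.Lib.Helper3.MaxC8

set_option maxHeartbeats 4000000
set_option maxRecDepth 100000
set_option linter.unusedVariables false

set_option autoImplicit false
open Cfsg

namespace Cfsg.Agent.S5799

/-- Every maximal subgroup of SL_6(q) is of one of the listed geometric types or lies in the residual class. Let F be a finite field with q elements (p its characteristic) and H a maximal subgroup of SL_6(F) (inside GL_6(F)). Then H is the intersection with SL_6(F) of one of: the stabiliser of a proper non-zero subspace; for q ≥ 5, the stabiliser of a decomposition into 6 independent 1-spaces; for q ≥ 3, the stabiliser of a decomposition into 3 independent 2-spaces; the stabiliser of a decomposition into 2 independent 3-spaces; the normaliser of a degree-2 subfield of the matrix algebra; the normaliser of a degree-3 subfield of the matrix algebra; for q ≥ 3,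 the stabiliser of a tensor decomposition F^2 ⊗ F^3; a subfield group for a subfield F₀ with |F| = |F₀|^r, r prime; for q odd, the similarity group of a non-degenerate quadratic form; the similarity group of a non-degenerate symplectic form; the similarity group of a non-degenerate unitary form — or else H lies in the residual class of the linear case (modulo scalars H is almost simple, with absolutely irreducible perfect socle preimage realisable over no proper subfield and fixing no non-degenerate quadratic, symplectic or unitary form). -/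
theorem result {F : Type*} [Field F] [Fintype F] (H : Subgroup (Matrix.GeneralLinearGroup (Fin 6) F)) (hH : Cfsg.Geo.IsMaximalIn (Cfsg.Geo.specialLinear (Fin 6) F) H) :
    (∃ W : Submodule F (Fin 6 → F), W ≠ ⊥ ∧ W ≠ ⊤ ∧ H = Cfsg.Geo.subspaceStabilizer W ⊓ Cfsg.Geo.specialLinear (Fin 6) F) ∨
    (5 ≤ Fintype.card F ∧ ∃ D : Fin 6 → Submodule F (Fin 6 → F), Cfsg.Geo.IsMDecomposition 1 D ∧ H = Cfsg.Geo.decompositionStabilizer D ⊓ Cfsg.Geo.specialLinear (Fin 6) F) ∨
    (3 ≤ Fintype.card F ∧ ∃ D : Fin 3 → Submodule F (Fin 6 → F), Cfsg.Geo.IsMDecomposition 2 D ∧ H = Cfsg.Geo.decompositionStabilizer D ⊓ Cfsg.Geo.specialLinear (Fin 6) F) ∨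
    (∃ D : Fin 2 → Submodule F (Fin 6 → F), Cfsg.Geo.IsMDecomposition 3 D ∧ H = Cfsg.Geo.decompositionStabilizer D ⊓ Cfsg.Geo.specialLinear (Fin 6) F) ∨
    (∃ K : Subalgebra F (Matrix (Fin 6) (Fin 6) F), Cfsg.Geo.IsFieldSubalgebra 2 K ∧ H = Cfsg.Geo.subalgebraNormalizer K ⊓ Cfsg.Geo.specialLinear (Fin 6) F) ∨
    (∃ K : Subalgebra F (Matrix (Fin 6) (Fin 6) F), Cfsg.Geo.IsFieldSubalgebra 3 K ∧ H = Cfsg.Geo.subalgebraNormalizer K ⊓ Cfsg.Geo.specialLinear (Fin 6) F) ∨
    (3 ≤ Fintype.card F ∧ ∃ (e : Fin 6 ≃ Fin 2 × Fin 3) (P : Matrix.GeneralLinearGroup (Fin 6) F), H = Cfsg.Geo.tensorProductSubgroup 2 3 e P ⊓ Cfsg.Geo.specialLinear (Fin 6) F) ∨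
    (∃ (F₀ : Subfield F) (r : ℕ) (P : Matrix.GeneralLinearGroup (Fin 6) F), r.Prime ∧ Fintype.card F = Nat.card F₀ ^ r ∧ H = Cfsg.Geo.subfieldSubgroup F₀ P ⊓ Cfsg.Geo.specialLinear (Fin 6) F) ∨
    (Odd (Fintype.card F) ∧ ∃ Q : (Fin 6 → F) → F, Cfsg.Geo.IsNondegenerateQuadraticForm Q ∧ H = Cfsg.Geo.quadSimilarityGroup Q ⊓ Cfsg.Geo.specialLinear (Fin 6) F) ∨
    (∃ f : (Fin 6 → F) → (Fin 6 → F) → F, Cfsg.Geo.IsSymplecticForm f ∧ H = Cfsg.Geo.similarityGroup f ⊓ Cfsg.Geo.specialLinear (Fin 6) F) ∨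
    (∃ (σ : F ≃+* F) (f : (Fin 6 → F) → (Fin 6 → F) → F), Cfsg.Geo.IsUnitaryForm σ f ∧ H = Cfsg.Geo.similarityGroup f ⊓ Cfsg.Geo.specialLinear (Fin 6) F) ∨
    Cfsg.Geo.InLinearResidualClass H := by
  classical
  have hq1 : 1 < Fintype.card F := Fintype.one_lt_card
  rcases Cfsg.Agent.Lib.Helper3.MaxC.cases_of_max (by norm_num) H hH with
    ⟨W, h0, h1, hW⟩ | ⟨t, m, D, hD, htm, hs1, hs2, hHD⟩ | ⟨r, K, hr, hrn, hK, hHK⟩ |
    ⟨n₁, n₂, e, P, h1, h2, h12, hs, hHT⟩ | ⟨F₀, r, P, hr, hcard, hHS⟩ |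
    ⟨r, R, hR, ⟨p, e, k, hp, hchar, hcard, hnk, hr, hrp, hcase⟩, hHR⟩ |
    ⟨m, t, e, P, hm, ht, hmt, hHW⟩ | ⟨f, hf, hev, h4, hHf⟩ | ⟨σ, f, hf, hHf⟩ |
    ⟨Q, hQ, hodd, hHQ⟩ | hres
  · exact Or.inl ⟨W, h0, h1, hW⟩
  · -- decomposition
    have ht2 := hD.two_le
    have hm0 := hD.pos
    have htle : t ≤ 6 := Nat.le_of_dvd (by norm_num) ⟨m, htm.symm⟩
    interval_cases t
    all_goals first | (exfalso; omega) | skip
    · have hm3 : m = 3 := by omega
      subst hm3
      iterate 3 right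
      left
      exact ⟨D, hD, hHD⟩
    · have hm3 : m = 2 := by omega
      subst hm3
      iterate 2 right
      left
      exact ⟨Cfsg.Agent.Lib.Helper3.MaxC.three_le_card hq1 hs2, D, hD, hHD⟩
    · have hm1 : m = 1 := by omega
      subst hm1
      right; left
      exact ⟨Cfsg.Agent.Lib.Helper3.MaxC.card_ge_five hq1 (by norm_num) hs1, D, hD, hHD⟩
  · -- field
    have hrle : r ≤ 6 := Nat.le_of_dvd (by norm_num) hrn
    have hr2 := hr.two_le
    interval_cases r
    all_goals first | (exfalso; omega) | (exfalso; revert hr; decide) | skip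
    · iterate 4 right
      left
      exact ⟨K, hK, hHK⟩
    · iterate 5 right
      left
      exact ⟨K, hK, hHK⟩
  · -- tensor
    have h1le : n₁ ≤ 6 := Nat.le_of_dvd (by norm_num) ⟨n₂, h12.symm⟩
    interval_cases n₁
    all_goals first | (exfalso; omega) | skip
    have hn2 : n₂ = 3 := by omega
    subst hn2
    iterate 6 right
    left
    refine ⟨?_, e, P, hHT⟩
    by_contra hcon
    exact hs ⟨rfl, by omega⟩
  · iterate 7 right
    left
    exact ⟨F₀, r, P, hr, hcard, hHS⟩
  · -- class 6: impossible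
    exfalso
    exact Cfsg.Agent.Lib.Helper3.MaxC.prime_pow_absurd hr Nat.prime_two Nat.prime_three (by norm_num)
      (by rw [← hnk]; norm_num) (by rw [← hnk]; norm_num)
  · -- wreath: impossible
    exfalso
    obtain ⟨h9, -, -⟩ := Cfsg.Agent.Lib.Helper3.MaxC.wreath_arith hm ht hmt (by norm_num)
    omega
  · iterate 9 right
    left
    exact ⟨f, hf, hHf⟩
  · iterate 10 right
    left
    exact ⟨σ, f, hf, hHf⟩
  · iterate 8 right
    left
    exact ⟨hodd, Q, hQ, hHQ⟩
  · iterate 11 right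
    exact hres

end Cfsg.Agent.S5799
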