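import Cfsg.Statements.S5808
import Cfsg.Agent.Lib.Helper3.MaxC6
import Cfsg.Agent.Lib.Helper3.MaxC7

set_option maxHeartbeats 4000000
set_option maxRecDepth 100000
set_option linter.unusedVariables false

set_option autoImplicit false
open Cfsg

namespace Cfsg.Agent.S5808

/-- Every maximal subgroup of SL_7(q) is of one of the listed geometric types or lies in the residual class. Let F be a finite field with q elements (p its characteristic) and H a maximal subgroup of SL_7(F) (inside GL_7(F)). Then H is the intersection with SL_7(F) of one of: the stabiliser of a proper non-zero subspace; for q ≥ 5, the stabiliser of a decomposition into 7 independent 1-spaces; the normaliser of a degree-7 subfield of the matrix algebra; a subfield group for a subfield F₀ with |F| = |F₀|^r, r prime; for q = p prime with p ≡ 1 mod 7, or q = p³ with p ≡ 2 or 4 mod 7, the normaliser of an absolutely irreducible 7-subgroup R of exponent 7 and order 7^(1+2m) with centre of order 7, all of whose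 characteristic abelian subgroups are cyclic, F being the smallest field of characteristic p containing the seventh roots of unity (here R is extraspecial of order 343); for q odd, the similarity group of a non-degenerate quadratic form; the similarity group of a non-degenerate unitary form — or else H lies in the residual class of the linear case (modulo scalars H is almost simple, with absolutely irreducible perfect socle preimage realisable over no proper subfield and fixing no non-degenerate quadratic, symplectic or unitary form). -/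
theorem result {F : Type*} [Field F] [Fintype F] (H : Subgroup (Matrix.GeneralLinearGroup (Fin 7) F)) (hH : Cfsg.Geo.IsMaximalIn (Cfsg.Geo.specialLinear (Fin 7) F) H) :
    (∃ W : Submodule F (Fin 7 → F), W ≠ ⊥ ∧ W ≠ ⊤ ∧ H = Cfsg.Geo.subspaceStabilizer W ⊓ Cfsg.Geo.specialLinear (Fin 7) F) ∨
    (5 ≤ Fintype.card F ∧ ∃ D : Fin 7 → Submodule F (Fin 7 → F), Cfsg.Geo.IsMDecomposition 1 D ∧ H = Cfsg.Geo.decompositionStabilizer D ⊓ Cfsg.Geo.specialLinear (Fin 7) F) ∨
    (∃ K : Subalgebra F (Matrix (Fin 7) (Fin 7) F), Cfsg.Geo.IsFieldSubalgebra 7 K ∧ H = Cfsg.Geo.subalgebraNormalizer K ⊓ Cfsg.Geo.specialLinear (Fin 7) F) ∨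
    (∃ (F₀ : Subfield F) (r : ℕ) (P : Matrix.GeneralLinearGroup (Fin 7) F), r.Prime ∧ Fintype.card F = Nat.card F₀ ^ r ∧ H = Cfsg.Geo.subfieldSubgroup F₀ P ⊓ Cfsg.Geo.specialLinear (Fin 7) F) ∨
    ((∃ p : ℕ, p.Prime ∧ CharP F p ∧ ((Fintype.card F = p ∧ p % 7 = 1) ∨ (Fintype.card F = p ^ 3 ∧ (p % 7 = 2 ∨ p % 7 = 4)))) ∧ ∃ R : Subgroup (Matrix.GeneralLinearGroup (Fin 7) F), Cfsg.Geo.IsLinearSymplecticTypeData 7 R ∧ H = Cfsg.Geo.subgroupNormalizer R ⊓ Cfsg.Geo.specialLinear (Fin 7) F) ∨
    (Odd (Fintype.card F) ∧ ∃ Q : (Fin 7 → F) → F, Cfsg.Geo.IsNondegenerateQuadraticForm Q ∧ H = Cfsg.Geo.quadSimilarityGroup Q ⊓ Cfsg.Geo.specialLinear (Fin 7) F) ∨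
    (∃ (σ : F ≃+* F) (f : (Fin 7 → F) → (Fin 7 → F) → F), Cfsg.Geo.IsUnitaryForm σ f ∧ H = Cfsg.Geo.similarityGroup f ⊓ Cfsg.Geo.specialLinear (Fin 7) F) ∨
    Cfsg.Geo.InLinearResidualClass H := by
  classical
  have hq1 : 1 < Fintype.card F := Fintype.one_lt_card
  rcases Cfsg.Agent.Lib.Helper3.MaxC.cases_of_max (by norm_num) H hH with
    ⟨W, h0, h1, hW⟩ | ⟨t, m, D, hD, htm, hs1, hs2, hHD⟩ | ⟨r, K, hr, hrn, hK, hHK⟩ |
    ⟨n₁, n₂, e, P, h1, h2, h12, hs, hHT⟩ | ⟨F₀, r, P, hr, hcard, hHS⟩ |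
    ⟨r, R, hR, ⟨p, e, k, hp, hchar, hcard, hnk, hr, hrp, hcase⟩, hHR⟩ |
    ⟨m, t, e, P, hm, ht, hmt, hHW⟩ | ⟨f, hf, hev, h4, hHf⟩ | ⟨σ, f, hf, hHf⟩ |
    ⟨Q, hQ, hodd, hHQ⟩ | hres
  · exact Or.inl ⟨W, h0, h1, hW⟩
  · -- decomposition
    have ht2 := hD.two_le
    have hm0 := hD.pos
    have htle : t ≤ 7 := Nat.le_of_dvd (by norm_num) ⟨m, htm.symm⟩
    have ht5 : t = 7 := by
      interval_cases t <;> omega
    subst ht5
    have hm1 : m = 1 := by omega
    subst hm1
    right; left
    exact ⟨Cfsg.Agent.Lib.Helper3.MaxC.card_ge_five hq1 (by norm_num) hs1, D, hD, hHD⟩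
  · -- field
    have : r = 7 := (Nat.prime_dvd_prime_iff_eq hr (by norm_num)).1 hrn
    subst this
    right; right; left
    exact ⟨K, hK, hHK⟩
  · -- tensor: impossible
    exfalso
    have h1le : n₁ ≤ 7 := Nat.le_of_dvd (by norm_num) ⟨n₂, h12.symm⟩
    interval_cases n₁ <;> omega
  · right; right; right; left
    exact ⟨F₀, r, P, hr, hcard, hHS⟩
  · -- class 6
    have hk0 : k ≠ 0 := by
      rintro rfl
      rw [pow_zero] at hnk
      omega
    have hr5 : r = 7 := by
      have h5 : (7 : ℕ) ∣ r ^ k := by rw [← hnk]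
      exact (Cfsg.Agent.Lib.Helper3.MaxC.prime_eq_of_dvd_pow hr (by norm_num) h5).symm
    subst hr5
    rcases hcase with ⟨-, hoe, hdiv, hd1, hmin⟩ | ⟨h2, -, -⟩
    · right; right; right; right; left
      refine ⟨⟨p, hp, hchar, ?_⟩, R, hR, hHR⟩
      rcases Cfsg.Agent.Lib.Helper3.MaxC.c6_arith_7 hp hoe hdiv hd1 hmin with ⟨rfl, hp7⟩ | ⟨rfl, hp7⟩
      · left
        rw [pow_one] at hcard
        exact ⟨hcard, hp7⟩
      · right
        exact ⟨hcard, hp7⟩
    · omega
  · -- wreath: impossible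
    exfalso
    have h9 := Cfsg.Agent.Lib.Helper3.MaxC.nine_le_pow hm ht
    have hmle : m ≤ 7 := by
      have : m ^ 1 ≤ m ^ t := Nat.pow_le_pow_right (by omega) (by omega)
      rw [pow_one] at this
      omega
    have hmd : m ∣ 7 := by
      rw [← hmt]
      exact dvd_pow_self m (by omega)
    have hm7 : m = 7 := by
      interval_cases m <;> omega
    subst hm7
    have : (7 : ℕ) ^ 2 ≤ 7 ^ t := Nat.pow_le_pow_right (by norm_num) ht
    omega
  · -- symplectic: impossible
    exfalso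
    rcases hev with ⟨j, hj⟩
    omega
  · iterate 6 right
    left
    exact ⟨σ, f, hf, hHf⟩
  · iterate 5 right
    left
    exact ⟨hodd, Q, hQ, hHQ⟩
  · iterate 7 right
    exact hres

end Cfsg.Agent.S5808
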