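import Mathlib
import Cfsg.Statements.S5885
import Cfsg.Agent.Lib.Lead.SecondMax

set_option autoImplicit false

open Cfsg

namespace Cfsg.Agent.S5885

theorem result {G : Type*} [Group G]
    [Finite G] (n : ℕ) (hodd : Odd n)
    (hA : ∀ P : Subgroup (Equiv.Perm (Fin n)), MulAction.IsPreprimitive P (Fin n) → alternatingGroup (Fin n) ≤ P)
    (M : Subgroup G) (hM : IsCoatom M) (hn : M.index = n) (H : Subgroup G) (hHM : H ≤ M)
    (hmax : IsCoatom (H.subgroupOf M)) (K : Subgroup G) (hK : IsCoatom K) (hHK : H ≤ K) :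
    IsCoatom (H.subgroupOf K) := by
  exact Cfsg.Agent.Lib.Lead.SecondMax.main n hodd hA M hM hn H hHM hmax K hK hHK

end Cfsg.Agent.S5885
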