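import Mathlib
import Cfsg.Agent.Lib.Helper5.PSL2Max4
import Cfsg.Statements.S5893

set_option autoImplicit false
open Cfsg
open Matrix Cfsg.Agent.Lib.Helper4 Cfsg.Agent.Lib.Helper5.Mob Cfsg.Agent.Lib.Helper5.MobPGL
  Cfsg.Agent.Lib.Helper5.MobWild Cfsg.Agent.Lib.Helper5.MobRat Cfsg.Agent.Lib.Helper5.DicksonBorel
  Cfsg.Agent.Lib.Helper5.DicksonMain Cfsg.Agent.Lib.Helper5.DicksonOrders
  Cfsg.Agent.Lib.Helper5.DicksonMax Cfsg.Agent.Lib.Helper5.PSL2Tori
open scoped LinearAlgebra.Projectivization MatrixGroups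

namespace Cfsg.Agent.S5893

/-- Let F be a finite field of even order q ≥ 4 and let M be a maximal subgroup of PSL₂(F) (= SL₂(F) = PGL₂(F)). Then one of the following holds: |M| = q(q − 1) (the stabiliser of a point of the projective line, elementary abelian of order q extended by a cyclic group of order q − 1); M is dihedral of order 2(q − 1); M is dihedral of order 2(q + 1); or q = q₀^r for a prime r with q₀ ≠ 2 and M ≅ PSL₂(F₀) with |F₀| = q₀. -/
theorem result {F : Type*} [Field F] [Fintype F]
    (heven : Even (Fintype.card F)) (h4 : 4 ≤ Fintype.card F) (M : Subgroup (Matrix.ProjectiveSpecialLinearGroup (Fin 2) F)) (hM : IsCoatom M) :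
    Nat.card M = Fintype.card F * (Fintype.card F - 1) ∨
    Nonempty (M ≃* DihedralGroup (Fintype.card F - 1)) ∨
    Nonempty (M ≃* DihedralGroup (Fintype.card F + 1)) ∨
    (∃ (F₀ : Type) (_ : Field F₀) (_ : Fintype F₀) (r : ℕ), r.Prime ∧ Fintype.card F₀ ≠ 2 ∧
        Fintype.card F = Fintype.card F₀ ^ r ∧ Nonempty (M ≃* Matrix.ProjectiveSpecialLinearGroup (Fin 2) F₀)) := by
  classical
  -- the characteristic is two
  obtain ⟨p, hp⟩ := CharP.exists F
  have hpp : Fact p.Prime := ⟨CharP.char_is_prime F p⟩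
  obtain ⟨n, -, hn⟩ := FiniteField.card F p
  have hp2 : p = 2 := by
    rw [hn] at heven
    exact (Nat.Prime.even_iff hpp.out).mp (Nat.even_pow.mp heven).1
  subst hp2
  have : CharP (AlgebraicClosure F) 2 :=
    charP_of_injective_algebraMap (algebraMap F (AlgebraicClosure F)).injective 2
  set j := algebraMap F (AlgebraicClosure F) with hj
  have hd : Nat.gcd 2 (Fintype.card F - 1) = 1 :=
    gcd_two_of_even (Nat.even_iff.mp heven) Fintype.card_pos
  have hcardG : Nat.card (Matrix.ProjectiveSpecialLinearGroup (Fin 2) F) =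
      Fintype.card F * ((Fintype.card F - 1) * (Fintype.card F + 1)) := by
    have := card_PSL2_mul (F := F)
    rw [hd, one_mul] at this
    exact this
  -- `M` is not trivial
  have hM2 : 2 ≤ Nat.card M := by
    by_contra hlt
    have hpos : 0 < Nat.card M := Nat.card_pos
    have h1 : Nat.card M = 1 := by omega
    have hbot : M = ⊥ := Subgroup.card_eq_one.mp h1
    have h2 : 2 ∣ Nat.card (Matrix.ProjectiveSpecialLinearGroup (Fin 2) F) := by
      rw [hcardG]
      exact Dvd.dvd.mul_right (even_iff_two_dvd.mp heven) _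
    obtain ⟨g, hg⟩ := exists_prime_orderOf_dvd_card' 2 h2
    have h3 : M < Subgroup.zpowers g := by
      rw [hbot, bot_lt_iff_ne_bot, Ne, Subgroup.zpowers_eq_bot]
      rintro rfl
      rw [orderOf_one] at hg
      omega
    have h7 := hM.2 _ h3
    have h5 : Nat.card (Subgroup.zpowers g) = 2 := by rw [Nat.card_zpowers, hg]
    rw [h7, Subgroup.card_top, hcardG] at h5
    have h6 : 4 * ((4 - 1) * (4 + 1)) ≤
        Fintype.card F * ((Fintype.card F - 1) * (Fintype.card F + 1)) :=
      Nat.mul_le_mul h4 (Nat.mul_le_mul (by omega) (by omega))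
    omega
  by_cases hfix : ∃ z : ℙ (AlgebraicClosure F) (Fin 2 → AlgebraicClosure F),
      ∀ g : img j M, g • z = z
  · left
    obtain ⟨z, hz⟩ := hfix
    have := max_of_fixed j 2 M (by omega) hM hM2 z hz
    rw [hd, one_mul] at this
    exact this
  have hH2 : 2 ≤ Nat.card (img j M) := by
    rw [← Nat.card_congr (imgIso j M).toEquiv]; exact hM2
  rcases (subMob (img j M) 2).cases hH2 with h | ⟨x, hn2, -⟩ | h | h | h | h | h
  · exact absurd h hfix
  · have := max_of_orbit_two j 2 M (by omega) hM x hn2 hfix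
    rw [hd, Nat.div_one, Nat.div_one] at this
    rcases this with h | h
    · right; left; exact h
    · right; right; left; exact h
  · exact absurd rfl (IsMob.Tame3.ne_two _ h)
  · exact absurd rfl (IsMob.Tame3.ne_two _ h)
  · exact absurd rfl (IsMob.Tame3.ne_two _ h)
  · right; right; right
    exact max_of_wild_even j 2 M h4 heven hM h
  · have := IsMob.WildA5.eq_three _ h
    omega

end Cfsg.Agent.S5893
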