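import Cfsg.Statements.S5905
import Mathlib.Tactic

set_option autoImplicit false
open Cfsg

namespace Cfsg.Agent.S5905

open Equiv

variable {Ω : Type*} [Fintype Ω] [DecidableEq Ω] {b : ℕ} (f : Ω → Fin b)

/-- the partition stabilizer as a subgroup -/
def Wsub : Subgroup (Equiv.Perm Ω) where
  carrier := {g : Equiv.Perm Ω | ∀ x y : Ω, f x = f y ↔ f (g x) = f (g y)}
  one_mem' := by intro x y; simp
  mul_mem' := by
    intro g h hg hh x y
    rw [hh x y, hg (h x) (h y)]
    simp
  inv_mem' := by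
    intro g hg x y
    have := hg (g⁻¹ x) (g⁻¹ y)
    have e1 : g (g⁻¹ x) = x := by simp
    have e2 : g (g⁻¹ y) = y := by simp
    rw [e1, e2] at this
    exact this.symm

lemma closure_eq : Subgroup.closure {g : Equiv.Perm Ω | ∀ x y : Ω, f x = f y ↔ f (g x) = f (g y)}
    = Wsub f := Subgroup.closure_eq (Wsub f)

lemma swap_mem {s t : Ω} (h : f s = f t) : swap s t ∈ Wsub f := by
  have key : ∀ z, f (swap s t z) = f z := by
    intro z
    by_cases hzs : z = s
    · subst hzs; rw [swap_apply_left]; exact h.symm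
    · by_cases hzt : z = t
      · subst hzt; rw [swap_apply_right]; exact h
      · rw [swap_apply_of_ne_of_ne hzs hzt]
  intro x y
  rw [key x, key y]

variable {f}

/-- coordinates -/
noncomputable def coord {a : ℕ} (hf : ∀ i : Fin b, Nat.card {x : Ω // f x = i} = a) :
    Ω ≃ Fin b × Fin a :=
  ((Equiv.sigmaFiberEquiv f).symm.trans
    (Equiv.sigmaCongrRight (fun i => Fintype.equivFinOfCardEq
      (by rw [← Nat.card_eq_fintype_card]; exact hf i)))).trans (Equiv.sigmaEquivProd _ _)

lemma coord_fst {a : ℕ} (hf : ∀ i : Fin b, Nat.card {x : Ω // f x = i} = a) (x : Ω) :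
    (coord hf x).1 = f x := by
  simp [coord, Equiv.sigmaFiberEquiv]

lemma exists_fibre_perm {a : ℕ} (hf : ∀ i : Fin b, Nat.card {x : Ω // f x = i} = a)
    (σ : Equiv.Perm (Fin b)) : ∃ h ∈ Wsub f, ∀ x, f (h x) = σ (f x) := by
  let e := coord hf
  let h : Equiv.Perm Ω := e.trans ((Equiv.prodCongr σ (Equiv.refl (Fin a))).trans e.symm)
  have hh : ∀ x, f (h x) = σ (f x) := by
    intro x
    rw [← coord_fst hf (h x), ← coord_fst hf x]
    simp [h, e]
  refine ⟨h, ?_, hh⟩
  intro x y
  rw [hh x, hh y]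
  exact σ.injective.eq_iff.symm

lemma exists_perm_two (i j i' j' : Fin b) (hij : i ≠ j) (hij' : i' ≠ j') :
    ∃ σ : Equiv.Perm (Fin b), σ i = i' ∧ σ j = j' := by
  set j1 := swap i i' j with hj1
  have hj1i' : j1 ≠ i' := by
    intro h
    have : swap i i' j = swap i i' i := by rw [swap_apply_left]; exact h
    exact hij ((swap i i').injective this).symm
  refine ⟨swap j1 j' * swap i i', ?_, ?_⟩
  · rw [Perm.mul_apply, swap_apply_left, swap_apply_of_ne_of_ne hj1i'.symm hij']
  · rw [Perm.mul_apply, ← hj1, swap_apply_left]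

lemma two_trans {a : ℕ} (hf : ∀ i : Fin b, Nat.card {x : Ω // f x = i} = a)
    (p q u v : Ω) (hpq : f p ≠ f q) (huv : f u ≠ f v) :
    ∃ h ∈ Wsub f, h p = u ∧ h q = v := by
  obtain ⟨σ, hσ1, hσ2⟩ := exists_perm_two (f p) (f q) (f u) (f v) hpq huv
  obtain ⟨h1, hh1, hh1f⟩ := exists_fibre_perm hf σ
  have hp1 : f (h1 p) = f u := by rw [hh1f, hσ1]
  have hq1 : f (h1 q) = f v := by rw [hh1f, hσ2]
  have hne1 : h1 q ≠ h1 p := fun h => huv (by rw [← hp1, ← hq1, h])
  have hne2 : h1 q ≠ u := fun h => huv (by rw [← hq1, h])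
  have hne3 : u ≠ v := fun h => huv (by rw [h])
  refine ⟨swap (h1 q) v * swap (h1 p) u * h1,
    (Wsub f).mul_mem ((Wsub f).mul_mem (swap_mem f hq1) (swap_mem f hp1)) hh1, ?_, ?_⟩
  · rw [Perm.mul_apply, Perm.mul_apply, swap_apply_left, swap_apply_of_ne_of_ne hne2.symm hne3]
  · rw [Perm.mul_apply, Perm.mul_apply, swap_apply_of_ne_of_ne hne1 hne2, swap_apply_left]

/-- Let Ω be a finite set and f : Ω → Fin b a map onto b ≥ 2 labels whose fibres all have the same size a ≥ 2 (a partition of Ω into b blocks of size a, so |Ω| = ab). Then the stabilizer of this partition in the symmetric group on Ω — the permutations g such that x and y lie in the same block exactly when g x and g y do, a group isomorphic to the imprimitive wreath product S_a ≀ S_b — is a maximal subgroup of the symmetric group. -/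
theorem result {Ω : Type*} [Fintype Ω] [DecidableEq Ω] (a b : ℕ) (ha : 2 ≤ a) (hb : 2 ≤ b)
    (f : Ω → Fin b) (hf : ∀ i : Fin b, Nat.card {x : Ω // f x = i} = a) :
    IsCoatom (Subgroup.closure {g : Equiv.Perm Ω | ∀ x y : Ω, f x = f y ↔ f (g x) = f (g y)}) := by
  rw [closure_eq]
  -- points
  have hfib : ∀ i : Fin b, ∃ x y : Ω, x ≠ y ∧ f x = i ∧ f y = i := by
    intro i
    have h1 : 1 < Nat.card {x : Ω // f x = i} := by rw [hf i]; omega
    rw [Nat.card_eq_fintype_card, Fintype.one_lt_card_iff] at h1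
    obtain ⟨x, y, hxy⟩ := h1
    exact ⟨x.1, y.1, fun h => hxy (Subtype.ext h), x.2, y.2⟩
  constructor
  · -- ≠ ⊤
    intro htop
    obtain ⟨x, y, hxy, hx, hy⟩ := hfib ⟨0, by omega⟩
    obtain ⟨z, _, _, hz, _⟩ := hfib ⟨1, by omega⟩
    have hzx : f z ≠ f x := by
      rw [hz, hx]; intro h; have := congrArg Fin.val h; simp at this
    have hmem : swap y z ∈ Wsub f := by rw [htop]; exact Subgroup.mem_top _
    have := hmem x y
    have hxz : x ≠ z := fun h => hzx (by rw [h])
    rw [swap_apply_of_ne_of_ne hxy hxz, swap_apply_left] at this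
    exact hzx (this.mp (hx.trans hy.symm)).symm
  · intro L hL
    obtain ⟨hle, hnot⟩ := hL.le, hL.not_ge
    -- an element of L not in W
    obtain ⟨g, hgL, hgW⟩ : ∃ g ∈ L, g ∉ Wsub f := by
      by_contra h; push Not at h; exact hnot h
    -- WLOG f x = f y, f (g x) ≠ f (g y)
    obtain ⟨g, hgL, x, y, hxy, hgxy⟩ : ∃ g ∈ L, ∃ x y : Ω, f x = f y ∧ f (g x) ≠ f (g y) := by
      have : ¬ ∀ x y : Ω, f x = f y ↔ f (g x) = f (g y) := hgW
      push Not at this
      obtain ⟨x, y, hxy⟩ := this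
      rcases hxy with ⟨h1, h2⟩ | ⟨h1, h2⟩
      · exact ⟨g, hgL, x, y, h1, h2⟩
      · refine ⟨g⁻¹, L.inv_mem hgL, g x, g y, h2, ?_⟩
        simpa using h1
    -- the cross swap
    have hcross : swap (g x) (g y) ∈ L := by
      have h1 : swap x y ∈ L := hle (swap_mem f hxy)
      have h2 : g * swap x y * g⁻¹ ∈ L := L.mul_mem (L.mul_mem hgL h1) (L.inv_mem hgL)
      rw [Equiv.mul_swap_eq_swap_mul, mul_inv_cancel_right] at h2
      exact h2
    -- all swaps in L
    have hall : ∀ u v : Ω, u ≠ v → swap u v ∈ L := by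
      intro u v _
      by_cases huv : f u = f v
      · exact hle (swap_mem f huv)
      · obtain ⟨h, hhW, hu, hv⟩ := two_trans hf (g x) (g y) u v hgxy huv
        have hhL := hle hhW
        have h2 : h * swap (g x) (g y) * h⁻¹ ∈ L := L.mul_mem (L.mul_mem hhL hcross) (L.inv_mem hhL)
        rw [Equiv.mul_swap_eq_swap_mul, mul_inv_cancel_right, hu, hv] at h2
        exact h2
    rw [eq_top_iff, ← Equiv.Perm.closure_isSwap, Subgroup.closure_le]
    rintro σ ⟨u, v, huv, rfl⟩
    exact hall u v huv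

end Cfsg.Agent.S5905
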