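import Cfsg.Statements.S5894
import Cfsg.Agent.S5905
import Mathlib.Tactic

set_option autoImplicit false
open Cfsg

namespace Cfsg.Agent.S5894

open Equiv MulAction
open scoped Pointwise

/-- transfer of coatoms along point-stabilizer iso -/
lemma coatom_in_stab {α : Type*} [Fintype α] [DecidableEq α] (p0 : α) (B : Set α)
    (hp0 : p0 ∈ B)
    (hco : IsCoatom (stabilizer (Perm {x : α // x ≠ p0}) {x : {x : α // x ≠ p0} | x.1 ∈ B})) :
    IsCoatom (((stabilizer (Perm α) ({p0} : Set α)) ⊓ stabilizer (Perm α) B).subgroupOf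
      (stabilizer (Perm α) ({p0} : Set α))) := by
  classical
  set M := stabilizer (Perm α) ({p0} : Set α) with hM
  have hMmem : ∀ g : Perm α, g ∈ M ↔ g p0 = p0 := by
    intro g
    rw [hM, stabilizer_singleton, mem_stabilizer_iff]
    rfl
  let φ : Perm {x : α // x ≠ p0} →* Perm α := Perm.ofSubtype
  have hφM : ∀ σ, φ σ ∈ M := by
    intro σ
    rw [hMmem]
    exact Perm.ofSubtype_apply_of_not_mem σ (by simp)
  let ψ : Perm {x : α // x ≠ p0} →* M := φ.codRestrict M hφM
  have hψinj : Function.Injective ψ := by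
    intro a b hab
    apply Perm.ofSubtype_injective
    exact congrArg Subtype.val hab
  have hψsurj : Function.Surjective ψ := by
    rintro ⟨g, hg⟩
    have hg0 : g p0 = p0 := (hMmem g).1 hg
    have h1 : ∀ x, (g x ≠ p0) ↔ (x ≠ p0) := by
      intro x
      constructor
      · intro h hx; apply h; rw [hx, hg0]
      · intro h hx; apply h; apply g.injective; rw [hx, hg0]
    refine ⟨g.subtypePerm h1, ?_⟩
    apply Subtype.ext
    show Perm.ofSubtype (g.subtypePerm h1) = g
    apply Perm.ofSubtype_subtypePerm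
    intro x hx hx0
    apply hx
    rw [hx0, hg0]
  let e : Perm {x : α // x ≠ p0} ≃* M := MulEquiv.ofBijective ψ ⟨hψinj, hψsurj⟩
  rw [← Subgroup.isCoatom_comap e]
  convert hco using 1
  ext σ
  rw [Subgroup.mem_comap, Subgroup.mem_subgroupOf, Subgroup.mem_inf]
  have key : (Perm.ofSubtype σ ∈ stabilizer (Perm α) B) ↔
      σ ∈ stabilizer (Perm {x : α // x ≠ p0}) {x : {x : α // x ≠ p0} | x.1 ∈ B} := by
    rw [mem_stabilizer_set, mem_stabilizer_set]
    constructor
    · intro h x
      have := h x.1
      rw [Perm.smul_def, Perm.ofSubtype_apply_coe] at this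
      exact this
    · intro h x
      by_cases hx : x = p0
      · subst hx
        rw [Perm.smul_def, Perm.ofSubtype_apply_of_not_mem σ (by simp)]
      · have := h ⟨x, hx⟩
        rw [Perm.smul_def, Perm.ofSubtype_apply_of_mem σ hx]
        exact this
  constructor
  · rintro ⟨-, h⟩
    exact key.1 h
  · intro h
    exact ⟨hφM σ, key.2 h⟩

theorem result (m : ℕ) (hm : 2 ≤ m) :
    ∃ M H K : Subgroup (Equiv.Perm (Fin (2 * m))), IsCoatom M ∧ M.index = 2 * m ∧ H ≤ M ∧ IsCoatom (H.subgroupOf M) ∧
      IsCoatom K ∧ H ≤ K ∧ ¬ IsCoatom (H.subgroupOf K) := by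
  classical
  let p0 : Fin (2 * m) := ⟨0, by omega⟩
  let p1 : Fin (2 * m) := ⟨1, by omega⟩
  let pm : Fin (2 * m) := ⟨m, by omega⟩
  let B : Set (Fin (2 * m)) := {i | i.val < m}
  let f : Fin (2 * m) → Fin 2 := fun i => if i.val < m then 0 else 1
  have hp0B : p0 ∈ B := by show (0 : ℕ) < m; omega
  have hp1B : p1 ∈ B := by show (1 : ℕ) < m; omega
  have hpmB : pm ∉ B := by show ¬ (m < m); omega
  have hp01 : p0 ≠ p1 := by
    intro h; have := congrArg Fin.val h; simp [p0, p1] at this
  have hf0 : ∀ x, f x = 0 ↔ x ∈ B := by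
    intro x
    show (if x.val < m then (0 : Fin 2) else 1) = 0 ↔ x.val < m
    split_ifs with h <;> simp [h]
  have hfib : ∀ i : Fin 2, Nat.card {x : Fin (2 * m) // f x = i} = m := by
    intro i
    rw [Nat.card_eq_fintype_card, Fintype.card_subtype]
    fin_cases i
    · have : (Finset.univ.filter fun x : Fin (2 * m) => f x = 0)
          = Finset.univ.filter fun x : Fin (2 * m) => x.val < m := by
        ext x; simp only [Finset.mem_filter, Finset.mem_univ, true_and]; exact hf0 x
      show (Finset.univ.filter fun x : Fin (2 * m) => f x = 0).card = m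
      rw [this, Fin.card_filter_val_lt]
      omega
    · have h2 : (Finset.univ.filter fun x : Fin (2 * m) => f x = 1)
          = (Finset.univ.filter fun x : Fin (2 * m) => x.val < m)ᶜ := by
        ext x
        simp only [Finset.mem_filter, Finset.mem_univ, true_and, Finset.mem_compl]
        show f x = 1 ↔ ¬ (x ∈ B)
        rw [← hf0 x]
        have : ∀ j : Fin 2, j = 1 ↔ ¬ j = 0 := by decide
        exact this _
      show (Finset.univ.filter fun x : Fin (2 * m) => f x = 1).card = m
      rw [h2, Finset.card_compl, Fin.card_filter_val_lt, Fintype.card_fin]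
      omega
  set M := stabilizer (Perm (Fin (2 * m))) ({p0} : Set (Fin (2 * m))) with hM
  set SB := stabilizer (Perm (Fin (2 * m))) B with hSB
  set K := S5905.Wsub f with hK
  have hMmem : ∀ g : Perm (Fin (2 * m)), g ∈ M ↔ g p0 = p0 := by
    intro g
    rw [hM, stabilizer_singleton, mem_stabilizer_iff]
    rfl
  have hSBK : SB ≤ K := by
    intro g hg
    rw [hSB, mem_stabilizer_set] at hg
    have key : ∀ x, f (g x) = f x := by
      intro x
      have h1 := hg x
      rw [Perm.smul_def, ← hf0, ← hf0] at h1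
      have : ∀ i j : Fin 2, (i = 0 ↔ j = 0) → i = j := by decide
      exact this _ _ h1
    intro x y
    rw [key x, key y]
  have hKco : IsCoatom K := by
    have := S5905.result (Ω := Fin (2 * m)) m 2 hm le_rfl f hfib
    rwa [S5905.closure_eq] at this
  refine ⟨M, M ⊓ SB, K, ?_, ?_, inf_le_left, ?_, hKco, inf_le_right.trans hSBK, ?_⟩
  · -- M coatom
    apply Perm.isCoatom_stabilizer
    · exact ⟨p0, rfl⟩
    · exact ⟨p1, fun h => hp01 (Set.mem_singleton_iff.1 h).symm⟩
    · rw [Set.ncard_singleton, Nat.card_eq_fintype_card, Fintype.card_fin]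
      omega
  · -- index
    rw [hM, stabilizer_singleton, index_stabilizer_of_transitive, Nat.card_eq_fintype_card,
      Fintype.card_fin]
  · -- H coatom in M
    apply coatom_in_stab p0 B hp0B
    apply Perm.isCoatom_stabilizer
    · exact ⟨⟨p1, hp01.symm⟩, hp1B⟩
    · refine ⟨⟨pm, ?_⟩, hpmB⟩
      intro h; exact hpmB (h ▸ hp0B)
    · rw [Nat.card_eq_fintype_card, Fintype.card_subtype_compl, Fintype.card_fin]
      simp only [Fintype.card_unique]
      omega
  · -- not coatom in K
    intro hco
    have hlt : (M ⊓ SB).subgroupOf K < SB.subgroupOf K := by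
      refine lt_of_le_of_ne (Subgroup.subgroupOf_mono K inf_le_right) ?_
      intro heq
      have hsw : swap p0 p1 ∈ SB := by
        rw [hSB, mem_stabilizer_set]
        intro x
        rw [Perm.smul_def]
        by_cases hx0 : x = p0
        · subst hx0; rw [swap_apply_left]; exact ⟨fun _ => hp0B, fun _ => hp1B⟩
        · by_cases hx1 : x = p1
          · subst hx1; rw [swap_apply_right]; exact ⟨fun _ => hp1B, fun _ => hp0B⟩
          · rw [swap_apply_of_ne_of_ne hx0 hx1]
      have h1 : (⟨swap p0 p1, hSBK hsw⟩ : K) ∈ SB.subgroupOf K := by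
        rw [Subgroup.mem_subgroupOf]; exact hsw
      rw [← heq, Subgroup.mem_subgroupOf] at h1
      have h2 : swap p0 p1 ∈ M := h1.1
      rw [hMmem, swap_apply_left] at h2
      exact hp01 h2.symm
    have htop := hco.2 _ hlt
    rw [Subgroup.subgroupOf_eq_top] at htop
    obtain ⟨h, hhK, hh⟩ := S5905.exists_fibre_perm hfib (swap (0 : Fin 2) 1)
    have hhSB : h ∈ SB := htop hhK
    rw [hSB, mem_stabilizer_set] at hhSB
    have h3 := (hhSB p0).2 hp0B
    rw [Perm.smul_def, ← hf0, hh p0, (hf0 p0).2 hp0B, swap_apply_left] at h3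
    exact absurd h3 (by decide)

end Cfsg.Agent.S5894
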