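import Cfsg.Statements.S5895
import Mathlib.Tactic
import Mathlib.LinearAlgebra.Projectivization.Action
import Mathlib.LinearAlgebra.AffineSpace.AffineEquiv
import Mathlib.GroupTheory.GroupAction.Primitive
import Mathlib.GroupTheory.GroupAction.MultipleTransitivity

set_option autoImplicit false
open Cfsg

namespace Cfsg.Agent.S5895

open scoped LinearAlgebra.Projectivization

section gen

variable {K V : Type*} [Field K] [AddCommGroup V] [Module K V]

lemma apply_eq (g : V ≃ᵃ[K] V) (x : V) : g x = g.linear x + g 0 := by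
  have := g.map_vadd 0 x
  simpa using this

/-- stabilizer of `0` -/
def M0 (K V : Type*) [Field K] [AddCommGroup V] [Module K V] : Subgroup (V ≃ᵃ[K] V) where
  carrier := {g | g 0 = 0}
  one_mem' := rfl
  mul_mem' := by
    intro a b ha hb
    simp only [Set.mem_ofPred_eq, AffineEquiv.coe_mul, Function.comp_apply] at *
    rw [hb, ha]
  inv_mem' := by
    intro a ha
    simp only [Set.mem_ofPred_eq] at *
    rw [AffineEquiv.inv_def]
    have : a.symm (a 0) = 0 := a.symm_apply_apply 0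
    rw [ha] at this
    exact this

lemma mem_M0 (g : V ≃ᵃ[K] V) : g ∈ M0 K V ↔ g 0 = 0 := Iff.rfl

lemma toAff_mem_M0 (B : V ≃ₗ[K] V) : B.toAffineEquiv ∈ M0 K V := by
  rw [mem_M0]; simp

lemma decomp (g : V ≃ᵃ[K] V) :
    g = AffineEquiv.constVAdd K V (g 0) * g.linear.toAffineEquiv := by
  ext x
  rw [AffineEquiv.coe_mul, Function.comp_apply, AffineEquiv.constVAdd_apply,
    LinearEquiv.coe_toAffineEquiv, vadd_eq_add, apply_eq g x, add_comm]

lemma conj_trans (B : V ≃ₗ[K] V) (v : V) :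
    B.toAffineEquiv * AffineEquiv.constVAdd K V v * (B.toAffineEquiv)⁻¹
      = AffineEquiv.constVAdd K V (B v) := by
  ext x
  simp only [AffineEquiv.coe_mul, Function.comp_apply, AffineEquiv.constVAdd_apply, vadd_eq_add,
    LinearEquiv.coe_toAffineEquiv, map_add]
  congr 1
  have : (B.toAffineEquiv)⁻¹ x = B.symm x := rfl
  rw [this, LinearEquiv.apply_symm_apply]

lemma exists_linearEquiv_apply (v w : V) (hv : v ≠ 0) (hw : w ≠ 0) :
    ∃ B : V ≃ₗ[K] V, B v = w := by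
  let f : (K ∙ v) ≃ₗ[K] (K ∙ w) :=
    (LinearEquiv.toSpanNonzeroSingleton K V v hv).symm ≪≫ₗ
      (LinearEquiv.toSpanNonzeroSingleton K V w hw)
  obtain ⟨g, hg⟩ := Submodule.exists_linearEquiv_restrict_eq f
  refine ⟨g, ?_⟩
  have hv' : v ∈ K ∙ v := Submodule.mem_span_singleton_self v
  have := hg ⟨v, hv'⟩
  rw [← this]
  have h1 : (LinearEquiv.toSpanNonzeroSingleton K V v hv).symm ⟨v, hv'⟩ = 1 := by
    rw [LinearEquiv.symm_apply_eq]
    ext
    simp [LinearEquiv.toSpanNonzeroSingleton_apply]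
  simp only [f, LinearEquiv.trans_apply, h1]
  simp [LinearEquiv.toSpanNonzeroSingleton_apply]

theorem M0_isCoatom (hV : ∃ v : V, v ≠ 0) : IsCoatom (M0 K V) := by
  obtain ⟨v₀, hv₀⟩ := hV
  constructor
  · intro h
    have : AffineEquiv.constVAdd K V v₀ ∈ M0 K V := h ▸ Subgroup.mem_top _
    rw [mem_M0, AffineEquiv.constVAdd_apply, vadd_eq_add, add_zero] at this
    exact hv₀ this
  · intro J hJ
    obtain ⟨g, hgJ, hgM⟩ : ∃ g ∈ J, g ∉ M0 K V := by
      by_contra h; push Not at h; exact hJ.not_ge h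
    have hv : g 0 ≠ 0 := hgM
    have hlin : ∀ B : V ≃ₗ[K] V, B.toAffineEquiv ∈ J := fun B => hJ.le (toAff_mem_M0 B)
    have hτ : AffineEquiv.constVAdd K V (g 0) ∈ J := by
      have h1 := decomp g
      have h2 : AffineEquiv.constVAdd K V (g 0) = g * (g.linear.toAffineEquiv)⁻¹ := by
        rw [eq_mul_inv_iff_mul_eq]; exact h1.symm
      rw [h2]
      exact J.mul_mem hgJ (J.inv_mem (hlin _))
    have hall : ∀ w : V, AffineEquiv.constVAdd K V w ∈ J := by
      intro w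
      by_cases hw : w = 0
      · rw [hw, AffineEquiv.constVAdd_zero]; exact J.one_mem
      · obtain ⟨B, hB⟩ := exists_linearEquiv_apply (K := K) (g 0) w hv hw
        rw [← hB, ← conj_trans]
        exact J.mul_mem (J.mul_mem (hlin B) hτ) (J.inv_mem (hlin B))
    rw [eq_top_iff]
    intro h _
    rw [decomp h]
    exact J.mul_mem (hall _) (hlin _)

/-- the natural action on points -/
@[reducible] def affAction : MulAction (V ≃ᵃ[K] V) V where
  smul g v := g v
  one_smul _ := rfl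
  mul_smul _ _ _ := rfl

theorem M0_index [Finite V] : (M0 K V).index = Nat.card V := by
  letI := affAction (K := K) (V := V)
  have htr : MulAction.IsPretransitive (V ≃ᵃ[K] V) V := by
    refine ⟨fun x y => ⟨AffineEquiv.constVAdd K V (y - x), ?_⟩⟩
    change AffineEquiv.constVAdd K V (y - x) x = y
    simp
  have hst : MulAction.stabilizer (V ≃ᵃ[K] V) (0 : V) = M0 K V := by
    ext g; rfl
  rw [← hst]
  exact MulAction.index_stabilizer_of_transitive _ _

/-- linear parts stabilising the line through `v₀` -/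
def Kp (v₀ : V) (hv₀ : v₀ ≠ 0) : Subgroup (V ≃ᵃ[K] V) :=
  (MulAction.stabilizer (V ≃ₗ[K] V) (Projectivization.mk K v₀ hv₀)).comap AffineEquiv.linearHom

lemma mem_Kp (v₀ : V) (hv₀ : v₀ ≠ 0) (g : V ≃ᵃ[K] V) :
    g ∈ Kp v₀ hv₀ ↔ ∃ a : Kˣ, a • v₀ = g.linear v₀ := by
  change g.linear • Projectivization.mk K v₀ hv₀ = Projectivization.mk K v₀ hv₀ ↔ _
  rw [Projectivization.smul_mk, Projectivization.mk_eq_mk_iff]
  rfl

lemma linearHom_surj : Function.Surjective (AffineEquiv.linearHom : (V ≃ᵃ[K] V) →* (V ≃ₗ[K] V)) :=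
  fun B => ⟨B.toAffineEquiv, rfl⟩

lemma nontrivial_proj (v₀ v₁ : V) (hv₀ : v₀ ≠ 0) (hv₁ : v₁ ∉ K ∙ v₀) : Nontrivial (ℙ K V) := by
  have hv₁0 : v₁ ≠ 0 := fun h => hv₁ (h ▸ Submodule.zero_mem _)
  refine ⟨Projectivization.mk K v₁ hv₁0, Projectivization.mk K v₀ hv₀, ?_⟩
  intro h
  rw [Projectivization.mk_eq_mk_iff] at h
  obtain ⟨a, ha⟩ := h
  apply hv₁
  rw [← ha]
  exact Submodule.smul_mem _ _ (Submodule.mem_span_singleton_self v₀)

theorem Kp_isCoatom (v₀ v₁ : V) (hv₀ : v₀ ≠ 0) (hv₁ : v₁ ∉ K ∙ v₀) : IsCoatom (Kp (K := K) v₀ hv₀) := by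
  haveI := nontrivial_proj v₀ v₁ hv₀ hv₁
  haveI : MulAction.IsPreprimitive (V ≃ₗ[K] V) (ℙ K V) :=
    MulAction.isPreprimitive_of_is_two_pretransitive
      (Projectivization.linearEquiv_is_two_pretransitive K V)
  exact Subgroup.isCoatom_comap_of_surjective linearHom_surj
    (MulAction.IsPreprimitive.isCoatom_stabilizer_of_isPreprimitive (V ≃ₗ[K] V)
      (Projectivization.mk K v₀ hv₀))

theorem H_isCoatom (v₀ v₁ : V) (hv₀ : v₀ ≠ 0) (hv₁ : v₁ ∉ K ∙ v₀) :
    IsCoatom ((M0 K V ⊓ Kp (K := K) v₀ hv₀).subgroupOf (M0 K V)) := by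
  haveI := nontrivial_proj v₀ v₁ hv₀ hv₁
  haveI : MulAction.IsPreprimitive (V ≃ₗ[K] V) (ℙ K V) :=
    MulAction.isPreprimitive_of_is_two_pretransitive
      (Projectivization.linearEquiv_is_two_pretransitive K V)
  rw [Subgroup.inf_subgroupOf_left]
  have hsurj : Function.Surjective
      ((AffineEquiv.linearHom : (V ≃ᵃ[K] V) →* (V ≃ₗ[K] V)).comp (M0 K V).subtype) :=
    fun B => ⟨⟨B.toAffineEquiv, toAff_mem_M0 B⟩, rfl⟩
  have := Subgroup.isCoatom_comap_of_surjective hsurj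
    (MulAction.IsPreprimitive.isCoatom_stabilizer_of_isPreprimitive
      (V ≃ₗ[K] V) (Projectivization.mk K v₀ hv₀))
  rw [← Subgroup.comap_comap] at this
  exact this

/-- the intermediate subgroup -/
def Lmid (v₀ : V) (hv₀ : v₀ ≠ 0) : Subgroup (V ≃ᵃ[K] V) where
  carrier := {g | g ∈ Kp (K := K) v₀ hv₀ ∧ g 0 ∈ K ∙ v₀}
  one_mem' := ⟨Subgroup.one_mem _, by
    change (0 : V) ∈ K ∙ v₀
    exact Submodule.zero_mem _⟩
  mul_mem' := by
    rintro g h ⟨hg, hg0⟩ ⟨hh, hh0⟩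
    refine ⟨Subgroup.mul_mem _ hg hh, ?_⟩
    change g (h 0) ∈ K ∙ v₀
    rw [apply_eq g (h 0)]
    refine Submodule.add_mem _ ?_ hg0
    obtain ⟨a, ha⟩ := (mem_Kp v₀ hv₀ g).mp hg
    obtain ⟨c, hc⟩ := Submodule.mem_span_singleton.mp hh0
    rw [← hc, map_smul, ← ha]
    exact Submodule.smul_mem _ _ (Submodule.smul_mem _ _ (Submodule.mem_span_singleton_self v₀))
  inv_mem' := by
    rintro g ⟨hg, hg0⟩
    refine ⟨Subgroup.inv_mem _ hg, ?_⟩
    obtain ⟨a, ha⟩ := (mem_Kp v₀ hv₀ g).mp hg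
    -- g⁻¹ 0 = g.linear.symm (-(g 0))
    have h1 : g (g⁻¹ 0) = 0 := by
      rw [AffineEquiv.inv_def]; exact g.apply_symm_apply 0
    rw [apply_eq g] at h1
    have h2 : g.linear (g⁻¹ 0) = -(g 0) := eq_neg_of_add_eq_zero_left h1
    have h3 : g⁻¹ 0 = g.linear.symm (-(g 0)) := by
      rw [← h2, LinearEquiv.symm_apply_apply]
    change g⁻¹ 0 ∈ K ∙ v₀
    rw [h3]
    obtain ⟨c, hc⟩ := Submodule.mem_span_singleton.mp hg0
    have ha' : (a : K) • v₀ = g.linear v₀ := ha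
    have h4 : g.linear.symm v₀ = ((a : K)⁻¹) • v₀ := by
      rw [LinearEquiv.symm_apply_eq, map_smul, ← ha', smul_smul, inv_mul_cancel₀ a.ne_zero, one_smul]
    rw [← hc, ← smul_neg, map_smul, map_neg, h4]
    exact Submodule.smul_mem _ _ (Submodule.neg_mem _
      (Submodule.smul_mem _ _ (Submodule.mem_span_singleton_self v₀)))

lemma trans_mem_Kp (v₀ : V) (hv₀ : v₀ ≠ 0) (w : V) :
    AffineEquiv.constVAdd K V w ∈ Kp (K := K) v₀ hv₀ := by
  rw [mem_Kp]
  exact ⟨1, by simp⟩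

theorem main [Finite V] (v₀ v₁ : V) (hv₀ : v₀ ≠ 0) (hv₁ : v₁ ∉ K ∙ v₀) :
    ∃ (M H K' : Subgroup (V ≃ᵃ[K] V)), IsCoatom M ∧ M.index = Nat.card V ∧ H ≤ M ∧
      IsCoatom (H.subgroupOf M) ∧ IsCoatom K' ∧ H ≤ K' ∧ ¬ IsCoatom (H.subgroupOf K') := by
  refine ⟨M0 K V, M0 K V ⊓ Kp (K := K) v₀ hv₀, Kp (K := K) v₀ hv₀, M0_isCoatom ⟨v₀, hv₀⟩, M0_index,
    inf_le_left, H_isCoatom v₀ v₁ hv₀ hv₁, Kp_isCoatom v₀ v₁ hv₀ hv₁, inf_le_right, ?_⟩
  intro hco
  have hLK : Lmid (K := K) v₀ hv₀ ≤ Kp (K := K) v₀ hv₀ := fun g hg => hg.1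
  have hHL : M0 K V ⊓ Kp (K := K) v₀ hv₀ ≤ Lmid (K := K) v₀ hv₀ := by
    rintro g ⟨hg1, hg2⟩
    refine ⟨hg2, ?_⟩
    rw [(mem_M0 g).mp hg1]
    exact Submodule.zero_mem _
  have hlt : (M0 K V ⊓ Kp (K := K) v₀ hv₀).subgroupOf (Kp (K := K) v₀ hv₀)
      < (Lmid (K := K) v₀ hv₀).subgroupOf (Kp (K := K) v₀ hv₀) := by
    refine lt_of_le_of_ne ?_ ?_
    · intro g hg
      rw [Subgroup.mem_subgroupOf] at hg ⊢
      exact hHL hg
    · intro heq
      have hmem : (⟨AffineEquiv.constVAdd K V v₀, trans_mem_Kp v₀ hv₀ v₀⟩ : Kp (K := K) v₀ hv₀)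
          ∈ (Lmid (K := K) v₀ hv₀).subgroupOf (Kp (K := K) v₀ hv₀) := by
        rw [Subgroup.mem_subgroupOf]
        refine ⟨trans_mem_Kp v₀ hv₀ v₀, ?_⟩
        change AffineEquiv.constVAdd K V v₀ 0 ∈ K ∙ v₀
        simp [Submodule.mem_span_singleton_self]
      rw [← heq, Subgroup.mem_subgroupOf] at hmem
      have := (mem_M0 _).mp hmem.1
      simp at this
      exact hv₀ this
  have htop := hco.2 _ hlt
  rw [Subgroup.subgroupOf_eq_top] at htop
  have := htop (trans_mem_Kp v₀ hv₀ v₁)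
  have h2 : AffineEquiv.constVAdd K V v₁ 0 ∈ K ∙ v₀ := this.2
  simp at h2
  exact hv₁ h2

end gen

/-- For every prime p and every d ≥ 2 there is a finite group G with a maximal subgroup M of index p^d and a maximal subgroup H of M that is not second maximal in G: some maximal subgroup K of G contains H without H being maximal in K. (One may take G the affine group V ⋊ GL(V) of V = 𝔽_p^d, M = GL(V), H the stabiliser in M of a line W of V, and K = V ⋊ H, with H < W ⋊ H < K.) So the prime-index hypothesis in the second-maximality criterion cannot be relaxed to prime-power index. -/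
theorem result (p d : ℕ) (hp : p.Prime)
    (hd : 2 ≤ d) :
    ∃ (G : Type) (_ : Group G) (_ : Finite G) (M H K : Subgroup G), IsCoatom M ∧ M.index = p ^ d ∧ H ≤ M ∧
      IsCoatom (H.subgroupOf M) ∧ IsCoatom K ∧ H ≤ K ∧ ¬ IsCoatom (H.subgroupOf K) := by
  haveI : Fact p.Prime := ⟨hp⟩
  let V := Fin d → ZMod p
  have hfin : Finite (V ≃ᵃ[ZMod p] V) :=
    Finite.of_injective (fun e => (e : V → V)) DFunLike.coe_injective
  let i0 : Fin d := ⟨0, by omega⟩
  let i1 : Fin d := ⟨1, by omega⟩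
  have hv₀ : (Pi.single i0 1 : V) ≠ 0 := by
    intro h
    have := congrFun h i0
    simp at this
  have hv₁ : (Pi.single i1 1 : V) ∉ (ZMod p) ∙ (Pi.single i0 1 : V) := by
    intro h
    obtain ⟨c, hc⟩ := Submodule.mem_span_singleton.mp h
    have := congrFun hc i1
    have hne : i1 ≠ i0 := by
      intro h; have := congrArg Fin.val h; simp [i0, i1] at this
    simp [hne] at this
  obtain ⟨M, H, K', h1, h2, h3, h4, h5, h6, h7⟩ :=
    main (K := ZMod p) (V := V) (Pi.single i0 1) (Pi.single i1 1) hv₀ hv₁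
  refine ⟨V ≃ᵃ[ZMod p] V, inferInstance, hfin, M, H, K', h1, ?_, h3, h4, h5, h6, h7⟩
  rw [h2, Nat.card_fun, Nat.card_zmod, Nat.card_fin]

end Cfsg.Agent.S5895
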