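import Mathlib
import Cfsg.Statements.S5902
import Cfsg.Agent.S5901

set_option autoImplicit false
open Cfsg

namespace Cfsg.Agent.S5902

/-- Let G be a finite group, X a subgroup whose own subgroup lattice is complemented, and suppose X lies in exactly one maximal subgroup M of G. Then every subgroup H of G not contained in the normal core of M has a complement in the subgroup lattice of G (some C with H ⊔ C = G and H ⊓ C = 1); in particular the subgroup lattice of G modulo the normal core of M is complemented. -/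
theorem result {G : Type*} [Group G] [Finite G] (X M : Subgroup G)
    (hK : ComplementedLattice (Subgroup X))
    (hM : IsCoatom M) (hXM : X ≤ M) (huniq : ∀ M' : Subgroup G, IsCoatom M' → X ≤ M' → M' = M) :
    (∀ H : Subgroup G, ¬ H ≤ M.normalCore → ∃ C : Subgroup G, H ⊔ C = ⊤ ∧ H ⊓ C = ⊥) ∧
    ComplementedLattice (Subgroup (G ⧸ M.normalCore)) := by
  have hXtop : X ≠ ⊤ := by
    rintro rfl
    exact hM.1 (top_le_iff.mp hXM)
  have hint : ∀ Y : Subgroup G, (⊥ : Subgroup G) ≤ Y → Y ≤ X →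
      ∃ C : Subgroup G, ⊥ ≤ C ∧ C ≤ X ∧ Y ⊔ C = X ∧ Y ⊓ C = ⊥ := by
    intro Y _ hYX
    obtain ⟨C', hC'⟩ := hK.exists_isCompl (Y.subgroupOf X)
    refine ⟨C'.map X.subtype, bot_le, Subgroup.map_subtype_le _, ?_, ?_⟩
    · have h1 : (Y.subgroupOf X).map X.subtype = Y := Subgroup.map_subgroupOf_eq_of_le hYX
      rw [← h1, ← Subgroup.map_sup, hC'.sup_eq_top, ← MonoidHom.range_eq_map, Subgroup.range_subtype]
    · have h1 : (Y.subgroupOf X).map X.subtype = Y := Subgroup.map_subgroupOf_eq_of_le hYX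
      rw [← h1, ← Subgroup.map_inf _ _ _ X.subtype_injective, hC'.inf_eq_bot, Subgroup.map_bot]
  have part1 : ∀ H : Subgroup G, ¬ H ≤ M.normalCore → ∃ C : Subgroup G, H ⊔ C = ⊤ ∧ H ⊓ C = ⊥ := by
    intro H hH
    obtain ⟨h, hhH, hh⟩ := SetLike.not_le_iff_exists.mp hH
    replace hh : ¬ ∀ b : G, b * h * b⁻¹ ∈ M := hh
    push Not at hh
    obtain ⟨b, hb⟩ := hh
    set e : Subgroup G ≃o Subgroup G := (MulAut.conj b).mapSubgroup with he
    have hH' : ¬ e H ≤ M := by
      intro hle
      apply hb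
      apply hle
      exact ⟨h, hhH, rfl⟩
    obtain ⟨C', hsup, hinf⟩ := S5901.result ⊥ X M bot_le hXtop hint hM hXM huniq _ hH' (inf_bot_eq _)
    refine ⟨e.symm C', ?_, ?_⟩
    · apply e.injective
      rw [e.map_sup, e.apply_symm_apply, hsup, e.map_top]
    · apply e.injective
      rw [e.map_inf, e.apply_symm_apply, hinf, e.map_bot]
  refine ⟨part1, ⟨?_⟩⟩
  intro Hbar
  set N := M.normalCore with hN
  by_cases hbot : Hbar = ⊥
  · exact ⟨⊤, hbot ▸ isCompl_bot_top⟩
  set H := Hbar.comap (QuotientGroup.mk' N) with hH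
  have hmap : H.map (QuotientGroup.mk' N) = Hbar :=
    Subgroup.map_comap_eq_self_of_surjective (QuotientGroup.mk'_surjective N) Hbar
  have hHN : ¬ H ≤ N := by
    intro hle
    apply hbot
    rw [← hmap, eq_bot_iff]
    calc H.map (QuotientGroup.mk' N) ≤ N.map (QuotientGroup.mk' N) := Subgroup.map_mono hle
      _ = ⊥ := by rw [QuotientGroup.map_mk'_self]
  obtain ⟨C, hsup, hinf⟩ := part1 H hHN
  refine ⟨C.map (QuotientGroup.mk' N), ?_⟩
  rw [isCompl_iff, disjoint_iff, codisjoint_iff]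
  constructor
  · rw [eq_bot_iff]
    rintro x ⟨hx1, hx2⟩
    obtain ⟨c, hc, rfl⟩ := hx2
    have : c ∈ H ⊓ C := ⟨hx1, hc⟩
    rw [hinf, Subgroup.mem_bot] at this
    rw [this, map_one]
    exact Subgroup.one_mem _
  · rw [← hmap, ← Subgroup.map_sup, hsup, ← MonoidHom.range_eq_map, MonoidHom.range_eq_top]
    exact QuotientGroup.mk'_surjective N

end Cfsg.Agent.S5902
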