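import Mathlib
import Cfsg.Statements.S5903
import Cfsg.Agent.S5901

set_option autoImplicit false
open Cfsg

namespace Cfsg.Agent.S5903

variable {G : Type*} [Group G]

/-- The interval `[N, X]` is complemented when the lattice of `X/N` is. -/
theorem interval_complemented (X N : Subgroup G) (hNX : N ≤ X) [(N.subgroupOf X).Normal]
    (hK : ComplementedLattice (Subgroup (X ⧸ N.subgroupOf X))) :
    ∀ Y : Subgroup G, N ≤ Y → Y ≤ X → ∃ C : Subgroup G, N ≤ C ∧ C ≤ X ∧ Y ⊔ C = X ∧ Y ⊓ C = N := by
  intro Y hNY hYX
  set N' := N.subgroupOf X with hN'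
  set π := QuotientGroup.mk' N' with hπ
  have hπs : Function.Surjective π := QuotientGroup.mk'_surjective N'
  have hker : π.ker = N' := QuotientGroup.ker_mk' N'
  set Y' := Y.subgroupOf X with hY'
  have hN'Y' : N' ≤ Y' := fun x hx => hNY hx
  obtain ⟨Cbar, hC⟩ := hK.exists_isCompl (Y'.map π)
  set C' := Cbar.comap π with hC'
  have hN'C' : N' ≤ C' := by
    rw [← hker]; exact Subgroup.ker_le_comap π Cbar
  have hmapN : N'.map X.subtype = N := Subgroup.map_subgroupOf_eq_of_le hNX
  have hmapY : Y'.map X.subtype = Y := Subgroup.map_subgroupOf_eq_of_le hYX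
  have hcomapY : (Y'.map π).comap π = Y' := by
    rw [Subgroup.comap_map_eq, hker, sup_eq_left.mpr hN'Y']
  refine ⟨C'.map X.subtype, ?_, Subgroup.map_subtype_le _, ?_, ?_⟩
  · rw [← hmapN]; exact Subgroup.map_mono hN'C'
  · rw [← hmapY, ← Subgroup.map_sup]
    have : Y' ⊔ C' = ⊤ := by
      calc Y' ⊔ C' = (Y'.map π).comap π ⊔ Cbar.comap π := by rw [hcomapY]
        _ = (Y'.map π ⊔ Cbar).comap π := Subgroup.comap_sup_eq _ _ _ hπs
        _ = ⊤ := by rw [hC.sup_eq_top, Subgroup.comap_top]
    rw [this, ← MonoidHom.range_eq_map, Subgroup.range_subtype]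
  · rw [← hmapY, ← Subgroup.map_inf _ _ _ X.subtype_injective]
    have : Y' ⊓ C' = N' := by
      calc Y' ⊓ C' = (Y'.map π).comap π ⊓ Cbar.comap π := by rw [hcomapY]
        _ = (Y'.map π ⊓ Cbar).comap π := (Subgroup.comap_inf _ _ _).symm
        _ = (⊥ : Subgroup (X ⧸ N')).comap π := by rw [hC.inf_eq_bot]
        _ = π.ker := MonoidHom.comap_bot π
        _ = N' := hker
    rw [this, hmapN]

/-- Let G be a finite simple group, X a subgroup lying in exactly one maximal subgroup M of G, and N a subgroup of prime order with N ≤ X that is central in M. If the subgroup lattice of X/N is complemented, then the subgroup lattice of G is complemented. -/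
theorem result {G : Type*} [Group G] [Finite G] [IsSimpleGroup G] (X M N : Subgroup G)
    (hM : IsCoatom M) (hXM : X ≤ M) (huniq : ∀ M' : Subgroup G, IsCoatom M' → X ≤ M' → M' = M)
    (hNX : N ≤ X) (hN : (Nat.card N).Prime) (hcen : ∀ n ∈ N, ∀ m ∈ M, m * n = n * m)
    [(N.subgroupOf X).Normal] (hK : ComplementedLattice (Subgroup (X ⧸ N.subgroupOf X))) :
    ComplementedLattice (Subgroup G) := by
  have hXtop : X ≠ ⊤ := by
    rintro rfl
    exact hM.1 (top_le_iff.mp hXM)
  have hint := interval_complemented X N hNX hK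
  have hNbot : N ≠ ⊥ := by
    rintro rfl
    rw [Subgroup.card_bot] at hN
    exact Nat.not_prime_one hN
  refine ⟨fun H => ?_⟩
  by_cases hHbot : H = ⊥
  · exact ⟨⊤, hHbot ▸ isCompl_bot_top⟩
  by_cases hHtop : H = ⊤
  · exact ⟨⊥, hHtop ▸ isCompl_top_bot⟩
  -- find a good conjugate
  have hex : ∃ g : G, ¬ (MulAut.conj g).mapSubgroup H ≤ M ∧ (MulAut.conj g).mapSubgroup H ⊓ N = ⊥ := by
    by_contra hall
    push Not at hall
    -- the set of conjugates of elements of N
    set 𝒩 : Set G := {x | ∃ g : G, ∃ n ∈ N, x = g * n * g⁻¹} with h𝒩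
    have h𝒩inv : ∀ x ∈ 𝒩, x⁻¹ ∈ 𝒩 := by
      rintro _ ⟨g, n, hn, rfl⟩
      exact ⟨g, n⁻¹, N.inv_mem hn, by group⟩
    have h𝒩conj : ∀ x ∈ 𝒩, ∀ y : G, y * x * y⁻¹ ∈ 𝒩 := by
      rintro _ ⟨g, n, hn, rfl⟩ y
      exact ⟨y * g, n, hn, by group⟩
    have claim1 : ∀ x ∈ 𝒩, x ∈ H ∨ x ∈ Subgroup.centralizer (H : Set G) := by
      rintro _ ⟨g, n, hn, rfl⟩
      by_cases hle : (MulAut.conj g⁻¹).mapSubgroup H ≤ M
      · right
        rw [Subgroup.mem_centralizer_iff]
        intro h hh
        have hm : g⁻¹ * h * g⁻¹⁻¹ ∈ M := hle ⟨h, hh, rfl⟩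
        have := hcen n hn _ hm
        calc h * (g * n * g⁻¹) = g * ((g⁻¹ * h * g⁻¹⁻¹) * n) * g⁻¹ := by group
          _ = g * (n * (g⁻¹ * h * g⁻¹⁻¹)) * g⁻¹ := by rw [this]
          _ = _ := by group
      · left
        have hne := hall g⁻¹ hle
        obtain ⟨n', hn'1⟩ := (Subgroup.ne_bot_iff_exists_ne_one.mp hne)
        obtain ⟨⟨h, hh, hhn'⟩, hn'N⟩ := n'.2
        have hn'ne : (n' : G) ≠ 1 := fun h => hn'1 (Subtype.ext h)
        have : Fact (Nat.card N).Prime := ⟨hN⟩
        have hz : Subgroup.zpowers (⟨(n' : G), hn'N⟩ : N) = ⊤ :=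
          zpowers_eq_top_of_prime_card rfl (fun h => hn'ne (congrArg Subtype.val h))
        have hnz : (⟨n, hn⟩ : N) ∈ Subgroup.zpowers (⟨(n' : G), hn'N⟩ : N) := by rw [hz]; trivial
        obtain ⟨k, hk⟩ := Subgroup.mem_zpowers_iff.mp hnz
        have hk' : (n' : G) ^ k = n := by
          have := congrArg Subtype.val hk
          simpa using this
        have hconj : (n' : G) = g⁻¹ * h * g⁻¹⁻¹ := hhn'.symm
        have : g * n * g⁻¹ = h ^ k := by
          rw [← hk', hconj]
          have : (g⁻¹ * h * g⁻¹⁻¹) ^ k = g⁻¹ * h ^ k * g⁻¹⁻¹ := conj_zpow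
          rw [this]; group
        rw [this]
        exact H.zpow_mem hh k
    -- T = 𝒩 ∩ H is a normal subset
    have claim2 : ∀ y : G, (∀ x ∈ 𝒩, x ∈ H → y * x * y⁻¹ ∈ H) ∧ (∀ x ∈ 𝒩, x ∈ H → y⁻¹ * x * y ∈ H) := by
      have hgen : Subgroup.closure 𝒩 = ⊤ := by
        have hnorm : (Subgroup.closure 𝒩).Normal := by
          refine ⟨fun x hx y => ?_⟩
          induction hx using Subgroup.closure_induction with
          | mem x hx => exact Subgroup.subset_closure (h𝒩conj x hx y)
          | one => simp
          | mul a b _ _ iha ihb =>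
            have : y * (a * b) * y⁻¹ = (y * a * y⁻¹) * (y * b * y⁻¹) := by group
            rw [this]; exact Subgroup.mul_mem _ iha ihb
          | inv a _ iha =>
            have : y * a⁻¹ * y⁻¹ = (y * a * y⁻¹)⁻¹ := by group
            rw [this]; exact Subgroup.inv_mem _ iha
        rcases hnorm.eq_bot_or_eq_top with hb | ht
        · exfalso
          apply hNbot
          rw [eq_bot_iff]
          intro n hn
          have : n ∈ Subgroup.closure 𝒩 := Subgroup.subset_closure ⟨1, n, hn, by group⟩
          rw [hb] at this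
          exact this
        · exact ht
      intro y
      have hy : y ∈ Subgroup.closure 𝒩 := by rw [hgen]; trivial
      induction hy using Subgroup.closure_induction with
      | mem y hy =>
        constructor
        · intro x _ hxH
          rcases claim1 y hy with h1 | h1
          · exact H.mul_mem (H.mul_mem h1 hxH) (H.inv_mem h1)
          · rw [Subgroup.mem_centralizer_iff] at h1
            have : y * x * y⁻¹ = x := by
              rw [← h1 x hxH]; group
            rw [this]; exact hxH
        · intro x _ hxH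
          rcases claim1 y hy with h1 | h1
          · exact H.mul_mem (H.mul_mem (H.inv_mem h1) hxH) h1
          · rw [Subgroup.mem_centralizer_iff] at h1
            have : y⁻¹ * x * y = x := by
              rw [mul_assoc, h1 x hxH]; group
            rw [this]; exact hxH
      | one => constructor <;> intro x _ hx <;> simpa using hx
      | mul a b _ _ iha ihb =>
        constructor
        · intro x hx hxH
          have h1 := ihb.1 x hx hxH
          have h2 := iha.1 _ (h𝒩conj x hx b) h1
          have : a * b * x * (a * b)⁻¹ = a * (b * x * b⁻¹) * a⁻¹ := by group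
          rw [this]; exact h2
        · intro x hx hxH
          have h1 := iha.2 x hx hxH
          have hx' : a⁻¹ * x * a ∈ 𝒩 := by
            have := h𝒩conj x hx a⁻¹
            rwa [inv_inv] at this
          have h2 := ihb.2 _ hx' h1
          have : (a * b)⁻¹ * x * (a * b) = b⁻¹ * (a⁻¹ * x * a) * b := by group
          rw [this]; exact h2
      | inv a _ iha =>
        constructor
        · intro x hx hxH
          have := iha.2 x hx hxH
          rwa [inv_inv]
        · intro x hx hxH
          have := iha.1 x hx hxH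
          rwa [inv_inv]
    -- the normal closure of T lies in H
    set T : Set G := {x | x ∈ 𝒩 ∧ x ∈ H} with hT
    have hTH : Subgroup.normalClosure T ≤ H := by
      unfold Subgroup.normalClosure
      rw [Subgroup.closure_le]
      intro z hz
      rw [Group.mem_conjugatesOfSet_iff] at hz
      obtain ⟨x, ⟨hx𝒩, hxH⟩, hconj⟩ := hz
      rw [isConj_iff] at hconj
      obtain ⟨c, rfl⟩ := hconj
      exact (claim2 c).1 x hx𝒩 hxH
    have hTbot : Subgroup.normalClosure T = ⊥ := by
      rcases (Subgroup.normalClosure_normal (s := T)).eq_bot_or_eq_top with hb | ht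
      · exact hb
      · exfalso
        apply hHtop
        rw [eq_top_iff, ← ht]
        exact hTH
    -- so 𝒩 centralizes H
    have hcent : ∀ x ∈ 𝒩, x ∈ Subgroup.centralizer (H : Set G) := by
      intro x hx
      rcases claim1 x hx with h1 | h1
      · have : x ∈ Subgroup.normalClosure T := Subgroup.subset_normalClosure ⟨hx, h1⟩
        rw [hTbot, Subgroup.mem_bot] at this
        rw [this]; exact Subgroup.one_mem _
      · exact h1
    -- hence H is central, so normal
    have hHnorm : H.Normal := by
      refine ⟨fun h hh y => ?_⟩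
      have hy : y ∈ Subgroup.centralizer (H : Set G) := by
        have hgen : Subgroup.closure 𝒩 ≤ Subgroup.centralizer (H : Set G) := by
          rw [Subgroup.closure_le]; exact hcent
        apply hgen
        -- closure 𝒩 = ⊤ again
        have hnorm : (Subgroup.closure 𝒩).Normal := by
          refine ⟨fun x hx y => ?_⟩
          induction hx using Subgroup.closure_induction with
          | mem x hx => exact Subgroup.subset_closure (h𝒩conj x hx y)
          | one => simp
          | mul a b _ _ iha ihb =>
            have : y * (a * b) * y⁻¹ = (y * a * y⁻¹) * (y * b * y⁻¹) := by group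
            rw [this]; exact Subgroup.mul_mem _ iha ihb
          | inv a _ iha =>
            have : y * a⁻¹ * y⁻¹ = (y * a * y⁻¹)⁻¹ := by group
            rw [this]; exact Subgroup.inv_mem _ iha
        rcases hnorm.eq_bot_or_eq_top with hb | ht
        · exfalso
          apply hNbot
          rw [eq_bot_iff]
          intro n hn
          have : n ∈ Subgroup.closure 𝒩 := Subgroup.subset_closure ⟨1, n, hn, by group⟩
          rw [hb] at this
          exact this
        · rw [ht]; trivial
      rw [Subgroup.mem_centralizer_iff] at hy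
      have : y * h * y⁻¹ = h := by rw [← hy h hh]; group
      rw [this]; exact hh
    rcases hHnorm.eq_bot_or_eq_top with hb | ht
    · exact hHbot hb
    · exact hHtop ht
  obtain ⟨g, hg1, hg2⟩ := hex
  set e : Subgroup G ≃o Subgroup G := (MulAut.conj g).mapSubgroup with he
  obtain ⟨C', hsup, hinf⟩ := S5901.result N X M hNX hXtop hint hM hXM huniq _ hg1 hg2
  refine ⟨e.symm C', ?_⟩
  rw [isCompl_iff, disjoint_iff, codisjoint_iff]
  constructor
  · apply e.injective
    rw [e.map_inf, e.apply_symm_apply, hinf, e.map_bot]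
  · apply e.injective
    rw [e.map_sup, e.apply_symm_apply, hsup, e.map_top]

end Cfsg.Agent.S5903
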