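import Mathlib
import Cfsg.Statements.S5904

set_option autoImplicit false
open Cfsg
open scoped Pointwise

namespace Cfsg.Agent.S5904

variable {Ω : Type*}

theorem smul_compl (σ : Equiv.Perm Ω) (O : Set Ω) : σ • Oᶜ = (σ • O)ᶜ :=
  Set.smul_set_compl

/-- The stabiliser of the partition `{O, Oᶜ}`. -/
def partStab (O : Set Ω) : Subgroup (Equiv.Perm Ω) where
  carrier := {σ | σ • O = O ∨ σ • O = Oᶜ}
  one_mem' := Or.inl (one_smul _ _)
  mul_mem' := by
    intro σ τ hσ hτ
    show (σ * τ) • O = O ∨ (σ * τ) • O = Oᶜ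
    rw [mul_smul]
    rcases hτ with hτ | hτ
    · rw [hτ]; exact hσ
    · rw [hτ, smul_compl]
      rcases hσ with hσ | hσ
      · right; rw [hσ]
      · left; rw [hσ, compl_compl]
  inv_mem' := by
    intro σ hσ
    show σ⁻¹ • O = O ∨ σ⁻¹ • O = Oᶜ
    rcases hσ with hσ | hσ
    · left
      rw [inv_smul_eq_iff, hσ]
    · right
      rw [inv_smul_eq_iff, smul_compl, hσ, compl_compl]

theorem mem_partStab (O : Set Ω) (σ : Equiv.Perm Ω) :
    σ ∈ partStab O ↔ σ • O = O ∨ σ • O = Oᶜ := Iff.rfl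

/-- Let Ω be a finite set with more than two elements and O ⊆ Ω a subset with exactly as many elements as its complement. Then the setwise stabilizer of O in the symmetric group on Ω is not a maximal subgroup (it is properly contained in the stabilizer of the partition {O, Ω ∖ O}, which is proper). -/
theorem result {Ω : Type*} [Fintype Ω] [DecidableEq Ω] (hΩ : 2 < Fintype.card Ω)
    (O : Set Ω) (hO : Nat.card O = Nat.card ↥Oᶜ) :
    ¬ IsCoatom (MulAction.stabilizer (Equiv.Perm Ω) O) := by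
  classical
  intro hco
  -- cardinalities
  have hsum : Nat.card O + Nat.card ↥Oᶜ = Fintype.card Ω := by
    rw [← Nat.card_sum, Nat.card_congr (Equiv.Set.sumCompl O), Nat.card_eq_fintype_card]
  have hO2 : 2 ≤ Nat.card O := by omega
  have hOc1 : 1 ≤ Nat.card ↥Oᶜ := by omega
  -- elements
  have hnt : Nontrivial O := Finite.one_lt_card_iff_nontrivial.mp (by omega)
  obtain ⟨⟨a, ha⟩, ⟨a', ha'⟩, haa'⟩ := hnt
  have haa : a ≠ a' := fun h => haa' (Subtype.ext h)
  have hne : Nonempty ↥Oᶜ := Finite.card_pos_iff.mp (by omega)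
  obtain ⟨⟨b, hb⟩⟩ := hne
  have hbO : b ∉ O := hb
  have hcompl_ne : Oᶜ ≠ O := by
    intro h
    have : a ∈ Oᶜ := by rw [h]; exact ha
    exact this ha
  -- S < K
  have hlt : MulAction.stabilizer (Equiv.Perm Ω) O < partStab O := by
    rw [lt_iff_le_and_ne]
    constructor
    · intro σ hσ
      exact Or.inl (MulAction.mem_stabilizer_iff.mp hσ)
    · intro heq
      -- build swapping permutation
      obtain ⟨e⟩ : Nonempty (O ≃ ↥Oᶜ) := Finite.card_eq.mp hO
      let τ : O ⊕ ↥Oᶜ ≃ O ⊕ ↥Oᶜ := (Equiv.sumCongr e e.symm).trans (Equiv.sumComm _ _)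
      let σ : Equiv.Perm Ω := (Equiv.Set.sumCompl O).symm.trans (τ.trans (Equiv.Set.sumCompl O))
      have h1 : σ • O ⊆ Oᶜ := by
        rintro _ ⟨x, hx, rfl⟩
        show σ x ∈ Oᶜ
        have : σ x = (e ⟨x, hx⟩ : Ω) := by
          show (Equiv.Set.sumCompl O) (τ ((Equiv.Set.sumCompl O).symm x)) = _
          rw [Equiv.Set.sumCompl_symm_apply_of_mem hx]
          rfl
        rw [this]
        exact (e ⟨x, hx⟩).2
      have h2 : σ • Oᶜ ⊆ O := by
        rintro _ ⟨x, hx, rfl⟩
        show σ x ∈ O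
        have hx' : x ∉ O := hx
        have : σ x = (e.symm ⟨x, hx⟩ : Ω) := by
          show (Equiv.Set.sumCompl O) (τ ((Equiv.Set.sumCompl O).symm x)) = _
          rw [Equiv.Set.sumCompl_symm_apply_of_notMem hx']
          rfl
        rw [this]
        exact (e.symm ⟨x, hx⟩).2
      have h3 : σ • O = Oᶜ := by
        apply Set.Subset.antisymm h1
        rw [smul_compl] at h2
        intro y hy
        by_contra hcon
        exact hy (h2 hcon)
      have hσK : σ ∈ partStab O := Or.inr h3
      rw [← heq] at hσK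
      have h4 : σ • O = O := MulAction.mem_stabilizer_iff.mp hσK
      rw [h3] at h4
      exact hcompl_ne h4
  have htop := hco.2 _ hlt
  -- K ≠ ⊤
  have hmem : Equiv.swap a b ∈ partStab O := by rw [htop]; exact Subgroup.mem_top _
  have hb_mem : b ∈ Equiv.swap a b • O := ⟨a, ha, Equiv.swap_apply_left a b⟩
  have ha'_mem : a' ∈ Equiv.swap a b • O := by
    refine ⟨a', ha', ?_⟩
    show Equiv.swap a b a' = a'
    apply Equiv.swap_apply_of_ne_of_ne (Ne.symm haa)
    intro h; rw [h] at ha'; exact hbO ha'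
  rcases (mem_partStab O _).mp hmem with h | h
  · rw [h] at hb_mem; exact hbO hb_mem
  · rw [h] at ha'_mem; exact ha'_mem ha'

end Cfsg.Agent.S5904
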