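import Mathlib
import Cfsg.Statements.S5908
import Cfsg.Agent.Lib.Helper5.SU32b
import Cfsg.Agent.Lib.Helper5.QuatQuotLattice

set_option autoImplicit false
open Cfsg

namespace Cfsg.Agent.S5908

/-- The subgroup lattice of PSU₃(2) (the solvable group of order 72, realised over the field with 4 elements) is not complemented: some subgroup H has no subgroup X with H ⊔ X = ⊤ and H ⊓ X = ⊥. -/
theorem result {F : Type*} [Field F] [Fintype F] (hF : Fintype.card F = 4) :
    ¬ ComplementedLattice (Subgroup (Cfsg.PSU 3 F 2)) := by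
  have hF' : Fintype.card F = 2 ^ 2 := hF.trans (by norm_num)
  obtain ⟨N, hN, -, -, ⟨e⟩⟩ := Cfsg.Agent.Lib.Helper5.SU32b.main hF'
  apply Cfsg.Agent.Lib.Helper5.QuatQuotLattice.not_complemented
    (e.toMonoidHom.comp (QuotientGroup.mk' N))
  exact e.surjective.comp (QuotientGroup.mk'_surjective N)

end Cfsg.Agent.S5908
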