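import Mathlib
import Cfsg.Statements.S5913

set_option autoImplicit false
open Cfsg

namespace Cfsg.Agent.S5913

/-- Let S be a non-abelian simple group and n a natural number. Every normal subgroup N of the direct power S^n (functions Fin n → S) is a subproduct: there is a set T of coordinates such that N consists exactly of the elements whose coordinates outside T are trivial. In particular the minimal normal subgroups of S^n are its n factors. -/
theorem result {S : Type*} [Group S] [IsSimpleGroup S] (hS : ¬ IsMulCommutative S) (n : ℕ)
    (N : Subgroup (Fin n → S)) [N.Normal] :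
    ∃ T : Finset (Fin n), ∀ x : Fin n → S, x ∈ N ↔ ∀ i, i ∉ T → x i = 1 := by
  classical
  refine ⟨Finset.univ.filter (fun i => ∃ y ∈ N, y i ≠ 1), ?_⟩
  intro x
  constructor
  · intro hx i hi
    by_contra h
    exact hi (by simpa using ⟨x, hx, h⟩)
  · intro hx
    apply Subgroup.pi_mem_of_mulSingle_mem
    intro i
    by_cases hi : i ∈ Finset.univ.filter (fun i => ∃ y ∈ N, y i ≠ 1)
    · simp only [Finset.mem_filter, Finset.mem_univ, true_and] at hi
      obtain ⟨y, hy, hyi⟩ := hi
      -- the subgroup N_i
      let Ni : Subgroup S := N.comap (MonoidHom.mulSingle (fun _ : Fin n => S) i)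
      have hNi : Ni.Normal := by
        refine ⟨fun s hs g => ?_⟩
        change Pi.mulSingle i (g * s * g⁻¹) ∈ N
        have : (Pi.mulSingle i (g * s * g⁻¹) : Fin n → S)
            = Pi.mulSingle i g * Pi.mulSingle i s * (Pi.mulSingle i g)⁻¹ := by
          rw [← Pi.mulSingle_inv, ← Pi.mulSingle_mul, ← Pi.mulSingle_mul]
        rw [this]
        exact Subgroup.Normal.conj_mem (H := N) inferInstance _ hs _
      -- center is trivial
      have hcen : ∃ s : S, s * y i ≠ y i * s := by
        by_contra hall
        push Not at hall
        have hz : y i ∈ Subgroup.center S := by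
          rw [Subgroup.mem_center_iff]
          exact hall
        rcases (inferInstance : (Subgroup.center S).Normal).eq_bot_or_eq_top with h | h
        · rw [h, Subgroup.mem_bot] at hz
          exact hyi hz
        · apply hS
          refine ⟨⟨fun a b => ?_⟩⟩
          have hb : b ∈ Subgroup.center S := by rw [h]; trivial
          rw [Subgroup.mem_center_iff] at hb
          exact hb a
      obtain ⟨s, hs⟩ := hcen
      have hmem : s * y i * s⁻¹ * (y i)⁻¹ ∈ Ni := by
        change Pi.mulSingle i (s * y i * s⁻¹ * (y i)⁻¹) ∈ N
        have : (Pi.mulSingle i (s * y i * s⁻¹ * (y i)⁻¹) : Fin n → S)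
            = (Pi.mulSingle i s * y * (Pi.mulSingle i s)⁻¹) * y⁻¹ := by
          funext j
          by_cases hj : j = i
          · subst hj
            simp
          · simp [Pi.mulSingle_eq_of_ne hj]
        rw [this]
        exact N.mul_mem (Subgroup.Normal.conj_mem (H := N) inferInstance _ hy _) (N.inv_mem hy)
      have hne : s * y i * s⁻¹ * (y i)⁻¹ ≠ 1 := by
        intro h
        apply hs
        have : s * y i = y i * s := by
          have h2 : s * y i * s⁻¹ = y i := by
            rw [mul_inv_eq_one] at h
            exact h
          rw [mul_inv_eq_iff_eq_mul] at h2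
          exact h2
        exact this
      rcases hNi.eq_bot_or_eq_top with h | h
      · rw [h, Subgroup.mem_bot] at hmem
        exact absurd hmem hne
      · have : x i ∈ Ni := by rw [h]; trivial
        exact this
    · rw [hx i hi, Pi.mulSingle_one]
      exact N.one_mem

end Cfsg.Agent.S5913
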