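import Mathlib
import Cfsg.Agent.Lib.Helper5.DicksonMax2
import Cfsg.Agent.S0803
import Cfsg.Statements.S5938

set_option autoImplicit false
open Cfsg Cfsg.Agent.Lib.Helper5.DicksonMax Cfsg.Agent.Lib.Helper5.DicksonMain Cfsg.Agent.Lib.Helper5.DicksonOrders

namespace Cfsg.Agent.S5938

/-- Let p be a prime with p ≡ ±1 (mod 8) and F a field with p elements. Then PSL_2(F) has a maximal subgroup isomorphic to the symmetric group S_4. -/
theorem result {F : Type*} [Field F] [Fintype F] (p : ℕ) [Fact p.Prime] (hF : Fintype.card F = p) (hp : p % 8 = 1 ∨ p % 8 = 7) : ∃ H : Subgroup (Matrix.ProjectiveSpecialLinearGroup (Fin 2) F), IsCoatom H ∧ Nonempty (H ≃* Equiv.Perm (Fin 4)) := by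
  classical
  have hpp : p.Prime := Fact.out
  have hp2 : p % 2 = 1 := by omega
  have hp7 : 7 ≤ p := by
    have := hpp.ne_one
    omega
  have : CharP F p := charP_of_card_eq_prime hF
  have h16 : p ^ 2 % 16 = 1 := by
    rw [Nat.pow_mod]
    have : p % 16 = 1 ∨ p % 16 = 9 ∨ p % 16 = 7 ∨ p % 16 = 15 := by omega
    rcases this with h | h | h | h <;> rw [h]
  obtain ⟨H₀, ⟨e⟩⟩ := (Cfsg.Agent.S0803.result hF).mpr h16
  have hc0 : Nat.card H₀ = 24 := by rw [Nat.card_congr e.toEquiv, card_S4]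
  have hG := card_PSL2_mul (F := F)
  rw [hF, gcd_two_of_odd hp2] at hG
  have hG168 : 168 ≤ Nat.card (Matrix.ProjectiveSpecialLinearGroup (Fin 2) F) := by
    have h1 : 7 * ((7 - 1) * (7 + 1)) ≤ p * ((p - 1) * (p + 1)) :=
      Nat.mul_le_mul hp7 (Nat.mul_le_mul (by omega) (by omega))
    omega
  refine ⟨H₀, ?_, ⟨e⟩⟩
  apply isCoatom_of_card
  · intro h
    rw [← Subgroup.card_eq_iff_eq_top] at h
    omega
  · intro H hle hne
    rw [hc0]
    have hdvd : 24 ∣ Nat.card H := hc0 ▸ Subgroup.card_dvd_of_le hle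
    obtain ⟨f, hf⟩ := exists_embedding e hle
    have hf' : Function.Injective (f.comp (alternatingGroup (Fin 4)).subtype) :=
      hf.comp (Subgroup.subtype_injective _)
    rcases dickson p H with h | h | ⟨⟨e'⟩⟩ | ⟨⟨e'⟩⟩ | ⟨⟨e'⟩⟩ | h
    · exact absurd h (not_cycDih_of_A4 H _ hf')
    · exact absurd h (not_inBorel_of_A4 p (by omega) H _ hf')
    · rw [Nat.card_congr e'.toEquiv, card_A4]; norm_num
    · rw [Nat.card_congr e'.toEquiv, card_S4]
    · rw [Nat.card_congr e'.toEquiv, card_A5] at hdvd; omega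
    · exfalso
      obtain ⟨q₀, m, hq₀, hm, hcard⟩ := card_of_subfieldCase H h
      rw [hF] at hm
      have hm0 : m ≠ 0 := by
        rintro rfl
        rw [pow_zero] at hm
        omega
      have hq₀p : q₀ = p := by
        have : q₀ ∣ p := hm ▸ dvd_pow_self q₀ hm0
        rcases (Nat.dvd_prime hpp).mp this with h1 | h1
        · omega
        · exact h1
      subst hq₀p
      rcases hcard with h1 | ⟨h1, -⟩
      · apply hne
        apply eq_top_of_card
        rw [hF]
        exact h1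
      · have := two_mul_card_le H hne
        omega

end Cfsg.Agent.S5938
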