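import Mathlib
import Cfsg.Agent.Lib.Helper5.DicksonMax2
import Cfsg.Agent.S0802
import Cfsg.Agent.S0803
import Cfsg.Agent.S0804
import Cfsg.Statements.S5940

set_option autoImplicit false
open Cfsg Cfsg.Agent.Lib.Helper5.DicksonMax Cfsg.Agent.Lib.Helper5.DicksonMain Cfsg.Agent.Lib.Helper5.DicksonOrders

namespace Cfsg.Agent.S5940

/-- Let p ≥ 5 be a prime with p ≡ ±3 (mod 8) and p ≢ ±1 (mod 10), and F a field with p elements. Then PSL_2(F) has a maximal subgroup isomorphic to the alternating group A_4. -/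
theorem result {F : Type*} [Field F] [Fintype F] (p : ℕ) [Fact p.Prime] (hF : Fintype.card F = p) (h5 : 5 ≤ p) (h8 : p % 8 = 3 ∨ p % 8 = 5) (h10 : p % 10 ≠ 1 ∧ p % 10 ≠ 9) : ∃ H : Subgroup (Matrix.ProjectiveSpecialLinearGroup (Fin 2) F), IsCoatom H ∧ Nonempty (H ≃* alternatingGroup (Fin 4)) := by
  classical
  have hpp : p.Prime := Fact.out
  have hp2 : p % 2 = 1 := by omega
  have : CharP F p := charP_of_card_eq_prime hF
  obtain ⟨H₀, ⟨e⟩⟩ := (Cfsg.Agent.S0802.result (F := F) p 1 (by rw [hF, pow_one])).mpr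
    (by rintro ⟨rfl, -⟩; omega)
  have hc0 : Nat.card H₀ = 12 := by rw [Nat.card_congr e.toEquiv, card_A4]
  have hG := card_PSL2_mul (F := F)
  rw [hF, gcd_two_of_odd hp2] at hG
  have hG60 : 60 ≤ Nat.card (Matrix.ProjectiveSpecialLinearGroup (Fin 2) F) := by
    have h1 : 5 * ((5 - 1) * (5 + 1)) ≤ p * ((p - 1) * (p + 1)) :=
      Nat.mul_le_mul h5 (Nat.mul_le_mul (by omega) (by omega))
    omega
  refine ⟨H₀, ?_, ⟨e⟩⟩
  apply isCoatom_of_card
  · intro h
    rw [← Subgroup.card_eq_iff_eq_top] at h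
    omega
  · intro H hle hne
    rw [hc0]
    have hdvd : 12 ∣ Nat.card H := hc0 ▸ Subgroup.card_dvd_of_le hle
    obtain ⟨f, hf⟩ := exists_embedding e hle
    rcases dickson p H with h | h | ⟨⟨e'⟩⟩ | ⟨⟨e'⟩⟩ | ⟨⟨e'⟩⟩ | h
    · exact absurd h (not_cycDih_of_A4 H _ hf)
    · exact absurd h (not_inBorel_of_A4 p (by omega) H _ hf)
    · rw [Nat.card_congr e'.toEquiv, card_A4]
    · exfalso
      have h16 := (Cfsg.Agent.S0803.result hF).mp ⟨H, ⟨e'⟩⟩
      rw [Nat.pow_mod] at h16
      have : p % 16 = 3 ∨ p % 16 = 11 ∨ p % 16 = 5 ∨ p % 16 = 13 := by omega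
      rcases this with h | h | h | h <;> rw [h] at h16 <;> omega
    · exfalso
      have h5d := (Cfsg.Agent.S0804.result hF).mp ⟨H, ⟨e'⟩⟩
      by_cases hp5 : p = 5
      · subst hp5
        apply hne
        rw [← Subgroup.card_eq_iff_eq_top, Nat.card_congr e'.toEquiv, card_A5]
        omega
      · have hp5' : ¬ 5 ∣ p := by
          intro hd
          rcases (Nat.dvd_prime hpp).mp hd with h1 | h1 <;> omega
        have h1 : 5 ∣ p ^ 2 - 1 := (Nat.Prime.dvd_mul Nat.prime_five).mp h5d |>.resolve_left hp5'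
        have h2 : p ^ 2 % 5 = 1 := by
          have : 1 ≤ p ^ 2 := Nat.one_le_pow _ _ (by omega)
          omega
        rw [Nat.pow_mod] at h2
        have : p % 5 = 1 ∨ p % 5 = 2 ∨ p % 5 = 3 ∨ p % 5 = 4 := by omega
        rcases this with h | h | h | h <;> rw [h] at h2 <;> omega
    · exfalso
      obtain ⟨q₀, m, hq₀, hm, hcard⟩ := card_of_subfieldCase H h
      rw [hF] at hm
      have hm0 : m ≠ 0 := by
        rintro rfl
        rw [pow_zero] at hm
        omega
      have hq₀p : q₀ = p := by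
        have : q₀ ∣ p := hm ▸ dvd_pow_self q₀ hm0
        rcases (Nat.dvd_prime hpp).mp this with h1 | h1
        · omega
        · exact h1
      subst hq₀p
      rcases hcard with h1 | ⟨h1, -⟩
      · apply hne
        apply eq_top_of_card
        rw [hF]
        exact h1
      · have := two_mul_card_le H hne
        omega

end Cfsg.Agent.S5940
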