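import Mathlib
import Cfsg.Agent.Lib.Helper5.DicksonMax4
import Cfsg.Agent.S0805
import Cfsg.Statements.S5941

set_option autoImplicit false
open Cfsg Cfsg.Agent.Lib.Helper5.DicksonMax Cfsg.Agent.Lib.Helper5.DicksonMain Cfsg.Agent.Lib.Helper5.DicksonOrders Cfsg.Agent.Lib.Helper5.MobWild

namespace Cfsg.Agent.S5941

/-- Let K and F be finite fields of odd characteristic with #F = (#K)². Then PSL_2(F) has a maximal subgroup isomorphic to PGL_2(K). -/
theorem result {F K : Type*} [Field F] [Fintype F] [Field K] [Fintype K] (q : ℕ) (hK : Fintype.card K = q) (hF : Fintype.card F = q ^ 2) (hq : Odd q) : ∃ H : Subgroup (Matrix.ProjectiveSpecialLinearGroup (Fin 2) F), IsCoatom H ∧ Nonempty (H ≃* Matrix.ProjGenLinGroup (Fin 2) K) := by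
  classical
  obtain ⟨p, a, hp, ha, hKc⟩ := exists_prime_pow K
  have : Fact p.Prime := ⟨hp⟩
  have hqa : q = p ^ a := by rw [← hK, hKc]
  have hFc : Fintype.card F = (p ^ a) ^ 2 := by rw [hF, hqa]
  have : CharP F p := charP_of_card_eq_prime_pow (f := a * 2) (by rw [hFc, pow_mul])
  have hq2 : q % 2 = 1 := Nat.odd_iff.mp hq
  have hq3 : 3 ≤ q := by
    have : 2 ≤ q := hK ▸ Fintype.one_lt_card
    omega
  have hpodd : p ≠ 2 := by
    rintro rfl
    have : 2 ∣ q := hqa ▸ dvd_pow_self 2 (by omega)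
    omega
  obtain ⟨H₀, ⟨e⟩⟩ := ((Cfsg.Agent.S0805.result (F := F) (K := K) (q := q ^ 2) hF hq.pow 2
    (by norm_num) (by rw [hK])).2).mpr (by decide)
  have hmono : ∀ q₁ q₂ : ℕ, q₁ ≤ q₂ → q₁ * ((q₁ - 1) * (q₁ + 1)) ≤ q₂ * ((q₂ - 1) * (q₂ + 1)) :=
    fun q₁ q₂ h => Nat.mul_le_mul h (Nat.mul_le_mul (by omega) (by omega))
  have hc0 : Nat.card H₀ = q * ((q - 1) * (q + 1)) := by
    rw [Nat.card_congr e.toEquiv]
    exact card_pgl q hK
  have hA24 : 24 ≤ q * ((q - 1) * (q + 1)) := hmono 3 q hq3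
  have hG := card_PSL2_mul (F := F)
  have hq22 : q ^ 2 % 2 = 1 := by rw [Nat.pow_mod, hq2]
  rw [hF, gcd_two_of_odd hq22] at hG
  refine ⟨H₀, ?_, ⟨e⟩⟩
  apply isCoatom_of_card
  · intro h
    rw [← Subgroup.card_eq_iff_eq_top, hc0] at h
    rw [← h] at hG
    have h1 : 3 * q ≤ q ^ 2 := by rw [pow_two]; exact Nat.mul_le_mul_right q hq3
    have h2 : (3 * q) * ((3 * (q - 1)) * (q + 1)) ≤ q ^ 2 * ((q ^ 2 - 1) * (q ^ 2 + 1)) :=
      Nat.mul_le_mul h1 (Nat.mul_le_mul (by omega) (by omega))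
    have h3 : (3 * q) * ((3 * (q - 1)) * (q + 1)) = 9 * (q * ((q - 1) * (q + 1))) := by ring
    omega
  · intro H hle hne
    have hdvd : Nat.card H₀ ∣ Nat.card H := Subgroup.card_dvd_of_le hle
    obtain ⟨f, hf⟩ := exists_embedding e hle
    obtain ⟨hn1, hn2⟩ := not_small_of_PGL p H f hf (by omega) (Or.inl hpodd)
    rcases dickson p H with h | h | ⟨⟨e'⟩⟩ | ⟨⟨e'⟩⟩ | ⟨⟨e'⟩⟩ | h
    · exact absurd h hn1
    · exact absurd h hn2
    · rw [Nat.card_congr e'.toEquiv, card_A4]; omega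
    · rw [Nat.card_congr e'.toEquiv, card_S4]; omega
    · rw [Nat.card_congr e'.toEquiv, card_A5] at hdvd ⊢
      rcases (by omega : q = 3 ∨ 5 ≤ q) with h3 | h5
      · subst h3
        rw [hc0] at hdvd
        omega
      · have := hmono 5 q h5
        omega
    · obtain ⟨q₀, hq₀, hcard⟩ := subfield_between H h p a 2 hp ha Nat.prime_two hFc 1
        (Nat.card H₀) (one_dvd 2) (by rw [one_mul, hc0, hqa]) hdvd
      rw [← hqa] at hq₀
      rcases hq₀ with rfl | rfl
      · rw [gcd_two_of_odd hq2] at hcard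
        omega
      · exfalso
        rcases hcard with h1 | ⟨h1, -⟩
        · apply hne
          apply eq_top_of_card
          rw [hF]
          exact h1
        · have := two_mul_card_le H hne
          have hpos : 0 < Nat.card H := Nat.card_pos
          omega

end Cfsg.Agent.S5941
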