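import Mathlib
import Cfsg.Agent.Lib.Helper5.DicksonMax4
import Cfsg.Agent.S0803
import Cfsg.Agent.S0804
import Cfsg.Agent.S0805
import Cfsg.Statements.S5942

set_option autoImplicit false
open Cfsg Cfsg.Agent.Lib.Helper5.DicksonMax Cfsg.Agent.Lib.Helper5.DicksonMain Cfsg.Agent.Lib.Helper5.DicksonOrders Cfsg.Agent.Lib.Helper5.MobWild

namespace Cfsg.Agent.S5942

/-- Let K and F be finite fields of odd characteristic with #F = (#K)^r for an odd prime r. Then PSL_2(F) has a maximal subgroup isomorphic to PSL_2(K). -/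
theorem result {F K : Type*} [Field F] [Fintype F] [Field K] [Fintype K] (q r : ℕ) (hK : Fintype.card K = q) (hF : Fintype.card F = q ^ r) (hq : Odd q) (hr : r.Prime) (hr2 : r ≠ 2) : ∃ H : Subgroup (Matrix.ProjectiveSpecialLinearGroup (Fin 2) F), IsCoatom H ∧ Nonempty (H ≃* Matrix.ProjectiveSpecialLinearGroup (Fin 2) K) := by
  classical
  obtain ⟨p, a, hp, ha, hKc⟩ := exists_prime_pow K
  have : Fact p.Prime := ⟨hp⟩
  have hqa : q = p ^ a := by rw [← hK, hKc]
  have hFc : Fintype.card F = (p ^ a) ^ r := by rw [hF, hqa]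
  have : CharP F p := charP_of_card_eq_prime_pow (f := a * r) (by rw [hFc, pow_mul])
  have hq2 : q % 2 = 1 := Nat.odd_iff.mp hq
  have hq3 : 3 ≤ q := by
    have : 2 ≤ q := hK ▸ Fintype.one_lt_card
    omega
  have hr2' : 2 ≤ r := hr.two_le
  have hrodd : Odd r := hr.odd_of_ne_two hr2
  have hpodd : p ≠ 2 := by
    rintro rfl
    have : 2 ∣ q := hqa ▸ dvd_pow_self 2 (by omega)
    omega
  obtain ⟨H₀, ⟨e⟩⟩ := (Cfsg.Agent.S0805.result (F := F) (K := K) (q := q ^ r) hF hq.pow r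
    (by omega) (by rw [hK])).1
  have hmono : ∀ q₁ q₂ : ℕ, q₁ ≤ q₂ → q₁ * ((q₁ - 1) * (q₁ + 1)) ≤ q₂ * ((q₂ - 1) * (q₂ + 1)) :=
    fun q₁ q₂ h => Nat.mul_le_mul h (Nat.mul_le_mul (by omega) (by omega))
  have hc0 : 2 * Nat.card H₀ = q * ((q - 1) * (q + 1)) := by
    rw [Nat.card_congr e.toEquiv]
    exact card_psl q hK hq2
  have hA24 : 24 ≤ q * ((q - 1) * (q + 1)) := hmono 3 q hq3
  have hG := card_PSL2_mul (F := F)
  have hqr2 : q ^ r % 2 = 1 := by rw [Nat.pow_mod, hq2]; simp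
  rw [hF, gcd_two_of_odd hqr2] at hG
  -- powers of three
  have h3pow : q = 3 → (q ^ r) ^ 2 % 16 = 9 ∧ (q ^ r) ^ 2 % 5 = 4 := by
    rintro rfl
    obtain ⟨k, rfl⟩ := hrodd
    have h1 : (3 ^ (2 * k + 1)) ^ 2 = 81 ^ k * 9 := by
      rw [← pow_mul, show (2 * k + 1) * 2 = 4 * k + 2 by ring, pow_add, pow_mul]
      norm_num
    rw [h1]
    constructor
    · rw [Nat.mul_mod, Nat.pow_mod]; norm_num
    · rw [Nat.mul_mod, Nat.pow_mod]; norm_num
  refine ⟨H₀, ?_, ⟨e⟩⟩
  apply isCoatom_of_card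
  · intro h
    rw [← Subgroup.card_eq_iff_eq_top] at h
    rw [← h, hc0] at hG
    have h0 : q ^ 2 ≤ q ^ r := Nat.pow_le_pow_right (by omega) hr2'
    have h1 : 3 * q ≤ q ^ r := by
      refine le_trans ?_ h0
      rw [pow_two]; exact Nat.mul_le_mul_right q hq3
    have h2 : (3 * q) * ((3 * (q - 1)) * (q + 1)) ≤ q ^ r * ((q ^ r - 1) * (q ^ r + 1)) :=
      Nat.mul_le_mul h1 (Nat.mul_le_mul (by omega) (by omega))
    have h3 : (3 * q) * ((3 * (q - 1)) * (q + 1)) = 9 * (q * ((q - 1) * (q + 1))) := by ring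
    omega
  · intro H hle hne
    have hdvd : Nat.card H₀ ∣ Nat.card H := Subgroup.card_dvd_of_le hle
    obtain ⟨f, hf⟩ := exists_embedding e hle
    obtain ⟨hn1, hn2⟩ := not_small_of_PSL p H f hf (by omega) (Or.inl hpodd)
    rcases dickson p H with h | h | ⟨⟨e'⟩⟩ | ⟨⟨e'⟩⟩ | ⟨⟨e'⟩⟩ | h
    · exact absurd h hn1
    · exact absurd h hn2
    · rw [Nat.card_congr e'.toEquiv, card_A4]; omega
    · rcases (by omega : q = 3 ∨ 5 ≤ q) with h3 | h5
      · exfalso
        have h16 := (Cfsg.Agent.S0803.result hF).mp ⟨H, ⟨e'⟩⟩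
        have := (h3pow h3).1
        omega
      · rw [Nat.card_congr e'.toEquiv, card_S4]
        have := hmono 5 q h5
        omega
    · rcases (by omega : q = 3 ∨ 5 ≤ q) with h3 | h5
      · exfalso
        have h5d := (Cfsg.Agent.S0804.result hF).mp ⟨H, ⟨e'⟩⟩
        have h4 := (h3pow h3).2
        have h5n : ¬ 5 ∣ q ^ r := by
          intro hd
          have := Nat.Prime.dvd_of_dvd_pow Nat.prime_five hd
          omega
        have h6 : 5 ∣ (q ^ r) ^ 2 - 1 :=
          ((Nat.Prime.dvd_mul Nat.prime_five).mp h5d).resolve_left h5n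
        have h7 : 1 ≤ (q ^ r) ^ 2 := Nat.one_le_pow _ _ (Nat.one_le_pow _ _ (by omega))
        omega
      · rw [Nat.card_congr e'.toEquiv, card_A5]
        have := hmono 5 q h5
        omega
    · obtain ⟨q₀, hq₀, hcard⟩ := subfield_between H h p a r hp ha hr hFc 2
        (Nat.card H₀) (dvd_refl 2) (by rw [hc0, hqa]) hdvd
      rw [← hqa] at hq₀
      rcases hq₀ with hq₀ | hq₀ <;> rw [hq₀] at hcard
      · rcases hcard with h1 | ⟨h1, -⟩
        · rw [gcd_two_of_odd hq2] at h1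
          omega
        · exfalso
          have h2 : Nat.card H ∣ Nat.card (Matrix.ProjectiveSpecialLinearGroup (Fin 2) F) :=
            Subgroup.card_subgroup_dvd_card H
          rw [h1, ← sq_sub_one q (by omega)] at h2
          rw [← sq_sub_one (q ^ r) (Nat.one_le_pow _ _ (by omega))] at hG
          exact Cfsg.Agent.Lib.Helper5.SubfieldPSL.not_dvd_of_odd q r _ hq hq3 hrodd hG h2
      · exfalso
        rcases hcard with h1 | ⟨h1, -⟩
        · apply hne
          apply eq_top_of_card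
          rw [hF]
          exact h1
        · have := two_mul_card_le H hne
          have hpos : 0 < Nat.card H := Nat.card_pos
          omega

end Cfsg.Agent.S5942
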