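import Mathlib
import Cfsg.Agent.Lib.Helper5.DicksonMax4
import Cfsg.Agent.Lib.Helper5.SubfieldPSL
import Cfsg.Statements.S5943

set_option autoImplicit false
open Cfsg Cfsg.Agent.Lib.Helper5.DicksonMax Cfsg.Agent.Lib.Helper5.DicksonMain Cfsg.Agent.Lib.Helper5.DicksonOrders Cfsg.Agent.Lib.Helper5.MobWild

namespace Cfsg.Agent.S5943

/-- Let K and F be finite fields of characteristic 2 with #K = q > 2 and #F = q^r for a prime r. Then PSL_2(F) has a maximal subgroup isomorphic to PSL_2(K) (which equals PGL_2(K) in characteristic 2). -/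
theorem result {F K : Type*} [Field F] [Fintype F] [Field K] [Fintype K] (q r : ℕ) (hK : Fintype.card K = q) (hF : Fintype.card F = q ^ r) (hq : Even q) (hq2 : q ≠ 2) (hr : r.Prime) : ∃ H : Subgroup (Matrix.ProjectiveSpecialLinearGroup (Fin 2) F), IsCoatom H ∧ Nonempty (H ≃* Matrix.ProjectiveSpecialLinearGroup (Fin 2) K) := by
  classical
  obtain ⟨p, a, hp, ha, hKc⟩ := exists_prime_pow K
  have : Fact p.Prime := ⟨hp⟩
  have hqa : q = p ^ a := by rw [← hK, hKc]
  have hFc : Fintype.card F = (p ^ a) ^ r := by rw [hF, hqa]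
  have : CharP F p := charP_of_card_eq_prime_pow (f := a * r) (by rw [hFc, pow_mul])
  have hq0 : q % 2 = 0 := Nat.even_iff.mp hq
  have hq4 : 4 ≤ q := by
    have : 2 ≤ q := hK ▸ Fintype.one_lt_card
    omega
  have hr2' : 2 ≤ r := hr.two_le
  obtain ⟨j⟩ := Cfsg.Agent.Lib.Helper5.SubfieldPSL.exists_ringHom (K := K) (F := F) r (by omega)
    (by rw [hK, hF])
  obtain ⟨H₀, ⟨e⟩⟩ := Cfsg.Agent.Lib.Helper5.SubfieldPSL.exists_PSL j
  have hmono : ∀ q₁ q₂ : ℕ, q₁ ≤ q₂ → q₁ * ((q₁ - 1) * (q₁ + 1)) ≤ q₂ * ((q₂ - 1) * (q₂ + 1)) :=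
    fun q₁ q₂ h => Nat.mul_le_mul h (Nat.mul_le_mul (by omega) (by omega))
  have hc0 : Nat.card H₀ = q * ((q - 1) * (q + 1)) := by
    rw [Nat.card_congr e.toEquiv]
    have := card_PSL2_mul (F := K)
    rw [hK, gcd_two_of_even hq0 (by omega), one_mul] at this
    exact this
  have hA60 : 60 ≤ q * ((q - 1) * (q + 1)) := hmono 4 q hq4
  have hG := card_PSL2_mul (F := F)
  have hqr2 : q ^ r % 2 = 0 := by
    rw [Nat.pow_mod, hq0, zero_pow (by omega)]; simp
  rw [hF, gcd_two_of_even hqr2 (Nat.one_le_pow _ _ (by omega)), one_mul] at hG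
  refine ⟨H₀, ?_, ⟨e⟩⟩
  apply isCoatom_of_card
  · intro h
    rw [← Subgroup.card_eq_iff_eq_top] at h
    rw [← h, hc0] at hG
    have h0 : q ^ 2 ≤ q ^ r := Nat.pow_le_pow_right (by omega) hr2'
    have h1 : 3 * q ≤ q ^ r := by
      refine le_trans ?_ h0
      rw [pow_two]; exact Nat.mul_le_mul_right q (by omega)
    have h2 : (3 * q) * ((3 * (q - 1)) * (q + 1)) ≤ q ^ r * ((q ^ r - 1) * (q ^ r + 1)) :=
      Nat.mul_le_mul h1 (Nat.mul_le_mul (by omega) (by omega))
    have h3 : (3 * q) * ((3 * (q - 1)) * (q + 1)) = 9 * (q * ((q - 1) * (q + 1))) := by ring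
    omega
  · intro H hle hne
    have hdvd : Nat.card H₀ ∣ Nat.card H := Subgroup.card_dvd_of_le hle
    obtain ⟨f, hf⟩ := exists_embedding e hle
    obtain ⟨hn1, hn2⟩ := not_small_of_PSL p H f hf (by omega) (Or.inr (by omega))
    rcases dickson p H with h | h | ⟨⟨e'⟩⟩ | ⟨⟨e'⟩⟩ | ⟨⟨e'⟩⟩ | h
    · exact absurd h hn1
    · exact absurd h hn2
    · rw [Nat.card_congr e'.toEquiv, card_A4]; omega
    · rw [Nat.card_congr e'.toEquiv, card_S4]; omega
    · rw [Nat.card_congr e'.toEquiv, card_A5]; omega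
    · obtain ⟨q₀, hq₀, hcard⟩ := subfield_between H h p a r hp ha hr hFc 1
        (Nat.card H₀) (one_dvd 2) (by rw [one_mul, hc0, hqa]) hdvd
      rw [← hqa] at hq₀
      rcases hq₀ with hq₀ | hq₀ <;> rw [hq₀] at hcard
      · rcases hcard with h1 | ⟨h1, -⟩
        · rw [gcd_two_of_even hq0 (by omega), one_mul] at h1
          omega
        · omega
      · exfalso
        rcases hcard with h1 | ⟨-, h1⟩
        · apply hne
          apply eq_top_of_card
          rw [hF]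
          exact h1
        · omega

end Cfsg.Agent.S5943
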