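import Mathlib
import Cfsg.Statements.S5946

set_option autoImplicit false
open Cfsg

namespace Cfsg.Agent.S5946

/-- Let F ⊆ K be finite fields with [K : F] = n ≥ 2 and regard K as an n-dimensional F-vector space. The Singer group M ≤ GL_F(K) of multiplications by the non-zero elements of K is self-centralizing: every F-linear automorphism of K commuting with all of M lies in M. -/
theorem result {F K : Type*} [Field F] [Fintype F] [Field K] [Fintype K] [Algebra F K] (n : ℕ) (hn : 2 ≤ n) (hdim : Module.finrank F K = n) :
    Subgroup.centralizer (((Units.map ((Algebra.lmul F K : K →ₐ[F] Module.End F K) : K →* Module.End F K)).range : Subgroup (Module.End F K)ˣ) : Set (Module.End F K)ˣ) = (Units.map ((Algebra.lmul F K : K →ₐ[F] Module.End F K) : K →* Module.End F K)).range := by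
  set L : K →* Module.End F K := ((Algebra.lmul F K : K →ₐ[F] Module.End F K) : K →* Module.End F K) with hL
  have hLapp : ∀ a b : K, L a b = a * b := fun a b => rfl
  ext φ
  constructor
  · intro hφ
    rw [Subgroup.mem_centralizer_iff] at hφ
    have hcomm : ∀ u : Kˣ, ∀ x : K, (u : K) * (φ : Module.End F K) x = (φ : Module.End F K) (u * x) := by
      intro u x
      have := hφ (Units.map L u) ⟨u, rfl⟩
      have h2 := congrArg (fun ψ : (Module.End F K)ˣ => (ψ : Module.End F K) x) this
      simp only [Units.val_mul, Module.End.mul_apply, Units.coe_map, hLapp] at h2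
      exact h2
    set c : K := (φ : Module.End F K) 1 with hc
    have hinj : Function.Injective (φ : Module.End F K) := by
      intro x y hxy
      have := congrArg (fun z => ((φ⁻¹ : (Module.End F K)ˣ) : Module.End F K) z) hxy
      change ((φ⁻¹ : (Module.End F K)ˣ) : Module.End F K) ((φ : Module.End F K) x)
        = ((φ⁻¹ : (Module.End F K)ˣ) : Module.End F K) ((φ : Module.End F K) y) at this
      rw [← Module.End.mul_apply, ← Module.End.mul_apply, ← Units.val_mul, inv_mul_cancel] at this
      exact this
    have hc0 : c ≠ 0 := by
      intro h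
      have : (φ : Module.End F K) 1 = (φ : Module.End F K) 0 := by rw [map_zero]; exact h
      exact one_ne_zero (hinj this)
    refine ⟨Units.mk0 c hc0, ?_⟩
    apply Units.ext
    apply LinearMap.ext
    intro x
    rw [Units.coe_map]
    change c * x = _
    by_cases hx : x = 0
    · rw [hx, mul_zero, map_zero]
    · have := hcomm (Units.mk0 x hx) 1
      rw [Units.val_mk0, mul_one] at this
      rw [← this, mul_comm]
  · rintro ⟨u, rfl⟩
    rw [Subgroup.mem_centralizer_iff]
    rintro _ ⟨v, rfl⟩
    rw [← map_mul, ← map_mul, mul_comm]

end Cfsg.Agent.S5946
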