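import Mathlib
import Cfsg.Statements.S5949
import Cfsg.Agent.Lib.Helper2.ElusD

set_option autoImplicit false
set_option maxHeartbeats 1000000
open scoped MatrixGroups
open Cfsg

namespace Cfsg.Agent.S5949

open Cfsg.Agent.Lib.Helper2.Elus Module

/-- Elements of prime order of PSL_n(q) with no fixed `m`-space. Here `T = PSL_n(F)` for a field `F` with `q = p^f` elements (`n ≥ 2`, `(n, q) ≠ (2, 2), (2, 3)`); an element of `T` of prime order `r` is represented by a matrix `x` of determinant 1 with `x^r` scalar and `x` not scalar; `i` denotes the multiplicative order of `q` modulo `r` (when `r ≠ p`), and `(a)_r` the `r`-part of `a`. Let `1 ≤ m ≤ n/2` and let `r` be a prime dividing the number of `m`-dimensional subspaces of `F^n`. Then every element of `T` of order `r` fixes some `m`-dimensional subspace (the action on `m`-spaces is `r`-elusive) if and only if `r ≠ p` and either (i) `i = 1` and (`r ∣ m`, or `(q−1)_r ≥ (n)_r` where in addition `q ≡ 1 (mod 4)` is required when `r = 2` and `n` is even), or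 (ii) `2 ≤ i ≤ m` and `n mod i ≥ m mod i`. -/
theorem result {F : Type*} [Field F] [Fintype F] {p : ℕ} [Fact p.Prime] [CharP F p] {q : ℕ} (hq : Fintype.card F = q)
    (n m : ℕ) (hn : 2 ≤ n) (hT : (n, q) ≠ (2, 2) ∧ (n, q) ≠ (2, 3)) (hm : 1 ≤ m) (hmn : 2 * m ≤ n)
    (r : ℕ) [Fact r.Prime] (hrΩ : r ∣ Nat.card {W : Submodule F (Fin n → F) // Module.finrank F ↥W = m}) :
    (∀ x : Matrix.SpecialLinearGroup (Fin n) F,
      (∃ c : F, ((x ^ r : Matrix.SpecialLinearGroup (Fin n) F) : Matrix (Fin n) (Fin n) F) = c • (1 : Matrix (Fin n) (Fin n) F)) →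
      (∀ c : F, (x : Matrix (Fin n) (Fin n) F) ≠ c • (1 : Matrix (Fin n) (Fin n) F)) →
      ∃ W : Submodule F (Fin n → F), Module.finrank F ↥W = m ∧ W.map (Matrix.toLin' (x : Matrix (Fin n) (Fin n) F)) ≤ W) ↔
    (r ≠ p ∧
      ((orderOf (q : ZMod r) = 1 ∧ (r ∣ m ∨ (padicValNat r n ≤ padicValNat r (q - 1) ∧ (r = 2 → Even n → q % 4 = 1)))) ∨
       (2 ≤ orderOf (q : ZMod r) ∧ orderOf (q : ZMod r) ≤ m ∧ m % orderOf (q : ZMod r) ≤ n % orderOf (q : ZMod r)))) := by
  classical
  subst hq
  have hr : r.Prime := Fact.out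
  have hp : p.Prime := Fact.out
  have hfinV : finrank F (Fin n → F) = n := Module.finrank_fin_fun F
  have hmn' : m ≤ finrank F (Fin n → F) := by
    rw [hfinV]
    omega
  obtain ⟨j, hjm, hj⟩ := exists_dvd_of_dvd_card (F := F) (V := Fin n → F) m hmn' r hrΩ
  rw [hfinV] at hj
  have hrp : r ≠ p := ne_char_of_dvd_sub_one (F := F) r (n - j) (by omega) hj
  have hrq : ¬ r ∣ Fintype.card F := not_dvd_card_of_ne (F := F) r hrp
  have hij : orderOf ((Fintype.card F : ℕ) : ZMod r) ∣ n - j :=
    ord_dvd_of_dvd_sub_one r _ _ Fintype.card_pos hj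
  have hipos := ord_pos r (Fintype.card F) hrq
  have hrF : (r : F) ≠ 0 := by
    intro h
    have h1 := (CharP.cast_eq_zero_iff F p r).mp h
    exact hrp ((Nat.prime_dvd_prime_iff_eq hp hr).mp h1).symm
  obtain ⟨k, -, hk⟩ := FiniteField.card F p
  constructor
  · intro H
    refine ⟨hrp, ?_⟩
    by_cases hi1 : orderOf ((Fintype.card F : ℕ) : ZMod r) = 1
    · left
      refine ⟨hi1, ?_⟩
      by_contra hcon
      rw [not_or] at hcon
      obtain ⟨hrm, hcon2⟩ := hcon
      have hr1 : r ∣ Fintype.card F - 1 := (ord_eq_one_iff r _ Fintype.card_pos).mp hi1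
      obtain ⟨f, c, hdet, hf, hns, hdiv⟩ := exists_derangement_one (F := F) n hn r hr1 hcon2
      obtain ⟨W, hWm, hW⟩ := H (toSL f hdet) ⟨c, toSL_pow f hdet r c hf⟩ (by
        intro c' hc'
        apply hns c'
        rw [← toLin'_toSL f hdet, hc', toLin'_smul_one])
      rw [toLin'_toSL] at hW
      have h1 := hdiv W (inv_iff_map_le.mpr hW)
      rw [hWm] at h1
      exact hrm h1
    · right
      have hi2 : 2 ≤ orderOf ((Fintype.card F : ℕ) : ZMod r) := by omega
      have hin : orderOf ((Fintype.card F : ℕ) : ZMod r) ≤ n := by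
        have h1 := Nat.le_of_dvd (by omega) hij
        omega
      obtain ⟨y, hdet, hy, hns, hker⟩ := exists_ss_elt (F := F) (p := p) n r hrp hi2 hin
      obtain ⟨W, hWm, hW⟩ := H (toSL y hdet)
        ⟨1, toSL_pow y hdet r 1 (by rw [hy, one_smul])⟩ (by
        intro c' hc'
        apply hns c'
        rw [← toLin'_toSL y hdet, hc', toLin'_smul_one])
      rw [toLin'_toSL] at hW
      obtain ⟨a, ha1, ha2, ha3⟩ := mod_le_of_inv y r hy hrq W (inv_iff_map_le.mpr hW)
      rw [hWm] at ha2 ha3
      rw [hker] at ha1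
      obtain ⟨z, hz⟩ := ha3
      obtain ⟨w, hw⟩ := hij
      have hlt : n % orderOf ((Fintype.card F : ℕ) : ZMod r) <
          orderOf ((Fintype.card F : ℕ) : ZMod r) := Nat.mod_lt n hipos
      have hma : m = a + orderOf ((Fintype.card F : ℕ) : ZMod r) * z := by omega
      have hmmod : m % orderOf ((Fintype.card F : ℕ) : ZMod r) = a := by
        conv_lhs => rw [hma]
        rw [Nat.add_mul_mod_self_left, Nat.mod_eq_of_lt (by omega)]
      refine ⟨hi2, ?_, by rw [hmmod]; exact ha1⟩
      by_contra hlt2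
      push Not at hlt2
      have hz0 : z = 0 := by
        by_contra hz0
        have h1 : orderOf ((Fintype.card F : ℕ) : ZMod r) * 1 ≤
            orderOf ((Fintype.card F : ℕ) : ZMod r) * z :=
          Nat.mul_le_mul_left _ (Nat.one_le_iff_ne_zero.mpr hz0)
        omega
      have hnj : n = j + orderOf ((Fintype.card F : ℕ) : ZMod r) * w := by omega
      have hnmod : n % orderOf ((Fintype.card F : ℕ) : ZMod r) = j := by
        conv_lhs => rw [hnj]
        rw [Nat.add_mul_mod_self_left, Nat.mod_eq_of_lt (by omega)]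
      subst hz0
      omega
  · rintro ⟨-, hcond⟩ x ⟨c, hxc⟩ hxns
    have hf : (Matrix.toLin' (x : Matrix (Fin n) (Fin n) F) : Module.End F (Fin n → F)) ^ r =
        c • 1 := pow_of_SL x r c hxc
    have hdet : LinearMap.det (Matrix.toLin' (x : Matrix (Fin n) (Fin n) F)) = 1 := by
      rw [LinearMap.det_toLin']
      exact x.2
    generalize (Matrix.toLin' (x : Matrix (Fin n) (Fin n) F)) = f at hf hdet ⊢
    have hc0 : c ≠ 0 := by
      rintro rfl
      have h1 : (LinearMap.det f) ^ r =
          LinearMap.det ((0 : F) • (1 : Module.End F (Fin n → F))) := by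
        rw [← map_pow]
        exact congrArg _ hf
      rw [hdet, one_pow, LinearMap.det_smul, hfinV, zero_pow (by omega), zero_mul] at h1
      exact one_ne_zero h1
    suffices h : ∃ W : Submodule F (Fin n → F), finrank F W = m ∧ Inv f W by
      obtain ⟨W, h1, h2⟩ := h
      exact ⟨W, h1, inv_iff_map_le.mp h2⟩
    by_cases hpow : ∃ l : F, l ^ r = c
    · obtain ⟨l, hl⟩ := hpow
      have hl0 : l ≠ 0 := by
        rintro rfl
        rw [zero_pow hr.ne_zero] at hl
        exact hc0 hl.symm
      have hy : (l⁻¹ • f) ^ r = 1 := scale_pow f r l hl0 (by rw [hl]; exact hf)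
      have hmod : m % orderOf ((Fintype.card F : ℕ) : ZMod r) ≤
          finrank F (LinearMap.ker (l⁻¹ • f - 1)) := by
        rcases hcond with ⟨hi1, -⟩ | ⟨hi2, him, hmod⟩
        · rw [hi1, Nat.mod_one]
          exact Nat.zero_le _
        · obtain ⟨s, hs⟩ := orderOf_dvd_sub (l⁻¹ • f) r hy hrq
          have hle : finrank F (LinearMap.ker (l⁻¹ • f - 1)) ≤ finrank F (Fin n → F) :=
            Submodule.finrank_le _
          rw [hfinV] at hs hle
          have hn' : n = finrank F (LinearMap.ker (l⁻¹ • f - 1)) +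
              orderOf ((Fintype.card F : ℕ) : ZMod r) * s := by omega
          have h1 : n % orderOf ((Fintype.card F : ℕ) : ZMod r) =
              finrank F (LinearMap.ker (l⁻¹ • f - 1)) %
                orderOf ((Fintype.card F : ℕ) : ZMod r) := by
            conv_lhs => rw [hn']
            rw [Nat.add_mul_mod_self_left]
          have h2 := Nat.mod_le (finrank F (LinearMap.ker (l⁻¹ • f - 1)))
            (orderOf ((Fintype.card F : ℕ) : ZMod r))
          omega
      obtain ⟨W, hWm, hW⟩ := exists_inv_finrank hk (l⁻¹ • f) r hrp hrF hy m hmn' hmod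
      exact ⟨W, hWm, scale_inv f l hl0 W hW⟩
    · push Not at hpow
      rcases hcond with ⟨hi1, hor⟩ | ⟨hi2, -, -⟩
      · have hrm : r ∣ m := by
          rcases hor with h | ⟨hA, hB⟩
          · exact h
          · exact (caseB_arith n r f c hdet hf hpow hA hB (by omega)).elim
        obtain ⟨b, hb⟩ := hrm
        obtain ⟨U, W, -, hU, -, hUf, -⟩ := exists_flagB f r c hf hpow b b le_rfl
          (by rw [← hb]; exact hmn')
        exact ⟨U, by rw [hUf, hb], hU⟩
      · exfalso
        have hr1 : ¬ r ∣ Fintype.card F - 1 := by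
          intro h
          rw [← ord_eq_one_iff r _ Fintype.card_pos] at h
          omega
        obtain ⟨l, hl⟩ := exists_root r hr1 c hc0
        exact hpow l hl

end Cfsg.Agent.S5949
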