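import Mathlib
import Cfsg.Statements.S5950
import Cfsg.Agent.Lib.Helper2.JordC
import Cfsg.Agent.S5949

set_option maxHeartbeats 1000000
-- import your own Cfsg.Agent.* helpers here

set_option autoImplicit false
open scoped MatrixGroups
open Cfsg

namespace Cfsg.Agent.S5950

open Cfsg.Agent.Lib.Helper2

/-- Elements of prime order of PSL_n(q) fixing no decomposition `F^n = U ⊕ W` with `dim U = m`. Here `T = PSL_n(F)` for a field `F` with `q = p^f` elements (`n ≥ 2`, `(n, q) ≠ (2, 2), (2, 3)`); an element of `T` of prime order `r` is represented by a matrix `x` of determinant 1 with `x^r` scalar and `x` not scalar; `i` denotes the multiplicative order of `q` modulo `r` (when `r ≠ p`), and `(a)_r` the `r`-part of `a`. Let `n ≥ 3`, `1 ≤ m < n/2`, and let `r` be a prime dividing the number of such decompositions (unordered pairs `{U, W}` of complementary subspaces with `dim U = m`; since `m ≠ n − m` these are the ordered pairs with `dim U = m`). Then every element of `T` of order `r` fixes such a pair (fixes both `U` and `W` for some complementary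 `U, W` with `dim U = m`) if and only if one of: (i) `r = p > 2` and every partition of `n` into parts of size at most `p` contains, as a sub-multiset, a partition of `m`; (ii) `r = p = 2` and `n` is odd or `m` is even; (iii) `r ≠ p`, `i = 1`, and `r ∣ m` or `(q−1)_r ≥ (n)_r` (with `q ≡ 1 (mod 4)` required when `r = 2` and `n` is even); (iv) `r ≠ p`, `2 ≤ i ≤ m` and `n mod i ≥ m mod i`. -/
theorem result {F : Type*} [Field F] [Fintype F] {p : ℕ} [Fact p.Prime] [CharP F p] {q : ℕ} (hq : Fintype.card F = q)
    (n m : ℕ) (hn : 3 ≤ n) (hm : 1 ≤ m) (hmn : 2 * m < n)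
    (r : ℕ) [Fact r.Prime]
    (hrΩ : r ∣ Nat.card {P : Submodule F (Fin n → F) × Submodule F (Fin n → F) // IsCompl P.1 P.2 ∧ Module.finrank F ↥P.1 = m}) :
    (∀ x : Matrix.SpecialLinearGroup (Fin n) F,
      (∃ c : F, ((x ^ r : Matrix.SpecialLinearGroup (Fin n) F) : Matrix (Fin n) (Fin n) F) = c • (1 : Matrix (Fin n) (Fin n) F)) →
      (∀ c : F, (x : Matrix (Fin n) (Fin n) F) ≠ c • (1 : Matrix (Fin n) (Fin n) F)) →
      ∃ U W : Submodule F (Fin n → F), IsCompl U W ∧ Module.finrank F ↥U = m ∧
        U.map (Matrix.toLin' (x : Matrix (Fin n) (Fin n) F)) ≤ U ∧ W.map (Matrix.toLin' (x : Matrix (Fin n) (Fin n) F)) ≤ W) ↔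
    ((r = p ∧ 2 < p ∧ (∀ μ : Multiset ℕ, (∀ a ∈ μ, 0 < a ∧ a ≤ p) → μ.sum = n → ∃ ν : Multiset ℕ, ν ≤ μ ∧ ν.sum = m)) ∨
     (r = p ∧ p = 2 ∧ (Odd n ∨ Even m)) ∨
     (r ≠ p ∧
      ((orderOf (q : ZMod r) = 1 ∧ (r ∣ m ∨ (padicValNat r n ≤ padicValNat r (q - 1) ∧ (r = 2 → Even n → q % 4 = 1)))) ∨
       (2 ≤ orderOf (q : ZMod r) ∧ orderOf (q : ZMod r) ≤ m ∧ m % orderOf (q : ZMod r) ≤ n % orderOf (q : ZMod r))))) := by
  classical
  subst hq
  have hr : r.Prime := Fact.out
  have hp : p.Prime := Fact.out
  have hmle : m ≤ n := by omega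
  have hn0 : 0 < n := by omega
  by_cases hrp : r = p
  · subst hrp
    constructor
    · intro H
      have hpart := Jord.part_of_fix (F := F) (p := r) n m hn0 hmle H
      by_cases h2 : r = 2
      · right
        left
        refine ⟨rfl, h2, ?_⟩
        exact (Jord.part_two_iff n m hmle).mp (fun μ hμ hs => hpart μ (fun a ha => by
          have := hμ a ha
          omega) hs)
      · left
        refine ⟨rfl, ?_, hpart⟩
        have := hr.two_le
        omega
    · intro hR x hx1 hxns
      obtain ⟨c, hxc⟩ := hx1
      have hpart : ∀ μ : Multiset ℕ, (∀ a ∈ μ, 0 < a ∧ a ≤ r) → μ.sum = n →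
          ∃ ν : Multiset ℕ, ν ≤ μ ∧ ν.sum = m := by
        rcases hR with ⟨-, -, h⟩ | ⟨-, h2, h⟩ | ⟨hne, -⟩
        · exact h
        · intro μ hμ hs
          exact (Jord.part_two_iff n m hmle).mpr h μ (fun a ha => by
            have := hμ a ha
            omega) hs
        · exact absurd rfl hne
      exact Jord.fix_of_part n m hn0 hpart x c hxc
  · have hrq : ¬ r ∣ Fintype.card F := Elus.not_dvd_card_of_ne (F := F) r hrp
    have hΩ' : r ∣ Nat.card {W : Submodule F (Fin n → F) // Module.finrank F ↥W = m} := by
      rw [Jord.card_decomp] at hrΩ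
      rcases (Nat.Prime.dvd_mul hr).mp hrΩ with h | h
      · exact h
      · exact absurd (hr.dvd_of_dvd_pow h) hrq
    have h49 := Cfsg.Agent.S5949.result (F := F) (p := p) (q := Fintype.card F) rfl n m
      (by omega) ⟨by intro h; have := (Prod.mk.inj h).1; omega,
        by intro h; have := (Prod.mk.inj h).1; omega⟩ hm (by omega) r hΩ'
    constructor
    · intro H
      right
      right
      apply h49.mp
      intro x h1 h2
      obtain ⟨U, W, -, hUm, hU, -⟩ := H x h1 h2
      exact ⟨U, hUm, hU⟩
    · intro hR x hx1 hx2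
      rcases hR with ⟨h, -⟩ | ⟨h, -⟩ | hR
      · exact absurd h hrp
      · exact absurd h hrp
      · obtain ⟨U, hUm, hU⟩ := h49.mpr hR x hx1 hx2
        obtain ⟨c, hxc⟩ := hx1
        have hf : (Matrix.toLin' (x : Matrix (Fin n) (Fin n) F) : Module.End F (Fin n → F)) ^ r =
            c • 1 := Elus.pow_of_SL x r c hxc
        have hdet : LinearMap.det (Matrix.toLin' (x : Matrix (Fin n) (Fin n) F)) = 1 := by
          rw [LinearMap.det_toLin']
          exact x.2
        generalize (Matrix.toLin' (x : Matrix (Fin n) (Fin n) F)) = f at hf hdet hU ⊢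
        have hfinV : Module.finrank F (Fin n → F) = n := Module.finrank_fin_fun F
        have hc0 : c ≠ 0 := by
          rintro rfl
          have h1 : (LinearMap.det f) ^ r =
              LinearMap.det ((0 : F) • (1 : Module.End F (Fin n → F))) := by
            rw [← map_pow]
            exact congrArg _ hf
          rw [hdet, one_pow, LinearMap.det_smul, hfinV, zero_pow (by omega), zero_mul] at h1
          exact one_ne_zero h1
        have hrF : (r : F) ≠ 0 := by
          intro h
          have h1 := (CharP.cast_eq_zero_iff F p r).mp h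
          exact hrp ((Nat.prime_dvd_prime_iff_eq hp hr).mp h1).symm
        have hss : Module.End.IsSemisimple (f : Module.End F (Fin n → F)) := by
          apply Module.End.isSemisimple_of_squarefree_aeval_eq_zero
            (p := Polynomial.X ^ r - Polynomial.C c)
          · exact (Polynomial.separable_X_pow_sub_C c hrF hc0).squarefree
          · rw [map_sub, map_pow, Polynomial.aeval_X, Polynomial.aeval_C, hf,
              Algebra.algebraMap_eq_smul_one, sub_self]
        obtain ⟨W, hW, hUW⟩ := (Module.End.isSemisimple_iff.mp hss) U (by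
          rw [Module.End.mem_invtSubmodule]
          exact Submodule.map_le_iff_le_comap.mp hU)
        exact ⟨U, W, hUW, hUm, hU,
          Submodule.map_le_iff_le_comap.mpr ((Module.End.mem_invtSubmodule _).mp hW)⟩

end Cfsg.Agent.S5950
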