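import Cfsg.Statements.S5955
import Cfsg.Agent.Lib.Helper2.SpTiE

set_option autoImplicit false
set_option maxHeartbeats 1000000
set_option linter.unusedVariables false
set_option linter.style.longLine false
open scoped MatrixGroups
open Cfsg

namespace Cfsg.Agent.S5955

open Module Cfsg.Agent.Lib.Helper2 Cfsg.Agent.Lib.Helper2.SpImp Cfsg.Agent.Lib.Helper2.SpTi
  Cfsg.Agent.Lib.Helper5.SympBridge

/-- Elements of prime order of PSp_n(q) with no fixed totally isotropic `m`-space. Here `T = PSp_n(q)` with `n = 2d ≥ 4`, `(n, q) ≠ (4, 2)`, realised through the symplectic matrices over the field `F` with `q` elements (preserving the standard alternating form); an element of `T` of prime order `r` is such a matrix `x` with `x^r` scalar and `x` not scalar. For `r ≠ p` let `i` be the multiplicative order of `q` modulo `r`, `c = i` for `i` even and `c = 2i` for `i` odd, and write `k = n mod c`, `ℓ = m mod i`, `ℓ' = m mod c`, `n' = ⌊n/i⌋`,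 `m' = ⌊m/i⌋`, `t = (r−1)/i`. Let `1 ≤ m ≤ n/2` and let `r` be a prime dividing the number of totally isotropic `m`-spaces. Then every element of `T` of order `r` fixes a totally isotropic `m`-space if and only if either (i) `r = 2 ≠ p` and (`m` is even or `q ≡ 1 (mod 4)`); or (ii) `r ≠ p`, `r > 2`, `i ≤ m`, `k ≥ 2ℓ`, and (`i` is odd or `n' − 2m' ≥ t`). -/
theorem result {F : Type*} [Field F] [Fintype F] {p : ℕ} [Fact p.Prime] [CharP F p] {q : ℕ} (hq : Fintype.card F = q)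
    (d m : ℕ) (hd : 2 ≤ d) (hT : (d, q) ≠ (2, 2)) (hm : 1 ≤ m) (hmd : m ≤ d)
    (r : ℕ) [Fact r.Prime]
    (hrΩ : r ∣ Nat.card {W : Submodule F (Fin d ⊕ Fin d → F) // Module.finrank F ↥W = m ∧ (∀ u ∈ W, ∀ v ∈ W, Cfsg.sympForm d F u v = 0)})
    (i c : ℕ) (hi : i = orderOf (q : ZMod r)) (hc : c = if Even i then i else 2 * i) :
    (∀ x : ↥(Matrix.symplecticGroup (Fin d) F),
      (∃ z : F, ((x ^ r : ↥(Matrix.symplecticGroup (Fin d) F)) : Matrix (Fin d ⊕ Fin d) (Fin d ⊕ Fin d) F) = z • (1 : Matrix (Fin d ⊕ Fin d) (Fin d ⊕ Fin d) F)) →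
      (∀ z : F, (x : Matrix (Fin d ⊕ Fin d) (Fin d ⊕ Fin d) F) ≠ z • (1 : Matrix (Fin d ⊕ Fin d) (Fin d ⊕ Fin d) F)) →
      ∃ W : Submodule F (Fin d ⊕ Fin d → F), Module.finrank F ↥W = m ∧ (∀ u ∈ W, ∀ v ∈ W, Cfsg.sympForm d F u v = 0) ∧
        W.map (Matrix.toLin' (x : Matrix (Fin d ⊕ Fin d) (Fin d ⊕ Fin d) F)) ≤ W) ↔
    ((r = 2 ∧ p ≠ 2 ∧ (Even m ∨ q % 4 = 1)) ∨
     (r ≠ p ∧ 2 < r ∧ i ≤ m ∧ 2 * (m % i) ≤ (2 * d) % c ∧ (Odd i ∨ (r - 1) / i + 2 * (m / i) ≤ (2 * d) / i))) := by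
  classical
  subst hq
  have hr : r.Prime := Fact.out
  have hp : p.Prime := Fact.out
  have hfinV : finrank F (Fin d ⊕ Fin d → F) = 2 * d := by
    rw [Module.finrank_fintype_fun_eq_card, Fintype.card_sum, Fintype.card_fin]
    omega
  obtain ⟨k, -, hk⟩ := FiniteField.card F p
  have hA : (sympBilin F d).IsAlt := sympBilin_isAlt d
  have hB : (sympBilin F d).Nondegenerate := sympBilin_nondegenerate d
  haveI : Nonempty (Fin d ⊕ Fin d) := ⟨Sum.inl ⟨0, by omega⟩⟩
  haveI : Nontrivial (Fin d ⊕ Fin d → F) := inferInstance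
  have hΩ' : r ∣ Nat.card {W : Submodule F (Fin d ⊕ Fin d → F) //
      finrank F W = m ∧ TI (sympBilin F d) W} := hrΩ
  have hrp : r ≠ p := by
    intro h
    apply char_not_dvd_card_ti (p := p) (sympBilin F d) hA hB m (by rw [hfinV]; omega)
    exact h ▸ hΩ'
  have hrq : ¬ r ∣ Fintype.card F := Elus.not_dvd_card_of_ne (F := F) r hrp
  have hrF : (r : F) ≠ 0 := by
    intro h
    have h1 := (CharP.cast_eq_zero_iff F p r).mp h
    exact hrp ((Nat.prime_dvd_prime_iff_eq hp hr).mp h1).symm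
  have h1 := sp_matrix_bridge (F := F) d r (fun f =>
    ∃ W : Submodule F (Fin d ⊕ Fin d → F), Module.finrank F ↥W = m ∧
      (∀ u ∈ W, ∀ v ∈ W, Cfsg.sympForm d F u v = 0) ∧ W.map f ≤ W)
  refine h1.trans ?_
  by_cases hr2 : r = 2
  · have hp2 : p ≠ 2 := fun h => hrp (hr2.trans h.symm)
    have h2F : (2 : F) ≠ 0 := by
      have h3 := hrF
      rw [hr2] at h3
      exact_mod_cast h3
    have hqodd : Fintype.card F % 2 = 1 := by
      rw [hk]
      exact Nat.odd_iff.mp (Odd.pow (hp.odd_of_ne_two hp2))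
    have hmain := ti_two_main (F := F) h2F hqodd d m (by omega) hmd
    subst hr2
    constructor
    · intro H
      left
      refine ⟨rfl, hp2, ?_⟩
      apply hmain.mp
      intro f hfB hf hfns
      obtain ⟨W, hW1, hW2, hW3⟩ := H f hfB hf hfns
      exact ⟨W, hW1, hW2, Elus.inv_iff_map_le.mpr hW3⟩
    · rintro (⟨-, -, hcond⟩ | ⟨-, h2r, -⟩)
      · intro f hfB hf hfns
        obtain ⟨W, hW1, hW2, hW3⟩ := hmain.mpr hcond f hfB hf hfns
        exact ⟨W, hW1, hW2, Elus.inv_iff_map_le.mp hW3⟩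
      · omega
  · have h2 := sp_scalar_reduce (sympBilin F d) hB r hr2 (fun f =>
      ∃ W : Submodule F (Fin d ⊕ Fin d → F), Module.finrank F ↥W = m ∧
        (∀ u ∈ W, ∀ v ∈ W, Cfsg.sympForm d F u v = 0) ∧ W.map f ≤ W) (by
      rintro f z hz ⟨W, hW1, hW2, hW3⟩
      refine ⟨W, hW1, hW2, ?_⟩
      rw [← Submodule.map_smul f W z hz]
      exact hW3)
    refine h2.trans ?_
    have hmain := ti_odd_main (sympBilin F d) hk hA hB r hr2 hrp hrF hrq i c hi hc d m hfinV hm hmd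
      hΩ'
    have h2r : 2 < r := lt_of_le_of_ne hr.two_le (Ne.symm hr2)
    constructor
    · intro H
      right
      refine ⟨hrp, h2r, ?_⟩
      apply hmain.mp
      intro y hyB hy hy1
      obtain ⟨W, hW1, hW2, hW3⟩ := H y hyB hy hy1
      exact ⟨W, hW1, hW2, Elus.inv_iff_map_le.mpr hW3⟩
    · rintro (⟨h, -, -⟩ | ⟨-, -, hcond⟩)
      · exact absurd h hr2
      · intro y hyB hy hy1
        obtain ⟨W, hW1, hW2, hW3⟩ := hmain.mpr hcond y hyB hy hy1
        exact ⟨W, hW1, hW2, Elus.inv_iff_map_le.mp hW3⟩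

end Cfsg.Agent.S5955
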