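import Mathlib
import Cfsg.Statements.S5957
import Cfsg.Agent.Lib.Helper5.InvolComb
import Cfsg.Agent.Lib.Helper5.DecompAssemble
import Cfsg.Agent.Lib.Helper5.InvolLinear

set_option autoImplicit false
open scoped MatrixGroups
open Cfsg

namespace Cfsg.Agent.S5957

/-- Involutions of PSL_n(q) and imprimitive subgroups. Here `T = PSL_n(F)` for a field `F` with `q = p^f` elements (`n ≥ 2`, `(n, q) ≠ (2, 2), (2, 3)`), `n = a·t` with `t ≥ 2`, and Ω is the set of direct-sum decompositions of `F^n` into `t` subspaces of dimension `a` (unordered; their number is the number of ordered ones divided by `t!`), whose stabilizers are the imprimitive subgroups of type GL_a(q) ≀ S_t (maximal except in some small cases; maximality is not assumed); an element of `T` of prime order `r` (a matrix `x` of determinant 1 with `x^r` scalar, `x` not scalar) fixes a point of Ω when it permutes the summands of some such decomposition. If the number of such decompositions is even, then every involution of `T` stabilizes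 one of them (the action is 2-elusive). -/
theorem result {F : Type*} [Field F] [Fintype F] {p : ℕ} [Fact p.Prime] [CharP F p] {q : ℕ} (hq : Fintype.card F = q)
    (n a t : ℕ) (hn : 2 ≤ n) (hT : (n, q) ≠ (2, 2) ∧ (n, q) ≠ (2, 3)) (hat : n = a * t) (ha : 1 ≤ a) (ht : 2 ≤ t)
    (hΩ : 2 ∣ Nat.card {D : Fin t → Submodule F (Fin n → F) // Cfsg.Geo.IsMDecomposition a D} / Nat.factorial t)
    (x : Matrix.SpecialLinearGroup (Fin n) F)
    (hx1 : ∃ z : F, ((x ^ 2 : Matrix.SpecialLinearGroup (Fin n) F) : Matrix (Fin n) (Fin n) F) = z • (1 : Matrix (Fin n) (Fin n) F))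
    (hx2 : ∀ z : F, (x : Matrix (Fin n) (Fin n) F) ≠ z • (1 : Matrix (Fin n) (Fin n) F)) :
    ∃ D : Fin t → Submodule F (Fin n → F), Cfsg.Geo.IsMDecomposition a D ∧
        ∃ σ : Equiv.Perm (Fin t), ∀ j, (D j).map (Matrix.toLin' (x : Matrix (Fin n) (Fin n) F)) = D (σ j) := by
  classical
  obtain ⟨z, hz⟩ := hx1
  have hn0 : NeZero n := ⟨by omega⟩
  have hMM : (x : Matrix (Fin n) (Fin n) F) * (x : Matrix (Fin n) (Fin n) F) = z • 1 := by
    rw [← hz, pow_two]; rfl
  have hz0 : z ≠ 0 := by
    rintro rfl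
    rw [zero_smul] at hMM
    have hdet := congrArg Matrix.det hMM
    have hne : Nonempty (Fin n) := ⟨⟨0, by omega⟩⟩
    rw [Matrix.det_mul, x.2, Matrix.det_zero] at hdet
    simp at hdet
  have hxx : ∀ v, Matrix.toLin' (x : Matrix (Fin n) (Fin n) F)
      (Matrix.toLin' (x : Matrix (Fin n) (Fin n) F) v) = z • v := by
    intro v
    rw [Matrix.toLin'_apply, Matrix.toLin'_apply, Matrix.mulVec_mulVec, hMM, Matrix.smul_mulVec,
      Matrix.one_mulVec]
  obtain ⟨ι, _, b, τ, hτ, hli, hsp, hb⟩ :=
    Cfsg.Agent.Lib.Helper5.InvolLinear.exists_family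
      (Matrix.toLin' (x : Matrix (Fin n) (Fin n) F)) z hz0 hxx
  have hcard : Fintype.card ι = a * t := by
    have h1 := Module.finrank_eq_card_basis (Module.Basis.mk hli hsp.ge)
    rw [Module.finrank_fin_fun] at h1
    rw [← h1, hat]
  obtain ⟨f, σ, hf, hfσ⟩ := Cfsg.Agent.Lib.Helper5.InvolComb.exists_chunking τ hτ a t ha hcard
  refine ⟨Cfsg.Agent.Lib.Helper5.DecompAssemble.blk b f,
    Cfsg.Agent.Lib.Helper5.DecompAssemble.isMDecomposition f hli hsp a ha ht hf, σ, ?_⟩
  apply Cfsg.Agent.Lib.Helper5.DecompAssemble.map_blk f hli a hf _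
    (Cfsg.Agent.Lib.Helper5.InvolLinear.injective_of_sq _ z hz0 hxx) σ
  intro s
  rw [← hfσ s]
  have h1 : Submodule.span F {b (τ s)} ≤ Cfsg.Agent.Lib.Helper5.DecompAssemble.blk b f (f (τ s)) := by
    rw [Submodule.span_le, Set.singleton_subset_iff]
    exact Cfsg.Agent.Lib.Helper5.DecompAssemble.mem_blk b f (τ s)
  exact h1 (hb s)

end Cfsg.Agent.S5957
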