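import Mathlib
import Cfsg.Statements.S5958
import Cfsg.Agent.Lib.Helper2.ImpD
import Cfsg.Agent.Lib.Helper2.ImpE
import Cfsg.Agent.Lib.Helper2.ImpF

set_option maxHeartbeats 1000000
-- import your own Cfsg.Agent.* helpers here

set_option autoImplicit false
open scoped MatrixGroups
open Cfsg

namespace Cfsg.Agent.S5958

open Module Cfsg.Agent.Lib.Helper2 Cfsg.Agent.Lib.Helper2.Elus

theorem mod_le_of_eq (n k c l : ℕ) (h : n = k + c * l) : n % c ≤ k := by
  subst h
  rw [Nat.add_mul_mod_self_left]
  exact Nat.mod_le _ _

theorem arith1 (a t c : ℕ) (h : ¬ (a * t) % c = t * (a % c)) : c ≤ (a % c) * t := by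
  by_contra hlt
  push Not at hlt
  apply h
  have h1 : a * t = c * ((a / c) * t) + (a % c) * t := by
    conv_lhs => rw [← Nat.div_add_mod a c]
    ring
  rw [h1, Nat.mul_add_mod, Nat.mod_eq_of_lt hlt, mul_comm]


/-- Elements of odd prime order of PSL_n(q) and imprimitive subgroups. Here `T = PSL_n(F)` for a field `F` with `q = p^f` elements (`n ≥ 2`, `(n, q) ≠ (2, 2), (2, 3)`), `n = a·t` with `t ≥ 2`, and Ω is the set of direct-sum decompositions of `F^n` into `t` subspaces of dimension `a` (unordered; their number is the number of ordered ones divided by `t!`), whose stabilizers are the imprimitive subgroups of type GL_a(q) ≀ S_t (maximal except in some small cases; maximality is not assumed); an element of `T` of prime order `r` (a matrix `x` of determinant 1 with `x^r` scalar, `x` not scalar) fixes a point of Ω when it permutes the summands of some such decomposition. Let `r ≠ p` be an odd prime dividing the number of such decompositions, let `c` be the multiplicative order of `q` modulo `r`, and write `k = n mod c`, `ℓ = a mod c`. Then every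 element of `T` of order `r` stabilizes such a decomposition if and only if either `a = 1`, `c = r − 1 > 1` and `n ≤ k·r`, or `c ≤ a` and `k = t·ℓ`. -/
theorem result {F : Type*} [Field F] [Fintype F] {p : ℕ} [Fact p.Prime] [CharP F p] {q : ℕ} (hq : Fintype.card F = q)
    (n a t : ℕ) (hn : 2 ≤ n) (hT : (n, q) ≠ (2, 2) ∧ (n, q) ≠ (2, 3)) (hat : n = a * t) (ha : 1 ≤ a) (ht : 2 ≤ t)
    (r : ℕ) [Fact r.Prime] (hr2 : r ≠ 2) (hrp : r ≠ p) (hΩ : r ∣ Nat.card {D : Fin t → Submodule F (Fin n → F) // Cfsg.Geo.IsMDecomposition a D} / Nat.factorial t)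
    (c : ℕ) (hc : c = orderOf (q : ZMod r)) :
    (∀ x : Matrix.SpecialLinearGroup (Fin n) F,
      (∃ z : F, ((x ^ r : Matrix.SpecialLinearGroup (Fin n) F) : Matrix (Fin n) (Fin n) F) = z • (1 : Matrix (Fin n) (Fin n) F)) →
      (∀ z : F, (x : Matrix (Fin n) (Fin n) F) ≠ z • (1 : Matrix (Fin n) (Fin n) F)) →
      ∃ D : Fin t → Submodule F (Fin n → F), Cfsg.Geo.IsMDecomposition a D ∧
        ∃ σ : Equiv.Perm (Fin t), ∀ j, (D j).map (Matrix.toLin' (x : Matrix (Fin n) (Fin n) F)) = D (σ j)) ↔
    ((a = 1 ∧ 1 < c ∧ c = r - 1 ∧ n ≤ (n % c) * r) ∨ (c ≤ a ∧ n % c = t * (a % c))) := by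
  classical
  subst hq
  have hr : r.Prime := Fact.out
  have hp : p.Prime := Fact.out
  have hfinV : finrank F (Fin n → F) = n := Module.finrank_fin_fun F
  have hrq : ¬ r ∣ Fintype.card F := not_dvd_card_of_ne (F := F) r hrp
  have hcpos : 0 < c := by
    rw [hc]
    exact ord_pos r (Fintype.card F) hrq
  have hrF : (r : F) ≠ 0 := by
    intro h
    have h1 := (CharP.cast_eq_zero_iff F p r).mp h
    exact hrp ((Nat.prime_dvd_prime_iff_eq hp hr).mp h1).symm
  obtain ⟨k, -, hk⟩ := FiniteField.card F p
  have hn0 : 0 < n := by omega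
  have ht0 : 0 < t := by omega
  have hfinV' : finrank F (Fin n → F) = a * t := hfinV.trans hat
  have hprep : ∀ (x : Matrix.SpecialLinearGroup (Fin n) F) (z : F),
      ((x ^ r : Matrix.SpecialLinearGroup (Fin n) F) : Matrix (Fin n) (Fin n) F) =
        z • (1 : Matrix (Fin n) (Fin n) F) →
      (Matrix.toLin' (x : Matrix (Fin n) (Fin n) F) : Module.End F (Fin n → F)) ^ r = z • 1 ∧
        z ≠ 0 := by
    intro x z hxz
    have hf : (Matrix.toLin' (x : Matrix (Fin n) (Fin n) F) : Module.End F (Fin n → F)) ^ r =
        z • 1 := pow_of_SL x r z hxz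
    have hdet : LinearMap.det (Matrix.toLin' (x : Matrix (Fin n) (Fin n) F)) = 1 := by
      rw [LinearMap.det_toLin']
      exact x.2
    refine ⟨hf, ?_⟩
    rintro rfl
    have h1 : (LinearMap.det (Matrix.toLin' (x : Matrix (Fin n) (Fin n) F))) ^ r =
        LinearMap.det ((0 : F) • (1 : Module.End F (Fin n → F))) := by
      rw [← map_pow]
      exact congrArg _ hf
    rw [hdet, one_pow, LinearMap.det_smul, hfinV, zero_pow (by omega), zero_mul] at h1
    exact one_ne_zero h1
  by_cases hc1 : c = 1
  · -- both sides hold
    have hR : (a = 1 ∧ 1 < c ∧ c = r - 1 ∧ n ≤ (n % c) * r) ∨ (c ≤ a ∧ n % c = t * (a % c)) :=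
      Or.inr ⟨by omega, by rw [hc1, Nat.mod_one, Nat.mod_one, mul_zero]⟩
    refine ⟨fun _ => hR, fun _ => ?_⟩
    rintro x ⟨z, hxz⟩ hxns
    obtain ⟨hf, hz0⟩ := hprep x z hxz
    suffices hS : Imp.Stab a t (Matrix.toLin' (x : Matrix (Fin n) (Fin n) F)) by
      obtain ⟨D, h1, h2, h3, σ, h4⟩ := hS
      exact ⟨D, ⟨ht, ha, h1, h2, h3⟩, σ, h4⟩
    by_cases hpow : ∃ w : F, w ^ r = z
    · obtain ⟨w, hw⟩ := hpow
      have hw0 : w ≠ 0 := by
        rintro rfl
        rw [zero_pow hr.ne_zero] at hw
        exact hz0 hw.symm
      have hy : (w⁻¹ • Matrix.toLin' (x : Matrix (Fin n) (Fin n) F)) ^ r = 1 :=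
        scale_pow _ r w hw0 (by rw [hw]; exact hf)
      have h1 := Imp.stab_of_split hk _ r hrp hrF hy a t hfinV' (by
        rw [← hc, hc1, Nat.mod_one, zero_mul]
        exact Nat.zero_le _)
      have h2 := h1.smul w hw0
      rwa [smul_smul, mul_inv_cancel₀ hw0, one_smul] at h2
    · push Not at hpow
      exact Imp.stab_of_nonpow _ r z hf hpow a t hfinV' ha ht0
  · have hc2 : 2 ≤ c := by omega
    have hr1 : ¬ r ∣ Fintype.card F - 1 := by
      intro h
      rw [← ord_eq_one_iff r _ Fintype.card_pos] at h
      exact hc1 (hc.trans h)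
    have hL : (∀ x : Matrix.SpecialLinearGroup (Fin n) F,
        (∃ z : F, ((x ^ r : Matrix.SpecialLinearGroup (Fin n) F) : Matrix (Fin n) (Fin n) F) =
          z • (1 : Matrix (Fin n) (Fin n) F)) →
        (∀ z : F, (x : Matrix (Fin n) (Fin n) F) ≠ z • (1 : Matrix (Fin n) (Fin n) F)) →
        ∃ D : Fin t → Submodule F (Fin n → F), Cfsg.Geo.IsMDecomposition a D ∧
          ∃ σ : Equiv.Perm (Fin t), ∀ j,
            (D j).map (Matrix.toLin' (x : Matrix (Fin n) (Fin n) F)) = D (σ j)) ↔
        ∀ y : Module.End F (Fin n → F), y ^ r = 1 → y ≠ 1 → Imp.Stab a t y := by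
      constructor
      · intro H y hy hy1
        have hdet : LinearMap.det y = 1 :=
          eq_one_of_pow r hr1 _ (by rw [← map_pow, hy, map_one])
        obtain ⟨D, hD, σ, hσ⟩ := H (toSL y hdet)
          ⟨1, toSL_pow y hdet r 1 (by rw [hy, one_smul])⟩ (by
          intro z hz
          have h1 : y = z • 1 := by
            rw [← toLin'_toSL y hdet, hz, toLin'_smul_one]
          have h3 : (z • (1 : Module.End F (Fin n → F))) ^ r = 1 := by
            rw [← h1]
            exact hy
          rw [_root_.smul_pow, one_pow] at h3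
          have h4 : z ^ r • (1 : Module.End F (Fin n → F)) = (1 : F) • 1 := by
            rw [h3, one_smul]
          have h2 : z ^ r = 1 := smul_one_inj hn0 h4
          rw [eq_one_of_pow r hr1 z h2, one_smul] at h1
          exact hy1 h1)
        rw [toLin'_toSL] at hσ
        exact ⟨D, hD.finrank_eq, hD.indep, hD.iSup_eq_top, σ, hσ⟩
      · rintro H x ⟨z, hxz⟩ hxns
        obtain ⟨hf, hz0⟩ := hprep x z hxz
        obtain ⟨w, hw⟩ := exists_root r hr1 z hz0
        have hw0 : w ≠ 0 := by
          rintro rfl
          rw [zero_pow hr.ne_zero] at hw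
          exact hz0 hw.symm
        have hy : (w⁻¹ • Matrix.toLin' (x : Matrix (Fin n) (Fin n) F)) ^ r = 1 :=
          scale_pow _ r w hw0 (by rw [hw]; exact hf)
        have hy1 : w⁻¹ • Matrix.toLin' (x : Matrix (Fin n) (Fin n) F) ≠ 1 := by
          intro h
          apply hxns w
          have h1 : Matrix.toLin' (x : Matrix (Fin n) (Fin n) F) = w • 1 := by
            rw [← h, smul_smul, mul_inv_cancel₀ hw0, one_smul]
          apply Matrix.toLin'.injective
          rw [toLin'_smul_one]
          exact h1
        have h2 := (H _ hy hy1).smul w hw0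
        rw [smul_smul, mul_inv_cancel₀ hw0, one_smul] at h2
        obtain ⟨D, h1, h2', h3, σ, h4⟩ := h2
        exact ⟨D, ⟨ht, ha, h1, h2', h3⟩, σ, h4⟩
    rw [hL]
    have hkdiv : ∀ y : Module.End F (Fin n → F), y ^ r = 1 →
        ∃ l, n = finrank F (LinearMap.ker (y - 1)) + c * l := by
      intro y hy
      obtain ⟨l, hl⟩ := orderOf_dvd_sub y r hy hrq
      rw [hfinV, ← hc] at hl
      have hle := Submodule.finrank_le (LinearMap.ker (y - 1))
      rw [hfinV] at hle
      exact ⟨l, by omega⟩
    have hkmod : ∀ y : Module.End F (Fin n → F), y ^ r = 1 →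
        n % c ≤ finrank F (LinearMap.ker (y - 1)) := by
      intro y hy
      obtain ⟨l, hl⟩ := hkdiv y hy
      exact mod_le_of_eq n _ c l hl
    by_cases hca : c ≤ a
    · by_cases hB : n % c = t * (a % c)
      · refine ⟨fun _ => Or.inr ⟨hca, hB⟩, fun _ y hy _ => ?_⟩
        apply Imp.stab_of_split hk y r hrp hrF hy a t hfinV'
        rw [← hc, mul_comm, ← hB]
        exact hkmod y hy
      · have hnotR : ¬ ((a = 1 ∧ 1 < c ∧ c = r - 1 ∧ n ≤ (n % c) * r) ∨
            (c ≤ a ∧ n % c = t * (a % c))) := by
          rintro (⟨ha1, hc1', -, -⟩ | ⟨-, h⟩)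
          · omega
          · exact hB h
        refine ⟨fun H => ?_, fun h => absurd h hnotR⟩
        exfalso
        have hat0 : c ≤ (a % c) * t := arith1 a t c (by rw [← hat]; exact hB)
        have hcn : c ≤ n := by
          rw [hat]
          exact hca.trans (Nat.le_mul_of_pos_right a ht0)
        obtain ⟨y, hdet, hy, hns, hker⟩ := exists_ss_elt (F := F) (p := p) n r hrp
          (by rw [← hc]; exact hc2) (by rw [← hc]; exact hcn)
        rw [← hc] at hker
        have hy1 : y ≠ 1 := by
          intro h
          exact hns 1 (by rw [h, one_smul])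
        obtain ⟨D, hDf, hind, htop, σ, hσ⟩ := H y hy hy1
        have hne : ∀ j, D j ≠ ⊥ := by
          intro j h
          have := hDf j
          rw [h, finrank_bot] at this
          omega
        have hlt : n % c < c := Nat.mod_lt n hcpos
        by_cases hmoved : ∃ j0, σ j0 ≠ j0
        · obtain ⟨j0, hj0⟩ := hmoved
          have h1 := Imp.finrank_le_ker_of_moved hind hne y r hy σ hσ j0 hj0
          rw [hDf, hker] at h1
          omega
        · push Not at hmoved
          have hinv : ∀ j, Elus.Inv y (D j) := fun j =>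
            inv_iff_map_le.mpr (by rw [hσ, hmoved])
          have hkj : ∀ j, a % c ≤
              finrank F (D j ⊓ LinearMap.ker (y - 1) : Submodule F (Fin n → F)) := by
            intro j
            obtain ⟨m, hm⟩ := mod_inf_of_inv y r hy hrq (D j) (hinv j)
            rw [hDf, ← hc] at hm
            have hle := Submodule.finrank_mono
              (inf_le_left : D j ⊓ LinearMap.ker (y - 1) ≤ D j)
            rw [hDf] at hle
            exact mod_le_of_eq a _ c m (by omega)
          have hsum := Imp.sum_inf_le hind (LinearMap.ker (y - 1))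
          have h2 : t * (a % c) ≤
              ∑ j, finrank F (D j ⊓ LinearMap.ker (y - 1) : Submodule F (Fin n → F)) := by
            calc t * (a % c) = ∑ j : Fin t, a % c := by simp
              _ ≤ _ := Finset.sum_le_sum (fun j _ => hkj j)
          rw [hker] at hsum
          rw [mul_comm] at hat0
          omega
    · push Not at hca
      have hq0 : ((Fintype.card F : ℕ) : ZMod r) ≠ 0 := by
        intro h
        exact hrq ((ZMod.natCast_eq_zero_iff _ _).mp h)
      have hcdvd : c ∣ r - 1 := by
        rw [hc]
        exact ZMod.orderOf_dvd_card_sub_one hq0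
      have hr2 := hr.two_le
      have hcle : c ≤ r - 1 := Nat.le_of_dvd (by omega) hcdvd
      by_cases hA0 : a = 1 ∧ c = r - 1
      · obtain ⟨ha1, hcr⟩ := hA0
        have htn : t = n := by rw [hat, ha1, one_mul]
        by_cases hA : n ≤ (n % c) * r
        · refine ⟨fun _ => Or.inl ⟨ha1, by omega, hcr, hA⟩, fun _ y hy _ => ?_⟩
          rw [ha1, htn]
          apply Imp.stab_of_regular y r hrF hrq hy (by rw [← hc]; exact hcr) n hfinV
          have hmod := hkmod y hy
          have h1 : finrank F (LinearMap.ker (y - 1)) * r =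
              (r - 1) * finrank F (LinearMap.ker (y - 1)) + finrank F (LinearMap.ker (y - 1)) := by
            have := Nat.succ_mul (r - 1) (finrank F (LinearMap.ker (y - 1)))
            rw [Nat.succ_eq_add_one, Nat.sub_add_cancel hr.pos] at this
            rw [mul_comm]
            exact this
          have h2 : (n % c) * r ≤ finrank F (LinearMap.ker (y - 1)) * r :=
            Nat.mul_le_mul_right r hmod
          omega
        · have hnotR : ¬ ((a = 1 ∧ 1 < c ∧ c = r - 1 ∧ n ≤ (n % c) * r) ∨
              (c ≤ a ∧ n % c = t * (a % c))) := by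
            rintro (⟨-, -, -, h⟩ | ⟨h, -⟩)
            · exact hA h
            · omega
          refine ⟨fun H => ?_, fun h => absurd h hnotR⟩
          exfalso
          have hcn : c ≤ n := by
            by_contra h
            push Not at h
            apply hA
            rw [Nat.mod_eq_of_lt h]
            exact Nat.le_mul_of_pos_right n hr.pos
          obtain ⟨y, hdet, hy, hns, hker⟩ := exists_ss_elt (F := F) (p := p) n r hrp
            (by rw [← hc]; exact hc2) (by rw [← hc]; exact hcn)
          rw [← hc] at hker
          have hy1 : y ≠ 1 := by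
            intro h
            exact hns 1 (by rw [h, one_smul])
          obtain ⟨D, hDf, hind, htop, σ, hσ⟩ := H y hy hy1
          have h1 := Imp.orbit_bound y r hrF hr1 hy D (fun j => by rw [hDf j, ha1]) hind htop σ hσ
          rw [hker, htn] at h1
          apply hA
          rw [mul_comm]
          exact h1
      · have hnotR : ¬ ((a = 1 ∧ 1 < c ∧ c = r - 1 ∧ n ≤ (n % c) * r) ∨
            (c ≤ a ∧ n % c = t * (a % c))) := by
          rintro (⟨h1, -, h3, -⟩ | ⟨h, -⟩)
          · exact hA0 ⟨h1, h3⟩
          · omega
        refine ⟨fun H => ?_, fun h => absurd h hnotR⟩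
        exfalso
        have hcardeq : Nat.card {D : Fin t → Submodule F (Fin n → F) // Imp.IsDec a D} =
            Nat.card {D : Fin t → Submodule F (Fin n → F) // Cfsg.Geo.IsMDecomposition a D} :=
          Nat.card_congr (Equiv.subtypeEquivRight (fun D =>
            ⟨fun h => ⟨ht, ha, h.1, h.2.1, h.2.2⟩,
              fun h => ⟨h.finrank_eq, h.indep, h.iSup_eq_top⟩⟩))
        rw [← hcardeq] at hΩ
        have hcn : c ≤ n := by
          rw [hc]
          exact Imp.ord_le_of_dvd_card (p := p) n a t hat ha ht0 r hrp hΩ
        obtain ⟨y, hy, hker⟩ := Imp.exists_ss_map' hk r hrp n (n - c) 1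
          (by rw [← hc]; exact hc2) (by rw [← hc]; omega)
        have hy1 : y ≠ 1 := by
          intro h
          rw [h, sub_self, LinearMap.ker_zero, finrank_top, hfinV] at hker
          omega
        obtain ⟨D, hDf, hind, htop, σ, hσ⟩ := H y hy hy1
        have hne : ∀ j, D j ≠ ⊥ := by
          intro j h
          have := hDf j
          rw [h, finrank_bot] at this
          omega
        have hrank : finrank F (LinearMap.range (y - 1)) = c := by
          have := LinearMap.finrank_range_add_finrank_ker (y - 1)
          rw [hker, hfinV] at this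
          omega
        by_cases hmoved : ∃ j0, σ j0 ≠ j0
        · obtain ⟨j0, hj0⟩ := hmoved
          have h1 := Imp.rank_ge_of_moved' hind hne y r hy σ hσ j0 hj0
          rw [hDf, hrank] at h1
          have ha1 : a = 1 := by
            by_contra h
            have h2 : 2 ≤ a := by omega
            have h3 := Nat.mul_le_mul_left (r - 1) h2
            omega
          apply hA0
          refine ⟨ha1, ?_⟩
          rw [ha1, mul_one] at h1
          omega
        · push Not at hmoved
          have hinv : ∀ j, Elus.Inv y (D j) := fun j =>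
            inv_iff_map_le.mpr (by rw [hσ, hmoved])
          have hle : ∀ j, D j ≤ LinearMap.ker (y - 1) := by
            intro j
            obtain ⟨m, hm⟩ := mod_inf_of_inv y r hy hrq (D j) (hinv j)
            rw [hDf, ← hc] at hm
            have hle' := Submodule.finrank_mono
              (inf_le_left : D j ⊓ LinearMap.ker (y - 1) ≤ D j)
            rw [hDf] at hle'
            have hm0 : m = 0 := by
              by_contra h
              have h2 : c * 1 ≤ c * m := Nat.mul_le_mul_left c (Nat.one_le_iff_ne_zero.mpr h)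
              omega
            rw [hm0, mul_zero] at hm
            have h3 : D j ⊓ LinearMap.ker (y - 1) = D j := by
              apply Submodule.eq_of_le_of_finrank_eq inf_le_left
              rw [hDf]
              omega
            rw [← h3]
            exact inf_le_right
          have h4 : (⊤ : Submodule F (Fin n → F)) ≤ LinearMap.ker (y - 1) := by
            rw [← htop]
            exact iSup_le hle
          have h5 := Submodule.finrank_mono h4
          rw [finrank_top, hfinV, hker] at h5
          omega

end Cfsg.Agent.S5958
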