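import Mathlib
import Cfsg.Statements.S5959
import Cfsg.Agent.Lib.Helper2.JordD

set_option maxHeartbeats 1000000
-- import your own Cfsg.Agent.* helpers here

set_option autoImplicit false
open scoped MatrixGroups
open Cfsg

namespace Cfsg.Agent.S5959

open Cfsg.Agent.Lib.Helper2

/-- Elements of order `p` of PSL_n(q) and imprimitive subgroups: a necessary condition. Here `T = PSL_n(F)` for a field `F` with `q = p^f` elements (`n ≥ 2`, `(n, q) ≠ (2, 2), (2, 3)`), `n = a·t` with `t ≥ 2`, and Ω is the set of direct-sum decompositions of `F^n` into `t` subspaces of dimension `a` (unordered; their number is the number of ordered ones divided by `t!`), whose stabilizers are the imprimitive subgroups of type GL_a(q) ≀ S_t (maximal except in some small cases; maximality is not assumed); an element of `T` of prime order `r` (a matrix `x` of determinant 1 with `x^r` scalar, `x` not scalar) fixes a point of Ω when it permutes the summands of some such decomposition. Suppose `p > 2` divides the number of such decompositions. If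 every element of `T` of order `p` stabilizes such a decomposition, then every partition of `n` into parts of size at most `p` in which the part `p` occurs fewer than `a` times contains (as a sub-multiset) a partition of `a`. -/
theorem result {F : Type*} [Field F] [Fintype F] {p : ℕ} [Fact p.Prime] [CharP F p] {q : ℕ} (hq : Fintype.card F = q)
    (n a t : ℕ) (hn : 2 ≤ n) (hT : (n, q) ≠ (2, 2) ∧ (n, q) ≠ (2, 3)) (hat : n = a * t) (ha : 1 ≤ a) (ht : 2 ≤ t)
    (hp : 2 < p) (hΩ : p ∣ Nat.card {D : Fin t → Submodule F (Fin n → F) // Cfsg.Geo.IsMDecomposition a D} / Nat.factorial t)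
    (h : ∀ x : Matrix.SpecialLinearGroup (Fin n) F,
      (∃ z : F, ((x ^ p : Matrix.SpecialLinearGroup (Fin n) F) : Matrix (Fin n) (Fin n) F) = z • (1 : Matrix (Fin n) (Fin n) F)) →
      (∀ z : F, (x : Matrix (Fin n) (Fin n) F) ≠ z • (1 : Matrix (Fin n) (Fin n) F)) →
      ∃ D : Fin t → Submodule F (Fin n → F), Cfsg.Geo.IsMDecomposition a D ∧
        ∃ σ : Equiv.Perm (Fin t), ∀ j, (D j).map (Matrix.toLin' (x : Matrix (Fin n) (Fin n) F)) = D (σ j)) :
    (∀ μ : Multiset ℕ, (∀ b ∈ μ, 0 < b ∧ b ≤ p) → μ.sum = n → μ.count p < a → ∃ ν : Multiset ℕ, ν ≤ μ ∧ ν.sum = a) := by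
  classical
  subst hq
  intro μ hμ hsum hcount
  have hn0 : 0 < n := by omega
  have han : a ≤ n := by
    rw [hat]
    exact Nat.le_mul_of_pos_right a (by omega)
  rcases Jord.exists_unip (F := F) (p := p) n hn0 μ hμ hsum with h1 | ⟨N, x, hN, hrk, hxN, hx1, hx2⟩
  · exact Jord.ones_sub μ h1 a (by rw [hsum]; exact han)
  · obtain ⟨D, hD, σ, hσ⟩ := h x hx1 hx2
    rw [hxN] at hσ
    have h0 : (0 : ℕ) ∉ μ := fun h => absurd (hμ 0 h).1 (lt_irrefl 0)
    by_cases hfix : ∃ j0, σ j0 = j0
    · obtain ⟨j0, hj0⟩ := hfix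
      obtain ⟨ν, hν, hνs⟩ := Jord.sub_of_fixed N hN μ h0 hrk D hD.indep hD.iSup_eq_top σ hσ j0 hj0
      exact ⟨ν, hν, by rw [hνs, hD.finrank_eq]⟩
    · exfalso
      push Not at hfix
      have hne : ∀ j, D j ≠ ⊥ := by
        intro j hj
        have h1 := hD.finrank_eq j
        rw [hj, finrank_bot] at h1
        omega
      have h1 := Jord.rank_ge_of_moved (p := p) hn0 N hN D hD.indep hne σ hσ ⟨0, by omega⟩
        (hfix _)
      rw [hD.finrank_eq, hrk, ← Jord.count_eq_S μ hμ] at h1
      omega

end Cfsg.Agent.S5959
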