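import Cfsg.Statements.S5961
import Cfsg.Agent.Lib.Helper2.SpImpE

set_option autoImplicit false
set_option maxHeartbeats 1000000
set_option linter.unusedVariables false
set_option linter.style.longLine false
open scoped MatrixGroups
open Cfsg

namespace Cfsg.Agent.S5961

open Module Cfsg.Agent.Lib.Helper2 Cfsg.Agent.Lib.Helper2.SpImp Cfsg.Agent.Lib.Helper5.SympBridge

/-- Elements of odd prime order of PSp_n(q) and imprimitive subgroups. Here `T = PSp_n(q)`, `n = 2d ≥ 4`, `(n, q) ≠ (4, 2)`, realised through the symplectic matrices over the field `F` with `q` elements and the standard alternating form; `n = a·t` with `a` even and `t ≥ 2`, and Ω is the (nonempty) set of orthogonal decompositions of `F^n` into `t` nondegenerate subspaces of dimension `a` (unordered; counted as ordered ones divided by `t!`), whose stabilizers are the imprimitive subgroups of type Sp_a(q) ≀ S_t (maximality is not assumed); an element of `T` of prime order `r`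 (a symplectic matrix `x` with `x^r` scalar, `x` not scalar) fixes a point of Ω when it permutes the summands of some such decomposition. Let `r ≠ p` be an odd prime dividing the number of such decompositions, let `i` be the multiplicative order of `q` modulo `r`, `c = i` if `i` is even and `c = 2i` if `i` is odd, and write `k = n mod c`, `ℓ = a mod c`. Then every element of `T` of order `r` stabilizes such a decomposition if and only if `c ≤ a` and `k = t·ℓ`. -/
theorem result {F : Type*} [Field F] [Fintype F] {p : ℕ} [Fact p.Prime] [CharP F p] {q : ℕ} (hq : Fintype.card F = q)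
    (d : ℕ) (hd : 2 ≤ d) (hT : (d, q) ≠ (2, 2))
    (a t : ℕ) (hat : 2 * d = a * t) (ha : 2 ≤ a) (hae : Even a) (ht : 2 ≤ t)
    (r : ℕ) [Fact r.Prime] (hr2 : r ≠ 2) (hrp : r ≠ p) (hΩ : r ∣ Nat.card {D : Fin t → Submodule F (Fin d ⊕ Fin d → F) // (Cfsg.Geo.IsMDecomposition a D ∧ (∀ j, ∀ u ∈ D j, u ≠ 0 → ∃ v ∈ D j, Cfsg.sympForm d F u v ≠ 0) ∧
          (∀ j j', j ≠ j' → ∀ u ∈ D j, ∀ v ∈ D j', Cfsg.sympForm d F u v = 0))} / Nat.factorial t)
    (i c : ℕ) (hi : i = orderOf (q : ZMod r)) (hc : c = if Even i then i else 2 * i) :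
    (∀ x : ↥(Matrix.symplecticGroup (Fin d) F),
      (∃ z : F, ((x ^ r : ↥(Matrix.symplecticGroup (Fin d) F)) : Matrix (Fin d ⊕ Fin d) (Fin d ⊕ Fin d) F) = z • (1 : Matrix (Fin d ⊕ Fin d) (Fin d ⊕ Fin d) F)) →
      (∀ z : F, (x : Matrix (Fin d ⊕ Fin d) (Fin d ⊕ Fin d) F) ≠ z • (1 : Matrix (Fin d ⊕ Fin d) (Fin d ⊕ Fin d) F)) →
      ∃ D : Fin t → Submodule F (Fin d ⊕ Fin d → F), (Cfsg.Geo.IsMDecomposition a D ∧ (∀ j, ∀ u ∈ D j, u ≠ 0 → ∃ v ∈ D j, Cfsg.sympForm d F u v ≠ 0) ∧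
          (∀ j j', j ≠ j' → ∀ u ∈ D j, ∀ v ∈ D j', Cfsg.sympForm d F u v = 0)) ∧
        ∃ σ : Equiv.Perm (Fin t), ∀ j, (D j).map (Matrix.toLin' (x : Matrix (Fin d ⊕ Fin d) (Fin d ⊕ Fin d) F)) = D (σ j)) ↔
    (c ≤ a ∧ (2 * d) % c = t * (a % c)) := by
  classical
  subst hq
  have hr : r.Prime := Fact.out
  have hp : p.Prime := Fact.out
  have hfinV : finrank F (Fin d ⊕ Fin d → F) = 2 * d := by
    rw [Module.finrank_fintype_fun_eq_card, Fintype.card_sum, Fintype.card_fin]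
    omega
  have hrq : ¬ r ∣ Fintype.card F := Elus.not_dvd_card_of_ne (F := F) r hrp
  have hrF : (r : F) ≠ 0 := by
    intro h
    have h1 := (CharP.cast_eq_zero_iff F p r).mp h
    exact hrp ((Nat.prime_dvd_prime_iff_eq hp hr).mp h1).symm
  obtain ⟨k, -, hk⟩ := FiniteField.card F p
  have hA : (sympBilin F d).IsAlt := sympBilin_isAlt d
  have hB : (sympBilin F d).Nondegenerate := sympBilin_nondegenerate d
  haveI : Nonempty (Fin d ⊕ Fin d) := ⟨Sum.inl ⟨0, by omega⟩⟩
  haveI : Nontrivial (Fin d ⊕ Fin d → F) := inferInstance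
  have hgood : ∀ D : Fin t → Submodule F (Fin d ⊕ Fin d → F), IsGood (sympBilin F d) a D ↔
      (Cfsg.Geo.IsMDecomposition a D ∧ (∀ j, ∀ u ∈ D j, u ≠ 0 → ∃ v ∈ D j, Cfsg.sympForm d F u v ≠ 0) ∧
          (∀ j j', j ≠ j' → ∀ u ∈ D j, ∀ v ∈ D j', Cfsg.sympForm d F u v = 0)) := by
    intro D
    constructor
    · rintro ⟨⟨h1, h2, h3⟩, h4, h5⟩
      exact ⟨⟨ht, by omega, h1, h2, h3⟩, fun j => (nd_iff' _ hA).mp (h4 j), h5⟩
    · rintro ⟨h1, h4, h5⟩
      exact ⟨⟨h1.finrank_eq, h1.indep, h1.iSup_eq_top⟩, fun j => (nd_iff' _ hA).mpr (h4 j), h5⟩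
  have hΩ' : r ∣ Nat.card {D : Fin t → Submodule F (Fin d ⊕ Fin d → F) //
      IsGood (sympBilin F d) a D} / Nat.factorial t := by
    rw [Nat.card_congr (Equiv.subtypeEquivRight hgood)]
    exact hΩ
  have hmain := sp_main (sympBilin F d) hk hA hB r hr2 hrp hrF hrq i c hi hc (2 * d) a t hfinV hat
    ha hae ht hΩ'
  have h1 := sp_matrix_bridge (F := F) d r (fun f =>
    ∃ D : Fin t → Submodule F (Fin d ⊕ Fin d → F), IsGood (sympBilin F d) a D ∧
      ∃ σ : Equiv.Perm (Fin t), ∀ j, (D j).map f = D (σ j))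
  have h2 := sp_scalar_reduce (sympBilin F d) hB r hr2 (fun f =>
    ∃ D : Fin t → Submodule F (Fin d ⊕ Fin d → F), IsGood (sympBilin F d) a D ∧
      ∃ σ : Equiv.Perm (Fin t), ∀ j, (D j).map f = D (σ j)) (by
    rintro f z hz ⟨D, hD, σ, hσ⟩
    refine ⟨D, hD, σ, fun j => ?_⟩
    rw [← hσ j, Submodule.map_smul f (D j) z hz])
  refine Iff.trans ?_ ((h1.trans h2).trans hmain)
  apply forall_congr'
  intro x
  apply imp_congr Iff.rfl
  apply imp_congr Iff.rfl
  constructor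
  · rintro ⟨D, hD, σ, hσ⟩
    exact ⟨D, (hgood D).mpr hD, σ, hσ⟩
  · rintro ⟨D, hD, σ, hσ⟩
    exact ⟨D, (hgood D).mp hD, σ, hσ⟩

end Cfsg.Agent.S5961
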