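import Cfsg.Statements.S5964
import Cfsg.Agent.Lib.Helper2.SubfC

set_option maxHeartbeats 1000000
set_option linter.unusedVariables false
set_option linter.style.longLine false

set_option autoImplicit false
open scoped MatrixGroups
open Cfsg

namespace Cfsg.Agent.S5964

/-- Involutions of PSL_n(q) and subfield subgroups. Here `T = PSL_n(F)` for a field `F` with `q = p^f` elements (`n ≥ 2`, `(n, q) ≠ (2, 2), (2, 3)`), `F₀` is the subfield with `q₀` elements where `q = q₀^k` for a prime `k`, and `H` is the subgroup of matrices of determinant 1 lying in the subfield group of `F₀` (invertible matrices over `F₀` times scalars) — a maximal subgroup of type GL_n(q₀) (the case `n = 2`, `q₀ = 2` is excluded); Ω is the set of `T`-conjugates of `H` (cosets of `H`), so an element of `T` of prime order `r` (a matrix `x` of determinant 1 with `x^r` scalar, `x` not scalar) fixes a point of Ω when some conjugate of `x` by a matrix of determinant 1 lies in `H`. Suppose the index of `H` is even. Then every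 involution of `T` is conjugate in `T` into `H` if and only if either `q` is even, or `k = 2` and `(n)_2 ≤ (q − 1)_2`. (For `q` odd and `k` odd the index of `H` is odd, so that case does not arise.) -/
theorem result {F : Type*} [Field F] [Fintype F] {p : ℕ} [Fact p.Prime] [CharP F p] {q : ℕ} (hq : Fintype.card F = q)
    (n : ℕ) (hn : 2 ≤ n) (hT : (n, q) ≠ (2, 2) ∧ (n, q) ≠ (2, 3))
    (F₀ : Subfield F) (k q₀ : ℕ) (hk : k.Prime) (hF₀ : Nat.card ↥F₀ = q₀) (hqk : q = q₀ ^ k) (hC5 : ¬ (n = 2 ∧ q₀ = 2)) (hΩ : 2 ∣ ((Cfsg.Geo.subfieldSubgroup F₀ 1).comap (Matrix.SpecialLinearGroup.toGL : Matrix.SpecialLinearGroup (Fin n) F →* GL (Fin n) F)).index) :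
    (∀ x : Matrix.SpecialLinearGroup (Fin n) F,
      (∃ z : F, ((x ^ 2 : Matrix.SpecialLinearGroup (Fin n) F) : Matrix (Fin n) (Fin n) F) = z • (1 : Matrix (Fin n) (Fin n) F)) →
      (∀ z : F, (x : Matrix (Fin n) (Fin n) F) ≠ z • (1 : Matrix (Fin n) (Fin n) F)) →
      ∃ P : Matrix.SpecialLinearGroup (Fin n) F, P⁻¹ * x * P ∈ ((Cfsg.Geo.subfieldSubgroup F₀ 1).comap (Matrix.SpecialLinearGroup.toGL : Matrix.SpecialLinearGroup (Fin n) F →* GL (Fin n) F))) ↔
    (Odd q → (k = 2 ∧ padicValNat 2 n ≤ padicValNat 2 (q - 1))) := by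
  subst hq
  have hn0 : 0 < n := by omega
  constructor
  · intro h hodd
    have hq₀odd : Odd q₀ := by
      rw [hqk] at hodd
      exact (Nat.odd_pow_iff hk.ne_zero).mp hodd
    by_cases hk2 : k = 2
    · refine ⟨hk2, ?_⟩
      subst hk2
      by_contra hlt
      push Not at hlt
      have hr1 : 2 ∣ Fintype.card F - 1 := by
        obtain ⟨t, ht⟩ := hodd
        exact ⟨t, by omega⟩
      have hp2 : p ≠ 2 := Cfsg.Agent.Lib.Helper2.SpInv.char_ne_two_of_dvd (p := p) hr1
      have h2F : (2 : F) ≠ 0 := Cfsg.Agent.Lib.Helper2.SpInv.two_ne_zero_of_char (p := p) hp2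
      obtain ⟨y, z, hdet, hy2, hns, hz⟩ :=
        Cfsg.Agent.Lib.Helper2.Subf.exists_nonsq_elt (F := F) n hn hodd hlt
      obtain ⟨P, hP⟩ := h (Cfsg.Agent.Lib.Helper2.Elus.toSL y hdet)
        ⟨z, Cfsg.Agent.Lib.Helper2.Elus.toSL_pow y hdet 2 z hy2⟩ (by
          intro c hc
          apply hns c
          have h1 := congrArg Matrix.toLin' hc
          rw [Cfsg.Agent.Lib.Helper2.Elus.toLin'_toSL,
            Cfsg.Agent.Lib.Helper2.Elus.toLin'_smul_one] at h1
          exact h1)
      exact Cfsg.Agent.Lib.Helper2.Subf.not_mem_of_nonsq F₀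
        (Cfsg.Agent.Lib.Helper2.Subf.subfield_sq F₀ q₀ hF₀ hqk hq₀odd h2F) hn0 _ z
        (Cfsg.Agent.Lib.Helper2.Elus.toSL_pow y hdet 2 z hy2) hz P hP
    · exfalso
      have hkodd : Odd k := hk.eq_two_or_odd'.resolve_left hk2
      exact Cfsg.Agent.Lib.Helper2.Subf.index_odd F₀ n (by omega) q₀ k hkodd hF₀ hqk hq₀odd hΩ
  · intro hcond x hx hns
    obtain ⟨z, hz⟩ := hx
    have hy2 := Cfsg.Agent.Lib.Helper2.Elus.pow_of_SL x 2 z hz
    have hdet : LinearMap.det (Matrix.toLin' (x : Matrix (Fin n) (Fin n) F)) = 1 := by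
      rw [LinearMap.det_toLin']
      exact x.2
    have hns' : ∀ c' : F, (Matrix.toLin' (x : Matrix (Fin n) (Fin n) F) :
        Module.End F (Fin n → F)) ≠ c' • 1 := by
      intro c' hc
      apply hns c'
      apply Matrix.toLin'.injective
      rw [hc, Cfsg.Agent.Lib.Helper2.Elus.toLin'_smul_one]
    have hz0 : z ≠ 0 := by
      intro h0
      have h1 := congrArg LinearMap.det hy2
      rw [map_pow, hdet, one_pow, h0, zero_smul, LinearMap.det_zero, Module.finrank_fin_fun,
        zero_pow (by omega)] at h1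
      exact one_ne_zero h1
    obtain ⟨w, hw, hcent⟩ : ∃ w : F, w * w = z ∧ ∀ δ : F,
        ∃ h : Module.End F (Fin n → F), h * Matrix.toLin' (x : Matrix (Fin n) (Fin n) F) =
          Matrix.toLin' (x : Matrix (Fin n) (Fin n) F) * h ∧ LinearMap.det h = δ := by
      by_cases hodd : Odd (Fintype.card F)
      · obtain ⟨hk2, hv⟩ := hcond hodd
        subst hk2
        have hr1 : 2 ∣ Fintype.card F - 1 := by
          obtain ⟨t, ht⟩ := hodd
          exact ⟨t, by omega⟩
        have hp2 : p ≠ 2 := Cfsg.Agent.Lib.Helper2.SpInv.char_ne_two_of_dvd (p := p) hr1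
        have h2F : (2 : F) ≠ 0 := Cfsg.Agent.Lib.Helper2.SpInv.two_ne_zero_of_char (p := p) hp2
        have hq₀odd : Odd q₀ := by
          rw [hqk] at hodd
          exact (Nat.odd_pow_iff (by norm_num)).mp hodd
        have h4 : 4 ∣ Fintype.card F - 1 := by
          obtain ⟨t, ht⟩ := hq₀odd
          refine ⟨t * t + t, ?_⟩
          rw [hqk, ht]
          have h5 : (2 * t + 1) ^ 2 = 4 * (t * t + t) + 1 := by ring
          rw [h5]
          omega
        obtain ⟨w, hw⟩ := Cfsg.Agent.Lib.Helper2.Subf.sq_of_cond hn0 h4 h2F hv _ z hy2 hdet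
        have hw0 : w ≠ 0 := by
          intro h0
          apply hz0
          rw [← hw, h0, mul_zero]
        refine ⟨w, hw, fun δ => ?_⟩
        rw [← hw] at hy2
        exact Cfsg.Agent.Lib.Helper2.Subf.cent_odd h2F _ w hw0 hy2 hns' δ
      · have hp2 : p = 2 := by
          by_contra hp2
          exact hodd (Nat.odd_iff.mpr (Cfsg.Agent.Lib.Helper2.SpInv.card_odd_of_char (p := p) hp2))
        subst hp2
        have hchar : ringChar F = 2 := ringChar.eq F 2
        obtain ⟨w, hw⟩ := FiniteField.isSquare_of_char_two hchar z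
        have hw0 : w ≠ 0 := by
          intro h0
          apply hz0
          rw [hw, h0, mul_zero]
        refine ⟨w, hw.symm, fun δ => ?_⟩
        rw [hw] at hy2
        exact Cfsg.Agent.Lib.Helper2.Subf.cent_even hchar _ w hw0 hy2 hns' δ
    have hw0 : w ≠ 0 := by
      intro h0
      apply hz0
      rw [← hw, h0, mul_zero]
    have hyy : ∀ u, Matrix.toLin' (x : Matrix (Fin n) (Fin n) F)
        (Matrix.toLin' (x : Matrix (Fin n) (Fin n) F) u) = (w * w) • u := by
      intro u
      have h1 := LinearMap.congr_fun hy2 u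
      rw [pow_two, Module.End.mul_apply, LinearMap.smul_apply, Module.End.one_apply, ← hw] at h1
      exact h1
    obtain ⟨g, hg1, hg2⟩ := Cfsg.Agent.Lib.Helper2.Subf.conj_of_cent _ w hw0 hyy
      (fun δ _ => hcent δ)
    refine Cfsg.Agent.Lib.Helper2.Subf.conj_rat F₀ x g hg1 w hw0 (fun i j => ?_)
    rcases hg2 i j with h | h | h
    · rw [h]
      exact F₀.zero_mem
    · rw [h]
      exact F₀.one_mem
    · rw [h]
      exact F₀.neg_mem F₀.one_mem

end Cfsg.Agent.S5964
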