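import Cfsg.Statements.S5967
import Cfsg.Agent.Lib.Helper2.SpInvC

set_option maxHeartbeats 1000000
set_option linter.unusedVariables false
set_option linter.style.longLine false

set_option autoImplicit false
open scoped MatrixGroups
open Cfsg

namespace Cfsg.Agent.S5967

/-- Involutions of PSL_n(q) and the symplectic-type subgroups. Here `T = PSL_n(F)` for a field `F` with `q` elements, `n ≥ 4` even, `f` is a nondegenerate alternating form on `F^n`, and `H` is the subgroup of matrices of determinant 1 preserving `f` up to a scalar — a maximal subgroup of type Sp_n(q); Ω is the set of `T`-conjugates of `H` (cosets of `H`), so an element of `T` of prime order `r` (a matrix `x` of determinant 1 with `x^r` scalar, `x` not scalar) fixes a point of Ω when some conjugate of `x` by a matrix of determinant 1 preserves `f` up to a scalar. Suppose the index of `H` is even. Then every involution of `T` is conjugate in `T` into `H` if and only if `(q − 1)_2 ≤ (n)_2`. -/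
theorem result {F : Type*} [Field F] [Fintype F] {p : ℕ} [Fact p.Prime] [CharP F p] {q : ℕ} (hq : Fintype.card F = q)
    (n : ℕ) (hn : 4 ≤ n) (he : Even n) (f : (Fin n → F) → (Fin n → F) → F) (hf : Cfsg.Geo.IsSymplecticForm f)
    (hΩ : 2 ∣ ((Cfsg.Geo.similarityGroup f).comap (Matrix.SpecialLinearGroup.toGL : Matrix.SpecialLinearGroup (Fin n) F →* GL (Fin n) F)).index) :
    (∀ x : Matrix.SpecialLinearGroup (Fin n) F,
      (∃ z : F, ((x ^ 2 : Matrix.SpecialLinearGroup (Fin n) F) : Matrix (Fin n) (Fin n) F) = z • (1 : Matrix (Fin n) (Fin n) F)) →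
      (∀ z : F, (x : Matrix (Fin n) (Fin n) F) ≠ z • (1 : Matrix (Fin n) (Fin n) F)) →
      ∃ P : Matrix.SpecialLinearGroup (Fin n) F, P⁻¹ * x * P ∈ ((Cfsg.Geo.similarityGroup f).comap (Matrix.SpecialLinearGroup.toGL : Matrix.SpecialLinearGroup (Fin n) F →* GL (Fin n) F))) ↔
    padicValNat 2 (q - 1) ≤ padicValNat 2 n := by
  subst hq
  constructor
  · intro h
    by_contra hlt
    push Not at hlt
    obtain ⟨y, hdet, ⟨z, hz⟩, hns, hno⟩ :=
      Cfsg.Agent.Lib.Helper2.SpInv.exists_invol_derangement (p := p) n hn f hf hlt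
    obtain ⟨P, hP⟩ := h (Cfsg.Agent.Lib.Helper2.Elus.toSL y hdet)
      ⟨z, Cfsg.Agent.Lib.Helper2.Elus.toSL_pow y hdet 2 z hz⟩ (by
        intro c hc
        apply hns c
        have h1 := congrArg Matrix.toLin' hc
        rw [Cfsg.Agent.Lib.Helper2.Elus.toLin'_toSL,
          Cfsg.Agent.Lib.Helper2.Elus.toLin'_smul_one] at h1
        exact h1)
    obtain ⟨g, c, hsim⟩ := Cfsg.Agent.Lib.Helper2.SpSl.sl_bridge f hf y hdet P hP
    exact hno g c hsim
  · intro hv x hx hns
    obtain ⟨z, hz⟩ := hx
    have hy2 := Cfsg.Agent.Lib.Helper2.Elus.pow_of_SL x 2 z hz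
    have hdet : LinearMap.det (Matrix.toLin' (x : Matrix (Fin n) (Fin n) F)) = 1 := by
      rw [LinearMap.det_toLin']
      exact x.2
    have hns' : ∀ c' : F, (Matrix.toLin' (x : Matrix (Fin n) (Fin n) F) :
        Module.End F (Fin n → F)) ≠ c' • 1 := by
      intro c' hc
      apply hns c'
      apply Matrix.toLin'.injective
      rw [hc, Cfsg.Agent.Lib.Helper2.Elus.toLin'_smul_one]
    obtain ⟨g, c, hg1, hc0, hsim⟩ := Cfsg.Agent.Lib.Helper2.SpInv.invol_conj (p := p) n hn he f hf
      hv _ hdet z hy2 hns'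
    exact Cfsg.Agent.Lib.Helper2.SpInv.sl_bridge_rev f hf x g hg1 c hc0 hsim

end Cfsg.Agent.S5967
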