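import Cfsg.Statements.S5969
import Cfsg.Agent.Lib.Helper2.FldC

set_option maxHeartbeats 1000000
set_option linter.unusedVariables false
set_option linter.style.longLine false

set_option autoImplicit false
open scoped MatrixGroups
open Cfsg

namespace Cfsg.Agent.S5969

/-- Involutions of PSL_n(q) and extension-field subgroups of degree 2. Here `T = PSL_n(F)` for a field `F` with `q = p^f` elements (`n ≥ 2`, `(n, q) ≠ (2, 2), (2, 3)`), `k` is a prime dividing `n`, `K` is a subalgebra of the `n × n` matrices that is a field of degree `k` over `F` (an extension-field structure F_{q^k} on `F^n`), and `H` is the subgroup of matrices of determinant 1 normalizing `K` — a subgroup of type GL_{n/k}(q^k) (maximal except in some small cases; maximality is not assumed); Ω is the set of cosets of `H` in `T`, so an element of `T` of prime order `r` (a matrix `x` of determinant 1 with `x^r` scalar, `x` not scalar) fixes a point of Ω when some conjugate of `x` by a matrix of determinant 1 normalizes `K`.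 Take `k = 2` and suppose the index of `H` is even. Then every involution of `T` is conjugate in `T` into `H` if and only if `n = 2`, or `q` is odd and `(q − 1)_2 ≤ (n)_2`. -/
theorem result {F : Type*} [Field F] [Fintype F] {p : ℕ} [Fact p.Prime] [CharP F p] {q : ℕ} (hq : Fintype.card F = q)
    (n : ℕ) (hn : 2 ≤ n) (hT : (n, q) ≠ (2, 2) ∧ (n, q) ≠ (2, 3))
    (k : ℕ) (hk : k.Prime) (hkn : k ∣ n) (K : Subalgebra F (Matrix (Fin n) (Fin n) F)) (hK : Cfsg.Geo.IsFieldSubalgebra k K) (hk2 : k = 2) (hΩ : 2 ∣ ((Cfsg.Geo.subalgebraNormalizer K).comap (Matrix.SpecialLinearGroup.toGL : Matrix.SpecialLinearGroup (Fin n) F →* GL (Fin n) F)).index) :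
    (∀ x : Matrix.SpecialLinearGroup (Fin n) F,
      (∃ z : F, ((x ^ 2 : Matrix.SpecialLinearGroup (Fin n) F) : Matrix (Fin n) (Fin n) F) = z • (1 : Matrix (Fin n) (Fin n) F)) →
      (∀ z : F, (x : Matrix (Fin n) (Fin n) F) ≠ z • (1 : Matrix (Fin n) (Fin n) F)) →
      ∃ P : Matrix.SpecialLinearGroup (Fin n) F, P⁻¹ * x * P ∈ ((Cfsg.Geo.subalgebraNormalizer K).comap (Matrix.SpecialLinearGroup.toGL : Matrix.SpecialLinearGroup (Fin n) F →* GL (Fin n) F))) ↔
    (n = 2 ∨ (Odd q ∧ padicValNat 2 (q - 1) ≤ padicValNat 2 n)) := by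
  subst hq
  subst hk2
  have hn0 : 0 < n := by omega
  haveI : Nonempty (Fin n) := ⟨⟨0, hn0⟩⟩
  have hneven : Even n := by
    obtain ⟨m, hm⟩ := hkn
    exact ⟨m, by omega⟩
  obtain ⟨J, s, t₀, hJ, hJJ, hspan, hroot⟩ := Cfsg.Agent.Lib.Helper2.Fld.exists_gen hn0 K hK
  constructor
  · intro h
    by_contra hcon
    push Not at hcon
    obtain ⟨hn2, hcond⟩ := hcon
    have hn4 : 4 ≤ n := by
      obtain ⟨m, hm⟩ := hneven
      omega
    obtain ⟨y, w, hdet, hyy, hns, hker⟩ : ∃ (y : Module.End F (Fin n → F)) (w : F),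
        LinearMap.det y = 1 ∧ y ^ 2 = (w * w) • 1 ∧ (∀ c' : F, y ≠ c' • 1) ∧
        Module.finrank F (LinearMap.ker (y - w • 1)) = n - 1 := by
      by_cases hodd : Odd (Fintype.card F)
      · exact Cfsg.Agent.Lib.Helper2.Fld.exists_refl_elt (p := p) n hn (hcond hodd)
      · have hp2 : p = 2 := by
          by_contra hp2
          exact hodd (Nat.odd_iff.mpr (Cfsg.Agent.Lib.Helper2.SpInv.card_odd_of_char (p := p) hp2))
        subst hp2
        have hchar : ringChar F = 2 := ringChar.eq F 2
        obtain ⟨y, h1, h2, h3, h4⟩ := Cfsg.Agent.Lib.Helper2.Fld.exists_transv_elt hchar n hn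
        exact ⟨y, 1, h1, h2, h3, h4⟩
    obtain ⟨P, hP⟩ := h (Cfsg.Agent.Lib.Helper2.Elus.toSL y hdet)
      ⟨w * w, Cfsg.Agent.Lib.Helper2.Elus.toSL_pow y hdet 2 (w * w) hyy⟩ (by
        intro c hc
        apply hns c
        have h1 := congrArg Matrix.toLin' hc
        rw [Cfsg.Agent.Lib.Helper2.Elus.toLin'_toSL,
          Cfsg.Agent.Lib.Helper2.Elus.toLin'_smul_one] at h1
        exact h1)
    have h5 := Cfsg.Agent.Lib.Helper2.Fld.nec_main (by omega) K hK J s t₀ hJ hJJ hroot _ hP w
    rw [Cfsg.Agent.Lib.Helper2.Fld.finrank_ker_conj_SL,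
      Cfsg.Agent.Lib.Helper2.Elus.toLin'_toSL] at h5
    exact h5 hker
  · intro hcond x hx hns
    obtain ⟨z, hz⟩ := hx
    have hy2 := Cfsg.Agent.Lib.Helper2.Elus.pow_of_SL x 2 z hz
    have hdet : LinearMap.det (Matrix.toLin' (x : Matrix (Fin n) (Fin n) F)) = 1 := by
      rw [LinearMap.det_toLin']
      exact x.2
    have hns' : ∀ c' : F, (Matrix.toLin' (x : Matrix (Fin n) (Fin n) F) :
        Module.End F (Fin n → F)) ≠ c' • 1 := by
      intro c' hc
      apply hns c'
      apply Matrix.toLin'.injective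
      rw [hc, Cfsg.Agent.Lib.Helper2.Elus.toLin'_smul_one]
    have hz0 : z ≠ 0 := by
      intro h0
      have h1 := congrArg LinearMap.det hy2
      rw [map_pow, hdet, one_pow, h0, zero_smul, LinearMap.det_zero, Module.finrank_fin_fun,
        zero_pow (by omega)] at h1
      exact one_ne_zero h1
    obtain ⟨X, hXdef⟩ : ∃ X : Module.End F (Fin n → F),
        X = Matrix.toLin' (x : Matrix (Fin n) (Fin n) F) := ⟨_, rfl⟩
    rw [← hXdef] at hy2 hdet hns'
    have hXX : ∀ u, X (X u) = z • u := by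
      intro u
      have h1 := LinearMap.congr_fun hy2 u
      rw [pow_two, Module.End.mul_apply, LinearMap.smul_apply, Module.End.one_apply] at h1
      exact h1
    have hoddfacts : Odd (Fintype.card F) → (2 : F) ≠ 0 := by
      intro hodd
      have hr1 : 2 ∣ Fintype.card F - 1 := by
        obtain ⟨t, ht⟩ := hodd
        exact ⟨t, by omega⟩
      have hp2 : p ≠ 2 := Cfsg.Agent.Lib.Helper2.SpInv.char_ne_two_of_dvd (p := p) hr1
      exact Cfsg.Agent.Lib.Helper2.SpInv.two_ne_zero_of_char (p := p) hp2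
    have hevenfacts : ¬ Odd (Fintype.card F) → ringChar F = 2 := by
      intro hodd
      have hp2 : p = 2 := by
        by_contra hp2
        exact hodd (Nat.odd_iff.mpr (Cfsg.Agent.Lib.Helper2.SpInv.card_odd_of_char (p := p) hp2))
      subst hp2
      exact ringChar.eq F 2
    by_cases hsq : ∃ w : F, w * w = z
    · obtain ⟨w, hw⟩ := hsq
      have hw0 : w ≠ 0 := by
        intro h0
        apply hz0
        rw [← hw, h0, mul_zero]
      rw [← hw] at hy2 hXX
      have hcent : ∀ δ : F, ∃ h : Module.End F (Fin n → F), h * X = X * h ∧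
          LinearMap.det h = δ := by
        intro δ
        by_cases hodd : Odd (Fintype.card F)
        · exact Cfsg.Agent.Lib.Helper2.Subf.cent_odd (hoddfacts hodd) X w hw0 hy2 hns' δ
        · exact Cfsg.Agent.Lib.Helper2.Subf.cent_even (hevenfacts hodd) X w hw0 hy2 hns' δ
      by_cases hn2 : n = 2
      · subst hn2
        obtain ⟨J', hJ'1, hJ'2⟩ := Cfsg.Agent.Lib.Helper2.Fld.exists_J_two
          (Module.finrank_fin_fun F) s t₀ X w hw0 hXX hns'
        subst hXdef
        exact Cfsg.Agent.Lib.Helper2.Fld.suff_main K J s t₀ hJ hJJ hspan hroot x J' hJ'1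
          (Or.inr hJ'2) (fun δ _ => hcent δ)
      · obtain ⟨hodd, hv⟩ := hcond.resolve_left hn2
        obtain ⟨J', hJ'1, hJ'2⟩ := Cfsg.Agent.Lib.Helper2.Fld.exists_J_split (hoddfacts hodd) hn0
          hneven hv s t₀ X hdet w hw0 hXX
        subst hXdef
        exact Cfsg.Agent.Lib.Helper2.Fld.suff_main K J s t₀ hJ hJJ hspan hroot x J' hJ'1
          (Or.inl hJ'2) (fun δ _ => hcent δ)
    · push Not at hsq
      have hodd : Odd (Fintype.card F) := by
        by_contra hodd
        obtain ⟨r, hr⟩ := FiniteField.isSquare_of_char_two (hevenfacts hodd) z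
        exact hsq r hr.symm
      have h2F := hoddfacts hodd
      obtain ⟨J', hJ'1, hJ'2⟩ := Cfsg.Agent.Lib.Helper2.Fld.exists_J_nonsq h2F s t₀ hroot X z
        (by rw [← pow_two]; exact hy2) hsq
      have hrel : ∀ u, X (X u) = (0 : F) • X u + z • u := by
        intro u
        rw [hXX, zero_smul, zero_add]
      obtain ⟨f, hf⟩ := exists_ne (0 : Fin n → F)
      have hli := Cfsg.Agent.Lib.Helper2.Fld.li_of_noroot X 0 z hrel (fun l hl => hsq l (by
        rw [hl, zero_mul, zero_add])) f hf
      have hcent : ∀ δ : F, ∃ h : Module.End F (Fin n → F), h * X = X * h ∧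
          LinearMap.det h = δ := fun δ =>
        Cfsg.Agent.Lib.Helper2.SpInv.cent_quad_C X z hz0 hrel f hli δ
          (Cfsg.Agent.Lib.Helper2.SpInv.exists_norm (Nat.odd_iff.mp hodd) z hz0 δ)
      subst hXdef
      exact Cfsg.Agent.Lib.Helper2.Fld.suff_main K J s t₀ hJ hJJ hspan hroot x J' hJ'1
        (Or.inl hJ'2) (fun δ _ => hcent δ)

end Cfsg.Agent.S5969
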