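import Cfsg.Statements.S5977
import Cfsg.Agent.Lib.Helper6.OfxG
import Cfsg.Agent.Lib.Helper6.OfxJ
import Cfsg.Agent.Lib.Helper5.PlusGeom

set_option autoImplicit false
open scoped MatrixGroups
open Cfsg

namespace Cfsg.Agent.S5977

/-- Elements of prime order of PΩ⁺_n(q), q odd, and the field-extension subgroups of degree 2 (orthogonal type over F_{q²}). Here `T = PΩ⁺_{2d}(F)` for a field `F` with `q` elements, `q` odd, `d ≥ 4`, realised through `Ω⁺_{2d}(q)`, the commutator subgroup of the isometry group of `Q = Σ xᵢyᵢ`, with polar form `B`; `K` is a subalgebra of the `2d × 2d` matrices that is a field of degree 2 over `F` whose elements are self-adjoint for `B` (so `F^{2d}` becomes a `d`-dimensional space over `K ≅ F_{q²}` on which `B` is the trace of a `K`-bilinear symmetric form); `H` is the subgroup of `Ω⁺_{2d}(q)` normalizing `K` — the elements of `Ω⁺_{2d}(q)` that are `K`-linear or `K`-semilinear, a subgroup of orthogonal type over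 the quadratic extension (maximality is not assumed). Ω is the set of cosets of `H`, so an element of `T` of prime order `r` (`x ∈ Ω⁺_{2d}(q)` with `x^r` scalar, `x` not scalar) fixes a point of Ω exactly when some `Ω⁺_{2d}(q)`-conjugate of `x` normalizes `K`. Let `r` be a prime dividing the index of `H`. Then every element of `T` of order `r` fixes a point of Ω if and only if `r = 2`. -/
theorem result {F : Type*} [Field F] [Fintype F] {p : ℕ} [Fact p.Prime] [CharP F p] {q : ℕ} (hq : Fintype.card F = q)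
    (hodd : Odd q) (d : ℕ) (hd : 4 ≤ d)
    (K : Subalgebra F (Matrix (Fin d ⊕ Fin d) (Fin d ⊕ Fin d) F)) (hK : Cfsg.Geo.IsFieldSubalgebra 2 K)
    (hKf : Cfsg.Geo.IsSelfAdjointFor (QuadraticMap.polar (Cfsg.quadFormPlus d F)) K)
    (r : ℕ) [Fact r.Prime]
    (hΩ : r ∣ (Cfsg.Geo.subalgebraNormalizer K).relIndex (Cfsg.Geo.omegaGL (Cfsg.quadFormPlus d F))) :
    (∀ x ∈ Cfsg.Geo.omegaGL (Cfsg.quadFormPlus d F), (∃ z : F, ((x ^ r : GL (Fin d ⊕ Fin d) F) : Matrix (Fin d ⊕ Fin d) (Fin d ⊕ Fin d) F) = z • (1 : Matrix (Fin d ⊕ Fin d) (Fin d ⊕ Fin d) F)) →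
      (∀ z : F, (x : Matrix (Fin d ⊕ Fin d) (Fin d ⊕ Fin d) F) ≠ z • (1 : Matrix (Fin d ⊕ Fin d) (Fin d ⊕ Fin d) F)) →
      ∃ g ∈ Cfsg.Geo.omegaGL (Cfsg.quadFormPlus d F), g⁻¹ * x * g ∈ Cfsg.Geo.subalgebraNormalizer K) ↔ r = 2 := by
  subst hq
  have hcoe : ⇑(Cfsg.Agent.Lib.Helper5.plusForm d F) = Cfsg.quadFormPlus d F :=
    Cfsg.Agent.Lib.Helper5.coe_plusForm d
  rw [← hcoe] at hKf hΩ ⊢
  have hQ := Cfsg.Agent.Lib.Helper5.PlusGeom.plus_nondegenerate (F := F) d
  have hcard : Fintype.card (Fin d ⊕ Fin d) = 2 * d := by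
    rw [Fintype.card_sum, Fintype.card_fin]
    ring
  constructor
  · intro hall
    obtain ⟨i0, hi0⟩ : ∃ i0 : Fin d, i0 = ⟨0, by omega⟩ := ⟨_, rfl⟩
    obtain ⟨i1, hi1⟩ : ∃ i1 : Fin d, i1 = ⟨1, by omega⟩ := ⟨_, rfl⟩
    have h01 : i0 ≠ i1 := by
      rw [hi0, hi1]
      intro h
      have := congrArg Fin.val h
      simp at this
    refine Cfsg.Agent.Lib.Helper6.Ofx.necessity_ofx hodd (Cfsg.Agent.Lib.Helper5.plusForm d F) hQ d
      hcard (by omega) (Pi.single (Sum.inl i0) 1) (Pi.single (Sum.inl i1) 1)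
      (Pi.single (Sum.inr i0) 1) ?_ ?_ ?_ ?_ ?_ ?_ K hK hKf r hΩ hall
    · exact Cfsg.Agent.Lib.Helper5.PlusGeom.plus_single_inl d i0 1
    · exact Cfsg.Agent.Lib.Helper5.PlusGeom.plus_single_inl d i1 1
    · rw [Cfsg.Agent.Lib.Helper5.PlusGeom.polar_single_inl]
      rw [Pi.single_apply, if_neg (by simp)]
    · rw [Cfsg.Agent.Lib.Helper5.PlusGeom.polar_single_inr, Pi.single_eq_same]
    · rw [Cfsg.Agent.Lib.Helper5.PlusGeom.polar_single_inr]
      rw [Pi.single_apply, if_neg]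
      intro h
      exact h01 (Sum.inl.inj h)
    · intro h
      have h1 := congrFun h (Sum.inl i1)
      rw [Pi.single_eq_same] at h1
      exact one_ne_zero h1
  · rintro rfl x hx ⟨z, hz⟩ _
    exact Cfsg.Agent.Lib.Helper6.Ofx.sufficiency_ofx hodd (Cfsg.Agent.Lib.Helper5.plusForm d F) hQ d
      hcard (by omega) K hK hKf x hx z hz


end Cfsg.Agent.S5977
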