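import Cfsg.Statements.S5983
import Cfsg.Agent.Lib.Helper8.Sq5

set_option autoImplicit false
open scoped MatrixGroups
open Cfsg

namespace Cfsg.Agent.S5983

open Cfsg.Agent.Lib.Helper8.Sq Cfsg.Agent.Lib.Helper5.QuadSign

/-- Elements of prime order of PSp_n(q), q even, and the subgroups of orthogonal type. Here `T = Sp_{2d}(F)` for a field `F` of characteristic 2 with `q` elements (`d ≥ 2`, `(d, q) ≠ (2, 2)`), realised as the invertible matrices preserving the standard alternating form; `Q` is a non-degenerate quadratic form on `F^{2d}` whose polar form is that alternating form, and `H` is the subgroup of `T` preserving `Q` up to a scalar (equivalently preserving `Q`) — a subgroup of type O^±_{2d}(q) (maximality is not assumed); `Q` is of plus type when `F^{2d}` contains a `d`-dimensional subspace on which `Q` vanishes, of minus type otherwise. Ω is the set of cosets of `H` in `T`, so an element of `T` of prime order `r` (`x ∈ T` with `x^r` scalar, `x` not scalar) fixes a point of Ω exactly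 when some `T`-conjugate of `x` preserves `Q`. Let `r` be a prime dividing the index of `H`. Then every element of `T` of order `r` fixes a point of Ω if and only if `r = 2` and either `Q` is of plus type or `d` is odd. -/
theorem result {F : Type*} [Field F] [Fintype F] {p : ℕ} [Fact p.Prime] [CharP F p] {q : ℕ} (hq : Fintype.card F = q)
    (hp : p = 2) (d : ℕ) (hd : 2 ≤ d) (hT : (d, q) ≠ (2, 2)) (Q : (Fin d ⊕ Fin d → F) → F) (hQ : Cfsg.Geo.IsNondegenerateQuadraticForm Q)
    (hQf : ∀ u v, QuadraticMap.polar Q u v = Cfsg.sympForm d F u v)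
    (r : ℕ) [Fact r.Prime]
    (hΩ : r ∣ (Cfsg.Geo.quadSimilarityGroup Q).relIndex (Cfsg.spGL d F)) :
    (∀ x ∈ Cfsg.spGL d F, (∃ z : F, ((x ^ r : GL (Fin d ⊕ Fin d) F) : Matrix (Fin d ⊕ Fin d) (Fin d ⊕ Fin d) F) = z • (1 : Matrix (Fin d ⊕ Fin d) (Fin d ⊕ Fin d) F)) →
      (∀ z : F, (x : Matrix (Fin d ⊕ Fin d) (Fin d ⊕ Fin d) F) ≠ z • (1 : Matrix (Fin d ⊕ Fin d) (Fin d ⊕ Fin d) F)) →
      ∃ g ∈ Cfsg.spGL d F, g⁻¹ * x * g ∈ Cfsg.Geo.quadSimilarityGroup Q) ↔
    (r = 2 ∧ (Cfsg.Geo.IsPlusTypeOn Q ⊤ ∨ Odd d)) := by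
  have hsq : SQ Q := ⟨hQ, hQf⟩
  subst hp
  have h2 : (2 : F) = 0 := by
    have := CharP.cast_eq_zero F 2
    exact_mod_cast this
  have hd1 : 1 ≤ d := by omega
  constructor
  · intro hall
    have hr2 : r = 2 := by
      by_contra hne
      exact no_odd 2 rfl hsq hd1 r hne hΩ hall
    subst hr2
    refine ⟨rfl, ?_⟩
    by_contra hcon
    push Not at hcon
    obtain ⟨hnp, hnodd⟩ := hcon
    rcases hsq.exists_sign with hs | hs
    · exact hnp ((isPlusType_iff hsq).2 hs)
    · obtain ⟨k, rfl⟩ : Even d := Nat.not_odd_iff_even.1 hnodd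
      exact not_allConj_two h2 (by omega) hsq hs hall
  · rintro ⟨rfl, hplus⟩ x hx ⟨z, hz⟩ hns
    have hz1 := scalar_eq_one h2 hd1 (x ^ 2) ((Cfsg.spGL d F).pow_mem hx 2) z hz
    rw [hz1, one_smul] at hz
    have hx2 : x * x = 1 := by
      apply Units.ext
      rw [← pow_two]
      exact hz
    exact invol_conj h2 hsq (hplus.imp (isPlusType_iff hsq).1 id) x hx hx2

end Cfsg.Agent.S5983
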